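import Mathlib

set_option autoImplicit false
universe v u
open CategoryTheory CategoryTheory.Limits HomologicalComplex CochainComplex

namespace Groth.Agent.Lib.helper23.NQuasiIso

variable {C : Type u} [Category.{v} C] [Abelian C]

/-- in a short exact sequence of complexes with acyclic cokernel, the mono is a quasi-iso. -/
lemma quasiIso_f_of_acyclic_X₃ {S : ShortComplex (CochainComplex C ℤ)} (hS : S.ShortExact)
    (h : S.X₃.Acyclic) : QuasiIso S.f := by
  rw [quasiIso_iff]
  intro i
  rw [quasiIsoAt_iff_isIso_homologyMap]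
  have h3 : ∀ k, IsZero (S.X₃.homology k) := fun k => (h k).isZero_homology
  haveI : Epi (homologyMap S.f i) := (hS.homology_exact₂ i).epi_f ((h3 i).eq_of_tgt _ _)
  haveI : Mono (homologyMap S.f i) :=
    (hS.homology_exact₁ (i - 1) i (by simp)).mono_g ((h3 (i - 1)).eq_of_src _ _)
  exact isIso_of_mono_of_epi _

/-- in a short exact sequence of complexes with acyclic kernel, the epi is a quasi-iso. -/
lemma quasiIso_g_of_acyclic_X₁ {S : ShortComplex (CochainComplex C ℤ)} (hS : S.ShortExact)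
    (h : S.X₁.Acyclic) : QuasiIso S.g := by
  rw [quasiIso_iff]
  intro i
  rw [quasiIsoAt_iff_isIso_homologyMap]
  have h1 : ∀ k, IsZero (S.X₁.homology k) := fun k => (h k).isZero_homology
  haveI : Mono (homologyMap S.g i) := (hS.homology_exact₂ i).mono_g ((h1 i).eq_of_src _ _)
  haveI : Epi (homologyMap S.g i) :=
    (hS.homology_exact₃ i (i + 1) (by simp)).epi_f ((h1 (i + 1)).eq_of_tgt _ _)
  exact isIso_of_mono_of_epi _

/-- the projection `cone(𝟙 E) ⊞ F ⟶ F` is a homotopy equivalence. -/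
noncomputable def homotopyEquivBiprodSnd (E F : CochainComplex C ℤ) :
    HomotopyEquiv (mappingCone (𝟙 E) ⊞ F) F where
  hom := biprod.snd
  inv := biprod.inr
  homotopyHomInvId :=
    let h₀ : Homotopy (𝟙 (mappingCone (𝟙 E))) 0 :=
      mappingCone.liftHomotopy _ _ _ (mappingCone.snd _) 0 (by simp) (by simp)
    let h₁ := (h₀.compRight
      (biprod.inl : _ ⟶ mappingCone (𝟙 E) ⊞ F)).compLeft
        (biprod.fst : mappingCone (𝟙 E) ⊞ F ⟶ _)
    let h₂ := Homotopy.add h₁ (Homotopy.refl (biprod.snd ≫ biprod.inr))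
    (Homotopy.ofEq (by simp)).trans (h₂.symm.trans (Homotopy.ofEq (by simp)))
  homotopyInvHomId := Homotopy.ofEq (by simp)

/-- factorisation of an `n`-quasi-isomorphism as a degreewise mono, iso in degrees `≥ n`,
followed by a quasi-isomorphism. -/
theorem exists_factorization (n : ℤ) (E F : CochainComplex C ℤ) (u : E ⟶ F)
    (hiso : ∀ i : ℤ, n < i → IsIso (homologyMap u i)) (hepi : Epi (homologyMap u n)) :
    ∃ (E' : CochainComplex C ℤ) (v : E ⟶ E') (u' : E' ⟶ F), v ≫ u' = u ∧ QuasiIso u' ∧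
      (∀ i : ℤ, Mono (v.f i)) ∧ (∀ i : ℤ, n ≤ i → IsIso (v.f i)) := by
  let p : mappingCone (𝟙 E) ⊞ F ⟶ F := biprod.snd
  let j : E ⟶ mappingCone (𝟙 E) ⊞ F := biprod.lift (mappingCone.inr (𝟙 E)) u
  have hjp : j ≫ p = u := by simp [j, p]
  haveI hp : QuasiIso p := (homotopyEquivBiprodSnd E F).quasiIso_hom
  have hjf : ∀ i, Mono (j.f i) := fun i => mono_of_mono_fac
    (show j.f i ≫ (biprod.fst : mappingCone (𝟙 E) ⊞ F ⟶ _).f i ≫
      (mappingCone.snd (𝟙 E)).v i i (add_zero i) = 𝟙 _ by
        rw [← HomologicalComplex.comp_f_assoc]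
        simp [j])
  haveI : Mono j := HomologicalComplex.mono_of_mono_f j hjf
  let S₁ : ShortComplex (CochainComplex C ℤ) :=
    ShortComplex.mk j (cokernel.π j) (cokernel.condition j)
  haveI : Mono S₁.f := by dsimp [S₁]; infer_instance
  haveI : Epi S₁.g := by dsimp [S₁]; infer_instance
  have hS₁ : S₁.ShortExact :=
    { exact := ShortComplex.exact_of_g_is_cokernel _ (cokernelIsCokernel j) }
  have hj_eq : ∀ i, homologyMap j i ≫ homologyMap p i = homologyMap u i := fun i => by
    rw [← homologyMap_comp, hjp]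
  haveI hpi : ∀ i, IsIso (homologyMap p i) := fun i => by
    rw [← quasiIsoAt_iff_isIso_homologyMap]
    infer_instance
  have hj_eq' : ∀ i, homologyMap j i = homologyMap u i ≫ inv (homologyMap p i) := fun i => by
    rw [← hj_eq, Category.assoc, IsIso.hom_inv_id, Category.comp_id]
  have hj_epi : ∀ i, n ≤ i → Epi (homologyMap j i) := by
    intro i hi
    rw [hj_eq']
    rcases eq_or_lt_of_le hi with rfl | hi'
    · infer_instance
    · haveI := hiso i hi'
      infer_instance
  have hj_mono : ∀ i, n < i → Mono (homologyMap j i) := by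
    intro i hi
    rw [hj_eq']
    haveI := hiso i hi
    infer_instance
  have hM : ∀ i, n ≤ i → S₁.X₃.ExactAt i := fun i hi =>
    hS₁.exactAt_X₃ i (hj_epi i hi) (fun k hk => hj_mono k (by
      simp only [ComplexShape.up_Rel] at hk; omega))
  haveI : S₁.X₃.IsLE (n - 1) := (CochainComplex.isLE_iff _ _).2 (fun i hi => hM i (by omega))
  have hT := S₁.X₃.shortComplexTruncLE_shortExact (n - 1)
  have hN : (S₁.X₃.shortComplexTruncLE (n - 1)).X₃.Acyclic :=
    hT.acyclic_X₃ (by
      show QuasiIso (S₁.X₃.ιTruncLE (n - 1))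
      infer_instance)
  obtain ⟨q, hq⟩ : ∃ q : cokernel j ⟶ (S₁.X₃.shortComplexTruncLE (n - 1)).X₃,
      q = (S₁.X₃.shortComplexTruncLE (n - 1)).g := ⟨_, rfl⟩
  haveI : Epi q := by rw [hq]; exact hT.epi_g
  let g : mappingCone (𝟙 E) ⊞ F ⟶ (S₁.X₃.shortComplexTruncLE (n - 1)).X₃ :=
    cokernel.π j ≫ q
  haveI : Epi g := epi_comp _ _
  let S₂ : ShortComplex (CochainComplex C ℤ) := ShortComplex.mk (kernel.ι g) g (kernel.condition g)
  haveI : Mono S₂.f := by dsimp [S₂]; infer_instance
  haveI : Epi S₂.g := by dsimp [S₂]; infer_instance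
  have hS₂ : S₂.ShortExact :=
    { exact := ShortComplex.exact_of_f_is_kernel _ (kernelIsKernel g) }
  haveI hι' : QuasiIso (kernel.ι g) := quasiIso_f_of_acyclic_X₃ hS₂ hN
  have hjg : j ≫ g = 0 := by
    show j ≫ cokernel.π j ≫ _ = 0
    rw [← Category.assoc, cokernel.condition, zero_comp]
  let v : E ⟶ kernel g := kernel.lift g j hjg
  have hvι : v ≫ kernel.ι g = j := kernel.lift_ι _ _ _
  refine ⟨kernel g, v, kernel.ι g ≫ p, ?_, inferInstance, ?_, ?_⟩
  · rw [← Category.assoc, hvι, hjp]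
  · intro i
    haveI := hjf i
    exact mono_of_mono_fac (show v.f i ≫ (kernel.ι g).f i = j.f i by
      rw [← HomologicalComplex.comp_f, hvι])
  · intro i hi
    have hS₁i := hS₁.map_of_exact (HomologicalComplex.eval C (ComplexShape.up ℤ) i)
    have hTi := hT.map_of_exact (HomologicalComplex.eval C (ComplexShape.up ℤ) i)
    have hS₂i := hS₂.map_of_exact (HomologicalComplex.eval C (ComplexShape.up ℤ) i)
    haveI : Mono (q.f i) := by
      rw [hq]
      exact hTi.exact.mono_g ((CochainComplex.isZero_of_isStrictlyLE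
        (S₁.X₃.truncLE (n - 1)) (n - 1) i (by omega)).eq_of_src _ _)
    haveI : Mono ((kernel.ι g).f i) := hS₂i.mono_f
    haveI := hjf i
    have h0 : (kernel.ι g).f i ≫ (cokernel.π j).f i = 0 := by
      rw [← cancel_mono (q.f i), Category.assoc,
        zero_comp, ← HomologicalComplex.comp_f, ← HomologicalComplex.comp_f]
      show (kernel.ι g ≫ g).f i = 0
      rw [kernel.condition, HomologicalComplex.zero_f]
    obtain ⟨r, hr'⟩ : ∃ r : (kernel g).X i ⟶ E.X i, r ≫ j.f i = (kernel.ι g).f i :=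
      ⟨(KernelFork.IsLimit.lift' hS₁i.fIsKernel ((kernel.ι g).f i) h0).1,
        (KernelFork.IsLimit.lift' hS₁i.fIsKernel ((kernel.ι g).f i) h0).2⟩
    have hv : v.f i ≫ (kernel.ι g).f i = j.f i := by
      rw [← HomologicalComplex.comp_f, hvι]
    refine ⟨r, ?_, ?_⟩
    · rw [← cancel_mono (j.f i), Category.assoc, hr', hv, Category.id_comp]
    · rw [← cancel_mono ((kernel.ι g).f i), Category.assoc, hv, hr', Category.id_comp]

end Groth.Agent.Lib.helper23.NQuasiIso
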