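import Mathlib

/-!
# Right derived functors computed by a "fibrant replacement" (K-injective) section

Abstract setting: `L : C ⥤ D`, and for every `Y : D` an object `r Y : C` with `e Y : L (r Y) ≅ Y`
such that `L.map : (X ⟶ r Y) → (L X ⟶ L (r Y))` is bijective for all `X`.  Then every functor
`F : C ⥤ H` has a left Kan extension along `L` (namely `R ⋙ F`) and the unit is an isomorphism at
every object `X` such that `L.map : (X' ⟶ X) → (L X' ⟶ L X)` is bijective for all `X'`.
-/

set_option autoImplicit false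
universe v₁ v₂ v₃ u₁ u₂ u₃
open CategoryTheory

namespace Groth.Agent.Lib.helper23.RDerK

variable {C : Type u₁} {D : Type u₂} {H : Type u₃} [Category.{v₁} C] [Category.{v₂} D]
  [Category.{v₃} H] (L : C ⥤ D)
  (r : D → C) (e : ∀ Y : D, L.obj (r Y) ≅ Y)
  (hr : ∀ (X : C) (Y : D), Function.Bijective (fun f : X ⟶ r Y => L.map f))

/-- the lift of a morphism with target `L (r Y)`. -/
noncomputable def lift {X : C} {Y : D} (g : L.obj X ⟶ L.obj (r Y)) : X ⟶ r Y :=
  ((hr X Y).2 g).choose

lemma map_lift {X : C} {Y : D} (g : L.obj X ⟶ L.obj (r Y)) :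
    L.map (lift L r hr g) = g :=
  ((hr X Y).2 g).choose_spec

include hr in
lemma ext_of_map_eq {X : C} {Y : D} (f g : X ⟶ r Y) (h : L.map f = L.map g) : f = g :=
  (hr X Y).1 h

/-- the replacement functor. -/
noncomputable def R : D ⥤ C where
  obj Y := r Y
  map {Y Y'} f := lift L r hr ((e Y).hom ≫ f ≫ (e Y').inv)
  map_id Y := by
    apply ext_of_map_eq L r hr
    rw [map_lift]
    simp
  map_comp {Y Y' Y''} f g := by
    apply ext_of_map_eq L r hr
    rw [map_lift, Functor.map_comp, map_lift, map_lift]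
    simp

/-- the isomorphism `e`, retyped. -/
noncomputable def eR (Y : D) : L.obj ((R L r e hr).obj Y) ≅ Y := e Y

lemma map_R_map {Y Y' : D} (f : Y ⟶ Y') :
    L.map ((R L r e hr).map f) = (eR L r e hr Y).hom ≫ f ≫ (eR L r e hr Y').inv :=
  map_lift L r hr _

include hr in
lemma R_ext {X : C} {Y : D} (f g : X ⟶ (R L r e hr).obj Y) (h : L.map f = L.map g) : f = g :=
  (hr X Y).1 h

lemma exists_lift_R {X : C} {Y : D} (g : L.obj X ⟶ L.obj ((R L r e hr).obj Y)) :
    ∃ f : X ⟶ (R L r e hr).obj Y, L.map f = g :=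
  (hr X Y).2 g

/-- the unit `X ⟶ R (L X)`. -/
noncomputable def ρ (X : C) : X ⟶ (R L r e hr).obj (L.obj X) :=
  (exists_lift_R L r e hr (eR L r e hr (L.obj X)).inv).choose

lemma map_ρ (X : C) : L.map (ρ L r e hr X) = (eR L r e hr (L.obj X)).inv :=
  (exists_lift_R L r e hr (eR L r e hr (L.obj X)).inv).choose_spec

lemma ρ_naturality {X X' : C} (f : X ⟶ X') :
    f ≫ ρ L r e hr X' = ρ L r e hr X ≫ (R L r e hr).map (L.map f) := by
  apply R_ext L r e hr
  rw [Functor.map_comp, Functor.map_comp, map_ρ, map_ρ, map_R_map]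
  simp

lemma ρ_R (Y : D) :
    ρ L r e hr ((R L r e hr).obj Y) ≫ (R L r e hr).map (eR L r e hr Y).hom = 𝟙 _ := by
  apply R_ext L r e hr
  rw [Functor.map_comp, map_ρ, map_R_map]
  simp

variable (F : C ⥤ H)

/-- the unit of the Kan extension. -/
noncomputable def η : F ⟶ L ⋙ (R L r e hr ⋙ F) where
  app X := F.map (ρ L r e hr X)
  naturality X X' f := by
    show F.map f ≫ F.map _ = F.map _ ≫ F.map ((R L r e hr).map (L.map f))
    rw [← F.map_comp, ← F.map_comp, ρ_naturality]

/-- the descent morphism. -/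
noncomputable def desc (G : D ⥤ H) (β : F ⟶ L ⋙ G) : R L r e hr ⋙ F ⟶ G where
  app Y := β.app ((R L r e hr).obj Y) ≫ G.map (eR L r e hr Y).hom
  naturality Y Y' f := by
    have h1 := β.naturality ((R L r e hr).map f)
    simp only [Functor.comp_obj, Functor.comp_map] at h1 ⊢
    rw [reassoc_of% h1, Category.assoc, ← G.map_comp, ← G.map_comp, map_R_map]
    simp

lemma fac (G : D ⥤ H) (β : F ⟶ L ⋙ G) :
    η L r e hr F ≫ Functor.whiskerLeft L (desc L r e hr F G β) = β := by
  ext X
  have h1 := β.naturality (ρ L r e hr X)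
  simp only [Functor.comp_obj, Functor.comp_map] at h1
  simp only [NatTrans.comp_app, Functor.whiskerLeft_app, η, desc, Functor.comp_obj]
  rw [reassoc_of% h1, ← G.map_comp, map_ρ, Iso.inv_hom_id, G.map_id, Category.comp_id]

lemma uniq (G : D ⥤ H) (γ γ' : R L r e hr ⋙ F ⟶ G)
    (h : η L r e hr F ≫ Functor.whiskerLeft L γ = η L r e hr F ≫ Functor.whiskerLeft L γ') :
    γ = γ' := by
  ext Y
  have h1 := NatTrans.congr_app h ((R L r e hr).obj Y)
  simp only [NatTrans.comp_app, Functor.whiskerLeft_app, η, Functor.comp_obj] at h1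
  have key : ∀ δ : R L r e hr ⋙ F ⟶ G, δ.app Y =
      F.map (ρ L r e hr ((R L r e hr).obj Y)) ≫ δ.app (L.obj ((R L r e hr).obj Y)) ≫
        G.map (eR L r e hr Y).hom := by
    intro δ
    have hδ := δ.naturality (eR L r e hr Y).hom
    simp only [Functor.comp_obj, Functor.comp_map] at hδ
    rw [← hδ, ← Category.assoc, ← F.map_comp, ρ_R, F.map_id, Category.id_comp]
  rw [key γ, key γ', ← Category.assoc, h1, Category.assoc]

/-- `R ⋙ F` is a left Kan extension of `F` along `L`. -/
theorem isLeftKanExtension : (R L r e hr ⋙ F).IsLeftKanExtension (η L r e hr F) := by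
  refine ⟨⟨Limits.IsInitial.ofUniqueHom
    (fun G => StructuredArrow.homMk (desc L r e hr F G.right G.hom) (fac L r e hr F G.right G.hom))
    (fun G m => ?_)⟩⟩
  apply StructuredArrow.ext
  apply uniq L r e hr F
  have := StructuredArrow.w m
  exact this.trans (fac L r e hr F G.right G.hom).symm

include hr in
/-- the unit map `ρ` is an isomorphism at "fibrant" objects. -/
lemma isIso_ρ (X : C)
    (hX : ∀ X' : C, Function.Bijective (fun f : X' ⟶ X => L.map f)) : IsIso (ρ L r e hr X) := by
  obtain ⟨s, hs⟩ := (hX ((R L r e hr).obj (L.obj X))).2 (eR L r e hr (L.obj X)).hom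
  simp only at hs
  refine ⟨s, (hX X).1 ?_, R_ext L r e hr _ _ ?_⟩
  · show L.map (ρ L r e hr X ≫ s) = L.map (𝟙 X)
    rw [Functor.map_comp, map_ρ, hs, Iso.inv_hom_id, CategoryTheory.Functor.map_id]
  · rw [Functor.map_comp, map_ρ, hs, Iso.hom_inv_id, CategoryTheory.Functor.map_id]

include r e hr in
/-- any left Kan extension of `F` along `L` has an invertible unit at "fibrant" objects. -/
theorem isIso_unit_app (F' : D ⥤ H) (α : F ⟶ L ⋙ F') [F'.IsLeftKanExtension α] (X : C)
    (hX : ∀ X' : C, Function.Bijective (fun f : X' ⟶ X => L.map f)) : IsIso (α.app X) := by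
  haveI := isLeftKanExtension L r e hr F
  haveI := isIso_ρ L r e hr X hX
  let d := (R L r e hr ⋙ F).descOfIsLeftKanExtension (η L r e hr F) F' α
  haveI : IsIso d := (Functor.isLeftKanExtension_iff_isIso d (η L r e hr F) α
    ((R L r e hr ⋙ F).descOfIsLeftKanExtension_fac (η L r e hr F) F' α)).1 inferInstance
  have h : α.app X = (η L r e hr F).app X ≫ d.app (L.obj X) := by
    have := (R L r e hr ⋙ F).descOfIsLeftKanExtension_fac_app (η L r e hr F) F' α X
    exact this.symm
  rw [h]
  haveI : IsIso ((η L r e hr F).app X) := by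
    show IsIso (F.map (ρ L r e hr X))
    infer_instance
  infer_instance

end Groth.Agent.Lib.helper23.RDerK
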