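import Mathlib

set_option autoImplicit false
universe w v u
open CategoryTheory CategoryTheory.Limits

namespace Groth.Agent.Lib.helper23.PCohLib

variable {C : Type u} [Category.{v} C] [Abelian C]

/-- liftable ⇒ objects of `P` are projective. -/
lemma projective_of_lift (P : ObjectProperty C)
    (hlift : ∀ (E F : C) (u : E ⟶ F), Epi u → P F → IsSplitEpi u) (F : C) (hF : P F) :
    Projective F := by
  refine ⟨fun {A B} f p hp => ?_⟩
  haveI := hp
  haveI : Epi (pullback.snd p f) := inferInstance
  haveI := hlift _ _ (pullback.snd p f) inferInstance hF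
  refine ⟨section_ (pullback.snd p f) ≫ pullback.fst p f, ?_⟩
  rw [Category.assoc, pullback.condition, ← Category.assoc, IsSplitEpi.id, Category.id_comp]

/-- a complex which is zero in the derived category is acyclic. -/
lemma exactAt_of_isZero_Q [HasDerivedCategory.{w} C] (A : CochainComplex C ℤ)
    (h : IsZero (DerivedCategory.Q.obj A)) (i : ℤ) : A.ExactAt i := by
  rw [HomologicalComplex.exactAt_iff_isZero_homology]
  have h1 : IsZero ((DerivedCategory.homologyFunctor C i).obj (DerivedCategory.Q.obj A)) :=
    (DerivedCategory.homologyFunctor C i).map_isZero h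
  exact h1.of_iso ((DerivedCategory.homologyFunctorFactors C i).app A).symm

/-- the mapping cone of a morphism which becomes an isomorphism in `D(C)` is acyclic. -/
lemma exactAt_mappingCone [HasDerivedCategory.{w} C] {E F : CochainComplex C ℤ} (f : E ⟶ F)
    (hf : IsIso (DerivedCategory.Q.map f)) (i : ℤ) : (CochainComplex.mappingCone f).ExactAt i :=
  exactAt_of_isZero_Q _
    ((Pretriangulated.Triangle.isZero₃_iff_isIso₁ _
      (DerivedCategory.mappingCone_triangle_distinguished f)).2 hf) i

/-- one dévissage step: in an exact `X₁ ⟶ X₂ ⟶ X₃`, `ker f` lies in `P` as soon as `X₁` and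
`ker g` do. -/
lemma kernel_step (P : ObjectProperty C) [P.IsClosedUnderIsomorphisms]
    (hst : ∀ (E F : C) (u : E ⟶ F), Epi u → P E → P F → P (kernel u))
    (S : ShortComplex C) (hS : S.Exact) (h1 : P S.X₁) (h2 : P (kernel S.g)) :
    P (kernel S.f) := by
  haveI : Epi (kernel.lift S.g S.f S.zero) := S.exact_iff_epi_kernel_lift.1 hS
  have h3 := hst _ _ (kernel.lift S.g S.f S.zero) inferInstance h1 h2
  exact (P.prop_iff_of_iso ((kernelCompMono (kernel.lift S.g S.f S.zero) (kernel.ι S.g)).symm ≪≫
    kernelIsoOfEq (kernel.lift_ι _ _ _))).1 h3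

/-- descending dévissage on an acyclic complex: cocycles are in `P` in the range where the
terms are. -/
theorem kernel_d_mem (P : ObjectProperty C) [P.IsClosedUnderIsomorphisms] [P.ContainsZero]
    (hst : ∀ (E F : C) (u : E ⟶ F), Epi u → P E → P F → P (kernel u))
    (A : CochainComplex C ℤ) (hA : ∀ i, A.ExactAt i) (a b : ℤ)
    (hz : ∀ i, b < i → IsZero (A.X i)) (hP : ∀ i, a < i → P (A.X i)) :
    ∀ i, a < i → P (kernel (A.d i (i + 1))) := by
  have key : ∀ n : ℕ, ∀ i : ℤ, a < i → b + 1 ≤ i + n → P (kernel (A.d i (i + 1))) := by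
    intro n
    induction n with
    | zero =>
      intro i _ hi
      exact P.prop_of_isZero (IsZero.of_mono (kernel.ι _) (hz i (by omega)))
    | succ n ih =>
      intro i hai hi
      have h2 := ih (i + 1) (by omega) (by push_cast at hi; omega)
      exact kernel_step P hst (A.sc' i (i + 1) (i + 1 + 1))
        ((A.exactAt_iff' i (i + 1) (i + 1 + 1) (by simp) (by simp)).1 (hA (i + 1)))
        (hP i hai) h2
  intro i hi
  exact key (b + 1 - i).toNat i hi (by omega)

/-- a split epimorphism with kernel and target in `P` has source in `P`. -/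
lemma mem_of_isSplitEpi (P : ObjectProperty C) [P.IsClosedUnderIsomorphisms]
    (hsum : ∀ X Y : C, P X → P Y → P (X ⨯ Y)) {X Y : C} (u : X ⟶ Y) [IsSplitEpi u]
    (h1 : P (kernel u)) (h2 : P Y) : P X := by
  have hb := isBilimitBinaryBiconeOfIsSplitEpiOfKernel (kernelIsKernel u)
  have e : X ≅ kernel u ⊞ Y := biprod.uniqueUpToIso _ _ hb
  exact (P.prop_iff_of_iso (e ≪≫ biprod.isoProd _ _)).2 (hsum _ _ h1 h2)

/-- the second summand of a biproduct in `P` with first summand in `P` lies in `P`. -/
lemma mem_of_biprod (P : ObjectProperty C) [P.IsClosedUnderIsomorphisms]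
    (hst : ∀ (E F : C) (u : E ⟶ F), Epi u → P E → P F → P (kernel u)) {X Y : C}
    (h : P (X ⊞ Y)) (hX : P X) : P Y := by
  have h1 := hst _ _ (biprod.fst : X ⊞ Y ⟶ X) inferInstance h hX
  exact (P.prop_iff_of_iso (IsLimit.conePointUniqueUpToIso (biprod.isKernelFstKernelFork X Y)
    (kernelIsKernel _))).2 h1

end Groth.Agent.Lib.helper23.PCohLib
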