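import Mathlib
import Groth.Agent.Lib.Helper23.PCohLib

set_option autoImplicit false
universe w v u
open CategoryTheory CategoryTheory.Limits Pretriangulated

namespace Groth.Agent.Lib.helper23.PCohAmp

open Groth.Agent.Lib.helper23.PCohLib

variable {C : Type u} [Category.{v} C] [Abelian C] [HasDerivedCategory.{w} C]

/-- perfect amplitude in `[a, b]` relative to `P`. -/
def Amp (P : ObjectProperty C) (a b : ℤ) (X : DerivedCategory C) : Prop :=
  ∃ E : CochainComplex C ℤ, (∀ i : ℤ, P (E.X i)) ∧ (∀ i : ℤ, i < a ∨ b < i → IsZero (E.X i)) ∧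
    Nonempty (DerivedCategory.Q.obj E ≅ X)

variable {P : ObjectProperty C}

lemma Amp.of_iso {a b : ℤ} {X Y : DerivedCategory C} (h : Amp P a b X) (e : X ≅ Y) :
    Amp P a b Y := by
  obtain ⟨E, h1, h2, ⟨e'⟩⟩ := h
  exact ⟨E, h1, h2, ⟨e' ≪≫ e⟩⟩

lemma Amp.mono {a b a' b' : ℤ} {X : DerivedCategory C} (h : Amp P a b X) (ha : a' ≤ a)
    (hb : b ≤ b') : Amp P a' b' X := by
  obtain ⟨E, h1, h2, ⟨e'⟩⟩ := h
  refine ⟨E, h1, fun i hi => h2 i ?_, ⟨e'⟩⟩
  rcases hi with hi | hi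
  · exact Or.inl (by omega)
  · exact Or.inr (by omega)

lemma Amp.shift {a b : ℤ} {X : DerivedCategory C} (h : Amp P a b X) (n : ℤ) :
    Amp P (a - n) (b - n) (X⟦n⟧) := by
  obtain ⟨E, h1, h2, ⟨e'⟩⟩ := h
  refine ⟨E⟦n⟧, ?_, ?_, ⟨(DerivedCategory.Q.commShiftIso n).app E ≪≫
    (CategoryTheory.shiftFunctor (DerivedCategory C) n).mapIso e'⟩⟩
  · intro i
    exact h1 (i + n)
  · intro i hi
    show IsZero (E.X (i + n))
    refine h2 (i + n) ?_
    rcases hi with hi | hi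
    · exact Or.inl (by omega)
    · exact Or.inr (by omega)

/-- the cone of a morphism between objects of perfect amplitude. -/
theorem Amp.cone (hsum : ∀ X Y : C, P X → P Y → P (X ⨯ Y)) [P.IsClosedUnderIsomorphisms]
    (hproj : ∀ F : C, P F → Projective F)
    (T : Triangle (DerivedCategory C)) (hT : T ∈ distTriang _) {a₁ b₁ a₂ b₂ a b : ℤ}
    (h₁ : Amp P a₁ b₁ T.obj₁) (h₂ : Amp P a₂ b₂ T.obj₂)
    (ha₁ : a ≤ a₁ - 1) (ha₂ : a ≤ a₂) (hb₁ : b₁ - 1 ≤ b) (hb₂ : b₂ ≤ b) :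
    Amp P a b T.obj₃ := by
  obtain ⟨E₁, hP₁, hz₁, ⟨e₁⟩⟩ := h₁
  obtain ⟨E₂, hP₂, hz₂, ⟨e₂⟩⟩ := h₂
  haveI : E₁.IsStrictlyLE b₁ :=
    (CochainComplex.isStrictlyLE_iff _ _).2 (fun i hi => hz₁ i (Or.inr hi))
  haveI : ∀ n, Projective (E₁.X n) := fun n => hproj _ (hP₁ n)
  haveI : E₁.IsKProjective := CochainComplex.isKProjective_of_projective E₁ b₁
  obtain ⟨φ, hφ⟩ := (CochainComplex.IsKProjective.Qh_map_bijective E₁
    ((HomotopyCategory.quotient _ _).obj E₂)).2 (e₁.hom ≫ T.mor₁ ≫ e₂.inv)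
  obtain ⟨f, rfl⟩ := (HomotopyCategory.quotient _ _).map_surjective φ
  have hf : DerivedCategory.Q.map f = e₁.hom ≫ T.mor₁ ≫ e₂.inv := hφ
  have hT₂ := DerivedCategory.mappingCone_triangle_distinguished f
  have iso := Pretriangulated.isoTriangleOfIso₁₂ _ _ hT₂ hT e₁ e₂ (by
    show DerivedCategory.Q.map f ≫ e₂.hom = e₁.hom ≫ T.mor₁
    rw [hf, Category.assoc, Category.assoc, Iso.inv_hom_id, Category.comp_id])
  refine ⟨CochainComplex.mappingCone f, ?_, ?_, ⟨Pretriangulated.Triangle.π₃.mapIso iso⟩⟩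
  · intro i
    have e := HomologicalComplex.homotopyCofiber.XIsoBiprod f i (i + 1) (by simp)
    exact (P.prop_iff_of_iso (e ≪≫ biprod.isoProd _ _)).2 (hsum _ _ (hP₁ (i + 1)) (hP₂ i))
  · intro i hi
    refine HomologicalComplex.homotopyCofiber.isZero_X f i ?_ ?_
    · refine hz₂ i ?_
      rcases hi with hi | hi
      · exact Or.inl (by omega)
      · exact Or.inr (by omega)
    · intro j hj
      simp only [ComplexShape.up_Rel] at hj
      refine hz₁ j ?_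
      rcases hi with hi | hi
      · exact Or.inl (by omega)
      · exact Or.inr (by omega)

/-- direct sums. -/
theorem Amp.biprod (hsum : ∀ X Y : C, P X → P Y → P (X ⨯ Y)) [P.IsClosedUnderIsomorphisms]
    {a b : ℤ} {X Y : DerivedCategory C} [HasBinaryBiproduct X Y]
    (hX : Amp P a b X) (hY : Amp P a b Y) : Amp P a b (X ⊞ Y) := by
  obtain ⟨E₁, hP₁, hz₁, ⟨e₁⟩⟩ := hX
  obtain ⟨E₂, hP₂, hz₂, ⟨e₂⟩⟩ := hY
  haveI : PreservesBinaryBiproducts (DerivedCategory.Q (C := C)) :=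
    preservesBinaryBiproducts_of_preservesBiproducts _
  refine ⟨E₁ ⊞ E₂, ?_, ?_, ⟨DerivedCategory.Q.mapBiprod E₁ E₂ ≪≫ biprod.mapIso e₁ e₂⟩⟩
  · intro i
    exact (P.prop_iff_of_iso (HomologicalComplex.biprodXIso E₁ E₂ i ≪≫ biprod.isoProd _ _)).2
      (hsum _ _ (hP₁ i) (hP₂ i))
  · intro i hi
    refine IsZero.of_iso ?_ (HomologicalComplex.biprodXIso E₁ E₂ i)
    rw [biprod_isZero_iff]
    exact ⟨hz₁ i hi, hz₂ i hi⟩

end Groth.Agent.Lib.helper23.PCohAmp
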