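import Mathlib
import Groth.Agent.Lib.Helper23.PCohAmp

set_option autoImplicit false
universe w v u
open CategoryTheory CategoryTheory.Limits Pretriangulated

namespace Groth.Agent.Lib.helper23.PCohAmp

open Groth.Agent.Lib.helper23.PCohLib

variable {C : Type u} [Category.{v} C] [Abelian C] [HasDerivedCategory.{w} C]
variable {P : ObjectProperty C}

/-- top truncation: drop the top degree when the top cohomology vanishes. -/
theorem Amp.truncate [P.IsClosedUnderIsomorphisms] [P.ContainsZero]
    (hst : ∀ (E F : C) (u : E ⟶ F), Epi u → P E → P F → P (kernel u))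
    {a b : ℤ} {X : DerivedCategory C} (h : Amp P a (b + 1) X)
    (hX : IsZero ((DerivedCategory.homologyFunctor C (b + 1)).obj X)) : Amp P a b X := by
  obtain ⟨E, hP, hz, ⟨e⟩⟩ := h
  have hex : E.ExactAt (b + 1) := by
    rw [HomologicalComplex.exactAt_iff_isZero_homology]
    exact (hX.of_iso ((DerivedCategory.homologyFunctor C (b + 1)).mapIso e)).of_iso
      ((DerivedCategory.homologyFunctorFactors C (b + 1)).app E).symm
  haveI : E.IsLE b := by
    rw [CochainComplex.isLE_iff]
    intro i hi
    by_cases h1 : i = b + 1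
    · subst h1; exact hex
    · exact HomologicalComplex.ExactAt.of_isZero (hz i (Or.inr (by omega)))
  have hS : (E.sc' b (b + 1) (b + 1 + 1)).Exact :=
    (E.exactAt_iff' b (b + 1) (b + 1 + 1) (by simp) (by simp)).1 hex
  haveI : Epi (E.d b (b + 1)) :=
    ((E.sc' b (b + 1) (b + 1 + 1)).exact_iff_epi
      ((hz (b + 1 + 1) (Or.inr (by omega))).eq_of_tgt _ _)).1 hS
  have hk : P (kernel (E.d b (b + 1))) := hst _ _ _ inferInstance (hP b) (hP (b + 1))
  have hc : P (E.cycles b) :=
    (P.prop_iff_of_iso (IsLimit.conePointUniqueUpToIso (E.cyclesIsKernel b (b + 1) (by simp))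
      (kernelIsKernel _))).2 hk
  refine ⟨E.truncLE b, ?_, ?_, ⟨asIso (DerivedCategory.Q.map (E.ιTruncLE b)) ≪≫ e⟩⟩
  · intro i
    rcases lt_trichotomy i b with hi | rfl | hi
    · exact (P.prop_iff_of_iso (E.truncLEXIso b i hi)).2 (hP i)
    · exact (P.prop_iff_of_iso (E.truncLEXIsoCycles i)).2 hc
    · exact P.prop_of_isZero (CochainComplex.isZero_of_isStrictlyLE _ b i hi)
  · intro i hi
    rcases lt_trichotomy i b with hi' | rfl | hi'
    · exact (hz i (hi.elim Or.inl (fun h => absurd h (by omega)))).of_iso (E.truncLEXIso b i hi')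
    · have h0 : IsZero (E.X i) := hz i (hi.elim Or.inl (fun h => absurd h (lt_irrefl _)))
      exact (IsZero.of_mono (E.iCycles i) h0).of_iso (E.truncLEXIsoCycles i)
    · exact CochainComplex.isZero_of_isStrictlyLE _ b i hi'

/-- the inclusion of the top term induces an epimorphism on top cohomology. -/
theorem exists_fromSingle_epi (E : CochainComplex C ℤ) (b : ℤ) (hz : IsZero (E.X (b + 1))) :
    ∃ ι : (HomologicalComplex.single C (ComplexShape.up ℤ) b).obj (E.X b) ⟶ E,
      Epi ((DerivedCategory.homologyFunctor C b).map (DerivedCategory.Q.map ι)) := by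
  let S := (HomologicalComplex.single C (ComplexShape.up ℤ) b).obj (E.X b)
  let ι : S ⟶ E := HomologicalComplex.mkHomFromSingle (𝟙 (E.X b)) (fun k hk => by
    simp only [ComplexShape.up_Rel] at hk
    subst hk
    exact hz.eq_of_tgt _ _)
  refine ⟨ι, ?_⟩
  haveI : IsIso (ι.f b) := by
    dsimp [ι]
    rw [HomologicalComplex.mkHomFromSingle_f]
    infer_instance
  haveI : IsIso (S.iCycles b) := S.isIso_iCycles b (b + 1) (by simp) (by
    apply IsZero.eq_of_tgt
    exact HomologicalComplex.isZero_single_obj_X _ _ _ _ (by omega))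
  have h1 : HomologicalComplex.cyclesMap ι b ≫ E.iCycles b = S.iCycles b ≫ ι.f b :=
    HomologicalComplex.cyclesMap_i ι b
  haveI : Epi (HomologicalComplex.cyclesMap ι b ≫ E.iCycles b) := by rw [h1]; infer_instance
  haveI : Epi (E.iCycles b) := epi_of_epi (HomologicalComplex.cyclesMap ι b) (E.iCycles b)
  haveI : IsIso (E.iCycles b) := isIso_of_mono_of_epi _
  haveI : Epi (HomologicalComplex.cyclesMap ι b) := by
    have : HomologicalComplex.cyclesMap ι b = (S.iCycles b ≫ ι.f b) ≫ inv (E.iCycles b) := by
      rw [← h1, Category.assoc, IsIso.hom_inv_id, Category.comp_id]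
    rw [this]; infer_instance
  have h2 : S.homologyπ b ≫ HomologicalComplex.homologyMap ι b =
      HomologicalComplex.cyclesMap ι b ≫ E.homologyπ b :=
    HomologicalComplex.homologyπ_naturality ι b
  have h7 : Epi (HomologicalComplex.homologyMap ι b) := by
    haveI : Epi (S.homologyπ b ≫ HomologicalComplex.homologyMap ι b) := by
      rw [h2]; infer_instance
    exact epi_of_epi (S.homologyπ b) (HomologicalComplex.homologyMap ι b)
  have h3 := NatIso.naturality_2 (DerivedCategory.homologyFunctorFactors C b) ι
  have h4 : (DerivedCategory.homologyFunctor C b).map (DerivedCategory.Q.map ι) =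
      (DerivedCategory.homologyFunctorFactors C b).hom.app S ≫
        HomologicalComplex.homologyMap ι b ≫
          (DerivedCategory.homologyFunctorFactors C b).inv.app E := h3.symm
  rw [h4]
  haveI h5 : Epi ((DerivedCategory.homologyFunctorFactors C b).hom.app S) :=
    (inferInstance : IsIso ((DerivedCategory.homologyFunctorFactors C b).hom.app S)).epi_of_iso
  haveI h6 : Epi ((DerivedCategory.homologyFunctorFactors C b).inv.app E) :=
    (inferInstance : IsIso ((DerivedCategory.homologyFunctorFactors C b).inv.app E)).epi_of_iso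
  exact epi_comp' h5 (epi_comp' h7 h6)

end Groth.Agent.Lib.helper23.PCohAmp
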