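import Mathlib
import Groth.Agent.Lib.Helper23.PCohAmp2

set_option autoImplicit false
universe w v u
open CategoryTheory CategoryTheory.Limits Pretriangulated

namespace Groth.Agent.Lib.helper23.PCohAmp

open Groth.Agent.Lib.helper23.PCohLib

section SumTriangle

variable {D : Type*} [Category D] [HasZeroObject D] [HasShift D ℤ] [Preadditive D]
  [∀ n : ℤ, (shiftFunctor D n).Additive] [Pretriangulated D]

/-- product over `WalkingPair` as a binary biproduct -/
noncomputable def piPairIso (f : WalkingPair → D) : (∏ᶜ f) ≅ f .left ⊞ f .right :=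
  HasLimit.isoOfNatIso (diagramIsoPair (Discrete.functor f)) ≪≫ (biprod.isoProd _ _).symm

/-- direct sum of two distinguished triangles (objects only). -/
theorem exists_sum_triangle (T' T'' : Triangle D) (h' : T' ∈ distTriang D)
    (h'' : T'' ∈ distTriang D) :
    ∃ T : Triangle D, T ∈ distTriang D ∧ Nonempty (T.obj₁ ≅ T'.obj₁ ⊞ T''.obj₁) ∧
      Nonempty (T.obj₂ ≅ T'.obj₂ ⊞ T''.obj₂) ∧ Nonempty (T.obj₃ ≅ T'.obj₃ ⊞ T''.obj₃) := by
  let T : WalkingPair → Triangle D := fun j => WalkingPair.casesOn j T' T''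
  have hT : ∀ j, T j ∈ distTriang D := by
    intro j
    cases j
    · exact h'
    · exact h''
  refine ⟨productTriangle T, productTriangle_distinguished T hT, ⟨?_⟩, ⟨?_⟩, ⟨?_⟩⟩
  · exact piPairIso (fun j => (T j).obj₁)
  · exact piPairIso (fun j => (T j).obj₂)
  · exact piPairIso (fun j => (T j).obj₃)

end SumTriangle

variable {C : Type u} [Category.{v} C] [Abelian C] [HasDerivedCategory.{w} C]
variable {P : ObjectProperty C}

lemma isZero_obj_of_retract {D D' : Type*} [Category D] [Category D'] [HasZeroMorphisms D']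
    (G : D ⥤ D') {X Z : D} (i : X ⟶ Z) (r : Z ⟶ X) (h : i ≫ r = 𝟙 X) (hZ : IsZero (G.obj Z)) :
    IsZero (G.obj X) := by
  rw [IsZero.iff_id_eq_zero, ← G.map_id, ← h, G.map_comp, hZ.eq_of_tgt (G.map i) 0, zero_comp]

/-- base case: direct summands of an object of perfect amplitude in `[a, a]`. -/
theorem Amp.summand_base [P.IsClosedUnderIsomorphisms] [P.ContainsZero]
    (hdf : ∀ (E' E'' : C) [HasBinaryBiproduct E' E''], P (E' ⊞ E'') → P E' ∧ P E'')
    {a : ℤ} {F' F'' : DerivedCategory C} [HasBinaryBiproduct F' F'']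
    (h : Amp P a a (F' ⊞ F'')) : Amp P a a F' := by
  obtain ⟨E, hP, hz, ⟨e⟩⟩ := h
  have hH : ∀ i : ℤ, i ≠ a →
      IsZero ((DerivedCategory.homologyFunctor C i).obj (F' ⊞ F'')) := by
    intro i hi
    have h1 : IsZero (E.homology i) :=
      (HomologicalComplex.ExactAt.of_isZero (hz i (by omega))).isZero_homology
    exact (h1.of_iso ((DerivedCategory.homologyFunctorFactors C i).app E)).of_iso
      ((DerivedCategory.homologyFunctor C i).mapIso e.symm)
  have hH' : ∀ i : ℤ, i ≠ a → IsZero ((DerivedCategory.homologyFunctor C i).obj F') :=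
    fun i hi => isZero_obj_of_retract _ biprod.inl biprod.fst biprod.inl_fst (hH i hi)
  have hH'' : ∀ i : ℤ, i ≠ a → IsZero ((DerivedCategory.homologyFunctor C i).obj F'') :=
    fun i hi => isZero_obj_of_retract _ biprod.inr biprod.snd biprod.inr_snd (hH i hi)
  haveI : F'.IsGE a := (DerivedCategory.isGE_iff F' a).2 (fun i hi => hH' i (by omega))
  haveI : F'.IsLE a := (DerivedCategory.isLE_iff F' a).2 (fun i hi => hH' i (by omega))
  haveI : F''.IsGE a := (DerivedCategory.isGE_iff F'' a).2 (fun i hi => hH'' i (by omega))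
  haveI : F''.IsLE a := (DerivedCategory.isLE_iff F'' a).2 (fun i hi => hH'' i (by omega))
  obtain ⟨M', ⟨e'⟩⟩ := DerivedCategory.exists_iso_singleFunctor_obj_of_isGE_of_isLE F' a
  obtain ⟨M'', ⟨e''⟩⟩ := DerivedCategory.exists_iso_singleFunctor_obj_of_isGE_of_isLE F'' a
  haveI : E.IsStrictlyGE a :=
    (CochainComplex.isStrictlyGE_iff _ _).2 (fun i hi => hz i (Or.inl hi))
  haveI : E.IsStrictlyLE a :=
    (CochainComplex.isStrictlyLE_iff _ _).2 (fun i hi => hz i (Or.inr hi))
  obtain ⟨M, ⟨eM⟩⟩ := CochainComplex.exists_iso_single E a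
  have hM : P M := (P.prop_iff_of_iso ((HomologicalComplex.eval C _ a).mapIso eM ≪≫
    HomologicalComplex.singleObjXSelf (ComplexShape.up ℤ) a M)).1 (hP a)
  have i1 : (DerivedCategory.homologyFunctor C a).obj (F' ⊞ F'') ≅ M :=
    (DerivedCategory.homologyFunctor C a).mapIso (e.symm ≪≫ DerivedCategory.Q.mapIso eM ≪≫
      ((DerivedCategory.singleFunctorIsoCompQ C a).app M).symm) ≪≫
      (DerivedCategory.singleFunctorCompHomologyFunctorIso C a).app M
  haveI : PreservesBinaryBiproducts (DerivedCategory.homologyFunctor C a) :=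
    preservesBinaryBiproducts_of_preservesBiproducts _
  have i2 : (DerivedCategory.homologyFunctor C a).obj (F' ⊞ F'') ≅ M' ⊞ M'' :=
    (DerivedCategory.homologyFunctor C a).mapBiprod F' F'' ≪≫
      biprod.mapIso
        ((DerivedCategory.homologyFunctor C a).mapIso e' ≪≫
          (DerivedCategory.singleFunctorCompHomologyFunctorIso C a).app M')
        ((DerivedCategory.homologyFunctor C a).mapIso e'' ≪≫
          (DerivedCategory.singleFunctorCompHomologyFunctorIso C a).app M'')
  have hM' : P M' := (hdf M' M'' ((P.prop_iff_of_iso (i1.symm ≪≫ i2)).1 hM)).1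
  refine ⟨(HomologicalComplex.single C (ComplexShape.up ℤ) a).obj M', ?_, ?_,
    ⟨((DerivedCategory.singleFunctorIsoCompQ C a).app M').symm ≪≫ e'.symm⟩⟩
  · intro i
    by_cases hi : i = a
    · subst hi
      exact (P.prop_iff_of_iso (HomologicalComplex.singleObjXSelf (ComplexShape.up ℤ) i M')).2 hM'
    · exact P.prop_of_isZero (HomologicalComplex.isZero_single_obj_X _ _ _ _ hi)
  · intro i hi
    exact HomologicalComplex.isZero_single_obj_X (ComplexShape.up ℤ) a M' i (by omega)

/-- if `H^b(mor₂)` is epi and `H^{b+1}(obj₂) = 0` then `H^{b+1}(obj₁) = 0`. -/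
lemma exists_cocone_top_vanish {X₂ X₃ : DerivedCategory C} (s : X₂ ⟶ X₃) (b : ℤ)
    (hs : Epi ((DerivedCategory.homologyFunctor C b).map s))
    (h2 : IsZero ((DerivedCategory.homologyFunctor C (b + 1)).obj X₂)) :
    ∃ (X₁ : DerivedCategory C) (u : X₁ ⟶ X₂) (w : X₃ ⟶ X₁⟦(1 : ℤ)⟧),
      Triangle.mk u s w ∈ distTriang _ ∧
        IsZero ((DerivedCategory.homologyFunctor C (b + 1)).obj X₁) := by
  obtain ⟨X₁, u, w, hT⟩ := distinguished_cocone_triangle₁ s
  refine ⟨X₁, u, w, hT, ?_⟩
  have h3 := (DerivedCategory.HomologySequence.epi_homologyMap_mor₂_iff _ hT b (b + 1) rfl).1 hs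
  haveI : Mono ((DerivedCategory.homologyFunctor C (b + 1)).map u) :=
    (DerivedCategory.HomologySequence.mono_homologyMap_mor₁_iff _ hT b (b + 1) rfl).2 h3
  exact IsZero.of_mono ((DerivedCategory.homologyFunctor C (b + 1)).map u) h2

/-- direct summands of objects of perfect amplitude in `[a, b]`. -/
theorem Amp.summand [P.IsClosedUnderIsomorphisms] [P.ContainsZero]
    (hsum : ∀ X Y : C, P X → P Y → P (X ⨯ Y))
    (hlift : ∀ (E F : C) (u : E ⟶ F), Epi u → P F → IsSplitEpi u)
    (hst : ∀ (E F : C) (u : E ⟶ F), Epi u → P E → P F → P (kernel u))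
    (hdf : ∀ (E' E'' : C) [HasBinaryBiproduct E' E''], P (E' ⊞ E'') → P E' ∧ P E'') :
    ∀ (n : ℕ) (a b : ℤ), b = a + n → ∀ (F' F'' : DerivedCategory C),
      Amp P a b (F' ⊞ F'') → Amp P a b F' := by
  have hproj := projective_of_lift P hlift
  intro n
  induction n with
  | zero =>
    intro a b hb F' F'' h
    obtain rfl : b = a := by simpa using hb
    exact Amp.summand_base hdf h
  | succ n ih =>
    intro a b hb F' F'' h
    have hab : a < b := by push_cast at hb; omega
    obtain ⟨E, hP, hz, ⟨e⟩⟩ := h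
    obtain ⟨ι, hι⟩ := exists_fromSingle_epi E b (hz (b + 1) (Or.inr (by omega)))
    have hSamp : Amp P b b (DerivedCategory.Q.obj
        ((HomologicalComplex.single C (ComplexShape.up ℤ) b).obj (E.X b))) := by
      refine ⟨_, ?_, ?_, ⟨Iso.refl _⟩⟩
      · intro i
        by_cases hi : i = b
        · subst hi
          exact (P.prop_iff_of_iso
            (HomologicalComplex.singleObjXSelf (ComplexShape.up ℤ) i (E.X i))).2 (hP i)
        · exact P.prop_of_isZero (HomologicalComplex.isZero_single_obj_X _ _ _ _ hi)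
      · intro i hi
        exact HomologicalComplex.isZero_single_obj_X (ComplexShape.up ℤ) b _ i (by omega)
    have hHS : IsZero ((DerivedCategory.homologyFunctor C (b + 1)).obj (DerivedCategory.Q.obj
        ((HomologicalComplex.single C (ComplexShape.up ℤ) b).obj (E.X b)))) :=
      ((HomologicalComplex.ExactAt.of_isZero
        (HomologicalComplex.isZero_single_obj_X (ComplexShape.up ℤ) b _ (b + 1)
          (by omega))).isZero_homology).of_iso
        ((DerivedCategory.homologyFunctorFactors C (b + 1)).app _)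
    have hs' : Epi ((DerivedCategory.homologyFunctor C b).map
        (DerivedCategory.Q.map ι ≫ e.hom ≫ (biprod.fst : F' ⊞ F'' ⟶ F'))) := by
      rw [CategoryTheory.Functor.map_comp, CategoryTheory.Functor.map_comp]
      infer_instance
    have hs'' : Epi ((DerivedCategory.homologyFunctor C b).map
        (DerivedCategory.Q.map ι ≫ e.hom ≫ (biprod.snd : F' ⊞ F'' ⟶ F''))) := by
      rw [CategoryTheory.Functor.map_comp, CategoryTheory.Functor.map_comp]
      infer_instance
    obtain ⟨F1', u', w', hT', hz1'⟩ := exists_cocone_top_vanish _ b hs' hHS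
    obtain ⟨F1'', u'', w'', hT'', hz1''⟩ := exists_cocone_top_vanish _ b hs'' hHS
    obtain ⟨T, hT, ⟨i1⟩, ⟨i2⟩, ⟨i3⟩⟩ := exists_sum_triangle _ _ hT' hT''
    have h2 : Amp P b b T.obj₂ := (Amp.biprod hsum hSamp hSamp).of_iso i2.symm
    have h3 : Amp P a b T.obj₃ := Amp.of_iso ⟨E, hP, hz, ⟨e⟩⟩ i3.symm
    have h1s : Amp P a b (T.obj₁⟦(1 : ℤ)⟧) :=
      Amp.cone hsum hproj T.rotate (rot_of_distTriang _ hT) h2 h3
        (by omega) le_rfl (by omega) le_rfl
    have h1 : Amp P (a + 1) (b + 1) T.obj₁ :=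
      ((h1s.shift (-1)).of_iso ((shiftFunctorCompIsoId (DerivedCategory C) (1 : ℤ) (-1)
        (by simp)).app T.obj₁)).mono (by omega) (by omega)
    have h1' : Amp P (a + 1) (b + 1) (F1' ⊞ F1'') := h1.of_iso i1
    have hz1 : IsZero ((DerivedCategory.homologyFunctor C (b + 1)).obj (F1' ⊞ F1'')) := by
      rw [IsZero.iff_id_eq_zero, ← CategoryTheory.Functor.map_id, ← biprod.total,
        CategoryTheory.Functor.map_add, CategoryTheory.Functor.map_comp,
        CategoryTheory.Functor.map_comp,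
        hz1'.eq_of_tgt ((DerivedCategory.homologyFunctor C (b + 1)).map biprod.fst) 0,
        hz1''.eq_of_tgt ((DerivedCategory.homologyFunctor C (b + 1)).map biprod.snd) 0,
        zero_comp, zero_comp, add_zero]
    have h1'' : Amp P (a + 1) b (F1' ⊞ F1'') := Amp.truncate hst h1' hz1
    have hF1 : Amp P (a + 1) b F1' :=
      ih (a + 1) b (by push_cast at hb ⊢; omega) F1' F1'' h1''
    exact Amp.cone hsum hproj _ hT' hF1 hSamp (by omega) (by omega) (by omega) le_rfl

/-- transport along any bilimit bicone to the canonical biproduct. -/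
lemma Amp.of_bilimit {a b : ℤ} {F' F'' : DerivedCategory C} (c : BinaryBicone F' F'')
    (hc : c.IsBilimit) (h : Amp P a b c.pt) : Amp P a b (F' ⊞ F'') :=
  h.of_iso (biprod.uniqueUpToIso F' F'' hc)

theorem Amp.summand_both [P.IsClosedUnderIsomorphisms] [P.ContainsZero]
    (hsum : ∀ X Y : C, P X → P Y → P (X ⨯ Y))
    (hlift : ∀ (E F : C) (u : E ⟶ F), Epi u → P F → IsSplitEpi u)
    (hst : ∀ (E F : C) (u : E ⟶ F), Epi u → P E → P F → P (kernel u))
    (hdf : ∀ (E' E'' : C) [HasBinaryBiproduct E' E''], P (E' ⊞ E'') → P E' ∧ P E'')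
    {a b : ℤ} (hab : a ≤ b) {F' F'' : DerivedCategory C} (h : Amp P a b (F' ⊞ F'')) :
    Amp P a b F' ∧ Amp P a b F'' := by
  have hn : b = a + ((b - a).toNat : ℤ) := by
    rw [Int.toNat_of_nonneg (by omega)]; omega
  exact ⟨Amp.summand hsum hlift hst hdf _ a b hn F' F'' h,
    Amp.summand hsum hlift hst hdf _ a b hn F'' F' (h.of_iso (biprod.braiding F' F''))⟩

end Groth.Agent.Lib.helper23.PCohAmp
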