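import Mathlib
import Groth.Agent.Lib.Helper23.NQuasiIso

set_option autoImplicit false
universe v u
open CategoryTheory CategoryTheory.Limits HomologicalComplex CochainComplex

namespace Groth.Agent.Lib.helper23.NQuasiIso

section General

variable {A : Type u} [Category.{v} A] [Abelian A]

/-- pulling back an extension `0 → X₁ → X₂ → X₃ → 0` along `ζ : Z ⟶ X₃`: with
`g = (π, -ζ) : X₂ ⊞ Z ⟶ X₃`, the sequence `0 → X₁ → ker g → Z → 0` is short exact. -/
lemma shortExact_pullback_extension {S : ShortComplex A} (hS : S.ShortExact) {Z : A}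
    (ζ : Z ⟶ S.X₃) (v : S.X₁ ⟶ kernel (biprod.desc S.g (-ζ)))
    (hv : v ≫ kernel.ι (biprod.desc S.g (-ζ)) = S.f ≫ biprod.inl) :
    (ShortComplex.mk v (kernel.ι (biprod.desc S.g (-ζ)) ≫ biprod.snd) (by
      rw [← Category.assoc, hv, Category.assoc, biprod.inl_snd, comp_zero])).ShortExact := by
  haveI := hS.mono_f
  haveI := hS.epi_g
  haveI : Mono v := mono_of_mono_fac hv
  have hepi : Epi (kernel.ι (biprod.desc S.g (-ζ)) ≫ biprod.snd) := by
    rw [epi_iff_surjective_up_to_refinements]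
    intro T s
    obtain ⟨T', π₁, hπ₁, c, hc⟩ := surjective_up_to_refinements_of_epi S.g (s ≫ ζ)
    refine ⟨T', π₁, hπ₁, kernel.lift _ (biprod.lift c (π₁ ≫ s)) ?_, ?_⟩
    · rw [biprod.lift_desc, Preadditive.comp_neg, ← hc, Category.assoc, add_neg_cancel]
    · rw [← Category.assoc, kernel.lift_ι, biprod.lift_snd]
  refine { exact := ?_, mono_f := ‹_›, epi_g := hepi }
  rw [ShortComplex.exact_iff_exact_up_to_refinements]
  intro T x₂ hx₂
  dsimp at x₂ hx₂
  have h1 : (x₂ ≫ kernel.ι (biprod.desc S.g (-ζ)) ≫ biprod.fst) ≫ S.g = 0 := by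
    have h2 : (biprod.fst : S.X₂ ⊞ Z ⟶ _) ≫ S.g =
        biprod.desc S.g (-ζ) + biprod.snd ≫ ζ := by
      ext <;> simp
    rw [Category.assoc, Category.assoc, h2, Preadditive.comp_add, Preadditive.comp_add,
      kernel.condition, comp_zero, zero_add, ← Category.assoc, ← Category.assoc,
      Category.assoc x₂, hx₂, zero_comp]
  obtain ⟨T', π₁, hπ₁, x₁, hx₁⟩ := hS.exact.exact_up_to_refinements _ h1
  have key : π₁ ≫ x₂ = x₁ ≫ v := by
    rw [← cancel_mono (kernel.ι (biprod.desc S.g (-ζ)))]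
    apply biprod.hom_ext
    · have h3 : v ≫ kernel.ι (biprod.desc S.g (-ζ)) ≫ biprod.fst = S.f := by
        rw [← Category.assoc, hv, Category.assoc, biprod.inl_fst, Category.comp_id]
      simp only [Category.assoc] at hx₁ ⊢
      rw [hx₁, h3]
    · have h3 : v ≫ kernel.ι (biprod.desc S.g (-ζ)) ≫ biprod.snd = 0 := by
        rw [← Category.assoc, hv, Category.assoc, biprod.inl_snd, comp_zero]
      have h4 : (π₁ ≫ x₂ ≫ kernel.ι (biprod.desc S.g (-ζ))) ≫ biprod.snd = 0 := by
        rw [Category.assoc, Category.assoc, hx₂, comp_zero]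
      have h5 : (x₁ ≫ v ≫ kernel.ι (biprod.desc S.g (-ζ))) ≫ biprod.snd = 0 := by
        rw [Category.assoc, Category.assoc, h3, comp_zero]
      simp only [Category.assoc] at h4 h5 ⊢
      rw [h4, h5]
  exact ⟨T', π₁, hπ₁, x₁, key⟩

end General

section Complexes

variable {C : Type u} [Category.{v} C] [Abelian C]

/-- a map `z : L ⟶ Z^n(M)` which is epi onto `H^n(M)` gives a chain map from the single complex
inducing an epimorphism on `H^n`. -/
lemma exists_single_hom_epi (M : CochainComplex C ℤ) (n : ℤ) (L : C) (z : L ⟶ M.cycles n)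
    (hz : Epi (z ≫ M.homologyπ n)) :
    ∃ ζ : (HomologicalComplex.single C (ComplexShape.up ℤ) n).obj L ⟶ M,
      Epi (homologyMap ζ n) := by
  let S := (HomologicalComplex.single C (ComplexShape.up ℤ) n).obj L
  let ζ : S ⟶ M := HomologicalComplex.mkHomFromSingle (z ≫ M.iCycles n) (fun k hk => by
    rw [Category.assoc, HomologicalComplex.iCycles_d, comp_zero])
  refine ⟨ζ, ?_⟩
  haveI : IsIso (S.iCycles n) := S.isIso_iCycles n (n + 1) (by simp) (by
    apply IsZero.eq_of_tgt
    exact HomologicalComplex.isZero_single_obj_X _ _ _ _ (by omega))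
  have h1 : HomologicalComplex.cyclesMap ζ n =
      (S.iCycles n ≫ (HomologicalComplex.singleObjXSelf (ComplexShape.up ℤ) n L).hom) ≫ z := by
    rw [← cancel_mono (M.iCycles n), HomologicalComplex.cyclesMap_i]
    dsimp [ζ]
    rw [HomologicalComplex.mkHomFromSingle_f]
    simp only [Category.assoc]
  have h2 : S.homologyπ n ≫ HomologicalComplex.homologyMap ζ n =
      HomologicalComplex.cyclesMap ζ n ≫ M.homologyπ n :=
    HomologicalComplex.homologyπ_naturality ζ n
  haveI : Epi (S.homologyπ n ≫ HomologicalComplex.homologyMap ζ n) := by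
    rw [h2, h1, Category.assoc]
    haveI := hz
    exact epi_comp _ _
  exact epi_of_epi (S.homologyπ n) (HomologicalComplex.homologyMap ζ n)

/-- `H^i(fst : X ⊞ Z ⟶ X)` is an isomorphism when `H^i(Z) = 0`. -/
lemma isIso_homologyMap_biprod_fst (X Z : CochainComplex C ℤ) (i : ℤ)
    (hZ : IsZero (Z.homology i)) : IsIso (homologyMap (biprod.fst : X ⊞ Z ⟶ X) i) := by
  refine ⟨homologyMap (biprod.inl : X ⟶ X ⊞ Z) i, ?_, ?_⟩
  · have h : 𝟙 (X ⊞ Z) = biprod.fst ≫ biprod.inl + biprod.snd ≫ biprod.inr := biprod.total.symm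
    have h2 : homologyMap (biprod.snd ≫ biprod.inr : X ⊞ Z ⟶ X ⊞ Z) i = 0 := by
      rw [homologyMap_comp]
      rw [hZ.eq_of_tgt (homologyMap (biprod.snd : X ⊞ Z ⟶ Z) i) 0, zero_comp]
    rw [← homologyMap_comp, ← homologyMap_id, h, homologyMap_add, h2, add_zero]
  · rw [← homologyMap_comp, biprod.inl_fst, homologyMap_id]

/-- the homology computation for the pulled-back extension. -/
lemma homologyMap_kernel_fst {X Z M : CochainComplex C ℤ} (π : X ⟶ M) [Epi π] (ζ : Z ⟶ M)
    (n : ℤ) (hM : ∀ i : ℤ, n < i → IsZero (M.homology i))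
    (hζ : Epi (homologyMap ζ n)) (hZ : ∀ i : ℤ, i ≠ n → IsZero (Z.homology i)) :
    (∀ i : ℤ, n < i →
      IsIso (homologyMap (kernel.ι (biprod.desc π (-ζ)) ≫ biprod.fst) i)) ∧
      Epi (homologyMap (kernel.ι (biprod.desc π (-ζ)) ≫ biprod.fst) n) := by
  set g : X ⊞ Z ⟶ M := biprod.desc π (-ζ) with hg
  haveI : Epi g := epi_of_epi_fac (show biprod.inl ≫ g = π by simp [g])
  let S₂ : ShortComplex (CochainComplex C ℤ) := ShortComplex.mk (kernel.ι g) g (kernel.condition g)
  haveI : Mono S₂.f := by dsimp [S₂]; infer_instance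
  haveI : Epi S₂.g := by dsimp [S₂]; infer_instance
  have hS₂ : S₂.ShortExact :=
    { exact := ShortComplex.exact_of_f_is_kernel _ (kernelIsKernel g) }
  have hgn : Epi (homologyMap g n) := by
    have h : homologyMap (biprod.inr : Z ⟶ X ⊞ Z) n ≫ homologyMap g n = -homologyMap ζ n := by
      rw [← homologyMap_comp, ← homologyMap_neg]
      congr 1
      simp [g]
    haveI : Epi (-homologyMap ζ n) := by
      have : -homologyMap ζ n = homologyMap ζ n ≫ (-𝟙 _) := by simp
      rw [this]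
      haveI : IsIso (-𝟙 (M.homology n)) := ⟨-𝟙 _, by simp, by simp⟩
      exact epi_comp _ _
    haveI : Epi (homologyMap (biprod.inr : Z ⟶ X ⊞ Z) n ≫ homologyMap g n) := by
      rw [h]; infer_instance
    exact epi_of_epi (homologyMap (biprod.inr : Z ⟶ X ⊞ Z) n) (homologyMap g n)
  constructor
  · intro i hi
    have hδ : hS₂.δ (i - 1) i (by simp) = 0 := by
      rcases eq_or_lt_of_le (show n ≤ i - 1 by omega) with h | h
      · obtain rfl : n = i - 1 := h
        haveI : Epi (homologyMap S₂.g (i - 1)) := hgn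
        rw [← cancel_epi (homologyMap S₂.g (i - 1)), comp_zero]
        exact hS₂.comp_δ (i - 1) i (by simp)
      · exact (hM (i - 1) h).eq_of_src _ _
    haveI : Mono (homologyMap (kernel.ι g) i) :=
      (hS₂.homology_exact₁ (i - 1) i (by simp)).mono_g hδ
    haveI : Epi (homologyMap (kernel.ι g) i) :=
      (hS₂.homology_exact₂ i).epi_f ((hM i hi).eq_of_tgt _ _)
    haveI : IsIso (homologyMap (kernel.ι g) i) := isIso_of_mono_of_epi _
    haveI := isIso_homologyMap_biprod_fst X Z i (hZ i (by omega))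
    rw [homologyMap_comp]
    infer_instance
  · rw [homologyMap_comp, epi_iff_surjective_up_to_refinements]
    intro T c
    obtain ⟨T₁, π₁, hπ₁, l, hl⟩ :=
      surjective_up_to_refinements_of_epi (homologyMap ζ n) (c ≫ homologyMap π n)
    let y : T₁ ⟶ (X ⊞ Z).homology n :=
      π₁ ≫ c ≫ homologyMap (biprod.inl : X ⟶ X ⊞ Z) n +
        l ≫ homologyMap (biprod.inr : Z ⟶ X ⊞ Z) n
    have hy : y ≫ homologyMap g n = 0 := by
      dsimp [y]
      rw [Preadditive.add_comp, Category.assoc, Category.assoc, Category.assoc,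
        ← homologyMap_comp, ← homologyMap_comp]
      have e1 : (biprod.inl : X ⟶ X ⊞ Z) ≫ g = π := by simp [g]
      have e2 : (biprod.inr : Z ⟶ X ⊞ Z) ≫ g = -ζ := by simp [g]
      rw [e1, e2, homologyMap_neg, Preadditive.comp_neg, ← hl, add_neg_cancel]
    obtain ⟨T₂, π₂, hπ₂, e, he⟩ := (hS₂.homology_exact₂ n).exact_up_to_refinements y hy
    refine ⟨T₂, π₂ ≫ π₁, epi_comp _ _, e, ?_⟩
    dsimp at he
    rw [← Category.assoc e, ← he]
    dsimp [y]
    simp only [Category.assoc, Preadditive.add_comp, Preadditive.comp_add,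
      ← homologyMap_comp, biprod.inl_fst, biprod.inr_fst,
      homologyMap_id, homologyMap_zero, comp_zero, add_zero, Category.comp_id]

/-- the cokernel of a degreewise mono `j` has the homology of the cone of `j ≫ p`, for `p` a
quasi-isomorphism. -/
lemma nonempty_homology_iso_mappingCone {S : ShortComplex (CochainComplex C ℤ)}
    (hS : S.ShortExact) {F : CochainComplex C ℤ} (p : S.X₂ ⟶ F) [QuasiIso p] (n : ℤ) :
    Nonempty (S.X₃.homology n ≅ (mappingCone (S.f ≫ p)).homology n) := by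
  let _ : HasDerivedCategory C := HasDerivedCategory.standard C
  have h₁ := DerivedCategory.triangleOfSES_distinguished hS
  have h₂ := DerivedCategory.mappingCone_triangle_distinguished (S.f ≫ p)
  haveI : IsIso (DerivedCategory.Q.map p) :=
    (DerivedCategory.isIso_Q_map_iff_quasiIso _ p).2 inferInstance
  let e₂ : DerivedCategory.Q.obj S.X₂ ≅ DerivedCategory.Q.obj F :=
    asIso (DerivedCategory.Q.map p)
  let e := Pretriangulated.isoTriangleOfIso₁₂ _ _ h₁ h₂ (Iso.refl _) e₂ (by
      show DerivedCategory.Q.map S.f ≫ DerivedCategory.Q.map p =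
        𝟙 _ ≫ DerivedCategory.Q.map (S.f ≫ p)
      rw [Category.id_comp, CategoryTheory.Functor.map_comp])
  let e₃ : DerivedCategory.Q.obj S.X₃ ≅ DerivedCategory.Q.obj (mappingCone (S.f ≫ p)) :=
    Pretriangulated.Triangle.π₃.mapIso e
  exact ⟨((DerivedCategory.homologyFunctorFactors C n).app S.X₃).symm ≪≫
    (DerivedCategory.homologyFunctor C n).mapIso e₃ ≪≫
    (DerivedCategory.homologyFunctorFactors C n).app _⟩

/-- modification of an `(n+1)`-quasi-isomorphism in degree `n` into an `n`-quasi-isomorphism. -/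
theorem exists_modification (P : ObjectProperty C) [P.IsClosedUnderIsomorphisms]
    (hql : ∀ (E F : C) (u : E ⟶ F), Epi u → P F → ∃ (F' : C) (v : F' ⟶ E), P F' ∧ Epi (v ≫ u))
    (n : ℤ) (E F : CochainComplex C ℤ) (u : E ⟶ F)
    (hiso : ∀ i : ℤ, n + 1 < i → IsIso (homologyMap u i))
    (hepi : Epi (homologyMap u (n + 1)))
    (hcone : ∃ (L₀ : C) (π₀ : L₀ ⟶ (mappingCone u).homology n), P L₀ ∧ Epi π₀) :
    ∃ (E' : CochainComplex C ℤ) (v : E ⟶ E') (u' : E' ⟶ F), v ≫ u' = u ∧
      (∀ i : ℤ, Mono (v.f i)) ∧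
      (∀ i : ℤ, i ≠ n → IsIso (v.f i)) ∧ P (cokernel (v.f n)) ∧
      (∀ i : ℤ, n < i → IsIso (homologyMap u' i)) ∧ Epi (homologyMap u' n) := by
  let p : mappingCone (𝟙 E) ⊞ F ⟶ F := biprod.snd
  let j : E ⟶ mappingCone (𝟙 E) ⊞ F := biprod.lift (mappingCone.inr (𝟙 E)) u
  have hjp : j ≫ p = u := by simp [j, p]
  haveI hp : QuasiIso p := (homotopyEquivBiprodSnd E F).quasiIso_hom
  have hjf : ∀ i, Mono (j.f i) := fun i => mono_of_mono_fac
    (show j.f i ≫ (biprod.fst : mappingCone (𝟙 E) ⊞ F ⟶ _).f i ≫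
      (mappingCone.snd (𝟙 E)).v i i (add_zero i) = 𝟙 _ by
        rw [← HomologicalComplex.comp_f_assoc]
        simp [j])
  haveI : Mono j := HomologicalComplex.mono_of_mono_f j hjf
  let S₁ : ShortComplex (CochainComplex C ℤ) :=
    ShortComplex.mk j (cokernel.π j) (cokernel.condition j)
  haveI : Mono S₁.f := by dsimp [S₁]; infer_instance
  haveI : Epi S₁.g := by dsimp [S₁]; infer_instance
  have hS₁ : S₁.ShortExact :=
    { exact := ShortComplex.exact_of_g_is_cokernel _ (cokernelIsCokernel j) }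
  have hj_eq : ∀ i, homologyMap j i ≫ homologyMap p i = homologyMap u i := fun i => by
    rw [← homologyMap_comp, hjp]
  haveI hpi : ∀ i, IsIso (homologyMap p i) := fun i => by
    rw [← quasiIsoAt_iff_isIso_homologyMap]
    infer_instance
  have hj_eq' : ∀ i, homologyMap j i = homologyMap u i ≫ inv (homologyMap p i) := fun i => by
    rw [← hj_eq, Category.assoc, IsIso.hom_inv_id, Category.comp_id]
  have hj_epi : ∀ i, n + 1 ≤ i → Epi (homologyMap j i) := by
    intro i hi
    rw [hj_eq']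
    rcases eq_or_lt_of_le hi with rfl | hi'
    · infer_instance
    · haveI := hiso i hi'
      infer_instance
  have hj_mono : ∀ i, n + 1 < i → Mono (homologyMap j i) := by
    intro i hi
    rw [hj_eq']
    haveI := hiso i hi
    infer_instance
  have hM : ∀ i, n + 1 ≤ i → S₁.X₃.ExactAt i := fun i hi =>
    hS₁.exactAt_X₃ i (hj_epi i hi) (fun k hk => hj_mono k (by
      simp only [ComplexShape.up_Rel] at hk; omega))
  obtain ⟨eH⟩ : Nonempty (S₁.X₃.homology n ≅ (mappingCone u).homology n) := by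
    have := nonempty_homology_iso_mappingCone hS₁ p n
    rwa [show S₁.f ≫ p = u from hjp] at this
  obtain ⟨L₀, π₀, hL₀, hπ₀⟩ := hcone
  haveI := hπ₀
  obtain ⟨π₀', hπ₀'⟩ : ∃ π₀' : L₀ ⟶ S₁.X₃.homology n, π₀' = π₀ ≫ eH.inv := ⟨_, rfl⟩
  haveI : Epi π₀' := by rw [hπ₀']; infer_instance
  obtain ⟨L, w, hL, hw⟩ := hql _ _ (pullback.fst π₀' (S₁.X₃.homologyπ n)) inferInstance hL₀
  have hz : Epi ((w ≫ pullback.snd π₀' (S₁.X₃.homologyπ n)) ≫ S₁.X₃.homologyπ n) := by
    rw [Category.assoc, ← pullback.condition, ← Category.assoc]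
    exact epi_comp _ _
  obtain ⟨ζ, hζ⟩ := exists_single_hom_epi S₁.X₃ n L _ hz
  have hS₀ : ∀ i : ℤ, i ≠ n →
      IsZero (((HomologicalComplex.single C (ComplexShape.up ℤ) n).obj L).homology i) :=
    fun i hi => (HomologicalComplex.exactAt_single_obj _ _ _ _ hi).isZero_homology
  have hvc : (j ≫ biprod.inl) ≫ biprod.desc S₁.g (-ζ) = 0 := by
    rw [Category.assoc, biprod.inl_desc]
    exact cokernel.condition j
  let v : E ⟶ kernel (biprod.desc S₁.g (-ζ)) := kernel.lift _ (j ≫ biprod.inl) hvc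
  have hvι : v ≫ kernel.ι (biprod.desc S₁.g (-ζ)) = S₁.f ≫ biprod.inl := kernel.lift_ι _ _ _
  have hS₃ := shortExact_pullback_extension hS₁ ζ v hvι
  obtain ⟨h5, h6⟩ := homologyMap_kernel_fst S₁.g ζ n
    (fun i hi => (hM i (by omega)).isZero_homology) hζ hS₀
  refine ⟨kernel (biprod.desc S₁.g (-ζ)), v,
    (kernel.ι (biprod.desc S₁.g (-ζ)) ≫ biprod.fst) ≫ p, ?_, ?_, ?_, ?_, ?_, ?_⟩
  · rw [← Category.assoc, ← Category.assoc, hvι, Category.assoc S₁.f, biprod.inl_fst,
      Category.comp_id]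
    exact hjp
  · intro i
    exact (hS₃.map_of_exact (HomologicalComplex.eval C (ComplexShape.up ℤ) i)).mono_f
  · intro i hi
    have hS₃i := hS₃.map_of_exact (HomologicalComplex.eval C (ComplexShape.up ℤ) i)
    haveI : Mono (v.f i) := hS₃i.mono_f
    haveI : Epi (v.f i) := hS₃i.exact.epi_f
      ((HomologicalComplex.isZero_single_obj_X (ComplexShape.up ℤ) n L i hi).eq_of_tgt _ _)
    exact isIso_of_mono_of_epi _
  · have hS₃n := hS₃.map_of_exact (HomologicalComplex.eval C (ComplexShape.up ℤ) n)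
    let e₁ : cokernel (v.f n) ≅
        ((HomologicalComplex.single C (ComplexShape.up ℤ) n).obj L).X n :=
      IsColimit.coconePointUniqueUpToIso (colimit.isColimit _) hS₃n.gIsCokernel
    exact P.prop_of_iso
      (e₁ ≪≫ HomologicalComplex.singleObjXSelf (ComplexShape.up ℤ) n L).symm hL
  · intro i hi
    haveI := h5 i hi
    rw [homologyMap_comp]
    infer_instance
  · rw [homologyMap_comp]
    exact epi_comp _ _

end Complexes

end Groth.Agent.Lib.helper23.NQuasiIso
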