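import Mathlib
import Groth.Prelude.Def_PCoh
import Groth.Agent.S5602
import Groth.Agent.Lib.Helper23.NQuasiIso2

set_option autoImplicit false
universe v u
open CategoryTheory CategoryTheory.Limits HomologicalComplex CochainComplex

namespace Groth.Agent.Lib.helper23.PCohCore

open Groth.Agent.Lib.helper23.NQuasiIso

variable {C : Type u} [Category.{v} C] [Abelian C]

/-- the cone of `u` has no `H^i` when `H^i(u)` is epi and `H^{i+1}(u)` is mono. -/
lemma isZero_homology_mappingCone {E F : CochainComplex C ℤ} (u : E ⟶ F) (i : ℤ)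
    (h₁ : Epi (homologyMap u i)) (h₂ : Mono (homologyMap u (i + 1))) :
    IsZero ((mappingCone u).homology i) := by
  let _ : HasDerivedCategory C := HasDerivedCategory.standard C
  have hT := DerivedCategory.mappingCone_triangle_distinguished u
  have e3 := homologyMap_exact₃_of_distTriang _ hT i (i + 1) rfl
  have z2 : homologyMap (mappingCone.triangle u).mor₂ i = 0 := by
    haveI : Epi (homologyMap (mappingCone.triangle u).mor₁ i) := h₁
    exact (cancel_epi (homologyMap (mappingCone.triangle u).mor₁ i)).1 (by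
      rw [comp_zero]
      exact homologyMap_comp_eq_zero_of_distTriang _ hT i)
  have z3 : homologyδOfTriangle (mappingCone.triangle u) i (i + 1) rfl = 0 := by
    haveI : Mono (homologyMap (mappingCone.triangle u).mor₁ (i + 1)) := h₂
    exact (cancel_mono (homologyMap (mappingCone.triangle u).mor₁ (i + 1))).1 (by
      rw [zero_comp]
      exact homologyδOfTriangle_homologyMap _ hT i (i + 1) rfl)
  exact e3.isZero_of_both_zeros z2 z3

/-- post-composing with a quasi-isomorphism does not change the homology of the cone. -/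
lemma nonempty_homology_mappingCone_comp_iso {E F F' : CochainComplex C ℤ} (u : E ⟶ F)
    (p : F ⟶ F') [QuasiIso p] (n : ℤ) :
    Nonempty ((mappingCone u).homology n ≅ (mappingCone (u ≫ p)).homology n) := by
  let _ : HasDerivedCategory C := HasDerivedCategory.standard C
  have h₁ := DerivedCategory.mappingCone_triangle_distinguished u
  have h₂ := DerivedCategory.mappingCone_triangle_distinguished (u ≫ p)
  haveI : IsIso (DerivedCategory.Q.map p) :=
    (DerivedCategory.isIso_Q_map_iff_quasiIso _ p).2 inferInstance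
  let e₂ : DerivedCategory.Q.obj F ≅ DerivedCategory.Q.obj F' :=
    asIso (DerivedCategory.Q.map p)
  let e := Pretriangulated.isoTriangleOfIso₁₂ _ _ h₁ h₂ (Iso.refl _) e₂ (by
      show DerivedCategory.Q.map u ≫ DerivedCategory.Q.map p =
        𝟙 _ ≫ DerivedCategory.Q.map (u ≫ p)
      rw [Category.id_comp, CategoryTheory.Functor.map_comp])
  let e₃ : DerivedCategory.Q.obj (mappingCone u) ≅ DerivedCategory.Q.obj (mappingCone (u ≫ p)) :=
    Pretriangulated.Triangle.π₃.mapIso e
  exact ⟨((DerivedCategory.homologyFunctorFactors C n).app _).symm ≪≫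
    (DerivedCategory.homologyFunctor C n).mapIso e₃ ≪≫
    (DerivedCategory.homologyFunctorFactors C n).app _⟩

/-- vanishing homology from a vanishing term. -/
lemma isZero_homology_of_isZero_X (K : CochainComplex C ℤ) (i : ℤ) (h : IsZero (K.X i)) :
    IsZero (K.homology i) :=
  HomologicalComplex.ExactAt.isZero_homology (ShortComplex.exact_of_isZero_X₂ _ h)

/-- terms of a mapping cone. -/
lemma prop_mappingCone_X (P : ObjectProperty C) [P.IsClosedUnderIsomorphisms]
    (hsum : ∀ X Y : C, P X → P Y → P (X ⨯ Y)) {G F : CochainComplex C ℤ} (f : G ⟶ F) (i : ℤ)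
    (h₁ : P (G.X (i + 1))) (h₂ : P (F.X i)) : P ((mappingCone f).X i) := by
  have e := HomologicalComplex.homotopyCofiber.XIsoBiprod f i (i + 1) (by simp)
  exact (P.prop_iff_of_iso (e ≪≫ biprod.isoProd _ _)).2 (hsum _ _ h₁ h₂)

/-- the inductive step / full descending induction: a strictly perfect complex mapping to `E` by
an `m`-quasi-isomorphism, for every `m ≥ n`. -/
theorem exists_perfect_nQuasiIso_aux (P : ObjectProperty C) [P.IsClosedUnderIsomorphisms]
    [P.ContainsZero] (hsum : ∀ X Y : C, P X → P Y → P (X ⨯ Y))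
    (hqs : PCoh.IsQuasiStableUnderKernels P) (hql : PCoh.IsQuasiLiftable P)
    (n : ℤ) (E F : CochainComplex C ℤ) (hP : ∀ i : ℤ, n ≤ i → P (F.X i)) (b : ℤ)
    (hb : ∀ i : ℤ, b < i → IsZero (F.X i)) (u : E ⟶ F) (hu : QuasiIso u) :
    ∀ (k : ℕ) (m : ℤ), m = b + 1 - k → n ≤ m →
      ∃ (G : CochainComplex C ℤ) (w : G ⟶ E), (∀ i, P (G.X i)) ∧
        (∀ i, i < m ∨ b < i → IsZero (G.X i)) ∧ (∀ i, m < i → IsIso (homologyMap w i)) ∧
        Epi (homologyMap w m) := by
  haveI hui : ∀ i, IsIso (homologyMap u i) := fun i => by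
    rw [← quasiIsoAt_iff_isIso_homologyMap]
    infer_instance
  have hEz : ∀ i, b < i → IsZero (E.homology i) := fun i hi =>
    (isZero_homology_of_isZero_X F i (hb i hi)).of_iso (asIso (homologyMap u i))
  intro k
  induction k with
  | zero =>
    intro m hm hnm
    refine ⟨(HomologicalComplex.zero : CochainComplex C ℤ), 0,
      fun i => P.prop_of_isZero (Limits.isZero_zero C), fun i _ => Limits.isZero_zero C, ?_, ?_⟩
    · intro i hi
      have h1 : IsZero ((HomologicalComplex.zero : CochainComplex C ℤ).homology i) :=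
        isZero_homology_of_isZero_X _ i (Limits.isZero_zero C)
      have h2 : IsZero (E.homology i) := hEz i (by simp at hm; omega)
      exact ⟨0, h1.eq_of_src _ _, h2.eq_of_src _ _⟩
    · exact (hEz m (by simp at hm; omega)).epi _
  | succ k ih =>
    intro m hm hnm
    obtain ⟨G, w, hPG, hzG, hiso, hepi⟩ := ih (m + 1) (by push_cast at hm ⊢; omega) (by omega)
    have hmb : m ≤ b := by push_cast at hm; omega
    -- the cone of `w ≫ u`
    have hstrict : PCoh.IsStrictPC P m (mappingCone (w ≫ u)) := by
      refine ⟨⟨b, fun i hi => ?_⟩, fun i hi => ?_⟩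
      · refine HomologicalComplex.homotopyCofiber.isZero_X (w ≫ u) i (hb i hi) ?_
        intro j hj
        simp only [ComplexShape.up_Rel] at hj
        exact hzG j (Or.inr (by omega))
      · exact prop_mappingCone_X P hsum (w ≫ u) i (hPG _) (hP i (by omega))
    have hac : ∀ i : ℤ, m < i → IsZero ((mappingCone (w ≫ u)).homology i) := by
      intro i hi
      refine isZero_homology_mappingCone (w ≫ u) i ?_ ?_
      · rw [homologyMap_comp]
        rcases eq_or_lt_of_le (show m + 1 ≤ i by omega) with h | h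
        · subst h
          haveI := hepi
          exact epi_comp _ _
        · haveI := hiso i h
          infer_instance
      · rw [homologyMap_comp]
        haveI := hiso (i + 1) (by omega)
        infer_instance
    obtain ⟨L₀, π₀, hL₀, hπ₀⟩ := Groth.Agent.S5602.result P hqs m _ hstrict hac
    obtain ⟨eH⟩ := nonempty_homology_mappingCone_comp_iso w u m
    haveI := hπ₀
    obtain ⟨G', v, w', hvw, hmono, hisov, hcok, h5, h6⟩ :=
      exists_modification P hql m G E w hiso hepi ⟨L₀, π₀ ≫ eH.inv, hL₀, epi_comp _ _⟩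
    refine ⟨G', w', ?_, ?_, h5, h6⟩
    · intro i
      by_cases him : i = m
      · subst him
        have hv0 : v.f i = 0 := (hzG i (Or.inl (by omega))).eq_of_src _ _
        exact P.prop_of_iso (cokernelIsoOfEq hv0 ≪≫ cokernelZeroIsoTarget) hcok
      · haveI := hisov i him
        exact P.prop_of_iso (asIso (v.f i)) (hPG i)
    · intro i hi
      have him : i ≠ m := by omega
      haveI := hisov i him
      refine (hzG i ?_).of_iso (asIso (v.f i)).symm
      rcases hi with hi | hi
      · exact Or.inl (by omega)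
      · exact Or.inr hi

/-- a strictly perfect complex with an `n`-quasi-isomorphism to `E`, for `E` quasi-isomorphic to a
strictly `n`-pseudo-coherent complex. -/
theorem exists_perfect_nQuasiIso (P : ObjectProperty C) [P.IsClosedUnderIsomorphisms]
    [P.ContainsZero] (hsum : ∀ X Y : C, P X → P Y → P (X ⨯ Y))
    (hqs : PCoh.IsQuasiStableUnderKernels P) (hql : PCoh.IsQuasiLiftable P)
    (n : ℤ) (E F : CochainComplex C ℤ) (hF : PCoh.IsStrictPC P n F) (u : E ⟶ F)
    (hu : QuasiIso u) :
    ∃ (G : CochainComplex C ℤ) (b : ℤ) (w : G ⟶ E), (∀ i, P (G.X i)) ∧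
      (∀ i, i < n ∨ b < i → IsZero (G.X i)) ∧ (∀ i, n < i → IsIso (homologyMap w i)) ∧
      Epi (homologyMap w n) := by
  obtain ⟨⟨b₀, hb₀⟩, hP⟩ := hF
  obtain ⟨G, w, h1, h2, h3, h4⟩ := exists_perfect_nQuasiIso_aux P hsum hqs hql n E F hP
    (max b₀ (n - 1)) (fun i hi => hb₀ i (lt_of_le_of_lt (le_max_left _ _) hi)) u hu
    (max b₀ (n - 1) + 1 - n).toNat n (by
      have : n - 1 ≤ max b₀ (n - 1) := le_max_right _ _
      rw [Int.toNat_of_nonneg (by omega)]
      omega) le_rfl
  exact ⟨G, max b₀ (n - 1), w, h1, h2, h3, h4⟩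

/-- S5597. -/
theorem exists_strictPC_quasiIso (P : ObjectProperty C) [P.IsClosedUnderIsomorphisms]
    [P.ContainsZero] (hsum : ∀ X Y : C, P X → P Y → P (X ⨯ Y))
    (hqs : PCoh.IsQuasiStableUnderKernels P) (hql : PCoh.IsQuasiLiftable P)
    (n : ℤ) (E F : CochainComplex C ℤ) (hF : PCoh.IsStrictPC P n F) (u : E ⟶ F)
    (hu : QuasiIso u) :
    ∃ (F' : CochainComplex C ℤ) (v : F' ⟶ E), PCoh.IsStrictPC P n F' ∧ QuasiIso v := by
  obtain ⟨G, b, w, h1, h2, h3, h4⟩ := exists_perfect_nQuasiIso P hsum hqs hql n E F hF u hu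
  obtain ⟨E', v, u', -, hu', -, hviso⟩ := exists_factorization n G E w h3 h4
  refine ⟨E', u', ⟨⟨max b n, fun i hi => ?_⟩, fun i hi => ?_⟩, hu'⟩
  · haveI := hviso i (le_of_lt (lt_of_le_of_lt (le_max_right _ _) hi))
    exact (h2 i (Or.inr (lt_of_le_of_lt (le_max_left _ _) hi))).of_iso (asIso (v.f i)).symm
  · haveI := hviso i hi
    exact P.prop_of_iso (asIso (v.f i)) (h1 i)

end Groth.Agent.Lib.helper23.PCohCore
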