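import Mathlib
import Groth.Prelude.Def_PCoh
import Groth.Agent.Lib.Helper23.PCohCore

set_option autoImplicit false
universe w v u
open CategoryTheory CategoryTheory.Limits HomologicalComplex CochainComplex

namespace Groth.Agent.Lib.helper23.PCohCore

open Groth.Agent.Lib.helper23.NQuasiIso

variable {C : Type u} [Category.{v} C] [Abelian C]

/-- the statement-level notion: `X ∈ D(C)` is `n`-pseudo-coherent. -/
def NPC [HasDerivedCategory.{w} C] (P : ObjectProperty C) (n : ℤ) (X : DerivedCategory C) : Prop :=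
  ∃ E : CochainComplex C ℤ, PCoh.IsStrictPC P n E ∧ Nonempty (DerivedCategory.Q.obj E ≅ X)

/-- `X ⟶ Y` in `D(C)` is an `n`-isomorphism. -/
def NIso [HasDerivedCategory.{w} C] (n : ℤ) {X Y : DerivedCategory C} (α : X ⟶ Y) : Prop :=
  (∀ i : ℤ, n < i → IsIso ((DerivedCategory.homologyFunctor C i).map α)) ∧
    Epi ((DerivedCategory.homologyFunctor C n).map α)

section

variable [HasDerivedCategory.{w} C]

lemma homologyFunctor_map_Q {K L : CochainComplex C ℤ} (f : K ⟶ L) (i : ℤ) :
    (DerivedCategory.homologyFunctor C i).map (DerivedCategory.Q.map f) =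
      (DerivedCategory.homologyFunctorFactors C i).hom.app K ≫ homologyMap f i ≫
        (DerivedCategory.homologyFunctorFactors C i).inv.app L :=
  (NatIso.naturality_2 (DerivedCategory.homologyFunctorFactors C i) f).symm

lemma homologyMap_eq_Q {K L : CochainComplex C ℤ} (f : K ⟶ L) (i : ℤ) :
    homologyMap f i = (DerivedCategory.homologyFunctorFactors C i).inv.app K ≫
      (DerivedCategory.homologyFunctor C i).map (DerivedCategory.Q.map f) ≫
        (DerivedCategory.homologyFunctorFactors C i).hom.app L :=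
  (NatIso.naturality_1 (DerivedCategory.homologyFunctorFactors C i) f).symm

lemma isIso_homologyFunctor_map_Q_iff {K L : CochainComplex C ℤ} (f : K ⟶ L) (i : ℤ) :
    IsIso ((DerivedCategory.homologyFunctor C i).map (DerivedCategory.Q.map f)) ↔
      IsIso (homologyMap f i) := by
  constructor
  · intro h
    rw [homologyMap_eq_Q]
    exact (((DerivedCategory.homologyFunctorFactors C i).app K).symm ≪≫
      asIso ((DerivedCategory.homologyFunctor C i).map (DerivedCategory.Q.map f)) ≪≫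
      ((DerivedCategory.homologyFunctorFactors C i).app L)).isIso_hom
  · intro h
    rw [homologyFunctor_map_Q]
    haveI : IsIso ((HomologicalComplex.homologyFunctor C (ComplexShape.up ℤ) i).map f) := h
    exact (((DerivedCategory.homologyFunctorFactors C i).app K) ≪≫
      asIso ((HomologicalComplex.homologyFunctor C (ComplexShape.up ℤ) i).map f) ≪≫
      ((DerivedCategory.homologyFunctorFactors C i).app L).symm).isIso_hom

lemma epi_homologyFunctor_map_Q_iff {K L : CochainComplex C ℤ} (f : K ⟶ L) (i : ℤ) :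
    Epi ((DerivedCategory.homologyFunctor C i).map (DerivedCategory.Q.map f)) ↔
      Epi (homologyMap f i) := by
  constructor
  · intro h
    rw [homologyMap_eq_Q]
    have h5 : Epi ((DerivedCategory.homologyFunctorFactors C i).inv.app K) :=
      (inferInstance : IsIso ((DerivedCategory.homologyFunctorFactors C i).inv.app K)).epi_of_iso
    have h6 : Epi ((DerivedCategory.homologyFunctorFactors C i).hom.app L) :=
      (inferInstance : IsIso ((DerivedCategory.homologyFunctorFactors C i).hom.app L)).epi_of_iso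
    exact epi_comp' h5 (epi_comp' h h6)
  · intro h
    rw [homologyFunctor_map_Q]
    have h5 : Epi ((DerivedCategory.homologyFunctorFactors C i).hom.app K) :=
      (inferInstance : IsIso ((DerivedCategory.homologyFunctorFactors C i).hom.app K)).epi_of_iso
    have h6 : Epi ((DerivedCategory.homologyFunctorFactors C i).inv.app L) :=
      (inferInstance : IsIso ((DerivedCategory.homologyFunctorFactors C i).inv.app L)).epi_of_iso
    exact epi_comp' h5 (epi_comp' h h6)

lemma NPC.of_iso {P : ObjectProperty C} {n : ℤ} {X Y : DerivedCategory C} (h : NPC P n X)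
    (e : X ≅ Y) : NPC P n Y := by
  obtain ⟨E, hE, ⟨e'⟩⟩ := h
  exact ⟨E, hE, ⟨e' ≪≫ e⟩⟩

lemma NIso.comp_iso {n : ℤ} {X Y Z : DerivedCategory C} {α : X ⟶ Y} (h : NIso n α) (e : Y ⟶ Z)
    [IsIso e] : NIso n (α ≫ e) := by
  refine ⟨fun i hi => ?_, ?_⟩
  · haveI := h.1 i hi
    rw [CategoryTheory.Functor.map_comp]
    infer_instance
  · haveI := h.2
    rw [CategoryTheory.Functor.map_comp]
    infer_instance

lemma NIso.iso_comp {n : ℤ} {X Y Z : DerivedCategory C} {α : Y ⟶ Z} (h : NIso n α) (e : X ⟶ Y)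
    [IsIso e] : NIso n (e ≫ α) := by
  refine ⟨fun i hi => ?_, ?_⟩
  · haveI := h.1 i hi
    rw [CategoryTheory.Functor.map_comp]
    infer_instance
  · haveI := h.2
    rw [CategoryTheory.Functor.map_comp]
    infer_instance

omit [HasDerivedCategory.{w} C] in
/-- chain level: the target of an `n`-quasi-isomorphism from a strictly `n`-pseudo-coherent complex
is quasi-isomorphic to a strictly `n`-pseudo-coherent complex. -/
theorem exists_strictPC_quasiIso_of_nQuasiIso (P : ObjectProperty C)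
    [P.IsClosedUnderIsomorphisms] (n : ℤ) (G E : CochainComplex C ℤ)
    (hG : PCoh.IsStrictPC P n G) (w : G ⟶ E) (h3 : ∀ i, n < i → IsIso (homologyMap w i))
    (h4 : Epi (homologyMap w n)) :
    ∃ (E' : CochainComplex C ℤ) (u' : E' ⟶ E), PCoh.IsStrictPC P n E' ∧ QuasiIso u' := by
  obtain ⟨⟨b, h2⟩, h1⟩ := hG
  obtain ⟨E', v, u', -, hu', -, hviso⟩ := exists_factorization n G E w h3 h4
  refine ⟨E', u', ⟨⟨max b n, fun i hi => ?_⟩, fun i hi => ?_⟩, hu'⟩
  · haveI := hviso i (le_of_lt (lt_of_le_of_lt (le_max_right _ _) hi))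
    exact (h2 i (lt_of_le_of_lt (le_max_left _ _) hi)).of_iso (asIso (v.f i)).symm
  · haveI := hviso i hi
    exact P.prop_of_iso (asIso (v.f i)) (h1 i hi)

/-- `n`-pseudo-coherence transfers along `n`-isomorphisms of `D(C)`. -/
theorem NPC.of_nIso (P : ObjectProperty C) [P.IsClosedUnderIsomorphisms] [P.ContainsZero]
    (hsum : ∀ X Y : C, P X → P Y → P (X ⨯ Y))
    (hqs : PCoh.IsQuasiStableUnderKernels P) (hql : PCoh.IsQuasiLiftable P)
    (n : ℤ) {X F : DerivedCategory C} (hX : NPC P n X) (α : X ⟶ F) (hα : NIso n α) :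
    NPC P n F := by
  obtain ⟨E, hE, ⟨e⟩⟩ := hX
  let F₀ := DerivedCategory.Q.objPreimage F
  let eF : DerivedCategory.Q.obj F₀ ≅ F := DerivedCategory.Q.objObjPreimageIso F
  obtain ⟨E'', s, hs, f, hf⟩ := DerivedCategory.right_fac (e.hom ≫ α ≫ eF.inv)
  have hsq : QuasiIso s := (DerivedCategory.isIso_Q_map_iff_quasiIso _ s).1 hs
  obtain ⟨F', v, hF', hv⟩ := exists_strictPC_quasiIso P hsum hqs hql n E'' E hE s hsq
  haveI : IsIso (DerivedCategory.Q.map v) :=
    (DerivedCategory.isIso_Q_map_iff_quasiIso _ v).2 hv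
  have hα' : NIso n (e.hom ≫ α ≫ eF.inv) := (hα.comp_iso eF.inv).iso_comp e.hom
  have hQf : DerivedCategory.Q.map (v ≫ f) =
      (DerivedCategory.Q.map v ≫ DerivedCategory.Q.map s) ≫ (e.hom ≫ α ≫ eF.inv) := by
    rw [hf, CategoryTheory.Functor.map_comp, Category.assoc, IsIso.hom_inv_id_assoc]
  have hvf : NIso n (DerivedCategory.Q.map (v ≫ f)) := by
    rw [hQf]
    exact hα'.iso_comp _
  obtain ⟨E', u', hE', hu'⟩ := exists_strictPC_quasiIso_of_nQuasiIso P n F' F₀ hF' (v ≫ f)
    (fun i hi => (isIso_homologyFunctor_map_Q_iff _ i).1 (hvf.1 i hi))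
    ((epi_homologyFunctor_map_Q_iff _ n).1 hvf.2)
  haveI : IsIso (DerivedCategory.Q.map u') :=
    (DerivedCategory.isIso_Q_map_iff_quasiIso _ u').2 hu'
  exact ⟨E', hE', ⟨asIso (DerivedCategory.Q.map u') ≪≫ eF⟩⟩

/-- `n`-quasi-isomorphisms of complexes give `n`-isomorphisms of `D(C)`. -/
lemma NIso.of_nQuasiIso {n : ℤ} {K L : CochainComplex C ℤ} (w : K ⟶ L)
    (h3 : ∀ i, n < i → IsIso (homologyMap w i)) (h4 : Epi (homologyMap w n)) :
    NIso n (DerivedCategory.Q.map w) :=
  ⟨fun i hi => (isIso_homologyFunctor_map_Q_iff w i).2 (h3 i hi),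
    (epi_homologyFunctor_map_Q_iff w n).2 h4⟩

/-- an `n`-pseudo-coherent object receives an `n`-isomorphism from a strictly perfect complex. -/
theorem NPC.exists_perfect_nIso (P : ObjectProperty C) [P.IsClosedUnderIsomorphisms]
    [P.ContainsZero] (hsum : ∀ X Y : C, P X → P Y → P (X ⨯ Y))
    (hqs : PCoh.IsQuasiStableUnderKernels P) (hql : PCoh.IsQuasiLiftable P)
    (n : ℤ) {F : DerivedCategory C} (hF : NPC P n F) :
    ∃ (E : CochainComplex C ℤ) (b : ℤ) (α : DerivedCategory.Q.obj E ⟶ F),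
      (∀ i : ℤ, i < n ∨ b < i → IsZero (E.X i)) ∧ (∀ i : ℤ, P (E.X i)) ∧ NIso n α := by
  obtain ⟨E₀, hE₀, ⟨e⟩⟩ := hF
  obtain ⟨G, b, w, h1, h2, h3, h4⟩ :=
    exists_perfect_nQuasiIso P hsum hqs hql n E₀ E₀ hE₀ (𝟙 _) inferInstance
  exact ⟨G, b, DerivedCategory.Q.map w ≫ e.hom, h2, h1, (NIso.of_nQuasiIso w h3 h4).comp_iso e.hom⟩

/-- S5598. -/
theorem npc_iff_exists_perfect_nIso (P : ObjectProperty C) [P.IsClosedUnderIsomorphisms]
    [P.ContainsZero] (hsum : ∀ X Y : C, P X → P Y → P (X ⨯ Y))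
    (hqs : PCoh.IsQuasiStableUnderKernels P) (hql : PCoh.IsQuasiLiftable P)
    (n : ℤ) (F : DerivedCategory C) :
    (∃ E : CochainComplex C ℤ, PCoh.IsStrictPC P n E ∧ Nonempty (DerivedCategory.Q.obj E ≅ F)) ↔
      ∃ (E : CochainComplex C ℤ) (a b : ℤ) (α : DerivedCategory.Q.obj E ⟶ F),
        (∀ i : ℤ, i < a ∨ b < i → IsZero (E.X i)) ∧ (∀ i : ℤ, P (E.X i)) ∧
        (∀ i : ℤ, n < i → IsIso ((DerivedCategory.homologyFunctor C i).map α)) ∧
        Epi ((DerivedCategory.homologyFunctor C n).map α) := by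
  constructor
  · intro h
    obtain ⟨E, b, α, h1, h2, h3, h4⟩ := NPC.exists_perfect_nIso P hsum hqs hql n h
    exact ⟨E, n, b, α, h1, h2, h3, h4⟩
  · rintro ⟨E, a, b, α, h1, h2, h3, h4⟩
    have hE : NPC P n (DerivedCategory.Q.obj E) :=
      ⟨E, ⟨⟨b, fun i hi => h1 i (Or.inr hi)⟩, fun i _ => h2 i⟩, ⟨Iso.refl _⟩⟩
    exact NPC.of_nIso P hsum hqs hql n hE α ⟨h3, h4⟩

end

end Groth.Agent.Lib.helper23.PCohCore
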