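import Mathlib
import Groth.Prelude.Def_PCoh
import Groth.Agent.Lib.Helper23.PCohCore2

set_option autoImplicit false
universe w v u
open CategoryTheory CategoryTheory.Limits HomologicalComplex CochainComplex
open CategoryTheory.Pretriangulated

namespace Groth.Agent.Lib.helper23.PCohCore

open Groth.Agent.Lib.helper23.NQuasiIso

variable {C : Type u} [Category.{v} C] [Abelian C] [HasDerivedCategory.{w} C]

lemma NPC.mono {P : ObjectProperty C} {n n' : ℤ} {X : DerivedCategory C} (h : NPC P n X)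
    (hn : n ≤ n') : NPC P n' X := by
  obtain ⟨E, ⟨hb, hP⟩, e⟩ := h
  exact ⟨E, ⟨hb, fun i hi => hP i (by omega)⟩, e⟩

lemma NPC.shift {P : ObjectProperty C} {n : ℤ} {X : DerivedCategory C} (h : NPC P n X) (m : ℤ) :
    NPC P (n - m) (X⟦m⟧) := by
  obtain ⟨E, ⟨⟨b, hb⟩, hP⟩, ⟨e'⟩⟩ := h
  refine ⟨E⟦m⟧, ⟨⟨b - m, ?_⟩, ?_⟩, ⟨(DerivedCategory.Q.commShiftIso m).app E ≪≫
    (CategoryTheory.shiftFunctor (DerivedCategory C) m).mapIso e'⟩⟩
  · intro i hi
    show IsZero (E.X (i + m))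
    exact hb (i + m) (by omega)
  · intro i hi
    show P (E.X (i + m))
    exact hP (i + m) (by omega)

/-- the cone of a morphism from an `(n+1)`-pseudo-coherent object to an `n`-pseudo-coherent one is
`n`-pseudo-coherent. -/
theorem NPC.cone (P : ObjectProperty C) [P.IsClosedUnderIsomorphisms] [P.ContainsZero]
    (hsum : ∀ X Y : C, P X → P Y → P (X ⨯ Y))
    (hqs : PCoh.IsQuasiStableUnderKernels P) (hql : PCoh.IsQuasiLiftable P)
    (n : ℤ) (T : Triangle (DerivedCategory C)) (hT : T ∈ distTriang _)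
    (h₁ : NPC P (n + 1) T.obj₁) (h₂ : NPC P n T.obj₂) : NPC P n T.obj₃ := by
  obtain ⟨E₁, hE₁, ⟨e₁⟩⟩ := h₁
  obtain ⟨E₂, ⟨⟨b₂, hb₂⟩, hP₂⟩, ⟨e₂⟩⟩ := h₂
  obtain ⟨E₁', s, hs, f, hf⟩ := DerivedCategory.right_fac (e₁.hom ≫ T.mor₁ ≫ e₂.inv)
  have hsq : QuasiIso s := (DerivedCategory.isIso_Q_map_iff_quasiIso _ s).1 hs
  obtain ⟨E₁'', v, ⟨⟨b₁, hb₁⟩, hP₁⟩, hv⟩ :=
    exists_strictPC_quasiIso P hsum hqs hql (n + 1) E₁' E₁ hE₁ s hsq
  haveI : IsIso (DerivedCategory.Q.map v) :=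
    (DerivedCategory.isIso_Q_map_iff_quasiIso _ v).2 hv
  have hT₂ := DerivedCategory.mappingCone_triangle_distinguished (v ≫ f)
  let e₁' : DerivedCategory.Q.obj E₁'' ≅ T.obj₁ :=
    asIso (DerivedCategory.Q.map v) ≪≫ asIso (DerivedCategory.Q.map s) ≪≫ e₁
  have iso := Pretriangulated.isoTriangleOfIso₁₂ _ _ hT₂ hT e₁' e₂ (by
    show DerivedCategory.Q.map (v ≫ f) ≫ e₂.hom =
      (DerivedCategory.Q.map v ≫ DerivedCategory.Q.map s ≫ e₁.hom) ≫ T.mor₁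
    have hf' : DerivedCategory.Q.map f = DerivedCategory.Q.map s ≫ e₁.hom ≫ T.mor₁ ≫ e₂.inv := by
      rw [hf, IsIso.hom_inv_id_assoc]
    rw [CategoryTheory.Functor.map_comp, hf']
    simp only [Category.assoc, Iso.inv_hom_id, Category.comp_id])
  refine ⟨CochainComplex.mappingCone (v ≫ f), ⟨⟨max b₁ b₂, ?_⟩, ?_⟩,
    ⟨Pretriangulated.Triangle.π₃.mapIso iso⟩⟩
  · intro i hi
    refine HomologicalComplex.homotopyCofiber.isZero_X (v ≫ f) i
      (hb₂ i (lt_of_le_of_lt (le_max_right _ _) hi)) ?_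
    intro j hj
    simp only [ComplexShape.up_Rel] at hj
    exact hb₁ j (by have := le_max_left b₁ b₂; omega)
  · intro i hi
    exact prop_mappingCone_X P hsum (v ≫ f) i (hP₁ _ (by omega)) (hP₂ i hi)

/-- S5599: two-out-of-three. -/
theorem NPC.two_of_three (P : ObjectProperty C) [P.IsClosedUnderIsomorphisms] [P.ContainsZero]
    (hsum : ∀ X Y : C, P X → P Y → P (X ⨯ Y))
    (hqs : PCoh.IsQuasiStableUnderKernels P) (hql : PCoh.IsQuasiLiftable P)
    (n : ℤ) (T : Triangle (DerivedCategory C)) (hT : T ∈ distTriang _) :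
    (NPC P (n + 1) T.obj₁ → NPC P n T.obj₂ → NPC P n T.obj₃) ∧
      (NPC P n T.obj₁ → NPC P n T.obj₃ → NPC P n T.obj₂) ∧
      (NPC P (n + 1) T.obj₂ → NPC P n T.obj₃ → NPC P (n + 1) T.obj₁) := by
  refine ⟨NPC.cone P hsum hqs hql n T hT, ?_, ?_⟩
  · intro h₁ h₃
    have h₃' : NPC P (n + 1) (T.obj₃⟦(-1 : ℤ)⟧) := by
      have := h₃.shift (-1)
      rwa [show n - -1 = n + 1 by ring] at this
    exact NPC.cone P hsum hqs hql n T.invRotate (inv_rot_of_distTriang T hT) h₃' h₁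
  · intro h₂ h₃
    have h := NPC.cone P hsum hqs hql n T.rotate (rot_of_distTriang T hT) h₂ h₃
    have h' : NPC P (n + 1) ((T.obj₁⟦(1 : ℤ)⟧)⟦(-1 : ℤ)⟧) := by
      have := h.shift (-1)
      rwa [show n - -1 = n + 1 by ring] at this
    exact h'.of_iso (shiftShiftNeg T.obj₁ (1 : ℤ))

end Groth.Agent.Lib.helper23.PCohCore
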