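import Mathlib
import Groth.Prelude.Def_PCoh
import Groth.Agent.Lib.Helper23.PCohCore3

set_option autoImplicit false
universe w v u
open CategoryTheory CategoryTheory.Limits HomologicalComplex CochainComplex
open CategoryTheory.Pretriangulated

namespace Groth.Agent.Lib.helper23.PCohCore

open Groth.Agent.Lib.helper23.NQuasiIso

variable {C : Type u} [Category.{v} C] [Abelian C]

/-- finite type `H^n` gives a single complex with term in `P` mapping onto it. -/
lemma exists_single_hom_epi_of_finiteType (P : ObjectProperty C) (hql : PCoh.IsQuasiLiftable P)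
    (M : CochainComplex C ℤ) (n : ℤ) (h : PCoh.IsOfFiniteType P (M.homology n)) :
    ∃ (L : C) (_ : P L) (ζ : (HomologicalComplex.single C (ComplexShape.up ℤ) n).obj L ⟶ M),
      Epi (homologyMap ζ n) := by
  obtain ⟨L₀, π₀, hL₀, hπ₀⟩ := h
  haveI := hπ₀
  obtain ⟨L, w, hL, hw⟩ := hql _ _ (pullback.fst π₀ (M.homologyπ n)) inferInstance hL₀
  have hz : Epi ((w ≫ pullback.snd π₀ (M.homologyπ n)) ≫ M.homologyπ n) := by
    rw [Category.assoc, ← pullback.condition, ← Category.assoc]
    exact epi_comp _ _
  obtain ⟨ζ, hζ⟩ := exists_single_hom_epi M n L _ hz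
  exact ⟨L, hL, ζ, hζ⟩

/-- the single complex on an object of `P` is strictly `n`-pseudo-coherent. -/
lemma isStrictPC_single (P : ObjectProperty C) [P.IsClosedUnderIsomorphisms] [P.ContainsZero]
    (n : ℤ) (L : C) (hL : P L) :
    PCoh.IsStrictPC P n ((HomologicalComplex.single C (ComplexShape.up ℤ) n).obj L) := by
  refine ⟨⟨n, fun i hi => HomologicalComplex.isZero_single_obj_X _ _ _ _ (by omega)⟩,
    fun i hi => ?_⟩
  by_cases h : i = n
  · subst h
    exact P.prop_of_iso (HomologicalComplex.singleObjXSelf (ComplexShape.up ℤ) i L).symm hL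
  · exact P.prop_of_isZero (HomologicalComplex.isZero_single_obj_X _ _ _ _ h)

/-- finite type transfers along isomorphisms. -/
lemma isOfFiniteType_of_iso (P : ObjectProperty C) {X Y : C} (e : X ≅ Y)
    (h : PCoh.IsOfFiniteType P X) : PCoh.IsOfFiniteType P Y := by
  obtain ⟨L, π, hL, hπ⟩ := h
  haveI := hπ
  exact ⟨L, π ≫ e.hom, hL, epi_comp _ _⟩

variable [HasDerivedCategory.{w} C]

/-- S5603. -/
theorem npc_iff_isOfFiniteType (P : ObjectProperty C) [P.IsClosedUnderIsomorphisms]
    [P.ContainsZero] (hsum : ∀ X Y : C, P X → P Y → P (X ⨯ Y))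
    (hqs : PCoh.IsQuasiStableUnderKernels P) (hql : PCoh.IsQuasiLiftable P)
    (n : ℤ) (F : DerivedCategory C)
    (hac : ∀ i : ℤ, n < i → IsZero ((DerivedCategory.homologyFunctor C i).obj F)) :
    NPC P n F ↔ PCoh.IsOfFiniteType P ((DerivedCategory.homologyFunctor C n).obj F) := by
  constructor
  · rintro ⟨E, hE, ⟨e⟩⟩
    have eH : ∀ i, E.homology i ≅ (DerivedCategory.homologyFunctor C i).obj F := fun i =>
      ((DerivedCategory.homologyFunctorFactors C i).app E).symm ≪≫
        (DerivedCategory.homologyFunctor C i).mapIso e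
    have h := Groth.Agent.S5602.result P hqs n E hE (fun i hi => (hac i hi).of_iso (eH i))
    exact isOfFiniteType_of_iso P (eH n) h
  · intro h
    let F₀ := DerivedCategory.Q.objPreimage F
    let eF : DerivedCategory.Q.obj F₀ ≅ F := DerivedCategory.Q.objObjPreimageIso F
    have eH : ∀ i, F₀.homology i ≅ (DerivedCategory.homologyFunctor C i).obj F := fun i =>
      ((DerivedCategory.homologyFunctorFactors C i).app F₀).symm ≪≫
        (DerivedCategory.homologyFunctor C i).mapIso eF
    obtain ⟨L, hL, ζ, hζ⟩ := exists_single_hom_epi_of_finiteType P hql F₀ n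
      (isOfFiniteType_of_iso P (eH n).symm h)
    have hζ' : NIso n (DerivedCategory.Q.map ζ) := by
      refine NIso.of_nQuasiIso ζ (fun i hi => ?_) hζ
      have h1 : IsZero (((HomologicalComplex.single C (ComplexShape.up ℤ) n).obj L).homology i) :=
        (HomologicalComplex.exactAt_single_obj _ _ _ _ (by omega)).isZero_homology
      have h2 : IsZero (F₀.homology i) := (hac i hi).of_iso (eH i)
      exact ⟨0, h1.eq_of_src _ _, h2.eq_of_src _ _⟩
    exact NPC.of_nIso P hsum hqs hql n
      ⟨_, isStrictPC_single P n L hL, ⟨Iso.refl _⟩⟩ (DerivedCategory.Q.map ζ ≫ eF.hom)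
      (hζ'.comp_iso eF.hom)

end Groth.Agent.Lib.helper23.PCohCore
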