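import Mathlib
import Groth.Prelude.Def_PCoh
import Groth.Agent.Lib.Helper23.PCohCore4

set_option autoImplicit false
universe w v u
open CategoryTheory CategoryTheory.Limits HomologicalComplex CochainComplex
open CategoryTheory.Pretriangulated

namespace Groth.Agent.Lib.helper23.PCohCore

open Groth.Agent.Lib.helper23.NQuasiIso

variable {C : Type u} [Category.{v} C] [Abelian C]

/-- the descending induction, with an independent bound `b` for the homology of `E`. -/
theorem exists_perfect_nQuasiIso_aux' (P : ObjectProperty C) [P.IsClosedUnderIsomorphisms]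
    [P.ContainsZero] (hsum : ∀ X Y : C, P X → P Y → P (X ⨯ Y))
    (hqs : PCoh.IsQuasiStableUnderKernels P) (hql : PCoh.IsQuasiLiftable P)
    (n : ℤ) (E F : CochainComplex C ℤ) (hP : ∀ i : ℤ, n ≤ i → P (F.X i)) (bF : ℤ)
    (hbF : ∀ i : ℤ, bF < i → IsZero (F.X i)) (u : E ⟶ F) (hu : QuasiIso u)
    (b : ℤ) (hEz : ∀ i, b < i → IsZero (E.homology i)) :
    ∀ (k : ℕ) (m : ℤ), m = b + 1 - k → n ≤ m →
      ∃ (G : CochainComplex C ℤ) (w : G ⟶ E), (∀ i, P (G.X i)) ∧
        (∀ i, i < m ∨ b < i → IsZero (G.X i)) ∧ (∀ i, m < i → IsIso (homologyMap w i)) ∧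
        Epi (homologyMap w m) := by
  haveI hui : ∀ i, IsIso (homologyMap u i) := fun i => by
    rw [← quasiIsoAt_iff_isIso_homologyMap]
    infer_instance
  intro k
  induction k with
  | zero =>
    intro m hm hnm
    refine ⟨(HomologicalComplex.zero : CochainComplex C ℤ), 0,
      fun i => P.prop_of_isZero (Limits.isZero_zero C), fun i _ => Limits.isZero_zero C, ?_, ?_⟩
    · intro i hi
      have h1 : IsZero ((HomologicalComplex.zero : CochainComplex C ℤ).homology i) :=
        isZero_homology_of_isZero_X _ i (Limits.isZero_zero C)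
      have h2 : IsZero (E.homology i) := hEz i (by simp at hm; omega)
      exact ⟨0, h1.eq_of_src _ _, h2.eq_of_src _ _⟩
    · exact (hEz m (by simp at hm; omega)).epi _
  | succ k ih =>
    intro m hm hnm
    obtain ⟨G, w, hPG, hzG, hiso, hepi⟩ := ih (m + 1) (by push_cast at hm ⊢; omega) (by omega)
    have hmb : m ≤ b := by push_cast at hm; omega
    have hstrict : PCoh.IsStrictPC P m (mappingCone (w ≫ u)) := by
      refine ⟨⟨max b bF, fun i hi => ?_⟩, fun i hi => ?_⟩
      · refine HomologicalComplex.homotopyCofiber.isZero_X (w ≫ u) i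
          (hbF i (lt_of_le_of_lt (le_max_right _ _) hi)) ?_
        intro j hj
        simp only [ComplexShape.up_Rel] at hj
        exact hzG j (Or.inr (by have := le_max_left b bF; omega))
      · exact prop_mappingCone_X P hsum (w ≫ u) i (hPG _) (hP i (by omega))
    have hac : ∀ i : ℤ, m < i → IsZero ((mappingCone (w ≫ u)).homology i) := by
      intro i hi
      refine isZero_homology_mappingCone (w ≫ u) i ?_ ?_
      · rw [homologyMap_comp]
        rcases eq_or_lt_of_le (show m + 1 ≤ i by omega) with h | h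
        · subst h
          haveI := hepi
          exact epi_comp _ _
        · haveI := hiso i h
          infer_instance
      · rw [homologyMap_comp]
        haveI := hiso (i + 1) (by omega)
        infer_instance
    obtain ⟨L₀, π₀, hL₀, hπ₀⟩ := Groth.Agent.S5602.result P hqs m _ hstrict hac
    obtain ⟨eH⟩ := nonempty_homology_mappingCone_comp_iso w u m
    haveI := hπ₀
    obtain ⟨G', v, w', hvw, hmono, hisov, hcok, h5, h6⟩ :=
      exists_modification P hql m G E w hiso hepi ⟨L₀, π₀ ≫ eH.inv, hL₀, epi_comp _ _⟩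
    refine ⟨G', w', ?_, ?_, h5, h6⟩
    · intro i
      by_cases him : i = m
      · subst him
        have hv0 : v.f i = 0 := (hzG i (Or.inl (by omega))).eq_of_src _ _
        exact P.prop_of_iso (cokernelIsoOfEq hv0 ≪≫ cokernelZeroIsoTarget) hcok
      · haveI := hisov i him
        exact P.prop_of_iso (asIso (v.f i)) (hPG i)
    · intro i hi
      have him : i ≠ m := by omega
      haveI := hisov i him
      refine (hzG i ?_).of_iso (asIso (v.f i)).symm
      rcases hi with hi | hi
      · exact Or.inl (by omega)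
      · exact Or.inr hi

/-- variant of `exists_perfect_nQuasiIso` where the top degree of the strictly perfect complex is
any bound `b ≥ n - 1` for the cohomology of `E`. -/
theorem exists_perfect_nQuasiIso' (P : ObjectProperty C) [P.IsClosedUnderIsomorphisms]
    [P.ContainsZero] (hsum : ∀ X Y : C, P X → P Y → P (X ⨯ Y))
    (hqs : PCoh.IsQuasiStableUnderKernels P) (hql : PCoh.IsQuasiLiftable P)
    (n : ℤ) (E F : CochainComplex C ℤ) (hF : PCoh.IsStrictPC P n F) (u : E ⟶ F)
    (hu : QuasiIso u) (b : ℤ) (hnb : n - 1 ≤ b) (hEz : ∀ i, b < i → IsZero (E.homology i)) :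
    ∃ (G : CochainComplex C ℤ) (w : G ⟶ E), (∀ i, P (G.X i)) ∧
      (∀ i, i < n ∨ b < i → IsZero (G.X i)) ∧ (∀ i, n < i → IsIso (homologyMap w i)) ∧
      Epi (homologyMap w n) := by
  obtain ⟨⟨b₀, hb₀⟩, hP⟩ := hF
  exact exists_perfect_nQuasiIso_aux' P hsum hqs hql n E F hP b₀ hb₀ u hu b hEz
    (b + 1 - n).toNat n (by
      rw [Int.toNat_of_nonneg (by omega)]
      omega) le_rfl

variable [HasDerivedCategory.{w} C]

/-- S5617. -/
theorem NPC.exists_strictPC_vanishing_above (P : ObjectProperty C) [P.IsClosedUnderIsomorphisms]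
    [P.ContainsZero] (hsum : ∀ X Y : C, P X → P Y → P (X ⨯ Y))
    (hqs : PCoh.IsQuasiStableUnderKernels P) (hql : PCoh.IsQuasiLiftable P)
    (n m : ℤ) (hnm : n < m) (F : DerivedCategory C) (hF : NPC P n F)
    (hac : ∀ i : ℤ, m ≤ i → IsZero ((DerivedCategory.homologyFunctor C i).obj F)) :
    ∃ E : CochainComplex C ℤ, PCoh.IsStrictPC P n E ∧ (∀ i : ℤ, m ≤ i → IsZero (E.X i)) ∧
      Nonempty (DerivedCategory.Q.obj E ≅ F) := by
  obtain ⟨E₀, hE₀, ⟨e⟩⟩ := hF
  have eH : ∀ i, E₀.homology i ≅ (DerivedCategory.homologyFunctor C i).obj F := fun i =>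
    ((DerivedCategory.homologyFunctorFactors C i).app E₀).symm ≪≫
      (DerivedCategory.homologyFunctor C i).mapIso e
  obtain ⟨G, w, h1, h2, h3, h4⟩ := exists_perfect_nQuasiIso' P hsum hqs hql n E₀ E₀ hE₀ (𝟙 _)
    inferInstance (m - 1) (by omega) (fun i hi => (hac i (by omega)).of_iso (eH i))
  obtain ⟨E', v, u', -, hu', -, hviso⟩ := exists_factorization n G E₀ w h3 h4
  haveI : IsIso (DerivedCategory.Q.map u') :=
    (DerivedCategory.isIso_Q_map_iff_quasiIso _ u').2 hu'
  have hz : ∀ i : ℤ, m ≤ i → IsZero (E'.X i) := fun i hi => by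
    haveI := hviso i (by omega)
    exact (h2 i (Or.inr (by omega))).of_iso (asIso (v.f i)).symm
  refine ⟨E', ⟨⟨m, fun i hi => hz i (by omega)⟩, fun i hi => ?_⟩, hz,
    ⟨asIso (DerivedCategory.Q.map u') ≪≫ e⟩⟩
  haveI := hviso i hi
  exact P.prop_of_iso (asIso (v.f i)) (h1 i)

end Groth.Agent.Lib.helper23.PCohCore
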