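import Mathlib
import Groth.Prelude.Def_PCoh
import Groth.Agent.Lib.Helper23.PCohCore5
import Groth.Agent.Lib.Helper23.PCohAmp3

set_option autoImplicit false
universe w v u
open CategoryTheory CategoryTheory.Limits HomologicalComplex CochainComplex
open CategoryTheory.Pretriangulated

namespace Groth.Agent.Lib.helper23.PCohCore

open Groth.Agent.Lib.helper23.NQuasiIso Groth.Agent.Lib.helper23.PCohAmp

variable {C : Type u} [Category.{v} C] [Abelian C] [HasDerivedCategory.{w} C]

/-- direct sums of `n`-pseudo-coherent objects. -/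
theorem NPC.biprod {P : ObjectProperty C} (hsum : ∀ X Y : C, P X → P Y → P (X ⨯ Y))
    [P.IsClosedUnderIsomorphisms]
    {n : ℤ} {X Y : DerivedCategory C} [HasBinaryBiproduct X Y]
    (hX : NPC P n X) (hY : NPC P n Y) : NPC P n (X ⊞ Y) := by
  obtain ⟨E₁, ⟨⟨b₁, hb₁⟩, hP₁⟩, ⟨e₁⟩⟩ := hX
  obtain ⟨E₂, ⟨⟨b₂, hb₂⟩, hP₂⟩, ⟨e₂⟩⟩ := hY
  haveI : PreservesBinaryBiproducts (DerivedCategory.Q (C := C)) :=
    preservesBinaryBiproducts_of_preservesBiproducts _
  refine ⟨E₁ ⊞ E₂, ⟨⟨max b₁ b₂, ?_⟩, ?_⟩,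
    ⟨DerivedCategory.Q.mapBiprod E₁ E₂ ≪≫ biprod.mapIso e₁ e₂⟩⟩
  · intro i hi
    refine IsZero.of_iso ?_ (HomologicalComplex.biprodXIso E₁ E₂ i)
    rw [biprod_isZero_iff]
    exact ⟨hb₁ i (lt_of_le_of_lt (le_max_left _ _) hi),
      hb₂ i (lt_of_le_of_lt (le_max_right _ _) hi)⟩
  · intro i hi
    exact (P.prop_iff_of_iso (HomologicalComplex.biprodXIso E₁ E₂ i ≪≫ biprod.isoProd _ _)).2
      (hsum _ _ (hP₁ i hi) (hP₂ i hi))

/-- objects acyclic in degrees `≥ n` are `n`-pseudo-coherent. -/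
lemma NPC.of_acyclic (P : ObjectProperty C) [P.IsClosedUnderIsomorphisms] [P.ContainsZero] (n : ℤ) (F : DerivedCategory C)
    (hac : ∀ i : ℤ, n ≤ i → IsZero ((DerivedCategory.homologyFunctor C i).obj F)) :
    NPC P n F := by
  haveI : F.IsLE (n - 1) := (DerivedCategory.isLE_iff F (n - 1)).2 (fun i hi => hac i (by omega))
  obtain ⟨K, hK, ⟨e⟩⟩ := DerivedCategory.exists_iso_Q_obj_of_isLE F (n - 1)
  refine ⟨K, ⟨⟨n - 1, fun i hi => CochainComplex.isZero_of_isStrictlyLE K (n - 1) i hi⟩,
    fun i hi => P.prop_of_isZero (CochainComplex.isZero_of_isStrictlyLE K (n - 1) i (by omega))⟩,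
    ⟨e.symm⟩⟩

/-- vanishing of the cohomology of an `n`-pseudo-coherent object above some degree `≥ n - 1`. -/
lemma NPC.exists_bound {P : ObjectProperty C} {n : ℤ} {F : DerivedCategory C} (h : NPC P n F) :
    ∃ b : ℤ, n - 1 ≤ b ∧ ∀ i : ℤ, b < i → IsZero ((DerivedCategory.homologyFunctor C i).obj F) := by
  obtain ⟨E, ⟨⟨b, hb⟩, -⟩, ⟨e⟩⟩ := h
  refine ⟨max b (n - 1), le_max_right _ _, fun i hi => ?_⟩
  have h1 : IsZero (E.homology i) :=
    isZero_homology_of_isZero_X E i (hb i (lt_of_le_of_lt (le_max_left _ _) hi))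
  exact (h1.of_iso ((DerivedCategory.homologyFunctorFactors C i).app E)).of_iso
    ((DerivedCategory.homologyFunctor C i).mapIso e.symm)

/-- the cone of a map which is epi on `H^b`, from an object with no `H^{b+1}` to one with no
`H^i`, `i > b`, has no `H^i` for `i ≥ b`. -/
lemma exists_cone_top_vanish {X₁ X₂ : DerivedCategory C} (s : X₁ ⟶ X₂) (b : ℤ)
    (hs : Epi ((DerivedCategory.homologyFunctor C b).map s))
    (h1 : ∀ i : ℤ, b < i → IsZero ((DerivedCategory.homologyFunctor C i).obj X₁))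
    (h2 : ∀ i : ℤ, b < i → IsZero ((DerivedCategory.homologyFunctor C i).obj X₂)) :
    ∃ (X₃ : DerivedCategory C) (g : X₂ ⟶ X₃) (h : X₃ ⟶ X₁⟦(1 : ℤ)⟧),
      Triangle.mk s g h ∈ distTriang _ ∧
        ∀ i : ℤ, b ≤ i → IsZero ((DerivedCategory.homologyFunctor C i).obj X₃) := by
  obtain ⟨X₃, g, h, hT⟩ := distinguished_cocone_triangle s
  refine ⟨X₃, g, h, hT, fun i hi => ?_⟩
  have e3 := DerivedCategory.HomologySequence.exact₃ _ hT i (i + 1) rfl
  refine e3.isZero_of_both_zeros ?_ ((h1 (i + 1) (by omega)).eq_of_tgt _ _)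
  rcases eq_or_lt_of_le hi with rfl | hi'
  · exact (DerivedCategory.HomologySequence.epi_homologyMap_mor₁_iff _ hT b).1 hs
  · exact (h2 i hi').eq_of_src _ _

/-- direct summands of `n`-pseudo-coherent objects. -/
theorem NPC.summand (P : ObjectProperty C) [P.IsClosedUnderIsomorphisms] [P.ContainsZero]
    (hsum : ∀ X Y : C, P X → P Y → P (X ⨯ Y))
    (hqs : PCoh.IsQuasiStableUnderKernels P) (hql : PCoh.IsQuasiLiftable P) (n : ℤ) :
    ∀ (k : ℕ) (b : ℤ), b ≤ n - 1 + k → ∀ (F' F'' : DerivedCategory C),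
      (∀ i : ℤ, b < i → IsZero ((DerivedCategory.homologyFunctor C i).obj (F' ⊞ F''))) →
      NPC P n (F' ⊞ F'') → NPC P n F' := by
  have hret : ∀ (F' F'' : DerivedCategory C) (i : ℤ),
      IsZero ((DerivedCategory.homologyFunctor C i).obj (F' ⊞ F'')) →
      IsZero ((DerivedCategory.homologyFunctor C i).obj F') := fun F' F'' i h =>
    isZero_obj_of_retract (DerivedCategory.homologyFunctor C i) (biprod.inl : F' ⟶ F' ⊞ F'')
      biprod.fst biprod.inl_fst h
  intro k
  induction k with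
  | zero =>
    intro b hb F' F'' hac h
    exact NPC.of_acyclic P n F' (fun i hi => hret F' F'' i (hac i (by simp at hb; omega)))
  | succ k ih =>
    intro b hb F' F'' hac h
    by_cases hb' : b ≤ n - 1 + k
    · exact ih b hb' F' F'' hac h
    have hnb : n ≤ b := by push_cast at hb; omega
    -- `H^b` of the sum is of finite type
    have hft : PCoh.IsOfFiniteType P ((DerivedCategory.homologyFunctor C b).obj (F' ⊞ F'')) :=
      (npc_iff_isOfFiniteType P hsum hqs hql b (F' ⊞ F'') hac).1 (h.mono hnb)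
    -- single complexes mapping onto `H^b` of a summand
    have key : ∀ (G : DerivedCategory C) (p : F' ⊞ F'' ⟶ G) (_ : IsSplitEpi p),
        ∃ (L : C) (_ : P L) (s : DerivedCategory.Q.obj
          ((HomologicalComplex.single C (ComplexShape.up ℤ) b).obj L) ⟶ G),
          Epi ((DerivedCategory.homologyFunctor C b).map s) := by
      intro G p hp
      let G₀ := DerivedCategory.Q.objPreimage G
      let eG : DerivedCategory.Q.obj G₀ ≅ G := DerivedCategory.Q.objObjPreimageIso G
      have eH : G₀.homology b ≅ (DerivedCategory.homologyFunctor C b).obj G :=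
        ((DerivedCategory.homologyFunctorFactors C b).app G₀).symm ≪≫
          (DerivedCategory.homologyFunctor C b).mapIso eG
      obtain ⟨L₀, π₀, hL₀, hπ₀⟩ := hft
      haveI := hπ₀
      haveI : Epi ((DerivedCategory.homologyFunctor C b).map p) := by
        haveI : IsSplitEpi ((DerivedCategory.homologyFunctor C b).map p) := inferInstance
        infer_instance
      have hG : PCoh.IsOfFiniteType P (G₀.homology b) :=
        ⟨L₀, π₀ ≫ (DerivedCategory.homologyFunctor C b).map p ≫ eH.inv, hL₀,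
          epi_comp _ _⟩
      obtain ⟨L, hL, ζ, hζ⟩ := exists_single_hom_epi_of_finiteType P hql G₀ b hG
      refine ⟨L, hL, DerivedCategory.Q.map ζ ≫ eG.hom, ?_⟩
      rw [CategoryTheory.Functor.map_comp]
      haveI := (epi_homologyFunctor_map_Q_iff ζ b).2 hζ
      infer_instance
    obtain ⟨L', hL', s', hs'⟩ := key F' biprod.fst inferInstance
    obtain ⟨L'', hL'', s'', hs''⟩ := key F'' biprod.snd inferInstance
    have hSz : ∀ (L : C) (i : ℤ), b < i → IsZero ((DerivedCategory.homologyFunctor C i).obj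
        (DerivedCategory.Q.obj ((HomologicalComplex.single C (ComplexShape.up ℤ) b).obj L))) :=
      fun L i hi => ((HomologicalComplex.exactAt_single_obj _ _ _ _
        (by omega)).isZero_homology).of_iso ((DerivedCategory.homologyFunctorFactors C i).app _)
    have hSnpc : ∀ (L : C), P L → ∀ m : ℤ, NPC P m (DerivedCategory.Q.obj
        ((HomologicalComplex.single C (ComplexShape.up ℤ) b).obj L)) := fun L hL m =>
      ⟨_, ⟨⟨b, fun i hi => HomologicalComplex.isZero_single_obj_X _ _ _ _ (by omega)⟩,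
        fun i _ => by
          by_cases h : i = b
          · subst h
            exact P.prop_of_iso (HomologicalComplex.singleObjXSelf (ComplexShape.up ℤ) i L).symm hL
          · exact P.prop_of_isZero (HomologicalComplex.isZero_single_obj_X _ _ _ _ h)⟩,
        ⟨Iso.refl _⟩⟩
    obtain ⟨G', g', h', hT', hz'⟩ := exists_cone_top_vanish s' b hs' (hSz L')
      (fun i hi => hret F' F'' i (hac i hi))
    obtain ⟨G'', g'', h'', hT'', hz''⟩ := exists_cone_top_vanish s'' b hs'' (hSz L'')
      (fun i hi => isZero_obj_of_retract (DerivedCategory.homologyFunctor C i)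
        (biprod.inr : F'' ⟶ F' ⊞ F'') biprod.snd biprod.inr_snd (hac i hi))
    obtain ⟨T, hT, ⟨i1⟩, ⟨i2⟩, ⟨i3⟩⟩ := exists_sum_triangle _ _ hT' hT''
    have h1 : NPC P (n + 1) T.obj₁ :=
      (NPC.biprod hsum (hSnpc L' hL' (n + 1)) (hSnpc L'' hL'' (n + 1))).of_iso i1.symm
    have h2 : NPC P n T.obj₂ := h.of_iso i2.symm
    have h3 : NPC P n (G' ⊞ G'') := (NPC.cone P hsum hqs hql n T hT h1 h2).of_iso i3
    have hz3 : ∀ i : ℤ, b - 1 < i →
        IsZero ((DerivedCategory.homologyFunctor C i).obj (G' ⊞ G'')) := by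
      intro i hi
      rw [IsZero.iff_id_eq_zero, ← CategoryTheory.Functor.map_id, ← biprod.total,
        CategoryTheory.Functor.map_add, CategoryTheory.Functor.map_comp,
        CategoryTheory.Functor.map_comp,
        (hz' i (by omega)).eq_of_tgt ((DerivedCategory.homologyFunctor C i).map biprod.fst) 0,
        (hz'' i (by omega)).eq_of_tgt ((DerivedCategory.homologyFunctor C i).map biprod.snd) 0,
        zero_comp, zero_comp, add_zero]
    have hG' : NPC P n G' := ih (b - 1) (by push_cast at hb; omega) G' G'' hz3 h3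
    exact (NPC.two_of_three P hsum hqs hql n _ hT').2.1 (hSnpc L' hL' n) hG'

/-- S5605. -/
theorem NPC.biprod_iff (P : ObjectProperty C) [P.IsClosedUnderIsomorphisms] [P.ContainsZero]
    (hsum : ∀ X Y : C, P X → P Y → P (X ⨯ Y))
    (hqs : PCoh.IsQuasiStableUnderKernels P) (hql : PCoh.IsQuasiLiftable P) (n : ℤ)
    (F' F'' : DerivedCategory C) : NPC P n (F' ⊞ F'') ↔ NPC P n F' ∧ NPC P n F'' := by
  constructor
  · intro h
    obtain ⟨b, hnb, hb⟩ := h.exists_bound
    have hk : b ≤ n - 1 + ((b - (n - 1)).toNat : ℤ) := by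
      rw [Int.toNat_of_nonneg (by omega)]; omega
    refine ⟨NPC.summand P hsum hqs hql n _ b hk F' F'' hb h,
      NPC.summand P hsum hqs hql n _ b hk F'' F' ?_ (h.of_iso (biprod.braiding F' F''))⟩
    intro i hi
    exact (hb i hi).of_iso ((DerivedCategory.homologyFunctor C i).mapIso (biprod.braiding F'' F'))
  · rintro ⟨h', h''⟩
    exact NPC.biprod hsum h' h''

end Groth.Agent.Lib.helper23.PCohCore
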