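import Mathlib
import Groth.Prelude.Def_PCoh
import Groth.Agent.Lib.Helper23.PCohCore6

set_option autoImplicit false
universe w v u
open CategoryTheory CategoryTheory.Limits HomologicalComplex CochainComplex
open CategoryTheory.Pretriangulated

namespace Groth.Agent.Lib.helper23.PCohCore

open Groth.Agent.Lib.helper23.NQuasiIso Groth.Agent.Lib.helper23.PCohAmp

variable {C : Type u} [Category.{v} C] [Abelian C] [HasDerivedCategory.{w} C]

lemma NPC.of_isZero (P : ObjectProperty C) [P.IsClosedUnderIsomorphisms] [P.ContainsZero] (n : ℤ)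
    {F : DerivedCategory C} (hF : IsZero F) : NPC P n F :=
  NPC.of_acyclic P n F (fun i _ => (DerivedCategory.homologyFunctor C i).map_isZero hF)

/-- from `Y[0]` to `Y[-a]`. -/
lemma NPC.single_shift {P : ObjectProperty C} {m : ℤ} {Y : C}
    (h : NPC P m ((DerivedCategory.singleFunctor C 0).obj Y)) (a : ℤ) :
    NPC P (m + a) ((DerivedCategory.singleFunctor C a).obj Y) := by
  have h1 := h.shift (-a)
  rw [show m - -a = m + a by ring] at h1
  exact h1.of_iso (((DerivedCategory.singleFunctors C).shiftIso (-a) a 0 (by simp)).app Y)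

/-- `H^b(Y[-b]) ≅ Y`. -/
noncomputable def homologySingleIso (b : ℤ) (Y : C) :
    (DerivedCategory.homologyFunctor C b).obj ((DerivedCategory.singleFunctor C b).obj Y) ≅ Y :=
  (DerivedCategory.homologyFunctorFactors C b).app
      ((HomologicalComplex.single C (ComplexShape.up ℤ) b).obj Y) ≪≫
    HomologicalComplex.singleObjHomologySelfIso (ComplexShape.up ℤ) b Y

/-- S5604: criterion on cohomology objects. -/
theorem NPC.of_homology_aux (P : ObjectProperty C) [P.IsClosedUnderIsomorphisms] [P.ContainsZero]
    (hsum : ∀ X Y : C, P X → P Y → P (X ⨯ Y))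
    (hqs : PCoh.IsQuasiStableUnderKernels P) (hql : PCoh.IsQuasiLiftable P) (n : ℤ) :
    ∀ (k : ℕ) (b : ℤ), b ≤ n - 1 + k → ∀ (F : DerivedCategory C),
      (∀ i : ℤ, b < i → IsZero ((DerivedCategory.homologyFunctor C i).obj F)) →
      (∀ i : ℤ, n ≤ i → NPC P (n - i) ((DerivedCategory.singleFunctor C 0).obj
        ((DerivedCategory.homologyFunctor C i).obj F))) → NPC P n F := by
  intro k
  induction k with
  | zero =>
    intro b hb F hac _
    exact NPC.of_acyclic P n F (fun i hi => hac i (by simp at hb; omega))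
  | succ k ih =>
    intro b hb F hac hfp
    by_cases hb' : b ≤ n - 1 + k
    · exact ih b hb' F hac hfp
    have hnb : n ≤ b := by push_cast at hb; omega
    let t := DerivedCategory.TStructure.t (C := C)
    let T := (t.triangleLTGE b).obj F
    have hT : T ∈ distTriang _ := t.triangleLTGE_distinguished b F
    haveI h1LE : T.obj₁.IsLE (b - 1) := by
      dsimp [T]; infer_instance
    haveI h3GE : T.obj₃.IsGE b := by
      dsimp [T]; infer_instance
    have hz1 : ∀ i : ℤ, b - 1 < i → IsZero ((DerivedCategory.homologyFunctor C i).obj T.obj₁) :=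
      fun i hi => DerivedCategory.isZero_of_isLE T.obj₁ (b - 1) i hi
    have hz3 : ∀ i : ℤ, i < b → IsZero ((DerivedCategory.homologyFunctor C i).obj T.obj₃) :=
      fun i hi => DerivedCategory.isZero_of_isGE T.obj₃ b i hi
    have hz2 : ∀ i : ℤ, b < i → IsZero ((DerivedCategory.homologyFunctor C i).obj T.obj₂) := hac
    -- `H^i(mor₁)` is an isomorphism for `i < b`
    have hiso1 : ∀ i : ℤ, i < b → IsIso ((DerivedCategory.homologyFunctor C i).map T.mor₁) := by
      intro i hi
      haveI : Mono ((DerivedCategory.homologyFunctor C i).map T.mor₁) :=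
        (DerivedCategory.HomologySequence.mono_homologyMap_mor₁_iff _ hT (i - 1) i (by simp)).2
          ((hz3 (i - 1) (by omega)).eq_of_src _ _)
      haveI : Epi ((DerivedCategory.homologyFunctor C i).map T.mor₁) :=
        (DerivedCategory.HomologySequence.epi_homologyMap_mor₁_iff _ hT i).2
          ((hz3 i hi).eq_of_tgt _ _)
      exact isIso_of_mono_of_epi _
    -- the truncation below `b`
    have hX1 : NPC P n T.obj₁ := by
      refine ih (b - 1) (by push_cast at hb; omega) T.obj₁ hz1 (fun i hi => ?_)
      by_cases hib : i < b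
      · haveI := hiso1 i hib
        exact (hfp i hi).of_iso ((DerivedCategory.singleFunctor C 0).mapIso
          (asIso ((DerivedCategory.homologyFunctor C i).map T.mor₁)).symm)
      · exact NPC.of_isZero P _
          ((DerivedCategory.singleFunctor C 0).map_isZero (hz1 i (by omega)))
    -- the top cohomology
    haveI h3LE : T.obj₃.IsLE b := by
      rw [DerivedCategory.isLE_iff]
      intro i hi
      exact (DerivedCategory.HomologySequence.exact₃ _ hT i (i + 1) rfl).isZero_of_both_zeros
        ((hz2 i hi).eq_of_src _ _) ((hz1 (i + 1) (by omega)).eq_of_tgt _ _)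
    obtain ⟨Y, ⟨e⟩⟩ := DerivedCategory.exists_iso_singleFunctor_obj_of_isGE_of_isLE T.obj₃ b
    haveI : Mono ((DerivedCategory.homologyFunctor C b).map T.mor₂) :=
      (DerivedCategory.HomologySequence.mono_homologyMap_mor₂_iff _ hT b).2
        ((hz1 b (by omega)).eq_of_src _ _)
    haveI : Epi ((DerivedCategory.homologyFunctor C b).map T.mor₂) :=
      (DerivedCategory.HomologySequence.epi_homologyMap_mor₂_iff _ hT b (b + 1) rfl).2
        ((hz1 (b + 1) (by omega)).eq_of_tgt _ _)
    have hiso2 : IsIso ((DerivedCategory.homologyFunctor C b).map T.mor₂) :=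
      isIso_of_mono_of_epi _
    obtain ⟨m₂, hm₂⟩ : ∃ m₂ : (DerivedCategory.homologyFunctor C b).obj F ⟶
        (DerivedCategory.homologyFunctor C b).obj T.obj₃,
        m₂ = (DerivedCategory.homologyFunctor C b).map T.mor₂ := ⟨_, rfl⟩
    haveI : IsIso m₂ := by rw [hm₂]; exact hiso2
    let iso₀ : (DerivedCategory.homologyFunctor C b).obj F ≅ Y :=
      asIso m₂ ≪≫
        (DerivedCategory.homologyFunctor C b).mapIso e ≪≫ homologySingleIso b Y
    have hY : NPC P (n - b) ((DerivedCategory.singleFunctor C 0).obj Y) :=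
      (hfp b hnb).of_iso ((DerivedCategory.singleFunctor C 0).mapIso iso₀)
    have hY' : NPC P n ((DerivedCategory.singleFunctor C b).obj Y) := by
      have := hY.single_shift b
      rwa [show n - b + b = n by ring] at this
    have hX3 : NPC P n T.obj₃ := hY'.of_iso e.symm
    exact (NPC.two_of_three P hsum hqs hql n T hT).2.1 hX1 hX3

theorem NPC.of_homology (P : ObjectProperty C) [P.IsClosedUnderIsomorphisms] [P.ContainsZero]
    (hsum : ∀ X Y : C, P X → P Y → P (X ⨯ Y))
    (hqs : PCoh.IsQuasiStableUnderKernels P) (hql : PCoh.IsQuasiLiftable P)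
    (n : ℤ) (F : DerivedCategory C) (b : ℤ)
    (hb : ∀ i : ℤ, b < i → IsZero ((DerivedCategory.homologyFunctor C i).obj F))
    (hfp : ∀ i : ℤ, n ≤ i → NPC P (n - i) ((DerivedCategory.singleFunctor C 0).obj
      ((DerivedCategory.homologyFunctor C i).obj F))) : NPC P n F := by
  refine NPC.of_homology_aux P hsum hqs hql n (max b (n - 1) - (n - 1)).toNat (max b (n - 1)) ?_ F
    (fun i hi => hb i (lt_of_le_of_lt (le_max_left _ _) hi)) hfp
  have : n - 1 ≤ max b (n - 1) := le_max_right _ _
  rw [Int.toNat_of_nonneg (by omega)]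
  omega

end Groth.Agent.Lib.helper23.PCohCore
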