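import Mathlib
import Groth.Prelude.Def_PCoh
import Groth.Agent.Lib.Helper23.PCohCore7

set_option autoImplicit false
universe w v u
open CategoryTheory CategoryTheory.Limits HomologicalComplex CochainComplex
open CategoryTheory.Pretriangulated

namespace Groth.Agent.Lib.helper23.PCohCore

open Groth.Agent.Lib.helper23.NQuasiIso Groth.Agent.Lib.helper23.PCohAmp

variable {C : Type u} [Category.{v} C] [Abelian C] [HasDerivedCategory.{w} C]

/-- S5619: termwise criterion. -/
theorem NPC.of_terms_aux (P : ObjectProperty C) [P.IsClosedUnderIsomorphisms] [P.ContainsZero]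
    (hsum : ∀ X Y : C, P X → P Y → P (X ⨯ Y))
    (hqs : PCoh.IsQuasiStableUnderKernels P) (hql : PCoh.IsQuasiLiftable P) (n : ℤ) :
    ∀ (k : ℕ) (b : ℤ), b ≤ n - 1 + k → ∀ (F : CochainComplex C ℤ),
      (∀ i : ℤ, b < i → IsZero (F.X i)) →
      (∀ i : ℤ, n ≤ i → NPC P (n - i) ((DerivedCategory.singleFunctor C 0).obj (F.X i))) →
      NPC P n (DerivedCategory.Q.obj F) := by
  intro k
  induction k with
  | zero =>
    intro b hb F hz _
    exact ⟨F, ⟨⟨b, hz⟩, fun i hi => P.prop_of_isZero (hz i (by simp at hb; omega))⟩,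
      ⟨Iso.refl _⟩⟩
  | succ k ih =>
    intro b hb F hz hfp
    by_cases hb' : b ≤ n - 1 + k
    · exact ih b hb' F hz hfp
    have hnb : n ≤ b := by push_cast at hb; omega
    let S := (HomologicalComplex.single C (ComplexShape.up ℤ) b).obj (F.X b)
    let ι : S ⟶ F := HomologicalComplex.mkHomFromSingle (𝟙 (F.X b)) (fun k hk => by
      simp only [ComplexShape.up_Rel] at hk
      subst hk
      exact (hz (b + 1) (by omega)).eq_of_tgt _ _)
    haveI hιb : IsIso (ι.f b) := by
      dsimp [ι]
      rw [HomologicalComplex.mkHomFromSingle_f]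
      infer_instance
    have hSz : ∀ i : ℤ, i ≠ b → IsZero (S.X i) := fun i hi =>
      HomologicalComplex.isZero_single_obj_X (ComplexShape.up ℤ) b _ i hi
    have hιf : ∀ i, Mono (ι.f i) := by
      intro i
      by_cases hi : i = b
      · subst hi; infer_instance
      · exact ⟨fun _ _ _ => (hSz i hi).eq_of_tgt _ _⟩
    haveI : Mono ι := HomologicalComplex.mono_of_mono_f ι hιf
    let S₁ : ShortComplex (CochainComplex C ℤ) :=
      ShortComplex.mk ι (cokernel.π ι) (cokernel.condition ι)
    haveI : Mono S₁.f := by dsimp [S₁]; infer_instance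
    haveI : Epi S₁.g := by dsimp [S₁]; infer_instance
    have hS₁ : S₁.ShortExact :=
      { exact := ShortComplex.exact_of_g_is_cokernel _ (cokernelIsCokernel ι) }
    have hS₁i := fun i => hS₁.map_of_exact (HomologicalComplex.eval C (ComplexShape.up ℤ) i)
    -- terms of the cokernel
    have hKiso : ∀ i : ℤ, i ≠ b → IsIso ((cokernel.π ι).f i) := by
      intro i hi
      haveI : Mono ((cokernel.π ι).f i) := (hS₁i i).exact.mono_g ((hSz i hi).eq_of_src _ _)
      haveI : Epi ((cokernel.π ι).f i) := (hS₁i i).epi_g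
      exact isIso_of_mono_of_epi _
    have hKb : IsZero ((cokernel ι).X b) := by
      haveI : Epi ((cokernel.π ι).f b) := (hS₁i b).epi_g
      refine IsZero.of_epi_eq_zero ((cokernel.π ι).f b) ?_
      rw [← cancel_epi (ι.f b), comp_zero, ← HomologicalComplex.comp_f, cokernel.condition,
        HomologicalComplex.zero_f]
    have hKz : ∀ i : ℤ, b - 1 < i → IsZero ((cokernel ι).X i) := by
      intro i hi
      by_cases hib : i = b
      · subst hib; exact hKb
      · haveI := hKiso i hib
        exact (hz i (by omega)).of_iso (asIso ((cokernel.π ι).f i)).symm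
    have hK : NPC P n (DerivedCategory.Q.obj (cokernel ι)) := by
      refine ih (b - 1) (by push_cast at hb; omega) (cokernel ι) hKz (fun i hi => ?_)
      by_cases hib : i = b
      · subst hib
        exact NPC.of_isZero P _ ((DerivedCategory.singleFunctor C 0).map_isZero hKb)
      · haveI := hKiso i hib
        exact (hfp i hi).of_iso ((DerivedCategory.singleFunctor C 0).mapIso
          (asIso ((cokernel.π ι).f i)))
    have hS : NPC P n (DerivedCategory.Q.obj S) := by
      have := (hfp b hnb).single_shift b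
      rwa [show n - b + b = n by ring] at this
    exact (NPC.two_of_three P hsum hqs hql n _
      (DerivedCategory.triangleOfSES_distinguished hS₁)).2.1 hS hK

theorem NPC.of_terms (P : ObjectProperty C) [P.IsClosedUnderIsomorphisms] [P.ContainsZero]
    (hsum : ∀ X Y : C, P X → P Y → P (X ⨯ Y))
    (hqs : PCoh.IsQuasiStableUnderKernels P) (hql : PCoh.IsQuasiLiftable P)
    (n : ℤ) (F : CochainComplex C ℤ) (b : ℤ) (hb : ∀ i : ℤ, b < i → IsZero (F.X i))
    (hfp : ∀ i : ℤ, n ≤ i → NPC P (n - i) ((DerivedCategory.singleFunctor C 0).obj (F.X i))) :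
    NPC P n (DerivedCategory.Q.obj F) := by
  refine NPC.of_terms_aux P hsum hqs hql n (max b (n - 1) - (n - 1)).toNat (max b (n - 1)) ?_ F
    (fun i hi => hb i (lt_of_le_of_lt (le_max_left _ _) hi)) hfp
  have : n - 1 ≤ max b (n - 1) := le_max_right _ _
  rw [Int.toNat_of_nonneg (by omega)]
  omega

end Groth.Agent.Lib.helper23.PCohCore
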