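import Mathlib

set_option autoImplicit false
universe u
open CategoryTheory CategoryTheory.Limits TopologicalSpace Opposite

namespace Groth.Agent.Lib.helper23.ClosedEmb

section General
variable {C D : Type*} [Category C] [Category D] [Abelian C] [Abelian D] [HasInjectiveResolutions C]

lemma isZero_rightDerived_succ_of_preservesHomology (F : C ⥤ D) [F.Additive] [F.PreservesHomology]
    (n : ℕ) (X : C) : IsZero ((F.rightDerived (n+1)).obj X) := by
  let I : InjectiveResolution X := injectiveResolution X
  refine IsZero.of_iso ?_ (I.isoRightDerivedObj F (n+1))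
  erw [← HomologicalComplex.exactAt_iff_isZero_homology]
  have h := I.cocomplex_exactAt_succ n
  exact ShortComplex.Exact.map h F

end General

section Top
open AlgebraicGeometry

variable {X Y : TopCat.{u}} (f : X ⟶ Y) (hf : Topology.IsClosedEmbedding f)

abbrev Ab (X : TopCat.{u}) := Sheaf (Opens.grothendieckTopology X) AddCommGrpCat.{u}

include hf in
lemma locSurj_push {F G : Ab X} (φ : F ⟶ G) (h : TopCat.Presheaf.IsLocallySurjective φ.hom) :
    TopCat.Presheaf.IsLocallySurjective
      ((TopCat.Sheaf.pushforward AddCommGrpCat.{u} f).map φ).hom := by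
  rw [TopCat.Presheaf.isLocallySurjective_iff] at h ⊢
  intro V t y hy
  by_cases hyr : y ∈ Set.range f
  · obtain ⟨x, rfl⟩ := hyr
    obtain ⟨U, hU, ⟨s, hs⟩, hxU⟩ := h ((Opens.map f).obj V) t x hy
    obtain ⟨W', hW'o, hW'⟩ := hf.isInducing.isOpen_iff.1 U.2
    let W : Opens Y := ⟨W', hW'o⟩ ⊓ V
    have hWU : (Opens.map f).obj W ≤ U := by
      intro z hz
      have : f z ∈ W' := hz.1
      have : z ∈ f ⁻¹' W' := this
      rw [hW'] at this
      exact this
    refine ⟨W, inf_le_right, ⟨F.obj.map (homOfLE hWU).op s, ?_⟩, ?_⟩
    · have h1 : φ.hom.app (op ((Opens.map f).obj W)) (F.obj.map (homOfLE hWU).op s) =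
          G.obj.map (homOfLE hWU).op (φ.hom.app (op U) s) := by
        rw [← ConcreteCategory.comp_apply, ← ConcreteCategory.comp_apply, NatTrans.naturality]
      rw [hs] at h1
      refine h1.trans ?_
      delta TopCat.Presheaf.restrictOpen TopCat.Presheaf.restrict
      rw [← ConcreteCategory.comp_apply, ← Functor.map_comp]
      rfl
    · refine ⟨?_, hy⟩
      show f x ∈ W'
      have : x ∈ f ⁻¹' W' := by rw [hW']; exact hxU
      exact this
  · have hcl : IsClosed (Set.range f) := hf.isClosed_range
    let W : Opens Y := V ⊓ ⟨(Set.range f)ᶜ, hcl.isOpen_compl⟩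
    have hW : (Opens.map f).obj W = ⊥ := by
      ext z
      simp only [Opens.map_coe, Set.mem_preimage, SetLike.mem_coe, Opens.coe_bot,
        Set.mem_empty_iff_false, iff_false]
      intro hz
      exact hz.2 ⟨z, rfl⟩
    have hterm := TopCat.Sheaf.isTerminalOfEqEmpty G hW
    have hsub : Subsingleton (G.obj.obj (op ((Opens.map f).obj W))) :=
      AddCommGrpCat.subsingleton_of_isZero (IsZero.of_iso (isZero_zero _)
        (hterm.uniqueUpToIso (IsZero.isTerminal (isZero_zero _))))
    refine ⟨W, inf_le_left, ⟨0, ?_⟩, ⟨hy, hyr⟩⟩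
    exact Subsingleton.elim (α := G.obj.obj (op ((Opens.map f).obj W))) _ _

/-- pushforward of abelian sheaves, typed between `Ab X` and `Ab Y`. -/
noncomputable abbrev push : Ab X ⥤ Ab Y := TopCat.Sheaf.pushforward AddCommGrpCat.{u} f

instance pushAdditive : (push f).Additive where

include hf in
lemma preservesEpi_push : (push f).PreservesEpimorphisms where
  preserves φ hφ := by
    have h1 : TopCat.Presheaf.IsLocallySurjective φ.hom :=
      (CategoryTheory.Sheaf.isLocallySurjective_iff_epi' (φ := φ)).2 hφ
    exact (CategoryTheory.Sheaf.isLocallySurjective_iff_epi' (φ := (push f).map φ)).1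
      (locSurj_push f hf φ h1)

include hf in
lemma preservesHomology_push : (push f).PreservesHomology := by
  have hlim : PreservesFiniteLimits (push f) := by
    have h : PreservesLimitsOfSize.{0, 0} (push f) :=
      (TopCat.Sheaf.pullbackPushforwardAdjunction AddCommGrpCat.{u} f).rightAdjoint_preservesLimits
    exact PreservesLimitsOfSize.preservesFiniteLimits _
  have hepi := preservesEpi_push f hf
  have hcolim : PreservesFiniteColimits (push f) := by
    have h03 := (Functor.preservesFiniteColimits_tfae
      (push f)).out 0 3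
    have h30 := (Functor.preservesFiniteLimits_tfae
      (push f)).out 3 0
    refine h03.1 ?_
    intro S hS
    refine ⟨(h30.1 hlim S hS).1, ?_⟩
    have := hS.epi_g
    infer_instance
  have h32 := (Functor.exact_tfae (push f)).out 3 2
  exact h32.1 ⟨hlim, hcolim⟩

include hf in
theorem isZero_Rpush_succ (F : Ab X) (q : ℕ) :
    IsZero (((push f).rightDerived (q + 1)).obj F) := by
  have := preservesHomology_push f hf
  exact isZero_rightDerived_succ_of_preservesHomology _ q F

end Top

end Groth.Agent.Lib.helper23.ClosedEmb
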