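import Mathlib

/-!
# helper23: Tor-amplitude library, part 1 (module level)

* `flat_of_exact`: the kernel of a surjection between flat modules is flat;
* `flat_ker`, `lTensor_exact_of_flat`: a bounded above complex of flat modules which is exact in
  high degrees has flat cycles there and stays exact there after tensoring with any module;
* `flat_quotient_range`: if `N ⊗ X₁ → N ⊗ X₂ → N ⊗ X₃` is exact for every `N` and `X₃` is flat then
  `X₃ / im` is flat.
-/

set_option autoImplicit false
universe u
open TensorProduct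

namespace Groth.Agent.Lib.helper23.TA

variable {A : Type u} [CommRing A]

/-- the kernel of a surjection between flat modules is flat. -/
theorem flat_of_exact {K F P : Type u} [AddCommGroup K] [Module A K] [AddCommGroup F] [Module A F]
    [AddCommGroup P] [Module A P] [Module.Flat A F] [Module.Flat A P]
    (f : K →ₗ[A] F) (g : F →ₗ[A] P) (hf : Function.Injective f) (hg : Function.Surjective g)
    (hex : Function.Exact f g) : Module.Flat A K := by
  rw [Module.Flat.iff_rTensor_preserves_injective_linearMap]
  intro N N' _ _ _ _ i hi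
  have h1 : Function.Injective (f.lTensor N) :=
    LinearMap.lTensor_injective_of_exact_of_flat g hg f hf hex N
  have h2 : Function.Injective (i.rTensor F) :=
    Module.Flat.rTensor_preserves_injective_linearMap i hi
  have h3 : (f.lTensor N') ∘ₗ (i.rTensor K) = (i.rTensor F) ∘ₗ (f.lTensor N) := by
    rw [LinearMap.lTensor_comp_rTensor, LinearMap.rTensor_comp_lTensor]
  have h4 : Function.Injective ((f.lTensor N') ∘ₗ (i.rTensor K)) := by
    rw [h3]
    exact h2.comp h1
  exact Function.Injective.of_comp h4

section Core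

variable (X : ℤ → Type u) [∀ i, AddCommGroup (X i)] [∀ i, Module A (X i)]
  (d : ∀ i, X i →ₗ[A] X (i + 1))

/-- the map `X i → ker (d (i+1))`. -/
noncomputable def toKer (i : ℤ) (h : Function.Exact (d i) (d (i + 1))) :
    X i →ₗ[A] LinearMap.ker (d (i + 1)) :=
  (d i).codRestrict _ (fun x => h.apply_apply_eq_zero x)

lemma toKer_surjective (i : ℤ) (h : Function.Exact (d i) (d (i + 1))) :
    Function.Surjective (toKer X d i h) := by
  rintro ⟨y, hy⟩
  obtain ⟨x, rfl⟩ := (h y).1 hy
  exact ⟨x, rfl⟩

lemma exact_subtype_toKer (i : ℤ) (h : Function.Exact (d i) (d (i + 1))) :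
    Function.Exact (LinearMap.ker (d i)).subtype (toKer X d i h) := by
  intro y
  constructor
  · intro hy
    have : d i y = 0 := congrArg Subtype.val hy
    exact ⟨⟨y, this⟩, rfl⟩
  · rintro ⟨⟨z, hz⟩, rfl⟩
    apply Subtype.ext
    exact hz

lemma subtype_comp_toKer (i : ℤ) (h : Function.Exact (d i) (d (i + 1))) :
    (LinearMap.ker (d (i + 1))).subtype ∘ₗ toKer X d i h = d i := rfl

/-- cycles are flat in the exact range of a bounded above complex of flat modules. -/
theorem flat_ker (hflat : ∀ i, Module.Flat A (X i)) (c : ℤ) (hc : ∀ i, c < i → Subsingleton (X i))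
    (b : ℤ) (hex : ∀ i, b ≤ i → Function.Exact (d i) (d (i + 1))) :
    ∀ i, b ≤ i → Module.Flat A (LinearMap.ker (d i)) := by
  suffices H : ∀ (n : ℕ) (i : ℤ), b ≤ i → c < i + n → Module.Flat A (LinearMap.ker (d i)) by
    intro i hi
    exact H (c + 1 - i).toNat i hi (by have := Int.self_le_toNat (c + 1 - i); omega)
  intro n
  induction n with
  | zero =>
    intro i _ hci
    haveI : Subsingleton (X i) := hc i (by simpa using hci)
    haveI : Subsingleton (LinearMap.ker (d i)) := inferInstance
    infer_instance
  | succ n ih =>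
    intro i hi hci
    haveI : Module.Flat A (LinearMap.ker (d (i + 1))) :=
      ih (i + 1) (by omega) (by push_cast at hci; omega)
    haveI := hflat i
    exact flat_of_exact (LinearMap.ker (d i)).subtype (toKer X d i (hex i hi))
      (Submodule.subtype_injective _) (toKer_surjective X d i (hex i hi))
      (exact_subtype_toKer X d i (hex i hi))

/-- a bounded above complex of flat modules which is exact in degrees `> b` stays exact there
after tensoring with any module. -/
theorem lTensor_exact_of_flat (hflat : ∀ i, Module.Flat A (X i)) (c : ℤ)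
    (hc : ∀ i, c < i → Subsingleton (X i))
    (b : ℤ) (hex : ∀ i, b ≤ i → Function.Exact (d i) (d (i + 1)))
    (N : Type u) [AddCommGroup N] [Module A N] (i : ℤ) (hi : b ≤ i) :
    Function.Exact ((d i).lTensor N) ((d (i + 1)).lTensor N) := by
  have e0 := hex i hi
  have e1 := hex (i + 1) (by omega)
  have e2 := hex (i + 1 + 1) (by omega)
  haveI : Module.Flat A (LinearMap.ker (d (i + 1 + 1 + 1))) :=
    flat_ker X d hflat c hc b hex (i + 1 + 1 + 1) (by omega)
  haveI := hflat (i + 1 + 1)
  -- the inclusion of `Z^{i+2}` stays injective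
  have hinj : Function.Injective ((LinearMap.ker (d (i + 1 + 1))).subtype.lTensor N) :=
    LinearMap.lTensor_injective_of_exact_of_flat (toKer X d (i + 1 + 1) e2)
      (toKer_surjective X d (i + 1 + 1) e2) _ (Submodule.subtype_injective _)
      (exact_subtype_toKer X d (i + 1 + 1) e2) N
  have hmid : Function.Exact ((LinearMap.ker (d (i + 1))).subtype.lTensor N)
      ((toKer X d (i + 1) e1).lTensor N) :=
    lTensor_exact N (exact_subtype_toKer X d (i + 1) e1) (toKer_surjective X d (i + 1) e1)
  have hsurj : Function.Surjective ((toKer X d i e0).lTensor N) :=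
    LinearMap.lTensor_surjective N (toKer_surjective X d i e0)
  have h1 : (d i).lTensor N = ((LinearMap.ker (d (i + 1))).subtype.lTensor N) ∘ₗ
      ((toKer X d i e0).lTensor N) := by
    rw [← LinearMap.lTensor_comp, subtype_comp_toKer]
  have h2 : (d (i + 1)).lTensor N = ((LinearMap.ker (d (i + 1 + 1))).subtype.lTensor N) ∘ₗ
      ((toKer X d (i + 1) e1).lTensor N) := by
    rw [← LinearMap.lTensor_comp, subtype_comp_toKer]
  rw [h1, h2]
  rw [Function.Injective.comp_exact_iff_exact hinj, Function.Surjective.comp_exact_iff_exact hsurj]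
  exact hmid

end Core

/-- if `N ⊗ X₁ → N ⊗ X₂ → N ⊗ X₃` is exact for all `N` and `X₃` is flat, then `X₃ / im(X₂)` is
flat. -/
theorem flat_quotient_range {X₁ X₂ X₃ : Type u} [AddCommGroup X₁] [Module A X₁] [AddCommGroup X₂]
    [Module A X₂] [AddCommGroup X₃] [Module A X₃] [Module.Flat A X₃]
    (d₁ : X₁ →ₗ[A] X₂) (d₂ : X₂ →ₗ[A] X₃) (hd : d₂ ∘ₗ d₁ = 0)
    (h : ∀ (N : Type u) [AddCommGroup N] [Module A N],
      Function.Exact (d₁.lTensor N) (d₂.lTensor N)) :
    Module.Flat A (X₃ ⧸ LinearMap.range d₂) := by
  obtain ⟨Z, hZ⟩ : ∃ Z : Submodule A X₃, Z = LinearMap.range d₂ := ⟨_, rfl⟩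
  have hjπ : Function.Exact Z.subtype Z.mkQ := LinearMap.exact_subtype_mkQ Z
  have hπ : Function.Surjective Z.mkQ := Z.mkQ_surjective
  -- `N ⊗ Z → N ⊗ X₃` is injective for all `N`
  have hinj : ∀ (N : Type u) [AddCommGroup N] [Module A N],
      Function.Injective (Z.subtype.lTensor N) := by
    intro N _ _
    let p : X₂ →ₗ[A] Z := d₂.codRestrict Z (fun x => by rw [hZ]; exact LinearMap.mem_range_self _ x)
    have hp : Function.Surjective p := by
      rintro ⟨y, hy⟩
      rw [hZ] at hy
      obtain ⟨x, rfl⟩ := hy
      exact ⟨x, rfl⟩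
    have hd2 : d₂ = Z.subtype ∘ₗ p := rfl
    rw [injective_iff_map_eq_zero]
    intro z hz
    obtain ⟨y, rfl⟩ := LinearMap.lTensor_surjective N hp z
    have h0 : (d₂.lTensor N) y = 0 := by
      rw [hd2, LinearMap.lTensor_comp]
      exact hz
    obtain ⟨x, rfl⟩ := (h N y).1 h0
    have hpd : p ∘ₗ d₁ = 0 := by
      ext x
      have := LinearMap.congr_fun hd x
      simpa [p] using this
    rw [← LinearMap.comp_apply, ← LinearMap.lTensor_comp, hpd, LinearMap.lTensor_zero,
      LinearMap.zero_apply]
  rw [← hZ]
  rw [Module.Flat.iff_rTensor_preserves_injective_linearMap]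
  intro N' N _ _ _ _ i hi
  rw [injective_iff_map_eq_zero]
  intro c hc
  have hiq : Function.Exact i (LinearMap.range i).mkQ := LinearMap.exact_map_mkQ_range i
  have hq : Function.Surjective (LinearMap.range i).mkQ := Submodule.mkQ_surjective _
  obtain ⟨x, rfl⟩ := LinearMap.lTensor_surjective N' hπ c
  have h1 : (Z.mkQ.lTensor N) ((i.rTensor X₃) x) = 0 := by
    rw [← hc, ← LinearMap.comp_apply, ← LinearMap.comp_apply, LinearMap.lTensor_comp_rTensor,
      LinearMap.rTensor_comp_lTensor]
  obtain ⟨z', hz'⟩ := (lTensor_exact N hjπ hπ _).1 h1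
  have h2 : (Z.subtype.lTensor (N ⧸ LinearMap.range i))
      (((LinearMap.range i).mkQ.rTensor Z) z') = 0 := by
    rw [← LinearMap.comp_apply, LinearMap.lTensor_comp_rTensor, ← LinearMap.rTensor_comp_lTensor,
      LinearMap.comp_apply, hz', ← LinearMap.comp_apply, ← LinearMap.rTensor_comp,
      hiq.linearMap_comp_eq_zero, LinearMap.rTensor_zero, LinearMap.zero_apply]
  have h3 : ((LinearMap.range i).mkQ.rTensor Z) z' = 0 :=
    (injective_iff_map_eq_zero _).1 (hinj _) _ h2
  obtain ⟨z, hz⟩ := (rTensor_exact Z hiq hq _).1 h3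
  have h4 : (i.rTensor X₃) (x - (Z.subtype.lTensor N') z) = 0 := by
    have h6 : (i.rTensor X₃) ((Z.subtype.lTensor N') z) =
        (Z.subtype.lTensor N) ((i.rTensor Z) z) := by
      rw [← LinearMap.comp_apply, ← LinearMap.comp_apply, LinearMap.rTensor_comp_lTensor,
        LinearMap.lTensor_comp_rTensor]
    rw [map_sub, ← hz', ← hz, h6, sub_self]
  have h5 : x = (Z.subtype.lTensor N') z := by
    have := (injective_iff_map_eq_zero _).1
      (Module.Flat.rTensor_preserves_injective_linearMap (M := X₃) i hi) _ h4
    exact sub_eq_zero.1 this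
  rw [h5, ← LinearMap.comp_apply, ← LinearMap.lTensor_comp, hjπ.linearMap_comp_eq_zero,
    LinearMap.lTensor_zero, LinearMap.zero_apply]

/-- a product of two flat modules is flat. -/
theorem flat_prod (M N : Type u) [AddCommGroup M] [Module A M] [AddCommGroup N] [Module A N]
    [Module.Flat A M] [Module.Flat A N] : Module.Flat A (M × N) := by
  rw [Module.Flat.iff_rTensor_preserves_injective_linearMap]
  intro K K' _ _ _ _ i hi
  have h1 := Module.Flat.rTensor_preserves_injective_linearMap (M := M) i hi
  have h2 := Module.Flat.rTensor_preserves_injective_linearMap (M := N) i hi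
  have hc : (TensorProduct.prodRight A A K' M N).toLinearMap ∘ₗ (i.rTensor (M × N)) =
      (LinearMap.prodMap (i.rTensor M) (i.rTensor N)) ∘ₗ
        (TensorProduct.prodRight A A K M N).toLinearMap := by
    apply TensorProduct.ext'
    intro k m
    simp
  have h3 : Function.Injective ((TensorProduct.prodRight A A K' M N).toLinearMap ∘ₗ
      (i.rTensor (M × N))) := by
    rw [hc]
    exact (Function.Injective.prodMap h1 h2).comp (TensorProduct.prodRight A A K M N).injective
  exact Function.Injective.of_comp h3

end Groth.Agent.Lib.helper23.TA
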