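import Mathlib

set_option autoImplicit false
universe u
open CategoryTheory CategoryTheory.Limits Polynomial

attribute [local instance] HasDerivedCategory.standard

namespace Groth.Agent.Lib.helper23.DCompl

section Away

variable {A : Type u} [CommRing A] (f : A)

/-- the polynomial `f X - 1` -/
noncomputable abbrev pp : A[X] := C f * X - 1

lemma mul_pp_injective : Function.Injective (fun g : A[X] => pp f * g) := by
  intro g₁ g₂ h
  have hunit : IsUnit ((pp f : A[X]) : PowerSeries A) := by
    rw [PowerSeries.isUnit_iff_constantCoeff]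
    simp [pp]
  have h' : ((pp f : A[X]) : PowerSeries A) * (g₁ : PowerSeries A) =
      ((pp f : A[X]) : PowerSeries A) * (g₂ : PowerSeries A) := by
    rw [← Polynomial.coe_mul, ← Polynomial.coe_mul]
    exact congrArg _ h
  have := hunit.mul_left_cancel h'
  exact Polynomial.coe_injective A this

/-- the short complex `A[X] → A[X] → A_f`. -/
noncomputable def awaySC : ShortComplex (ModuleCat.{u} A) :=
  ShortComplex.mk (ModuleCat.ofHom (LinearMap.mulLeft A (pp f)))
    (ModuleCat.ofHom ((Localization.awayEquivAdjoin f).symm.toLinearMap ∘ₗ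
      (AdjoinRoot.mkₐ (pp f)).toLinearMap))
    (by
      apply ModuleCat.hom_ext
      refine LinearMap.ext fun g => ?_
      simp only [ModuleCat.hom_comp, ModuleCat.hom_ofHom, LinearMap.coe_comp, Function.comp_apply,
        LinearMap.mulLeft_apply, AlgHom.toLinearMap_apply, AlgEquiv.toLinearMap_apply,
        ModuleCat.hom_zero, LinearMap.zero_apply]
      rw [EmbeddingLike.map_eq_zero_iff]
      show AdjoinRoot.mk (pp f) (pp f * g) = 0
      rw [AdjoinRoot.mk_eq_zero]
      exact dvd_mul_right _ _)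

lemma awaySC_shortExact : (awaySC f).ShortExact := by
  have hex : (awaySC f).Exact := by
    rw [ShortComplex.moduleCat_exact_iff]
    intro g hg
    have hg' : AdjoinRoot.mk (pp f) g = 0 := by
      have : (Localization.awayEquivAdjoin f).symm (AdjoinRoot.mk (pp f) g) = 0 := hg
      rwa [EmbeddingLike.map_eq_zero_iff] at this
    rw [AdjoinRoot.mk_eq_zero] at hg'
    obtain ⟨q, rfl⟩ := hg'
    exact ⟨q, rfl⟩
  have hmono : Mono (awaySC f).f := (ModuleCat.mono_iff_injective _).2 (mul_pp_injective f)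
  have hepi : Epi (awaySC f).g := (ModuleCat.epi_iff_surjective _).2 (by
    intro y
    obtain ⟨g, hg⟩ := AdjoinRoot.mk_surjective ((Localization.awayEquivAdjoin f) y)
    refine ⟨g, ?_⟩
    show (Localization.awayEquivAdjoin f).symm (AdjoinRoot.mk (pp f) g) = y
    rw [hg, AlgEquiv.symm_apply_apply])
  exact ShortComplex.ShortExact.mk' hex hmono hepi

instance : Projective (ModuleCat.of A A[X]) := inferInstance

lemma projDim_away : HasProjectiveDimensionLT (ModuleCat.of A (Localization.Away f)) 2 := by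
  have h1 : HasProjectiveDimensionLT (ModuleCat.of A A[X]) 1 := inferInstance
  have h2 : HasProjectiveDimensionLT (ModuleCat.of A A[X]) 2 := inferInstance
  exact (awaySC_shortExact f).hasProjectiveDimensionLT_X₃ 1 h1 h2

end Away


section Vanish

open DerivedCategory

variable {A : Type u} [CommRing A] (f : A)

/-- a module in degree zero of `D(A)` -/
noncomputable abbrev inD (M : Type u) [AddCommGroup M] [Module A M] : DerivedCategory (ModuleCat.{u} A) :=
  (DerivedCategory.singleFunctor (ModuleCat.{u} A) 0).obj (ModuleCat.of A M)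

lemma subsingleton_of_two_le (M : Type u) [AddCommGroup M] [Module A M] (n : ℤ) (hn : 2 ≤ n) :
    Subsingleton (inD (A := A) (Localization.Away f) ⟶ (inD (A := A) M)⟦n⟧) := by
  obtain ⟨m, rfl⟩ := Int.eq_ofNat_of_zero_le (by lia : 0 ≤ n)
  have := projDim_away f
  let _ := HasExt.standard (ModuleCat.{u} A)
  have h : Subsingleton (Abelian.Ext (ModuleCat.of A (Localization.Away f)) (ModuleCat.of A M) m) :=
    HasProjectiveDimensionLT.subsingleton (ModuleCat.of A (Localization.Away f)) 2 m
      (by exact_mod_cast hn) (ModuleCat.of A M)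
  exact (Abelian.Ext.homEquiv (X := ModuleCat.of A (Localization.Away f))
    (Y := ModuleCat.of A M) (n := m)).symm.subsingleton

lemma subsingleton_of_neg (M N : Type u) [AddCommGroup M] [Module A M] [AddCommGroup N] [Module A N]
    (n : ℤ) (hn : n < 0) :
    Subsingleton (inD (A := A) N ⟶ (inD (A := A) M)⟦n⟧) := by
  have : DerivedCategory.TStructure.t.IsGE ((inD (A := A) M)⟦n⟧) (-n) :=
    DerivedCategory.TStructure.t.isGE_shift _ 0 n (-n) (by lia)
  refine ⟨fun a b => ?_⟩
  rw [DerivedCategory.TStructure.t.zero a 0 (-n) (by lia),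
    DerivedCategory.TStructure.t.zero b 0 (-n) (by lia)]

end Vanish


section Tri

open Pretriangulated

variable {C : Type*} [Category C] [Preadditive C] [HasZeroObject C] [HasShift C ℤ]
  [∀ n : ℤ, (shiftFunctor C n).Additive] [Pretriangulated C] (W : C)

omit [HasZeroObject C] [HasShift C ℤ] [∀ n : ℤ, (shiftFunctor C n).Additive] [Pretriangulated C] in
lemma subsingleton_of_iso {K K' : C} (e : K ≅ K') (h : Subsingleton (W ⟶ K)) :
    Subsingleton (W ⟶ K') := by
  refine ⟨fun a b => ?_⟩
  have : a ≫ e.inv = b ≫ e.inv := Subsingleton.elim _ _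
  rwa [cancel_mono] at this

/-- vanishing of `Hom(W, K[n])` -/
def P (n : ℤ) (K : C) : Prop := Subsingleton (W ⟶ K⟦n⟧)

lemma P_mid (T : Triangle C) (hT : T ∈ distTriang C) (n : ℤ) (h1 : P W n T.obj₁)
    (h3 : P W n T.obj₃) : P W n T.obj₂ := by
  have hTn := Triangle.shift_distinguished _ hT n
  suffices ∀ φ : W ⟶ T.obj₂⟦n⟧, φ = 0 from ⟨fun a b => by rw [this a, this b]⟩
  intro φ
  obtain ⟨ψ, hψ⟩ := Triangle.coyoneda_exact₂ _ hTn φ (Subsingleton.elim (h := h3) _ _)
  have : ψ = 0 := Subsingleton.elim (h := h1) _ _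
  rw [hψ, this]
  exact zero_comp

lemma P_third (T : Triangle C) (hT : T ∈ distTriang C) (n : ℤ) (h2 : P W n T.obj₂)
    (h1 : P W (n + 1) T.obj₁) : P W n T.obj₃ := by
  have hTn := rot_of_distTriang _ (Triangle.shift_distinguished _ hT n)
  have h1' : Subsingleton (W ⟶ (T.obj₁⟦n⟧)⟦(1 : ℤ)⟧) :=
    subsingleton_of_iso W ((shiftFunctorAdd' C n 1 (n + 1) rfl).app T.obj₁) h1
  suffices ∀ φ : W ⟶ T.obj₃⟦n⟧, φ = 0 from ⟨fun a b => by rw [this a, this b]⟩
  intro φ
  obtain ⟨ψ, hψ⟩ := Triangle.coyoneda_exact₂ _ hTn φ (Subsingleton.elim (h := h1') _ _)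
  have : ψ = 0 := Subsingleton.elim (h := h2) _ _
  rw [hψ, this]
  exact zero_comp

lemma P_first (T : Triangle C) (hT : T ∈ distTriang C) (n : ℤ) (h2 : P W n T.obj₂)
    (h3 : P W (n - 1) T.obj₃) : P W n T.obj₁ := by
  have hTn := inv_rot_of_distTriang _ (Triangle.shift_distinguished _ hT n)
  have h3' : Subsingleton (W ⟶ (T.obj₃⟦n⟧)⟦(-1 : ℤ)⟧) :=
    subsingleton_of_iso W ((shiftFunctorAdd' C n (-1) (n - 1) (by lia)).app T.obj₃) h3
  suffices ∀ φ : W ⟶ T.obj₁⟦n⟧, φ = 0 from ⟨fun a b => by rw [this a, this b]⟩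
  intro φ
  obtain ⟨ψ, hψ⟩ := Triangle.coyoneda_exact₂ _ hTn φ (Subsingleton.elim (h := h2) _ _)
  have : ψ = 0 := Subsingleton.elim (h := h3') _ _
  rw [hψ, this]
  exact zero_comp

end Tri


section Main

open Pretriangulated

variable {A : Type u} [CommRing A]

/-- short exact sequence of modules as a short complex -/
noncomputable def scOf {X₁ X₂ X₃ : Type u} [AddCommGroup X₁] [Module A X₁] [AddCommGroup X₂]
    [Module A X₂] [AddCommGroup X₃] [Module A X₃] (i : X₁ →ₗ[A] X₂) (p : X₂ →ₗ[A] X₃)
    (hex : Function.Exact i p) : ShortComplex (ModuleCat.{u} A) :=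
  ShortComplex.mk (ModuleCat.ofHom i) (ModuleCat.ofHom p) (by
    apply ModuleCat.hom_ext
    refine LinearMap.ext fun x => ?_
    exact hex.apply_apply_eq_zero x)

lemma scOf_shortExact {X₁ X₂ X₃ : Type u} [AddCommGroup X₁] [Module A X₁] [AddCommGroup X₂]
    [Module A X₂] [AddCommGroup X₃] [Module A X₃] (i : X₁ →ₗ[A] X₂) (p : X₂ →ₗ[A] X₃)
    (hex : Function.Exact i p) (hi : Function.Injective i) (hp : Function.Surjective p) :
    (scOf i p hex).ShortExact := by
  have h1 : (scOf i p hex).Exact := by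
    rw [ShortComplex.ShortExact.moduleCat_exact_iff_function_exact]
    exact hex
  have h2 : Mono (scOf i p hex).f := (ModuleCat.mono_iff_injective _).2 hi
  have h3 : Epi (scOf i p hex).g := (ModuleCat.epi_iff_surjective _).2 hp
  exact ShortComplex.ShortExact.mk' h1 h2 h3

variable (f : A)

/-- `Hom(A_f, M[n]) = 0` -/
def En (n : ℤ) (M : Type u) [AddCommGroup M] [Module A M] : Prop :=
  Subsingleton (inD (A := A) (Localization.Away f) ⟶ (inD (A := A) M)⟦n⟧)

variable {X₁ X₂ X₃ : Type u} [AddCommGroup X₁] [Module A X₁] [AddCommGroup X₂]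
    [Module A X₂] [AddCommGroup X₃] [Module A X₃] (i : X₁ →ₗ[A] X₂) (p : X₂ →ₗ[A] X₃)
    (hex : Function.Exact i p) (hi : Function.Injective i) (hp : Function.Surjective p)

include hex hi hp

lemma En_mid (n : ℤ) (h1 : En f n X₁) (h3 : En f n X₃) : En f n X₂ :=
  P_mid _ _ (scOf_shortExact i p hex hi hp).singleTriangle_distinguished n h1 h3

lemma En_third (n : ℤ) (h2 : En f n X₂) (h1 : En f (n + 1) X₁) : En f n X₃ :=
  P_third _ _ (scOf_shortExact i p hex hi hp).singleTriangle_distinguished n h2 h1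

lemma En_first (n : ℤ) (h2 : En f n X₂) (h3 : En f (n - 1) X₃) : En f n X₁ :=
  P_first _ _ (scOf_shortExact i p hex hi hp).singleTriangle_distinguished n h2 h3

end Main


section KerCoker

variable {A : Type u} [CommRing A] (f : A)

lemma En_vanish (X : Type u) [AddCommGroup X] [Module A X] (n : ℤ) (hn : n < 0 ∨ 2 ≤ n) :
    En f n X := by
  rcases hn with h | h
  · exact subsingleton_of_neg X (Localization.Away f) n h
  · exact subsingleton_of_two_le f X n h

theorem ker_coker {M N : Type u} [AddCommGroup M] [Module A M] [AddCommGroup N] [Module A N]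
    (u : M →ₗ[A] N) (hM : ∀ n, En f n M) (hN : ∀ n, En f n N) :
    (∀ n, En f n (LinearMap.ker u)) ∧ (∀ n, En f n (N ⧸ LinearMap.range u)) := by
  have ex1 : Function.Exact (LinearMap.ker u).subtype u.rangeRestrict := by
    intro x
    constructor
    · intro hx
      have hx' : u x = 0 := congrArg Subtype.val hx
      exact ⟨⟨x, hx'⟩, rfl⟩
    · rintro ⟨⟨y, hy⟩, rfl⟩
      exact Subtype.ext hy
  have i1 := (LinearMap.ker u).injective_subtype
  have p1 := u.surjective_rangeRestrict
  have ex2 : Function.Exact (LinearMap.range u).subtype (LinearMap.range u).mkQ := by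
    intro x
    rw [Submodule.mkQ_apply, Submodule.Quotient.mk_eq_zero]
    constructor
    · intro hx
      exact ⟨⟨x, hx⟩, rfl⟩
    · rintro ⟨⟨y, hy⟩, rfl⟩
      exact hy
  have i2 := (LinearMap.range u).injective_subtype
  have p2 := (LinearMap.range u).mkQ_surjective
  have hIm : ∀ n, En f n (LinearMap.range u) := by
    intro n
    rcases lt_trichotomy n 0 with h | rfl | h
    · exact En_vanish f _ n (Or.inl h)
    · exact En_first f _ _ ex2 i2 p2 0 (hN 0) (En_vanish f _ (0 - 1) (Or.inl (by lia)))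
    · by_cases h1 : n = 1
      · subst h1
        exact En_third f _ _ ex1 i1 p1 1 (hM 1) (En_vanish f _ (1 + 1) (Or.inr (by lia)))
      · exact En_vanish f _ n (Or.inr (by lia))
  refine ⟨fun n => ?_, fun n => ?_⟩
  · rcases lt_trichotomy n 0 with h | rfl | h
    · exact En_vanish f _ n (Or.inl h)
    · exact En_first f _ _ ex1 i1 p1 0 (hM 0) (hIm (0 - 1))
    · by_cases h1 : n = 1
      · subst h1
        exact En_first f _ _ ex1 i1 p1 1 (hM 1) (hIm (1 - 1))
      · exact En_vanish f _ n (Or.inr (by lia))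
  · rcases lt_trichotomy n 0 with h | rfl | h
    · exact En_vanish f _ n (Or.inl h)
    · exact En_third f _ _ ex2 i2 p2 0 (hN 0) (hIm (0 + 1))
    · by_cases h1 : n = 1
      · subst h1
        exact En_third f _ _ ex2 i2 p2 1 (hN 1) (hIm (1 + 1))
      · exact En_vanish f _ n (Or.inr (by lia))

end KerCoker

end Groth.Agent.Lib.helper23.DCompl
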