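import Mathlib
import Groth.Agent.Lib.Helper23.DCompl

set_option autoImplicit false
universe u
open CategoryTheory CategoryTheory.Limits Polynomial

attribute [local instance] HasDerivedCategory.standard

namespace Groth.Agent.Lib.helper23.DCompl

section Compat

variable {A : Type u} [CommRing A] (f : A) {M : Type u} [AddCommGroup M] [Module A M]

/-- the linear map `A[X] → M` attached to a sequence -/
noncomputable def seqMap (y : ℕ → M) : A[X] →ₗ[A] M :=
  Polynomial.lsum (fun k => LinearMap.toSpanSingleton A M (y k))

lemma seqMap_monomial (y : ℕ → M) (k : ℕ) (a : A) : seqMap y (monomial k a) = a • y k := by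
  simp [seqMap, Polynomial.lsum_apply, Polynomial.sum_monomial_index]

lemma seqMap_mul_pp (y : ℕ → M) (hy : ∀ k, f • y (k + 1) = y k) (q : A[X]) :
    seqMap y (pp f * q) = 0 := by
  induction q using Polynomial.induction_on' with
  | add p q hp hq => rw [mul_add, map_add, hp, hq, add_zero]
  | monomial k a =>
    have : pp f * monomial k a = monomial (k + 1) (f * a) - monomial k a := by
      rw [pp, sub_mul, one_mul, Polynomial.C_mul_X_eq_monomial, Polynomial.monomial_mul_monomial,
        add_comm 1 k]
    rw [this, map_sub, seqMap_monomial, seqMap_monomial, mul_comm, mul_smul, hy, sub_self]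

/-- a compatible sequence in a module with `Hom_{D(A)}(A_f, M) = 0` starts with `0`. -/
theorem compat_zero (h0 : En f 0 M) (y : ℕ → M) (hy : ∀ k, f • y (k + 1) = y k) : y 0 = 0 := by
  have hS := awaySC_shortExact f
  have := hS.epi_g
  have hk : (awaySC f).f ≫ ModuleCat.ofHom (seqMap y) = 0 := by
    apply ModuleCat.hom_ext
    refine LinearMap.ext fun q => ?_
    exact seqMap_mul_pp f y hy q
  have hsub : Subsingleton (inD (A := A) (Localization.Away f) ⟶ inD (A := A) M) :=
    subsingleton_of_iso _ ((shiftFunctorZero (DerivedCategory (ModuleCat.{u} A)) ℤ).app _) h0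
  have hφ0 : hS.exact.desc (ModuleCat.ofHom (seqMap y)) hk = 0 := by
    apply (DerivedCategory.singleFunctor (ModuleCat.{u} A) 0).map_injective
    exact Subsingleton.elim (h := hsub) _ _
  have hψ0 : (ModuleCat.ofHom (seqMap y) : ModuleCat.of A A[X] ⟶ ModuleCat.of A M) = 0 := by
    rw [← hS.exact.g_desc _ hk, hφ0]
    exact Limits.comp_zero
  have h1 : seqMap y (1 : A[X]) = 0 := by
    have := congrArg (fun g => g.hom (1 : A[X])) hψ0
    simpa using this
  have h2 : seqMap y (1 : A[X]) = y 0 := by
    have : (1 : A[X]) = monomial 0 (1 : A) := by simp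
    rw [this, seqMap_monomial, one_smul]
  rw [← h2, h1]

end Compat

end Groth.Agent.Lib.helper23.DCompl
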