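import Mathlib
import Groth.Agent.Lib.Helper23.DCompl2

set_option autoImplicit false
universe u
open CategoryTheory CategoryTheory.Limits

attribute [local instance] HasDerivedCategory.standard

namespace Groth.Agent.Lib.helper23.DCompl

section Nak

variable {A : Type u} [CommRing A]

/-- principal case: `f` surjective on `M` and `Hom(A_f, M) = 0` implies `M = 0`. -/
lemma eq_zero_of_surj (f : A) {M : Type u} [AddCommGroup M] [Module A M] (h0 : En f 0 M)
    (hs : ∀ m : M, ∃ m' : M, f • m' = m) (m : M) : m = 0 := by
  choose g hg using hs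
  let y : ℕ → M := fun k => Nat.rec m (fun _ z => g z) k
  have hy : ∀ k, f • y (k + 1) = y k := fun k => hg (y k)
  exact compat_zero f h0 y hy

theorem nakayama (s : Finset A) : ∀ (M : Type u) [AddCommGroup M] [Module A M],
    (∀ f ∈ s, ∀ n : ℤ, En f n M) → Ideal.span (s : Set A) • (⊤ : Submodule A M) = ⊤ →
      Subsingleton M := by
  classical
  induction s using Finset.induction_on with
  | empty =>
    intro M _ _ _ h
    rw [Finset.coe_empty, Ideal.span_empty, Submodule.bot_smul] at h
    exact (Submodule.subsingleton_iff A).1 (subsingleton_of_bot_eq_top h)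
  | insert f s hfs ih =>
    intro M _ _ hE h
    -- the cokernel of multiplication by f
    let u : M →ₗ[A] M := f • LinearMap.id
    have hE' : ∀ g ∈ s, ∀ n : ℤ, En g n (M ⧸ LinearMap.range u) := fun g hg n =>
      (ker_coker g u (hE g (Finset.mem_insert_of_mem hg)) (hE g (Finset.mem_insert_of_mem hg))).2 n
    have hrange : LinearMap.range u = Ideal.span {f} • (⊤ : Submodule A M) := by
      rw [Submodule.ideal_span_singleton_smul]
      ext x
      simp [u, Submodule.mem_smul_pointwise_iff_exists]
    have htop : Ideal.span (s : Set A) • (⊤ : Submodule A (M ⧸ LinearMap.range u)) = ⊤ := by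
      have h1 : (⊤ : Submodule A (M ⧸ LinearMap.range u)) =
          Submodule.map (LinearMap.range u).mkQ ⊤ := by
        rw [Submodule.map_top, Submodule.range_mkQ]
      rw [Finset.coe_insert, Ideal.span_insert, Submodule.sup_smul] at h
      conv_rhs => rw [h1, ← h, Submodule.map_sup, ← hrange]
      rw [Submodule.mkQ_map_self, bot_sup_eq, Submodule.map_smul'', Submodule.map_top,
        Submodule.range_mkQ]
    have hsub := ih (M ⧸ LinearMap.range u) hE' htop
    have hru : LinearMap.range u = ⊤ := by
      rw [← Submodule.Quotient.subsingleton_iff]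
      exact hsub
    have hs : ∀ m : M, ∃ m' : M, f • m' = m := fun m => by
      have : m ∈ LinearMap.range u := by rw [hru]; trivial
      obtain ⟨m', hm'⟩ := this
      exact ⟨m', hm'⟩
    have h0 : En f 0 M := hE f (Finset.mem_insert_self f s) 0
    exact ⟨fun a b => by rw [eq_zero_of_surj f h0 hs a, eq_zero_of_surj f h0 hs b]⟩

end Nak

end Groth.Agent.Lib.helper23.DCompl
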