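import Mathlib
import Groth.Agent.Lib.Helper23.DCompl3

set_option autoImplicit false
universe u
open CategoryTheory CategoryTheory.Limits Polynomial

attribute [local instance] HasDerivedCategory.standard

namespace Groth.Agent.Lib.helper23.DCompl

section E1

variable {A : Type u} [CommRing A] (f : A) {M : Type u} [AddCommGroup M] [Module A M]

lemma En_nat_iff_ext (m : ℕ) :
    En f (m : ℤ) M ↔ (letI := HasExt.standard (ModuleCat.{u} A)
      Subsingleton (Abelian.Ext (ModuleCat.of A (Localization.Away f)) (ModuleCat.of A M) m)) := by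
  let _ := HasExt.standard (ModuleCat.{u} A)
  constructor
  · intro h
    have h' : Subsingleton (ShiftedHom
        ((DerivedCategory.singleFunctor (ModuleCat.{u} A) 0).obj (ModuleCat.of A (Localization.Away f)))
        ((DerivedCategory.singleFunctor (ModuleCat.{u} A) 0).obj (ModuleCat.of A M)) (m : ℤ)) := h
    exact (Abelian.Ext.homEquiv (X := ModuleCat.of A (Localization.Away f))
      (Y := ModuleCat.of A M) (n := m)).subsingleton
  · intro h
    exact (Abelian.Ext.homEquiv (X := ModuleCat.of A (Localization.Away f))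
      (Y := ModuleCat.of A M) (n := m)).symm.subsingleton

lemma pp_mul_monomial (k : ℕ) (a : A) :
    pp f * monomial k a = monomial (k + 1) (f * a) - monomial k a := by
  rw [pp, sub_mul, one_mul, Polynomial.C_mul_X_eq_monomial, Polynomial.monomial_mul_monomial,
    add_comm 1 k]

theorem surj_of_En_one (h1 : En f 1 M) (c : ℕ → M) :
    ∃ y : ℕ → M, ∀ k, f • y (k + 1) - y k = c k := by
  let _ := HasExt.standard (ModuleCat.{u} A)
  have h1' : Subsingleton (Abelian.Ext (ModuleCat.of A (Localization.Away f)) (ModuleCat.of A M) 1) := by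
    have : En f ((1 : ℕ) : ℤ) M := by simpa using h1
    exact (En_nat_iff_ext f 1).1 this
  have hS := awaySC_shortExact f
  let x₁ : Abelian.Ext (awaySC f).X₁ (ModuleCat.of A M) 0 :=
    Abelian.Ext.mk₀ (ModuleCat.ofHom (seqMap c))
  have hx₁ : hS.extClass.comp x₁ (by rfl : 1 + 0 = 1) = 0 := Subsingleton.elim (h := h1') _ _
  obtain ⟨x₂, hx₂⟩ := Abelian.Ext.contravariant_sequence_exact₁ hS (ModuleCat.of A M) x₁ rfl hx₁
  obtain ⟨ψ₂, rfl⟩ := (Abelian.Ext.mk₀_bijective _ _).2 x₂
  rw [Abelian.Ext.mk₀_comp_mk₀] at hx₂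
  have hψ : (awaySC f).f ≫ ψ₂ = ModuleCat.ofHom (seqMap c) := (Abelian.Ext.mk₀_bijective _ _).1 hx₂
  let L : A[X] →ₗ[A] M := ψ₂.hom
  refine ⟨fun k => L (monomial k (1 : A)), fun k => ?_⟩
  have key : L (pp f * monomial k (1 : A)) = seqMap c (monomial k (1 : A)) :=
    congrArg (fun g => g.hom (monomial k (1 : A))) hψ
  rw [seqMap_monomial, one_smul, pp_mul_monomial, map_sub, mul_one] at key
  rw [← key]
  congr 1
  have : (monomial (k + 1) f : A[X]) = f • monomial (k + 1) (1 : A) := by
    rw [Polynomial.smul_monomial, smul_eq_mul, mul_one]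
  rw [this, map_smul]


theorem En_one_of_surj (h : ∀ c : ℕ → M, ∃ y : ℕ → M, ∀ k, f • y (k + 1) - y k = c k) :
    En f 1 M := by
  let _ := HasExt.standard (ModuleCat.{u} A)
  suffices hsub : Subsingleton
      (Abelian.Ext (ModuleCat.of A (Localization.Away f)) (ModuleCat.of A M) 1) by
    have : En f ((1 : ℕ) : ℤ) M := (En_nat_iff_ext f 1).2 hsub
    simpa using this
  suffices ∀ x₃ : Abelian.Ext (ModuleCat.of A (Localization.Away f)) (ModuleCat.of A M) 1,
      x₃ = 0 from ⟨fun a b => by rw [this a, this b]⟩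
  intro x₃
  have hS := awaySC_shortExact f
  have hproj : Projective (awaySC f).X₂ := (inferInstance : Projective (ModuleCat.of A A[X]))
  have hx₃ : (Abelian.Ext.mk₀ (awaySC f).g).comp x₃ (zero_add 1) = 0 :=
    Abelian.Ext.eq_zero_of_projective _
  obtain ⟨x₁, rfl⟩ := Abelian.Ext.contravariant_sequence_exact₃ hS (ModuleCat.of A M) x₃ hx₃
    (by rfl : 1 + 0 = 1)
  obtain ⟨ψ, rfl⟩ := (Abelian.Ext.mk₀_bijective _ _).2 x₁
  let L : A[X] →ₗ[A] M := ψ.hom
  obtain ⟨y, hy⟩ := h (fun k => L (monomial k (1 : A)))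
  have hL : ∀ q : A[X], L q = seqMap y (pp f * q) := by
    intro q
    induction q using Polynomial.induction_on' with
    | add p q hp hq => rw [mul_add, map_add, map_add, hp, hq]
    | monomial k a =>
      rw [pp_mul_monomial, map_sub, seqMap_monomial, seqMap_monomial, mul_comm, mul_smul,
        ← smul_sub, hy k, ← map_smul, Polynomial.smul_monomial, smul_eq_mul, mul_one]
  have hψ : ψ = (awaySC f).f ≫ ModuleCat.ofHom (seqMap y) := by
    apply ModuleCat.hom_ext
    exact LinearMap.ext hL
  rw [hψ, ← Abelian.Ext.mk₀_comp_mk₀]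
  exact hS.extClass_comp_assoc _

theorem En_zero_of (h : ∀ φ : Localization.Away f →ₗ[A] M, φ = 0) : En f 0 M := by
  have hsub : Subsingleton (inD (A := A) (Localization.Away f) ⟶ inD (A := A) M) := by
    suffices ∀ g : inD (A := A) (Localization.Away f) ⟶ inD (A := A) M, g = 0 from
      ⟨fun a b => by rw [this a, this b]⟩
    intro g
    obtain ⟨φ, rfl⟩ := (DerivedCategory.singleFunctor (ModuleCat.{u} A) 0).map_surjective g
    have : φ = 0 := by
      apply ModuleCat.hom_ext
      exact h φ.hom
    rw [this, Functor.map_zero]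
  exact subsingleton_of_iso _ ((shiftFunctorZero (DerivedCategory (ModuleCat.{u} A)) ℤ).app _).symm hsub

end E1

end Groth.Agent.Lib.helper23.DCompl
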