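import Mathlib
import Groth.Agent.Lib.Helper23.DCompl4

set_option autoImplicit false
universe u
open CategoryTheory CategoryTheory.Limits

attribute [local instance] HasDerivedCategory.standard

namespace Groth.Agent.Lib.helper23.DCompl

section Adic

variable {A : Type u} [CommRing A] (I : Ideal A) (f : A) (hf : f ∈ I)
  {M : Type u} [AddCommGroup M] [Module A M]

include hf

lemma pow_smul_mem (k : ℕ) (x : M) : f ^ k • x ∈ (I ^ k • ⊤ : Submodule A M) :=
  Submodule.smul_mem_smul (Ideal.pow_mem_pow hf k) trivial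

lemma pow_smul_mem_of_le {m j : ℕ} (hmj : m ≤ j) (x : M) :
    f ^ j • x ∈ (I ^ m • ⊤ : Submodule A M) :=
  Submodule.smul_mono_left (Ideal.pow_le_pow_right hmj) (pow_smul_mem I f hf j x)

theorem En_zero_of_hausdorff [IsHausdorff I M] : En f 0 M := by
  apply En_zero_of
  intro φ
  refine LinearMap.ext fun z => ?_
  rw [LinearMap.zero_apply]
  apply IsHausdorff.haus' (I := I)
  intro k
  rw [SModEq.zero]
  -- z = f^k • w
  have hu : IsUnit (algebraMap A (Localization.Away f) f) := IsLocalization.Away.algebraMap_isUnit f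
  obtain ⟨u, hu'⟩ := hu
  have hz : z = f ^ k • ((↑(u⁻¹ ^ k) : Localization.Away f) * z) := by
    rw [Algebra.smul_def, map_pow, ← hu', ← mul_assoc, ← Units.val_pow_eq_pow_val, ← Units.val_mul,
      ← mul_pow, mul_inv_cancel, one_pow, Units.val_one, one_mul]
  rw [hz, map_smul]
  exact pow_smul_mem I f hf k _

theorem En_one_of_complete [IsAdicComplete I M] : En f 1 M := by
  apply En_one_of_surj
  intro c
  -- partial sums
  let s : ℕ → ℕ → M := fun k N => ∑ j ∈ Finset.range N, f ^ j • c (k + j)
  have hcauchy : ∀ k, ∀ {m n : ℕ}, m ≤ n → s k m ≡ s k n [SMOD (I ^ m • ⊤ : Submodule A M)] := by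
    intro k m n hmn
    rw [SModEq.sub_mem]
    have : s k m - s k n = - ∑ j ∈ Finset.Ico m n, f ^ j • c (k + j) := by
      simp only [s]
      rw [← Finset.sum_range_add_sum_Ico _ hmn]
      abel
    rw [this]
    refine neg_mem (sum_mem fun j hj => ?_)
    exact pow_smul_mem_of_le I f hf (Finset.mem_Ico.1 hj).1 _
  choose L hL using fun k => IsPrecomplete.prec' (I := I) (s k) (hcauchy k)
  refine ⟨fun k => - L k, fun k => ?_⟩
  show f • (- L (k + 1)) - (- L k) = c k
  rw [← sub_eq_zero]
  apply IsHausdorff.haus' (I := I)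
  intro N
  rw [SModEq.zero]
  have e1 : s k (N + 1) - L k ∈ (I ^ N • ⊤ : Submodule A M) := by
    have := (hL k (N + 1))
    rw [SModEq.sub_mem] at this
    exact Submodule.smul_mono_left (Ideal.pow_le_pow_right (Nat.le_succ N)) this
  have e2 : s (k + 1) N - L (k + 1) ∈ (I ^ N • ⊤ : Submodule A M) := by
    have := (hL (k + 1) N)
    rwa [SModEq.sub_mem] at this
  have e3 : s k (N + 1) = f • s (k + 1) N + c k := by
    simp only [s]
    rw [Finset.sum_range_succ', Finset.smul_sum]
    simp only [pow_zero, one_smul, add_zero]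
    congr 1
    refine Finset.sum_congr rfl fun j _ => ?_
    rw [pow_succ, mul_comm, mul_smul, add_assoc, add_comm 1 j]
  have : f • (- L (k + 1)) - (- L k) - c k =
      f • (s (k + 1) N - L (k + 1)) - (s k (N + 1) - L k) := by
    rw [e3]
    simp only [smul_sub, smul_neg]
    abel
  rw [this]
  exact sub_mem (Submodule.smul_mem _ _ e2) e1

theorem En_of_complete [IsAdicComplete I M] (n : ℤ) : En f n M := by
  rcases lt_trichotomy n 0 with h | rfl | h
  · exact En_vanish f _ n (Or.inl h)
  · exact En_zero_of_hausdorff I f hf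
  · by_cases h1 : n = 1
    · subst h1
      exact En_one_of_complete I f hf
    · exact En_vanish f _ n (Or.inr (by lia))

end Adic

end Groth.Agent.Lib.helper23.DCompl
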