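import Mathlib
import Groth.Agent.Lib.Helper23.DCompl5

set_option autoImplicit false
universe u
open CategoryTheory CategoryTheory.Limits

attribute [local instance] HasDerivedCategory.standard

namespace Groth.Agent.Lib.helper23.DCompl

section Precomplete

variable {A : Type u} [CommRing A] {M : Type u} [AddCommGroup M] [Module A M]

/-- formal summation of `Σ f^j c_j` -/
theorem formal_sum (f : A) (h1 : En f 1 M) (c : ℕ → M) :
    ∃ z : M, ∀ N : ℕ, ∃ w : M, z - ∑ j ∈ Finset.range N, f ^ j • c j = f ^ N • w := by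
  obtain ⟨y, hy⟩ := surj_of_En_one f h1 (fun k => - c k)
  have hy' : ∀ k, y k = c k + f • y (k + 1) := fun k => by
    have := hy k
    rw [sub_eq_iff_eq_add] at this
    rw [this]; abel
  refine ⟨y 0, fun N => ⟨y N, ?_⟩⟩
  induction N with
  | zero => simp
  | succ N ih =>
    rw [Finset.sum_range_succ, ← sub_sub, ih, hy' N, smul_add, pow_succ, mul_smul]
    abel

/-- decomposition of elements of `(f^N : f ∈ s) M` -/
lemma exists_sum_of_mem (s : Finset A) (N : ℕ) (x : M)
    (hx : x ∈ (Ideal.span ((fun a : A => a ^ N) '' (s : Set A)) • ⊤ : Submodule A M)) :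
    ∃ m : A → M, x = ∑ g ∈ s, g ^ N • m g := by
  classical
  have key : ∀ r ∈ Ideal.span ((fun a : A => a ^ N) '' (s : Set A)), ∀ y : M,
      ∃ m : A → M, r • y = ∑ g ∈ s, g ^ N • m g := by
    intro r hr
    refine Submodule.span_induction ?_ ?_ ?_ ?_ hr
    · rintro _ ⟨g, hg, rfl⟩ y
      refine ⟨Pi.single g y, ?_⟩
      rw [Finset.sum_eq_single g]
      · simp
      · intro b _ hb
        simp [Pi.single_eq_of_ne hb]
      · intro h
        exact absurd hg h
    · intro y
      exact ⟨0, by simp⟩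
    · intro a b _ _ ha hb y
      obtain ⟨m₁, h₁⟩ := ha y
      obtain ⟨m₂, h₂⟩ := hb y
      refine ⟨m₁ + m₂, ?_⟩
      simp only [Pi.add_apply, smul_add, Finset.sum_add_distrib, add_smul, h₁, h₂]
    · intro a b _ hb y
      obtain ⟨m, hm⟩ := hb (a • y)
      refine ⟨m, ?_⟩
      rw [smul_eq_mul, mul_comm, mul_smul, hm]
  refine Submodule.smul_induction_on hx ?_ ?_
  · intro r hr y _
    exact key r hr y
  · rintro x y ⟨m₁, h₁⟩ ⟨m₂, h₂⟩
    refine ⟨m₁ + m₂, ?_⟩
    simp only [Pi.add_apply, smul_add, Finset.sum_add_distrib, h₁, h₂]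


theorem isPrecomplete_of_En (s : Finset A) (hE : ∀ f ∈ s, En f 1 M) :
    IsPrecomplete (Ideal.span (s : Set A)) M := by
  classical
  set I := Ideal.span (s : Set A) with hI
  refine ⟨fun x hx => ?_⟩
  have hk : ∀ N : ℕ, ∃ k : ℕ, I ^ k ≤ Ideal.span ((fun a : A => a ^ N) '' (s : Set A)) := by
    intro N
    apply Ideal.exists_pow_le_of_le_radical_of_fg
    · rw [hI, Ideal.span_le]
      intro a ha
      exact ⟨N, Ideal.subset_span ⟨a, ha, rfl⟩⟩
    · exact ⟨s, rfl⟩
  choose k hk using hk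
  let n : ℕ → ℕ := fun N => Nat.rec (k 0) (fun N prev => max (prev + 1) (k (N + 1))) N
  have hn_succ : ∀ N, n (N + 1) = max (n N + 1) (k (N + 1)) := fun N => rfl
  have hn_mono : StrictMono n := strictMono_nat_of_lt_succ (fun N => by
    rw [hn_succ]
    exact lt_of_lt_of_le (Nat.lt_succ_self _) (le_max_left _ _))
  have hn_k : ∀ N, k N ≤ n N := by
    intro N
    cases N with
    | zero => exact le_rfl
    | succ N => rw [hn_succ]; exact le_max_right _ _
  have hn_ge : ∀ N, N ≤ n N := fun N => hn_mono.le_apply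
  have hd : ∀ N, x (n (N + 1)) - x (n N) ∈
      (Ideal.span ((fun a : A => a ^ N) '' (s : Set A)) • ⊤ : Submodule A M) := by
    intro N
    have h1 : x (n N) ≡ x (n (N + 1)) [SMOD (I ^ n N • ⊤ : Submodule A M)] :=
      hx (hn_mono.monotone (Nat.le_succ N))
    rw [SModEq.sub_mem] at h1
    have h2 : (I ^ n N • ⊤ : Submodule A M) ≤
        (Ideal.span ((fun a : A => a ^ N) '' (s : Set A)) • ⊤ : Submodule A M) :=
      Submodule.smul_mono_left ((Ideal.pow_le_pow_right (hn_k N)).trans (hk N))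
    have := h2 h1
    rw [← neg_sub]
    exact neg_mem this
  choose m hm using fun N => exists_sum_of_mem s N _ (hd N)
  have hz : ∀ g : A, ∃ z : M, g ∈ s → ∀ N : ℕ, ∃ w : M,
      z - ∑ j ∈ Finset.range N, g ^ j • m j g = g ^ N • w := by
    intro g
    by_cases hg : g ∈ s
    · obtain ⟨z, hz⟩ := formal_sum g (hE g hg) (fun j => m j g)
      exact ⟨z, fun _ => hz⟩
    · exact ⟨0, fun h => absurd h hg⟩
  choose z hz using hz
  refine ⟨x (n 0) + ∑ g ∈ s, z g, fun N => ?_⟩
  have h1 : x N ≡ x (n N) [SMOD (I ^ N • ⊤ : Submodule A M)] := hx (hn_ge N)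
  refine h1.trans ?_
  rw [SModEq.sub_mem]
  have htel : x (n N) = x (n 0) + ∑ j ∈ Finset.range N, (x (n (j + 1)) - x (n j)) := by
    rw [Finset.sum_range_sub (fun j => x (n j))]
    abel
  have : x (n N) - (x (n 0) + ∑ g ∈ s, z g) =
      - ∑ g ∈ s, (z g - ∑ j ∈ Finset.range N, g ^ j • m j g) := by
    rw [htel]
    simp only [hm]
    rw [Finset.sum_comm, Finset.sum_sub_distrib]
    abel
  rw [this]
  refine neg_mem (sum_mem fun g hg => ?_)
  obtain ⟨w, hw⟩ := hz g hg N
  rw [hw]
  exact pow_smul_mem I g (Ideal.subset_span hg) N w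

end Precomplete

end Groth.Agent.Lib.helper23.DCompl
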