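import Mathlib
import Groth.Agent.Lib.Helper23.DCompl6

set_option autoImplicit false
universe u
open CategoryTheory CategoryTheory.Limits

attribute [local instance] HasDerivedCategory.standard

namespace Groth.Agent.Lib.helper23.DCompl

section Bounded

variable {A : Type u} [CommRing A] {M : Type u} [AddCommGroup M] [Module A M]

lemma exists_sol (f : A) (h1 : En f 1 M) (c : ℕ → M) :
    ∃ y : ℕ → M, ∀ k, y k = c k + f • y (k + 1) := by
  obtain ⟨y, hy⟩ := surj_of_En_one f h1 (fun k => - c k)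
  refine ⟨y, fun k => ?_⟩
  have := hy k
  rw [sub_eq_iff_eq_add] at this
  rw [this]; abel

lemma sol_unique (f : A) (h0 : En f 0 M) {c y y' : ℕ → M}
    (hy : ∀ k, y k = c k + f • y (k + 1)) (hy' : ∀ k, y' k = c k + f • y' (k + 1)) (k : ℕ) :
    y k = y' k := by
  have := compat_zero f h0 (fun j => y (k + j) - y' (k + j)) (fun j => by
    have h1 := hy (k + j)
    have h2 := hy' (k + j)
    have e : k + (j + 1) = k + j + 1 := rfl
    rw [e, h1, h2, smul_sub]
    abel)
  simpa [sub_eq_zero] using this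

lemma sol_partial (f : A) {c y : ℕ → M} (hy : ∀ k, y k = c k + f • y (k + 1)) (N : ℕ) :
    y 0 = ∑ j ∈ Finset.range N, f ^ j • c j + f ^ N • y N := by
  induction N with
  | zero => simp
  | succ N ih =>
    rw [ih, Finset.sum_range_succ, hy N, smul_add, pow_succ, mul_smul]
    abel

lemma formal_sum_sparse (f : A) (h0 : En f 0 M) (h1 : En f 1 M) (x : ℕ → M) (d : ℕ → ℕ)
    (hd : Monotone d) :
    ∃ z : M, ∀ N, ∃ w : M, z = ∑ l ∈ Finset.range N, f ^ (l + d l) • x l + f ^ (N + d N) • w := by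
  obtain ⟨y, hy⟩ := exists_sol f h1 (fun l => f ^ d l • x l)
  refine ⟨y 0, fun N => ?_⟩
  obtain ⟨y', hy'⟩ := exists_sol f h1 (fun l => f ^ (d (N + l) - d N) • x (N + l))
  have e1 : ∀ k, (fun k => y (N + k)) k = (fun k => f ^ d (N + k) • x (N + k)) k
      + f • (fun k => y (N + k)) (k + 1) := fun k => hy (N + k)
  have e2 : ∀ k, (fun k => f ^ d N • y' k) k = (fun k => f ^ d (N + k) • x (N + k)) k
      + f • (fun k => f ^ d N • y' k) (k + 1) := fun k => by
    show f ^ d N • y' k = f ^ d (N + k) • x (N + k) + f • (f ^ d N • y' (k + 1))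
    rw [hy' k, smul_add, smul_smul, ← pow_add, Nat.add_sub_cancel' (hd (Nat.le_add_right N k)),
      smul_comm]
  have e3 := sol_unique f h0 e1 e2 0
  simp only [add_zero] at e3
  refine ⟨y' 0, ?_⟩
  rw [sol_partial f hy N, e3, smul_smul, ← pow_add]
  congr 1
  exact Finset.sum_congr rfl (fun l _ => by rw [smul_smul, ← pow_add])

theorem bounded_of_torsion (f : A) (h0 : En f 0 M) (h1 : En f 1 M)
    (ht : ∀ x : M, ∃ n : ℕ, f ^ n • x = 0) : ∃ n : ℕ, ∀ x : M, f ^ n • x = 0 := by
  have key : ∃ n : ℕ, ∀ x : M, ∀ k : ℕ, ∃ w : M, f ^ n • x = f ^ k • w := by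
    by_contra hcon
    push Not at hcon
    have stage : ∀ (i d : ℕ) (σ : M), ∃ (x : M) (d' : ℕ), d ≤ d' ∧
        ∀ w : M, f ^ i • (σ + f ^ (i + d) • x) ≠ f ^ (i + (i + 1 + d')) • w := by
      intro i d σ
      have : ∃ (x : M) (k : ℕ), ∀ w : M, f ^ i • (σ + f ^ (i + d) • x) ≠ f ^ k • w := by
        by_cases hσ : ∃ k : ℕ, ∀ w : M, f ^ i • σ ≠ f ^ k • w
        · obtain ⟨k, hk⟩ := hσ
          exact ⟨0, k, by simpa using hk⟩
        · push Not at hσ
          obtain ⟨x, k, hk⟩ := hcon (i + (i + d))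
          refine ⟨x, k, fun w hw => ?_⟩
          obtain ⟨w', hw'⟩ := hσ k
          apply hk (w - w')
          rw [smul_sub, ← hw, ← hw', smul_add, add_sub_cancel_left, smul_smul, ← pow_add]
      obtain ⟨x, k, hk⟩ := this
      refine ⟨x, max d k, le_max_left _ _, fun w hw => ?_⟩
      apply hk (f ^ (i + (i + 1 + max d k) - k) • w)
      rw [hw, smul_smul, ← pow_add]
      congr 2
      have : k ≤ max d k := le_max_right _ _
      omega
    choose X D hD hX using stage
    let st : ℕ → ℕ × M := fun i =>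
      Nat.rec (0, 0) (fun i p => (D i p.1 p.2, p.2 + f ^ (i + p.1) • X i p.1 p.2)) i
    have st_succ : ∀ i, st (i + 1) =
        (D i (st i).1 (st i).2, (st i).2 + f ^ (i + (st i).1) • X i (st i).1 (st i).2) :=
      fun i => rfl
    let d : ℕ → ℕ := fun i => (st i).1
    let x : ℕ → M := fun i => X i (st i).1 (st i).2
    have hσ : ∀ i, (st i).2 = ∑ l ∈ Finset.range i, f ^ (l + d l) • x l := by
      intro i
      induction i with
      | zero => simp [st]
      | succ i ih => rw [st_succ, Finset.sum_range_succ, ← ih]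
    have hd : Monotone d := monotone_nat_of_le_succ (fun i => by
      simp only [d]
      rw [st_succ]
      exact hD _ _ _)
    obtain ⟨z, hz⟩ := formal_sum_sparse f h0 h1 x d hd
    obtain ⟨N, hN⟩ := ht z
    obtain ⟨w, hw⟩ := hz (N + 1)
    apply hX N (st N).1 (st N).2 (-w)
    have e1 : (st N).2 + f ^ (N + (st N).1) • X N (st N).1 (st N).2 = (st (N + 1)).2 := by
      rw [st_succ]
    have e2 : D N (st N).1 (st N).2 = d (N + 1) := by
      simp only [d]
      rw [st_succ]
    have e3 := hσ (N + 1)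
    rw [e1, e2, e3, pow_add, mul_smul, smul_neg, smul_neg, eq_neg_iff_add_eq_zero, ← smul_add,
      ← hw, hN]
  obtain ⟨n, hn⟩ := key
  refine ⟨n, fun x => ?_⟩
  have hg : ∀ x : M, ∃ w : M, f ^ n • x = f ^ (n + 1) • w := fun x => hn x (n + 1)
  choose g hg using hg
  have := compat_zero f h0 (fun k => f ^ n • (g^[k] x)) (fun k => by
    show f • f ^ n • (g^[k + 1] x) = f ^ n • (g^[k] x)
    rw [Function.iterate_succ_apply', hg (g^[k] x), smul_smul, pow_succ, mul_comm])
  simpa using this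

end Bounded

end Groth.Agent.Lib.helper23.DCompl
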