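import Mathlib
import Groth.Agent.Lib.Helper23.DCompl7

set_option autoImplicit false
universe u
open CategoryTheory CategoryTheory.Limits

attribute [local instance] HasDerivedCategory.standard

namespace Groth.Agent.Lib.helper23.DCompl

section Nilp

variable {A : Type u} [CommRing A]

/-- generalisation of the argument of S7043 -/
theorem smul_eq_zero_of_approx {M : Type u} [AddCommGroup M] [Module A M]
    (f : A) (h0 : En f 0 M) (a : A)
    (ha : ∀ n : ℕ, ∃ b : A, ∀ y : M, (a - f ^ n * b) • y = 0) (x : M)
    (hx : ∀ n : ℕ, ∃ z : M, f ^ n • z = x) : a • x = 0 := by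
  choose b hb using ha
  choose z hz using hx
  have hcompat : ∀ k, f • (b (k + 1) • x) = b k • x := by
    intro k
    have e : (f * b (k + 1) - b k) • x = 0 := by
      rw [← hz k, smul_smul]
      have : (f * b (k + 1) - b k) * f ^ k = (a - f ^ k * b k) - (a - f ^ (k + 1) * b (k + 1)) := by
        rw [pow_succ]; ring
      rw [this, sub_smul, hb k, hb (k + 1), sub_zero]
    rw [sub_smul, sub_eq_zero, mul_smul] at e
    exact e
  have h := compat_zero f h0 (fun k => b k • x) hcompat
  have h2 := hb 0 x
  rw [pow_zero, one_mul, sub_smul, sub_eq_zero] at h2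
  rw [h2]
  exact h

theorem cyclic_bound (s : Finset A) : ∀ (M : Type u) [AddCommGroup M] [Module A M] (e : M),
    (∀ x : M, ∃ a : A, x = a • e) →
    (∀ f ∈ Ideal.span (s : Set A), ∀ n : ℤ, En f n M) →
    (⨅ m : ℕ, (Ideal.span (s : Set A)) ^ m ⊔ Ideal.torsionOf A M e) ^ (2 ^ s.card) ≤
      Ideal.torsionOf A M e := by
  classical
  induction s using Finset.induction_on with
  | empty =>
    intro M _ _ e he hdc
    rw [Finset.card_empty, pow_zero, pow_one]
    refine (iInf_le _ 1).trans ?_
    simp
  | insert f s' hf ih =>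
    intro M _ _ e he hdc
    rw [Finset.card_insert_of_notMem hf, pow_succ, pow_mul]
    set T := Ideal.torsionOf A M e with hT
    set J := ⨅ m : ℕ, (Ideal.span ((insert f s' : Finset A) : Set A)) ^ m ⊔ T with hJ
    have hfI : f ∈ Ideal.span ((insert f s' : Finset A) : Set A) :=
      Ideal.subset_span (by simp)
    have hs'I : Ideal.span (s' : Set A) ≤ Ideal.span ((insert f s' : Finset A) : Set A) :=
      Ideal.span_mono (by simp)
    -- first step
    have step1 : ∀ n : ℕ, J ^ (2 ^ s'.card) ≤ Ideal.span {f ^ n} ⊔ T := by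
      intro n
      let u : M →ₗ[A] M := LinearMap.lsmul A M (f ^ n)
      let Mn := M ⧸ LinearMap.range u
      let en : Mn := Submodule.Quotient.mk e
      have hen : ∀ x : Mn, ∃ a : A, x = a • en := by
        intro x
        obtain ⟨x, rfl⟩ := Submodule.Quotient.mk_surjective _ x
        obtain ⟨a, rfl⟩ := he x
        exact ⟨a, rfl⟩
      have hdcn : ∀ g ∈ Ideal.span (s' : Set A), ∀ k : ℤ, En g k Mn := by
        intro g hg
        exact (ker_coker g u (hdc g (hs'I hg)) (hdc g (hs'I hg))).2
      have h1 := ih Mn en hen hdcn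
      have hTn : Ideal.torsionOf A Mn en ≤ Ideal.span {f ^ n} ⊔ T := by
        intro a ha
        rw [Ideal.mem_torsionOf_iff] at ha
        have ha' : a • e ∈ LinearMap.range u := by
          rw [← Submodule.Quotient.mk_eq_zero]
          exact ha
        obtain ⟨z, hz⟩ := ha'
        obtain ⟨c, rfl⟩ := he z
        have h2 : a - f ^ n * c ∈ T := by
          rw [hT, Ideal.mem_torsionOf_iff, sub_smul, sub_eq_zero, mul_smul]
          exact hz.symm
        have : a = f ^ n * c + (a - f ^ n * c) := by ring
        rw [this]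
        exact Ideal.add_mem _ (Ideal.mem_sup_left (Ideal.mul_mem_right _ _
          (Ideal.mem_span_singleton_self _))) (Ideal.mem_sup_right h2)
      have hTn' : Ideal.span {f ^ n} ⊔ T ≤ Ideal.torsionOf A Mn en := by
        rw [sup_le_iff]
        constructor
        · rw [Ideal.span_singleton_le_iff_mem, Ideal.mem_torsionOf_iff]
          show Submodule.Quotient.mk (f ^ n • e) = (0 : Mn)
          rw [Submodule.Quotient.mk_eq_zero]
          exact ⟨e, rfl⟩
        · intro a ha
          rw [hT, Ideal.mem_torsionOf_iff] at ha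
          rw [Ideal.mem_torsionOf_iff]
          show Submodule.Quotient.mk (a • e) = (0 : Mn)
          rw [ha]
          rfl
      have hJle : J ≤ ⨅ m : ℕ, (Ideal.span (s' : Set A)) ^ m ⊔ Ideal.torsionOf A Mn en := by
        refine le_iInf fun m => ?_
        refine (iInf_le _ (m + n)).trans ?_
        rw [sup_le_iff]
        constructor
        · have : Ideal.span ((insert f s' : Finset A) : Set A) =
              Ideal.span (s' : Set A) ⊔ Ideal.span {f} := by
            rw [Finset.coe_insert, Ideal.span_insert, sup_comm]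
          rw [this]
          refine Ideal.sup_pow_add_le_pow_sup_pow.trans ?_
          rw [Ideal.span_singleton_pow]
          exact sup_le_sup_left ((le_sup_left).trans hTn') _
        · exact ((le_sup_right).trans hTn').trans le_sup_right
      exact ((Ideal.pow_right_mono hJle _).trans h1).trans hTn
    -- second step
    set L := ⨅ n : ℕ, Ideal.span {f ^ n} ⊔ T with hL
    have step2 : J ^ (2 ^ s'.card) ≤ L := le_iInf step1
    refine (Ideal.pow_right_mono step2 2).trans ?_
    rw [pow_two, Ideal.mul_le]
    intro a ha b hb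
    rw [hT, Ideal.mem_torsionOf_iff, mul_smul]
    have hmem : ∀ c ∈ L, ∀ n : ℕ, ∃ c' : A, c - f ^ n * c' ∈ T := by
      intro c hc n
      have := (Submodule.mem_iInf _).1 hc n
      obtain ⟨y, hy, t, ht, rfl⟩ := Submodule.mem_sup.1 this
      obtain ⟨c', rfl⟩ := Ideal.mem_span_singleton'.1 hy
      refine ⟨c', ?_⟩
      have : c' * f ^ n + t - f ^ n * c' = t := by ring
      rw [this]
      exact ht
    apply smul_eq_zero_of_approx f (hdc f hfI 0) a
    · intro n
      obtain ⟨c', hc'⟩ := hmem a ha n
      refine ⟨c', fun y => ?_⟩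
      obtain ⟨r, rfl⟩ := he y
      rw [hT, Ideal.mem_torsionOf_iff] at hc'
      rw [smul_comm, hc', smul_zero]
    · intro n
      obtain ⟨c', hc'⟩ := hmem b hb n
      refine ⟨c' • e, ?_⟩
      rw [hT, Ideal.mem_torsionOf_iff, sub_smul, sub_eq_zero, mul_smul] at hc'
      exact hc'.symm

end Nilp

end Groth.Agent.Lib.helper23.DCompl
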