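import Mathlib

set_option autoImplicit false
universe w v u
open CategoryTheory CategoryTheory.Limits HomologicalComplex DerivedCategory

namespace Groth.Agent.Lib.helper23.ProjHom

variable {C : Type u} [Category.{v} C] [Abelian C] [HasDerivedCategory.{w} C]

/-- every morphism in the derived category from a projective object in degree `0` is
represented by a morphism of complexes -/
lemma exists_Q_map_eq {P : C} [Projective P] {L : CochainComplex C ℤ}
    (φ : Q.obj ((CochainComplex.singleFunctor C 0).obj P) ⟶ Q.obj L) :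
    ∃ u : (CochainComplex.singleFunctor C 0).obj P ⟶ L, φ = Q.map u := by
  obtain ⟨K, _, π, h, g, rfl⟩ := right_fac_of_isStrictlyLE φ 0
  have hπ : IsSplitEpi π := by
    rw [isIso_Q_map_iff_quasiIso] at h
    exact CochainComplex.isSplitEpi_to_singleFunctor_obj_of_projective π
  have h₁ : inv (Q.map π) = Q.map (section_ π) := by
    rw [← cancel_mono (Q.map π), IsIso.inv_hom_id, ← Q.map_comp, IsSplitEpi.id, Q.map_id]
  exact ⟨section_ π ≫ g, by rw [h₁, ← Q.map_comp]⟩

lemma exact_toCycles_homologyπ (L : CochainComplex C ℤ) :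
    (ShortComplex.mk (L.toCycles (-1) 0) (L.homologyπ 0) (L.toCycles_comp_homologyπ _ _)).Exact :=
  ShortComplex.exact_of_g_is_cokernel _ (L.homologyIsCokernel (-1) 0 (by simp))

lemma exists_lift_aux {P : C} [Projective P] {L : CochainComplex C ℤ}
    (u : (HomologicalComplex.single C (ComplexShape.up ℤ) 0).obj P ⟶ L)
    (h : homologyMap u 0 = 0) :
    ∃ g : P ⟶ L.X (-1),
      (singleObjXSelf (ComplexShape.up ℤ) 0 P).inv ≫ u.f 0 = g ≫ L.d (-1) 0 := by
  have hP : Projective (((HomologicalComplex.single C (ComplexShape.up ℤ) 0).obj P).cycles 0) :=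
    Projective.of_iso (singleObjCyclesSelfIso (ComplexShape.up ℤ) 0 P).symm inferInstance
  have hz : cyclesMap u 0 ≫ L.homologyπ 0 = 0 := by
    rw [← homologyπ_naturality, h, comp_zero]
  let v : ((HomologicalComplex.single C (ComplexShape.up ℤ) 0).obj P).cycles 0 ⟶ L.X (-1) :=
    (exact_toCycles_homologyπ L).liftFromProjective _ hz
  have hv : v ≫ L.toCycles (-1) 0 = cyclesMap u 0 :=
    (exact_toCycles_homologyπ L).liftFromProjective_comp _ hz
  refine ⟨(singleObjCyclesSelfIso (ComplexShape.up ℤ) 0 P).inv ≫ v, ?_⟩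
  rw [← singleObjCyclesSelfIso_inv_iCycles, Category.assoc, ← cyclesMap_i, ← hv,
    Category.assoc, toCycles_i, Category.assoc]

lemma nonempty_homotopy {P : C} [Projective P] {L : CochainComplex C ℤ}
    (u : (CochainComplex.singleFunctor C 0).obj P ⟶ L)
    (h : homologyMap u 0 = 0) :
    Nonempty (Homotopy u 0) := by
  obtain ⟨g, hg⟩ := exists_lift_aux (P := P) (L := L) u h
  refine ⟨(CochainComplex.HomComplex.Cochain.equivHomotopy u 0).symm
      ⟨CochainComplex.HomComplex.Cochain.fromSingleMk g (show (0 : ℤ) + (-1) = -1 by simp), ?_⟩⟩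
  rw [CochainComplex.HomComplex.Cochain.δ_fromSingleMk _ _ 0 0 (by simp)]
  apply (CochainComplex.HomComplex.Cochain.fromSingleEquiv (X := P) (K := L)
    (show (0 : ℤ) + 0 = 0 by simp)).injective
  simp [CochainComplex.HomComplex.Cochain.fromSingleEquiv]
  exact hg

lemma Q_map_eq_zero {P : C} [Projective P] {L : CochainComplex C ℤ}
    (u : (CochainComplex.singleFunctor C 0).obj P ⟶ L) (h : homologyMap u 0 = 0) :
    Q.map u = 0 := by
  obtain ⟨hH⟩ := nonempty_homotopy (P := P) (L := L) u h
  have := Q_map_eq_of_homotopy (C := C) hH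
  rw [Q.map_zero] at this
  exact this

lemma exists_homologyMap_eq {P : C} [Projective P] {L : CochainComplex C ℤ}
    (g : ((HomologicalComplex.single C (ComplexShape.up ℤ) 0).obj P).homology 0 ⟶ L.homology 0) :
    ∃ u : (HomologicalComplex.single C (ComplexShape.up ℤ) 0).obj P ⟶ L, homologyMap u 0 = g := by
  let p : P ⟶ L.cycles 0 :=
    Projective.factorThru ((singleObjHomologySelfIso (ComplexShape.up ℤ) 0 P).inv ≫ g)
      (L.homologyπ 0)
  have hp : p ≫ L.homologyπ 0 = (singleObjHomologySelfIso (ComplexShape.up ℤ) 0 P).inv ≫ g :=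
    Projective.factorThru_comp _ _
  let u : (HomologicalComplex.single C (ComplexShape.up ℤ) 0).obj P ⟶ L :=
    mkHomFromSingle (p ≫ L.iCycles 0) (by
      intro k _
      rw [Category.assoc, iCycles_d, comp_zero])
  have hu : (singleObjCyclesSelfIso (ComplexShape.up ℤ) 0 P).inv ≫ cyclesMap u 0 = p := by
    rw [← cancel_mono (L.iCycles 0), Category.assoc, cyclesMap_i,
      singleObjCyclesSelfIso_inv_iCycles_assoc, mkHomFromSingle_f, Iso.inv_hom_id_assoc]
  refine ⟨u, ?_⟩
  rw [← cancel_epi (((HomologicalComplex.single C (ComplexShape.up ℤ) 0).obj P).homologyπ 0),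
    ← cancel_epi (singleObjCyclesSelfIso (ComplexShape.up ℤ) 0 P).inv,
    homologyπ_naturality, ← Category.assoc, hu, hp, singleObjCyclesSelfIso_inv_homologyπ_assoc]

/-- **Key fact**: for `P` projective, morphisms `P[0] ⟶ K` in the derived category are
detected bijectively by `H⁰`. -/
theorem bijective_homologyFunctor_map {P : C} [Projective P] (K : DerivedCategory C) :
    Function.Bijective (fun φ : (DerivedCategory.singleFunctor C 0).obj P ⟶ K =>
      (homologyFunctor C 0).map φ) := by
  -- reduce to `K = Q.obj L`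
  let L := Q.objPreimage K
  let e : Q.obj L ≅ K := Q.objObjPreimageIso K
  have key : Function.Bijective
      (fun φ : (DerivedCategory.singleFunctor C 0).obj P ⟶ Q.obj L =>
        (homologyFunctor C 0).map φ) := by
    show Function.Bijective
      (fun φ : Q.obj ((CochainComplex.singleFunctor C 0).obj P) ⟶ Q.obj L =>
        (homologyFunctor C 0).map φ)
    constructor
    · intro φ₁ φ₂ h
      obtain ⟨u₁, rfl⟩ := exists_Q_map_eq φ₁
      obtain ⟨u₂, rfl⟩ := exists_Q_map_eq φ₂
      have h' : (homologyFunctor C 0).map (Q.map (u₁ - u₂)) = 0 := by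
        rw [Q.map_sub, Functor.map_sub, sub_eq_zero]
        exact h
      have h'' : homologyMap (u₁ - u₂) 0 = 0 := by
        have := homologyFunctorFactors_hom_naturality (u₁ - u₂) 0
        rw [h', zero_comp] at this
        exact (cancel_epi ((homologyFunctorFactors C 0).hom.app _)).1
          (this.symm.trans comp_zero.symm)
      have := Q_map_eq_zero (u₁ - u₂) h''
      rw [Q.map_sub, sub_eq_zero] at this
      exact this
    · intro g
      obtain ⟨u, hu⟩ := exists_homologyMap_eq (P := P) (L := L)
        ((homologyFunctorFactors C 0).inv.app _ ≫ g ≫ (homologyFunctorFactors C 0).hom.app L)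
      refine ⟨Q.map u, ?_⟩
      have := homologyFunctorFactors_hom_naturality u 0
      rw [hu] at this
      apply (cancel_mono ((homologyFunctorFactors C 0).hom.app L)).1
      refine this.trans ?_
      exact Iso.hom_inv_id_app_assoc _ _ _
  constructor
  · intro φ₁ φ₂ h
    have : φ₁ ≫ e.inv = φ₂ ≫ e.inv := key.1 (by
      show (homologyFunctor C 0).map (φ₁ ≫ e.inv) = (homologyFunctor C 0).map (φ₂ ≫ e.inv)
      rw [Functor.map_comp, Functor.map_comp]
      exact congrArg (· ≫ (homologyFunctor C 0).map e.inv) h)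
    exact (cancel_mono e.inv).1 this
  · intro g
    obtain ⟨φ, hφ⟩ := key.2 (g ≫ (homologyFunctor C 0).map e.inv)
    refine ⟨φ ≫ e.hom, ?_⟩
    show (homologyFunctor C 0).map (φ ≫ e.hom) = g
    have hφ' : (homologyFunctor C 0).map φ = g ≫ (homologyFunctor C 0).map e.inv := hφ
    rw [Functor.map_comp, hφ', Category.assoc, ← Functor.map_comp, e.inv_hom_id,
      CategoryTheory.Functor.map_id, Category.comp_id]

end Groth.Agent.Lib.helper23.ProjHom
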