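import Mathlib
import Groth.Agent.Lib.Helper23.DCompl8
import Groth.Agent.Lib.Helper23.ProjHom

set_option autoImplicit false
universe u
open CategoryTheory CategoryTheory.Limits Polynomial

attribute [local instance] HasDerivedCategory.standard

namespace Groth.Agent.Lib.helper23.DCompl

section SeqC

variable {A : Type u} [CommRing A] (f : A)

/-- sequential form of derived `f`-completeness of a module -/
def SeqC (M : Type u) [AddCommGroup M] [Module A M] : Prop :=
  (∀ c : ℕ → M, ∃ y : ℕ → M, ∀ k, f • y (k + 1) - y k = c k) ∧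
    (∀ y : ℕ → M, (∀ k, f • y (k + 1) = y k) → y 0 = 0)

variable {M N : Type u} [AddCommGroup M] [Module A M] [AddCommGroup N] [Module A N]

variable {f} in
lemma SeqC.of_equiv (e : M ≃ₗ[A] N) (h : SeqC f M) : SeqC f N := by
  refine ⟨fun c => ?_, fun y hy => ?_⟩
  · obtain ⟨y, hy⟩ := h.1 (fun k => e.symm (c k))
    refine ⟨fun k => e (y k), fun k => ?_⟩
    rw [← map_smul, ← map_sub, hy k, e.apply_symm_apply]
  · have := h.2 (fun k => e.symm (y k)) (fun k => by rw [← map_smul, hy k])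
    simpa using this

variable {f} in
lemma SeqC.all_zero (h : SeqC f M) (y : ℕ → M) (hy : ∀ k, f • y (k + 1) = y k) (k : ℕ) :
    y k = 0 := by
  have := h.2 (fun j => y (k + j)) (fun j => hy (k + j))
  simpa using this

lemma seqC_of_En (h0 : En f 0 M) (h1 : En f 1 M) : SeqC f M :=
  ⟨surj_of_En_one f h1, compat_zero f h0⟩

lemma En_of_seqC (h : SeqC f M) (n : ℤ) : En f n M := by
  rcases lt_trichotomy n 0 with hn | rfl | hn
  · exact En_vanish f _ n (Or.inl hn)
  · apply En_zero_of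
    intro φ
    refine LinearMap.ext fun z => ?_
    rw [LinearMap.zero_apply]
    have hu : IsUnit (algebraMap A (Localization.Away f) f) :=
      IsLocalization.Away.algebraMap_isUnit f
    obtain ⟨u, hu'⟩ := hu
    have := h.2 (fun k => φ ((↑(u⁻¹ ^ k) : Localization.Away f) * z)) (fun k => by
      rw [← map_smul, Algebra.smul_def, ← hu', ← mul_assoc, ← Units.val_mul, pow_succ',
        ← mul_assoc, mul_inv_cancel, one_mul])
    simpa using this
  · by_cases h1 : n = 1
    · subst h1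
      exact En_one_of_surj f h.1
    · exact En_vanish f _ n (Or.inr (by omega))

lemma seqC_iff_En : SeqC f M ↔ ∀ n : ℤ, En f n M :=
  ⟨fun h n => En_of_seqC f h n, fun h => seqC_of_En f (h 0) (h 1)⟩

/-- linear maps out of `A[X]` are sequences -/
lemma eq_seqMap (ℓ : A[X] →ₗ[A] N) : ℓ = seqMap (fun k => ℓ (monomial k 1)) := by
  apply Polynomial.lhom_ext'
  intro k
  apply LinearMap.ext_ring
  simp [seqMap_monomial]

lemma comp_mulLeft_apply (ℓ : A[X] →ₗ[A] N) (k : ℕ) :
    (ℓ ∘ₗ LinearMap.mulLeft A (pp f)) (monomial k 1) =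
      f • ℓ (monomial (k + 1) 1) - ℓ (monomial k 1) := by
  rw [LinearMap.comp_apply, LinearMap.mulLeft_apply, pp_mul_monomial, map_sub, mul_one,
    ← map_smul]
  congr 2
  rw [Polynomial.smul_monomial, smul_eq_mul, mul_one]

theorem bij_iff_seqC : Function.Bijective
    (fun ℓ : A[X] →ₗ[A] N => ℓ ∘ₗ LinearMap.mulLeft A (pp f)) ↔ SeqC f N := by
  constructor
  · rintro ⟨hinj, hsurj⟩
    refine ⟨fun c => ?_, fun y hy => ?_⟩
    · obtain ⟨ℓ, hℓ⟩ := hsurj (seqMap c)
      refine ⟨fun k => ℓ (monomial k 1), fun k => ?_⟩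
      have := congrArg (fun m : A[X] →ₗ[A] N => m (monomial k 1)) hℓ
      simp only [comp_mulLeft_apply, seqMap_monomial, one_smul] at this
      exact this
    · have h0 : seqMap y ∘ₗ LinearMap.mulLeft A (pp f) = 0 ∘ₗ LinearMap.mulLeft A (pp f) := by
        rw [LinearMap.zero_comp]
        apply Polynomial.lhom_ext'
        intro k
        apply LinearMap.ext_ring
        have := comp_mulLeft_apply f (seqMap y) k
        simp only [seqMap_monomial, one_smul] at this
        simp only [LinearMap.comp_apply, LinearMap.zero_apply]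
        rw [LinearMap.comp_apply] at this
        rw [this, hy k, sub_self]
      have := hinj h0
      have h1 : seqMap y (monomial 0 (1 : A)) = 0 := by rw [this]; rfl
      rwa [seqMap_monomial, one_smul] at h1
  · intro h
    constructor
    · intro ℓ₁ ℓ₂ h12
      have h12' : ∀ k, f • (ℓ₁ - ℓ₂) (monomial (k + 1) 1) = (ℓ₁ - ℓ₂) (monomial k 1) := by
        intro k
        have e1 := comp_mulLeft_apply f ℓ₁ k
        have e2 := comp_mulLeft_apply f ℓ₂ k
        have e3 := congrArg (fun m : A[X] →ₗ[A] N => m (monomial k 1)) h12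
        simp only at e3
        rw [e1, e2] at e3
        simp only [LinearMap.sub_apply, smul_sub]
        rw [sub_eq_sub_iff_add_eq_add] at e3 ⊢
        rw [e3, add_comm]
      have hz := h.all_zero (fun k => (ℓ₁ - ℓ₂) (monomial k 1)) h12'
      rw [← sub_eq_zero, eq_seqMap (ℓ₁ - ℓ₂)]
      apply Polynomial.lhom_ext'
      intro k
      apply LinearMap.ext_ring
      simp only [LinearMap.comp_apply, seqMap_monomial, one_smul,
        LinearMap.zero_apply]
      exact hz k
    · intro m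
      obtain ⟨y, hy⟩ := h.1 (fun k => m (monomial k 1))
      refine ⟨seqMap y, ?_⟩
      show seqMap y ∘ₗ LinearMap.mulLeft A (pp f) = m
      apply Polynomial.lhom_ext'
      intro k
      apply LinearMap.ext_ring
      have := comp_mulLeft_apply f (seqMap y) k
      simp only [seqMap_monomial, one_smul] at this
      simp only [LinearMap.comp_apply]
      rw [LinearMap.comp_apply] at this
      rw [this, hy k]

end SeqC

section Tri2

open Pretriangulated

variable {C : Type*} [Category C] [Preadditive C] [HasZeroObject C] [HasShift C ℤ]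
  [∀ n : ℤ, (shiftFunctor C n).Additive] [Pretriangulated C]
  (T : Triangle C) (hT : T ∈ distTriang C)

include hT

lemma inj_of_subsingleton (W : C) (h : Subsingleton (T.obj₃ ⟶ W)) :
    Function.Injective (fun ψ : T.obj₂ ⟶ W => T.mor₁ ≫ ψ) := by
  intro ψ₁ ψ₂ h12
  have h0 : T.mor₁ ≫ (ψ₁ - ψ₂) = 0 := by
    rw [Preadditive.comp_sub, sub_eq_zero]
    exact h12
  obtain ⟨g, hg⟩ := Triangle.yoneda_exact₂ T hT (ψ₁ - ψ₂) h0
  have : g = 0 := Subsingleton.elim _ _
  rw [this, Limits.comp_zero, sub_eq_zero] at hg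
  exact hg

set_option backward.isDefEq.respectTransparency false in
lemma surj_of_subsingleton (W : C) (h : Subsingleton (T.obj₃ ⟶ W⟦(1 : ℤ)⟧)) :
    Function.Surjective (fun ψ : T.obj₂ ⟶ W => T.mor₁ ≫ ψ) := by
  intro ψ
  have hrot := rot_of_distTriang T hT
  have h0 : T.rotate.mor₂ ≫ ψ⟦(1 : ℤ)⟧' = 0 := Subsingleton.elim (h := h) _ _
  obtain ⟨g, hg⟩ := Triangle.yoneda_exact₃ T.rotate hrot (ψ⟦(1 : ℤ)⟧') h0
  obtain ⟨g', rfl⟩ := (shiftFunctor C (1 : ℤ)).map_surjective g
  refine ⟨-g', ?_⟩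
  apply (shiftFunctor C (1 : ℤ)).map_injective
  rw [hg]
  simp only [Triangle.rotate_mor₃, CategoryTheory.Functor.map_comp,
    CategoryTheory.Functor.map_neg, Preadditive.neg_comp, Preadditive.comp_neg]

lemma subsingleton_of_inj_surj (W W' : C) (e : W ≅ W'⟦(1 : ℤ)⟧)
    (hinj : Function.Injective (fun ψ : T.obj₂ ⟶ W => T.mor₁ ≫ ψ))
    (hsurj : Function.Surjective (fun ψ : T.obj₂ ⟶ W' => T.mor₁ ≫ ψ)) :
    Subsingleton (T.obj₃ ⟶ W) := by
  suffices ∀ φ : T.obj₃ ⟶ W, φ = 0 from ⟨fun a b => by rw [this a, this b]⟩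
  intro φ
  have h1 : T.mor₂ ≫ φ = 0 := hinj (by
    show T.mor₁ ≫ T.mor₂ ≫ φ = T.mor₁ ≫ 0
    rw [comp_distTriang_mor_zero₁₂_assoc T hT, Limits.zero_comp, Limits.comp_zero])
  obtain ⟨g, hg⟩ := Triangle.yoneda_exact₃ T hT φ h1
  obtain ⟨g', hg'⟩ := (shiftFunctor C (1 : ℤ)).map_surjective (g ≫ e.hom)
  obtain ⟨h', hh'⟩ := hsurj g'
  have hh'' : T.mor₁ ≫ h' = g' := hh'
  have : g = (T.mor₁ ≫ h')⟦(1 : ℤ)⟧' ≫ e.inv := by
    rw [hh'', hg', Category.assoc, e.hom_inv_id, Category.comp_id]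
  rw [hg, this, Functor.map_comp, Category.assoc, comp_distTriang_mor_zero₃₁_assoc T hT, Limits.zero_comp]

theorem tri_criterion (K : C) :
    (∀ n : ℤ, Subsingleton (T.obj₃ ⟶ K⟦n⟧)) ↔
      ∀ n : ℤ, Function.Bijective (fun ψ : T.obj₂ ⟶ K⟦n⟧ => T.mor₁ ≫ ψ) := by
  constructor
  · intro h n
    exact ⟨inj_of_subsingleton T hT _ (h n), surj_of_subsingleton T hT _
      (subsingleton_of_iso _ ((shiftFunctorAdd' C n 1 (n + 1) rfl).app K) (h (n + 1)))⟩
  · intro h n
    exact subsingleton_of_inj_surj T hT (K⟦n⟧) (K⟦n - 1⟧)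
      ((shiftFunctorAdd' C (n - 1) 1 n (by lia)).app K) (h n).1 (h (n - 1)).2

end Tri2

section General

open DerivedCategory

variable {A : Type u} [CommRing A] (f : A)

omit [CommRing A] in
lemma bijective_conj {X Y : Type*} (Ψ : X → Y) (hΨ : Function.Bijective Ψ) (a : X → X) (b : Y → Y)
    (h : ∀ x, Ψ (a x) = b (Ψ x)) : Function.Bijective a ↔ Function.Bijective b := by
  have h' : Ψ ∘ a = b ∘ Ψ := funext h
  constructor
  · intro ha
    have : Function.Bijective (b ∘ Ψ) := h' ▸ hΨ.comp ha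
    exact (Function.Bijective.of_comp_iff b hΨ).1 this
  · intro hb
    have : Function.Bijective (Ψ ∘ a) := h'.symm ▸ hb.comp hΨ
    exact (Function.Bijective.of_comp_iff' hΨ a).1 this

instance : Projective (ModuleCat.of A A[X]) :=
  (IsProjective.iff_projective (R := A) A[X]).1 inferInstance

theorem bijPP_iff_seqC (W : DerivedCategory (ModuleCat.{u} A)) :
    Function.Bijective
      (fun ψ : (singleFunctor (ModuleCat.{u} A) 0).obj (ModuleCat.of A A[X]) ⟶ W =>
        (singleFunctor (ModuleCat.{u} A) 0).map (awaySC f).f ≫ ψ) ↔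
      SeqC f ((homologyFunctor (ModuleCat.{u} A) 0).obj W) := by
  rw [← bij_iff_seqC]
  let F : ModuleCat.{u} A := ModuleCat.of A A[X]
  let v : F ⟶ F := (awaySC f).f
  let a : (homologyFunctor (ModuleCat.{u} A) 0).obj ((singleFunctor (ModuleCat.{u} A) 0).obj F) ≅ F :=
    (singleFunctorCompHomologyFunctorIso (ModuleCat.{u} A) 0).app F
  have hnat : a.inv ≫ (homologyFunctor (ModuleCat.{u} A) 0).map
      ((singleFunctor (ModuleCat.{u} A) 0).map v) = v ≫ a.inv :=
    ((singleFunctorCompHomologyFunctorIso (ModuleCat.{u} A) 0).inv.naturality v).symm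
  let Ψ : ((singleFunctor (ModuleCat.{u} A) 0).obj F ⟶ W) →
      (A[X] →ₗ[A] ((homologyFunctor (ModuleCat.{u} A) 0).obj W)) :=
    fun ψ => (a.inv ≫ (homologyFunctor (ModuleCat.{u} A) 0).map ψ).hom
  have hΨ : Function.Bijective Ψ := by
    have h1 := ProjHom.bijective_homologyFunctor_map (P := F) W
    constructor
    · intro ψ₁ ψ₂ h12
      apply h1.1
      have : a.inv ≫ (homologyFunctor (ModuleCat.{u} A) 0).map ψ₁ =
          a.inv ≫ (homologyFunctor (ModuleCat.{u} A) 0).map ψ₂ := ModuleCat.hom_ext h12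
      exact (cancel_epi a.inv).1 this
    · intro ℓ
      obtain ⟨ψ, hψ⟩ := h1.2 (a.hom ≫ ModuleCat.ofHom ℓ)
      refine ⟨ψ, ?_⟩
      have hψ' : (homologyFunctor (ModuleCat.{u} A) 0).map ψ = a.hom ≫ ModuleCat.ofHom ℓ := hψ
      show (a.inv ≫ (homologyFunctor (ModuleCat.{u} A) 0).map ψ).hom = ℓ
      rw [hψ', a.inv_hom_id_assoc]
      rfl
  refine bijective_conj Ψ hΨ _ _ (fun ψ => ?_)
  show (a.inv ≫ (homologyFunctor (ModuleCat.{u} A) 0).map
    ((singleFunctor (ModuleCat.{u} A) 0).map v ≫ ψ)).hom =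
      (a.inv ≫ (homologyFunctor (ModuleCat.{u} A) 0).map ψ).hom ∘ₗ LinearMap.mulLeft A (pp f)
  have e1 : a.inv ≫ (homologyFunctor (ModuleCat.{u} A) 0).map
      ((singleFunctor (ModuleCat.{u} A) 0).map v ≫ ψ) =
      v ≫ (a.inv ≫ (homologyFunctor (ModuleCat.{u} A) 0).map ψ) := by
    rw [Functor.map_comp, ← Category.assoc, hnat, Category.assoc]
  rw [e1, ModuleCat.hom_comp]
  rfl

theorem general_criterion (K : DerivedCategory (ModuleCat.{u} A)) :
    (∀ n : ℤ, Subsingleton
      ((singleFunctor (ModuleCat.{u} A) 0).obj (ModuleCat.of A (Localization.Away f)) ⟶ K⟦n⟧)) ↔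
      ∀ n : ℤ, SeqC f ((homologyFunctor (ModuleCat.{u} A) n).obj K) := by
  have hT := (awaySC_shortExact f).singleTriangle_distinguished
  refine Iff.trans (tri_criterion _ hT K) ?_
  refine forall_congr' fun n => ?_
  refine Iff.trans (bijPP_iff_seqC f (K⟦n⟧)) ?_
  let e : (homologyFunctor (ModuleCat.{u} A) 0).obj (K⟦n⟧) ≅
      (homologyFunctor (ModuleCat.{u} A) n).obj K :=
    ((homologyFunctor (ModuleCat.{u} A) 0).shiftIso n 0 n (by simp)).app K
  exact ⟨SeqC.of_equiv e.toLinearEquiv, SeqC.of_equiv e.symm.toLinearEquiv⟩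

end General

end Groth.Agent.Lib.helper23.DCompl
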