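import Mathlib
import Groth.Agent.Lib.Helper23.DCompl9

set_option autoImplicit false
universe u
open CategoryTheory CategoryTheory.Limits Polynomial

attribute [local instance] HasDerivedCategory.standard

namespace Groth.Agent.Lib.helper23.DCompl

section More

variable {A : Type u} [CommRing A] (f : A)

lemma SeqC.pi {ι : Type} (M : ι → Type u) [∀ i, AddCommGroup (M i)] [∀ i, Module A (M i)]
    (h : ∀ i, SeqC f (M i)) : SeqC f (∀ i, M i) := by
  refine ⟨fun c => ?_, fun y hy => ?_⟩
  · choose y hy using fun i => (h i).1 (fun k => c k i)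
    refine ⟨fun k i => y i k, fun k => ?_⟩
    funext i
    exact hy i k
  · funext i
    exact (h i).2 (fun k => y k i) (fun k => congrFun (hy k) i)

lemma seqC_of_finite_free (hA : SeqC f A) (P : Type u) [AddCommGroup P] [Module A P]
    [Module.Finite A P] [Module.Free A P] : SeqC f P := by
  have e := (Module.Free.chooseBasis A P).equivFun
  let n := Fintype.card (Module.Free.ChooseBasisIndex A P)
  have e2 : (Module.Free.ChooseBasisIndex A P → A) ≃ₗ[A] (Fin n → A) :=
    LinearEquiv.funCongrLeft A A (Fintype.equivFin _).symm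
  have h1 : SeqC f (Fin n → A) := SeqC.pi f (fun _ => A) (fun _ => hA)
  exact h1.of_equiv (e.trans e2).symm

lemma seqC_ker_coker {M N : Type u} [AddCommGroup M] [Module A M] [AddCommGroup N] [Module A N]
    (v : M →ₗ[A] N) (hM : SeqC f M) (hN : SeqC f N) :
    SeqC f (LinearMap.ker v) ∧ SeqC f (N ⧸ LinearMap.range v) := by
  have := ker_coker f v ((seqC_iff_En f).1 hM) ((seqC_iff_En f).1 hN)
  exact ⟨(seqC_iff_En f).2 this.1, (seqC_iff_En f).2 this.2⟩

lemma seqC_shortComplex_homology (S : ShortComplex (ModuleCat.{u} A))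
    (h1 : SeqC f S.X₁) (h2 : SeqC f S.X₂) (h3 : SeqC f S.X₃) : SeqC f S.homology := by
  have hk := (seqC_ker_coker f S.g.hom h2 h3).1
  have hc := (seqC_ker_coker f S.moduleCatToCycles h1 hk).2
  exact SeqC.of_equiv S.moduleCatHomologyIso.symm.toLinearEquiv hc

theorem seqC_homology (E : CochainComplex (ModuleCat.{u} A) ℤ) (h : ∀ i, SeqC f (E.X i)) (n : ℤ) :
    SeqC f ((DerivedCategory.homologyFunctor (ModuleCat.{u} A) n).obj (DerivedCategory.Q.obj E)) := by
  have h1 : SeqC f (E.homology n) := seqC_shortComplex_homology f (E.sc n) (h _) (h _) (h _)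
  exact SeqC.of_equiv ((DerivedCategory.homologyFunctorFactors (ModuleCat.{u} A) n).app E).symm.toLinearEquiv h1

end More

end Groth.Agent.Lib.helper23.DCompl
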