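import Mathlib
import Groth.Agent.Lib.Helper23.DCompl10

set_option autoImplicit false
universe u
open CategoryTheory CategoryTheory.Limits Polynomial

attribute [local instance] HasDerivedCategory.standard

namespace Groth.Agent.Lib.helper23.DCompl

section IdealProps

variable {A : Type u} [CommRing A] {M : Type u} [AddCommGroup M] [Module A M]

lemma SeqC.zero : SeqC (0 : A) M := by
  refine ⟨fun c => ⟨fun k => - c k, fun k => by simp⟩, fun y hy => ?_⟩
  have := hy 0
  rw [zero_smul] at this
  exact this.symm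

/-- solutions in the form `y k = c k + f • y (k+1)` -/
lemma SeqC.exists_sol {f : A} (h : SeqC f M) (c : ℕ → M) :
    ∃ y : ℕ → M, ∀ k, y k = c k + f • y (k + 1) := by
  obtain ⟨y, hy⟩ := h.1 (fun k => - c k)
  refine ⟨y, fun k => ?_⟩
  have := hy k
  rw [sub_eq_iff_eq_add] at this
  rw [this]; abel

lemma SeqC.sol_unique {f : A} (h : SeqC f M) {c y y' : ℕ → M}
    (hy : ∀ k, y k = c k + f • y (k + 1)) (hy' : ∀ k, y' k = c k + f • y' (k + 1)) (k : ℕ) :
    y k = y' k := by
  have := h.all_zero (fun j => y j - y' j) (fun j => by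
    have h1 := hy j
    have h2 := hy' j
    show f • (y (j + 1) - y' (j + 1)) = y j - y' j
    rw [h1, h2, smul_sub]
    abel) k
  exact sub_eq_zero.1 this

lemma SeqC.of_sol {f : A} (h1 : ∀ c : ℕ → M, ∃ y : ℕ → M, ∀ k, y k = c k + f • y (k + 1))
    (h2 : ∀ y : ℕ → M, (∀ k, f • y (k + 1) = y k) → y 0 = 0) : SeqC f M := by
  refine ⟨fun c => ?_, h2⟩
  obtain ⟨y, hy⟩ := h1 (fun k => - c k)
  refine ⟨y, fun k => ?_⟩
  rw [hy k]; abel

lemma SeqC.mul {f : A} (h : SeqC f M) (g : A) : SeqC (g * f) M := by
  apply SeqC.of_sol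
  · intro c
    choose z hz using fun k : ℕ => h.exists_sol (fun j => g ^ j • c (k + j))
    refine ⟨fun k => z k 0, fun k => ?_⟩
    have key : ∀ j, z k (j + 1) = g • z (k + 1) j := by
      intro j
      refine h.sol_unique (c := fun j => g ^ (j + 1) • c (k + (j + 1)))
        (y := fun j => z k (j + 1)) (y' := fun j => g • z (k + 1) j) (fun j => hz k (j + 1))
        (fun j => ?_) j
      show g • z (k + 1) j = g ^ (j + 1) • c (k + (j + 1)) + f • g • z (k + 1) (j + 1)
      rw [hz (k + 1) j, smul_add, smul_smul, ← pow_succ', smul_comm f g]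
      congr 3
      omega
    have h0 := hz k 0
    simp only [pow_zero, one_smul, add_zero] at h0
    show z k 0 = c k + (g * f) • z (k + 1) 0
    rw [h0, zero_add, key 0, mul_comm, mul_smul]
  · intro y hy
    have := h.2 (fun j => g ^ j • y j) (fun j => by
      show f • g ^ (j + 1) • y (j + 1) = g ^ j • y j
      rw [← hy j, pow_succ, mul_smul, mul_smul, smul_comm f (g ^ j), smul_comm f g])
    simpa using this

/-- the operator `y ↦ (k ↦ h • y (k+1) - y k)` on sequences -/
def seqD (h : A) (M : Type u) [AddCommGroup M] [Module A M] : (ℕ → M) →ₗ[A] (ℕ → M) where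
  toFun y := fun k => h • y (k + 1) - y k
  map_add' y y' := by
    funext k
    simp only [Pi.add_apply, smul_add]
    abel
  map_smul' a y := by
    funext k
    simp only [Pi.smul_apply, RingHom.id_apply, smul_sub, smul_comm h a]

lemma subsingleton_of_add {f g : A} {T : Type u} [AddCommGroup T] [Module A T]
    (hf : SeqC f T) (hg : SeqC g T) (hs : ∀ t : T, ∃ t' : T, (f + g) • t' = t) :
    Subsingleton T := by
  classical
  apply nakayama ({f, g} : Finset A) T
  · intro h hh
    simp only [Finset.mem_insert, Finset.mem_singleton] at hh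
    rcases hh with rfl | rfl
    · exact (seqC_iff_En _).1 hf
    · exact (seqC_iff_En _).1 hg
  · rw [eq_top_iff]
    intro t _
    obtain ⟨t', rfl⟩ := hs t
    rw [add_smul]
    exact add_mem (Submodule.smul_mem_smul (Ideal.subset_span (by simp)) trivial)
      (Submodule.smul_mem_smul (Ideal.subset_span (by simp)) trivial)

lemma SeqC.add {f g : A} (hf : SeqC f M) (hg : SeqC g M) : SeqC (f + g) M := by
  have hPf : SeqC f (ℕ → M) := SeqC.pi f (fun _ => M) (fun _ => hf)
  have hPg : SeqC g (ℕ → M) := SeqC.pi g (fun _ => M) (fun _ => hg)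
  have hkf := seqC_ker_coker f (seqD (f + g) M) hPf hPf
  have hkg := seqC_ker_coker g (seqD (f + g) M) hPg hPg
  have hker : Subsingleton (LinearMap.ker (seqD (f + g) M)) := by
    apply subsingleton_of_add hkf.1 hkg.1
    rintro ⟨y, hy⟩
    have hy' : ∀ k, (f + g) • y (k + 1) = y k := fun k => by
      have := congrFun (LinearMap.mem_ker.1 hy) k
      exact sub_eq_zero.1 this
    refine ⟨⟨fun k => y (k + 1), ?_⟩, ?_⟩
    · rw [LinearMap.mem_ker]
      funext k
      show (f + g) • y (k + 1 + 1) - y (k + 1) = 0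
      rw [hy' (k + 1), sub_self]
    · apply Subtype.ext
      funext k
      exact hy' k
  have hcoker : Subsingleton ((ℕ → M) ⧸ LinearMap.range (seqD (f + g) M)) := by
    apply subsingleton_of_add hkf.2 hkg.2
    intro t
    obtain ⟨y, rfl⟩ := Submodule.Quotient.mk_surjective _ t
    refine ⟨Submodule.Quotient.mk (fun k => y (k + 1)), ?_⟩
    rw [← Submodule.Quotient.mk_smul, Submodule.Quotient.eq]
    refine ⟨y, ?_⟩
    funext k
    rfl
  refine ⟨fun c => ?_, fun y hy => ?_⟩
  · have htop : LinearMap.range (seqD (f + g) M) = ⊤ := by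
      rw [← Submodule.Quotient.subsingleton_iff]
      exact hcoker
    have : c ∈ LinearMap.range (seqD (f + g) M) := by rw [htop]; trivial
    obtain ⟨y, hy⟩ := this
    exact ⟨y, fun k => congrFun hy k⟩
  · have hmem : y ∈ LinearMap.ker (seqD (f + g) M) := by
      rw [LinearMap.mem_ker]
      funext k
      show (f + g) • y (k + 1) - y k = 0
      rw [hy k, sub_self]
    have := Subsingleton.elim (⟨y, hmem⟩ : LinearMap.ker (seqD (f + g) M)) 0
    have h2 := congrArg (fun t : LinearMap.ker (seqD (f + g) M) => (t : ℕ → M) 0) this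
    simpa using h2

end IdealProps

section Radical

variable {A : Type u} [CommRing A]

lemma away_pow_equiv (f : A) (m : ℕ) (hm : 0 < m) :
    Nonempty (Localization.Away f ≃ₗ[A] Localization.Away (f ^ m)) := by
  haveI : IsLocalization (Submonoid.powers f) (Localization.Away (f ^ m)) := by
    apply IsLocalization.of_le_of_exists_dvd (Submonoid.powers (f ^ m)) (Submonoid.powers f)
    · rw [Submonoid.powers_le]
      exact ⟨m, rfl⟩
    · rintro _ ⟨k, rfl⟩
      refine ⟨(f ^ m) ^ k, ⟨k, rfl⟩, ?_⟩
      rw [← pow_mul]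
      exact pow_dvd_pow f (Nat.le_mul_of_pos_left k hm)
  exact ⟨(IsLocalization.algEquiv (Submonoid.powers f) (Localization.Away f)
    (Localization.Away (f ^ m))).toLinearEquiv⟩

lemma subsingleton_away_of_pow (f : A) (m : ℕ) (hm : 0 < m) (K : DerivedCategory (ModuleCat.{u} A))
    (h : Subsingleton ((DerivedCategory.singleFunctor (ModuleCat.{u} A) 0).obj
      (ModuleCat.of A (Localization.Away (f ^ m))) ⟶ K)) :
    Subsingleton ((DerivedCategory.singleFunctor (ModuleCat.{u} A) 0).obj
      (ModuleCat.of A (Localization.Away f)) ⟶ K) := by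
  obtain ⟨e⟩ := away_pow_equiv f m hm
  let i := (DerivedCategory.singleFunctor (ModuleCat.{u} A) 0).mapIso e.toModuleIso
  refine ⟨fun a b => ?_⟩
  have : i.inv ≫ a = i.inv ≫ b := Subsingleton.elim _ _
  exact (cancel_epi i.inv).1 this

end Radical

end Groth.Agent.Lib.helper23.DCompl
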