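import Mathlib
import Groth.Agent.Lib.Helper23.DCompl11


set_option autoImplicit false
universe u
open CategoryTheory CategoryTheory.Limits

attribute [local instance] HasDerivedCategory.standard

namespace Groth.Agent.Lib.helper23.DCompl

section Restrict

variable {A B : Type u} [CommRing A] [CommRing B] (φ : A →+* B)

noncomputable def homologyRestrictIso (L : DerivedCategory (ModuleCat.{u} B)) (n : ℤ) :
    (DerivedCategory.homologyFunctor (ModuleCat.{u} A) n).obj
      ((ModuleCat.restrictScalars.{u} φ).mapDerivedCategory.obj L) ≅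
    (ModuleCat.restrictScalars.{u} φ).obj
      ((DerivedCategory.homologyFunctor (ModuleCat.{u} B) n).obj L) := by
  let F := ModuleCat.restrictScalars.{u} φ
  let E := DerivedCategory.Q.objPreimage L
  let e : DerivedCategory.Q.obj E ≅ L := DerivedCategory.Q.objObjPreimageIso L
  refine (DerivedCategory.homologyFunctor (ModuleCat.{u} A) n).mapIso
    (F.mapDerivedCategory.mapIso e.symm) ≪≫ ?_
  refine (DerivedCategory.homologyFunctor (ModuleCat.{u} A) n).mapIso
    (F.mapDerivedCategoryFactors.app E) ≪≫ ?_
  refine (DerivedCategory.homologyFunctorFactors (ModuleCat.{u} A) n).app _ ≪≫ ?_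
  refine (E.sc n).mapHomologyIso F ≪≫ ?_
  refine F.mapIso ((DerivedCategory.homologyFunctorFactors (ModuleCat.{u} B) n).app E).symm ≪≫ ?_
  exact F.mapIso ((DerivedCategory.homologyFunctor (ModuleCat.{u} B) n).mapIso e)

lemma seqC_restrict_iff (f : A) (N : ModuleCat.{u} B) :
    SeqC f ((ModuleCat.restrictScalars.{u} φ).obj N) ↔ SeqC (φ f) N := Iff.rfl

theorem restrict_criterion (f : A) (L : DerivedCategory (ModuleCat.{u} B)) :
    (∀ n : ℤ, SeqC f ((DerivedCategory.homologyFunctor (ModuleCat.{u} A) n).obj
      ((ModuleCat.restrictScalars.{u} φ).mapDerivedCategory.obj L))) ↔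
    ∀ n : ℤ, SeqC (φ f) ((DerivedCategory.homologyFunctor (ModuleCat.{u} B) n).obj L) := by
  refine forall_congr' fun n => ?_
  rw [← seqC_restrict_iff]
  exact ⟨SeqC.of_equiv (homologyRestrictIso φ L n).toLinearEquiv,
    SeqC.of_equiv (homologyRestrictIso φ L n).symm.toLinearEquiv⟩

end Restrict

end Groth.Agent.Lib.helper23.DCompl
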