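import Mathlib
import Groth.Prelude.Def_PCoh
import Groth.Agent.Lib.Helper23.PCohCore8

set_option autoImplicit false
universe w v u
open CategoryTheory CategoryTheory.Limits HomologicalComplex CochainComplex
open CategoryTheory.Pretriangulated

namespace Groth.Agent.Lib.helper23.PCohCore

open Groth.Agent.Lib.helper23.NQuasiIso Groth.Agent.Lib.helper23.PCohAmp

variable {C : Type u} [Category.{v} C] [Abelian C] [HasDerivedCategory.{w} C]

/-- S5607: pseudo-coherence relative to an intermediate subcategory of pseudo-coherent objects. -/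
theorem npc_iff_of_intermediate (P : ObjectProperty C) [P.IsClosedUnderIsomorphisms]
    [P.ContainsZero] (hsum : ∀ X Y : C, P X → P Y → P (X ⨯ Y))
    (hqs : PCoh.IsQuasiStableUnderKernels P) (hql : PCoh.IsQuasiLiftable P)
    (P₁ : ObjectProperty C) (hle : ∀ X : C, P X → P₁ X)
    (hpc : ∀ X : C, P₁ X → PCoh.IsPC P ((DerivedCategory.singleFunctor C 0).obj X)) (n : ℤ)
    (F : DerivedCategory C) : NPC P₁ n F ↔ NPC P n F := by
  constructor
  · rintro ⟨E, ⟨⟨b, hb⟩, hP⟩, ⟨e⟩⟩
    exact (NPC.of_terms P hsum hqs hql n E b hb (fun i hi => hpc _ (hP i hi) (n - i))).of_iso e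
  · rintro ⟨E, ⟨hb, hP⟩, e⟩
    exact ⟨E, ⟨hb, fun i hi => hle _ (hP i hi)⟩, e⟩

end Groth.Agent.Lib.helper23.PCohCore
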