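import Mathlib
import Groth.Prelude.Def_PCoh
import Groth.Agent.Lib.Helper23.PCohCore9

set_option autoImplicit false
universe w v u
open CategoryTheory CategoryTheory.Limits HomologicalComplex CochainComplex
open CategoryTheory.Pretriangulated

namespace Groth.Agent.Lib.helper23.PCohCore

open Groth.Agent.Lib.helper23.NQuasiIso Groth.Agent.Lib.helper23.PCohAmp

variable {C : Type u} [Category.{v} C] [Abelian C] [HasDerivedCategory.{w} C]
  (P : ObjectProperty C) [P.IsClosedUnderIsomorphisms] [P.ContainsZero]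
  (hsum : ∀ X Y : C, P X → P Y → P (X ⨯ Y))
  (hqs : PCoh.IsQuasiStableUnderKernels P) (hql : PCoh.IsQuasiLiftable P)

include hsum hqs hql

/-- an object `X` with `X[0]` `0`-pseudo-coherent is of finite type. -/
lemma isOfFiniteType_of_npc_single {X : C}
    (h : NPC P 0 ((DerivedCategory.singleFunctor C 0).obj X)) : PCoh.IsOfFiniteType P X := by
  have hac : ∀ i : ℤ, 0 < i → IsZero ((DerivedCategory.homologyFunctor C i).obj
      ((DerivedCategory.singleFunctor C 0).obj X)) := fun i hi =>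
    DerivedCategory.isZero_of_isLE _ 0 i hi
  exact isOfFiniteType_of_iso P (homologySingleIso 0 X)
    ((npc_iff_isOfFiniteType P hsum hqs hql 0 _ hac).1 h)

omit hsum hqs hql [HasDerivedCategory.{w} C] in
/-- the short exact sequence `0 → Z^j → K^j → Z^{j+1} → 0` of an exact complex. -/
lemma shortExact_cycles (K : CochainComplex C ℕ) (j : ℕ) (hK : K.ExactAt (j + 1)) :
    (ShortComplex.mk (kernel.ι (K.d j (j + 1)))
      (kernel.lift (K.d (j + 1) (j + 2)) (K.d j (j + 1)) (K.d_comp_d _ _ _)) (by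
        rw [← cancel_mono (kernel.ι (K.d (j + 1) (j + 2))), Category.assoc, kernel.lift_ι,
          kernel.condition, zero_comp])).ShortExact := by
  rw [HomologicalComplex.exactAt_iff' K j (j + 1) (j + 2) (by simp) (by simp)] at hK
  have hepi : Epi (kernel.lift (K.d (j + 1) (j + 2)) (K.d j (j + 1)) (K.d_comp_d _ _ _)) :=
    (ShortComplex.exact_iff_epi_kernel_lift _).1 hK
  refine { exact := ?_, mono_f := by dsimp; infer_instance, epi_g := hepi }
  rw [ShortComplex.exact_iff_exact_up_to_refinements]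
  intro A x₂ hx₂
  dsimp at x₂ hx₂
  have h0 : x₂ ≫ K.d j (j + 1) = 0 := by
    rw [← kernel.lift_ι (K.d (j + 1) (j + 2)) (K.d j (j + 1)) (K.d_comp_d _ _ _),
      ← Category.assoc, hx₂, zero_comp]
  exact ⟨A, 𝟙 A, inferInstance, kernel.lift _ x₂ h0, by simp⟩

/-- S5606, quasi-liftability. -/
theorem isQuasiLiftable_of_intermediate (P₁ : ObjectProperty C) (hle : ∀ X : C, P X → P₁ X)
    (hpc : ∀ X : C, P₁ X → PCoh.IsPC P ((DerivedCategory.singleFunctor C 0).obj X)) :
    PCoh.IsQuasiLiftable P₁ := by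
  intro E F u hu hF
  obtain ⟨L₀, π₀, hL₀, hπ₀⟩ := isOfFiniteType_of_npc_single P hsum hqs hql (hpc F hF 0)
  haveI := hu
  haveI := hπ₀
  obtain ⟨L, t, hL, ht⟩ := hql _ _ (pullback.fst π₀ u) inferInstance hL₀
  refine ⟨L, t ≫ pullback.snd π₀ u, hle L hL, ?_⟩
  rw [Category.assoc, ← pullback.condition, ← Category.assoc]
  exact epi_comp _ _

/-- S5606, quasi-stability. -/
theorem isQuasiStable_of_intermediate (P₁ : ObjectProperty C) (hle : ∀ X : C, P X → P₁ X)
    (hpc : ∀ X : C, P₁ X → PCoh.IsPC P ((DerivedCategory.singleFunctor C 0).obj X)) :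
    PCoh.IsQuasiStableUnderKernels P₁ := by
  intro K hex hbd hK
  obtain ⟨N, hN⟩ := hbd
  -- all cycle objects `Z^j`, `j ≥ 1`, are pseudo-coherent
  have key : ∀ (d : ℕ) (j : ℕ), 1 ≤ j → N + 1 ≤ j + d → ∀ m : ℤ,
      NPC P m ((DerivedCategory.singleFunctor C 0).obj (kernel (K.d j (j + 1)))) := by
    intro d
    induction d with
    | zero =>
      intro j hj hjN m
      have hz : IsZero (kernel (K.d j (j + 1))) :=
        IsZero.of_mono (kernel.ι (K.d j (j + 1))) (hN j (by omega))
      exact NPC.of_isZero P m ((DerivedCategory.singleFunctor C 0).map_isZero hz)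
    | succ d ih =>
      intro j hj hjN m
      have hS := shortExact_cycles K j (hex (j + 1))
      have h3 := ih (j + 1) (by omega) (by omega) (m - 1)
      have h2 : NPC P (m - 1 + 1) ((DerivedCategory.singleFunctor C 0).obj (K.X j)) :=
        hpc _ (hK j hj) (m - 1 + 1)
      have := (NPC.two_of_three P hsum hqs hql (m - 1) _
        hS.singleTriangle_distinguished).2.2 h2 h3
      exact this.mono (by omega)
  -- `K⁰ ≅ Z¹`
  have h0 := hex 0
  rw [HomologicalComplex.exactAt_iff' K 0 0 1 (by simp) (by simp),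
    ShortComplex.exact_iff_mono _ (K.shape 0 0 (by simp))] at h0
  have h1 := hex 1
  rw [HomologicalComplex.exactAt_iff' K 0 1 2 (by simp) (by simp)] at h1
  haveI : Mono (K.d 0 1) := h0
  haveI hepi : Epi (kernel.lift (K.d 1 2) (K.d 0 1) (K.d_comp_d _ _ _)) :=
    (ShortComplex.exact_iff_epi_kernel_lift _).1 h1
  haveI : Mono (kernel.lift (K.d 1 2) (K.d 0 1) (K.d_comp_d _ _ _)) :=
    mono_of_mono_fac (kernel.lift_ι _ _ _)
  haveI : IsIso (kernel.lift (K.d 1 2) (K.d 0 1) (K.d_comp_d _ _ _)) := isIso_of_mono_of_epi _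
  have hZ : PCoh.IsOfFiniteType P (kernel (K.d 1 2)) :=
    isOfFiniteType_of_npc_single P hsum hqs hql (key N 1 le_rfl (by omega) 0)
  obtain ⟨L, π, hL, hπ⟩ := isOfFiniteType_of_iso P
    (asIso (kernel.lift (K.d 1 2) (K.d 0 1) (K.d_comp_d _ _ _))).symm hZ
  exact ⟨L, π, hle L hL, hπ⟩

end Groth.Agent.Lib.helper23.PCohCore
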