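import Mathlib
import Groth.Prelude.Def_PCoh
import Groth.Agent.Lib.Helper23.PCohCore10

set_option autoImplicit false
universe w v u
open CategoryTheory CategoryTheory.Limits HomologicalComplex CochainComplex
open CategoryTheory.Pretriangulated

namespace Groth.Agent.Lib.helper23.PCohCore

open Groth.Agent.Lib.helper23.NQuasiIso Groth.Agent.Lib.helper23.PCohAmp

variable {C : Type u} [Category.{v} C] [Abelian C]

/-- coherent objects relative to `P`. -/
def IsCoh (P : ObjectProperty C) (X : C) : Prop :=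
  PCoh.IsOfFiniteType P X ∧ ∀ (E : C) (u : E ⟶ X), P E → PCoh.IsOfFiniteType P (kernel u)

lemma isOfFiniteType_of_epi (P : ObjectProperty C) {X Y : C} (f : X ⟶ Y) [Epi f]
    (h : PCoh.IsOfFiniteType P X) : PCoh.IsOfFiniteType P Y := by
  obtain ⟨L, π, hL, hπ⟩ := h
  haveI := hπ
  exact ⟨L, π ≫ f, hL, epi_comp _ _⟩

lemma IsCoh.of_iso {P : ObjectProperty C} {X Y : C} (h : IsCoh P X) (e : X ≅ Y) : IsCoh P Y := by
  refine ⟨isOfFiniteType_of_iso P e h.1, fun E u hE => ?_⟩
  have h1 := h.2 E (u ≫ e.inv) hE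
  exact isOfFiniteType_of_iso P (kernelCompMono u e.inv) h1

lemma IsCoh.of_mono {P : ObjectProperty C} {X K : C} (h : IsCoh P X) (i : K ⟶ X) [Mono i]
    (hK : PCoh.IsOfFiniteType P K) : IsCoh P K :=
  ⟨hK, fun E u hE => isOfFiniteType_of_iso P (kernelCompMono u i) (h.2 E (u ≫ i) hE)⟩

section

variable (P : ObjectProperty C) [P.IsClosedUnderIsomorphisms] [P.ContainsZero]
  (hsum : ∀ X Y : C, P X → P Y → P (X ⨯ Y)) (hql : PCoh.IsQuasiLiftable P)
  (hcoh : ∀ (X E : C) (u : E ⟶ X), P X → P E → PCoh.IsOfFiniteType P (kernel u))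

include hcoh in
lemma IsCoh.of_prop {X : C} (hX : P X) : IsCoh P X :=
  ⟨⟨X, 𝟙 X, hX, inferInstance⟩, fun E u hE => hcoh X E u hX hE⟩

include hcoh in
/-- quasi-stability under kernels follows from coherence. -/
lemma isQuasiStable_of_coh : PCoh.IsQuasiStableUnderKernels P := by
  intro K hex _ hK
  have h0 := hex 0
  rw [HomologicalComplex.exactAt_iff' K 0 0 1 (by simp) (by simp),
    ShortComplex.exact_iff_mono _ (K.shape 0 0 (by simp))] at h0
  have h1 := hex 1
  rw [HomologicalComplex.exactAt_iff' K 0 1 2 (by simp) (by simp)] at h1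
  haveI : Mono (K.d 0 1) := h0
  haveI hepi : Epi (kernel.lift (K.d 1 2) (K.d 0 1) (K.d_comp_d _ _ _)) :=
    (ShortComplex.exact_iff_epi_kernel_lift _).1 h1
  haveI : Mono (kernel.lift (K.d 1 2) (K.d 0 1) (K.d_comp_d _ _ _)) :=
    mono_of_mono_fac (kernel.lift_ι _ _ _)
  haveI : IsIso (kernel.lift (K.d 1 2) (K.d 0 1) (K.d_comp_d _ _ _)) := isIso_of_mono_of_epi _
  exact isOfFiniteType_of_iso P
    (asIso (kernel.lift (K.d 1 2) (K.d 0 1) (K.d_comp_d _ _ _))).symm
    (hcoh _ _ (K.d 1 2) (hK 2 (by omega)) (hK 1 le_rfl))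

include hsum hql in
/-- the cokernel of a map from an object of `P` to a coherent object is coherent. -/
lemma IsCoh.cokernel {X E : C} (hX : IsCoh P X) (v : E ⟶ X) (hE : P E) :
    IsCoh P (cokernel v) := by
  refine ⟨isOfFiniteType_of_epi P (cokernel.π v) hX.1, fun E' u hE' => ?_⟩
  -- lift `u` through `X ↠ coker v` up to a cover in `P`
  obtain ⟨E'', t, hE'', ht⟩ := hql _ _ (pullback.fst u (cokernel.π v)) inferInstance hE'
  obtain ⟨a, ha⟩ : ∃ a : E'' ⟶ E', a = t ≫ pullback.fst u (cokernel.π v) := ⟨_, rfl⟩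
  obtain ⟨l, hl⟩ : ∃ l : E'' ⟶ X, l = t ≫ pullback.snd u (cokernel.π v) := ⟨_, rfl⟩
  haveI : Epi a := by rw [ha]; exact ht
  have hla : l ≫ cokernel.π v = a ≫ u := by
    rw [hl, ha, Category.assoc, Category.assoc, pullback.condition]
  have hPsum : P (E ⊞ E'') := P.prop_of_iso (biprod.isoProd _ _).symm (hsum _ _ hE hE'')
  have hN := hX.2 (E ⊞ E'') (biprod.desc v l) hPsum
  -- the map `N ⟶ ker u`
  have hρ0 : (kernel.ι (biprod.desc v l) ≫ biprod.snd ≫ a) ≫ u = 0 := by
    have h1 : kernel.ι (biprod.desc v l) ≫ (biprod.fst ≫ v + biprod.snd ≫ l) = 0 := by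
      have : (biprod.fst ≫ v + biprod.snd ≫ l : E ⊞ E'' ⟶ X) = biprod.desc v l := by
        ext <;> simp
      rw [this, kernel.condition]
    rw [Preadditive.comp_add] at h1
    have h2 : kernel.ι (biprod.desc v l) ≫ biprod.snd ≫ l =
        -(kernel.ι (biprod.desc v l) ≫ biprod.fst ≫ v) := by
      rw [eq_neg_iff_add_eq_zero, add_comm]
      exact h1
    calc (kernel.ι (biprod.desc v l) ≫ biprod.snd ≫ a) ≫ u
        = kernel.ι (biprod.desc v l) ≫ biprod.snd ≫ (a ≫ u) := by simp only [Category.assoc]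
      _ = kernel.ι (biprod.desc v l) ≫ biprod.snd ≫ (l ≫ cokernel.π v) := by rw [hla]
      _ = (kernel.ι (biprod.desc v l) ≫ biprod.snd ≫ l) ≫ cokernel.π v := by
        simp only [Category.assoc]
      _ = 0 := by
        rw [h2, Preadditive.neg_comp, Category.assoc, Category.assoc, cokernel.condition,
          comp_zero, comp_zero, neg_zero]
  let ρ : kernel (biprod.desc v l) ⟶ kernel u := kernel.lift u _ hρ0
  have hρ : ρ ≫ kernel.ι u = kernel.ι (biprod.desc v l) ≫ biprod.snd ≫ a := kernel.lift_ι _ _ _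
  haveI : Epi ρ := by
    rw [epi_iff_surjective_up_to_refinements]
    intro A x
    obtain ⟨A₁, π₁, hπ₁, y, hy⟩ := surjective_up_to_refinements_of_epi a (x ≫ kernel.ι u)
    have hyl : (y ≫ l) ≫ cokernel.π v = 0 := by
      rw [Category.assoc, hla, ← Category.assoc, ← hy, Category.assoc, Category.assoc,
        kernel.condition, comp_zero, comp_zero]
    have hex : (ShortComplex.mk v (cokernel.π v) (cokernel.condition v)).Exact :=
      ShortComplex.exact_of_g_is_cokernel _ (cokernelIsCokernel v)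
    obtain ⟨A₂, π₂, hπ₂, z, hz⟩ := hex.exact_up_to_refinements (y ≫ l) hyl
    dsimp at z hz
    have hn0 : biprod.lift (-z) (π₂ ≫ y) ≫ biprod.desc v l = 0 := by
      rw [biprod.lift_desc, Preadditive.neg_comp, ← hz, Category.assoc, neg_add_cancel]
    refine ⟨A₂, π₂ ≫ π₁, epi_comp _ _, kernel.lift _ (biprod.lift (-z) (π₂ ≫ y)) hn0, ?_⟩
    rw [← cancel_mono (kernel.ι u)]
    symm
    calc (kernel.lift _ (biprod.lift (-z) (π₂ ≫ y)) hn0 ≫ ρ) ≫ kernel.ι u
        = (kernel.lift _ (biprod.lift (-z) (π₂ ≫ y)) hn0 ≫ kernel.ι (biprod.desc v l)) ≫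
            biprod.snd ≫ a := by rw [Category.assoc, hρ, Category.assoc]
      _ = (biprod.lift (-z) (π₂ ≫ y) ≫ biprod.snd) ≫ a := by
        rw [kernel.lift_ι, Category.assoc]
      _ = π₂ ≫ y ≫ a := by rw [biprod.lift_snd, Category.assoc]
      _ = ((π₂ ≫ π₁) ≫ x) ≫ kernel.ι u := by rw [← hy]; simp only [Category.assoc]
  exact isOfFiniteType_of_epi P ρ hN

end

section Derived

variable [HasDerivedCategory.{w} C] (P : ObjectProperty C) [P.IsClosedUnderIsomorphisms]
  [P.ContainsZero]

/-- single complexes on objects of `P` are `m`-pseudo-coherent for all `m`. -/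
lemma NPC.single_of_prop {L : C} (hL : P L) (j m : ℤ) :
    NPC P m ((DerivedCategory.singleFunctor C j).obj L) :=
  ⟨(HomologicalComplex.single C (ComplexShape.up ℤ) j).obj L,
    ⟨⟨j, fun i hi => HomologicalComplex.isZero_single_obj_X _ _ _ _ (by omega)⟩,
      fun i _ => by
        by_cases h : i = j
        · subst h
          exact P.prop_of_iso (HomologicalComplex.singleObjXSelf (ComplexShape.up ℤ) i L).symm hL
        · exact P.prop_of_isZero (HomologicalComplex.isZero_single_obj_X _ _ _ _ h)⟩,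
    ⟨Iso.refl _⟩⟩

variable (hsum : ∀ X Y : C, P X → P Y → P (X ⨯ Y)) (hql : PCoh.IsQuasiLiftable P)
  (hcoh : ∀ (X E : C) (u : E ⟶ X), P X → P E → PCoh.IsOfFiniteType P (kernel u))

include hsum hql hcoh

/-- an object of finite type placed in degree `0` is `0`-pseudo-coherent. -/
lemma npc_single_of_isOfFiniteType {X : C} (h : PCoh.IsOfFiniteType P X) :
    NPC P 0 ((DerivedCategory.singleFunctor C 0).obj X) := by
  have hac : ∀ i : ℤ, 0 < i → IsZero ((DerivedCategory.homologyFunctor C i).obj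
      ((DerivedCategory.singleFunctor C 0).obj X)) := fun i hi =>
    DerivedCategory.isZero_of_isLE _ 0 i hi
  exact (npc_iff_isOfFiniteType P hsum (isQuasiStable_of_coh P hcoh) hql 0 _ hac).2
    (isOfFiniteType_of_iso P (homologySingleIso 0 X).symm h)

/-- coherent objects are pseudo-coherent. -/
theorem IsCoh.npc_single : ∀ (d : ℕ) (m : ℤ), 1 ≤ m + d → ∀ (X : C), IsCoh P X →
    NPC P m ((DerivedCategory.singleFunctor C 0).obj X) := by
  have hqs := isQuasiStable_of_coh P hcoh
  intro d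
  induction d with
  | zero =>
    intro m hm X _
    exact NPC.of_acyclic P m _ (fun i hi =>
      DerivedCategory.isZero_of_isLE _ 0 i (by simp at hm; omega))
  | succ d ih =>
    intro m hm X hX
    obtain ⟨L, π, hL, hπ⟩ := hX.1
    haveI := hπ
    have hK : IsCoh P (kernel π) :=
      (IsCoh.of_prop P hcoh hL).of_mono (kernel.ι π) (hX.2 L π hL)
    have h1 := ih (m + 1) (by push_cast at hm; omega) (kernel π) hK
    let S : ShortComplex C := ShortComplex.mk (kernel.ι π) π (kernel.condition π)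
    have hS : S.ShortExact :=
      { exact := ShortComplex.exact_of_f_is_kernel _ (kernelIsKernel π)
        mono_f := by dsimp [S]; infer_instance
        epi_g := by dsimp [S]; infer_instance }
    exact (NPC.two_of_three P hsum hqs hql m _ hS.singleTriangle_distinguished).1 h1
      (NPC.single_of_prop P hL 0 m)

/-- S5608. -/
theorem npc_iff_coherent_homology (n : ℤ) (F : DerivedCategory C) (b : ℤ)
    (hb : ∀ i : ℤ, b < i → IsZero ((DerivedCategory.homologyFunctor C i).obj F)) :
    NPC P n F ↔ (PCoh.IsOfFiniteType P ((DerivedCategory.homologyFunctor C n).obj F) ∧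
      ∀ i : ℤ, n < i → IsCoh P ((DerivedCategory.homologyFunctor C i).obj F)) := by
  have hqs := isQuasiStable_of_coh P hcoh
  constructor
  · rintro ⟨E, ⟨-, hP⟩, ⟨e⟩⟩
    have eH : ∀ i, E.homology i ≅ (DerivedCategory.homologyFunctor C i).obj F := fun i =>
      ((DerivedCategory.homologyFunctorFactors C i).app E).symm ≪≫
        (DerivedCategory.homologyFunctor C i).mapIso e
    have hZ : ∀ i : ℤ, n ≤ i → PCoh.IsOfFiniteType P (E.cycles i) := fun i hi =>
      isOfFiniteType_of_iso P
        (IsLimit.conePointUniqueUpToIso (kernelIsKernel (E.d i (i + 1)))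
          (E.cyclesIsKernel i (i + 1) (by simp)))
        (hcoh _ _ (E.d i (i + 1)) (hP (i + 1) (by omega)) (hP i hi))
    refine ⟨isOfFiniteType_of_iso P (eH n) (isOfFiniteType_of_epi P (E.homologyπ n) (hZ n le_rfl)),
      fun i hi => ?_⟩
    have hZc : IsCoh P (E.cycles i) :=
      (IsCoh.of_prop P hcoh (hP i (by omega))).of_mono (E.iCycles i) (hZ i (by omega))
    have hc := hZc.cokernel P hsum hql (E.toCycles (i - 1) i) (hP (i - 1) (by omega))
    have e' : cokernel (E.toCycles (i - 1) i) ≅ E.homology i :=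
      IsColimit.coconePointUniqueUpToIso (cokernelIsCokernel _)
        (E.homologyIsCokernel (i - 1) i (by simp))
    exact (hc.of_iso e').of_iso (eH i)
  · rintro ⟨h1, h2⟩
    refine NPC.of_homology P hsum hqs hql n F b hb (fun i hi => ?_)
    rcases eq_or_lt_of_le hi with rfl | hi'
    · rw [sub_self]
      exact npc_single_of_isOfFiniteType P hsum hql hcoh h1
    · exact IsCoh.npc_single P hsum hql hcoh (i - n + 1).toNat (n - i) (by
        rw [Int.toNat_of_nonneg (by omega)]; omega) _ (h2 i hi')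

end Derived

end Groth.Agent.Lib.helper23.PCohCore
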