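import Mathlib
import Groth.Prelude.Def_PCoh
import Groth.Agent.Lib.Helper23.PCohCore8

set_option autoImplicit false
universe w v u
open CategoryTheory CategoryTheory.Limits HomologicalComplex CochainComplex
open CategoryTheory.Pretriangulated

namespace Groth.Agent.Lib.helper23.PCohCore

open Groth.Agent.Lib.helper23.NQuasiIso Groth.Agent.Lib.helper23.PCohAmp

section Sequences

variable {A B : Type*} [Category A] [Category B]

/-- a sequence whose maps become isomorphisms after applying `F'` from `K` on is eventually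
constant. -/
lemma isEventuallyConstantFrom_ofSequence {X : ℕ → A} (f : ∀ n, X n ⟶ X (n + 1)) (F' : A ⥤ B)
    (K : ℕ) (h : ∀ k, K ≤ k → IsIso (F'.map (f k))) :
    (Functor.ofSequence f ⋙ F').IsEventuallyConstantFrom K := by
  intro j φ
  have hle : K ≤ j := leOfHom φ
  obtain rfl : φ = homOfLE hle := Subsingleton.elim _ _
  induction j, hle using Nat.le_induction with
  | base =>
    have : homOfLE (le_refl K) = 𝟙 K := Subsingleton.elim _ _
    rw [this, CategoryTheory.Functor.map_id]
    infer_instance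
  | succ j hj ih =>
    have e : homOfLE (Nat.le_succ_of_le hj) = homOfLE hj ≫ homOfLE (Nat.le_add_right j 1) :=
      Subsingleton.elim _ _
    have h1 : (Functor.ofSequence f ⋙ F').map (homOfLE (Nat.le_succ_of_le hj)) =
        (Functor.ofSequence f ⋙ F').map (homOfLE hj) ≫ F'.map (f j) := by
      rw [e, CategoryTheory.Functor.map_comp, Functor.comp_map _ _ (homOfLE (Nat.le_add_right j 1)),
        Functor.ofSequence_map_homOfLE_succ]
      rfl
    change IsIso ((Functor.ofSequence f ⋙ F').map (homOfLE (Nat.le_succ_of_le hj)))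
    rw [h1]
    exact IsIso.comp_isIso' ih (h j hj)

end Sequences

section ColimitComplex

variable {C : Type u} [Category.{v} C] [Abelian C] {J : Type*} [Category J] [IsFiltered J]
  {ι : Type*} {c : ComplexShape ι}

lemma isIso_ι_f_of_isColimit_of_isEventuallyConstantFrom (F : J ⥤ HomologicalComplex C c)
    [∀ j : ι, HasColimit (F ⋙ HomologicalComplex.eval C c j)]
    {cF : Cocone F} (hcF : IsColimit cF) (q : ι) (j : J)
    (hq : (F ⋙ HomologicalComplex.eval C c q).IsEventuallyConstantFrom j) :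
    IsIso ((cF.ι.app j).f q) :=
  hq.isIso_ι_of_isColimit (isColimitOfPreserves (HomologicalComplex.eval C c q) hcF)

lemma quasiIsoAt_ι_of_isColimit_of_isEventuallyConstantFrom (F : J ⥤ HomologicalComplex C c)
    [∀ j : ι, HasColimit (F ⋙ HomologicalComplex.eval C c j)]
    {cF : Cocone F} (hcF : IsColimit cF) (q₀ q₁ q₂ : ι)
    (h₀ : c.prev q₁ = q₀) (h₂ : c.next q₁ = q₂) (j : J)
    (hq₀ : (F ⋙ HomologicalComplex.eval C c q₀).IsEventuallyConstantFrom j)
    (hq₁ : (F ⋙ HomologicalComplex.eval C c q₁).IsEventuallyConstantFrom j)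
    (hq₂ : (F ⋙ HomologicalComplex.eval C c q₂).IsEventuallyConstantFrom j) :
    QuasiIsoAt (cF.ι.app j) q₁ := by
  rw [quasiIsoAt_iff' _ q₀ q₁ q₂ h₀ h₂]
  let φ := (shortComplexFunctor' C c q₀ q₁ q₂).map (cF.ι.app j)
  have : IsIso φ.τ₁ := isIso_ι_f_of_isColimit_of_isEventuallyConstantFrom F hcF _ _ hq₀
  have : IsIso φ.τ₂ := isIso_ι_f_of_isColimit_of_isEventuallyConstantFrom F hcF _ _ hq₁
  have : IsIso φ.τ₃ := isIso_ι_f_of_isColimit_of_isEventuallyConstantFrom F hcF _ _ hq₂
  apply ShortComplex.quasiIso_of_epi_of_isIso_of_mono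

end ColimitComplex

section Stages

variable {C : Type u} [Category.{v} C] [Abelian C]

/-- a stage of the construction: a strictly perfect complex concentrated in `[b + 1 - k, b]` with a
`(b + 1 - k)`-quasi-isomorphism to `E`. -/
structure Stage (P : ObjectProperty C) (E : CochainComplex C ℤ) (b : ℤ) (k : ℕ) where
  /-- the complex -/
  G : CochainComplex C ℤ
  /-- the map -/
  w : G ⟶ E
  hP : ∀ i, P (G.X i)
  hz : ∀ i, i < b + 1 - (k : ℤ) ∨ b < i → IsZero (G.X i)
  hiso : ∀ i, b + 1 - (k : ℤ) < i → IsIso (homologyMap w i)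
  hepi : Epi (homologyMap w (b + 1 - (k : ℤ)))

/-- the initial stage. -/
noncomputable def Stage.zero (P : ObjectProperty C) [P.IsClosedUnderIsomorphisms] [P.ContainsZero]
    (E : CochainComplex C ℤ) (b : ℤ) (hEz : ∀ i, b < i → IsZero (E.homology i)) :
    Stage P E b 0 where
  G := (HomologicalComplex.zero : CochainComplex C ℤ)
  w := 0
  hP := fun i => P.prop_of_isZero (Limits.isZero_zero C)
  hz := fun i _ => Limits.isZero_zero C
  hiso := fun i hi => by
    have h1 : IsZero ((HomologicalComplex.zero : CochainComplex C ℤ).homology i) :=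
      isZero_homology_of_isZero_X _ i (Limits.isZero_zero C)
    have h2 : IsZero (E.homology i) := hEz i (by simp at hi; omega)
    exact ⟨0, h1.eq_of_src _ _, h2.eq_of_src _ _⟩
  hepi := (hEz _ (by simp)).epi _

variable [HasDerivedCategory.{w} C]

theorem Stage.exists_next {P : ObjectProperty C} [P.IsClosedUnderIsomorphisms] [P.ContainsZero]
    (hsum : ∀ X Y : C, P X → P Y → P (X ⨯ Y))
    (hqs : PCoh.IsQuasiStableUnderKernels P) (hql : PCoh.IsQuasiLiftable P)
    {E : CochainComplex C ℤ} {b : ℤ} {k : ℕ} (s : Stage P E b k)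
    (hE : NPC P (b - k) (DerivedCategory.Q.obj E)) :
    ∃ (s' : Stage P E b (k + 1)) (v : s.G ⟶ s'.G), v ≫ s'.w = s.w ∧
      ∀ i : ℤ, i ≠ b - (k : ℤ) → IsIso (v.f i) := by
  obtain ⟨m, hm⟩ : ∃ m : ℤ, m = b - (k : ℤ) := ⟨_, rfl⟩
  have hm1 : b + 1 - (k : ℤ) = m + 1 := by omega
  have hm2 : b + 1 - ((k + 1 : ℕ) : ℤ) = m := by push_cast; omega
  have hiso : ∀ i : ℤ, m + 1 < i → IsIso (homologyMap s.w i) := fun i hi => s.hiso i (by omega)
  have hepi : Epi (homologyMap s.w (m + 1)) := by
    have := s.hepi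
    rwa [hm1] at this
  -- the cone
  have hT := DerivedCategory.mappingCone_triangle_distinguished s.w
  have h1 : NPC P (m + 1) (DerivedCategory.Q.obj s.G) :=
    ⟨s.G, ⟨⟨b, fun i hi => s.hz i (Or.inr hi)⟩, fun i _ => s.hP i⟩, ⟨Iso.refl _⟩⟩
  have h3 : NPC P m (DerivedCategory.Q.obj (mappingCone s.w)) :=
    NPC.cone P hsum hqs hql m _ hT h1 (by rw [hm]; exact hE)
  have hac : ∀ i : ℤ, m < i → IsZero ((DerivedCategory.homologyFunctor C i).obj
      (DerivedCategory.Q.obj (mappingCone s.w))) := by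
    intro i hi
    refine IsZero.of_iso ?_ ((DerivedCategory.homologyFunctorFactors C i).app _)
    refine isZero_homology_mappingCone s.w i ?_ ?_
    · rcases eq_or_lt_of_le (show m + 1 ≤ i by omega) with h | h
      · subst h
        exact hepi
      · haveI := hiso i h
        infer_instance
    · haveI := hiso (i + 1) (by omega)
      infer_instance
  have hft := (npc_iff_isOfFiniteType P hsum hqs hql m _ hac).1 h3
  have hcone : PCoh.IsOfFiniteType P ((mappingCone s.w).homology m) :=
    isOfFiniteType_of_iso P ((DerivedCategory.homologyFunctorFactors C m).app _) hft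
  obtain ⟨G', v, w', hvw, hmono, hisov, hcok, h5, h6⟩ :=
    exists_modification P hql m s.G E s.w hiso hepi hcone
  have hzG : ∀ i, i < m + 1 ∨ b < i → IsZero (s.G.X i) := fun i hi => s.hz i (by omega)
  have hmb : m ≤ b := by
    have : (0 : ℤ) ≤ k := Int.natCast_nonneg k
    omega
  refine ⟨{ G := G', w := w', hP := ?_, hz := ?_, hiso := ?_, hepi := ?_ }, v, hvw, ?_⟩
  · intro i
    by_cases him : i = m
    · subst him
      have hv0 : v.f i = 0 := (hzG i (Or.inl (by omega))).eq_of_src _ _
      exact P.prop_of_iso (cokernelIsoOfEq hv0 ≪≫ cokernelZeroIsoTarget) hcok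
    · haveI := hisov i him
      exact P.prop_of_iso (asIso (v.f i)) (s.hP i)
  · intro i hi
    rw [hm2] at hi
    have him : i ≠ m := by omega
    haveI := hisov i him
    refine (hzG i ?_).of_iso (asIso (v.f i)).symm
    rcases hi with hi | hi
    · exact Or.inl (by omega)
    · exact Or.inr hi
  · intro i hi
    rw [hm2] at hi
    exact h5 i hi
  · rw [hm2]
    exact h6
  · intro i hi
    exact hisov i (by rw [hm]; exact hi)

end Stages

section Limit

variable {C : Type u} [Category.{v} C] [Abelian C] [HasDerivedCategory.{w} C]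
  {P : ObjectProperty C} [P.IsClosedUnderIsomorphisms] [P.ContainsZero]
  (hsum : ∀ X Y : C, P X → P Y → P (X ⨯ Y))
  (hqs : PCoh.IsQuasiStableUnderKernels P) (hql : PCoh.IsQuasiLiftable P)
  {E : CochainComplex C ℤ} {b : ℤ} (hE : ∀ m : ℤ, NPC P m (DerivedCategory.Q.obj E))
  (s₀ : Stage P E b 0)

/-- the sequence of stages. -/
noncomputable def stageSeq (k : ℕ) : Stage P E b k :=
  Nat.rec s₀ (fun _ s => (s.exists_next hsum hqs hql (hE _)).choose) k

/-- the transition maps. -/
noncomputable def stageTrans (k : ℕ) :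
    (stageSeq hsum hqs hql hE s₀ k).G ⟶ (stageSeq hsum hqs hql hE s₀ (k + 1)).G :=
  ((stageSeq hsum hqs hql hE s₀ k).exists_next hsum hqs hql (hE _)).choose_spec.choose

lemma stageTrans_w (k : ℕ) :
    stageTrans hsum hqs hql hE s₀ k ≫ (stageSeq hsum hqs hql hE s₀ (k + 1)).w =
      (stageSeq hsum hqs hql hE s₀ k).w :=
  ((stageSeq hsum hqs hql hE s₀ k).exists_next hsum hqs hql (hE _)).choose_spec.choose_spec.1

lemma stageTrans_isIso (k : ℕ) (i : ℤ) (hi : i ≠ b - (k : ℤ)) :
    IsIso ((stageTrans hsum hqs hql hE s₀ k).f i) :=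
  ((stageSeq hsum hqs hql hE s₀ k).exists_next hsum hqs hql (hE _)).choose_spec.choose_spec.2 i hi

include hsum hqs hql hE in
/-- the limit of the stages: a bounded above complex with terms in `P` quasi-isomorphic to `E`. -/
theorem exists_strictPCAll_quasiIso (hEz : ∀ i, b < i → IsZero (E.homology i)) :
    ∃ (G : CochainComplex C ℤ) (w : G ⟶ E), (∀ i, P (G.X i)) ∧ (∀ i, b < i → IsZero (G.X i)) ∧
      QuasiIso w := by
  let s₀ := Stage.zero P E b hEz
  let S := stageSeq hsum hqs hql hE s₀
  let tr := stageTrans hsum hqs hql hE s₀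
  let 𝒢 : ℕ ⥤ CochainComplex C ℤ := Functor.ofSequence tr
  have hconst : ∀ (i : ℤ) (K : ℕ), b - (K : ℤ) < i →
      (𝒢 ⋙ HomologicalComplex.eval C (ComplexShape.up ℤ) i).IsEventuallyConstantFrom K := by
    intro i K hK
    refine isEventuallyConstantFrom_ofSequence tr (HomologicalComplex.eval C _ i) K
      (fun k hk => ?_)
    have hk' : (K : ℤ) ≤ k := by exact_mod_cast hk
    exact stageTrans_isIso hsum hqs hql hE s₀ k i (by omega)
  haveI : ∀ i : ℤ, HasColimit (𝒢 ⋙ HomologicalComplex.eval C (ComplexShape.up ℤ) i) :=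
    fun i => (hconst i (b - i + 1).toNat (by omega)).hasColimit
  let cc := HomologicalComplex.coconeOfHasColimitEval 𝒢
  have hcc : IsColimit cc := HomologicalComplex.isColimitCoconeOfHasColimitEval 𝒢
  let cE : Cocone 𝒢 :=
    { pt := E
      ι := NatTrans.ofSequence (fun k => (S k).w) (fun n => by
        rw [Functor.ofSequence_map_homOfLE_succ]
        dsimp
        rw [Category.comp_id]
        exact stageTrans_w hsum hqs hql hE s₀ n) }
  have hfac : ∀ k, cc.ι.app k ≫ hcc.desc cE = (S k).w := fun k => hcc.fac cE k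
  have hθ : ∀ (i : ℤ) (K : ℕ), b - (K : ℤ) < i → IsIso ((cc.ι.app K).f i) := fun i K hK =>
    isIso_ι_f_of_isColimit_of_isEventuallyConstantFrom 𝒢 hcc i K (hconst i K hK)
  refine ⟨cc.pt, hcc.desc cE, ?_, ?_, ?_⟩
  · intro i
    haveI := hθ i (b - i + 1).toNat (by omega)
    exact P.prop_of_iso (asIso ((cc.ι.app (b - i + 1).toNat).f i)) ((S _).hP i)
  · intro i hi
    haveI := hθ i 0 (by simp; omega)
    exact ((S 0).hz i (Or.inr hi)).of_iso (asIso ((cc.ι.app 0).f i)).symm
  · rw [quasiIso_iff]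
    intro i
    rw [quasiIsoAt_iff_isIso_homologyMap]
    obtain ⟨K, hK⟩ : ∃ K : ℕ, K = (b - i + 2).toNat := ⟨_, rfl⟩
    obtain ⟨θ, hθeq⟩ : ∃ θ : (S K).G ⟶ cc.pt, θ = cc.ι.app K := ⟨_, rfl⟩
    have hq : QuasiIsoAt θ i := by
      rw [hθeq]
      exact quasiIsoAt_ι_of_isColimit_of_isEventuallyConstantFrom 𝒢 hcc (i - 1) i (i + 1)
        (by simp) (by simp) K (hconst (i - 1) K (by omega)) (hconst i K (by omega))
        (hconst (i + 1) K (by omega))
    haveI : IsIso (homologyMap θ i) := by
      rwa [quasiIsoAt_iff_isIso_homologyMap] at hq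
    haveI : IsIso (homologyMap (S K).w i) := (S K).hiso i (by omega)
    have hfac' : θ ≫ hcc.desc cE = (S K).w := by
      rw [hθeq]
      exact hfac K
    have h : homologyMap θ i ≫ homologyMap (hcc.desc cE) i = homologyMap (S K).w i := by
      rw [← homologyMap_comp, hfac']
    exact IsIso.of_isIso_fac_left h

end Limit

end Groth.Agent.Lib.helper23.PCohCore
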