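import Mathlib
import Groth.Prelude.Def_PCoh
import Groth.Agent.Lib.Helper23.PCohInf

set_option autoImplicit false
universe w v u
open CategoryTheory CategoryTheory.Limits HomologicalComplex CochainComplex
open CategoryTheory.Pretriangulated

namespace Groth.Agent.Lib.helper23.PCohCore

open Groth.Agent.Lib.helper23.NQuasiIso Groth.Agent.Lib.helper23.PCohAmp

variable {C : Type u} [Category.{v} C] [Abelian C] [HasDerivedCategory.{w} C]
  (P : ObjectProperty C) [P.IsClosedUnderIsomorphisms] [P.ContainsZero]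
  (hsum : ∀ X Y : C, P X → P Y → P (X ⨯ Y))
  (hqs : PCoh.IsQuasiStableUnderKernels P) (hql : PCoh.IsQuasiLiftable P)

include hsum hqs hql

/-- a pseudo-coherent object is represented by a bounded above complex with all terms in `P`,
vanishing above any bound for its cohomology. -/
theorem exists_strictPCAll_iso (F : DerivedCategory C) (hF : ∀ m : ℤ, NPC P m F) (b : ℤ)
    (hb : ∀ i : ℤ, b < i → IsZero ((DerivedCategory.homologyFunctor C i).obj F)) :
    ∃ E : CochainComplex C ℤ, (∀ i : ℤ, P (E.X i)) ∧ (∀ i : ℤ, b < i → IsZero (E.X i)) ∧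
      Nonempty (DerivedCategory.Q.obj E ≅ F) := by
  let E₀ := DerivedCategory.Q.objPreimage F
  let eF : DerivedCategory.Q.obj E₀ ≅ F := DerivedCategory.Q.objObjPreimageIso F
  have eH : ∀ i, E₀.homology i ≅ (DerivedCategory.homologyFunctor C i).obj F := fun i =>
    ((DerivedCategory.homologyFunctorFactors C i).app E₀).symm ≪≫
      (DerivedCategory.homologyFunctor C i).mapIso eF
  obtain ⟨G, w, h1, h2, h3⟩ := exists_strictPCAll_quasiIso hsum hqs hql (E := E₀) (b := b)
    (fun m => (hF m).of_iso eF.symm) (fun i hi => (hb i hi).of_iso (eH i))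
  haveI : IsIso (DerivedCategory.Q.map w) :=
    (DerivedCategory.isIso_Q_map_iff_quasiIso _ w).2 h3
  exact ⟨G, h1, h2, ⟨asIso (DerivedCategory.Q.map w) ≪≫ eF⟩⟩

/-- S4295. -/
theorem exists_strictPCAll_of_isPC (F : DerivedCategory C) (hF : PCoh.IsPC P F) :
    ∃ E : CochainComplex C ℤ, PCoh.IsStrictPCAll P E ∧ Nonempty (DerivedCategory.Q.obj E ≅ F) := by
  obtain ⟨b, -, hb⟩ := NPC.exists_bound (hF 0)
  obtain ⟨E, h1, h2, h3⟩ := exists_strictPCAll_iso P hsum hqs hql F hF b hb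
  exact ⟨E, ⟨⟨b, h2⟩, h1⟩, h3⟩

/-- S5618. -/
theorem exists_strictPCAll_vanishing_above (m : ℤ) (F : DerivedCategory C) (hF : PCoh.IsPC P F)
    (hac : ∀ i : ℤ, m ≤ i → IsZero ((DerivedCategory.homologyFunctor C i).obj F)) :
    ∃ E : CochainComplex C ℤ, (∀ i : ℤ, P (E.X i)) ∧ (∀ i : ℤ, m ≤ i → IsZero (E.X i)) ∧
      Nonempty (DerivedCategory.Q.obj E ≅ F) := by
  obtain ⟨E, h1, h2, h3⟩ := exists_strictPCAll_iso P hsum hqs hql F hF (m - 1)
    (fun i hi => hac i (by omega))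
  exact ⟨E, h1, fun i hi => h2 i (by omega), h3⟩

omit hsum hqs hql in
lemma npc_of_strictPCAll {E : CochainComplex C ℤ} (hE : PCoh.IsStrictPCAll P E) (m : ℤ) :
    NPC P m (DerivedCategory.Q.obj E) :=
  ⟨E, ⟨hE.1, fun i _ => hE.2 i⟩, ⟨Iso.refl _⟩⟩

/-- a strictly pseudo-coherent resolution of a complex quasi-isomorphic to a strictly
pseudo-coherent one. -/
theorem exists_strictPCAll_quasiIso_of_quasiIso {E E₁ : CochainComplex C ℤ}
    (hE : PCoh.IsStrictPCAll P E) (s : E₁ ⟶ E) (hs : QuasiIso s) :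
    ∃ (G : CochainComplex C ℤ) (w : G ⟶ E₁), PCoh.IsStrictPCAll P G ∧ QuasiIso w := by
  haveI : IsIso (DerivedCategory.Q.map s) :=
    (DerivedCategory.isIso_Q_map_iff_quasiIso _ s).2 hs
  obtain ⟨⟨b, hb⟩, hP⟩ := hE
  haveI hsi : ∀ i, IsIso (homologyMap s i) := fun i => by
    rw [← quasiIsoAt_iff_isIso_homologyMap]
    infer_instance
  obtain ⟨G, w, h1, h2, h3⟩ := exists_strictPCAll_quasiIso hsum hqs hql (E := E₁) (b := b)
    (fun m => (npc_of_strictPCAll P ⟨⟨b, hb⟩, hP⟩ m).of_iso (asIso (DerivedCategory.Q.map s)).symm)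
    (fun i hi => (isZero_homology_of_isZero_X E i (hb i hi)).of_iso (asIso (homologyMap s i)))
  exact ⟨G, w, ⟨⟨b, h2⟩, h1⟩, h3⟩

/-- S4296. -/
theorem exists_roof_strictPCAll (E E' : CochainComplex C ℤ) (hE : PCoh.IsStrictPCAll P E)
    (α : DerivedCategory.Q.obj E ⟶ DerivedCategory.Q.obj E') :
    ∃ (E'' : CochainComplex C ℤ) (s : E'' ⟶ E) (f : E'' ⟶ E'), PCoh.IsStrictPCAll P E'' ∧
      QuasiIso s ∧ DerivedCategory.Q.map s ≫ α = DerivedCategory.Q.map f := by
  obtain ⟨E₁, s, hs, f, hf⟩ := DerivedCategory.right_fac α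
  have hsq : QuasiIso s := (DerivedCategory.isIso_Q_map_iff_quasiIso _ s).1 hs
  obtain ⟨G, w, hG, hw⟩ := exists_strictPCAll_quasiIso_of_quasiIso P hsum hqs hql hE s hsq
  refine ⟨G, w ≫ s, w ≫ f, hG, inferInstance, ?_⟩
  rw [hf, CategoryTheory.Functor.map_comp, CategoryTheory.Functor.map_comp, Category.assoc,
    IsIso.hom_inv_id_assoc]

/-- S4297. -/
theorem exists_homotopy_strictPCAll (E E' : CochainComplex C ℤ) (hE : PCoh.IsStrictPCAll P E)
    (f g : E ⟶ E') (hfg : DerivedCategory.Q.map f = DerivedCategory.Q.map g) :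
    ∃ (E'' : CochainComplex C ℤ) (s : E'' ⟶ E), PCoh.IsStrictPCAll P E'' ∧ QuasiIso s ∧
      Nonempty (Homotopy (s ≫ f) (s ≫ g)) := by
  have h : DerivedCategory.Qh.map ((HomotopyCategory.quotient _ _).map f) =
      DerivedCategory.Qh.map ((HomotopyCategory.quotient _ _).map g) := by
    have hf := DerivedCategory.quotientCompQhIso_hom_naturality f
    have hg := DerivedCategory.quotientCompQhIso_hom_naturality g
    rw [← cancel_mono ((DerivedCategory.quotientCompQhIso C).hom.app E'), hf, hg, hfg]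
  obtain ⟨X, s, hs, fac⟩ := (MorphismProperty.map_eq_iff_precomp DerivedCategory.Qh
    (HomotopyCategory.quasiIso C (ComplexShape.up ℤ)) _ _).1 h
  obtain ⟨E₁, rfl⟩ := HomotopyCategory.quotient_obj_surjective X
  obtain ⟨s₁, rfl⟩ := (HomotopyCategory.quotient _ _).map_surjective s
  have hsq : QuasiIso s₁ := by
    rw [HomotopyCategory.quotient_map_mem_quasiIso_iff] at hs
    exact hs
  obtain ⟨G, w, hG, hw⟩ := exists_strictPCAll_quasiIso_of_quasiIso P hsum hqs hql hE s₁ hsq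
  refine ⟨G, w ≫ s₁, hG, inferInstance, ⟨?_⟩⟩
  have h1 : Homotopy (s₁ ≫ f) (s₁ ≫ g) := HomotopyCategory.homotopyOfEq _ _ (by
    rw [CategoryTheory.Functor.map_comp, CategoryTheory.Functor.map_comp, fac])
  exact (Homotopy.ofEq (Category.assoc _ _ _)).trans
    ((h1.compLeft w).trans (Homotopy.ofEq (Category.assoc _ _ _).symm))

end Groth.Agent.Lib.helper23.PCohCore
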