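import Mathlib
import Groth.Agent.Lib.Helper23.PCohAmp3

set_option autoImplicit false
universe u
open CategoryTheory CategoryTheory.Limits Pretriangulated

attribute [local instance] HasDerivedCategory.standard

namespace Groth.Agent.Lib.helper23.PerfThick

open Groth.Agent.Lib.helper23.PCohLib Groth.Agent.Lib.helper23.PCohAmp

variable (R : Type u) [CommRing R]

/-- finite projective modules as an object property. -/
def FP : ObjectProperty (ModuleCat.{u} R) := fun M => Module.Finite R M ∧ Module.Projective R M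

instance : (FP R).IsClosedUnderIsomorphisms where
  of_iso {X Y} e h := by
    obtain ⟨h1, h2⟩ := h
    exact ⟨Module.Finite.equiv e.toLinearEquiv, Module.Projective.of_equiv e.toLinearEquiv⟩

instance : (FP R).ContainsZero where
  exists_zero := ⟨ModuleCat.of R PUnit.{u + 1}, ModuleCat.isZero_of_subsingleton _,
    ⟨inferInstanceAs (Module.Finite R PUnit.{u + 1}),
      inferInstanceAs (Module.Projective R PUnit.{u + 1})⟩⟩

lemma FP_sum (X Y : ModuleCat.{u} R) (hX : FP R X) (hY : FP R Y) : FP R (X ⨯ Y) := by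
  obtain ⟨h1, h2⟩ := hX
  obtain ⟨h3, h4⟩ := hY
  have e : (X ⨯ Y) ≅ ModuleCat.of R (X × Y) := (biprod.isoProd X Y).symm ≪≫ ModuleCat.biprodIsoProd X Y
  exact (ObjectProperty.prop_iff_of_iso (FP R) e).2
    ⟨inferInstanceAs (Module.Finite R (X × Y)), inferInstanceAs (Module.Projective R (X × Y))⟩

lemma FP_lift (E F : ModuleCat.{u} R) (f : E ⟶ F) (hf : Epi f) (hF : FP R F) : IsSplitEpi f := by
  obtain ⟨_, h2⟩ := hF
  obtain ⟨g, hg⟩ := Module.projective_lifting_property f.hom LinearMap.id
    ((ModuleCat.epi_iff_surjective f).1 hf)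
  exact ⟨⟨ModuleCat.ofHom g, by ext x; exact LinearMap.congr_fun hg x⟩⟩

lemma FP_of_retract {X Y : ModuleCat.{u} R} (i : X ⟶ Y) (r : Y ⟶ X) (h : i ≫ r = 𝟙 X)
    (hY : FP R Y) : FP R X := by
  obtain ⟨h1, h2⟩ := hY
  have hr : Function.Surjective r.hom := by
    intro x
    exact ⟨i.hom x, by
      have := congrArg (fun f => f.hom x) h
      simpa using this⟩
  refine ⟨Module.Finite.of_surjective r.hom hr, Module.Projective.of_split i.hom r.hom ?_⟩
  ext x
  have := congrArg (fun f => f.hom x) h
  simpa using this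

lemma FP_kernel (E F : ModuleCat.{u} R) (f : E ⟶ F) (hf : Epi f) (hE : FP R E) (hF : FP R F) :
    FP R (kernel f) := by
  haveI := FP_lift R E F f hf hF
  let b := binaryBiconeOfIsSplitEpiOfKernel (kernelIsKernel f)
  exact FP_of_retract R b.inl b.fst b.inl_fst hE

section Thick

variable {R}
variable (Pr : ObjectProperty (DerivedCategory (ModuleCat.{u} R))) [Pr.IsClosedUnderIsomorphisms]

/-- the hypotheses: a saturated triangulated subcategory containing `R`. -/
structure IsThickWithR : Prop where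
  hR : Pr ((DerivedCategory.singleFunctor (ModuleCat.{u} R) 0).obj (ModuleCat.of R R))
  hshift : ∀ (K : DerivedCategory (ModuleCat.{u} R)) (n : ℤ), Pr K →
    Pr ((shiftFunctor (DerivedCategory (ModuleCat.{u} R)) n).obj K)
  hext : ∀ T : Triangle (DerivedCategory (ModuleCat.{u} R)), T ∈ distinguishedTriangles →
    Pr T.obj₁ → Pr T.obj₃ → Pr T.obj₂
  hsum : ∀ (X Y : DerivedCategory (ModuleCat.{u} R)) [HasBinaryBiproduct X Y], Pr (X ⊞ Y) → Pr X

variable {Pr} (hPr : IsThickWithR Pr)
include hPr

lemma thick_zero (Z : DerivedCategory (ModuleCat.{u} R)) (hZ : IsZero Z) : Pr Z :=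
  hPr.hsum Z _ ((Pr.prop_iff_of_iso (isoZeroBiprod hZ)).1 hPr.hR)

lemma thick_biprod (X Y : DerivedCategory (ModuleCat.{u} R)) (hX : Pr X) (hY : Pr Y) :
    Pr (X ⊞ Y) :=
  hPr.hext (binaryBiproductTriangle X Y) (binaryBiproductTriangle_distinguished X Y) hX hY

lemma good_biprod (M N : ModuleCat.{u} R)
    (hM : Pr ((DerivedCategory.singleFunctor (ModuleCat.{u} R) 0).obj M))
    (hN : Pr ((DerivedCategory.singleFunctor (ModuleCat.{u} R) 0).obj N)) :
    Pr ((DerivedCategory.singleFunctor (ModuleCat.{u} R) 0).obj (M ⊞ N)) := by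
  haveI : PreservesBinaryBiproducts (DerivedCategory.singleFunctor (ModuleCat.{u} R) 0) :=
    preservesBinaryBiproducts_of_preservesBiproducts _
  exact (Pr.prop_iff_of_iso
    ((DerivedCategory.singleFunctor (ModuleCat.{u} R) 0).mapBiprod M N)).2
    (thick_biprod hPr _ _ hM hN)

lemma good_of_biprod (M N : ModuleCat.{u} R)
    (h : Pr ((DerivedCategory.singleFunctor (ModuleCat.{u} R) 0).obj (N ⊞ M))) :
    Pr ((DerivedCategory.singleFunctor (ModuleCat.{u} R) 0).obj M) := by
  haveI : PreservesBinaryBiproducts (DerivedCategory.singleFunctor (ModuleCat.{u} R) 0) :=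
    preservesBinaryBiproducts_of_preservesBiproducts _
  exact hPr.hsum _ ((DerivedCategory.singleFunctor (ModuleCat.{u} R) 0).obj N)
    ((Pr.prop_iff_of_iso
      ((DerivedCategory.singleFunctor (ModuleCat.{u} R) 0).mapBiprod N M ≪≫
        biprod.braiding _ _)).1 h)

lemma good_free (k : ℕ) :
    Pr ((DerivedCategory.singleFunctor (ModuleCat.{u} R) 0).obj (ModuleCat.of R (Fin k → R))) := by
  induction k with
  | zero =>
    exact thick_zero hPr _ ((DerivedCategory.singleFunctor (ModuleCat.{u} R) 0).map_isZero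
      (ModuleCat.isZero_of_subsingleton _))
  | succ k ih =>
    have e : ModuleCat.of R (Fin (k + 1) → R) ≅ ModuleCat.of R R ⊞ ModuleCat.of R (Fin k → R) :=
      (Fin.consLinearEquiv R (fun _ : Fin (k + 1) => R)).symm.toModuleIso ≪≫
        (ModuleCat.biprodIsoProd (ModuleCat.of R R) (ModuleCat.of R (Fin k → R))).symm
    exact (Pr.prop_iff_of_iso
      ((DerivedCategory.singleFunctor (ModuleCat.{u} R) 0).mapIso e)).2
      (good_biprod hPr _ _ hPr.hR ih)

lemma good_FP (M : ModuleCat.{u} R) (hM : FP R M) :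
    Pr ((DerivedCategory.singleFunctor (ModuleCat.{u} R) 0).obj M) := by
  obtain ⟨h1, h2⟩ := hM
  obtain ⟨k, f, hf⟩ := Module.Finite.exists_fin' R M
  let f' : ModuleCat.of R (Fin k → R) ⟶ M := ModuleCat.ofHom f
  haveI : Epi f' := (ModuleCat.epi_iff_surjective f').2 hf
  haveI := FP_lift R _ _ f' inferInstance ⟨h1, h2⟩
  have hb := isBilimitBinaryBiconeOfIsSplitEpiOfKernel (kernelIsKernel f')
  have e : ModuleCat.of R (Fin k → R) ≅ kernel f' ⊞ M := biprod.uniqueUpToIso _ _ hb
  exact good_of_biprod hPr M (kernel f') ((Pr.prop_iff_of_iso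
    ((DerivedCategory.singleFunctor (ModuleCat.{u} R) 0).mapIso e)).1 (good_free hPr k))

lemma thick_single (a : ℤ) (X : DerivedCategory (ModuleCat.{u} R)) (h : Amp (FP R) a a X) :
    Pr X := by
  obtain ⟨E, hP, hz, ⟨e⟩⟩ := h
  haveI : E.IsStrictlyGE a :=
    (CochainComplex.isStrictlyGE_iff _ _).2 (fun i hi => hz i (Or.inl hi))
  haveI : E.IsStrictlyLE a :=
    (CochainComplex.isStrictlyLE_iff _ _).2 (fun i hi => hz i (Or.inr hi))
  obtain ⟨M, ⟨eM⟩⟩ := CochainComplex.exists_iso_single E a
  have hM : FP R M := ((FP R).prop_iff_of_iso ((HomologicalComplex.eval _ _ a).mapIso eM ≪≫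
    HomologicalComplex.singleObjXSelf (ComplexShape.up ℤ) a M)).1 (hP a)
  have h1 := hPr.hshift _ (-a) (good_FP hPr M hM)
  have e1 : (shiftFunctor (DerivedCategory (ModuleCat.{u} R)) (-a)).obj
      ((DerivedCategory.singleFunctor (ModuleCat.{u} R) 0).obj M) ≅
      (DerivedCategory.singleFunctor (ModuleCat.{u} R) a).obj M :=
    ((DerivedCategory.singleFunctors (ModuleCat.{u} R)).shiftIso (-a) a 0 (by omega)).app M
  have e2 : (DerivedCategory.singleFunctor (ModuleCat.{u} R) a).obj M ≅ X :=
    (DerivedCategory.singleFunctorIsoCompQ (ModuleCat.{u} R) a).app M ≪≫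
      (DerivedCategory.Q.mapIso eM).symm ≪≫ e
  exact (Pr.prop_iff_of_iso (e1 ≪≫ e2)).1 h1

theorem thick_amp : ∀ (n : ℕ) (a b : ℤ), b + 1 = a + n →
    ∀ X : DerivedCategory (ModuleCat.{u} R), Amp (FP R) a b X → Pr X := by
  have hproj := projective_of_lift (FP R) (FP_lift R)
  intro n
  induction n with
  | zero =>
    intro a b hb X h
    obtain ⟨E, hP, hz, ⟨e⟩⟩ := h
    refine thick_zero hPr X (IsZero.of_iso ?_ e.symm)
    rw [IsZero.iff_id_eq_zero, ← CategoryTheory.Functor.map_id]
    have : 𝟙 E = 0 := by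
      refine HomologicalComplex.hom_ext _ _ (fun i => ?_)
      exact (hz i (by simp at hb; omega)).eq_of_src _ _
    rw [this, CategoryTheory.Functor.map_zero]
  | succ n ih =>
    intro a b hb X h
    rcases n with _ | m
    · obtain rfl : b = a := by push_cast at hb; omega
      exact thick_single hPr b X h
    · have hab : a < b := by push_cast at hb; omega
      obtain ⟨E, hP, hz, ⟨e⟩⟩ := h
      obtain ⟨ι, hι⟩ := exists_fromSingle_epi E b (hz (b + 1) (Or.inr (by omega)))
      have hSamp : Amp (FP R) b b (DerivedCategory.Q.obj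
          ((HomologicalComplex.single (ModuleCat.{u} R) (ComplexShape.up ℤ) b).obj (E.X b))) := by
        refine ⟨_, ?_, ?_, ⟨Iso.refl _⟩⟩
        · intro i
          by_cases hi : i = b
          · subst hi
            exact ((FP R).prop_iff_of_iso
              (HomologicalComplex.singleObjXSelf (ComplexShape.up ℤ) i (E.X i))).2 (hP i)
          · exact (FP R).prop_of_isZero (HomologicalComplex.isZero_single_obj_X _ _ _ _ hi)
        · intro i hi
          exact HomologicalComplex.isZero_single_obj_X (ComplexShape.up ℤ) b _ i (by omega)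
      have hHS : IsZero ((DerivedCategory.homologyFunctor (ModuleCat.{u} R) (b + 1)).obj
          (DerivedCategory.Q.obj
          ((HomologicalComplex.single (ModuleCat.{u} R) (ComplexShape.up ℤ) b).obj (E.X b)))) :=
        ((HomologicalComplex.ExactAt.of_isZero
          (HomologicalComplex.isZero_single_obj_X (ComplexShape.up ℤ) b _ (b + 1)
            (by omega))).isZero_homology).of_iso
          ((DerivedCategory.homologyFunctorFactors (ModuleCat.{u} R) (b + 1)).app _)
      obtain ⟨F1, u', w', hT, hz1⟩ := exists_cocone_top_vanish _ b hι hHS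
      have hEamp : Amp (FP R) a b (DerivedCategory.Q.obj E) := ⟨E, hP, hz, ⟨Iso.refl _⟩⟩
      have h1s : Amp (FP R) a b (F1⟦(1 : ℤ)⟧) :=
        Amp.cone (FP_sum R) hproj (Triangle.mk u' (DerivedCategory.Q.map ι) w').rotate
          (rot_of_distTriang _ hT) hSamp hEamp (by omega) le_rfl (by omega) le_rfl
      have h1 : Amp (FP R) (a + 1) (b + 1) F1 :=
        ((h1s.shift (-1)).of_iso ((shiftFunctorCompIsoId (DerivedCategory (ModuleCat.{u} R))
          (1 : ℤ) (-1) (by simp)).app F1)).mono (by omega) (by omega)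
      have h1' : Amp (FP R) (a + 1) b F1 := Amp.truncate (FP_kernel R) h1 hz1
      have hF1 : Pr F1 := ih (a + 1) b (by push_cast at hb ⊢; omega) F1 h1'
      have hS : Pr (DerivedCategory.Q.obj
          ((HomologicalComplex.single (ModuleCat.{u} R) (ComplexShape.up ℤ) b).obj (E.X b))) :=
        thick_single hPr b _ hSamp
      have hE : Pr (DerivedCategory.Q.obj E) :=
        hPr.hext (Triangle.mk u' (DerivedCategory.Q.map ι) w').rotate
          (rot_of_distTriang _ hT) hS (hPr.hshift _ 1 hF1)
      exact (Pr.prop_iff_of_iso e).1 hE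

end Thick

end Groth.Agent.Lib.helper23.PerfThick
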