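import Mathlib
import Groth.Prelude.Def_DRing2
import Groth.Agent.Lib.Helper23.PCohCoh
import Groth.Agent.Lib.Helper23.PCohInf2
import Groth.Agent.Lib.Helper23.PerfThick

set_option autoImplicit false
universe u
open CategoryTheory CategoryTheory.Limits Pretriangulated

attribute [local instance] HasDerivedCategory.standard

namespace Groth.Agent.Lib.helper23.DRingPC

open Groth.Agent.Lib.helper23.PCohCore Groth.Agent.Lib.helper23.PerfThick

variable (R : Type u) [CommRing R]

/-- finite free modules as an object property. -/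
def FF : ObjectProperty (ModuleCat.{u} R) := fun M => Module.Finite R M ∧ Module.Free R M

instance : (FF R).IsClosedUnderIsomorphisms where
  of_iso {X Y} e h := by
    obtain ⟨h1, h2⟩ := h
    exact ⟨Module.Finite.equiv e.toLinearEquiv, Module.Free.of_equiv e.toLinearEquiv⟩

instance : (FF R).ContainsZero where
  exists_zero := ⟨ModuleCat.of R PUnit.{u + 1}, ModuleCat.isZero_of_subsingleton _,
    ⟨inferInstanceAs (Module.Finite R PUnit.{u + 1}),
      inferInstanceAs (Module.Free R PUnit.{u + 1})⟩⟩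

lemma FF_sum (X Y : ModuleCat.{u} R) (hX : FF R X) (hY : FF R Y) : FF R (X ⨯ Y) := by
  obtain ⟨h1, h2⟩ := hX
  obtain ⟨h3, h4⟩ := hY
  have e : (X ⨯ Y) ≅ ModuleCat.of R (X × Y) :=
    (biprod.isoProd X Y).symm ≪≫ ModuleCat.biprodIsoProd X Y
  exact (ObjectProperty.prop_iff_of_iso (FF R) e).2
    ⟨inferInstanceAs (Module.Finite R (X × Y)), inferInstanceAs (Module.Free R (X × Y))⟩

lemma FF_le_FP (X : ModuleCat.{u} R) (h : FF R X) : FP R X := by
  obtain ⟨h1, h2⟩ := h
  exact ⟨h1, inferInstance⟩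

lemma FF_hql : PCoh.IsQuasiLiftable (FF R) := by
  intro E F u hu hF
  haveI := FP_lift R E F u hu (FF_le_FP R F hF)
  refine ⟨F, section_ u, hF, ?_⟩
  rw [IsSplitEpi.id]
  infer_instance

/-- finite type relative to finite free modules means finitely generated. -/
lemma isOfFiniteType_iff_finite (M : ModuleCat.{u} R) :
    PCoh.IsOfFiniteType (FF R) M ↔ Module.Finite R M := by
  constructor
  · rintro ⟨L, π, ⟨h1, -⟩, hπ⟩
    exact Module.Finite.of_surjective π.hom ((ModuleCat.epi_iff_surjective π).1 hπ)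
  · intro h
    obtain ⟨n, f, hf⟩ := Module.Finite.exists_fin' R M
    refine ⟨ModuleCat.of R (Fin n → R), ModuleCat.ofHom f,
      ⟨inferInstanceAs (Module.Finite R (Fin n → R)),
        inferInstanceAs (Module.Free R (Fin n → R))⟩, ?_⟩
    exact (ModuleCat.epi_iff_surjective _).2 hf

lemma FF_hqs : PCoh.IsQuasiStableUnderKernels (FF R) := by
  intro K hex hbd hK
  obtain ⟨N, hN⟩ := hbd
  have key : ∀ (d : ℕ) (j : ℕ), 1 ≤ j → N + 1 ≤ j + d → FP R (kernel (K.d j (j + 1))) := by
    intro d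
    induction d with
    | zero =>
      intro j hj hjN
      have hz : IsZero (kernel (K.d j (j + 1))) :=
        IsZero.of_mono (kernel.ι (K.d j (j + 1))) (hN j (by omega))
      exact (FP R).prop_of_isZero hz
    | succ d ih =>
      intro j hj hjN
      have hS := shortExact_cycles K j (hex (j + 1))
      have h3 := ih (j + 1) (by omega) (by omega)
      have h2 : FP R (K.X j) := FF_le_FP R _ (hK j hj)
      have hk := FP_kernel R _ _ _ hS.epi_g h2 h3
      have e : kernel (kernel.lift (K.d (j + 1) (j + 2)) (K.d j (j + 1)) (K.d_comp_d _ _ _)) ≅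
          kernel (K.d j (j + 1)) :=
        IsLimit.conePointUniqueUpToIso (kernelIsKernel
          (kernel.lift (K.d (j + 1) (j + 2)) (K.d j (j + 1)) (K.d_comp_d _ _ _))) hS.fIsKernel
      exact (FP R).prop_of_iso e hk
  have h0 := hex 0
  rw [HomologicalComplex.exactAt_iff' K 0 0 1 (by simp) (by simp),
    ShortComplex.exact_iff_mono _ (K.shape 0 0 (by simp))] at h0
  have h1 := hex 1
  rw [HomologicalComplex.exactAt_iff' K 0 1 2 (by simp) (by simp)] at h1
  haveI : Mono (K.d 0 1) := h0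
  haveI hepi : Epi (kernel.lift (K.d 1 2) (K.d 0 1) (K.d_comp_d _ _ _)) :=
    (ShortComplex.exact_iff_epi_kernel_lift _).1 h1
  haveI : Mono (kernel.lift (K.d 1 2) (K.d 0 1) (K.d_comp_d _ _ _)) :=
    mono_of_mono_fac (kernel.lift_ι _ _ _)
  haveI : IsIso (kernel.lift (K.d 1 2) (K.d 0 1) (K.d_comp_d _ _ _)) := isIso_of_mono_of_epi _
  have hZ : FP R (K.X 0) := (FP R).prop_of_iso
    (asIso (kernel.lift (K.d 1 2) (K.d 0 1) (K.d_comp_d _ _ _))).symm (key N 1 le_rfl (by omega))
  exact (isOfFiniteType_iff_finite R _).2 hZ.1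

/-- the bridge: `m`-pseudo-coherence over a ring in terms of `NPC`. -/
theorem isPseudoCoherent_iff_npc (m : ℤ) (K : Dual.D R) :
    DRing.IsPseudoCoherent R m K ↔ NPC (FF R) m K :=
  (npc_iff_exists_perfect_nIso (FF R) (FF_sum R) (FF_hqs R) (FF_hql R) m K).symm

/-- the bridge: pseudo-coherence over a ring in terms of `NPC`. -/
theorem isPseudoCoherent'_iff_npc (K : Dual.D R) :
    DRing.IsPseudoCoherent' R K ↔ ∀ m : ℤ, NPC (FF R) m K := by
  constructor
  · rintro ⟨E, b, hb, hE, ⟨e⟩⟩ m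
    exact ⟨E, ⟨⟨b, hb⟩, fun i _ => hE i⟩, ⟨e⟩⟩
  · intro h
    obtain ⟨E, ⟨⟨b, hb⟩, hP⟩, he⟩ :=
      exists_strictPCAll_of_isPC (FF R) (FF_sum R) (FF_hqs R) (FF_hql R) K h
    exact ⟨E, b, hb, hP, he⟩

end Groth.Agent.Lib.helper23.DRingPC
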