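import Mathlib
import Groth.Prelude.Def_DRing2
import Groth.Agent.Lib.Helper23.DRingPC

set_option autoImplicit false
universe u
open CategoryTheory CategoryTheory.Limits Pretriangulated

attribute [local instance] HasDerivedCategory.standard

namespace Groth.Agent.Lib.helper23.DRingPC

open Groth.Agent.Lib.helper23.PCohCore Groth.Agent.Lib.helper23.PerfThick

variable (R : Type u) [CommRing R]

/-- `M[0]` is `0`-pseudo-coherent iff `M` is finite. -/
theorem npc_zero_single_iff_finite (M : ModuleCat.{u} R) :
    NPC (FF R) 0 ((DerivedCategory.singleFunctor (ModuleCat.{u} R) 0).obj M) ↔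
      Module.Finite R M := by
  have hac : ∀ i : ℤ, 0 < i → IsZero ((DerivedCategory.homologyFunctor (ModuleCat.{u} R) i).obj
      ((DerivedCategory.singleFunctor (ModuleCat.{u} R) 0).obj M)) := fun i hi =>
    DerivedCategory.isZero_of_isLE _ 0 i hi
  rw [npc_iff_isOfFiniteType (FF R) (FF_sum R) (FF_hqs R) (FF_hql R) 0 _ hac,
    ← isOfFiniteType_iff_finite R M]
  exact ⟨isOfFiniteType_of_iso (FF R) (homologySingleIso 0 M),
    isOfFiniteType_of_iso (FF R) (homologySingleIso 0 M).symm⟩

/-- `M[0]` is `(-1)`-pseudo-coherent iff `M` is finitely presented. -/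
theorem npc_negOne_single_iff_finitePresentation (M : ModuleCat.{u} R) :
    NPC (FF R) (-1) ((DerivedCategory.singleFunctor (ModuleCat.{u} R) 0).obj M) ↔
      Module.FinitePresentation R M := by
  have key : ∀ (n : ℕ) (f : (Fin n → R) →ₗ[R] M), Function.Surjective f →
      (NPC (FF R) (-1) ((DerivedCategory.singleFunctor (ModuleCat.{u} R) 0).obj M) ↔
        (LinearMap.ker f).FG) := by
    intro n f hf
    let π : ModuleCat.of R (Fin n → R) ⟶ M := ModuleCat.ofHom f
    haveI : Epi π := (ModuleCat.epi_iff_surjective _).2 hf
    let S : ShortComplex (ModuleCat.{u} R) := ShortComplex.mk (kernel.ι π) π (kernel.condition π)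
    have hS : S.ShortExact :=
      { exact := ShortComplex.exact_of_f_is_kernel _ (kernelIsKernel π)
        mono_f := by dsimp [S]; infer_instance
        epi_g := by dsimp [S]; infer_instance }
    have hFF : FF R (ModuleCat.of R (Fin n → R)) :=
      ⟨inferInstanceAs (Module.Finite R (Fin n → R)), inferInstanceAs (Module.Free R (Fin n → R))⟩
    have h23 := NPC.two_of_three (FF R) (FF_sum R) (FF_hqs R) (FF_hql R) (-1) _
      hS.singleTriangle_distinguished
    have hker : NPC (FF R) 0 ((DerivedCategory.singleFunctor (ModuleCat.{u} R) 0).obj (kernel π)) ↔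
        (LinearMap.ker f).FG := by
      rw [npc_zero_single_iff_finite]
      have e : (kernel π : ModuleCat.{u} R) ≃ₗ[R] LinearMap.ker f :=
        (ModuleCat.kernelIsoKer π).toLinearEquiv
      constructor
      · intro h
        haveI := h
        exact Module.Finite.iff_fg.1 (Module.Finite.equiv e)
      · intro h
        haveI : Module.Finite R (LinearMap.ker f) := Module.Finite.iff_fg.2 h
        exact Module.Finite.equiv e.symm
    rw [← hker]
    constructor
    · intro h
      exact h23.2.2 (NPC.single_of_prop (FF R) hFF 0 _) h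
    · intro h
      exact h23.1 h (NPC.single_of_prop (FF R) hFF 0 _)
  constructor
  · intro h
    haveI : Module.Finite R M := (npc_zero_single_iff_finite R M).1 (h.mono (by omega))
    obtain ⟨n, f, hf⟩ := Module.Finite.exists_fin' R M
    exact Module.finitePresentation_of_free_of_surjective f hf ((key n f hf).1 h)
  · intro h
    obtain ⟨n, f, hf⟩ := Module.Finite.exists_fin' R M
    exact (key n f hf).2 (Module.FinitePresentation.fg_ker f hf)

end Groth.Agent.Lib.helper23.DRingPC
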