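import Mathlib
import Groth.Prelude.Def_DRing2
import Groth.Agent.Lib.Helper23.DRingPC2

set_option autoImplicit false
universe u
open CategoryTheory CategoryTheory.Limits Pretriangulated

attribute [local instance] HasDerivedCategory.standard

namespace Groth.Agent.Lib.helper23.DRingPC

open Groth.Agent.Lib.helper23.PCohCore Groth.Agent.Lib.helper23.PerfThick

variable (R : Type u) [CommRing R]

/-- coherent ring hypothesis. -/
def CohRing : Prop := ∀ I : Ideal R, I.FG → Module.FinitePresentation R I

lemma cohRing_of_noetherian [IsNoetherianRing R] : CohRing R := by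
  intro I hI
  haveI : Module.Finite R I := Module.Finite.iff_fg.2 hI
  exact Module.finitePresentation_of_finite R I

variable {R}

lemma fp_of_fg_submodule_step (hR : CohRing R) {F F' : Type u} [AddCommGroup F] [Module R F]
    [AddCommGroup F'] [Module R F'] (p : F →ₗ[R] R) (q : F →ₗ[R] F')
    (hpq : ∀ x, p x = 0 → q x = 0 → x = 0)
    (ih : ∀ N' : Submodule R F', N'.FG → Module.FinitePresentation R N')
    (N : Submodule R F) (hN : N.FG) : Module.FinitePresentation R N := by
  haveI : Module.Finite R N := Module.Finite.iff_fg.2 hN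
  let I : Ideal R := N.map p
  have hI : I.FG := hN.map p
  haveI : Module.FinitePresentation R I := hR I hI
  let l : N →ₗ[R] I := p.restrict (fun x hx => Submodule.mem_map_of_mem hx)
  have hl : Function.Surjective l := by
    rintro ⟨y, hy⟩
    obtain ⟨x, hx, rfl⟩ := hy
    exact ⟨⟨x, hx⟩, rfl⟩
  have hker : (LinearMap.ker l).FG := Module.FinitePresentation.fg_ker l hl
  haveI : Module.Finite R (LinearMap.ker l) := Module.Finite.iff_fg.2 hker
  let g : LinearMap.ker l →ₗ[R] F' := q ∘ₗ N.subtype ∘ₗ (LinearMap.ker l).subtype
  have hg : Function.Injective g := by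
    refine (injective_iff_map_eq_zero g).2 ?_
    rintro ⟨⟨x, hxN⟩, hx⟩ h0
    have h1 : p x = 0 := by
      have := LinearMap.mem_ker.1 hx
      exact congrArg Subtype.val this
    have : x = 0 := hpq x h1 h0
    subst this
    rfl
  have hrange : (LinearMap.range g).FG := by
    rw [← Submodule.map_top]
    exact (Module.Finite.fg_top).map g
  haveI : Module.FinitePresentation R (LinearMap.range g) := ih _ hrange
  have e : LinearMap.range g ≃ₗ[R] LinearMap.ker l := (LinearEquiv.ofInjective g hg).symm
  haveI : Module.FinitePresentation R (LinearMap.ker l) := Module.FinitePresentation.of_equiv e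
  exact Module.finitePresentation_of_ker l hl

/-- over a coherent ring, finitely generated submodules of `R^n` are finitely presented. -/
theorem fp_of_fg_submodule_pi (hR : CohRing R) :
    ∀ (n : ℕ) (N : Submodule R (Fin n → R)), N.FG → Module.FinitePresentation R N := by
  intro n
  induction n with
  | zero =>
    intro N _
    haveI : Subsingleton N := inferInstance
    infer_instance
  | succ n ih =>
    intro N hN
    refine fp_of_fg_submodule_step hR (LinearMap.proj 0) (LinearMap.funLeft R R Fin.succ)
      (fun x h1 h2 => ?_) ih N hN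
    funext i
    exact Fin.cases h1 (fun j => congrFun h2 j) i

/-- over a coherent ring, kernels of maps between finite free modules are finitely generated. -/
theorem fg_ker_of_cohRing (hR : CohRing R) {E X : Type u} [AddCommGroup E] [Module R E]
    [AddCommGroup X] [Module R X] [Module.Finite R E] [Module.Finite R X] [Module.Free R X]
    (u : E →ₗ[R] X) : (LinearMap.ker u).FG := by
  let b := Module.Free.chooseBasis R X
  let e : X ≃ₗ[R] (Fin (Fintype.card (Module.Free.ChooseBasisIndex R X)) → R) :=
    (b.reindex (Fintype.equivFin _)).equivFun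
  let u' : E →ₗ[R] (Fin (Fintype.card (Module.Free.ChooseBasisIndex R X)) → R) :=
    e.toLinearMap ∘ₗ u
  have hk : LinearMap.ker u' = LinearMap.ker u := by
    ext x
    simp [u']
  rw [← hk]
  have hr : (LinearMap.range u').FG := by
    rw [← Submodule.map_top]
    exact (Module.Finite.fg_top).map u'
  haveI := fp_of_fg_submodule_pi hR _ _ hr
  have := Module.FinitePresentation.fg_ker u'.rangeRestrict u'.surjective_rangeRestrict
  rwa [LinearMap.ker_rangeRestrict] at this

lemma FF_hcoh (hR : CohRing R) (X E : ModuleCat.{u} R) (u : E ⟶ X) (hX : FF R X)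
    (hE : FF R E) : PCoh.IsOfFiniteType (FF R) (kernel u) := by
  rw [isOfFiniteType_iff_finite]
  obtain ⟨h1, h2⟩ := hX
  obtain ⟨h3, h4⟩ := hE
  have hk := fg_ker_of_cohRing hR u.hom
  haveI : Module.Finite R (LinearMap.ker u.hom) := Module.Finite.iff_fg.2 hk
  exact Module.Finite.equiv (ModuleCat.kernelIsoKer u).toLinearEquiv.symm

lemma FF_pi (n : ℕ) : FF R (ModuleCat.of R (Fin n → R)) :=
  ⟨inferInstanceAs (Module.Finite R (Fin n → R)), inferInstanceAs (Module.Free R (Fin n → R))⟩

/-- coherent modules (relative to finite free modules) over a coherent ring are the finitely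
presented modules. -/
theorem isCoh_iff_finitePresentation (hR : CohRing R) (X : ModuleCat.{u} R) :
    IsCoh (FF R) X ↔ Module.FinitePresentation R X := by
  constructor
  · rintro ⟨h1, h2⟩
    haveI : Module.Finite R X := (isOfFiniteType_iff_finite R X).1 h1
    obtain ⟨n, f, hf⟩ := Module.Finite.exists_fin' R X
    have h3 := (isOfFiniteType_iff_finite R _).1 (h2 _ (ModuleCat.ofHom f) (FF_pi n))
    haveI := h3
    have h4 : Module.Finite R (LinearMap.ker f) :=
      Module.Finite.equiv (ModuleCat.kernelIsoKer (ModuleCat.ofHom f)).toLinearEquiv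
    exact Module.finitePresentation_of_free_of_surjective f hf (Module.Finite.iff_fg.1 h4)
  · intro h
    obtain ⟨n, m, f, g, hf, hfg⟩ := Module.FinitePresentation.exists_fin' R X
    let v : ModuleCat.of R (Fin m → R) ⟶ ModuleCat.of R (Fin n → R) := ModuleCat.ofHom g
    let π : ModuleCat.of R (Fin n → R) ⟶ X := ModuleCat.ofHom f
    have hz : v ≫ π = 0 := by
      apply ModuleCat.hom_ext
      apply LinearMap.ext
      intro x
      exact hfg.apply_apply_eq_zero x
    let S : ShortComplex (ModuleCat.{u} R) := ShortComplex.mk v π hz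
    have hS : S.Exact := ModuleCat.shortComplex_exact S hfg
    haveI : Epi S.g := (ModuleCat.epi_iff_surjective _).2 hf
    have e : cokernel v ≅ X :=
      IsColimit.coconePointUniqueUpToIso (cokernelIsCokernel v) hS.gIsCokernel
    exact ((IsCoh.of_prop (FF R) (FF_hcoh hR) (FF_pi n)).cokernel (FF R) (FF_sum R) (FF_hql R)
      v (FF_pi m)).of_iso e

/-- pseudo-coherence over a coherent ring in terms of cohomology modules. -/
theorem npc_iff_of_cohRing (hR : CohRing R) (m : ℤ) (K : Dual.D R) (b : ℤ)
    (hb : ∀ i : ℤ, b < i → Subsingleton (Dual.HD R K i)) :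
    NPC (FF R) m K ↔ Module.Finite R (Dual.HD R K m) ∧
      ∀ i : ℤ, m < i → Module.FinitePresentation R (Dual.HD R K i) := by
  rw [npc_iff_coherent_homology (FF R) (FF_sum R) (FF_hql R) (FF_hcoh hR) m K b
    (fun i hi => by haveI := hb i hi; exact ModuleCat.isZero_of_subsingleton _),
    isOfFiniteType_iff_finite]
  refine and_congr Iff.rfl (forall_congr' fun i => imp_congr_right fun _ => ?_)
  exact isCoh_iff_finitePresentation hR _

/-- the cohomology of an `m`-pseudo-coherent complex is bounded above. -/
lemma exists_bound_of_npc {m : ℤ} {K : Dual.D R} (h : NPC (FF R) m K) :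
    ∃ b : ℤ, ∀ i : ℤ, b < i → Subsingleton (Dual.HD R K i) := by
  obtain ⟨b, -, hb⟩ := h.exists_bound
  exact ⟨b, fun i hi => ModuleCat.subsingleton_of_isZero (hb i hi)⟩

/-- all-degree pseudo-coherence over a coherent ring. -/
theorem forall_npc_iff_of_cohRing (hR : CohRing R) (K : Dual.D R) (b : ℤ)
    (hb : ∀ i : ℤ, b < i → Subsingleton (Dual.HD R K i)) :
    (∀ m : ℤ, NPC (FF R) m K) ↔ ∀ i : ℤ, Module.FinitePresentation R (Dual.HD R K i) := by
  constructor
  · intro h i
    exact ((npc_iff_of_cohRing hR (i - 1) K b hb).1 (h (i - 1))).2 i (by omega)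
  · intro h m
    refine (npc_iff_of_cohRing hR m K b hb).2 ⟨?_, fun i _ => h i⟩
    haveI := h m
    infer_instance

end Groth.Agent.Lib.helper23.DRingPC
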