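import Mathlib
import Groth.Prelude.Def_PCoh
import Groth.Agent.Lib.Helper23.PCohCore10

set_option autoImplicit false
universe w v u w' v' u'
open CategoryTheory CategoryTheory.Limits HomologicalComplex CochainComplex
open CategoryTheory.Pretriangulated

namespace Groth.Agent.Lib.helper23.PCohCore

open Groth.Agent.Lib.helper23.NQuasiIso Groth.Agent.Lib.helper23.PCohAmp

variable {C : Type u} [Category.{v} C] [Abelian C] [HasDerivedCategory.{w} C]
  {C' : Type u'} [Category.{v'} C'] [Abelian C'] [HasDerivedCategory.{w'} C']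
  (F : DerivedCategory C ⥤ DerivedCategory C') [F.CommShift ℤ] [F.IsTriangulated]

/-- a triangulated functor of cohomological amplitude `≤ b` shifts the vanishing range by `b`. -/
lemma isZero_homology_map_of_bound (b : ℤ)
    (hii : ∀ X : DerivedCategory C,
      (∀ i : ℤ, 0 < i → IsZero ((DerivedCategory.homologyFunctor C i).obj X)) →
      ∀ i : ℤ, b < i → IsZero ((DerivedCategory.homologyFunctor C' i).obj (F.obj X)))
    (X : DerivedCategory C) (t : ℤ)
    (hX : ∀ i : ℤ, t < i → IsZero ((DerivedCategory.homologyFunctor C i).obj X)) :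
    ∀ i : ℤ, t + b < i → IsZero ((DerivedCategory.homologyFunctor C' i).obj (F.obj X)) := by
  haveI : X.IsLE t := (DerivedCategory.isLE_iff X t).2 hX
  haveI : (X⟦t⟧).IsLE 0 := DerivedCategory.TStructure.t.isLE_shift X t t 0 (by simp)
  have h1 : ∀ i : ℤ, b < i → IsZero ((DerivedCategory.homologyFunctor C' i).obj (F.obj (X⟦t⟧))) :=
    hii (X⟦t⟧) ((DerivedCategory.isLE_iff _ 0).1 inferInstance)
  haveI : (F.obj (X⟦t⟧)).IsLE b := (DerivedCategory.isLE_iff _ b).2 h1
  haveI : ((F.obj X)⟦t⟧).IsLE b :=
    DerivedCategory.TStructure.t.isLE_of_iso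
      (show F.obj (X⟦t⟧) ≅ (F.obj X)⟦t⟧ from (F.commShiftIso t).app X) b
  haveI : (F.obj X).IsLE (t + b) :=
    (DerivedCategory.TStructure.t.isLE_shift_iff (F.obj X) (t + b) t b rfl).1 inferInstance
  exact (DerivedCategory.isLE_iff _ (t + b)).1 inferInstance

variable (P : ObjectProperty C) [P.IsClosedUnderIsomorphisms] [P.ContainsZero]
  (P' : ObjectProperty C') [P'.IsClosedUnderIsomorphisms] [P'.ContainsZero]
  (hsum' : ∀ X Y : C', P' X → P' Y → P' (X ⨯ Y))
  (hqs' : PCoh.IsQuasiStableUnderKernels P') (hql' : PCoh.IsQuasiLiftable P')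

include hsum' hqs' hql' in
/-- dévissage: the image of a strictly perfect complex with top degree `hi`. -/
theorem npc_map_of_strictPerfect (a : ℤ)
    (hi' : ∀ E : C, P E → NPC P' a (F.obj ((DerivedCategory.singleFunctor C 0).obj E))) :
    ∀ (k : ℕ) (hi : ℤ) (G : CochainComplex C ℤ), (∀ i, P (G.X i)) →
      (∀ i, hi < i → IsZero (G.X i)) → (∀ i, i ≤ hi - k → IsZero (G.X i)) →
      NPC P' (hi + a) (F.obj (DerivedCategory.Q.obj G)) := by
  intro k
  induction k with
  | zero =>
    intro hi G _ h2 h3
    have hz : IsZero G := by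
      rw [IsZero.iff_id_eq_zero]
      ext i
      have : IsZero (G.X i) := by
        by_cases h : hi < i
        · exact h2 i h
        · exact h3 i (by simp; omega)
      exact this.eq_of_src _ _
    exact NPC.of_isZero P' _ (F.map_isZero (DerivedCategory.Q.map_isZero hz))
  | succ k ih =>
    intro hi G h1 h2 h3
    let S := (HomologicalComplex.single C (ComplexShape.up ℤ) hi).obj (G.X hi)
    let ι : S ⟶ G := HomologicalComplex.mkHomFromSingle (𝟙 (G.X hi)) (fun k hk => by
      simp only [ComplexShape.up_Rel] at hk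
      subst hk
      exact (h2 (hi + 1) (by omega)).eq_of_tgt _ _)
    haveI hιb : IsIso (ι.f hi) := by
      dsimp [ι]
      rw [HomologicalComplex.mkHomFromSingle_f]
      infer_instance
    have hSz : ∀ i : ℤ, i ≠ hi → IsZero (S.X i) := fun i hi' =>
      HomologicalComplex.isZero_single_obj_X (ComplexShape.up ℤ) hi _ i hi'
    have hιf : ∀ i, Mono (ι.f i) := by
      intro i
      by_cases hi' : i = hi
      · subst hi'; infer_instance
      · exact ⟨fun _ _ _ => (hSz i hi').eq_of_tgt _ _⟩
    haveI : Mono ι := HomologicalComplex.mono_of_mono_f ι hιf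
    let S₁ : ShortComplex (CochainComplex C ℤ) :=
      ShortComplex.mk ι (cokernel.π ι) (cokernel.condition ι)
    haveI : Mono S₁.f := by dsimp [S₁]; infer_instance
    haveI : Epi S₁.g := by dsimp [S₁]; infer_instance
    have hS₁ : S₁.ShortExact :=
      { exact := ShortComplex.exact_of_g_is_cokernel _ (cokernelIsCokernel ι) }
    have hS₁i := fun i => hS₁.map_of_exact (HomologicalComplex.eval C (ComplexShape.up ℤ) i)
    have hKiso : ∀ i : ℤ, i ≠ hi → IsIso ((cokernel.π ι).f i) := by
      intro i hi'
      haveI : Mono ((cokernel.π ι).f i) := (hS₁i i).exact.mono_g ((hSz i hi').eq_of_src _ _)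
      haveI : Epi ((cokernel.π ι).f i) := (hS₁i i).epi_g
      exact isIso_of_mono_of_epi _
    have hKb : IsZero ((cokernel ι).X hi) := by
      haveI : Epi ((cokernel.π ι).f hi) := (hS₁i hi).epi_g
      refine IsZero.of_epi_eq_zero ((cokernel.π ι).f hi) ?_
      rw [← cancel_epi (ι.f hi), comp_zero, ← HomologicalComplex.comp_f, cokernel.condition,
        HomologicalComplex.zero_f]
    have hK : NPC P' (hi - 1 + a) (F.obj (DerivedCategory.Q.obj (cokernel ι))) := by
      refine ih (hi - 1) (cokernel ι) (fun i => ?_) (fun i hi' => ?_) (fun i hi' => ?_)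
      · by_cases hib : i = hi
        · subst hib; exact P.prop_of_isZero hKb
        · haveI := hKiso i hib
          exact P.prop_of_iso (asIso ((cokernel.π ι).f i)) (h1 i)
      · by_cases hib : i = hi
        · subst hib; exact hKb
        · haveI := hKiso i hib
          exact (h2 i (by omega)).of_iso (asIso ((cokernel.π ι).f i)).symm
      · have hib : i ≠ hi := by omega
        haveI := hKiso i hib
        exact (h3 i (by push_cast; omega)).of_iso (asIso ((cokernel.π ι).f i)).symm
    have hS : NPC P' (hi + a) (F.obj (DerivedCategory.Q.obj S)) := by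
      have h := (hi' (G.X hi) (h1 hi)).shift (-hi)
      rw [show a - -hi = hi + a by ring] at h
      exact h.of_iso (((F.commShiftIso (-hi)).app _).symm ≪≫
        F.mapIso (((DerivedCategory.singleFunctors C).shiftIso (-hi) hi 0 (by simp)).app (G.X hi)))
    have hT := F.map_distinguished _ (DerivedCategory.triangleOfSES_distinguished hS₁)
    exact (NPC.two_of_three P' hsum' hqs' hql' (hi + a) _ hT).2.1 hS
      (hK.mono (by omega))

include hsum' hqs' hql' in
/-- S5620. -/
theorem npc_map_triangulated (hsum : ∀ X Y : C, P X → P Y → P (X ⨯ Y))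
    (hqs : PCoh.IsQuasiStableUnderKernels P) (hql : PCoh.IsQuasiLiftable P) (a b : ℤ)
    (hi' : ∀ E : C, P E → NPC P' a (F.obj ((DerivedCategory.singleFunctor C 0).obj E)))
    (hii : ∀ X : DerivedCategory C,
      (∀ i : ℤ, 0 < i → IsZero ((DerivedCategory.homologyFunctor C i).obj X)) →
      ∀ i : ℤ, b < i → IsZero ((DerivedCategory.homologyFunctor C' i).obj (F.obj X)))
    (m n : ℤ) (X : DerivedCategory C) (hX : NPC P m X)
    (hac : ∀ i : ℤ, n < i → IsZero ((DerivedCategory.homologyFunctor C i).obj X)) :
    NPC P' (max (m + b) (n + a)) (F.obj X) ∧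
      ∀ i : ℤ, n + b < i → IsZero ((DerivedCategory.homologyFunctor C' i).obj (F.obj X)) := by
  refine ⟨?_, isZero_homology_map_of_bound F b hii X n hac⟩
  obtain ⟨E₀, hE₀, ⟨e⟩⟩ := hX
  have eH : ∀ i, E₀.homology i ≅ (DerivedCategory.homologyFunctor C i).obj X := fun i =>
    ((DerivedCategory.homologyFunctorFactors C i).app E₀).symm ≪≫
      (DerivedCategory.homologyFunctor C i).mapIso e
  -- a strictly perfect approximation
  obtain ⟨G, w, h1, h2, h3, h4⟩ := exists_perfect_nQuasiIso' P hsum hqs hql m E₀ E₀ hE₀ (𝟙 _)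
    inferInstance (max n (m - 1)) (le_max_right _ _)
    (fun i hi => (hac i (lt_of_le_of_lt (le_max_left _ _) hi)).of_iso (eH i))
  have hα : NIso m (DerivedCategory.Q.map w ≫ e.hom) :=
    (NIso.of_nQuasiIso w h3 h4).comp_iso e.hom
  -- the image of the strictly perfect complex
  have hG : NPC P' (n + a) (F.obj (DerivedCategory.Q.obj G)) := by
    by_cases hnm : m - 1 ≤ n
    · have hmax : max n (m - 1) = n := max_eq_left hnm
      rw [hmax] at h2
      refine npc_map_of_strictPerfect F P P' hsum' hqs' hql' a hi' (n - m + 1).toNat n G h1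
        (fun i hi => h2 i (Or.inr hi)) (fun i hi => h2 i (Or.inl ?_))
      rw [Int.toNat_of_nonneg (by omega)] at hi
      omega
    · have hmax : max n (m - 1) = m - 1 := max_eq_right (by omega)
      rw [hmax] at h2
      refine npc_map_of_strictPerfect F P P' hsum' hqs' hql' a hi' 0 n G h1
        (fun i hi => h2 i ?_) (fun i hi => h2 i ?_)
      · by_cases h : i < m
        · exact Or.inl h
        · exact Or.inr (by omega)
      · exact Or.inl (by simp at hi; omega)
  -- the cone
  obtain ⟨N, g, h, hT⟩ := distinguished_cocone_triangle (DerivedCategory.Q.map w ≫ e.hom)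
  have hN : ∀ i : ℤ, m - 1 < i → IsZero ((DerivedCategory.homologyFunctor C i).obj N) := by
    intro i hi
    have e3 := DerivedCategory.HomologySequence.exact₃ _ hT i (i + 1) rfl
    refine e3.isZero_of_both_zeros ?_ ?_
    · refine (DerivedCategory.HomologySequence.epi_homologyMap_mor₁_iff _ hT i).1 ?_
      rcases eq_or_lt_of_le (show m ≤ i by omega) with rfl | h
      · exact hα.2
      · haveI := hα.1 i h
        show Epi ((DerivedCategory.homologyFunctor C i).map (DerivedCategory.Q.map w ≫ e.hom))
        infer_instance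
    · refine (DerivedCategory.HomologySequence.mono_homologyMap_mor₁_iff _ hT i (i + 1) rfl).1 ?_
      haveI := hα.1 (i + 1) (by omega)
      show Mono ((DerivedCategory.homologyFunctor C (i + 1)).map
        (DerivedCategory.Q.map w ≫ e.hom))
      infer_instance
  have hFN : NPC P' (m + b) (F.obj N) :=
    NPC.of_acyclic P' (m + b) _ (fun i hi =>
      isZero_homology_map_of_bound F b hii N (m - 1) hN i (by omega))
  have hT' := F.map_distinguished _ hT
  exact (NPC.two_of_three P' hsum' hqs' hql' _ _ hT').2.1
    (hG.mono (le_max_right _ _)) (hFN.mono (le_max_left _ _))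

end Groth.Agent.Lib.helper23.PCohCore
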