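import Mathlib
import Groth.Prelude.Def_PCoh
import Groth.Agent.Lib.Helper23.PCohFunctor

set_option autoImplicit false
universe w v u w' v' u'
open CategoryTheory CategoryTheory.Limits HomologicalComplex CochainComplex
open CategoryTheory.Pretriangulated

namespace Groth.Agent.Lib.helper23.PCohCore

open Groth.Agent.Lib.helper23.NQuasiIso Groth.Agent.Lib.helper23.PCohAmp

variable {C : Type u} [Category.{v} C] [Abelian C] [HasDerivedCategory.{w} C]
  {C' : Type u'} [Category.{v'} C'] [Abelian C'] [HasDerivedCategory.{w'} C']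
  (F : DerivedCategory C ⥤ DerivedCategory C') [F.CommShift ℤ] [F.IsTriangulated]
  (P : ObjectProperty C) [P.IsClosedUnderIsomorphisms] [P.ContainsZero]
  (P' : ObjectProperty C') [P'.IsClosedUnderIsomorphisms] [P'.ContainsZero]
  (hsum : ∀ X Y : C, P X → P Y → P (X ⨯ Y))
  (hqs : PCoh.IsQuasiStableUnderKernels P) (hql : PCoh.IsQuasiLiftable P)
  (hsum' : ∀ X Y : C', P' X → P' Y → P' (X ⨯ Y))
  (hqs' : PCoh.IsQuasiStableUnderKernels P') (hql' : PCoh.IsQuasiLiftable P')

/-- the image of a single complex in degree `b`. -/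
lemma npc_map_single (L : C)
    (ha : ∀ a : ℤ, NPC P' a (F.obj ((DerivedCategory.singleFunctor C 0).obj L))) (b a : ℤ) :
    NPC P' a (F.obj (DerivedCategory.Q.obj
      ((HomologicalComplex.single C (ComplexShape.up ℤ) b).obj L))) := by
  have h1 := (ha (a - b)).shift (-b)
  rw [show a - b - -b = a by ring] at h1
  have e1 : ((DerivedCategory.singleFunctor C 0).obj L)⟦-b⟧ ≅
      (DerivedCategory.singleFunctor C b).obj L :=
    ((DerivedCategory.singleFunctors C).shiftIso (-b) b 0 (by simp)).app L
  have e2 : (DerivedCategory.singleFunctor C b).obj L ≅ DerivedCategory.Q.obj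
      ((HomologicalComplex.single C (ComplexShape.up ℤ) b).obj L) :=
    (DerivedCategory.singleFunctorIsoCompQ C b).app L
  exact h1.of_iso (((F.commShiftIso (-b)).app _).symm ≪≫ F.mapIso (e1 ≪≫ e2))

include hsum hqs hql hsum' hqs' hql' in
theorem npc_of_npc_map_aux
    (ha : ∀ E : C, P E → ∀ a : ℤ, NPC P' a (F.obj ((DerivedCategory.singleFunctor C 0).obj E)))
    (hb : ∀ (X : DerivedCategory C) (i : ℤ),
      IsZero ((DerivedCategory.homologyFunctor C' i).obj (F.obj X)) ↔
        IsZero ((DerivedCategory.homologyFunctor C i).obj X))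
    (hc : ∀ (X : DerivedCategory C) (i : ℤ),
      PCoh.IsOfFiniteType P' ((DerivedCategory.homologyFunctor C' i).obj (F.obj X)) →
        PCoh.IsOfFiniteType P ((DerivedCategory.homologyFunctor C i).obj X))
    (n : ℤ) : ∀ (k : ℕ) (b : ℤ), b ≤ n - 1 + k → ∀ X : DerivedCategory C,
      (∀ i : ℤ, b < i → IsZero ((DerivedCategory.homologyFunctor C i).obj X)) →
      NPC P' n (F.obj X) → NPC P n X := by
  intro k
  induction k with
  | zero =>
    intro b hbk X hac _
    exact NPC.of_acyclic P n X (fun i hi => hac i (by simp at hbk; omega))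
  | succ k ih =>
    intro b hbk X hac h
    by_cases hb' : b ≤ n - 1 + k
    · exact ih b hb' X hac h
    have hnb : n ≤ b := by push_cast at hbk; omega
    have hft' : PCoh.IsOfFiniteType P' ((DerivedCategory.homologyFunctor C' b).obj (F.obj X)) :=
      (npc_iff_isOfFiniteType P' hsum' hqs' hql' b (F.obj X)
        (fun i hi => (hb X i).2 (hac i hi))).1 (h.mono hnb)
    have hft := hc X b hft'
    let X₀ := DerivedCategory.Q.objPreimage X
    let eX : DerivedCategory.Q.obj X₀ ≅ X := DerivedCategory.Q.objObjPreimageIso X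
    have eH : X₀.homology b ≅ (DerivedCategory.homologyFunctor C b).obj X :=
      ((DerivedCategory.homologyFunctorFactors C b).app X₀).symm ≪≫
        (DerivedCategory.homologyFunctor C b).mapIso eX
    obtain ⟨L, hL, ζ, hζ⟩ := exists_single_hom_epi_of_finiteType P hql X₀ b
      (isOfFiniteType_of_iso P eH.symm hft)
    have hs : Epi ((DerivedCategory.homologyFunctor C b).map (DerivedCategory.Q.map ζ ≫ eX.hom)) := by
      rw [CategoryTheory.Functor.map_comp]
      haveI := (epi_homologyFunctor_map_Q_iff ζ b).2 hζ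
      infer_instance
    have hSz : ∀ i : ℤ, b < i → IsZero ((DerivedCategory.homologyFunctor C i).obj
        (DerivedCategory.Q.obj ((HomologicalComplex.single C (ComplexShape.up ℤ) b).obj L))) :=
      fun i hi => ((HomologicalComplex.exactAt_single_obj _ _ _ _
        (by omega)).isZero_homology).of_iso ((DerivedCategory.homologyFunctorFactors C i).app _)
    have hSnpc : ∀ m : ℤ, NPC P m (DerivedCategory.Q.obj
        ((HomologicalComplex.single C (ComplexShape.up ℤ) b).obj L)) := fun m =>
      ⟨_, ⟨⟨b, fun i hi => HomologicalComplex.isZero_single_obj_X _ _ _ _ (by omega)⟩,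
        fun i _ => by
          by_cases h : i = b
          · subst h
            exact P.prop_of_iso (HomologicalComplex.singleObjXSelf (ComplexShape.up ℤ) i L).symm hL
          · exact P.prop_of_isZero (HomologicalComplex.isZero_single_obj_X _ _ _ _ h)⟩,
        ⟨Iso.refl _⟩⟩
    obtain ⟨N, g, h', hT, hz⟩ := exists_cone_top_vanish (DerivedCategory.Q.map ζ ≫ eX.hom) b hs hSz hac
    have hFT := F.map_distinguished _ hT
    have h3 : NPC P' n (F.obj N) :=
      NPC.cone P' hsum' hqs' hql' n _ hFT (npc_map_single F P' L (ha L hL) b (n + 1)) h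
    have hN : NPC P n N := ih (b - 1) (by push_cast at hbk; omega) N
      (fun i hi => hz i (by omega)) h3
    exact (NPC.two_of_three P hsum hqs hql n _ hT).2.1 (hSnpc n) hN

include hsum hqs hql hsum' hqs' hql' in
/-- reflection of `n`-pseudo-coherence along a conservative, finiteness-reflecting triangulated
functor. -/
theorem npc_of_npc_map
    (ha : ∀ E : C, P E → ∀ a : ℤ, NPC P' a (F.obj ((DerivedCategory.singleFunctor C 0).obj E)))
    (hb : ∀ (X : DerivedCategory C) (i : ℤ),
      IsZero ((DerivedCategory.homologyFunctor C' i).obj (F.obj X)) ↔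
        IsZero ((DerivedCategory.homologyFunctor C i).obj X))
    (hc : ∀ (X : DerivedCategory C) (i : ℤ),
      PCoh.IsOfFiniteType P' ((DerivedCategory.homologyFunctor C' i).obj (F.obj X)) →
        PCoh.IsOfFiniteType P ((DerivedCategory.homologyFunctor C i).obj X))
    (n : ℤ) (X : DerivedCategory C) (h : NPC P' n (F.obj X)) : NPC P n X := by
  obtain ⟨b, hnb, hbz⟩ := h.exists_bound
  refine npc_of_npc_map_aux F P P' hsum hqs hql hsum' hqs' hql' ha hb hc n (b - (n - 1)).toNat b ?_ X
    (fun i hi => (hb X i).1 (hbz i hi)) h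
  rw [Int.toNat_of_nonneg (by omega)]
  omega

include hsum hqs hql hsum' hqs' hql' in
/-- the forward direction for a functor which is exact on cohomology. -/
theorem npc_map_of_npc
    (ha : ∀ E : C, P E → ∀ a : ℤ, NPC P' a (F.obj ((DerivedCategory.singleFunctor C 0).obj E)))
    (hb : ∀ (X : DerivedCategory C) (i : ℤ),
      IsZero ((DerivedCategory.homologyFunctor C' i).obj (F.obj X)) ↔
        IsZero ((DerivedCategory.homologyFunctor C i).obj X))
    (n : ℤ) (X : DerivedCategory C) (h : NPC P n X) : NPC P' n (F.obj X) := by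
  obtain ⟨b, hnb, hbz⟩ := h.exists_bound
  have := (npc_map_triangulated F P P' hsum' hqs' hql' hsum hqs hql (n - b) 0
    (fun E hE => ha E hE _) (fun X hX i hi => (hb X i).2 (hX i hi)) n b X h hbz).1
  rwa [show max (n + 0) (b + (n - b)) = n by simp] at this

end Groth.Agent.Lib.helper23.PCohCore
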