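import Mathlib
import Groth.Prelude.Def_DRing2
import Groth.Agent.Lib.Helper23.DRingPC3
import Groth.Agent.Lib.Helper23.PCohReflect
import Groth.Agent.Lib.Helper23.DCompl12

set_option autoImplicit false
universe u
open CategoryTheory CategoryTheory.Limits Pretriangulated

attribute [local instance] HasDerivedCategory.standard

namespace Groth.Agent.Lib.helper23.DRingPC

open Groth.Agent.Lib.helper23.PCohCore Groth.Agent.Lib.helper23.PerfThick

variable {A B : Type u} [CommRing A] [CommRing B] (φ : A →+* B)

/-- modules all of whose shifts-by-degree are pseudo-coherent. -/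
def PCMod (A : Type u) [CommRing A] (M : ModuleCat.{u} A) : Prop :=
  ∀ a : ℤ, NPC (FF A) a ((DerivedCategory.singleFunctor (ModuleCat.{u} A) 0).obj M)

lemma PCMod.of_iso {M N : ModuleCat.{u} A} (h : PCMod A M) (e : M ≅ N) : PCMod A N :=
  fun a => (h a).of_iso ((DerivedCategory.singleFunctor (ModuleCat.{u} A) 0).mapIso e)

lemma PCMod.of_isZero {M : ModuleCat.{u} A} (h : IsZero M) : PCMod A M :=
  fun a => NPC.of_isZero (FF A) a
    ((DerivedCategory.singleFunctor (ModuleCat.{u} A) 0).map_isZero h)

lemma PCMod.biprod {M N : ModuleCat.{u} A} (hM : PCMod A M) (hN : PCMod A N) :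
    PCMod A (M ⊞ N) := fun a => by
  haveI : PreservesBinaryBiproducts (DerivedCategory.singleFunctor (ModuleCat.{u} A) 0) :=
    preservesBinaryBiproducts_of_preservesBiproducts _
  exact (NPC.biprod (FF_sum A) (hM a) (hN a)).of_iso
    ((DerivedCategory.singleFunctor (ModuleCat.{u} A) 0).mapBiprod M N).symm

/-- restriction of scalars of a product. -/
noncomputable def restrictProdIso (M N : Type u) [AddCommGroup M] [Module B M] [AddCommGroup N]
    [Module B N] :
    (ModuleCat.restrictScalars.{u} φ).obj (ModuleCat.of B (M × N)) ≅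
      (ModuleCat.restrictScalars.{u} φ).obj (ModuleCat.of B M) ⊞
        (ModuleCat.restrictScalars.{u} φ).obj (ModuleCat.of B N) :=
  (LinearEquiv.toModuleIso
    ({ toFun := fun x => x
       invFun := fun x => x
       map_add' := fun _ _ => rfl
       map_smul' := fun _ _ => rfl
       left_inv := fun _ => rfl
       right_inv := fun _ => rfl } :
      ((ModuleCat.restrictScalars.{u} φ).obj (ModuleCat.of B (M × N))) ≃ₗ[A]
        (((ModuleCat.restrictScalars.{u} φ).obj (ModuleCat.of B M)) ×
          ((ModuleCat.restrictScalars.{u} φ).obj (ModuleCat.of B N))))) ≪≫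
    (ModuleCat.biprodIsoProd _ _).symm

lemma pcMod_restrict_pi (hB : PCMod A ((ModuleCat.restrictScalars.{u} φ).obj (ModuleCat.of B B))) :
    ∀ (k : ℕ), PCMod A ((ModuleCat.restrictScalars.{u} φ).obj (ModuleCat.of B (Fin k → B))) := by
  intro k
  induction k with
  | zero =>
    refine PCMod.of_isZero ?_
    haveI : Subsingleton ((ModuleCat.restrictScalars.{u} φ).obj (ModuleCat.of B (Fin 0 → B))) :=
      inferInstanceAs (Subsingleton (Fin 0 → B))
    exact ModuleCat.isZero_of_subsingleton _
  | succ k ih =>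
    have e : ModuleCat.of B (B × (Fin k → B)) ≅ ModuleCat.of B (Fin (k + 1) → B) :=
      (Fin.consLinearEquiv B (fun _ : Fin (k + 1) => B)).toModuleIso
    exact ((hB.biprod ih).of_iso (restrictProdIso φ B (Fin k → B)).symm).of_iso
      ((ModuleCat.restrictScalars.{u} φ).mapIso e)

lemma pcMod_restrict_of_FF (hB : PCMod A ((ModuleCat.restrictScalars.{u} φ).obj (ModuleCat.of B B)))
    (E : ModuleCat.{u} B) (hE : FF B E) :
    PCMod A ((ModuleCat.restrictScalars.{u} φ).obj E) := by
  obtain ⟨h1, h2⟩ := hE
  let b := Module.Free.chooseBasis B E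
  let e : E ≃ₗ[B] (Fin (Fintype.card (Module.Free.ChooseBasisIndex B E)) → B) :=
    (b.reindex (Fintype.equivFin _)).equivFun
  exact (pcMod_restrict_pi φ hB _).of_iso
    ((ModuleCat.restrictScalars.{u} φ).mapIso e.toModuleIso.symm)

/-- hypothesis (a) for restriction of scalars. -/
lemma restrict_ha (hB : PCMod A ((ModuleCat.restrictScalars.{u} φ).obj (ModuleCat.of B B)))
    (E : ModuleCat.{u} B) (hE : FF B E) (a : ℤ) :
    NPC (FF A) a ((ModuleCat.restrictScalars.{u} φ).mapDerivedCategory.obj
      ((DerivedCategory.singleFunctor (ModuleCat.{u} B) 0).obj E)) :=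
  (pcMod_restrict_of_FF φ hB E hE a).of_iso
    (((ModuleCat.restrictScalars.{u} φ).mapDerivedCategorySingleFunctor 0).app E).symm

/-- hypothesis (b) for restriction of scalars. -/
lemma restrict_hb (X : DerivedCategory (ModuleCat.{u} B)) (i : ℤ) :
    IsZero ((DerivedCategory.homologyFunctor (ModuleCat.{u} A) i).obj
      ((ModuleCat.restrictScalars.{u} φ).mapDerivedCategory.obj X)) ↔
      IsZero ((DerivedCategory.homologyFunctor (ModuleCat.{u} B) i).obj X) := by
  rw [(DCompl.homologyRestrictIso φ X i).isZero_iff, ModuleCat.isZero_iff_subsingleton,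
    ModuleCat.isZero_iff_subsingleton]
  exact Iff.rfl

/-- hypothesis (c) for restriction of scalars. -/
lemma restrict_hc (X : DerivedCategory (ModuleCat.{u} B)) (i : ℤ)
    (h : PCoh.IsOfFiniteType (FF A) ((DerivedCategory.homologyFunctor (ModuleCat.{u} A) i).obj
      ((ModuleCat.restrictScalars.{u} φ).mapDerivedCategory.obj X))) :
    PCoh.IsOfFiniteType (FF B) ((DerivedCategory.homologyFunctor (ModuleCat.{u} B) i).obj X) := by
  rw [isOfFiniteType_iff_finite] at h ⊢
  haveI := h
  have h1 : Module.Finite A ((ModuleCat.restrictScalars.{u} φ).obj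
      ((DerivedCategory.homologyFunctor (ModuleCat.{u} B) i).obj X)) :=
    Module.Finite.equiv (DCompl.homologyRestrictIso φ X i).toLinearEquiv
  obtain ⟨S, hS⟩ := h1
  refine ⟨S, ?_⟩
  rw [eq_top_iff]
  rintro x -
  have hx : x ∈ Submodule.span A (S : Set ((ModuleCat.restrictScalars.{u} φ).obj
      ((DerivedCategory.homologyFunctor (ModuleCat.{u} B) i).obj X))) := by
    rw [hS]; trivial
  induction hx using Submodule.span_induction with
  | mem y hy => exact Submodule.subset_span hy
  | zero => exact Submodule.zero_mem _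
  | add y z _ _ hy hz => exact Submodule.add_mem _ hy hz
  | smul r y _ hy => exact Submodule.smul_mem _ (φ r) hy

/-- S6940, in terms of `NPC`. -/
theorem npc_restrict_iff (hB : PCMod A ((ModuleCat.restrictScalars.{u} φ).obj (ModuleCat.of B B)))
    (K : DerivedCategory (ModuleCat.{u} B)) (m : ℤ) :
    NPC (FF B) m K ↔
      NPC (FF A) m ((ModuleCat.restrictScalars.{u} φ).mapDerivedCategory.obj K) :=
  ⟨npc_map_of_npc _ (FF B) (FF A) (FF_sum B) (FF_hqs B) (FF_hql B) (FF_sum A) (FF_hqs A) (FF_hql A)
      (restrict_ha φ hB) (restrict_hb φ) m K,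
    npc_of_npc_map _ (FF B) (FF A) (FF_sum B) (FF_hqs B) (FF_hql B) (FF_sum A) (FF_hqs A) (FF_hql A)
      (restrict_ha φ hB) (restrict_hb φ) (restrict_hc φ) m K⟩

end Groth.Agent.Lib.helper23.DRingPC
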