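import Mathlib
import Groth.Prelude.Def_DRing2
import Groth.Agent.Lib.Helper23.DRingPC4

set_option autoImplicit false
universe u
open CategoryTheory CategoryTheory.Limits Pretriangulated

attribute [local instance] HasDerivedCategory.standard

namespace Groth.Agent.Lib.helper23.DRingPC

open Groth.Agent.Lib.helper23.PCohCore Groth.Agent.Lib.helper23.PerfThick

section Comp

variable {R₁ R₂ R₃ : Type u} [CommRing R₁] [CommRing R₂] [CommRing R₃]
  (f : R₁ →+* R₂) (g : R₂ →+* R₃) (gf : R₁ →+* R₃)

/-- restriction of scalars along a composition, on objects of the derived category. -/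
lemma nonempty_restrictD_comp_iso (hgf : gf = g.comp f) (K : DerivedCategory (ModuleCat.{u} R₃)) :
    Nonempty ((ModuleCat.restrictScalars.{u} gf).mapDerivedCategory.obj K ≅
      (ModuleCat.restrictScalars.{u} f).mapDerivedCategory.obj
        ((ModuleCat.restrictScalars.{u} g).mapDerivedCategory.obj K)) := by
  let E := DerivedCategory.Q.objPreimage K
  let e : DerivedCategory.Q.obj E ≅ K := DerivedCategory.Q.objObjPreimageIso K
  let F₁ := ModuleCat.restrictScalars.{u} f
  let F₂ := ModuleCat.restrictScalars.{u} g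
  let F₃ := ModuleCat.restrictScalars.{u} gf
  have e1 : F₃.mapDerivedCategory.obj K ≅
      DerivedCategory.Q.obj ((F₃.mapHomologicalComplex (ComplexShape.up ℤ)).obj E) :=
    F₃.mapDerivedCategory.mapIso e.symm ≪≫ F₃.mapDerivedCategoryFactors.app E
  have e2 : F₁.mapDerivedCategory.obj (F₂.mapDerivedCategory.obj K) ≅
      DerivedCategory.Q.obj ((F₁.mapHomologicalComplex (ComplexShape.up ℤ)).obj
        ((F₂.mapHomologicalComplex (ComplexShape.up ℤ)).obj E)) :=
    F₁.mapDerivedCategory.mapIso (F₂.mapDerivedCategory.mapIso e.symm ≪≫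
      F₂.mapDerivedCategoryFactors.app E) ≪≫ F₁.mapDerivedCategoryFactors.app _
  have e3 : (F₃.mapHomologicalComplex (ComplexShape.up ℤ)).obj E ≅
      (F₁.mapHomologicalComplex (ComplexShape.up ℤ)).obj
        ((F₂.mapHomologicalComplex (ComplexShape.up ℤ)).obj E) :=
    HomologicalComplex.Hom.isoOfComponents
      (fun i => (ModuleCat.restrictScalarsComp' f g gf hgf).app (E.X i))
      (fun i j _ => by
        exact ((ModuleCat.restrictScalarsComp' f g gf hgf).hom.naturality (E.d i j)).symm)
  exact ⟨e1 ≪≫ DerivedCategory.Q.mapIso e3 ≪≫ e2.symm⟩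

end Comp

section Transfer

variable {P₁ P₂ A : Type u} [CommRing P₁] [CommRing P₂] [CommRing A]

/-- transfer of pseudo-coherence along a ring map `φ : P₁ → P₂` making `P₂` a pseudo-coherent
`P₁`-module. -/
theorem npc_restrict_comp_iff (φ : P₁ →+* P₂)
    (hφ : PCMod P₁ ((ModuleCat.restrictScalars.{u} φ).obj (ModuleCat.of P₂ P₂)))
    (δ : P₂ →+* A) (γ : P₁ →+* A) (h : γ = δ.comp φ) (K : DerivedCategory (ModuleCat.{u} A))
    (m : ℤ) :
    NPC (FF P₁) m ((ModuleCat.restrictScalars.{u} γ).mapDerivedCategory.obj K) ↔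
      NPC (FF P₂) m ((ModuleCat.restrictScalars.{u} δ).mapDerivedCategory.obj K) := by
  obtain ⟨e⟩ := nonempty_restrictD_comp_iso φ δ γ h K
  rw [npc_restrict_iff φ hφ]
  exact ⟨fun h => h.of_iso e, fun h => h.of_iso e.symm⟩

/-- a ring isomorphism makes the target a pseudo-coherent module over the source. -/
lemma pcMod_of_ringEquiv (e : P₁ ≃+* P₂) :
    PCMod P₁ ((ModuleCat.restrictScalars.{u} e.toRingHom).obj (ModuleCat.of P₂ P₂)) := by
  have h1 : PCMod P₁ (ModuleCat.of P₁ P₁) := fun a =>
    NPC.single_of_prop (FF P₁) ⟨inferInstanceAs (Module.Finite P₁ P₁),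
      inferInstanceAs (Module.Free P₁ P₁)⟩ 0 a
  refine h1.of_iso (LinearEquiv.toModuleIso
    ({ toFun := fun x => e x
       invFun := fun x => e.symm x
       map_add' := fun x y => map_add e x y
       map_smul' := fun a x => by
        show e (a * x) = e a * e x
        exact map_mul e a x
       left_inv := fun x => e.symm_apply_apply x
       right_inv := fun x => e.apply_symm_apply x } :
      (ModuleCat.of P₁ P₁) ≃ₗ[P₁]
        ((ModuleCat.restrictScalars.{u} e.toRingHom).obj (ModuleCat.of P₂ P₂))))

/-- evaluation at `f` as a `P[X]`-linear map. -/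
noncomputable def evalLin (f : P₁) : (Polynomial P₁) →ₗ[Polynomial P₁]
    ((ModuleCat.restrictScalars.{u} (Polynomial.evalRingHom f)).obj (ModuleCat.of P₁ P₁)) where
  toFun := fun p => (Polynomial.eval f p : P₁)
  map_add' := fun p q => (Polynomial.eval_add : Polynomial.eval f (p + q) = (_ : P₁))
  map_smul' := fun p q => by
    show (Polynomial.eval f (p * q) : P₁) = (Polynomial.eval f p * Polynomial.eval f q : P₁)
    exact Polynomial.eval_mul

lemma evalLin_apply (f : P₁) (p : Polynomial P₁) :
    evalLin f p = (Polynomial.eval f p : P₁) := rfl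

lemma evalLin_exact (f : P₁) :
    Function.Exact (LinearMap.mulLeft (Polynomial P₁) (Polynomial.X - Polynomial.C f))
      (evalLin f) := by
  intro y
  constructor
  · intro hy
    have hy' : Polynomial.IsRoot (y : Polynomial P₁) f := hy
    obtain ⟨c, hc⟩ := Polynomial.dvd_iff_isRoot.2 hy'
    exact ⟨c, hc.symm⟩
  · rintro ⟨c, rfl⟩
    show (Polynomial.eval f ((Polynomial.X - Polynomial.C f) * c) : P₁) = (0 : P₁)
    simp

lemma evalLin_surjective (f : P₁) : Function.Surjective (evalLin f) := fun r =>
  ⟨Polynomial.C r, (Polynomial.eval_C : Polynomial.eval f (Polynomial.C (r : P₁)) = r)⟩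

lemma mulLeft_injective (f : P₁) : Function.Injective
    (LinearMap.mulLeft (Polynomial P₁) (Polynomial.X - Polynomial.C f)) := fun _ _ hpq =>
  (Polynomial.monic_X_sub_C f).isRegular.left hpq

/-- `P` is a pseudo-coherent `P[X]`-module through evaluation at `f`. -/
lemma pcMod_eval (f : P₁) :
    PCMod (Polynomial P₁) ((ModuleCat.restrictScalars.{u} (Polynomial.evalRingHom f)).obj
      (ModuleCat.of P₁ P₁)) := by
  have hz : ModuleCat.ofHom (LinearMap.mulLeft (Polynomial P₁) (Polynomial.X - Polynomial.C f)) ≫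
      ModuleCat.ofHom (evalLin f) = 0 := by
    apply ModuleCat.hom_ext
    apply LinearMap.ext
    intro x
    exact (evalLin_exact f).apply_apply_eq_zero x
  have hS : (ShortComplex.mk _ _ hz).ShortExact :=
    ModuleCat.shortComplex_shortExact _ (evalLin_exact f) (mulLeft_injective f)
      (evalLin_surjective f)
  have hF : FF (Polynomial P₁) (ModuleCat.of (Polynomial P₁) (Polynomial P₁)) :=
    ⟨inferInstanceAs (Module.Finite (Polynomial P₁) (Polynomial P₁)),
      inferInstanceAs (Module.Free (Polynomial P₁) (Polynomial P₁))⟩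
  intro a
  exact (NPC.two_of_three (FF (Polynomial P₁)) (FF_sum _) (FF_hqs _) (FF_hql _) a _
    hS.singleTriangle_distinguished).1 (NPC.single_of_prop _ hF 0 _) (NPC.single_of_prop _ hF 0 _)

end Transfer

end Groth.Agent.Lib.helper23.DRingPC
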