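import Mathlib
import Groth.Prelude.Def_DRing2
import Groth.Agent.Lib.Helper23.DRingPC5

set_option autoImplicit false
universe u
open CategoryTheory CategoryTheory.Limits Pretriangulated

attribute [local instance] HasDerivedCategory.standard

namespace Groth.Agent.Lib.helper23.DRingPC

open Groth.Agent.Lib.helper23.PCohCore Groth.Agent.Lib.helper23.PerfThick

variable {P A : Type u} [CommRing P] [CommRing A]

/-- adding one variable to a surjection does not change pseudo-coherence. -/
theorem npc_restrict_polynomial_iff (δ : Polynomial P →+* A)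
    (hδ : Function.Surjective (δ.comp Polynomial.C)) (K : DerivedCategory (ModuleCat.{u} A))
    (m : ℤ) :
    NPC (FF (Polynomial P)) m ((ModuleCat.restrictScalars.{u} δ).mapDerivedCategory.obj K) ↔
      NPC (FF P) m ((ModuleCat.restrictScalars.{u}
        (δ.comp Polynomial.C)).mapDerivedCategory.obj K) := by
  obtain ⟨f, hf⟩ := hδ (δ Polynomial.X)
  have h : δ = (δ.comp Polynomial.C).comp (Polynomial.evalRingHom f) := by
    apply Polynomial.ringHom_ext
    · intro a
      simp
    · simpa using hf.symm
  exact npc_restrict_comp_iff (Polynomial.evalRingHom f) (pcMod_eval f) (δ.comp Polynomial.C) δ h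
    K m

/-- transfer along a ring isomorphism. -/
theorem npc_restrict_ringEquiv_iff {P₁ P₂ : Type u} [CommRing P₁] [CommRing P₂] (e : P₁ ≃+* P₂)
    (δ : P₂ →+* A) (γ : P₁ →+* A) (h : γ = δ.comp e.toRingHom)
    (K : DerivedCategory (ModuleCat.{u} A)) (m : ℤ) :
    NPC (FF P₁) m ((ModuleCat.restrictScalars.{u} γ).mapDerivedCategory.obj K) ↔
      NPC (FF P₂) m ((ModuleCat.restrictScalars.{u} δ).mapDerivedCategory.obj K) :=
  npc_restrict_comp_iff e.toRingHom (pcMod_of_ringEquiv e) δ γ h K m

/-- adding finitely many variables to a surjection does not change pseudo-coherence. -/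
theorem npc_restrict_mvPolynomial_iff : ∀ (k : ℕ) (γ : MvPolynomial (Fin k) P →+* A)
    (_ : Function.Surjective (γ.comp MvPolynomial.C)) (K : DerivedCategory (ModuleCat.{u} A))
    (m : ℤ),
    NPC (FF (MvPolynomial (Fin k) P)) m
        ((ModuleCat.restrictScalars.{u} γ).mapDerivedCategory.obj K) ↔
      NPC (FF P) m ((ModuleCat.restrictScalars.{u}
        (γ.comp MvPolynomial.C)).mapDerivedCategory.obj K) := by
  intro k
  induction k with
  | zero =>
    intro γ _ K m
    refine (npc_restrict_ringEquiv_iff (MvPolynomial.isEmptyRingEquiv P (Fin 0)).symm γ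
      (γ.comp MvPolynomial.C) ?_ K m).symm
    rw [MvPolynomial.isEmptyRingEquiv_symm_toRingHom]
  | succ k ih =>
    intro γ hγ K m
    let e : MvPolynomial (Fin (k + 1)) P ≃+* Polynomial (MvPolynomial (Fin k) P) :=
      (MvPolynomial.finSuccEquiv P k).toRingEquiv
    let δ : Polynomial (MvPolynomial (Fin k) P) →+* A := γ.comp e.symm.toRingHom
    have h1 : γ = δ.comp e.toRingHom := by
      ext x <;> simp [δ]
    have hcomp : (δ.comp Polynomial.C).comp MvPolynomial.C = γ.comp MvPolynomial.C := by
      have := MvPolynomial.finSuccEquiv_comp_C_eq_C (R := P) k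
      apply RingHom.ext
      intro p
      have h2 := DFunLike.congr_fun this p
      simp only [RingHom.comp_apply] at h2
      show γ (e.symm (Polynomial.C (MvPolynomial.C p))) = γ (MvPolynomial.C p)
      exact congrArg γ h2
    have hδ : Function.Surjective (δ.comp Polynomial.C) := by
      have h3 : Function.Surjective ((δ.comp Polynomial.C).comp MvPolynomial.C) := by
        rw [hcomp]; exact hγ
      exact Function.Surjective.of_comp (g := (MvPolynomial.C : P →+* MvPolynomial (Fin k) P)) h3
    rw [npc_restrict_ringEquiv_iff e δ γ h1 K m, npc_restrict_polynomial_iff δ hδ K m,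
      ih (δ.comp Polynomial.C) (by rw [hcomp]; exact hγ) K m, hcomp]

end Groth.Agent.Lib.helper23.DRingPC

namespace Groth.Agent.Lib.helper23.DRingPC

open Groth.Agent.Lib.helper23.PCohCore Groth.Agent.Lib.helper23.PerfThick

/-- S6983: independence of the presentation. -/
theorem npc_restrict_indep {R A : Type u} [CommRing R] [CommRing A] [Algebra R A] {n k : ℕ}
    (α : MvPolynomial (Fin n) R →ₐ[R] A) (hα : Function.Surjective α)
    (β : MvPolynomial (Fin k) R →ₐ[R] A) (hβ : Function.Surjective β)
    (K : DerivedCategory (ModuleCat.{u} A)) (m : ℤ) :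
    NPC (FF (MvPolynomial (Fin n) R)) m ((ModuleCat.restrictScalars.{u}
        (α : MvPolynomial (Fin n) R →+* A)).mapDerivedCategory.obj K) ↔
      NPC (FF (MvPolynomial (Fin k) R)) m ((ModuleCat.restrictScalars.{u}
        (β : MvPolynomial (Fin k) R →+* A)).mapDerivedCategory.obj K) := by
  let γ₁ : MvPolynomial (Fin k) (MvPolynomial (Fin n) R) →+* A :=
    MvPolynomial.eval₂Hom (α : MvPolynomial (Fin n) R →+* A) (fun j => β (MvPolynomial.X j))
  let γ₂ : MvPolynomial (Fin n) (MvPolynomial (Fin k) R) →+* A :=
    MvPolynomial.eval₂Hom (β : MvPolynomial (Fin k) R →+* A) (fun i => α (MvPolynomial.X i))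
  let c : MvPolynomial (Fin k) (MvPolynomial (Fin n) R) ≃+*
      MvPolynomial (Fin n) (MvPolynomial (Fin k) R) :=
    (MvPolynomial.commAlgEquiv R (Fin k) (Fin n)).toRingEquiv
  have h1 : γ₁.comp MvPolynomial.C = (α : MvPolynomial (Fin n) R →+* A) := by
    ext x <;> simp [γ₁]
  have h2 : γ₂.comp MvPolynomial.C = (β : MvPolynomial (Fin k) R →+* A) := by
    ext x <;> simp [γ₂]
  have hc : γ₁ = γ₂.comp c.toRingHom := by
    apply MvPolynomial.ringHom_ext
    · intro p
      have : (γ₁.comp MvPolynomial.C) = (γ₂.comp c.toRingHom).comp MvPolynomial.C := by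
        apply MvPolynomial.ringHom_ext
        · intro r
          simp [γ₁, γ₂, c]
        · intro i
          simp [γ₁, γ₂, c]
      exact DFunLike.congr_fun this p
    · intro j
      simp [γ₁, γ₂, c]
  have s1 : Function.Surjective (γ₁.comp MvPolynomial.C) := by rw [h1]; exact hα
  have s2 : Function.Surjective (γ₂.comp MvPolynomial.C) := by rw [h2]; exact hβ
  rw [← h1, ← h2, ← npc_restrict_mvPolynomial_iff k γ₁ s1 K m,
    ← npc_restrict_mvPolynomial_iff n γ₂ s2 K m]
  exact npc_restrict_ringEquiv_iff c γ₂ γ₁ hc K m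

end Groth.Agent.Lib.helper23.DRingPC
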