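import Mathlib
import Groth.Prelude.Def_DRing2
import Groth.Prelude.Def_DerCA
import Groth.Agent.Lib.Helper23.DRingPC6

set_option autoImplicit false
universe u
open CategoryTheory CategoryTheory.Limits Pretriangulated

attribute [local instance] HasDerivedCategory.standard

namespace Groth.Agent.Lib.helper23.DRingPC

open Groth.Agent.Lib.helper23.PCohCore Groth.Agent.Lib.helper23.PerfThick

section Restrict

variable {P A : Type u} [CommRing P] [CommRing A] (φ : P →+* A)

/-- restriction of scalars of `M[0]`. -/
lemma npc_restrict_single_iff (M : ModuleCat.{u} A) (m : ℤ) :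
    NPC (FF P) m ((ModuleCat.restrictScalars.{u} φ).mapDerivedCategory.obj
      ((DerivedCategory.singleFunctor (ModuleCat.{u} A) 0).obj M)) ↔
    NPC (FF P) m ((DerivedCategory.singleFunctor (ModuleCat.{u} P) 0).obj
      ((ModuleCat.restrictScalars.{u} φ).obj M)) :=
  ⟨fun h => h.of_iso (((ModuleCat.restrictScalars.{u} φ).mapDerivedCategorySingleFunctor 0).app M),
    fun h => h.of_iso
      (((ModuleCat.restrictScalars.{u} φ).mapDerivedCategorySingleFunctor 0).app M).symm⟩

/-- finiteness over `P` and over `A` agree along a surjection. -/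
lemma finite_restrict_iff (hφ : Function.Surjective φ) (M : ModuleCat.{u} A) :
    Module.Finite P ((ModuleCat.restrictScalars.{u} φ).obj M) ↔ Module.Finite A M := by
  constructor
  · rintro ⟨S, hS⟩
    refine ⟨S, ?_⟩
    rw [eq_top_iff]
    rintro x -
    have hx : x ∈ Submodule.span P (S : Set ((ModuleCat.restrictScalars.{u} φ).obj M)) := by
      rw [hS]; trivial
    induction hx using Submodule.span_induction with
    | mem y hy => exact Submodule.subset_span hy
    | zero => exact Submodule.zero_mem _
    | add y z _ _ hy hz => exact Submodule.add_mem _ hy hz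
    | smul r y _ hy => exact Submodule.smul_mem _ (φ r) hy
  · rintro ⟨S, hS⟩
    obtain ⟨S', hS'⟩ : ∃ S' : Finset ((ModuleCat.restrictScalars.{u} φ).obj M),
        (S' : Set ((ModuleCat.restrictScalars.{u} φ).obj M)) = (S : Set M) := ⟨S, rfl⟩
    refine ⟨S', ?_⟩
    rw [eq_top_iff]
    rintro x -
    have hx : x ∈ Submodule.span A (S : Set M) := by
      rw [hS]; trivial
    induction hx using Submodule.span_induction with
    | mem y hy =>
      refine Submodule.subset_span ?_
      rw [hS']
      exact hy
    | zero => exact Submodule.zero_mem _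
    | add y z _ _ hy hz => exact Submodule.add_mem _ hy hz
    | smul r y _ hy =>
      obtain ⟨p, rfl⟩ := hφ r
      exact Submodule.smul_mem (Submodule.span P
        (S' : Set ((ModuleCat.restrictScalars.{u} φ).obj M))) p hy

/-- finiteness of the cohomology of a restriction along a surjection. -/
lemma finite_homology_restrict_iff (hφ : Function.Surjective φ)
    (K : DerivedCategory (ModuleCat.{u} A)) (i : ℤ) :
    Module.Finite P ((DerivedCategory.homologyFunctor (ModuleCat.{u} P) i).obj
      ((ModuleCat.restrictScalars.{u} φ).mapDerivedCategory.obj K)) ↔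
    Module.Finite A ((DerivedCategory.homologyFunctor (ModuleCat.{u} A) i).obj K) := by
  rw [← finite_restrict_iff φ hφ]
  exact ⟨fun h => by
      haveI := h
      exact Module.Finite.equiv (DCompl.homologyRestrictIso φ K i).toLinearEquiv,
    fun h => by
      haveI := h
      exact Module.Finite.equiv (DCompl.homologyRestrictIso φ K i).symm.toLinearEquiv⟩

lemma subsingleton_homology_restrict_iff (K : DerivedCategory (ModuleCat.{u} A)) (i : ℤ) :
    Subsingleton ((DerivedCategory.homologyFunctor (ModuleCat.{u} P) i).obj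
      ((ModuleCat.restrictScalars.{u} φ).mapDerivedCategory.obj K)) ↔
    Subsingleton ((DerivedCategory.homologyFunctor (ModuleCat.{u} A) i).obj K) := by
  rw [← ModuleCat.isZero_iff_subsingleton, ← ModuleCat.isZero_iff_subsingleton]
  exact restrict_hb φ K i

end Restrict

section RelPC

variable {R A : Type u} [CommRing R] [CommRing A] [Algebra R A]

theorem isRelPseudoCoherentVia_iff_npc {n : ℕ} (α : MvPolynomial (Fin n) R →ₐ[R] A) (m : ℤ)
    (K : Dual.D A) :
    DerCA.IsRelPseudoCoherentVia α m K ↔ NPC (FF (MvPolynomial (Fin n) R)) m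
      ((ModuleCat.restrictScalars.{u}
        (α : MvPolynomial (Fin n) R →+* A)).mapDerivedCategory.obj K) :=
  isPseudoCoherent_iff_npc _ _ _

/-- relative pseudo-coherence can be tested on any presentation. -/
theorem isRelPseudoCoherent_iff_npc {n : ℕ} (α : MvPolynomial (Fin n) R →ₐ[R] A)
    (hα : Function.Surjective α) (m : ℤ) (K : Dual.D A) :
    DerCA.IsRelPseudoCoherent R A m K ↔ NPC (FF (MvPolynomial (Fin n) R)) m
      ((ModuleCat.restrictScalars.{u}
        (α : MvPolynomial (Fin n) R →+* A)).mapDerivedCategory.obj K) := by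
  constructor
  · rintro ⟨n', β, hβ, h⟩
    exact (npc_restrict_indep β hβ α hα K m).1 ((isRelPseudoCoherentVia_iff_npc β m K).1 h)
  · intro h
    exact ⟨n, α, hα, (isRelPseudoCoherentVia_iff_npc α m K).2 h⟩

lemma exists_presentation [Algebra.FiniteType R A] :
    ∃ (n : ℕ) (α : MvPolynomial (Fin n) R →ₐ[R] A), Function.Surjective α :=
  Algebra.FiniteType.iff_quotient_mvPolynomial''.1 inferInstance

end RelPC

end Groth.Agent.Lib.helper23.DRingPC

namespace Groth.Agent.Lib.helper23.DRingPC

open Groth.Agent.Lib.helper23.PCohCore Groth.Agent.Lib.helper23.PerfThick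

section RelPC2

variable {P A : Type u} [CommRing P] [CommRing A] (φ : P →+* A)

/-- termwise criterion after restriction of scalars. -/
theorem npc_restrict_of_terms (m : ℤ) (K : CochainComplex (ModuleCat.{u} A) ℤ) (b : ℤ)
    (hb : ∀ i : ℤ, b < i → IsZero (K.X i))
    (h : ∀ i : ℤ, NPC (FF P) (m - i) ((ModuleCat.restrictScalars.{u} φ).mapDerivedCategory.obj
      ((DerivedCategory.singleFunctor (ModuleCat.{u} A) 0).obj (K.X i)))) :
    NPC (FF P) m ((ModuleCat.restrictScalars.{u} φ).mapDerivedCategory.obj
      (DerivedCategory.Q.obj K)) := by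
  have h1 := NPC.of_terms (FF P) (FF_sum P) (FF_hqs P) (FF_hql P) m
    (((ModuleCat.restrictScalars.{u} φ).mapHomologicalComplex (ComplexShape.up ℤ)).obj K) b
    (fun i hi => (ModuleCat.restrictScalars.{u} φ).map_isZero (hb i hi))
    (fun i _ => (npc_restrict_single_iff φ (K.X i) (m - i)).1 (h i))
  exact h1.of_iso ((ModuleCat.restrictScalars.{u} φ).mapDerivedCategoryFactors.app K).symm

/-- homology criterion after restriction of scalars. -/
theorem npc_restrict_of_homology (m : ℤ) (K : DerivedCategory (ModuleCat.{u} A)) (b : ℤ)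
    (hb : ∀ i : ℤ, b < i → Subsingleton ((DerivedCategory.homologyFunctor (ModuleCat.{u} A) i).obj K))
    (h : ∀ i : ℤ, NPC (FF P) (m - i) ((ModuleCat.restrictScalars.{u} φ).mapDerivedCategory.obj
      ((DerivedCategory.singleFunctor (ModuleCat.{u} A) 0).obj
        ((DerivedCategory.homologyFunctor (ModuleCat.{u} A) i).obj K)))) :
    NPC (FF P) m ((ModuleCat.restrictScalars.{u} φ).mapDerivedCategory.obj K) := by
  refine NPC.of_homology (FF P) (FF_sum P) (FF_hqs P) (FF_hql P) m _ b
    (fun i hi => (restrict_hb φ K i).2 ?_) (fun i _ => ?_)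
  · haveI := hb i hi
    exact ModuleCat.isZero_of_subsingleton _
  · exact ((npc_restrict_single_iff φ _ (m - i)).1 (h i)).of_iso
      ((DerivedCategory.singleFunctor (ModuleCat.{u} P) 0).mapIso
        (DCompl.homologyRestrictIso φ K i).symm)

end RelPC2

end Groth.Agent.Lib.helper23.DRingPC
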