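import Mathlib
import Groth.Prelude.Def_DRing2
import Groth.Prelude.Def_DerCA
import Groth.Agent.Lib.Helper23.DRingPC7

set_option autoImplicit false
universe u
open CategoryTheory CategoryTheory.Limits Pretriangulated

attribute [local instance] HasDerivedCategory.standard

namespace Groth.Agent.Lib.helper23.DRingPC

open Groth.Agent.Lib.helper23.PCohCore Groth.Agent.Lib.helper23.PerfThick

section Noeth

variable (P : Type u) [CommRing P] [IsNoetherianRing P]

theorem npc_iff_of_noetherian (m : ℤ) (K : Dual.D P) :
    NPC (FF P) m K ↔ (∃ b : ℤ, ∀ i : ℤ, b < i → Subsingleton (Dual.HD P K i)) ∧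
      ∀ i : ℤ, m ≤ i → Module.Finite P (Dual.HD P K i) := by
  have hR := cohRing_of_noetherian P
  constructor
  · intro h
    obtain ⟨b, hb⟩ := exists_bound_of_npc h
    exact ⟨⟨b, hb⟩, fun i hi => ((npc_iff_of_cohRing hR i K b hb).1 (h.mono hi)).1⟩
  · rintro ⟨⟨b, hb⟩, h2⟩
    refine (npc_iff_of_cohRing hR m K b hb).2 ⟨h2 m le_rfl, fun i hi => ?_⟩
    haveI := h2 i hi.le
    exact Module.finitePresentation_of_finite P _

theorem forall_npc_single_iff_of_noetherian (M : ModuleCat.{u} P) :
    (∀ m : ℤ, NPC (FF P) m ((DerivedCategory.singleFunctor (ModuleCat.{u} P) 0).obj M)) ↔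
      Module.Finite P M := by
  have hR := cohRing_of_noetherian P
  constructor
  · intro h
    exact (npc_zero_single_iff_finite P M).1 (h 0)
  · intro h m
    haveI : Module.FinitePresentation P M := Module.finitePresentation_of_finite P M
    have hc := (isCoh_iff_finitePresentation hR M).2 inferInstance
    exact IsCoh.npc_single (FF P) (FF_sum P) (FF_hql P) (FF_hcoh hR)
      (1 - m).toNat m (by have := Int.self_le_toNat (1 - m); omega) _ hc

end Noeth

section RelNoeth

variable {R A : Type u} [CommRing R] [IsNoetherianRing R] [CommRing A] [Algebra R A]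

theorem isRelPseudoCoherent_iff_of_noetherian {n : ℕ} (α : MvPolynomial (Fin n) R →ₐ[R] A)
    (hα : Function.Surjective α) (m : ℤ) (K : Dual.D A) :
    DerCA.IsRelPseudoCoherent R A m K ↔
      (∃ b : ℤ, ∀ i : ℤ, b < i → Subsingleton (Dual.HD A K i)) ∧
        ∀ i : ℤ, m ≤ i → Module.Finite A (Dual.HD A K i) := by
  rw [isRelPseudoCoherent_iff_npc α hα, npc_iff_of_noetherian]
  refine and_congr (exists_congr fun b => forall_congr' fun i => imp_congr_right fun _ => ?_)
    (forall_congr' fun i => imp_congr_right fun _ => ?_)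
  · exact subsingleton_homology_restrict_iff _ K i
  · exact finite_homology_restrict_iff _ hα K i

theorem isRelPseudoCoherentModuleAll_iff_of_noetherian {n : ℕ}
    (α : MvPolynomial (Fin n) R →ₐ[R] A) (hα : Function.Surjective α) (M : ModuleCat.{u} A) :
    (∀ m : ℤ, DerCA.IsRelPseudoCoherent R A m
      ((DerivedCategory.singleFunctor (ModuleCat.{u} A) 0).obj M)) ↔ Module.Finite A M := by
  rw [← finite_restrict_iff (α : MvPolynomial (Fin n) R →+* A) hα,
    ← forall_npc_single_iff_of_noetherian]
  refine forall_congr' fun m => ?_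
  rw [isRelPseudoCoherent_iff_npc α hα]
  exact npc_restrict_single_iff _ M m

end RelNoeth

end Groth.Agent.Lib.helper23.DRingPC
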