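import Mathlib
import Groth.Agent.Lib.Helper23.NQuasiIso2

set_option autoImplicit false
universe v u
open CategoryTheory CategoryTheory.Limits HomologicalComplex CochainComplex

namespace Groth.Agent.Lib.helper23.NQuasiIso

section Complexes

variable {C : Type u} [Category.{v} C] [Abelian C]

/-- modification of an `(n+1)`-quasi-isomorphism in degree `n` into an `n`-quasi-isomorphism. -/
theorem exists_modification' (P : ObjectProperty C) [P.IsClosedUnderIsomorphisms]
    (hql : ∀ (E F : C) (u : E ⟶ F), Epi u → P F → ∃ (F' : C) (v : F' ⟶ E), P F' ∧ Epi (v ≫ u))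
    (n : ℤ) (E F : CochainComplex C ℤ) (u : E ⟶ F)
    (hiso : ∀ i : ℤ, n + 1 < i → IsIso (homologyMap u i))
    (hepi : Epi (homologyMap u (n + 1)))
    (hcone : ∃ (L₀ : C) (π₀ : L₀ ⟶ (mappingCone u).homology n), P L₀ ∧ Epi π₀) :
    ∃ (E' : CochainComplex C ℤ) (v : E ⟶ E') (u' : E' ⟶ F), v ≫ u' = u ∧
      (∀ i : ℤ, Mono (v.f i)) ∧
      (∀ i : ℤ, i ≠ n → IsIso (v.f i)) ∧ P (cokernel (v.f n)) ∧
      (∀ i : ℤ, n < i → IsIso (homologyMap u' i)) ∧ Epi (homologyMap u' n) ∧
      (∀ i : ℤ, ∃ r : E'.X i ⟶ E.X i, v.f i ≫ r = 𝟙 _) := by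
  let p : mappingCone (𝟙 E) ⊞ F ⟶ F := biprod.snd
  let j : E ⟶ mappingCone (𝟙 E) ⊞ F := biprod.lift (mappingCone.inr (𝟙 E)) u
  have hjp : j ≫ p = u := by simp [j, p]
  haveI hp : QuasiIso p := (homotopyEquivBiprodSnd E F).quasiIso_hom
  have hjf : ∀ i, Mono (j.f i) := fun i => mono_of_mono_fac
    (show j.f i ≫ (biprod.fst : mappingCone (𝟙 E) ⊞ F ⟶ _).f i ≫
      (mappingCone.snd (𝟙 E)).v i i (add_zero i) = 𝟙 _ by
        rw [← HomologicalComplex.comp_f_assoc]
        simp [j])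
  haveI : Mono j := HomologicalComplex.mono_of_mono_f j hjf
  let S₁ : ShortComplex (CochainComplex C ℤ) :=
    ShortComplex.mk j (cokernel.π j) (cokernel.condition j)
  haveI : Mono S₁.f := by dsimp [S₁]; infer_instance
  haveI : Epi S₁.g := by dsimp [S₁]; infer_instance
  have hS₁ : S₁.ShortExact :=
    { exact := ShortComplex.exact_of_g_is_cokernel _ (cokernelIsCokernel j) }
  have hj_eq : ∀ i, homologyMap j i ≫ homologyMap p i = homologyMap u i := fun i => by
    rw [← homologyMap_comp, hjp]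
  haveI hpi : ∀ i, IsIso (homologyMap p i) := fun i => by
    rw [← quasiIsoAt_iff_isIso_homologyMap]
    infer_instance
  have hj_eq' : ∀ i, homologyMap j i = homologyMap u i ≫ inv (homologyMap p i) := fun i => by
    rw [← hj_eq, Category.assoc, IsIso.hom_inv_id, Category.comp_id]
  have hj_epi : ∀ i, n + 1 ≤ i → Epi (homologyMap j i) := by
    intro i hi
    rw [hj_eq']
    rcases eq_or_lt_of_le hi with rfl | hi'
    · infer_instance
    · haveI := hiso i hi'
      infer_instance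
  have hj_mono : ∀ i, n + 1 < i → Mono (homologyMap j i) := by
    intro i hi
    rw [hj_eq']
    haveI := hiso i hi
    infer_instance
  have hM : ∀ i, n + 1 ≤ i → S₁.X₃.ExactAt i := fun i hi =>
    hS₁.exactAt_X₃ i (hj_epi i hi) (fun k hk => hj_mono k (by
      simp only [ComplexShape.up_Rel] at hk; omega))
  obtain ⟨eH⟩ : Nonempty (S₁.X₃.homology n ≅ (mappingCone u).homology n) := by
    have := nonempty_homology_iso_mappingCone hS₁ p n
    rwa [show S₁.f ≫ p = u from hjp] at this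
  obtain ⟨L₀, π₀, hL₀, hπ₀⟩ := hcone
  haveI := hπ₀
  obtain ⟨π₀', hπ₀'⟩ : ∃ π₀' : L₀ ⟶ S₁.X₃.homology n, π₀' = π₀ ≫ eH.inv := ⟨_, rfl⟩
  haveI : Epi π₀' := by rw [hπ₀']; infer_instance
  obtain ⟨L, w, hL, hw⟩ := hql _ _ (pullback.fst π₀' (S₁.X₃.homologyπ n)) inferInstance hL₀
  have hz : Epi ((w ≫ pullback.snd π₀' (S₁.X₃.homologyπ n)) ≫ S₁.X₃.homologyπ n) := by
    rw [Category.assoc, ← pullback.condition, ← Category.assoc]
    exact epi_comp _ _
  obtain ⟨ζ, hζ⟩ := exists_single_hom_epi S₁.X₃ n L _ hz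
  have hS₀ : ∀ i : ℤ, i ≠ n →
      IsZero (((HomologicalComplex.single C (ComplexShape.up ℤ) n).obj L).homology i) :=
    fun i hi => (HomologicalComplex.exactAt_single_obj _ _ _ _ hi).isZero_homology
  have hvc : (j ≫ biprod.inl) ≫ biprod.desc S₁.g (-ζ) = 0 := by
    rw [Category.assoc, biprod.inl_desc]
    exact cokernel.condition j
  let v : E ⟶ kernel (biprod.desc S₁.g (-ζ)) := kernel.lift _ (j ≫ biprod.inl) hvc
  have hvι : v ≫ kernel.ι (biprod.desc S₁.g (-ζ)) = S₁.f ≫ biprod.inl := kernel.lift_ι _ _ _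
  have hS₃ := shortExact_pullback_extension hS₁ ζ v hvι
  obtain ⟨h5, h6⟩ := homologyMap_kernel_fst S₁.g ζ n
    (fun i hi => (hM i (by omega)).isZero_homology) hζ hS₀
  refine ⟨kernel (biprod.desc S₁.g (-ζ)), v,
    (kernel.ι (biprod.desc S₁.g (-ζ)) ≫ biprod.fst) ≫ p, ?_, ?_, ?_, ?_, ?_, ?_, ?_⟩
  · rw [← Category.assoc, ← Category.assoc, hvι, Category.assoc S₁.f, biprod.inl_fst,
      Category.comp_id]
    exact hjp
  · intro i
    exact (hS₃.map_of_exact (HomologicalComplex.eval C (ComplexShape.up ℤ) i)).mono_f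
  · intro i hi
    have hS₃i := hS₃.map_of_exact (HomologicalComplex.eval C (ComplexShape.up ℤ) i)
    haveI : Mono (v.f i) := hS₃i.mono_f
    haveI : Epi (v.f i) := hS₃i.exact.epi_f
      ((HomologicalComplex.isZero_single_obj_X (ComplexShape.up ℤ) n L i hi).eq_of_tgt _ _)
    exact isIso_of_mono_of_epi _
  · have hS₃n := hS₃.map_of_exact (HomologicalComplex.eval C (ComplexShape.up ℤ) n)
    let e₁ : cokernel (v.f n) ≅
        ((HomologicalComplex.single C (ComplexShape.up ℤ) n).obj L).X n :=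
      IsColimit.coconePointUniqueUpToIso (colimit.isColimit _) hS₃n.gIsCokernel
    exact P.prop_of_iso
      (e₁ ≪≫ HomologicalComplex.singleObjXSelf (ComplexShape.up ℤ) n L).symm hL
  · intro i hi
    haveI := h5 i hi
    rw [homologyMap_comp]
    infer_instance
  · rw [homologyMap_comp]
    exact epi_comp _ _
  · intro i
    refine ⟨((kernel.ι (biprod.desc S₁.g (-ζ)) ≫ biprod.fst).f i) ≫
      (biprod.fst : mappingCone (𝟙 E) ⊞ F ⟶ _).f i ≫
        (mappingCone.snd (𝟙 E)).v i i (add_zero i), ?_⟩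
    have h1 : v ≫ kernel.ι (biprod.desc S₁.g (-ζ)) ≫ biprod.fst = j := by
      rw [← Category.assoc, hvι, Category.assoc, biprod.inl_fst, Category.comp_id]
    rw [← Category.assoc, ← HomologicalComplex.comp_f, h1, ← HomologicalComplex.comp_f_assoc]
    simp [j]

/-- an object with a split subobject in `P` whose cokernel is in `P` lies in `P`. -/
lemma prop_of_retraction_cokernel (P : ObjectProperty C) [P.IsClosedUnderIsomorphisms]
    (hsum : ∀ X Y : C, P X → P Y → P (X ⨯ Y)) {X Y : C} (f : X ⟶ Y) (r : Y ⟶ X)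
    (hr : f ≫ r = 𝟙 X) (hX : P X) (hc : P (cokernel f)) : P Y := by
  let S : ShortComplex C := ShortComplex.mk f (cokernel.π f) (cokernel.condition f)
  have hS : S.Exact := ShortComplex.exact_of_g_is_cokernel _ (cokernelIsCokernel f)
  have sp : S.Splitting := ShortComplex.Splitting.ofExactOfRetraction S hS r hr
    (by dsimp [S]; infer_instance)
  exact P.prop_of_iso (sp.isoBinaryBiproduct ≪≫ biprod.isoProd _ _).symm (hsum _ _ hX hc)

end Complexes

end Groth.Agent.Lib.helper23.NQuasiIso
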