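import Mathlib
import Groth.Prelude.Def_PCoh
import Groth.Agent.Lib.Helper23.PCohInf2
import Groth.Agent.Lib.Helper23.NQuasiIso3

set_option autoImplicit false
universe w v u
open CategoryTheory CategoryTheory.Limits HomologicalComplex CochainComplex
open CategoryTheory.Pretriangulated

namespace Groth.Agent.Lib.helper23.PCohCore

open Groth.Agent.Lib.helper23.NQuasiIso Groth.Agent.Lib.helper23.PCohAmp

variable {C : Type u} [Category.{v} C] [Abelian C] [HasDerivedCategory.{w} C]
  (P : ObjectProperty C) [P.IsClosedUnderIsomorphisms] [P.ContainsZero]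
  (hsum : ∀ X Y : C, P X → P Y → P (X ⨯ Y))
  (hqs : PCoh.IsQuasiStableUnderKernels P) (hql : PCoh.IsQuasiLiftable P)

include hsum hqs hql

/-- `H^m` of the cone of an `(m+1)`-quasi-isomorphism from an `(m+1)`-pseudo-coherent complex to an
`m`-pseudo-coherent one is of finite type. -/
lemma isOfFiniteType_homology_mappingCone (m : ℤ) {E F : CochainComplex C ℤ} (u : E ⟶ F)
    (h1 : NPC P (m + 1) (DerivedCategory.Q.obj E)) (h2 : NPC P m (DerivedCategory.Q.obj F))
    (hiso : ∀ j : ℤ, m + 1 < j → IsIso (homologyMap u j))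
    (hepi : Epi (homologyMap u (m + 1))) :
    PCoh.IsOfFiniteType P ((mappingCone u).homology m) := by
  have hT := DerivedCategory.mappingCone_triangle_distinguished u
  have h3 : NPC P m (DerivedCategory.Q.obj (mappingCone u)) :=
    NPC.cone P hsum hqs hql m _ hT h1 h2
  have hac : ∀ i : ℤ, m < i → IsZero ((DerivedCategory.homologyFunctor C i).obj
      (DerivedCategory.Q.obj (mappingCone u))) := by
    intro i hi
    refine IsZero.of_iso ?_ ((DerivedCategory.homologyFunctorFactors C i).app _)
    refine isZero_homology_mappingCone u i ?_ ?_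
    · rcases eq_or_lt_of_le (show m + 1 ≤ i by omega) with h | h
      · subst h
        exact hepi
      · haveI := hiso i h
        infer_instance
    · haveI := hiso (i + 1) (by omega)
      infer_instance
  have hft := (npc_iff_isOfFiniteType P hsum hqs hql m _ hac).1 h3
  exact isOfFiniteType_of_iso P ((DerivedCategory.homologyFunctorFactors C m).app _) hft

/-- S12100. -/
theorem exists_strictPC_factorisation_aux (n : ℤ) (F : CochainComplex C ℤ)
    (hF : NPC P n (DerivedCategory.Q.obj F)) :
    ∀ (k : ℕ) (i : ℤ), i ≤ n + k → ∀ (E : CochainComplex C ℤ) (_ : PCoh.IsStrictPC P n E)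
      (u : E ⟶ F) (_ : ∀ j : ℤ, i < j → IsIso (homologyMap u j)) (_ : Epi (homologyMap u i)),
      ∃ (E' : CochainComplex C ℤ) (v : E ⟶ E') (u' : E' ⟶ F), v ≫ u' = u ∧
        PCoh.IsStrictPC P n E' ∧ QuasiIso u' ∧
        (∀ j : ℤ, Mono (v.f j)) ∧ (∀ j : ℤ, i ≤ j → IsIso (v.f j)) := by
  intro k
  induction k with
  | zero =>
    intro i hi E hE u hiso hepi
    obtain ⟨⟨b, hb⟩, hP⟩ := hE
    obtain ⟨E', v, u', hvu, hu', hmono, hviso⟩ := exists_factorization i E F u hiso hepi
    refine ⟨E', v, u', hvu, ⟨⟨max b n, fun j hj => ?_⟩, fun j hj => ?_⟩, hu', hmono, hviso⟩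
    · haveI := hviso j (by have := le_max_right b n; simp at hi; omega)
      exact (hb j (lt_of_le_of_lt (le_max_left _ _) hj)).of_iso (asIso (v.f j)).symm
    · haveI := hviso j (by simp at hi; omega)
      exact P.prop_of_iso (asIso (v.f j)) (hP j hj)
  | succ k ih =>
    intro i hi E hE u hiso hepi
    by_cases hi' : i ≤ n + k
    · exact ih i hi' E hE u hiso hepi
    obtain ⟨m, hm⟩ : ∃ m : ℤ, m = i - 1 := ⟨_, rfl⟩
    have hnm : n ≤ m := by push_cast at hi; omega
    obtain ⟨⟨b, hb⟩, hP⟩ := hE
    have hE1 : NPC P (m + 1) (DerivedCategory.Q.obj E) :=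
      ⟨E, ⟨⟨b, hb⟩, fun j hj => hP j (by omega)⟩, ⟨Iso.refl _⟩⟩
    have hcone := isOfFiniteType_homology_mappingCone P hsum hqs hql m u hE1 (hF.mono hnm)
      (fun j hj => hiso j (by omega)) (by
        have := hepi
        rwa [show i = m + 1 by omega] at this)
    obtain ⟨E₁, v₁, u₁, hvu₁, hmono₁, hiso₁, hcok, h5, h6, hr⟩ :=
      exists_modification' P hql m E F u (fun j hj => hiso j (by omega)) (by
        have := hepi
        rwa [show i = m + 1 by omega] at this) hcone
    have hE₁ : PCoh.IsStrictPC P n E₁ := by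
      refine ⟨⟨max b m, fun j hj => ?_⟩, fun j hj => ?_⟩
      · haveI := hiso₁ j (by have := le_max_right b m; omega)
        exact (hb j (lt_of_le_of_lt (le_max_left _ _) hj)).of_iso (asIso (v₁.f j)).symm
      · by_cases hjm : j = m
        · subst hjm
          obtain ⟨r, hr'⟩ := hr j
          exact prop_of_retraction_cokernel P hsum (v₁.f j) r hr' (hP j hj) hcok
        · haveI := hiso₁ j hjm
          exact P.prop_of_iso (asIso (v₁.f j)) (hP j hj)
    obtain ⟨E', v', u', hvu', hE', hu', hmono', hviso'⟩ :=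
      ih m (by push_cast at hi; omega) E₁ hE₁ u₁ h5 h6
    refine ⟨E', v₁ ≫ v', u', by rw [Category.assoc, hvu', hvu₁], hE', hu', fun j => ?_,
      fun j hj => ?_⟩
    · haveI := hmono₁ j
      haveI := hmono' j
      rw [HomologicalComplex.comp_f]
      infer_instance
    · haveI := hiso₁ j (by omega)
      haveI := hviso' j (by omega)
      rw [HomologicalComplex.comp_f]
      infer_instance

end Groth.Agent.Lib.helper23.PCohCore
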