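import Mathlib
import Groth.Prelude.Def_PCoh
import Groth.Agent.Lib.Helper23.PCohFact

set_option autoImplicit false
universe w v u
open CategoryTheory CategoryTheory.Limits HomologicalComplex CochainComplex
open CategoryTheory.Pretriangulated

namespace Groth.Agent.Lib.helper23.PCohCore

open Groth.Agent.Lib.helper23.NQuasiIso Groth.Agent.Lib.helper23.PCohAmp

section Sequences

variable {A B : Type*} [Category A] [Category B]

/-- all the maps of a sequence of monomorphisms (after applying `F'`) are monomorphisms. -/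
lemma mono_ofSequence_map {X : ℕ → A} (f : ∀ n, X n ⟶ X (n + 1)) (F' : A ⥤ B)
    (h : ∀ k, Mono (F'.map (f k))) (K : ℕ) :
    ∀ (j : ℕ) (φ : K ⟶ j), Mono ((Functor.ofSequence f ⋙ F').map φ) := by
  intro j φ
  have hle : K ≤ j := leOfHom φ
  obtain rfl : φ = homOfLE hle := Subsingleton.elim _ _
  induction j, hle using Nat.le_induction with
  | base =>
    have : homOfLE (le_refl K) = 𝟙 K := Subsingleton.elim _ _
    rw [this, CategoryTheory.Functor.map_id]
    infer_instance
  | succ j hj ih =>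
    have e : homOfLE (Nat.le_succ_of_le hj) = homOfLE hj ≫ homOfLE (Nat.le_add_right j 1) :=
      Subsingleton.elim _ _
    have h1 : (Functor.ofSequence f ⋙ F').map (homOfLE (Nat.le_succ_of_le hj)) =
        (Functor.ofSequence f ⋙ F').map (homOfLE hj) ≫ F'.map (f j) := by
      rw [e, CategoryTheory.Functor.map_comp, Functor.comp_map _ _ (homOfLE (Nat.le_add_right j 1)),
        Functor.ofSequence_map_homOfLE_succ]
      rfl
    change Mono ((Functor.ofSequence f ⋙ F').map (homOfLE (Nat.le_succ_of_le hj)))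
    rw [h1]
    exact mono_comp' ih (h j)

end Sequences

section Stages

variable {C : Type u} [Category.{v} C] [Abelian C]

/-- a stage of the construction: a strictly pseudo-coherent complex bounded by `bb` with an
`(n - k)`-quasi-isomorphism to `F`. -/
structure GStage (P : ObjectProperty C) (F : CochainComplex C ℤ) (n bb : ℤ) (k : ℕ) where
  /-- the complex -/
  G : CochainComplex C ℤ
  /-- the map -/
  w : G ⟶ F
  hP : ∀ i, P (G.X i)
  hb : ∀ i, bb < i → IsZero (G.X i)
  hiso : ∀ i, n - (k : ℤ) < i → IsIso (homologyMap w i)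
  hepi : Epi (homologyMap w (n - (k : ℤ)))

variable [HasDerivedCategory.{w} C]

theorem GStage.exists_next {P : ObjectProperty C} [P.IsClosedUnderIsomorphisms] [P.ContainsZero]
    (hsum : ∀ X Y : C, P X → P Y → P (X ⨯ Y))
    (hqs : PCoh.IsQuasiStableUnderKernels P) (hql : PCoh.IsQuasiLiftable P)
    {F : CochainComplex C ℤ} {n bb : ℤ} (hbb : n - 1 ≤ bb) {k : ℕ} (s : GStage P F n bb k)
    (hF : NPC P (n - k - 1) (DerivedCategory.Q.obj F)) :
    ∃ (s' : GStage P F n bb (k + 1)) (v : s.G ⟶ s'.G), v ≫ s'.w = s.w ∧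
      (∀ i : ℤ, i ≠ n - (k : ℤ) - 1 → IsIso (v.f i)) ∧ ∀ i : ℤ, Mono (v.f i) := by
  obtain ⟨m, hm⟩ : ∃ m : ℤ, m = n - (k : ℤ) - 1 := ⟨_, rfl⟩
  have hm1 : n - (k : ℤ) = m + 1 := by omega
  have hm2 : n - ((k + 1 : ℕ) : ℤ) = m := by push_cast; omega
  have hk0 : (0 : ℤ) ≤ k := Int.natCast_nonneg k
  have hiso : ∀ i : ℤ, m + 1 < i → IsIso (homologyMap s.w i) := fun i hi => s.hiso i (by omega)
  have hepi : Epi (homologyMap s.w (m + 1)) := by
    have := s.hepi
    rwa [hm1] at this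
  have h1 : NPC P (m + 1) (DerivedCategory.Q.obj s.G) :=
    ⟨s.G, ⟨⟨bb, s.hb⟩, fun i _ => s.hP i⟩, ⟨Iso.refl _⟩⟩
  have hcone := isOfFiniteType_homology_mappingCone P hsum hqs hql m s.w h1
    (by rw [hm]; exact hF) hiso hepi
  obtain ⟨G', v, w', hvw, hmono, hisov, hcok, h5, h6, hr⟩ :=
    exists_modification' P hql m s.G F s.w hiso hepi hcone
  refine ⟨{ G := G', w := w', hP := ?_, hb := ?_, hiso := ?_, hepi := ?_ }, v, hvw, ?_, hmono⟩
  · intro i
    by_cases him : i = m
    · subst him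
      obtain ⟨r, hr'⟩ := hr i
      exact prop_of_retraction_cokernel P hsum (v.f i) r hr' (s.hP i) hcok
    · haveI := hisov i him
      exact P.prop_of_iso (asIso (v.f i)) (s.hP i)
  · intro i hi
    haveI := hisov i (by omega)
    exact (s.hb i hi).of_iso (asIso (v.f i)).symm
  · intro i hi
    rw [hm2] at hi
    exact h5 i hi
  · rw [hm2]
    exact h6
  · intro i hi
    exact hisov i (by rw [hm]; exact hi)

end Stages

section Limit

variable {C : Type u} [Category.{v} C] [Abelian C] [HasDerivedCategory.{w} C]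
  {P : ObjectProperty C} [P.IsClosedUnderIsomorphisms] [P.ContainsZero]
  (hsum : ∀ X Y : C, P X → P Y → P (X ⨯ Y))
  (hqs : PCoh.IsQuasiStableUnderKernels P) (hql : PCoh.IsQuasiLiftable P)
  {F : CochainComplex C ℤ} {n bb : ℤ} (hbb : n - 1 ≤ bb)
  (hF : ∀ m : ℤ, NPC P m (DerivedCategory.Q.obj F))
  (s₀ : GStage P F n bb 0)

/-- the sequence of stages. -/
noncomputable def gstageSeq (k : ℕ) : GStage P F n bb k :=
  Nat.rec s₀ (fun _ s => (s.exists_next hsum hqs hql hbb (hF _)).choose) k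

/-- the transition maps. -/
noncomputable def gstageTrans (k : ℕ) :
    (gstageSeq hsum hqs hql hbb hF s₀ k).G ⟶ (gstageSeq hsum hqs hql hbb hF s₀ (k + 1)).G :=
  ((gstageSeq hsum hqs hql hbb hF s₀ k).exists_next hsum hqs hql hbb (hF _)).choose_spec.choose

lemma gstageTrans_w (k : ℕ) :
    gstageTrans hsum hqs hql hbb hF s₀ k ≫ (gstageSeq hsum hqs hql hbb hF s₀ (k + 1)).w =
      (gstageSeq hsum hqs hql hbb hF s₀ k).w :=
  ((gstageSeq hsum hqs hql hbb hF s₀ k).exists_next hsum hqs hql hbb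
    (hF _)).choose_spec.choose_spec.1

lemma gstageTrans_isIso (k : ℕ) (i : ℤ) (hi : i ≠ n - (k : ℤ) - 1) :
    IsIso ((gstageTrans hsum hqs hql hbb hF s₀ k).f i) :=
  ((gstageSeq hsum hqs hql hbb hF s₀ k).exists_next hsum hqs hql hbb
    (hF _)).choose_spec.choose_spec.2.1 i hi

lemma gstageTrans_mono (k : ℕ) (i : ℤ) :
    Mono ((gstageTrans hsum hqs hql hbb hF s₀ k).f i) :=
  ((gstageSeq hsum hqs hql hbb hF s₀ k).exists_next hsum hqs hql hbb
    (hF _)).choose_spec.choose_spec.2.2 i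

include hsum hqs hql hbb hF in
/-- the limit of the stages. -/
theorem exists_strictPCAll_factorisation :
    ∃ (E' : CochainComplex C ℤ) (v : s₀.G ⟶ E') (u' : E' ⟶ F), v ≫ u' = s₀.w ∧
      (∀ i, P (E'.X i)) ∧ (∀ i, bb < i → IsZero (E'.X i)) ∧ QuasiIso u' ∧
      (∀ j : ℤ, Mono (v.f j)) ∧ (∀ j : ℤ, n ≤ j → IsIso (v.f j)) := by
  let S := gstageSeq hsum hqs hql hbb hF s₀
  let tr := gstageTrans hsum hqs hql hbb hF s₀
  let 𝒢 : ℕ ⥤ CochainComplex C ℤ := Functor.ofSequence tr
  have hconst : ∀ (i : ℤ) (K : ℕ), n - (K : ℤ) - 1 < i →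
      (𝒢 ⋙ HomologicalComplex.eval C (ComplexShape.up ℤ) i).IsEventuallyConstantFrom K := by
    intro i K hK
    refine isEventuallyConstantFrom_ofSequence tr (HomologicalComplex.eval C _ i) K
      (fun k hk => ?_)
    have hk' : (K : ℤ) ≤ k := by exact_mod_cast hk
    exact gstageTrans_isIso hsum hqs hql hbb hF s₀ k i (by omega)
  haveI : ∀ i : ℤ, HasColimit (𝒢 ⋙ HomologicalComplex.eval C (ComplexShape.up ℤ) i) :=
    fun i => (hconst i (n - i).toNat (by omega)).hasColimit
  let cc := HomologicalComplex.coconeOfHasColimitEval 𝒢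
  have hcc : IsColimit cc := HomologicalComplex.isColimitCoconeOfHasColimitEval 𝒢
  let cE : Cocone 𝒢 :=
    { pt := F
      ι := NatTrans.ofSequence (fun k => (S k).w) (fun k => by
        rw [Functor.ofSequence_map_homOfLE_succ]
        dsimp
        rw [Category.comp_id]
        exact gstageTrans_w hsum hqs hql hbb hF s₀ k) }
  have hfac : ∀ k, cc.ι.app k ≫ hcc.desc cE = (S k).w := fun k => hcc.fac cE k
  have hθ : ∀ (i : ℤ) (K : ℕ), n - (K : ℤ) - 1 < i → IsIso ((cc.ι.app K).f i) := fun i K hK =>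
    isIso_ι_f_of_isColimit_of_isEventuallyConstantFrom 𝒢 hcc i K (hconst i K hK)
  obtain ⟨v, hv⟩ : ∃ v : s₀.G ⟶ cc.pt, v = cc.ι.app 0 := ⟨_, rfl⟩
  refine ⟨cc.pt, v, hcc.desc cE, ?_, ?_, ?_, ?_, ?_, ?_⟩
  · rw [hv]
    exact hfac 0
  · intro i
    haveI := hθ i (n - i).toNat (by omega)
    exact P.prop_of_iso (asIso ((cc.ι.app (n - i).toNat).f i)) ((S _).hP i)
  · intro i hi
    haveI := hθ i 0 (by simp; omega)
    exact ((S 0).hb i hi).of_iso (asIso ((cc.ι.app 0).f i)).symm
  · rw [quasiIso_iff]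
    intro i
    rw [quasiIsoAt_iff_isIso_homologyMap]
    obtain ⟨K, hK⟩ : ∃ K : ℕ, K = (n - i + 1).toNat := ⟨_, rfl⟩
    obtain ⟨θ, hθeq⟩ : ∃ θ : (S K).G ⟶ cc.pt, θ = cc.ι.app K := ⟨_, rfl⟩
    have hq : QuasiIsoAt θ i := by
      rw [hθeq]
      exact quasiIsoAt_ι_of_isColimit_of_isEventuallyConstantFrom 𝒢 hcc (i - 1) i (i + 1)
        (by simp) (by simp) K (hconst (i - 1) K (by omega)) (hconst i K (by omega))
        (hconst (i + 1) K (by omega))
    haveI : IsIso (homologyMap θ i) := by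
      rwa [quasiIsoAt_iff_isIso_homologyMap] at hq
    haveI : IsIso (homologyMap (S K).w i) := (S K).hiso i (by omega)
    have hfac' : θ ≫ hcc.desc cE = (S K).w := by
      rw [hθeq]
      exact hfac K
    have h : homologyMap θ i ≫ homologyMap (hcc.desc cE) i = homologyMap (S K).w i := by
      rw [← homologyMap_comp, hfac']
    exact IsIso.of_isIso_fac_left h
  · intro j
    obtain ⟨K, hK⟩ : ∃ K : ℕ, K = (n - j).toNat := ⟨_, rfl⟩
    have h1 : Mono ((𝒢 ⋙ HomologicalComplex.eval C (ComplexShape.up ℤ) j).map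
        (homOfLE (Nat.zero_le K))) :=
      mono_ofSequence_map tr (HomologicalComplex.eval C _ j)
        (fun k => gstageTrans_mono hsum hqs hql hbb hF s₀ k j) 0 K _
    have h2 : IsIso ((cc.ι.app K).f j) := hθ j K (by omega)
    have h3 : (cc.ι.app 0).f j =
        (𝒢 ⋙ HomologicalComplex.eval C (ComplexShape.up ℤ) j).map (homOfLE (Nat.zero_le K)) ≫
          (cc.ι.app K).f j := by
      have := cc.w (homOfLE (Nat.zero_le K))
      rw [← this]
      rfl
    rw [hv, h3]
    exact mono_comp' h1 h2.mono_of_iso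
  · intro j hj
    rw [hv]
    exact hθ j 0 (by simp; omega)

end Limit

end Groth.Agent.Lib.helper23.PCohCore
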