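import Mathlib

set_option autoImplicit false
universe v₁ v₂ v₃ u₁ u₂ u₃
open CategoryTheory

namespace Groth.Agent.Lib.helper23.LDer

variable {C : Type u₁} {D : Type u₂} {H : Type u₃} [Category.{v₁} C] [Category.{v₂} D]
  [Category.{v₃} H] {L : C ⥤ D} {F : C ⥤ H} (LF : D ⥤ H) (α : L ⋙ LF ⟶ F)
  [LF.IsRightKanExtension α]
  (T : D ⥤ D) (ι : T ⟶ 𝟭 D) (R : D ⥤ C) (e : R ⋙ L ≅ T)
  (hR : ∀ (Z : D) (X : C), Function.Bijective (fun f : R.obj Z ⟶ X => L.map f))

include hR in
/-- a morphism between "K-projective" objects inducing an isomorphism is an isomorphism. -/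
lemma isIso_of_isIso_map {Z Z' : D} (r : R.obj Z ⟶ R.obj Z') (h : IsIso (L.map r)) : IsIso r := by
  obtain ⟨s, hs⟩ := (hR Z' (R.obj Z)).2 (inv (L.map r))
  simp only at hs
  refine ⟨s, (hR Z (R.obj Z)).1 ?_, (hR Z' (R.obj Z')).1 ?_⟩
  · show L.map (r ≫ s) = L.map (𝟙 _)
    rw [CategoryTheory.Functor.map_comp, hs, IsIso.hom_inv_id, CategoryTheory.Functor.map_id]
  · show L.map (s ≫ r) = L.map (𝟙 _)
    rw [CategoryTheory.Functor.map_comp, hs, IsIso.inv_hom_id, CategoryTheory.Functor.map_id]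

/-- the canonical map `R (L X) ⟶ X`. -/
noncomputable def rr (X : C) : R.obj (L.obj X) ⟶ X :=
  ((hR (L.obj X) X).2 (e.hom.app (L.obj X) ≫ ι.app (L.obj X))).choose

lemma map_rr (X : C) :
    L.map (rr T ι R e hR X) = e.hom.app (L.obj X) ≫ ι.app (L.obj X) :=
  ((hR (L.obj X) X).2 (e.hom.app (L.obj X) ≫ ι.app (L.obj X))).choose_spec

lemma rr_naturality {X X' : C} (f : X ⟶ X') :
    R.map (L.map f) ≫ rr T ι R e hR X' = rr T ι R e hR X ≫ f := by
  apply (hR (L.obj X) X').1
  simp only [CategoryTheory.Functor.map_comp, map_rr]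
  have h1 := e.hom.naturality (L.map f)
  have h2 := ι.naturality (L.map f)
  simp only [Functor.comp_obj, Functor.comp_map, Functor.id_obj, Functor.id_map] at h1 h2
  rw [reassoc_of% h1, h2, Category.assoc]

/-- the natural transformation `β`. -/
noncomputable def ββ : L ⋙ R ⋙ F ⟶ F where
  app X := F.map (rr T ι R e hR X)
  naturality X X' f := by
    simp only [Functor.comp_obj, Functor.comp_map, ← F.map_comp, rr_naturality]

/-- the comparison `γ`. -/
noncomputable def γγ : R ⋙ F ⟶ LF :=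
  LF.liftOfIsRightKanExtension α (R ⋙ F) (ββ T ι R e hR)

lemma γγ_fac (X : C) :
    (γγ LF α T ι R e hR).app (L.obj X) ≫ α.app X = F.map (rr T ι R e hR X) :=
  LF.liftOfIsRightKanExtension_fac_app α (R ⋙ F) (ββ T ι R e hR) X

/-- the map `δ`. -/
noncomputable def δδ : T ⋙ LF ⟶ R ⋙ F where
  app Z := LF.map (e.inv.app Z) ≫ α.app (R.obj Z)
  naturality Z Z' z := by
    have h1 := e.inv.naturality z
    have h2 := α.naturality (R.map z)
    simp only [Functor.comp_obj, Functor.comp_map] at h1 h2 ⊢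
    rw [Category.assoc, ← h2, ← Category.assoc, ← Category.assoc, ← LF.map_comp, ← LF.map_comp, h1]

lemma δδ_γγ : δδ LF α T R e ≫ γγ LF α T ι R e hR = Functor.whiskerRight ι LF ≫
    (Functor.leftUnitor LF).hom := by
  apply LF.hom_ext_of_isRightKanExtension α
  ext X
  simp only [Functor.comp_obj, NatTrans.comp_app, Functor.whiskerLeft_app, Category.assoc,
    Functor.whiskerRight_app, Functor.leftUnitor_hom_app, Functor.id_obj]
  rw [γγ_fac]
  simp only [δδ, Functor.comp_obj]
  have h2 := α.naturality (rr T ι R e hR X)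
  simp only [Functor.comp_obj, Functor.comp_map] at h2
  rw [Category.assoc, ← h2, ← Category.assoc, ← LF.map_comp, map_rr, Iso.inv_hom_id_app_assoc]
  simp

include e hR in
/-- the abstract gate lemma: the counit is an isomorphism on resolutions of `T`-local objects. -/
theorem isIso_app_of_isIso (Y : D) (hY : IsIso (ι.app Y)) : IsIso (α.app (R.obj Y)) := by
  let X₀ := R.obj Y
  let Y₀ := L.obj X₀
  let j : Y₀ ≅ Y := e.app Y ≪≫ asIso (ι.app Y)
  have hY₀ : IsIso (ι.app Y₀) := by
    have h := ι.naturality j.hom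
    simp only [Functor.id_obj, Functor.id_map] at h
    have : ι.app Y₀ = T.map j.hom ≫ ι.app Y ≫ j.inv := by
      rw [← Category.assoc, h, Category.assoc, Iso.hom_inv_id, Category.comp_id]
    rw [this]
    infer_instance
  have hr : IsIso (rr T ι R e hR X₀) := by
    apply isIso_of_isIso_map R hR
    rw [map_rr]
    infer_instance
  have h1 := γγ_fac LF α T ι R e hR X₀
  have h2 := NatTrans.congr_app (δδ_γγ LF α T ι R e hR) Y₀
  simp only [NatTrans.comp_app, Functor.whiskerRight_app, Functor.leftUnitor_hom_app,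
    Functor.comp_obj, Functor.id_obj, Category.comp_id] at h2
  haveI : IsIso (LF.map (ι.app Y₀)) := inferInstance
  haveI : IsIso (F.map (rr T ι R e hR X₀)) := inferInstance
  have hγ : IsIso ((γγ LF α T ι R e hR).app Y₀) := by
    refine ⟨α.app X₀ ≫ inv (F.map (rr T ι R e hR X₀)), ?_, ?_⟩
    · rw [← Category.assoc, h1, IsIso.hom_inv_id]
    · have hsplit : (inv (LF.map (ι.app Y₀)) ≫ (δδ LF α T R e).app Y₀) ≫
          (γγ LF α T ι R e hR).app Y₀ = 𝟙 _ := by
        rw [Category.assoc, h2, IsIso.inv_hom_id]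
      have hmono : (γγ LF α T ι R e hR).app Y₀ ≫ (α.app X₀ ≫ inv (F.map (rr T ι R e hR X₀))) =
          𝟙 _ := by
        rw [← Category.assoc, h1, IsIso.hom_inv_id]
      calc (α.app X₀ ≫ inv (F.map (rr T ι R e hR X₀))) ≫ (γγ LF α T ι R e hR).app Y₀
          = ((inv (LF.map (ι.app Y₀)) ≫ (δδ LF α T R e).app Y₀) ≫
              (γγ LF α T ι R e hR).app Y₀) ≫ (α.app X₀ ≫ inv (F.map (rr T ι R e hR X₀))) ≫
                (γγ LF α T ι R e hR).app Y₀ := by rw [hsplit, Category.id_comp]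
        _ = (inv (LF.map (ι.app Y₀)) ≫ (δδ LF α T R e).app Y₀) ≫
              ((γγ LF α T ι R e hR).app Y₀ ≫ (α.app X₀ ≫ inv (F.map (rr T ι R e hR X₀)))) ≫
                (γγ LF α T ι R e hR).app Y₀ := by simp only [Category.assoc]
        _ = 𝟙 _ := by rw [hmono, Category.id_comp, hsplit]
  have : α.app X₀ = inv ((γγ LF α T ι R e hR).app Y₀) ≫ F.map (rr T ι R e hR X₀) := by
    rw [← h1, IsIso.inv_hom_id_assoc]
  rw [show α.app (R.obj Y) = α.app X₀ from rfl, this]
  infer_instance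

end Groth.Agent.Lib.helper23.LDer
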