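import Mathlib
import Groth.Agent.Lib.Helper23.LDer1
import Groth.Agent.Lib.Helper23.PCohCoh
import Groth.Agent.Lib.Helper23.PCohInf2

set_option autoImplicit false
universe w v u
open CategoryTheory CategoryTheory.Limits ZeroObject

namespace Groth.Agent.Lib.helper23.LDer

open Groth.Agent.Lib.helper23.PCohCore

section Resolution

variable {C : Type u} [Category.{v} C] [Abelian C] [HasDerivedCategory.{w} C] [EnoughProjectives C]

/-- projective objects. -/
def PJ : ObjectProperty C := fun M => Projective M

instance : (PJ (C := C)).IsClosedUnderIsomorphisms where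
  of_iso e h := Projective.of_iso e h

instance : (PJ (C := C)).ContainsZero where
  exists_zero := ⟨0, isZero_zero C, (inferInstance : Projective (0 : C))⟩

lemma PJ_sum (X Y : C) (hX : PJ X) (hY : PJ Y) : PJ (X ⨯ Y) := by
  haveI : Projective X := hX
  haveI : Projective Y := hY
  exact Projective.of_iso (biprod.isoProd X Y) (inferInstance : Projective (X ⊞ Y))

lemma PJ_hql : PCoh.IsQuasiLiftable (PJ (C := C)) := by
  intro E F u hu hF
  haveI : Projective F := hF
  haveI := hu
  exact ⟨F, Projective.factorThru (𝟙 F) u, hF, by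
    rw [Projective.factorThru_comp]; infer_instance⟩

lemma PJ_ft (X : C) : PCoh.IsOfFiniteType (PJ (C := C)) X :=
  ⟨Projective.over X, Projective.π X, (inferInstance : Projective (Projective.over X)),
    inferInstance⟩

lemma PJ_hcoh (X E : C) (u : E ⟶ X) (_ : PJ X) (_ : PJ E) :
    PCoh.IsOfFiniteType (PJ (C := C)) (kernel u) := PJ_ft _

lemma PJ_isCoh (X : C) : IsCoh (PJ (C := C)) X := ⟨PJ_ft X, fun _ _ _ => PJ_ft _⟩

/-- bounded above objects of the derived category have projective resolutions. -/
theorem exists_projective_resolution (F : DerivedCategory C) (b : ℤ)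
    (hb : ∀ i : ℤ, b < i → IsZero ((DerivedCategory.homologyFunctor C i).obj F)) :
    ∃ E : CochainComplex C ℤ, (∀ i : ℤ, Projective (E.X i)) ∧ (∀ i : ℤ, b < i → IsZero (E.X i)) ∧
      Nonempty (DerivedCategory.Q.obj E ≅ F) := by
  have hF : ∀ m : ℤ, NPC (PJ (C := C)) m F := fun m =>
    (npc_iff_coherent_homology (PJ (C := C)) PJ_sum PJ_hql PJ_hcoh m F b hb).2
      ⟨PJ_ft _, fun i _ => PJ_isCoh _⟩
  exact exists_strictPCAll_iso (PJ (C := C)) PJ_sum (isQuasiStable_of_coh _ PJ_hcoh) PJ_hql F hF b hb

end Resolution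

section Gate

variable {C : Type u} [Category.{v} C] [Abelian C] [HasDerivedCategory.{w} C]

/-- objects of the homotopy category from which morphisms in the derived category lift uniquely. -/
def KP : ObjectProperty (HomotopyCategory C (ComplexShape.up ℤ)) :=
  fun X => ∀ Y, Function.Bijective (fun f : X ⟶ Y => DerivedCategory.Qh.map f)

lemma KP_of_isKProjective (E : CochainComplex C ℤ) [E.IsKProjective] :
    KP ((HomotopyCategory.quotient C (ComplexShape.up ℤ)).obj E) :=
  fun Y => CochainComplex.IsKProjective.Qh_map_bijective E Y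

/-- the fully faithful functor from K-projective objects to the derived category. -/
noncomputable abbrev Φ : (KP (C := C)).FullSubcategory ⥤ DerivedCategory C :=
  (KP (C := C)).ι ⋙ DerivedCategory.Qh

instance : (Φ (C := C)).Full where
  map_surjective {X Y} f := by
    obtain ⟨g, hg⟩ := (X.property Y.obj).2 f
    exact ⟨ObjectProperty.homMk g, hg⟩

instance : (Φ (C := C)).Faithful where
  map_injective {X Y} f g h := by
    apply ObjectProperty.hom_ext
    exact (X.property Y.obj).1 h

variable [EnoughProjectives C] (b : ℤ)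

lemma essImage_truncLE (Z : DerivedCategory C) :
    (Φ (C := C)).essImage ((DerivedCategory.TStructure.t.truncLE b).obj Z) := by
  obtain ⟨E, hE1, hE2, ⟨e⟩⟩ := exists_projective_resolution
    ((DerivedCategory.TStructure.t.truncLE b).obj Z) b
    (fun i hi => DerivedCategory.isZero_of_isLE _ b i hi)
  haveI : ∀ n, Projective (E.X n) := hE1
  haveI : E.IsStrictlyLE b := (CochainComplex.isStrictlyLE_iff _ _).2 hE2
  haveI : E.IsKProjective := CochainComplex.isKProjective_of_projective E b
  exact ⟨⟨_, KP_of_isKProjective E⟩, ⟨(DerivedCategory.quotientCompQhIso C).app E ≪≫ e⟩⟩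

/-- the resolution functor. -/
noncomputable def RR : DerivedCategory C ⥤ HomotopyCategory C (ComplexShape.up ℤ) :=
  Functor.essImage.liftFunctor (DerivedCategory.TStructure.t.truncLE b) (Φ (C := C))
    (essImage_truncLE b) ⋙ (KP (C := C)).ι

/-- the resolution resolves the truncation. -/
noncomputable def RRiso : RR (C := C) b ⋙ DerivedCategory.Qh ≅
    DerivedCategory.TStructure.t.truncLE b :=
  Functor.essImage.liftFunctorCompIso (DerivedCategory.TStructure.t.truncLE b) (Φ (C := C))
    (essImage_truncLE b)

lemma RR_bijective (Z : DerivedCategory C) (X : HomotopyCategory C (ComplexShape.up ℤ)) :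
    Function.Bijective (fun f : (RR (C := C) b).obj Z ⟶ X => DerivedCategory.Qh.map f) :=
  (Functor.essImage.liftFunctor (DerivedCategory.TStructure.t.truncLE b) (Φ (C := C))
    (essImage_truncLE b)).obj Z |>.property X

variable {H : Type*} [Category H]
  (F : HomotopyCategory C (ComplexShape.up ℤ) ⥤ H) (LF : DerivedCategory C ⥤ H)
  (α : DerivedCategory.Qh ⋙ LF ⟶ F) [LF.IsRightKanExtension α]

/-- the gate: a left derived functor is computed by bounded above complexes of projectives. -/
theorem isIso_counit_app (E : CochainComplex C ℤ) (hE : ∀ i, Projective (E.X i))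
    (hb : ∀ i : ℤ, b < i → IsZero (E.X i)) :
    IsIso (α.app ((HomotopyCategory.quotient C (ComplexShape.up ℤ)).obj E)) := by
  haveI : ∀ n, Projective (E.X n) := hE
  haveI : E.IsStrictlyLE b := (CochainComplex.isStrictlyLE_iff _ _).2 hb
  haveI : E.IsKProjective := CochainComplex.isKProjective_of_projective E b
  let E' := (HomotopyCategory.quotient C (ComplexShape.up ℤ)).obj E
  let Y := DerivedCategory.Qh.obj E'
  haveI : Y.IsLE b := by
    have : (DerivedCategory.Q.obj E).IsLE b := inferInstance
    exact DerivedCategory.TStructure.t.isLE_of_iso ((DerivedCategory.quotientCompQhIso C).app E).symm b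
  have hY : IsIso ((DerivedCategory.TStructure.t.truncLEι b).app Y) := inferInstance
  have h1 := isIso_app_of_isIso LF α (DerivedCategory.TStructure.t.truncLE b)
    (DerivedCategory.TStructure.t.truncLEι b) (RR b) (RRiso b) (RR_bijective b) Y hY
  -- `E'` and `RR Y` are isomorphic
  let j : DerivedCategory.Qh.obj ((RR (C := C) b).obj Y) ≅ Y :=
    (RRiso b).app Y ≪≫ asIso ((DerivedCategory.TStructure.t.truncLEι b).app Y)
  obtain ⟨r, hr⟩ := (RR_bijective b Y E').2 j.hom
  obtain ⟨s, hs⟩ := (KP_of_isKProjective E ((RR (C := C) b).obj Y)).2 j.inv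
  simp only at hr hs
  have hrs : r ≫ s = 𝟙 _ := (RR_bijective b Y _).1 (by
    show DerivedCategory.Qh.map (r ≫ s) = DerivedCategory.Qh.map (𝟙 _)
    rw [CategoryTheory.Functor.map_comp, hr, hs, Iso.hom_inv_id, CategoryTheory.Functor.map_id])
  have hsr : s ≫ r = 𝟙 _ := (KP_of_isKProjective E _).1 (by
    show DerivedCategory.Qh.map (s ≫ r) = DerivedCategory.Qh.map (𝟙 _)
    rw [CategoryTheory.Functor.map_comp, hr, hs, Iso.inv_hom_id, CategoryTheory.Functor.map_id])
  let k : (RR (C := C) b).obj Y ≅ E' := ⟨r, s, hrs, hsr⟩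
  have hnat := α.naturality k.hom
  have : α.app E' = (DerivedCategory.Qh ⋙ LF).map k.inv ≫ α.app ((RR (C := C) b).obj Y) ≫
      F.map k.hom := by
    rw [← hnat, ← Category.assoc, ← CategoryTheory.Functor.map_comp, Iso.inv_hom_id,
      CategoryTheory.Functor.map_id, Category.id_comp]
  rw [show α.app ((HomotopyCategory.quotient C (ComplexShape.up ℤ)).obj E) = α.app E' from rfl,
    this]
  haveI : IsIso (α.app ((RR (C := C) b).obj Y)) := h1
  haveI : IsIso ((DerivedCategory.Qh ⋙ LF).map k.inv) :=
    ((DerivedCategory.Qh ⋙ LF).mapIso k.symm).isIso_hom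
  haveI : IsIso (F.map k.hom) := (F.mapIso k).isIso_hom
  exact IsIso.comp_isIso

end Gate

end Groth.Agent.Lib.helper23.LDer
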