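import Mathlib
import Groth.Agent.Lib.Helper23.LDer2

set_option autoImplicit false
universe w w' v v' u u'
open CategoryTheory CategoryTheory.Limits

namespace Groth.Agent.Lib.helper23.LDer

section Additive

variable {C : Type u} [Category.{v} C] [Abelian C] [HasDerivedCategory.{w} C]
  [EnoughProjectives C]
  {C' : Type u'} [Category.{v'} C'] [Abelian C'] [HasDerivedCategory.{w'} C']
  (F₀ : C ⥤ C') [F₀.Additive]
  (LF : DerivedCategory C ⥤ DerivedCategory C')
  (α : DerivedCategory.Qh ⋙ LF ⟶
    F₀.mapHomotopyCategory (ComplexShape.up ℤ) ⋙ DerivedCategory.Qh)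
  [LF.IsRightKanExtension α]

include α in
/-- the left derived functor of a termwise functor is computed termwise on bounded above complexes
of projectives. -/
theorem nonempty_iso_of_projective (E : CochainComplex C ℤ) (b : ℤ)
    (hE : ∀ i, Projective (E.X i)) (hb : ∀ i : ℤ, b < i → IsZero (E.X i)) :
    Nonempty (LF.obj (DerivedCategory.Q.obj E) ≅
      DerivedCategory.Q.obj ((F₀.mapHomologicalComplex (ComplexShape.up ℤ)).obj E)) := by
  haveI := isIso_counit_app b _ LF α E hE hb
  exact ⟨LF.mapIso ((DerivedCategory.quotientCompQhIso C).app E).symm ≪≫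
    asIso (α.app ((HomotopyCategory.quotient C (ComplexShape.up ℤ)).obj E)) ≪≫
    DerivedCategory.Qh.mapIso ((F₀.mapHomotopyCategoryFactors (ComplexShape.up ℤ)).app E) ≪≫
    (DerivedCategory.quotientCompQhIso C').app _⟩

end Additive

end Groth.Agent.Lib.helper23.LDer
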