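import Mathlib
import Groth.Agent.Lib.Helper23.ProjHom

set_option autoImplicit false
universe w v u
open CategoryTheory CategoryTheory.Limits DerivedCategory Pretriangulated

namespace Groth.Agent.Lib.helper23.Conc

variable {C : Type u} [Category.{v} C] [Abelian C] [HasDerivedCategory.{w} C]

/-- an object with cohomology concentrated in one degree is a single -/
lemma exists_single_iso (X : DerivedCategory C) (n : ℤ)
    (h : ∀ i : ℤ, i ≠ n → IsZero ((homologyFunctor C i).obj X)) :
    ∃ Y : C, Nonempty (X ≅ (singleFunctor C n).obj Y) := by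
  haveI : X.IsGE n := (isGE_iff X n).2 (fun i hi => h i (ne_of_lt hi))
  haveI : X.IsLE n := (isLE_iff X n).2 (fun i hi => h i (ne_of_gt hi))
  exact exists_iso_singleFunctor_obj_of_isGE_of_isLE X n

lemma isZero_homology₃ (T : Triangle (DerivedCategory C)) (hT : T ∈ distTriang _) (n n1 : ℤ)
    (hn : n + 1 = n1) (h2 : IsZero ((homologyFunctor C n).obj T.obj₂))
    (h1 : IsZero ((homologyFunctor C n1).obj T.obj₁)) :
    IsZero ((homologyFunctor C n).obj T.obj₃) :=
  (HomologySequence.exact₃ T hT n n1 hn).isZero_of_both_zeros (h2.eq_of_src _ _) (h1.eq_of_tgt _ _)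

lemma isZero_homology₃_of_epi (T : Triangle (DerivedCategory C)) (hT : T ∈ distTriang _) (n n1 : ℤ)
    (hn : n + 1 = n1) (he : Epi ((homologyFunctor C n).map T.mor₁))
    (h1 : IsZero ((homologyFunctor C n1).obj T.obj₁)) :
    IsZero ((homologyFunctor C n).obj T.obj₃) :=
  (HomologySequence.exact₃ T hT n n1 hn).isZero_of_both_zeros
    ((HomologySequence.epi_homologyMap_mor₁_iff T hT n).1 he) (h1.eq_of_tgt _ _)

/-- a distinguished triangle with `mor₂ = 0` has a section of `mor₁` -/
lemma exists_section (T : Triangle (DerivedCategory C)) (hT : T ∈ distTriang _) (h : T.mor₂ = 0) :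
    ∃ s : T.obj₂ ⟶ T.obj₁, s ≫ T.mor₁ = 𝟙 _ := by
  obtain ⟨s, hs⟩ := Triangle.coyoneda_exact₂ T hT (𝟙 T.obj₂) (by rw [h, comp_zero])
  exact ⟨s, hs.symm⟩

end Groth.Agent.Lib.helper23.Conc
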