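import Mathlib
import Groth.Agent.Lib.Helper23.Conc

set_option autoImplicit false
universe u
open CategoryTheory CategoryTheory.Limits DerivedCategory Pretriangulated

attribute [local instance] HasDerivedCategory.standard

namespace Groth.Agent.Lib.helper23.DTwoTerm

variable {R : Type u} [CommRing R]

variable (R) in
noncomputable abbrev HH (i : ℤ) : DerivedCategory (ModuleCat.{u} R) ⥤ ModuleCat.{u} R :=
  DerivedCategory.homologyFunctor (ModuleCat.{u} R) i

variable (R) in
noncomputable abbrev SS : ModuleCat.{u} R ⥤ DerivedCategory (ModuleCat.{u} R) :=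
  DerivedCategory.singleFunctor (ModuleCat.{u} R) 0

theorem fwd (K : DerivedCategory (ModuleCat.{u} R))
    (hK : ∀ i : ℤ, i ≠ -1 → i ≠ 0 → Subsingleton ((HH R i).obj K))
    (h1 : Subsingleton ((HH R (-1)).obj K)) (h0 : Module.Projective R ((HH R 0).obj K))
    (M : ModuleCat.{u} R) : Subsingleton (K ⟶ ((SS R).obj M)⟦(1 : ℤ)⟧) := by
  obtain ⟨Y, ⟨e⟩⟩ := Conc.exists_single_iso K 0 (fun i hi => by
    rw [ModuleCat.isZero_iff_subsingleton]
    by_cases h : i = -1
    · subst h; exact h1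
    · exact hK i h hi)
  have eY : (HH R 0).obj K ≅ Y :=
    (HH R 0).mapIso e ≪≫ (singleFunctorCompHomologyFunctorIso (ModuleCat.{u} R) 0).app Y
  haveI : Projective Y := by
    have : Projective ((HH R 0).obj K) := (IsProjective.iff_projective (R := R) ((HH R 0).obj K)).1 h0
    exact Projective.of_iso eY this
  have hW : IsZero ((HH R 0).obj (((SS R).obj M)⟦(1 : ℤ)⟧)) := by
    have iso : (HH R 0).obj (((SS R).obj M)⟦(1 : ℤ)⟧) ≅ (HH R 1).obj ((SS R).obj M) :=
      ((HH R 0).shiftIso (1 : ℤ) (0 : ℤ) (1 : ℤ) (by simp)).app ((SS R).obj M)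
    exact (isZero_of_isLE ((SS R).obj M) 0 1 (by simp)).of_iso iso
  have hb := ProjHom.bijective_homologyFunctor_map (P := Y) (((SS R).obj M)⟦(1 : ℤ)⟧)
  refine ⟨fun a b => ?_⟩
  have : e.inv ≫ a = e.inv ≫ b := hb.1 (hW.eq_of_tgt _ _)
  exact (cancel_epi e.inv).1 this

theorem bwd (K : DerivedCategory (ModuleCat.{u} R))
    (hK : ∀ i : ℤ, i ≠ -1 → i ≠ 0 → Subsingleton ((HH R i).obj K))
    (h : ∀ M : ModuleCat.{u} R, Subsingleton (K ⟶ ((SS R).obj M)⟦(1 : ℤ)⟧)) :
    Subsingleton ((HH R (-1)).obj K) ∧ Module.Projective R ((HH R 0).obj K) := by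
  let N0 : ModuleCat.{u} R := (HH R 0).obj K
  let P : ModuleCat.{u} R := ModuleCat.of R (N0 →₀ R)
  let π : P ⟶ N0 := ModuleCat.ofHom (Finsupp.linearCombination R id)
  have hπ : Epi π :=
    (ModuleCat.epi_iff_surjective _).2 (Finsupp.linearCombination_id_surjective R N0)
  haveI : Projective P := (IsProjective.iff_projective (R := R) (N0 →₀ R)).1 inferInstance
  let a : (HH R 0).obj ((SS R).obj P) ≅ P :=
    (singleFunctorCompHomologyFunctorIso (ModuleCat.{u} R) 0).app P
  obtain ⟨φ, hφ⟩ := (ProjHom.bijective_homologyFunctor_map (P := P) K).2 (a.hom ≫ π)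
  have hφ' : (HH R 0).map φ = a.hom ≫ π := hφ
  obtain ⟨C', β, γ, hT⟩ := distinguished_cocone_triangle φ
  have hP : ∀ i : ℤ, i ≠ 0 → IsZero ((HH R i).obj ((SS R).obj P)) := by
    intro i hi
    rcases lt_or_gt_of_ne hi with h | h
    · exact isZero_of_isGE ((SS R).obj P) 0 i h
    · exact isZero_of_isLE ((SS R).obj P) 0 i h
  have hC : ∀ i : ℤ, i ≠ -1 → IsZero ((HH R i).obj C') := by
    intro i hi
    by_cases h0 : i = 0
    · subst h0
      refine Conc.isZero_homology₃_of_epi _ hT 0 1 rfl ?_ (hP 1 (by decide))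
      show Epi ((HH R 0).map φ)
      rw [hφ']
      infer_instance
    · refine Conc.isZero_homology₃ _ hT i (i + 1) rfl ?_ (hP (i + 1) (by omega))
      rw [ModuleCat.isZero_iff_subsingleton]
      exact hK i hi h0
  obtain ⟨N, ⟨eC⟩⟩ := Conc.exists_single_iso C' (-1) hC
  let sh : ((SS R).obj N)⟦(1 : ℤ)⟧ ≅
      (DerivedCategory.singleFunctor (ModuleCat.{u} R) (-1)).obj N :=
    ((DerivedCategory.singleFunctors (ModuleCat.{u} R)).shiftIso 1 (-1) 0 (by simp)).app N
  have hβ : β = 0 := by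
    have h1 : β ≫ eC.hom ≫ sh.inv = 0 := (h N).elim _ _
    have h2 : (β ≫ eC.hom ≫ sh.inv) ≫ sh.hom ≫ eC.inv = β := by simp
    rw [← h2, h1, zero_comp]
  obtain ⟨s, hs'⟩ : ∃ s : K ⟶ (SS R).obj P, s ≫ φ = 𝟙 K := Conc.exists_section _ hT hβ
  constructor
  · rw [← ModuleCat.isZero_iff_subsingleton, IsZero.iff_id_eq_zero, ← CategoryTheory.Functor.map_id,
      ← hs', CategoryTheory.Functor.map_comp]
    rw [(hP (-1) (by decide)).eq_of_tgt ((HH R (-1)).map s) 0, zero_comp]
  · have h3 : ((HH R 0).map s ≫ a.hom) ≫ π = 𝟙 N0 := by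
      rw [Category.assoc, ← hφ', ← CategoryTheory.Functor.map_comp, hs',
        CategoryTheory.Functor.map_id]
    have : Module.Projective R (N0 →₀ R) := inferInstance
    refine Module.Projective.of_split (M := (N0 →₀ R)) ((HH R 0).map s ≫ a.hom).hom π.hom ?_
    have := congrArg ModuleCat.Hom.hom h3
    rw [ModuleCat.hom_comp] at this
    exact this

end Groth.Agent.Lib.helper23.DTwoTerm
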