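import Mathlib
import Groth.Agent.Lib.Helper23.DTwoTerm

set_option autoImplicit false
universe u
open CategoryTheory CategoryTheory.Limits DerivedCategory Pretriangulated
open CochainComplex

attribute [local instance] HasDerivedCategory.standard

namespace Groth.Agent.Lib.helper23.PerfCone

variable {R : Type u} [CommRing R]

/-- terms of a mapping cone -/
lemma nonempty_cone_X_equiv {E₁ E₂ : CochainComplex (ModuleCat.{u} R) ℤ} (f : E₁ ⟶ E₂) (i : ℤ) :
    Nonempty ((mappingCone f).X i ≃ₗ[R] (E₁.X (i + 1) × E₂.X i)) :=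
  ⟨(HomologicalComplex.homotopyCofiber.XIsoBiprod f i (i + 1) (by simp) ≪≫
    ModuleCat.biprodIsoProd _ _).toLinearEquiv⟩

/-- the third vertex of a distinguished triangle whose first two vertices are represented by complexes,
the first one K-projective, is represented by a mapping cone. -/
theorem exists_cone_rep (E₁ E₂ : CochainComplex (ModuleCat.{u} R) ℤ) [E₁.IsKProjective]
    (T : Triangle (DerivedCategory (ModuleCat.{u} R))) (hT : T ∈ distTriang _)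
    (e₁ : Q.obj E₁ ≅ T.obj₁) (e₂ : Q.obj E₂ ≅ T.obj₂) :
    ∃ f : E₁ ⟶ E₂, Nonempty (Q.obj (mappingCone f) ≅ T.obj₃) := by
  obtain ⟨φ, hφ⟩ := (CochainComplex.IsKProjective.Qh_map_bijective E₁
    ((HomotopyCategory.quotient _ _).obj E₂)).2 (e₁.hom ≫ T.mor₁ ≫ e₂.inv)
  obtain ⟨f, rfl⟩ := (HomotopyCategory.quotient _ _).map_surjective φ
  have hf : Q.map f = e₁.hom ≫ T.mor₁ ≫ e₂.inv := hφ
  refine ⟨f, ?_⟩
  have hT₂ := mappingCone_triangle_distinguished f
  have iso := isoTriangleOfIso₁₂ _ _ hT₂ hT e₁ e₂ (by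
    show Q.map f ≫ e₂.hom = e₁.hom ≫ T.mor₁
    rw [hf, Category.assoc, Category.assoc, Iso.inv_hom_id, Category.comp_id])
  exact ⟨Triangle.π₃.mapIso iso⟩

/-- `K` is represented by a complex with terms in `P`, bounded above (and below if `lo`). -/
def Rep (P : ModuleCat.{u} R → Prop) (lo : Prop) (K : DerivedCategory (ModuleCat.{u} R)) : Prop :=
  ∃ (E : CochainComplex (ModuleCat.{u} R) ℤ) (a b : ℤ),
    (∀ i : ℤ, (lo ∧ i < a) ∨ b < i → IsZero (E.X i)) ∧ (∀ i : ℤ, P (E.X i)) ∧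
      Nonempty (Q.obj E ≅ K)

variable {P : ModuleCat.{u} R → Prop} {lo : Prop}

lemma Rep.of_iso {K K' : DerivedCategory (ModuleCat.{u} R)} (e : K ≅ K') (h : Rep P lo K) :
    Rep P lo K' := by
  obtain ⟨E, a, b, h1, h2, ⟨e'⟩⟩ := h
  exact ⟨E, a, b, h1, h2, ⟨e' ≪≫ e⟩⟩

lemma Rep.shift {K : DerivedCategory (ModuleCat.{u} R)} (h : Rep P lo K) (n : ℤ) :
    Rep P lo (K⟦n⟧) := by
  obtain ⟨E, a, b, h1, h2, ⟨e'⟩⟩ := h
  refine ⟨E⟦n⟧, a - n, b - n, ?_, ?_, ⟨(Q.commShiftIso n).app E ≪≫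
    (CategoryTheory.shiftFunctor (DerivedCategory (ModuleCat.{u} R)) n).mapIso e'⟩⟩
  · intro i hi
    show IsZero (E.X (i + n))
    refine h1 (i + n) ?_
    rcases hi with ⟨hl, hi⟩ | hi
    · exact Or.inl ⟨hl, by omega⟩
    · exact Or.inr (by omega)
  · intro i
    exact h2 (i + n)

theorem Rep.cone (hproj : ∀ M, P M → Projective M)
    (hprod : ∀ (M N X : ModuleCat.{u} R), P M → P N → (X ≃ₗ[R] (M × N)) → P X)
    (T : Triangle (DerivedCategory (ModuleCat.{u} R))) (hT : T ∈ distTriang _)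
    (h1 : Rep P lo T.obj₁) (h2 : Rep P lo T.obj₂) : Rep P lo T.obj₃ := by
  obtain ⟨E₁, a₁, b₁, hz₁, hP₁, ⟨e₁⟩⟩ := h1
  obtain ⟨E₂, a₂, b₂, hz₂, hP₂, ⟨e₂⟩⟩ := h2
  haveI : E₁.IsStrictlyLE b₁ :=
    (CochainComplex.isStrictlyLE_iff _ _).2 (fun i hi => hz₁ i (Or.inr hi))
  haveI : ∀ n, Projective (E₁.X n) := fun n => hproj _ (hP₁ n)
  haveI : E₁.IsKProjective := CochainComplex.isKProjective_of_projective E₁ b₁
  obtain ⟨f, ⟨e₃⟩⟩ := exists_cone_rep E₁ E₂ T hT e₁ e₂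
  refine ⟨mappingCone f, min (a₁ - 1) a₂, max (b₁ - 1) b₂, ?_, ?_, ⟨e₃⟩⟩
  · intro i hi
    refine HomologicalComplex.homotopyCofiber.isZero_X f i ?_ ?_
    · refine hz₂ i ?_
      rcases hi with ⟨hl, hi⟩ | hi
      · exact Or.inl ⟨hl, lt_of_lt_of_le hi (min_le_right _ _)⟩
      · exact Or.inr (lt_of_le_of_lt (le_max_right _ _) hi)
    · intro j hj
      simp only [ComplexShape.up_Rel] at hj
      refine hz₁ j ?_
      rcases hi with ⟨hl, hi⟩ | hi
      · exact Or.inl ⟨hl, by have := min_le_left (a₁ - 1) a₂; omega⟩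
      · exact Or.inr (by have := le_max_left (b₁ - 1) b₂; omega)
  · intro i
    obtain ⟨e⟩ := nonempty_cone_X_equiv f i
    exact hprod _ _ _ (hP₁ (i + 1)) (hP₂ i) e

theorem Rep.two_of_three (hproj : ∀ M, P M → Projective M)
    (hprod : ∀ (M N X : ModuleCat.{u} R), P M → P N → (X ≃ₗ[R] (M × N)) → P X)
    (T : Triangle (DerivedCategory (ModuleCat.{u} R))) (hT : T ∈ distTriang _) :
    (Rep P lo T.obj₁ → Rep P lo T.obj₂ → Rep P lo T.obj₃) ∧
      (Rep P lo T.obj₁ → Rep P lo T.obj₃ → Rep P lo T.obj₂) ∧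
      (Rep P lo T.obj₂ → Rep P lo T.obj₃ → Rep P lo T.obj₁) := by
  refine ⟨Rep.cone hproj hprod T hT, ?_, ?_⟩
  · intro h1 h3
    exact Rep.cone hproj hprod T.invRotate (inv_rot_of_distTriang _ hT) (h3.shift (-1)) h1
  · intro h2 h3
    have h := Rep.cone hproj hprod T.rotate (rot_of_distTriang _ hT) h2 h3
    exact (h.shift (-1)).of_iso
      ((shiftFunctorCompIsoId (DerivedCategory (ModuleCat.{u} R)) (1 : ℤ) (-1) (by simp)).app T.obj₁)

end Groth.Agent.Lib.helper23.PerfCone
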