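import Mathlib
import Groth.Prelude.Def_DRing2
import Groth.Prelude.Def_DDual2
import Groth.Agent.Lib.Helper23.TA1

/-!
# helper23: Tor-amplitude library, part 2 (tensor-like functors preserve exactness of bounded above
flat complexes)
-/

set_option autoImplicit false
universe u
open CategoryTheory CategoryTheory.Limits TensorProduct MonoidalCategory

namespace Groth.Agent.Lib.helper23.TA

variable {A B : Type u} [CommRing A] [CommRing B]

/-- functors which, on underlying additive groups, are of the form `N ⊗ -`. -/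
def TensorLike (G : ModuleCat.{u} A ⥤ ModuleCat.{u} B) : Prop :=
  ∃ (N : Type u) (_ : AddCommGroup N) (_ : Module A N)
    (e : ∀ X : ModuleCat.{u} A, G.obj X ≃+ N ⊗[A] X),
    ∀ {X Y : ModuleCat.{u} A} (f : X ⟶ Y) (x : G.obj X),
      e Y ((G.map f).hom x) = (f.hom.lTensor N) (e X x)

/-- transport of exactness along additive equivalences. -/
lemma exact_of_addEquiv {M₁ M₂ M₃ M₁' M₂' M₃' : Type*} [AddCommGroup M₁] [AddCommGroup M₂]
    [AddCommGroup M₃] [AddCommGroup M₁'] [AddCommGroup M₂'] [AddCommGroup M₃']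
    (f : M₁ → M₂) (g : M₂ → M₃) (f' : M₁' → M₂') (g' : M₂' → M₃')
    (e₁ : M₁ ≃+ M₁') (e₂ : M₂ ≃+ M₂') (e₃ : M₃ ≃+ M₃')
    (h₁ : ∀ x, e₂ (f x) = f' (e₁ x)) (h₂ : ∀ x, e₃ (g x) = g' (e₂ x))
    (h : Function.Exact f' g') : Function.Exact f g := by
  intro y
  constructor
  · intro hy
    have h0 : g' (e₂ y) = 0 := by rw [← h₂, hy, map_zero]
    obtain ⟨x', hx'⟩ := (h _).1 h0
    refine ⟨e₁.symm x', e₂.injective ?_⟩
    rw [h₁, AddEquiv.apply_symm_apply, hx']
  · rintro ⟨x, rfl⟩
    apply e₃.injective
    rw [h₂, h₁, map_zero]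
    exact h.apply_apply_eq_zero _

lemma tensorLike_tensorLeft (N : ModuleCat.{u} A) : TensorLike (tensorLeft N) :=
  ⟨N, inferInstance, inferInstance, fun X => AddEquiv.refl _, fun f x => rfl⟩

lemma tensorLike_tensorRight (N : ModuleCat.{u} A) : TensorLike (tensorRight N) := by
  refine ⟨N, inferInstance, inferInstance, fun X => (TensorProduct.comm A X N).toAddEquiv, ?_⟩
  intro X Y f x
  induction x using TensorProduct.induction_on with
  | zero => simp
  | tmul a n => rfl
  | add a b ha hb =>
    rw [map_add, map_add, ha, hb, map_add, map_add]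

set_option backward.isDefEq.respectTransparency false in
lemma tensorLike_extendScalars (φ : A →+* B) :
    TensorLike (ModuleCat.extendScalars.{u, u, u} φ) := by
  refine ⟨((ModuleCat.restrictScalars.{u} φ).obj (ModuleCat.of B B)), inferInstance, inferInstance,
    fun X => AddEquiv.refl _, ?_⟩
  intro X Y f x
  induction x using TensorProduct.induction_on with
  | zero => simp
  | tmul a n => rfl
  | add a b ha hb =>
    rw [map_add, map_add, ha, hb, map_add, map_add]

section Exact

variable (G : ModuleCat.{u} A ⥤ ModuleCat.{u} B) [G.Additive]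

lemma exactAt_succ_iff (E : DRing.Cx A) (k : ℤ) :
    E.ExactAt (k + 1) ↔ Function.Exact (E.d k (k + 1)).hom (E.d (k + 1) (k + 1 + 1)).hom := by
  rw [HomologicalComplex.exactAt_iff' E k (k + 1) (k + 1 + 1) (by simp) (by simp)]
  exact ShortComplex.ShortExact.moduleCat_exact_iff_function_exact _

/-- tensor-like functors preserve exactness in high degrees of bounded above flat complexes. -/
theorem exactAt_map_of_flat (hG : TensorLike G) (E : DRing.Cx A) (c b : ℤ)
    (hc : DRing.VanishesAbove E c) (hfl : DRing.TermwiseFlat E)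
    (hex : ∀ i, b < i → E.ExactAt i) (i : ℤ) (hi : b < i) :
    ((G.mapHomologicalComplex (ComplexShape.up ℤ)).obj E).ExactAt i := by
  obtain ⟨N, _, _, e, he⟩ := hG
  obtain ⟨k, rfl⟩ : ∃ k, i = k + 1 := ⟨i - 1, by omega⟩
  rw [exactAt_succ_iff]
  have key := lTensor_exact_of_flat (fun j => E.X j) (fun j => (E.d j (j + 1)).hom) hfl c
    (fun j hj => ModuleCat.subsingleton_of_isZero (hc j hj)) b
    (fun j hj => (exactAt_succ_iff E j).1 (hex (j + 1) (by omega))) N k (by omega)
  exact exact_of_addEquiv _ _ _ _ (e _) (e _) (e _) (fun x => he _ x) (fun x => he _ x) key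

end Exact

end Groth.Agent.Lib.helper23.TA
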