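import Mathlib
import Groth.Prelude.Def_DRing2
import Groth.Prelude.Def_DDual2
import Groth.Agent.Lib.Helper23.TA2
import Groth.Agent.Lib.Helper23.PCohLib
import Groth.Agent.Lib.Helper23.PerfCone
import Groth.Agent.Lib.Helper23.LDer3

/-!
# helper23: Tor-amplitude library, part 3 (quasi-isomorphisms between bounded above flat complexes
are preserved by tensor-like functors; comparison of flat representatives; the gate for flat
complexes)
-/

set_option autoImplicit false
universe u
open CategoryTheory CategoryTheory.Limits TensorProduct MonoidalCategory ZeroObject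

attribute [local instance] HasDerivedCategory.standard

namespace Groth.Agent.Lib.helper23.TA

variable {A B : Type u} [CommRing A] [CommRing B]

/-- an acyclic complex is zero in the derived category. -/
lemma isZero_Q_of_exactAt (K : DRing.Cx A) (h : ∀ i, K.ExactAt i) :
    IsZero (DerivedCategory.Q.obj K) := by
  have h1 : QuasiIso (0 : K ⟶ 0) :=
    ⟨fun i => (quasiIsoAt_iff_exactAt' _ i
      (HomologicalComplex.ExactAt.of_isZero
        ((HomologicalComplex.eval _ _ i).map_isZero (Limits.isZero_zero _)))).2 (h i)⟩
  haveI : IsIso (DerivedCategory.Q.map (0 : K ⟶ 0)) :=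
    (DerivedCategory.isIso_Q_map_iff_quasiIso _ _).2 h1
  exact IsZero.of_iso (DerivedCategory.Q.map_isZero (Limits.isZero_zero _))
    (asIso (DerivedCategory.Q.map (0 : K ⟶ 0)))

/-- a morphism of complexes with acyclic cone is a quasi-isomorphism. -/
lemma isIso_Q_map_of_exactAt_mappingCone {K L : DRing.Cx A} (f : K ⟶ L)
    (h : ∀ i, (CochainComplex.mappingCone f).ExactAt i) : IsIso (DerivedCategory.Q.map f) :=
  (Pretriangulated.Triangle.isZero₃_iff_isIso₁ _
    (DerivedCategory.mappingCone_triangle_distinguished f)).1 (isZero_Q_of_exactAt _ h)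

lemma termwiseFlat_mappingCone {F F' : DRing.Cx A} (u : F ⟶ F') (h : DRing.TermwiseFlat F)
    (h' : DRing.TermwiseFlat F') : DRing.TermwiseFlat (CochainComplex.mappingCone u) := by
  intro i
  obtain ⟨e⟩ := PerfCone.nonempty_cone_X_equiv u i
  haveI := h (i + 1)
  haveI := h' i
  haveI := flat_prod (A := A) (F.X (i + 1)) (F'.X i)
  exact Module.Flat.of_linearEquiv e

lemma vanishesAbove_mappingCone {F F' : DRing.Cx A} (u : F ⟶ F') (c c' : ℤ)
    (h : DRing.VanishesAbove F c) (h' : DRing.VanishesAbove F' c') :
    DRing.VanishesAbove (CochainComplex.mappingCone u) (max c c') := by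
  intro i hi
  obtain ⟨e⟩ := PerfCone.nonempty_cone_X_equiv u i
  haveI : Subsingleton (F.X (i + 1)) :=
    ModuleCat.subsingleton_of_isZero (h (i + 1) (by have := le_max_left c c'; omega))
  haveI : Subsingleton (F'.X i) :=
    ModuleCat.subsingleton_of_isZero (h' i (by have := le_max_right c c'; omega))
  haveI : Subsingleton ((CochainComplex.mappingCone u).X i) := e.toEquiv.subsingleton
  exact ModuleCat.isZero_of_subsingleton _

section Q

variable (G : ModuleCat.{u} A ⥤ ModuleCat.{u} B) [G.Additive]

/-- tensor-like functors preserve quasi-isomorphisms between bounded above flat complexes. -/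
theorem isIso_Q_map_of_flat (hG : TensorLike G) {F F' : DRing.Cx A} (u : F ⟶ F')
    (hu : IsIso (DerivedCategory.Q.map u)) (c c' : ℤ)
    (hc : DRing.VanishesAbove F c) (hc' : DRing.VanishesAbove F' c')
    (hfl : DRing.TermwiseFlat F) (hfl' : DRing.TermwiseFlat F') :
    IsIso (DerivedCategory.Q.map ((G.mapHomologicalComplex (ComplexShape.up ℤ)).map u)) := by
  apply isIso_Q_map_of_exactAt_mappingCone
  intro i
  have h1 : ((G.mapHomologicalComplex (ComplexShape.up ℤ)).obj
      (CochainComplex.mappingCone u)).ExactAt i :=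
    exactAt_map_of_flat G hG _ (max c c') (i - 1) (vanishesAbove_mappingCone u c c' hc hc')
      (termwiseFlat_mappingCone u hfl hfl')
      (fun j _ => PCohLib.exactAt_mappingCone u hu j) i (by omega)
  rw [HomologicalComplex.exactAt_iff_isZero_homology] at h1 ⊢
  exact h1.of_iso ((HomologicalComplex.homologyFunctor _ _ i).mapIso
    (CochainComplex.mappingCone.mapHomologicalComplexIso u G).symm)

end Q

/-- morphisms in the derived category from a bounded above complex of projectives lift to
morphisms of complexes. -/
lemma exists_lift_of_projective (E : DRing.Cx A) (b : ℤ) (hE : ∀ i, Projective (E.X i))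
    (hb : ∀ i : ℤ, b < i → IsZero (E.X i)) (F : DRing.Cx A)
    (α : DerivedCategory.Q.obj E ⟶ DerivedCategory.Q.obj F) :
    ∃ u : E ⟶ F, DerivedCategory.Q.map u = α := by
  haveI : ∀ n, Projective (E.X n) := hE
  haveI : E.IsStrictlyLE b := (CochainComplex.isStrictlyLE_iff _ _).2 hb
  haveI : E.IsKProjective := CochainComplex.isKProjective_of_projective E b
  obtain ⟨ψ, hψ⟩ := (CochainComplex.IsKProjective.Qh_map_bijective E
    ((HomotopyCategory.quotient _ _).obj F)).2 α
  obtain ⟨u, rfl⟩ := (HomotopyCategory.quotient _ _).map_surjective ψ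
  exact ⟨u, hψ⟩

lemma flat_of_projective_obj (M : ModuleCat.{u} A) (h : Projective M) : Module.Flat A M := by
  haveI : Module.Projective A M := (IsProjective.iff_projective (R := A) M).2 h
  infer_instance

/-- bounded above (cohomologically) objects have bounded above projective resolutions mapping to
any chosen representative. -/
lemma exists_projective_resolution_map (F : DRing.Cx A) (b : ℤ)
    (hb : ∀ i : ℤ, b < i → F.ExactAt i) :
    ∃ (P : DRing.Cx A) (u : P ⟶ F), (∀ i, Projective (P.X i)) ∧ DRing.VanishesAbove P b ∧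
      IsIso (DerivedCategory.Q.map u) := by
  obtain ⟨P, hP, hPb, ⟨e⟩⟩ := LDer.exists_projective_resolution (DerivedCategory.Q.obj F) b
    (fun i hi => by
      have h1 := hb i hi
      rw [HomologicalComplex.exactAt_iff_isZero_homology] at h1
      exact h1.of_iso ((DerivedCategory.homologyFunctorFactors _ i).app F))
  obtain ⟨u, hu⟩ := exists_lift_of_projective P b hP hPb F e.hom
  refine ⟨P, u, hP, hPb, ?_⟩
  rw [hu]
  infer_instance

section CMP

variable (G : ModuleCat.{u} A ⥤ ModuleCat.{u} B) [G.Additive]

/-- two bounded above flat representatives of the same object have isomorphic images under a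
tensor-like functor. -/
theorem nonempty_iso_map_of_flat (hG : TensorLike G) (F F' : DRing.Cx A) (c c' : ℤ)
    (hc : DRing.VanishesAbove F c) (hc' : DRing.VanishesAbove F' c')
    (hfl : DRing.TermwiseFlat F) (hfl' : DRing.TermwiseFlat F')
    (e : DerivedCategory.Q.obj F ≅ DerivedCategory.Q.obj F') :
    Nonempty (DerivedCategory.Q.obj ((G.mapHomologicalComplex (ComplexShape.up ℤ)).obj F) ≅
      DerivedCategory.Q.obj ((G.mapHomologicalComplex (ComplexShape.up ℤ)).obj F')) := by
  obtain ⟨P, u, hP, hPb, hu⟩ := exists_projective_resolution_map F c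
    (fun i hi => HomologicalComplex.ExactAt.of_isZero (hc i hi))
  obtain ⟨v, hv⟩ := exists_lift_of_projective P c hP hPb F' (DerivedCategory.Q.map u ≫ e.hom)
  have hv' : IsIso (DerivedCategory.Q.map v) := by
    rw [hv]
    infer_instance
  have hPfl : DRing.TermwiseFlat P := fun i => flat_of_projective_obj _ (hP i)
  haveI := isIso_Q_map_of_flat G hG u hu c c hPb hc hPfl hfl
  haveI := isIso_Q_map_of_flat G hG v hv' c c' hPb hc' hPfl hfl'
  exact ⟨(asIso (DerivedCategory.Q.map ((G.mapHomologicalComplex (ComplexShape.up ℤ)).map u))).symm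
    ≪≫ asIso (DerivedCategory.Q.map ((G.mapHomologicalComplex (ComplexShape.up ℤ)).map v))⟩

variable (LF : Dual.D A ⥤ Dual.D B)
  (α : DerivedCategory.Qh ⋙ LF ⟶
    G.mapHomotopyCategory (ComplexShape.up ℤ) ⋙ DerivedCategory.Qh)
  [LF.IsRightKanExtension α]

include α in
/-- the gate for flat complexes: a left derived functor of a tensor-like functor is computed
termwise on bounded above complexes of flat modules. -/
theorem nonempty_iso_of_flat (hG : TensorLike G) (F : DRing.Cx A) (c : ℤ)
    (hc : DRing.VanishesAbove F c) (hfl : DRing.TermwiseFlat F) :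
    Nonempty (LF.obj (DerivedCategory.Q.obj F) ≅
      DerivedCategory.Q.obj ((G.mapHomologicalComplex (ComplexShape.up ℤ)).obj F)) := by
  obtain ⟨P, u, hP, hPb, hu⟩ := exists_projective_resolution_map F c
    (fun i hi => HomologicalComplex.ExactAt.of_isZero (hc i hi))
  have hPfl : DRing.TermwiseFlat P := fun i => flat_of_projective_obj _ (hP i)
  haveI := isIso_Q_map_of_flat G hG u hu c c hPb hc hPfl hfl
  obtain ⟨e⟩ := LDer.nonempty_iso_of_projective G LF α P c hP hPb
  haveI := hu
  exact ⟨(LF.mapIso (asIso (DerivedCategory.Q.map u))).symm ≪≫ e ≪≫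
    asIso (DerivedCategory.Q.map ((G.mapHomologicalComplex (ComplexShape.up ℤ)).map u))⟩

end CMP

end Groth.Agent.Lib.helper23.TA
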