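import Mathlib

/-!
Finite presentation of a module under change of rings along a surjection (helper23).
-/

set_option autoImplicit false
universe u v w

namespace Groth.Agent.Lib.helper23

section typeclass

variable {C : Type u} {B : Type v} {M : Type w} [CommRing C] [CommRing B] [Algebra C B]
  [AddCommGroup M] [Module B M] [Module C M] [IsScalarTower C B M]

/-- If `C → B` is surjective and the `B`-module `M` is finitely presented over `C`,
it is finitely presented over `B`. -/
lemma fp_of_surjective_of_fp (h : Function.Surjective (algebraMap C B))
    [Module.FinitePresentation C M] : Module.FinitePresentation B M := by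
  have hfin : Module.Finite B M := Module.Finite.of_restrictScalars_finite C B M
  obtain ⟨n, π', hπ'⟩ := Module.Finite.exists_fin' B M
  let Φ : (Fin n → C) →ₗ[C] (Fin n → B) := (Algebra.linearMap C B).compLeft (Fin n)
  have hΦ : Function.Surjective Φ := by
    intro b
    choose c hc using fun i => h (b i)
    exact ⟨c, funext fun i => by simp [Φ, hc]⟩
  let g : (Fin n → C) →ₗ[C] M := (π'.restrictScalars C) ∘ₗ Φ
  have hg : Function.Surjective g := hπ'.comp hΦ
  have hker : (LinearMap.ker g).FG := Module.FinitePresentation.fg_ker g hg
  have hmap : (LinearMap.ker g).map Φ = (LinearMap.ker π').restrictScalars C := by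
    have : LinearMap.ker g = ((LinearMap.ker π').restrictScalars C).comap Φ := by
      ext x; simp [g]
    rw [this, Submodule.map_comap_eq_of_surjective hΦ]
  refine Module.finitePresentation_of_surjective π' hπ' ?_
  apply Submodule.FG.of_restrictScalars C
  rw [← hmap]
  exact hker.map Φ

/-- If `C → B` is surjective with finitely generated kernel and `M` is finitely presented over `B`,
then it is finitely presented over `C`. -/
lemma fp_of_surjective_of_fg_ker (h : Function.Surjective (algebraMap C B))
    (hk : (RingHom.ker (algebraMap C B)).FG)
    [Module.FinitePresentation B M] : Module.FinitePresentation C M := by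
  have : Module.FinitePresentation C B := by
    refine Module.finitePresentation_of_surjective (Algebra.linearMap C B) h ?_
    have : LinearMap.ker (Algebra.linearMap C B) = RingHom.ker (algebraMap C B) := by
      ext x; simp [RingHom.mem_ker]
    rw [this]; exact hk
  exact Module.FinitePresentation.trans C M B

end typeclass

section compHom

variable {C : Type u} {B : Type v} {M : Type w} [CommRing C] [CommRing B]
  [AddCommGroup M] [Module B M]

/-- `compHom` version of `fp_of_surjective_of_fp`. -/
lemma fp_of_compHom (φ : C →+* B) (hφ : Function.Surjective φ)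
    (h : @Module.FinitePresentation C M _ _ (Module.compHom M φ)) :
    Module.FinitePresentation B M := by
  let _ : Algebra C B := φ.toAlgebra
  let _ : Module C M := Module.compHom M φ
  have : IsScalarTower C B M := ⟨fun c b m => by
    show (φ c * b) • m = φ c • (b • m)
    rw [mul_smul]⟩
  have : Module.FinitePresentation C M := h
  exact fp_of_surjective_of_fp (C := C) (B := B) hφ

/-- `compHom` version of `fp_of_surjective_of_fg_ker`. -/
lemma fp_compHom_of_fg_ker (φ : C →+* B) (hφ : Function.Surjective φ) (hk : (RingHom.ker φ).FG)
    [h : Module.FinitePresentation B M] :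
    @Module.FinitePresentation C M _ _ (Module.compHom M φ) := by
  let _ : Algebra C B := φ.toAlgebra
  let _ : Module C M := Module.compHom M φ
  have : IsScalarTower C B M := ⟨fun c b m => by
    show (φ c * b) • m = φ c • (b • m)
    rw [mul_smul]⟩
  exact fp_of_surjective_of_fg_ker (C := C) (B := B) hφ hk

/-- Finite presentation is transported along a surjection `ψ : T → P` with finitely generated
kernel: `M` is f.p. over `P` via `γ` iff it is f.p. over `T` via `γ ∘ ψ`. -/
lemma fp_compHom_comp_iff {T P : Type*} [CommRing T] [CommRing P] (γ : P →+* B) (ψ : T →+* P)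
    (hψ : Function.Surjective ψ) (hk : (RingHom.ker ψ).FG) :
    @Module.FinitePresentation T M _ _ (Module.compHom M (γ.comp ψ)) ↔
      @Module.FinitePresentation P M _ _ (Module.compHom M γ) := by
  let _ : Module P M := Module.compHom M γ
  constructor
  · intro h
    exact fp_of_compHom (M := M) ψ hψ h
  · intro h
    exact fp_compHom_of_fg_ker (M := M) ψ hψ hk

end compHom

open MvPolynomial in
/-- Independence of the presentation: `P` a finitely presented `R`-algebra surjecting onto `A` by `γ`,
`β : R[τ] → A` a surjection from a polynomial ring, and `θ : P → R[τ]` a lift of `γ` through `β`.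
Then an `A`-module `M` is f.p. over `P` iff it is f.p. over `R[τ]`. -/
theorem fp_iff_of_lift {R : Type*} {P : Type*} {A : Type*} [CommRing R] [CommRing P] [CommRing A]
    [Algebra R P] [Algebra R A] [Algebra.FinitePresentation R P]
    {τ : Type*} [Finite τ]
    (γ : P →ₐ[R] A) (hγ : Function.Surjective γ)
    (β : MvPolynomial τ R →ₐ[R] A)
    (θ : P →ₐ[R] MvPolynomial τ R) (hθ : β.comp θ = γ)
    (M : Type*) [AddCommGroup M] [Module A M] :
    @Module.FinitePresentation P M _ _ (Module.compHom M γ.toRingHom) ↔
      @Module.FinitePresentation (MvPolynomial τ R) M _ _ (Module.compHom M β.toRingHom) := by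
  classical
  -- lifts of `β (X j)` to `P`
  choose p hp using fun j : τ => hγ (β (X j))
  let ψP : MvPolynomial τ P →ₐ[P] P := aeval p
  let ψQ : MvPolynomial τ P →+* MvPolynomial τ R := eval₂Hom (θ : P →+* MvPolynomial τ R) X
  have hψP : Function.Surjective ψP := fun x => ⟨C x, by simp [ψP]⟩
  have hθC : (θ : P →+* MvPolynomial τ R).comp (algebraMap R P) = C := by
    ext r; simp
  have hψQ : Function.Surjective ψQ := by
    intro q
    refine ⟨map (algebraMap R P) q, ?_⟩
    show eval₂ (θ : P →+* MvPolynomial τ R) X (map (algebraMap R P) q) = q
    rw [eval₂_map, hθC]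
    exact eval₂_eta q
  -- compatibility
  have hcomp : (γ.toRingHom).comp ψP.toRingHom = (β.toRingHom).comp ψQ := by
    apply MvPolynomial.ringHom_ext
    · intro x
      have := congrArg (fun f : P →ₐ[R] A => f x) hθ
      simp only [AlgHom.comp_apply] at this
      simp [ψP, ψQ, this]
    · intro j
      simp [ψP, ψQ, hp j]
  -- kernels are finitely generated
  have hkP : (RingHom.ker ψP.toRingHom).FG :=
    Algebra.FinitePresentation.ker_fG_of_surjective (R := R) (ψP.restrictScalars R) hψP
  have hcommutes : ∀ r : R, ψQ (algebraMap R (MvPolynomial τ P) r) = algebraMap R (MvPolynomial τ R) r := by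
    intro r
    rw [IsScalarTower.algebraMap_apply R P (MvPolynomial τ P), MvPolynomial.algebraMap_eq]
    simp [ψQ]
  let ψQ' : MvPolynomial τ P →ₐ[R] MvPolynomial τ R := { ψQ with commutes' := hcommutes }
  have hkQ : (RingHom.ker ψQ).FG :=
    Algebra.FinitePresentation.ker_fG_of_surjective (R := R) ψQ' hψQ
  rw [← fp_compHom_comp_iff (M := M) γ.toRingHom ψP.toRingHom hψP hkP, hcomp,
    fp_compHom_comp_iff (M := M) β.toRingHom ψQ hψQ hkQ]

/-- Independence of the polynomial presentation (both presentations polynomial rings). -/
theorem fp_iff_of_mvPolynomial {R : Type*} {A : Type*} [CommRing R] [CommRing A] [Algebra R A]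
    {σ τ : Type*} [Finite σ] [Finite τ]
    (α : MvPolynomial σ R →ₐ[R] A)
    (β : MvPolynomial τ R →ₐ[R] A) (hβ : Function.Surjective β) (hα : Function.Surjective α)
    (M : Type*) [AddCommGroup M] [Module A M] :
    @Module.FinitePresentation (MvPolynomial σ R) M _ _ (Module.compHom M α.toRingHom) ↔
      @Module.FinitePresentation (MvPolynomial τ R) M _ _ (Module.compHom M β.toRingHom) := by
  choose q hq using fun i : σ => hβ (α (MvPolynomial.X i))
  refine fp_iff_of_lift α hα β (MvPolynomial.aeval q) ?_ M
  apply MvPolynomial.algHom_ext
  intro i
  simp [hq i]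

end Groth.Agent.Lib.helper23
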