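import Mathlib
import Groth.Prelude.Def_DRing2
import Groth.Agent.Lib.Helper23.DRingPC6

set_option autoImplicit false
universe u
open CategoryTheory CategoryTheory.Limits Pretriangulated

attribute [local instance] HasDerivedCategory.standard

namespace Groth.Agent.Lib.helper23.DRingPC

open Groth.Agent.Lib.helper23.PCohCore Groth.Agent.Lib.helper23.PerfThick

section Quot

variable {P₀ C' : Type u} [CommRing P₀] [CommRing C'] (π : P₀ →+* C')

/-- `π` as a `P₀`-linear map. -/
noncomputable def ringHomLin : P₀ →ₗ[P₀]
    ((ModuleCat.restrictScalars.{u} π).obj (ModuleCat.of C' C')) where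
  toFun := fun p => (π p : C')
  map_add' := fun p q => (map_add π p q : π (p + q) = (_ : C'))
  map_smul' := fun p q => by
    show (π (p * q) : C') = (π p * π q : C')
    exact map_mul π p q

/-- the quotient by a regular element is a pseudo-coherent module. -/
lemma pcMod_of_regular_quotient (f : P₀) (hf : IsRegular f) (hπ : Function.Surjective π)
    (hker : ∀ y : P₀, π y = 0 ↔ f ∣ y) :
    PCMod P₀ ((ModuleCat.restrictScalars.{u} π).obj (ModuleCat.of C' C')) := by
  have hex : Function.Exact (LinearMap.mulLeft P₀ f) (ringHomLin π) := by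
    intro y
    constructor
    · intro hy
      obtain ⟨c, hc⟩ := (hker y).1 hy
      exact ⟨c, hc.symm⟩
    · rintro ⟨c, rfl⟩
      exact (hker (f * c)).2 (dvd_mul_right f c)
  have hz : ModuleCat.ofHom (LinearMap.mulLeft P₀ f) ≫ ModuleCat.ofHom (ringHomLin π) = 0 := by
    apply ModuleCat.hom_ext
    apply LinearMap.ext
    intro x
    exact hex.apply_apply_eq_zero x
  have hS : (ShortComplex.mk _ _ hz).ShortExact :=
    ModuleCat.shortComplex_shortExact _ hex (fun _ _ h => hf.left h) hπ
  have hF : FF P₀ (ModuleCat.of P₀ P₀) :=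
    ⟨inferInstanceAs (Module.Finite P₀ P₀), inferInstanceAs (Module.Free P₀ P₀)⟩
  intro a
  exact (NPC.two_of_three (FF P₀) (FF_sum _) (FF_hqs _) (FF_hql _) a _
    hS.singleTriangle_distinguished).1 (NPC.single_of_prop _ hF 0 _) (NPC.single_of_prop _ hF 0 _)

end Quot

section FinFree

variable {P C' : Type u} [CommRing P] [CommRing C'] [Algebra P C']

/-- a finite free algebra is a pseudo-coherent module. -/
lemma pcMod_of_finite_free [Module.Finite P C'] [Module.Free P C'] :
    PCMod P ((ModuleCat.restrictScalars.{u} (algebraMap P C')).obj (ModuleCat.of C' C')) := by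
  have h1 : PCMod P (ModuleCat.of P C') := fun a =>
    NPC.single_of_prop (FF P) ⟨inferInstanceAs (Module.Finite P C'),
      inferInstanceAs (Module.Free P C')⟩ 0 a
  refine h1.of_iso (LinearEquiv.toModuleIso
    ({ toFun := fun x => x
       invFun := fun x => x
       map_add' := fun _ _ => rfl
       map_smul' := fun a x => (Algebra.smul_def a x)
       left_inv := fun _ => rfl
       right_inv := fun _ => rfl } :
      (ModuleCat.of P C') ≃ₗ[P]
        ((ModuleCat.restrictScalars.{u} (algebraMap P C')).obj (ModuleCat.of C' C'))))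

end FinFree

section Integral

variable {P A : Type u} [CommRing P] [CommRing A]

/-- adding one integral variable does not change pseudo-coherence. -/
theorem npc_restrict_polynomial_iff_of_monic (δ : Polynomial P →+* A) (f : Polynomial P)
    (hf : f.Monic) (hδ : δ f = 0) (K : DerivedCategory (ModuleCat.{u} A)) (m : ℤ) :
    NPC (FF (Polynomial P)) m ((ModuleCat.restrictScalars.{u} δ).mapDerivedCategory.obj K) ↔
      NPC (FF P) m ((ModuleCat.restrictScalars.{u}
        (δ.comp Polynomial.C)).mapDerivedCategory.obj K) := by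
  have h0 : f.eval₂ (δ.comp Polynomial.C) (δ Polynomial.X) = 0 := by
    rw [← hδ]
    conv_rhs => rw [← Polynomial.eval₂_C_X (p := f)]
    rw [Polynomial.hom_eval₂]
  let δ' : AdjoinRoot f →+* A := AdjoinRoot.lift (δ.comp Polynomial.C) (δ Polynomial.X) h0
  have h1 : δ = δ'.comp (AdjoinRoot.mk f) := by
    apply Polynomial.ringHom_ext
    · intro a
      simp [δ']
    · simp [δ']
  have h2 : δ.comp Polynomial.C = δ'.comp (algebraMap P (AdjoinRoot f)) := by
    apply RingHom.ext
    intro a
    simp [δ', AdjoinRoot.algebraMap_eq]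
  haveI := hf.finite_adjoinRoot
  haveI := hf.free_adjoinRoot
  rw [npc_restrict_comp_iff (AdjoinRoot.mk f)
      (pcMod_of_regular_quotient (AdjoinRoot.mk f) f hf.isRegular AdjoinRoot.mk_surjective
        (fun y => AdjoinRoot.mk_eq_zero)) δ' δ h1 K m,
    npc_restrict_comp_iff (algebraMap P (AdjoinRoot f)) pcMod_of_finite_free δ'
      (δ.comp Polynomial.C) h2 K m]

end Integral

end Groth.Agent.Lib.helper23.DRingPC

namespace Groth.Agent.Lib.helper23.DRingPC

open Groth.Agent.Lib.helper23.PCohCore Groth.Agent.Lib.helper23.PerfThick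

variable {P A : Type u} [CommRing P] [CommRing A]

lemma ringHom_apply_map_eq_eval₂ {S : Type u} [CommRing S] (δ : Polynomial S →+* A)
    (i : P →+* S) (f : Polynomial P) :
    δ (f.map i) = f.eval₂ ((δ.comp Polynomial.C).comp i) (δ Polynomial.X) := by
  rw [← Polynomial.eval₂_map]
  conv_lhs => rw [← Polynomial.eval₂_C_X (p := f.map i)]
  rw [Polynomial.hom_eval₂]

/-- adding finitely many integral variables does not change pseudo-coherence. -/
theorem npc_restrict_mvPolynomial_iff_of_integral :
    ∀ (k : ℕ) (γ : MvPolynomial (Fin k) P →+* A)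
      (_ : ∀ j : Fin k, ∃ f : Polynomial P, f.Monic ∧
        f.eval₂ (γ.comp MvPolynomial.C) (γ (MvPolynomial.X j)) = 0)
      (K : DerivedCategory (ModuleCat.{u} A)) (m : ℤ),
    NPC (FF (MvPolynomial (Fin k) P)) m
        ((ModuleCat.restrictScalars.{u} γ).mapDerivedCategory.obj K) ↔
      NPC (FF P) m ((ModuleCat.restrictScalars.{u}
        (γ.comp MvPolynomial.C)).mapDerivedCategory.obj K) := by
  intro k
  induction k with
  | zero =>
    intro γ _ K m
    refine (npc_restrict_ringEquiv_iff (MvPolynomial.isEmptyRingEquiv P (Fin 0)).symm γ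
      (γ.comp MvPolynomial.C) ?_ K m).symm
    rw [MvPolynomial.isEmptyRingEquiv_symm_toRingHom]
  | succ k ih =>
    intro γ hγ K m
    let e : MvPolynomial (Fin (k + 1)) P ≃+* Polynomial (MvPolynomial (Fin k) P) :=
      (MvPolynomial.finSuccEquiv P k).toRingEquiv
    let δ : Polynomial (MvPolynomial (Fin k) P) →+* A := γ.comp e.symm.toRingHom
    have h1 : γ = δ.comp e.toRingHom := by
      ext x <;> simp [δ]
    have hcomp : (δ.comp Polynomial.C).comp MvPolynomial.C = γ.comp MvPolynomial.C := by
      have := MvPolynomial.finSuccEquiv_comp_C_eq_C (R := P) k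
      apply RingHom.ext
      intro p
      have h2 := DFunLike.congr_fun this p
      simp only [RingHom.comp_apply] at h2
      show γ (e.symm (Polynomial.C (MvPolynomial.C p))) = γ (MvPolynomial.C p)
      exact congrArg γ h2
    have hX0 : δ Polynomial.X = γ (MvPolynomial.X 0) := by
      show γ (e.symm Polynomial.X) = γ (MvPolynomial.X 0)
      congr 1
      rw [RingEquiv.symm_apply_eq]
      exact (MvPolynomial.finSuccEquiv_X_zero (R := P) (n := k)).symm
    have hXs : ∀ j : Fin k, (δ.comp Polynomial.C) (MvPolynomial.X j) =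
        γ (MvPolynomial.X j.succ) := by
      intro j
      show γ (e.symm (Polynomial.C (MvPolynomial.X j))) = γ (MvPolynomial.X j.succ)
      congr 1
      rw [RingEquiv.symm_apply_eq]
      exact (MvPolynomial.finSuccEquiv_X_succ (R := P) (n := k) (j := j)).symm
    obtain ⟨f₀, hf₀, hf₀'⟩ := hγ 0
    have hg : δ (f₀.map MvPolynomial.C) = 0 := by
      rw [ringHom_apply_map_eq_eval₂, hcomp, hX0]
      exact hf₀'
    rw [npc_restrict_ringEquiv_iff e δ γ h1 K m,
      npc_restrict_polynomial_iff_of_monic δ (f₀.map MvPolynomial.C) (hf₀.map _) hg K m,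
      ih (δ.comp Polynomial.C) (fun j => by
        obtain ⟨f, hf, hf'⟩ := hγ j.succ
        refine ⟨f, hf, ?_⟩
        rw [hcomp, hXs]
        exact hf') K m, hcomp]

end Groth.Agent.Lib.helper23.DRingPC
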