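import Mathlib
import Groth.Prelude.Def_DRing2
import Groth.Prelude.Def_DerCA
import Groth.Agent.Lib.Helper23.DRingPC10
import Groth.Agent.Lib.Helper23.DRingPC8

set_option autoImplicit false
universe u
open CategoryTheory CategoryTheory.Limits Pretriangulated

attribute [local instance] HasDerivedCategory.standard

namespace Groth.Agent.Lib.helper23.DRingPC

open Groth.Agent.Lib.helper23.PCohCore Groth.Agent.Lib.helper23.PerfThick

variable {R A B : Type u} [CommRing R] [CommRing A] [CommRing B]
  [Algebra R A] [Algebra A B] [Algebra R B] [IsScalarTower R A B]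

/-- S6984 (one degree). -/
theorem isRelPseudoCoherent_restrict_of_finite [Algebra.FiniteType R A] [Module.Finite A B]
    (K : Dual.D B) (m : ℤ) :
    DerCA.IsRelPseudoCoherent R B m K ↔
      DerCA.IsRelPseudoCoherent R A m ((DRing.restrictD (algebraMap A B)).obj K) := by
  obtain ⟨n, α, hα⟩ := exists_presentation (R := R) (A := A)
  obtain ⟨k, s, hs⟩ := Module.Finite.exists_fin (R := A) (M := B)
  let ι : MvPolynomial (Fin n) R →+* B :=
    (algebraMap A B).comp (α : MvPolynomial (Fin n) R →+* A)
  let γ : MvPolynomial (Fin k) (MvPolynomial (Fin n) R) →+* B := MvPolynomial.eval₂Hom ι s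
  have hγC : γ.comp MvPolynomial.C = ι := by
    ext x <;> simp [γ]
  have hγX : ∀ j, γ (MvPolynomial.X j) = s j := fun j => by simp [γ]
  -- integrality
  have hint : ∀ j : Fin k, ∃ f : Polynomial (MvPolynomial (Fin n) R), f.Monic ∧
      f.eval₂ (γ.comp MvPolynomial.C) (γ (MvPolynomial.X j)) = 0 := by
    intro j
    obtain ⟨p, hp, hp0⟩ := Algebra.IsIntegral.isIntegral (R := A) (s j)
    have hl : p ∈ Polynomial.lifts (α : MvPolynomial (Fin n) R →+* A) := by
      rw [Polynomial.mem_lifts]
      exact Polynomial.map_surjective _ hα p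
    obtain ⟨q, hq, -, hqm⟩ := Polynomial.lifts_and_natDegree_eq_and_monic hl hp
    refine ⟨q, hqm, ?_⟩
    rw [hγC, hγX]
    show q.eval₂ ((algebraMap A B).comp (α : MvPolynomial (Fin n) R →+* A)) (s j) = 0
    rw [← Polynomial.eval₂_map, hq]
    exact hp0
  -- surjectivity of `γ`
  have hγs : Function.Surjective γ := by
    intro b
    have hb : b ∈ Submodule.span A (Set.range s) := by rw [hs]; trivial
    induction hb using Submodule.span_induction with
    | mem y hy =>
      obtain ⟨j, rfl⟩ := hy
      exact ⟨MvPolynomial.X j, hγX j⟩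
    | zero => exact ⟨0, map_zero γ⟩
    | add y z _ _ hy hz =>
      obtain ⟨y', rfl⟩ := hy
      obtain ⟨z', rfl⟩ := hz
      exact ⟨y' + z', map_add γ y' z'⟩
    | smul a y _ hy =>
      obtain ⟨y', rfl⟩ := hy
      obtain ⟨p, rfl⟩ := hα a
      refine ⟨MvPolynomial.C p * y', ?_⟩
      rw [map_mul, Algebra.smul_def]
      congr 1
      exact DFunLike.congr_fun hγC p
  -- a presentation of `B`
  let ε : MvPolynomial (Fin (k + n)) R ≃ₐ[R] MvPolynomial (Fin k) (MvPolynomial (Fin n) R) :=
    (MvPolynomial.renameEquiv R finSumFinEquiv.symm).trans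
      (MvPolynomial.sumAlgEquiv R (Fin k) (Fin n))
  let β : MvPolynomial (Fin (k + n)) R →ₐ[R] B :=
    MvPolynomial.aeval (fun i => γ (ε (MvPolynomial.X i)))
  have hβ : (β : MvPolynomial (Fin (k + n)) R →+* B) = γ.comp ε.toRingEquiv.toRingHom := by
    apply MvPolynomial.ringHom_ext
    · intro r
      have h1 : ε (MvPolynomial.C r) = MvPolynomial.C (MvPolynomial.C r) := by
        have := ε.commutes r
        rw [MvPolynomial.algebraMap_eq] at this
        rw [this, MvPolynomial.algebraMap_apply, MvPolynomial.algebraMap_eq]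
      show β (MvPolynomial.C r) = γ (ε (MvPolynomial.C r))
      rw [h1]
      have h2 : γ (MvPolynomial.C (MvPolynomial.C r)) = ι (MvPolynomial.C r) :=
        DFunLike.congr_fun hγC _
      rw [h2]
      show _ = algebraMap A B (α (MvPolynomial.C r))
      have h3 : α (MvPolynomial.C r) = algebraMap R A r := by
        rw [← MvPolynomial.algebraMap_eq]
        exact α.commutes r
      rw [h3, ← IsScalarTower.algebraMap_apply, ← MvPolynomial.algebraMap_eq]
      exact β.commutes r
    · intro i
      show β (MvPolynomial.X i) = γ (ε (MvPolynomial.X i))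
      simp [β]
  have hβs : Function.Surjective β := by
    intro b
    obtain ⟨y, rfl⟩ := hγs b
    refine ⟨ε.symm y, ?_⟩
    have := DFunLike.congr_fun hβ (ε.symm y)
    simp only [RingHom.comp_apply] at this
    show (β : MvPolynomial (Fin (k + n)) R →+* B) (ε.symm y) = γ y
    rw [this]
    congr 1
    exact ε.apply_symm_apply y
  obtain ⟨e⟩ := nonempty_restrictD_comp_iso (α : MvPolynomial (Fin n) R →+* A)
    (algebraMap A B) ι rfl K
  rw [isRelPseudoCoherent_iff_npc β hβs, isRelPseudoCoherent_iff_npc α hα,
    npc_restrict_ringEquiv_iff ε.toRingEquiv γ _ hβ K m,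
    npc_restrict_mvPolynomial_iff_of_integral k γ hint K m, hγC]
  exact ⟨fun h => h.of_iso e, fun h => h.of_iso e.symm⟩

end Groth.Agent.Lib.helper23.DRingPC
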