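import Mathlib
import Groth.Prelude.Def_DRing2
import Groth.Prelude.Def_DerCA
import Groth.Agent.Lib.Helper23.DRingPC11
import Groth.Agent.Lib.Helper23.DRingPC2

set_option autoImplicit false
universe u
open CategoryTheory CategoryTheory.Limits Pretriangulated

attribute [local instance] HasDerivedCategory.standard

namespace Groth.Agent.Lib.helper23.DRingPC

open Groth.Agent.Lib.helper23.PCohCore Groth.Agent.Lib.helper23.PerfThick

section

variable {R A : Type u} [CommRing R] [CommRing A] [Algebra R A]

/-- finite presentation through a presentation is `(-1)`-pseudo-coherence relative to `R`. -/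
theorem fp_compHom_iff_isRelPseudoCoherent {n : ℕ} (α : MvPolynomial (Fin n) R →ₐ[R] A)
    (hα : Function.Surjective α) (M : Type u) [AddCommGroup M] [Module A M] :
    @Module.FinitePresentation (MvPolynomial (Fin n) R) M _ _ (Module.compHom M α.toRingHom) ↔
      DerCA.IsRelPseudoCoherent R A (-1)
        ((DerivedCategory.singleFunctor (ModuleCat.{u} A) 0).obj (ModuleCat.of A M)) := by
  rw [isRelPseudoCoherent_iff_npc α hα, npc_restrict_single_iff,
    npc_negOne_single_iff_finitePresentation]
  exact Iff.rfl

lemma isRelPseudoCoherent_of_iso {K L : Dual.D A} (e : K ≅ L) (m : ℤ)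
    (h : DerCA.IsRelPseudoCoherent R A m K) : DerCA.IsRelPseudoCoherent R A m L := by
  obtain ⟨n, α, hα, h⟩ := h
  refine ⟨n, α, hα, ?_⟩
  rw [isRelPseudoCoherentVia_iff_npc] at h ⊢
  exact h.of_iso ((ModuleCat.restrictScalars.{u}
    (α : MvPolynomial (Fin n) R →+* A)).mapDerivedCategory.mapIso e)

end

variable {R A B : Type u} [CommRing R] [CommRing A] [CommRing B]
  [Algebra R A] [Algebra A B] [Algebra R B] [IsScalarTower R A B]

/-- S6992. -/
theorem fp_compHom_iff_of_finite [Algebra.FiniteType R A] [Module.Finite A B]
    (M : Type u) [AddCommGroup M] [Module B M] [Module A M]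
    [IsScalarTower A B M] {n k : ℕ} (α : MvPolynomial (Fin n) R →ₐ[R] A)
    (hα : Function.Surjective α)
    (β : MvPolynomial (Fin k) R →ₐ[R] B) (hβ : Function.Surjective β) :
    @Module.FinitePresentation (MvPolynomial (Fin n) R) M _ _ (Module.compHom M α.toRingHom) ↔
      @Module.FinitePresentation (MvPolynomial (Fin k) R) M _ _
        (Module.compHom M β.toRingHom) := by
  rw [fp_compHom_iff_isRelPseudoCoherent α hα, fp_compHom_iff_isRelPseudoCoherent β hβ,
    isRelPseudoCoherent_restrict_of_finite (R := R) (A := A) (B := B)]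
  have e0 : (ModuleCat.restrictScalars.{u} (algebraMap A B)).obj (ModuleCat.of B M) ≅
      ModuleCat.of A M :=
    LinearEquiv.toModuleIso
      ({ toFun := fun x => x
         invFun := fun x => x
         map_add' := fun _ _ => rfl
         map_smul' := fun a x => (algebraMap_smul B a (show M from x))
         left_inv := fun _ => rfl
         right_inv := fun _ => rfl } :
        ((ModuleCat.restrictScalars.{u} (algebraMap A B)).obj (ModuleCat.of B M)) ≃ₗ[A]
          (ModuleCat.of A M))
  have e : (DRing.restrictD (algebraMap A B)).obj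
      ((DerivedCategory.singleFunctor (ModuleCat.{u} B) 0).obj (ModuleCat.of B M)) ≅
      (DerivedCategory.singleFunctor (ModuleCat.{u} A) 0).obj (ModuleCat.of A M) :=
    ((ModuleCat.restrictScalars.{u} (algebraMap A B)).mapDerivedCategorySingleFunctor 0).app _ ≪≫
      (DerivedCategory.singleFunctor (ModuleCat.{u} A) 0).mapIso e0
  exact ⟨isRelPseudoCoherent_of_iso e.symm _, isRelPseudoCoherent_of_iso e _⟩

end Groth.Agent.Lib.helper23.DRingPC
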