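import Mathlib

/-!
# helper23: right resolutions by objects of a class (S6590, S6591)

Construction: iterated pushouts along maps of disks `D(W) ⟶ D(Y)`, then a colimit of a sequence of
complexes which is degreewise eventually constant.
-/

set_option autoImplicit false
universe v u
open CategoryTheory CategoryTheory.Limits ZeroObject HomologicalComplex

namespace Groth.Agent.Lib.helper23.RRes

variable {A : Type u} [Category.{v} A] [Abelian A]

section LES

variable {S : ShortComplex (CochainComplex A ℤ)}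

lemma quasiIso_g_of_acyclic (hS : S.ShortExact) (h₁ : S.X₁.Acyclic) : QuasiIso S.g := by
  rw [quasiIso_iff]
  intro i
  rw [quasiIsoAt_iff_isIso_homologyMap]
  have hz : ∀ j, IsZero (S.X₁.homology j) := fun j => (exactAt_iff_isZero_homology _ _).1 (h₁ j)
  haveI : Mono (homologyMap S.g i) :=
    (hS.homology_exact₂ i).mono_g ((hz i).eq_of_src _ _)
  haveI : Epi (homologyMap S.g i) :=
    (hS.homology_exact₃ i (i + 1) (by simp)).epi_f ((hz (i + 1)).eq_of_tgt _ _)
  exact isIso_of_mono_of_epi _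

lemma quasiIso_f_of_acyclic (hS : S.ShortExact) (h₃ : S.X₃.Acyclic) : QuasiIso S.f := by
  rw [quasiIso_iff]
  intro i
  rw [quasiIsoAt_iff_isIso_homologyMap]
  have hz : ∀ j, IsZero (S.X₃.homology j) := fun j => (exactAt_iff_isZero_homology _ _).1 (h₃ j)
  haveI : Mono (homologyMap S.f i) := by
    have := (hS.homology_exact₁ (i - 1) i (by simp)).mono_g ((hz (i - 1)).eq_of_src _ _)
    exact this
  haveI : Epi (homologyMap S.f i) :=
    (hS.homology_exact₂ i).epi_f ((hz i).eq_of_tgt _ _)
  exact isIso_of_mono_of_epi _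

end LES

section Disk

/-- the disk complex `X ⟶ X` in degrees `n`, `n + 1`. -/
noncomputable def disk (X : A) (n : ℤ) : CochainComplex A ℤ :=
  HomologicalComplex.double (𝟙 X) (show (ComplexShape.up ℤ).Rel n (n + 1) from rfl)

lemma ne_succ (n : ℤ) : n ≠ n + 1 := by omega

noncomputable def diskIso₀ (X : A) (n : ℤ) : (disk X n).X n ≅ X :=
  doubleXIso₀ (𝟙 X) (show (ComplexShape.up ℤ).Rel n (n + 1) from rfl)

noncomputable def diskIso₁ (X : A) (n : ℤ) : (disk X n).X (n + 1) ≅ X :=
  doubleXIso₁ (𝟙 X) (show (ComplexShape.up ℤ).Rel n (n + 1) from rfl) (ne_succ n)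

lemma disk_d (X : A) (n : ℤ) :
    (disk X n).d n (n + 1) = (diskIso₀ X n).hom ≫ (diskIso₁ X n).inv := by
  have := double_d (𝟙 X) (show (ComplexShape.up ℤ).Rel n (n + 1) from rfl) (ne_succ n)
  rw [Category.id_comp] at this
  exact this

lemma isZero_disk_X (X : A) (n i : ℤ) (h₀ : i ≠ n) (h₁ : i ≠ n + 1) : IsZero ((disk X n).X i) :=
  isZero_double_X _ _ i h₀ h₁

/-- the map of disks induced by a morphism. -/
noncomputable def diskMap {X Y : A} (φ : X ⟶ Y) (n : ℤ) : disk X n ⟶ disk Y n :=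
  mkHomFromDouble (f := 𝟙 X) (show (ComplexShape.up ℤ).Rel n (n + 1) from rfl) (ne_succ n)
    (φ ≫ (diskIso₀ Y n).inv) (φ ≫ (diskIso₁ Y n).inv) (by
      rw [Category.assoc, disk_d, Iso.inv_hom_id_assoc, Category.id_comp])
    (fun k _ => by
      have h0 : (disk Y n).d (n + 1) k = 0 :=
        double_d_eq_zero₀ _ _ (n + 1) k (ne_succ n).symm
      rw [Category.assoc, h0, comp_zero, comp_zero])

lemma diskMap_f₀ {X Y : A} (φ : X ⟶ Y) (n : ℤ) :
    (diskMap φ n).f n = (diskIso₀ X n).hom ≫ φ ≫ (diskIso₀ Y n).inv :=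
  mkHomFromDouble_f₀ _ _ _ _ _ _

lemma diskMap_f₁ {X Y : A} (φ : X ⟶ Y) (n : ℤ) :
    (diskMap φ n).f (n + 1) = (diskIso₁ X n).hom ≫ φ ≫ (diskIso₁ Y n).inv :=
  mkHomFromDouble_f₁ _ _ _ _ _ _

/-- the canonical map from the disk on `M.X n` to `M`. -/
noncomputable def fromDisk (M : CochainComplex A ℤ) (n : ℤ) : disk (M.X n) n ⟶ M :=
  mkHomFromDouble (f := 𝟙 (M.X n)) (show (ComplexShape.up ℤ).Rel n (n + 1) from rfl) (ne_succ n)
    (𝟙 _) (M.d n (n + 1)) (by rw [Category.id_comp])
    (fun k _ => M.d_comp_d _ _ _)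

lemma fromDisk_f₀ (M : CochainComplex A ℤ) (n : ℤ) :
    (fromDisk M n).f n = (diskIso₀ (M.X n) n).hom := by
  have := mkHomFromDouble_f₀ (f := 𝟙 (M.X n)) (show (ComplexShape.up ℤ).Rel n (n + 1) from rfl)
    (ne_succ n) (𝟙 (M.X n)) (M.d n (n + 1)) (by rw [Category.id_comp])
    (fun k _ => M.d_comp_d _ _ _)
  rw [Category.comp_id] at this
  exact this

lemma disk_acyclic (X : A) (n : ℤ) : (disk X n).Acyclic := by
  intro i
  by_cases h0 : i = n
  · subst h0
    rw [exactAt_iff' _ (i - 1) i (i + 1) (by simp) (by simp)]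
    rw [ShortComplex.exact_iff_mono _
      ((isZero_disk_X X i (i - 1) (by omega) (by omega)).eq_of_src _ _)]
    show Mono ((disk X i).d i (i + 1))
    rw [disk_d]
    infer_instance
  · by_cases h1 : i = n + 1
    · subst h1
      rw [exactAt_iff' _ n (n + 1) (n + 1 + 1) (by simp) (by simp)]
      rw [ShortComplex.exact_iff_epi _
        ((isZero_disk_X X n (n + 1 + 1) (by omega) (by omega)).eq_of_tgt _ _)]
      show Epi ((disk X n).d n (n + 1))
      rw [disk_d]
      infer_instance
    · rw [exactAt_iff' _ (i - 1) i (i + 1) (by simp) (by simp)]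
      exact ShortComplex.exact_of_isZero_X₂ _ (isZero_disk_X X n i h0 h1)

instance {X Y : A} (φ : X ⟶ Y) [Mono φ] (n : ℤ) : Mono (diskMap φ n) := by
  apply HomologicalComplex.mono_of_mono_f
  intro i
  by_cases h0 : i = n
  · subst h0
    rw [diskMap_f₀]
    infer_instance
  · by_cases h1 : i = n + 1
    · subst h1
      rw [diskMap_f₁]
      infer_instance
    · exact ⟨fun _ _ _ => (isZero_disk_X X n i h0 h1).eq_of_tgt _ _⟩

end Disk

section Step

variable (M : CochainComplex A ℤ) (n : ℤ) {Y : A} (ι : M.X n ⟶ Y)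

/-- replace `M.X n` by the bigger object `Y` (pushout along the map of disks). -/
noncomputable def next : CochainComplex A ℤ := pushout (fromDisk M n) (diskMap ι n)

/-- the canonical map to the modified complex. -/
noncomputable def toNext : M ⟶ next M n ι := pushout.inl _ _

lemma isPushout_next :
    IsPushout (fromDisk M n) (diskMap ι n) (toNext M n ι) (pushout.inr _ _) :=
  IsPushout.of_hasPushout _ _

lemma isPushout_next_f (i : ℤ) :
    IsPushout ((fromDisk M n).f i) ((diskMap ι n).f i) ((toNext M n ι).f i)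
      ((pushout.inr (fromDisk M n) (diskMap ι n)).f i) :=
  (isPushout_next M n ι).map (HomologicalComplex.eval A (ComplexShape.up ℤ) i)

lemma isIso_toNext_f (i : ℤ) (h0 : i ≠ n) (h1 : i ≠ n + 1) : IsIso ((toNext M n ι).f i) := by
  have sq := isPushout_next_f M n ι i
  haveI : IsIso ((diskMap ι n).f i) :=
    ⟨0, (isZero_disk_X _ n i h0 h1).eq_of_src _ _, (isZero_disk_X _ n i h0 h1).eq_of_src _ _⟩
  exact sq.isIso_inl_of_isIso

lemma isIso_inr_f : IsIso ((pushout.inr (fromDisk M n) (diskMap ι n)).f n) := by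
  have sq := isPushout_next_f M n ι n
  haveI : IsIso ((fromDisk M n).f n) := by
    rw [fromDisk_f₀]
    infer_instance
  exact sq.isIso_inr_of_isIso

/-- the new term in degree `n` is `Y`. -/
noncomputable def nextXIso : (next M n ι).X n ≅ Y :=
  (@asIso _ _ _ _ _ (isIso_inr_f M n ι)).symm ≪≫ diskIso₀ Y n

variable [Mono ι]

instance mono_toNext : Mono (toNext M n ι) := Abelian.mono_pushout_of_mono_g _ _

instance mono_toNext_f (i : ℤ) : Mono ((toNext M n ι).f i) := inferInstance

instance quasiIso_toNext : QuasiIso (toNext M n ι) := by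
  have sq := isPushout_next M n ι
  let S := sq.shortComplex
  have hmono : Mono (diskMap ι n) := inferInstance
  have hfac0 : S.f ≫ (-biprod.snd) = diskMap ι n := by
    show biprod.lift (fromDisk M n) (-diskMap ι n) ≫ (-biprod.snd) = diskMap ι n
    rw [Preadditive.comp_neg, biprod.lift_snd, neg_neg]
  have hmf : Mono S.f := @mono_of_mono_fac _ _ _ _ _ _ _ _ hmono hfac0
  have hS : S.ShortExact :=
    { exact := sq.exact_shortComplex
      mono_f := hmf
      epi_g := sq.epi_shortComplex_g }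
  have hqg : QuasiIso S.g := quasiIso_g_of_acyclic hS (disk_acyclic _ _)
  let S₂ : ShortComplex (CochainComplex A ℤ) :=
    ShortComplex.mk (biprod.inl : M ⟶ M ⊞ disk Y n) biprod.snd biprod.inl_snd
  have hS₂ : S₂.ShortExact :=
    (ShortComplex.Splitting.mk (biprod.fst : M ⊞ disk Y n ⟶ M) biprod.inr biprod.inl_fst
      biprod.inr_snd (by simp [S₂])).shortExact
  haveI : QuasiIso (biprod.inl : M ⟶ M ⊞ disk Y n) :=
    quasiIso_f_of_acyclic hS₂ (disk_acyclic _ _)
  have hfac : toNext M n ι = (biprod.inl : M ⟶ M ⊞ disk Y n) ≫ S.g :=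
    (biprod.inl_desc _ _).symm
  rw [hfac]
  exact @quasiIso_comp _ _ _ _ _ _ _ _ _ _ _ _ _ _ hqg

end Step

end Groth.Agent.Lib.helper23.RRes
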