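import Mathlib
import Groth.Agent.Lib.Helper23.RRes
import Groth.Agent.Lib.Helper23.PCohInf

/-!
# helper23: right resolutions by objects of a class, part 2 (stages and colimit)
-/

set_option autoImplicit false
universe v u
open CategoryTheory CategoryTheory.Limits ZeroObject HomologicalComplex

namespace Groth.Agent.Lib.helper23.RRes

open Groth.Agent.Lib.helper23.PCohCore

variable {A : Type u} [Category.{v} A] [Abelian A]

section Stages

variable (I' : A → Prop) (K : CochainComplex A ℤ) (a : ℤ)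

/-- a stage of the construction. -/
structure Stage (k : ℕ) where
  /-- the complex -/
  M : CochainComplex A ℤ
  /-- the map -/
  w : K ⟶ M
  hI : ∀ i : ℤ, i < a + k → I' (M.X i)
  hz : ∀ i : ℤ, i < a → IsZero (M.X i)
  mono : ∀ i : ℤ, Mono (w.f i)
  qis : QuasiIso w

variable {I' K a}

theorem Stage.exists_next (hIiso : ∀ X Y : A, (X ≅ Y) → I' X → I' Y)
    (hIemb : ∀ X : A, ∃ (Y : A) (ι : X ⟶ Y), I' Y ∧ Mono ι) {k : ℕ} (s : Stage I' K a k) :
    ∃ (s' : Stage I' K a (k + 1)) (v : s.M ⟶ s'.M), s.w ≫ v = s'.w ∧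
      ∀ i : ℤ, i < a + k → IsIso (v.f i) := by
  obtain ⟨Y, ι, hY, hι⟩ := hIemb (s.M.X (a + k))
  haveI := hι
  haveI := s.qis
  have hiso : ∀ i : ℤ, i < a + k → IsIso ((toNext s.M (a + k) ι).f i) := fun i hi =>
    isIso_toNext_f s.M (a + k) ι i (by omega) (by omega)
  refine ⟨{ M := next s.M (a + k) ι
            w := s.w ≫ toNext s.M (a + k) ι
            hI := ?_
            hz := ?_
            mono := ?_
            qis := inferInstance }, toNext s.M (a + k) ι, rfl, hiso⟩
  · intro i hi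
    by_cases hik : i = a + k
    · subst hik
      exact hIiso _ _ (nextXIso s.M (a + k) ι).symm hY
    · have hi' : i < a + k := by push_cast at hi; omega
      haveI := hiso i hi'
      exact hIiso _ _ (asIso ((toNext s.M (a + k) ι).f i)) (s.hI i hi')
  · intro i hi
    haveI := hiso i (by omega)
    exact (s.hz i hi).of_iso (asIso ((toNext s.M (a + k) ι).f i)).symm
  · intro i
    haveI := s.mono i
    rw [HomologicalComplex.comp_f]
    infer_instance

end Stages

section Limit

variable {I' : A → Prop} {K : CochainComplex A ℤ} {a : ℤ}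
  (hIiso : ∀ X Y : A, (X ≅ Y) → I' X → I' Y)
  (hIemb : ∀ X : A, ∃ (Y : A) (ι : X ⟶ Y), I' Y ∧ Mono ι)
  (s₀ : Stage I' K a 0)

/-- the sequence of stages. -/
noncomputable def stageSeq (k : ℕ) : Stage I' K a k :=
  Nat.rec s₀ (fun _ s => (s.exists_next hIiso hIemb).choose) k

/-- the transition maps. -/
noncomputable def stageTrans (k : ℕ) :
    (stageSeq hIiso hIemb s₀ k).M ⟶ (stageSeq hIiso hIemb s₀ (k + 1)).M :=
  ((stageSeq hIiso hIemb s₀ k).exists_next hIiso hIemb).choose_spec.choose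

lemma stageTrans_w (k : ℕ) :
    (stageSeq hIiso hIemb s₀ k).w ≫ stageTrans hIiso hIemb s₀ k =
      (stageSeq hIiso hIemb s₀ (k + 1)).w :=
  ((stageSeq hIiso hIemb s₀ k).exists_next hIiso hIemb).choose_spec.choose_spec.1

lemma stageTrans_isIso (k : ℕ) (i : ℤ) (hi : i < a + k) :
    IsIso ((stageTrans hIiso hIemb s₀ k).f i) :=
  ((stageSeq hIiso hIemb s₀ k).exists_next hIiso hIemb).choose_spec.choose_spec.2 i hi

include hIiso hIemb s₀ in
theorem exists_colimit :
    ∃ (L : CochainComplex A ℤ) (α : K ⟶ L), (∀ i : ℤ, i < a → IsZero (L.X i)) ∧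
      (∀ n, I' (L.X n)) ∧ (∀ n, Mono (α.f n)) ∧ QuasiIso α := by
  let S := stageSeq hIiso hIemb s₀
  let tr := stageTrans hIiso hIemb s₀
  let 𝒢 : ℕ ⥤ CochainComplex A ℤ := Functor.ofSequence tr
  have hconst : ∀ (i : ℤ) (N : ℕ), i < a + N →
      (𝒢 ⋙ HomologicalComplex.eval A (ComplexShape.up ℤ) i).IsEventuallyConstantFrom N := by
    intro i N hN
    refine isEventuallyConstantFrom_ofSequence tr (HomologicalComplex.eval A _ i) N
      (fun k hk => ?_)
    have hk' : (N : ℤ) ≤ k := by exact_mod_cast hk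
    exact stageTrans_isIso hIiso hIemb s₀ k i (by omega)
  haveI : ∀ i : ℤ, HasColimit (𝒢 ⋙ HomologicalComplex.eval A (ComplexShape.up ℤ) i) :=
    fun i => (hconst i (i - a + 1).toNat (by omega)).hasColimit
  let cc := HomologicalComplex.coconeOfHasColimitEval 𝒢
  have hcc : IsColimit cc := HomologicalComplex.isColimitCoconeOfHasColimitEval 𝒢
  have hθ : ∀ (i : ℤ) (N : ℕ), i < a + N → IsIso ((cc.ι.app N).f i) := fun i N hN =>
    isIso_ι_f_of_isColimit_of_isEventuallyConstantFrom 𝒢 hcc i N (hconst i N hN)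
  -- compatibility of the maps from `K`
  have hcompat : ∀ k : ℕ, (S k).w ≫ cc.ι.app k = (S 0).w ≫ cc.ι.app 0 := by
    intro k
    induction k with
    | zero => rfl
    | succ k ih =>
      rw [← ih, ← stageTrans_w hIiso hIemb s₀ k, Category.assoc]
      congr 1
      have := cc.w (homOfLE (Nat.le_succ k))
      rw [← this]
      congr 1
      exact (Functor.ofSequence_map_homOfLE_succ tr k).symm
  refine ⟨cc.pt, (S 0).w ≫ cc.ι.app 0, ?_, ?_, ?_, ?_⟩
  · intro i hi
    haveI := hθ i 0 (by simpa using hi)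
    exact ((S 0).hz i hi).of_iso (asIso ((cc.ι.app 0).f i)).symm
  · intro i
    haveI := hθ i (i - a + 1).toNat (by omega)
    exact hIiso _ _ (asIso ((cc.ι.app (i - a + 1).toNat).f i)) ((S _).hI i (by omega))
  · intro i
    rw [← hcompat (i - a + 1).toNat, HomologicalComplex.comp_f]
    have h1 := hθ i (i - a + 1).toNat (by omega)
    have h2 := (S (i - a + 1).toNat).mono i
    have h3 : Mono ((cc.ι.app (i - a + 1).toNat).f i) := @IsIso.mono_of_iso _ _ _ _ _ h1
    exact @mono_comp _ _ _ _ _ _ h2 _ h3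
  · rw [quasiIso_iff]
    intro i
    obtain ⟨N, hN⟩ : ∃ N : ℕ, N = (i - a + 2).toNat := ⟨_, rfl⟩
    rw [← hcompat N]
    have h1 : QuasiIsoAt (S N).w i := by
      haveI := (S N).qis
      infer_instance
    have h2 : QuasiIsoAt (cc.ι.app N) i :=
      quasiIsoAt_ι_of_isColimit_of_isEventuallyConstantFrom 𝒢 hcc (i - 1) i (i + 1)
        (by simp) (by simp) N (hconst (i - 1) N (by omega)) (hconst i N (by omega))
        (hconst (i + 1) N (by omega))
    exact quasiIsoAt_comp (hφ := h1) (hφ' := h2) _ _ i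

end Limit

end Groth.Agent.Lib.helper23.RRes
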