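import Mathlib
import Groth.Agent.Lib.Helper23.RRes2

/-!
# helper23: right resolutions by objects of a class, part 3 (S6590, S6591)
-/

set_option autoImplicit false
universe v u
open CategoryTheory CategoryTheory.Limits ZeroObject HomologicalComplex

namespace Groth.Agent.Lib.helper23.RRes

variable {A : Type u} [Category.{v} A] [Abelian A]

/-- S6590. -/
theorem exists_rightResolution (I : A → Prop) (hI0 : ∃ Z : A, Limits.IsZero Z ∧ I Z)
    (hI : ∀ X : A, ∃ (Y : A) (ι : X ⟶ Y), I Y ∧ Mono ι)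
    (K : CochainComplex A ℤ) (a : ℤ) [K.IsStrictlyGE a] :
    ∃ (L : CochainComplex A ℤ) (α : K ⟶ L), L.IsStrictlyGE a ∧ (∀ n, I (L.X n)) ∧
      (∀ n, Mono (α.f n)) ∧ QuasiIso α := by
  obtain ⟨Z₀, hZ₀, hIZ₀⟩ := hI0
  let I' : A → Prop := fun X => ∃ Y : A, I Y ∧ Nonempty (X ≅ Y)
  have hIiso : ∀ X Y : A, (X ≅ Y) → I' X → I' Y := by
    rintro X Y e ⟨W, hW, ⟨e'⟩⟩
    exact ⟨W, hW, ⟨e.symm ≪≫ e'⟩⟩
  have hIemb : ∀ X : A, ∃ (Y : A) (ι : X ⟶ Y), I' Y ∧ Mono ι := by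
    intro X
    obtain ⟨Y, ι, hY, hι⟩ := hI X
    exact ⟨Y, ι, ⟨Y, hY, ⟨Iso.refl _⟩⟩, hι⟩
  have hKz : ∀ i : ℤ, i < a → IsZero (K.X i) := fun i hi =>
    CochainComplex.isZero_of_isStrictlyGE K a i hi
  let s₀ : Stage I' K a 0 :=
    { M := K
      w := 𝟙 K
      hI := fun i hi => ⟨Z₀, hIZ₀, ⟨(hKz i (by simpa using hi)).iso hZ₀⟩⟩
      hz := hKz
      mono := fun i => by rw [HomologicalComplex.id_f]; infer_instance
      qis := inferInstance }
  obtain ⟨L₀, α₀, hL₀z, hL₀I, hα₀m, hα₀q⟩ := exists_colimit hIiso hIemb s₀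
  have hchoice : ∀ n : ℤ, ∃ Y : A, I Y ∧ Nonempty (L₀.X n ≅ Y) ∧ (n < a → IsZero Y) := by
    intro n
    by_cases hn : n < a
    · exact ⟨Z₀, hIZ₀, ⟨(hL₀z n hn).iso hZ₀⟩, fun _ => hZ₀⟩
    · obtain ⟨Y, hY, he⟩ := hL₀I n
      exact ⟨Y, hY, he, fun h => absurd h hn⟩
  choose Yf hYI hYe hYz using hchoice
  let e : ∀ n, L₀.X n ≅ Yf n := fun n => (hYe n).some
  let L : CochainComplex A ℤ :=
    { X := Yf
      d := fun i j => (e i).inv ≫ L₀.d i j ≫ (e j).hom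
      shape := fun i j hij => by rw [L₀.shape i j hij, zero_comp, comp_zero]
      d_comp_d' := fun i j k _ _ => by simp }
  let eL : L₀ ≅ L := HomologicalComplex.Hom.isoOfComponents e (fun i j _ => by simp [L])
  haveI : L.IsStrictlyGE a := by
    rw [CochainComplex.isStrictlyGE_iff]
    intro i hi
    exact hYz i hi
  haveI := hα₀q
  refine ⟨L, α₀ ≫ eL.hom, inferInstance, hYI, fun n => ?_, inferInstance⟩
  haveI := hα₀m n
  rw [HomologicalComplex.comp_f]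
  haveI : IsIso (eL.hom.f n) := by
    show IsIso (e n).hom
    infer_instance
  infer_instance

/-- S6591. -/
theorem exists_rightResolution_of_homology (I : A → Prop) (hI0 : ∃ Z : A, Limits.IsZero Z ∧ I Z)
    (hI : ∀ X : A, ∃ (Y : A) (ι : X ⟶ Y), I Y ∧ Mono ι)
    (K : CochainComplex A ℤ) (a : ℤ) (hK : ∀ n : ℤ, n < a → Limits.IsZero (K.homology n)) :
    ∃ (L : CochainComplex A ℤ) (α : K ⟶ L), L.IsStrictlyGE a ∧ (∀ n, I (L.X n)) ∧
      QuasiIso α := by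
  haveI : K.IsGE a := by
    rw [CochainComplex.isGE_iff]
    intro i hi
    rw [exactAt_iff_isZero_homology]
    exact hK i hi
  haveI : QuasiIso (K.πTruncGE a) := (K.quasiIso_πTruncGE_iff a).2 inferInstance
  obtain ⟨L, α, hL, hLI, _, hα⟩ := exists_rightResolution I hI0 hI (K.truncGE a) a
  haveI := hα
  exact ⟨L, K.πTruncGE a ≫ α, hL, hLI, inferInstance⟩

end Groth.Agent.Lib.helper23.RRes
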