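import Mathlib
import Groth.Agent.Lib.Helper23.RRes3

/-!
# Op-duality for cochain complexes: transferring right resolutions to left resolutions
-/

set_option autoImplicit false
universe v u
open CategoryTheory Opposite

namespace Groth.Agent.Lib.helper23.OpRes

variable {A : Type u} [Category.{v} A] [Abelian A]

/-- The complex in `A` attached to a complex in `Aᵒᵖ`. -/
noncomputable abbrev unopC (L : CochainComplex Aᵒᵖ ℤ) : CochainComplex A ℤ :=
  ((CochainComplex.opEquivalence A).inverse.obj L).unop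

/-- The complex in `Aᵒᵖ` attached to a complex in `A`. -/
noncomputable abbrev opC (K : CochainComplex A ℤ) : CochainComplex Aᵒᵖ ℤ :=
  (CochainComplex.opEquivalence A).functor.obj (op K)

/-- The induced map. -/
noncomputable abbrev unopMap {K L : CochainComplex Aᵒᵖ ℤ} (f : K ⟶ L) : unopC L ⟶ unopC K :=
  ((CochainComplex.opEquivalence A).inverse.map f).unop

lemma unopC_X (L : CochainComplex Aᵒᵖ ℤ) (n : ℤ) : (unopC L).X n = unop (L.X (-n)) := rfl

lemma opC_X (K : CochainComplex A ℤ) (n : ℤ) : (opC K).X n = op (K.X (-n)) := rfl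

lemma unopMap_f {K L : CochainComplex Aᵒᵖ ℤ} (f : K ⟶ L) (n : ℤ) :
    (unopMap f).f n = (f.f (-n)).unop := rfl

lemma quasiIsoAt_unopMap_iff {K L : CochainComplex Aᵒᵖ ℤ} (f : K ⟶ L) (n : ℤ) :
    QuasiIsoAt (unopMap f) n ↔ QuasiIsoAt f (-n) := by
  rw [quasiIsoAt_iff' (unopMap f) (n - 1) n (n + 1) (by simp) (by simp),
    quasiIsoAt_iff' f (-(n + 1)) (-n) (-(n - 1)) (by simp; ring) (by simp; ring)]
  rw [← ShortComplex.quasiIso_opMap_iff]
  exact Iff.rfl

lemma quasiIso_unopMap {K L : CochainComplex Aᵒᵖ ℤ} (f : K ⟶ L) [QuasiIso f] :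
    QuasiIso (unopMap f) := by
  rw [quasiIso_iff]
  intro n
  rw [quasiIsoAt_unopMap_iff]
  infer_instance

lemma isStrictlyGE_opC (K : CochainComplex A ℤ) (a : ℤ) [K.IsStrictlyLE a] :
    (opC K).IsStrictlyGE (-a) := by
  rw [CochainComplex.isStrictlyGE_iff]
  intro i hi
  have : Limits.IsZero (K.X (-i)) := K.isZero_of_isStrictlyLE a (-i) (by lia)
  exact this.op

lemma isStrictlyLE_unopC (L : CochainComplex Aᵒᵖ ℤ) (a : ℤ) [L.IsStrictlyGE (-a)] :
    (unopC L).IsStrictlyLE a := by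
  rw [CochainComplex.isStrictlyLE_iff]
  intro i hi
  have : Limits.IsZero (L.X (-i)) := L.isZero_of_isStrictlyGE (-a) (-i) (by lia)
  exact this.unop

/-- The comparison iso `unopC (opC K) ≅ K`. -/
noncomputable def unopOpIso (K : CochainComplex A ℤ) : unopC (opC K) ≅ K :=
  ((CochainComplex.opEquivalence A).unitIso.app (op K)).unop

theorem exists_leftResolution (P : A → Prop) (hP0 : ∃ Z : A, Limits.IsZero Z ∧ P Z)
    (hP : ∀ X : A, ∃ (Y : A) (π : Y ⟶ X), P Y ∧ Epi π)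
    (K : CochainComplex A ℤ) (a : ℤ) [K.IsStrictlyLE a] :
    ∃ (Q : CochainComplex A ℤ) (α : Q ⟶ K), Q.IsStrictlyLE a ∧ (∀ n, P (Q.X n)) ∧
      (∀ n, Epi (α.f n)) ∧ QuasiIso α := by
  haveI := isStrictlyGE_opC K a
  obtain ⟨L, α, hL, hLI, hmono, hα⟩ :=
    Groth.Agent.Lib.helper23.RRes.exists_rightResolution (A := Aᵒᵖ)
      (fun X => P (unop X))
      (by obtain ⟨Z, hZ, hPZ⟩ := hP0; exact ⟨op Z, hZ.op, hPZ⟩)
      (by
        intro X
        obtain ⟨Y, π, hY, hπ⟩ := hP (unop X)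
        exact ⟨op Y, π.op, hY, inferInstance⟩)
      (opC K) (-a)
  haveI := hL
  haveI := hα
  haveI := quasiIso_unopMap α
  refine ⟨unopC L, unopMap α ≫ (unopOpIso K).hom, isStrictlyLE_unopC L a, fun n => hLI (-n),
    fun n => ?_, inferInstance⟩
  haveI := hmono (-n)
  haveI : Epi ((unopMap α).f n) := by
    rw [unopMap_f]
    exact unop_epi_of_mono (α.f (-n))
  rw [HomologicalComplex.comp_f]
  haveI : IsIso ((unopOpIso K).hom.f n) := inferInstance
  infer_instance

theorem exists_leftResolution_of_homology (P : A → Prop) (hP0 : ∃ Z : A, Limits.IsZero Z ∧ P Z)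
    (hP : ∀ X : A, ∃ (Y : A) (π : Y ⟶ X), P Y ∧ Epi π)
    (K : CochainComplex A ℤ) (a : ℤ) (hK : ∀ n : ℤ, a < n → Limits.IsZero (K.homology n)) :
    ∃ (Q : CochainComplex A ℤ) (α : Q ⟶ K), Q.IsStrictlyLE a ∧ (∀ n, P (Q.X n)) ∧
      QuasiIso α := by
  haveI : K.IsLE a := by
    rw [CochainComplex.isLE_iff]
    intro i hi
    rw [HomologicalComplex.exactAt_iff_isZero_homology]
    exact hK i hi
  haveI : QuasiIso (K.ιTruncLE a) := (K.quasiIso_ιTruncLE_iff a).2 inferInstance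
  obtain ⟨Q, α, hQ, hQP, _, hα⟩ := exists_leftResolution P hP0 hP (K.truncLE a) a
  haveI := hα
  exact ⟨Q, α ≫ K.ιTruncLE a, hQ, hQP, inferInstance⟩

end Groth.Agent.Lib.helper23.OpRes
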