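import Mathlib
import Groth.Prelude.Def_PCoh
import Groth.Agent.Lib.Helper23.PCohReflect
import Groth.Agent.Lib.Helper23.PCohInf2

set_option autoImplicit false
universe w₁ w₂ v₁ v₂ u₁ u₂ u
open CategoryTheory CategoryTheory.Limits Pretriangulated

attribute [local instance] HasDerivedCategory.standard

namespace Groth.Agent.Lib.helper23.NCFree

open Groth.Agent.Lib.helper23.PCohCore

section General

variable {C₁ : Type u₁} {C₂ : Type u₂} [Category.{v₁} C₁] [Category.{v₂} C₂] [Abelian C₁]
  [Abelian C₂] [HasDerivedCategory.{w₁} C₁] [HasDerivedCategory.{w₂} C₂]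
  (F : C₁ ⥤ C₂) [F.Additive] [PreservesFiniteLimits F] [PreservesFiniteColimits F]

/-- exact functors commute with cohomology on the derived category. -/
noncomputable def homologyMapDerivedCategoryIso (L : DerivedCategory C₁) (n : ℤ) :
    (DerivedCategory.homologyFunctor C₂ n).obj (F.mapDerivedCategory.obj L) ≅
      F.obj ((DerivedCategory.homologyFunctor C₁ n).obj L) := by
  let E := DerivedCategory.Q.objPreimage L
  let e : DerivedCategory.Q.obj E ≅ L := DerivedCategory.Q.objObjPreimageIso L
  refine (DerivedCategory.homologyFunctor C₂ n).mapIso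
    (F.mapDerivedCategory.mapIso e.symm) ≪≫ ?_
  refine (DerivedCategory.homologyFunctor C₂ n).mapIso
    (F.mapDerivedCategoryFactors.app E) ≪≫ ?_
  refine (DerivedCategory.homologyFunctorFactors C₂ n).app _ ≪≫ ?_
  refine (E.sc n).mapHomologyIso F ≪≫ ?_
  refine F.mapIso ((DerivedCategory.homologyFunctorFactors C₁ n).app E).symm ≪≫ ?_
  exact F.mapIso ((DerivedCategory.homologyFunctor C₁ n).mapIso e)

end General

variable (R : Type u) [Ring R]

/-- finite projective modules as an object property. -/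
def FP : ObjectProperty (ModuleCat.{u} R) := fun M => Module.Finite R M ∧ Module.Projective R M

instance : (FP R).IsClosedUnderIsomorphisms where
  of_iso {X Y} e h := by
    obtain ⟨h1, h2⟩ := h
    exact ⟨Module.Finite.equiv e.toLinearEquiv, Module.Projective.of_equiv e.toLinearEquiv⟩

instance : (FP R).ContainsZero where
  exists_zero := ⟨ModuleCat.of R PUnit.{u + 1}, ModuleCat.isZero_of_subsingleton _,
    ⟨inferInstanceAs (Module.Finite R PUnit.{u + 1}),
      inferInstanceAs (Module.Projective R PUnit.{u + 1})⟩⟩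

lemma FP_lift (E F : ModuleCat.{u} R) (f : E ⟶ F) (hf : Epi f) (hF : FP R F) : IsSplitEpi f := by
  obtain ⟨_, h2⟩ := hF
  obtain ⟨g, hg⟩ := Module.projective_lifting_property f.hom LinearMap.id
    ((ModuleCat.epi_iff_surjective f).1 hf)
  exact ⟨⟨ModuleCat.ofHom g, by ext x; exact LinearMap.congr_fun hg x⟩⟩

lemma FP_of_retract {X Y : ModuleCat.{u} R} (i : X ⟶ Y) (r : Y ⟶ X) (h : i ≫ r = 𝟙 X)
    (hY : FP R Y) : FP R X := by
  obtain ⟨h1, h2⟩ := hY
  have hr : Function.Surjective r.hom := by
    intro x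
    exact ⟨i.hom x, by
      have := congrArg (fun f => f.hom x) h
      simpa using this⟩
  refine ⟨Module.Finite.of_surjective r.hom hr, Module.Projective.of_split i.hom r.hom ?_⟩
  ext x
  have := congrArg (fun f => f.hom x) h
  simpa using this

lemma FP_kernel (E F : ModuleCat.{u} R) (f : E ⟶ F) (hf : Epi f) (hE : FP R E) (hF : FP R F) :
    FP R (kernel f) := by
  haveI := FP_lift R E F f hf hF
  let b := binaryBiconeOfIsSplitEpiOfKernel (kernelIsKernel f)
  exact FP_of_retract R b.inl b.fst b.inl_fst hE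

/-- finite free modules as an object property. -/
def FF : ObjectProperty (ModuleCat.{u} R) := fun M => Module.Finite R M ∧ Module.Free R M

instance : (FF R).IsClosedUnderIsomorphisms where
  of_iso {X Y} e h := by
    obtain ⟨h1, h2⟩ := h
    exact ⟨Module.Finite.equiv e.toLinearEquiv, Module.Free.of_equiv e.toLinearEquiv⟩

instance : (FF R).ContainsZero where
  exists_zero := ⟨ModuleCat.of R PUnit.{u + 1}, ModuleCat.isZero_of_subsingleton _,
    ⟨inferInstanceAs (Module.Finite R PUnit.{u + 1}),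
      inferInstanceAs (Module.Free R PUnit.{u + 1})⟩⟩

lemma FF_sum (X Y : ModuleCat.{u} R) (hX : FF R X) (hY : FF R Y) : FF R (X ⨯ Y) := by
  obtain ⟨h1, h2⟩ := hX
  obtain ⟨h3, h4⟩ := hY
  have e : (X ⨯ Y) ≅ ModuleCat.of R (X × Y) :=
    (biprod.isoProd X Y).symm ≪≫ ModuleCat.biprodIsoProd X Y
  exact (ObjectProperty.prop_iff_of_iso (FF R) e).2
    ⟨inferInstanceAs (Module.Finite R (X × Y)), inferInstanceAs (Module.Free R (X × Y))⟩

lemma FF_le_FP (X : ModuleCat.{u} R) (h : FF R X) : FP R X := by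
  obtain ⟨h1, h2⟩ := h
  exact ⟨h1, Module.Projective.of_free⟩

lemma FF_hql : PCoh.IsQuasiLiftable (FF R) := by
  intro E F u hu hF
  haveI := FP_lift R E F u hu (FF_le_FP R F hF)
  refine ⟨F, section_ u, hF, ?_⟩
  rw [IsSplitEpi.id]
  infer_instance

/-- finite type relative to finite free modules means finitely generated. -/
lemma isOfFiniteType_iff_finite (M : ModuleCat.{u} R) :
    PCoh.IsOfFiniteType (FF R) M ↔ Module.Finite R M := by
  constructor
  · rintro ⟨L, π, ⟨h1, -⟩, hπ⟩
    exact Module.Finite.of_surjective π.hom ((ModuleCat.epi_iff_surjective π).1 hπ)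
  · intro h
    obtain ⟨n, f, hf⟩ := Module.Finite.exists_fin' R M
    refine ⟨ModuleCat.of R (Fin n → R), ModuleCat.ofHom f,
      ⟨inferInstanceAs (Module.Finite R (Fin n → R)),
        inferInstanceAs (Module.Free R (Fin n → R))⟩, ?_⟩
    exact (ModuleCat.epi_iff_surjective _).2 hf

lemma FF_hqs : PCoh.IsQuasiStableUnderKernels (FF R) := by
  intro K hex hbd hK
  obtain ⟨N, hN⟩ := hbd
  have key : ∀ (d : ℕ) (j : ℕ), 1 ≤ j → N + 1 ≤ j + d → FP R (kernel (K.d j (j + 1))) := by
    intro d
    induction d with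
    | zero =>
      intro j hj hjN
      have hz : IsZero (kernel (K.d j (j + 1))) :=
        IsZero.of_mono (kernel.ι (K.d j (j + 1))) (hN j (by omega))
      exact (FP R).prop_of_isZero hz
    | succ d ih =>
      intro j hj hjN
      have hS := shortExact_cycles K j (hex (j + 1))
      have h3 := ih (j + 1) (by omega) (by omega)
      have h2 : FP R (K.X j) := FF_le_FP R _ (hK j hj)
      have hk := FP_kernel R _ _ _ hS.epi_g h2 h3
      have e : kernel (kernel.lift (K.d (j + 1) (j + 2)) (K.d j (j + 1)) (K.d_comp_d _ _ _)) ≅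
          kernel (K.d j (j + 1)) :=
        IsLimit.conePointUniqueUpToIso (kernelIsKernel
          (kernel.lift (K.d (j + 1) (j + 2)) (K.d j (j + 1)) (K.d_comp_d _ _ _))) hS.fIsKernel
      exact (FP R).prop_of_iso e hk
  have h0 := hex 0
  rw [HomologicalComplex.exactAt_iff' K 0 0 1 (by simp) (by simp),
    ShortComplex.exact_iff_mono _ (K.shape 0 0 (by simp))] at h0
  have h1 := hex 1
  rw [HomologicalComplex.exactAt_iff' K 0 1 2 (by simp) (by simp)] at h1
  haveI : Mono (K.d 0 1) := h0
  haveI hepi : Epi (kernel.lift (K.d 1 2) (K.d 0 1) (K.d_comp_d _ _ _)) :=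
    (ShortComplex.exact_iff_epi_kernel_lift _).1 h1
  haveI : Mono (kernel.lift (K.d 1 2) (K.d 0 1) (K.d_comp_d _ _ _)) :=
    mono_of_mono_fac (kernel.lift_ι _ _ _)
  haveI : IsIso (kernel.lift (K.d 1 2) (K.d 0 1) (K.d_comp_d _ _ _)) := isIso_of_mono_of_epi _
  have hZ : FP R (K.X 0) := (FP R).prop_of_iso
    (asIso (kernel.lift (K.d 1 2) (K.d 0 1) (K.d_comp_d _ _ _))).symm (key N 1 le_rfl (by omega))
  exact (isOfFiniteType_iff_finite R _).2 hZ.1

end Groth.Agent.Lib.helper23.NCFree
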