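import Mathlib

/-!
# Exact functors commute with cohomology on derived categories, naturally (helper23)

`homologyNatIso F n : F.mapDerivedCategory ⋙ H^n ≅ H^n ⋙ F`, and the linearity of the cohomology
functors on the derived category.
-/

set_option autoImplicit false
universe w₁ w₂ v₁ v₂ u₁ u₂
open CategoryTheory CategoryTheory.Limits DerivedCategory

namespace Groth.Agent.Lib.helper23.HomNat

section Nat

variable {C₁ : Type u₁} {C₂ : Type u₂} [Category.{v₁} C₁] [Category.{v₂} C₂] [Abelian C₁]
  [Abelian C₂] [HasDerivedCategory.{w₁} C₁] [HasDerivedCategory.{w₂} C₂]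
  (F : C₁ ⥤ C₂) [F.Additive] [PreservesFiniteLimits F] [PreservesFiniteColimits F]

/-- exact functors commute with the cohomology of cochain complexes, naturally. -/
noncomputable def homologyCxIso (n : ℤ) :
    F.mapHomologicalComplex (ComplexShape.up ℤ) ⋙
        HomologicalComplex.homologyFunctor C₂ (ComplexShape.up ℤ) n ≅
      HomologicalComplex.homologyFunctor C₁ (ComplexShape.up ℤ) n ⋙ F :=
  NatIso.ofComponents (fun K => (K.sc n).mapHomologyIso F)
    (fun f => ShortComplex.mapHomologyIso_hom_naturality
      ((HomologicalComplex.shortComplexFunctor C₁ (ComplexShape.up ℤ) n).map f) F)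

noncomputable instance lifting₁ (n : ℤ) :
    Localization.Lifting DerivedCategory.Q
      (HomologicalComplex.quasiIso C₁ (ComplexShape.up ℤ))
      (F.mapHomologicalComplex (ComplexShape.up ℤ) ⋙
        HomologicalComplex.homologyFunctor C₂ (ComplexShape.up ℤ) n)
      (F.mapDerivedCategory ⋙ homologyFunctor C₂ n) :=
  ⟨(Functor.associator _ _ _).symm ≪≫
    Functor.isoWhiskerRight F.mapDerivedCategoryFactors _ ≪≫ Functor.associator _ _ _ ≪≫
    Functor.isoWhiskerLeft _ (homologyFunctorFactors C₂ n)⟩

noncomputable instance lifting₂ (n : ℤ) :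
    Localization.Lifting DerivedCategory.Q
      (HomologicalComplex.quasiIso C₁ (ComplexShape.up ℤ))
      (HomologicalComplex.homologyFunctor C₁ (ComplexShape.up ℤ) n ⋙ F)
      (homologyFunctor C₁ n ⋙ F) :=
  ⟨(Functor.associator _ _ _).symm ≪≫
    Functor.isoWhiskerRight (homologyFunctorFactors C₁ n) _⟩

/-- exact functors commute with cohomology on the derived category, naturally. -/
noncomputable def homologyNatIso (n : ℤ) :
    F.mapDerivedCategory ⋙ homologyFunctor C₂ n ≅ homologyFunctor C₁ n ⋙ F :=
  Localization.liftNatIso DerivedCategory.Q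
    (HomologicalComplex.quasiIso C₁ (ComplexShape.up ℤ))
    (F.mapHomologicalComplex (ComplexShape.up ℤ) ⋙
        HomologicalComplex.homologyFunctor C₂ (ComplexShape.up ℤ) n)
    (HomologicalComplex.homologyFunctor C₁ (ComplexShape.up ℤ) n ⋙ F) _ _ (homologyCxIso F n)

lemma homologyNatIso_hom_naturality (n : ℤ) {X Y : DerivedCategory C₁} (g : X ⟶ Y) :
    (homologyFunctor C₂ n).map (F.mapDerivedCategory.map g) ≫ (homologyNatIso F n).hom.app Y =
      (homologyNatIso F n).hom.app X ≫ F.map ((homologyFunctor C₁ n).map g) :=
  (homologyNatIso F n).hom.naturality g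

end Nat

section Lin

variable (R : Type*) [Ring R] (C : Type u₁) [Category.{v₁} C] [Abelian C] [Linear R C]
  [HasDerivedCategory.{w₁} C]

instance linear_homologyCx (n : ℤ) :
    Functor.Linear R (HomologicalComplex.homologyFunctor C (ComplexShape.up ℤ) n) where
  map_smul {K L} f r := by
    exact ShortComplex.homologyMap_smul
      ((HomologicalComplex.shortComplexFunctor C (ComplexShape.up ℤ) n).map f) r

noncomputable instance liftingH (n : ℤ) :
    Localization.Lifting DerivedCategory.Q
      (HomologicalComplex.quasiIso C (ComplexShape.up ℤ))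
      (HomologicalComplex.homologyFunctor C (ComplexShape.up ℤ) n) (homologyFunctor C n) :=
  ⟨homologyFunctorFactors C n⟩

instance linear_homologyFunctor (n : ℤ) : Functor.Linear R (homologyFunctor C n) := by
  rw [← Localization.functor_linear_iff DerivedCategory.Q
    (HomologicalComplex.quasiIso C (ComplexShape.up ℤ)) R
    (HomologicalComplex.homologyFunctor C (ComplexShape.up ℤ) n)]
  infer_instance

end Lin

end Groth.Agent.Lib.helper23.HomNat
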