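import Mathlib
import Groth.Prelude.Def_DRing2
import Groth.Agent.Lib.Helper23.DRingPC4

set_option autoImplicit false
universe w v u
open CategoryTheory CategoryTheory.Limits Pretriangulated

namespace Groth.Agent.Lib.helper23.PCohCore

variable {C : Type u} [Category.{v} C] [Abelian C] [HasDerivedCategory.{w} C]

/-- the top cohomology of an `n`-pseudo-coherent object concentrated in degrees `≤ n + 1`. -/
theorem NPC.single_top_homology (P : ObjectProperty C) [P.IsClosedUnderIsomorphisms]
    [P.ContainsZero] (hsum : ∀ X Y : C, P X → P Y → P (X ⨯ Y))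
    (hqs : PCoh.IsQuasiStableUnderKernels P) (hql : PCoh.IsQuasiLiftable P) (n : ℤ)
    (F : DerivedCategory C) (h : NPC P n F)
    (hac : ∀ i : ℤ, n + 1 < i → IsZero ((DerivedCategory.homologyFunctor C i).obj F)) :
    NPC P (-1) ((DerivedCategory.singleFunctor C 0).obj
      ((DerivedCategory.homologyFunctor C (n + 1)).obj F)) := by
  let t := DerivedCategory.TStructure.t (C := C)
  let T := (t.triangleLTGE (n + 1)).obj F
  have hT : T ∈ distTriang _ := t.triangleLTGE_distinguished (n + 1) F
  haveI h1LE : T.obj₁.IsLE (n + 1 - 1) := by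
    dsimp [T]; infer_instance
  haveI h3GE : T.obj₃.IsGE (n + 1) := by
    dsimp [T]; infer_instance
  have hz1 : ∀ i : ℤ, n < i → IsZero ((DerivedCategory.homologyFunctor C i).obj T.obj₁) :=
    fun i hi => DerivedCategory.isZero_of_isLE T.obj₁ (n + 1 - 1) i (by omega)
  have hX1 : NPC P (n + 1) T.obj₁ := NPC.of_acyclic P (n + 1) _ (fun i hi => hz1 i (by omega))
  have hX3 : NPC P n T.obj₃ := NPC.cone P hsum hqs hql n T hT hX1 h
  haveI h3LE : T.obj₃.IsLE (n + 1) := by
    rw [DerivedCategory.isLE_iff]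
    intro i hi
    exact (DerivedCategory.HomologySequence.exact₃ _ hT i (i + 1) rfl).isZero_of_both_zeros
      ((hac i hi).eq_of_src _ _) ((hz1 (i + 1) (by omega)).eq_of_tgt _ _)
  obtain ⟨Y, ⟨e⟩⟩ := DerivedCategory.exists_iso_singleFunctor_obj_of_isGE_of_isLE T.obj₃ (n + 1)
  haveI : Mono ((DerivedCategory.homologyFunctor C (n + 1)).map T.mor₂) :=
    (DerivedCategory.HomologySequence.mono_homologyMap_mor₂_iff _ hT (n + 1)).2
      ((hz1 (n + 1) (by omega)).eq_of_src _ _)
  haveI : Epi ((DerivedCategory.homologyFunctor C (n + 1)).map T.mor₂) :=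
    (DerivedCategory.HomologySequence.epi_homologyMap_mor₂_iff _ hT (n + 1) (n + 1 + 1) rfl).2
      ((hz1 (n + 1 + 1) (by omega)).eq_of_tgt _ _)
  have hiso2 : IsIso ((DerivedCategory.homologyFunctor C (n + 1)).map T.mor₂) :=
    isIso_of_mono_of_epi _
  obtain ⟨m₂, hm₂⟩ : ∃ m₂ : (DerivedCategory.homologyFunctor C (n + 1)).obj F ⟶
      (DerivedCategory.homologyFunctor C (n + 1)).obj T.obj₃,
      m₂ = (DerivedCategory.homologyFunctor C (n + 1)).map T.mor₂ := ⟨_, rfl⟩
  haveI : IsIso m₂ := by rw [hm₂]; exact hiso2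
  let iso₀ : (DerivedCategory.homologyFunctor C (n + 1)).obj F ≅ Y :=
    asIso m₂ ≪≫
      (DerivedCategory.homologyFunctor C (n + 1)).mapIso e ≪≫ homologySingleIso (n + 1) Y
  have hY' : NPC P n ((DerivedCategory.singleFunctor C (n + 1)).obj Y) := hX3.of_iso e
  have hY : NPC P (-1) ((DerivedCategory.singleFunctor C 0).obj Y) := by
    have h1 := hY'.shift (n + 1)
    rw [show n - (n + 1) = -1 by ring] at h1
    exact h1.of_iso (((DerivedCategory.singleFunctors C).shiftIso (n + 1) 0 (n + 1)
      (by simp)).app Y)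
  exact hY.of_iso ((DerivedCategory.singleFunctor C 0).mapIso iso₀.symm)

end Groth.Agent.Lib.helper23.PCohCore

attribute [local instance] HasDerivedCategory.standard

namespace Groth.Agent.Lib.helper23.DRingPC

open Groth.Agent.Lib.helper23.PCohCore Groth.Agent.Lib.helper23.PerfThick

variable (R : Type u) [CommRing R]

/-- finite projective modules are pseudo-coherent. -/
lemma pcMod_of_FP (M : ModuleCat.{u} R) (hM : FP R M) : PCMod R M := by
  obtain ⟨h1, h2⟩ := hM
  obtain ⟨k, f, hf⟩ := Module.Finite.exists_fin' R M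
  let f' : ModuleCat.of R (Fin k → R) ⟶ M := ModuleCat.ofHom f
  haveI : Epi f' := (ModuleCat.epi_iff_surjective f').2 hf
  haveI := FP_lift R _ _ f' inferInstance ⟨h1, h2⟩
  have hb := isBilimitBinaryBiconeOfIsSplitEpiOfKernel (kernelIsKernel f')
  have e : ModuleCat.of R (Fin k → R) ≅ kernel f' ⊞ M := biprod.uniqueUpToIso _ _ hb
  have h3 : PCMod R (kernel f' ⊞ M) :=
    PCMod.of_iso (fun a => NPC.single_of_prop (FF R) (FF_pi k) 0 a) e
  haveI : PreservesBinaryBiproducts (DerivedCategory.singleFunctor (ModuleCat.{u} R) 0) :=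
    preservesBinaryBiproducts_of_preservesBiproducts _
  intro a
  exact ((NPC.biprod_iff (FF R) (FF_sum R) (FF_hqs R) (FF_hql R) a _ _).1
    ((h3 a).of_iso ((DerivedCategory.singleFunctor (ModuleCat.{u} R) 0).mapBiprod _ _))).2

/-- bounded above complexes of finite projective modules are pseudo-coherent. -/
theorem npc_of_termwiseFiniteProjective (E : DRing.Cx R) (b : ℤ) (hb : DRing.VanishesAbove E b)
    (hE : DRing.TermwiseFiniteProjective E) (m : ℤ) : NPC (FF R) m (DRing.toD E) :=
  NPC.of_terms (FF R) (FF_sum R) (FF_hqs R) (FF_hql R) m E b hb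
    (fun i _ => pcMod_of_FP R (E.X i) (hE i) (m - i))

end Groth.Agent.Lib.helper23.DRingPC
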