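import Mathlib
import Groth.Prelude.Def_DRing2
import Groth.Prelude.Def_DDual2
import Groth.Agent.Lib.Helper23.DRingPC9
import Groth.Agent.Lib.Helper23.PCohReflect2
import Groth.Agent.Lib.Helper23.NCFree

set_option autoImplicit false
universe u
open CategoryTheory CategoryTheory.Limits Pretriangulated

attribute [local instance] HasDerivedCategory.standard

namespace Groth.Agent.Lib.helper23.ExtSc

open Groth.Agent.Lib.helper23.PCohCore Groth.Agent.Lib.helper23.DRingPC

variable {A B : Type u} [CommRing A] [CommRing B] (φ : A →+* B)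

lemma preservesFiniteColimits_extendScalars :
    PreservesFiniteColimits (ModuleCat.extendScalars.{u, u, u} φ) := by
  haveI := (ModuleCat.extendRestrictScalarsAdj.{u, u, u} φ).leftAdjoint_preservesColimits
  infer_instance

lemma preservesFiniteLimits_extendScalars (hφ : φ.Flat) :
    PreservesFiniteLimits (ModuleCat.extendScalars.{u, u, u} φ) :=
  ModuleCat.preservesFiniteLimits_extendScalars_of_flat hφ

/-- extension of scalars of a finite free module is finite free. -/
lemma FF_extend (E : ModuleCat.{u} A) (hE : FF A E) :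
    FF B ((ModuleCat.extendScalars.{u, u, u} φ).obj E) := by
  letI : Algebra A B := φ.toAlgebra
  obtain ⟨h1, h2⟩ := hE
  exact ⟨inferInstanceAs (Module.Finite B (TensorProduct A B E)),
    inferInstanceAs (Module.Free B (TensorProduct A B E))⟩

variable [PreservesFiniteLimits (ModuleCat.extendScalars.{u, u, u} φ)]
  [PreservesFiniteColimits (ModuleCat.extendScalars.{u, u, u} φ)]

lemma extend_ha (E : ModuleCat.{u} A) (hE : FF A E) (a : ℤ) :
    NPC (FF B) a ((ModuleCat.extendScalars.{u, u, u} φ).mapDerivedCategory.obj
      ((DerivedCategory.singleFunctor (ModuleCat.{u} A) 0).obj E)) :=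
  (NPC.single_of_prop (FF B) (FF_extend φ E hE) 0 a).of_iso
    (((ModuleCat.extendScalars.{u, u, u} φ).mapDerivedCategorySingleFunctor 0).app E).symm

lemma extend_hb1 (X : DerivedCategory (ModuleCat.{u} A)) (j : ℤ)
    (h : IsZero ((DerivedCategory.homologyFunctor (ModuleCat.{u} A) j).obj X)) :
    IsZero ((DerivedCategory.homologyFunctor (ModuleCat.{u} B) j).obj
      ((ModuleCat.extendScalars.{u, u, u} φ).mapDerivedCategory.obj X)) :=
  ((ModuleCat.extendScalars.{u, u, u} φ).map_isZero h).of_iso
    (NCFree.homologyMapDerivedCategoryIso (ModuleCat.extendScalars.{u, u, u} φ) X j)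

/-- flat base change preserves `m`-pseudo-coherence. -/
theorem npc_extend (m : ℤ) (X : DerivedCategory (ModuleCat.{u} A)) (h : NPC (FF A) m X) :
    NPC (FF B) m ((ModuleCat.extendScalars.{u, u, u} φ).mapDerivedCategory.obj X) :=
  npc_map_of_npc' _ (FF A) (FF B) (FF_sum A) (FF_hqs A) (FF_hql A) (FF_sum B) (FF_hqs B)
    (FF_hql B) (extend_ha φ) (extend_hb1 φ) m X h

/-- the termwise base change of a complex computes the derived base change. -/
noncomputable def extendComplexIso (K : DRing.Cx A) :
    (ModuleCat.extendScalars.{u, u, u} φ).mapDerivedCategory.obj (DRing.toD K) ≅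
      DRing.toD (((ModuleCat.extendScalars.{u, u, u} φ).mapHomologicalComplex
        (ComplexShape.up ℤ)).obj K) :=
  (ModuleCat.extendScalars.{u, u, u} φ).mapDerivedCategoryFactors.app K

end Groth.Agent.Lib.helper23.ExtSc
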