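import Mathlib
import Groth.Agent.Lib.Helper23.ExtSc

set_option autoImplicit false
universe u
open CategoryTheory TensorProduct

namespace Groth.Agent.Lib.helper23.ExtSc

section Equiv

variable {A B : Type u} [CommRing A] [CommRing B] [Algebra A B]

/-- `B` with its restricted module structure is `B`. -/
noncomputable def e₀ :
    ((ModuleCat.restrictScalars.{u} (algebraMap A B)).obj (ModuleCat.of B B)) ≃ₗ[A] B :=
  { toFun := fun x => x
    invFun := fun x => x
    map_add' := fun _ _ => rfl
    map_smul' := fun a (x : B) => (Algebra.smul_def a x).symm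
    left_inv := fun _ => rfl
    right_inv := fun _ => rfl }

noncomputable def T (M : ModuleCat.{u} A) :
    (((ModuleCat.restrictScalars.{u} (algebraMap A B)).obj (ModuleCat.of B B)) ⊗[A] M) ≃ₗ[A]
      (B ⊗[A] M) :=
  TensorProduct.congr (e₀ (A := A) (B := B)) (LinearEquiv.refl A M)

set_option backward.isDefEq.respectTransparency false in
lemma T_smul (M : ModuleCat.{u} A) (b : B)
    (z : ((ModuleCat.extendScalars.{u, u, u} (algebraMap A B)).obj M)) :
    T M (b • z) = b • T M z := by
  letI m1 : Module A B := Module.compHom B (algebraMap A B)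
  induction z using TensorProduct.induction_on with
  | zero => rw [smul_zero, map_zero, smul_zero]
  | tmul y m => rfl
  | add x y hx hy => rw [smul_add, map_add, hx, hy, map_add, smul_add]

/-- the object of `extendScalars` is the usual base change. -/
noncomputable def extendObjEquiv (M : ModuleCat.{u} A) :
    ((ModuleCat.extendScalars.{u, u, u} (algebraMap A B)).obj M) ≃ₗ[B] (B ⊗[A] M) :=
  { toFun := fun z => T M z
    invFun := fun z => (T M).symm z
    map_add' := fun x y => map_add (T M) x y
    map_smul' := fun b z => T_smul M b z
    left_inv := (T M).left_inv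
    right_inv := (T M).right_inv }

lemma subsingleton_extend_iff (M : ModuleCat.{u} A) :
    Subsingleton ((ModuleCat.extendScalars.{u, u, u} (algebraMap A B)).obj M) ↔
      Subsingleton (B ⊗[A] M) :=
  (extendObjEquiv (B := B) M).toEquiv.subsingleton_congr

lemma finite_extend_iff (M : ModuleCat.{u} A) :
    Module.Finite B ((ModuleCat.extendScalars.{u, u, u} (algebraMap A B)).obj M) ↔
      Module.Finite B (B ⊗[A] M) :=
  ⟨fun h => by haveI := h; exact Module.Finite.equiv (extendObjEquiv (B := B) M),
    fun h => by haveI := h; exact Module.Finite.equiv (extendObjEquiv (B := B) M).symm⟩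

end Equiv

section Loc

variable {A : Type u} [CommRing A] (M : Type u) [AddCommGroup M] [Module A M]

/-- vanishing is local for a family generating the unit ideal. -/
lemma subsingleton_of_localization_span (t : Set A) (ht : Ideal.span t = ⊤)
    (h : ∀ g : t, Subsingleton (Localization.Away g.val ⊗[A] M)) : Subsingleton M := by
  refine ⟨fun x y => ?_⟩
  have key : ∀ z : M, z ∈ (⊥ : Submodule A M) := by
    intro z
    refine Submodule.mem_of_span_eq_top_of_smul_pow_mem _ t ht z (fun r => ?_)
    haveI := h r
    have h0 : (TensorProduct.mk A (Localization.Away r.val) M 1) z = 0 := Subsingleton.elim _ _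
    obtain ⟨⟨_, n, rfl⟩, hc⟩ :=
      (IsLocalizedModule.eq_zero_iff (Submonoid.powers r.val)
        (TensorProduct.mk A (Localization.Away r.val) M 1)).1 h0
    exact ⟨n, by rw [Submodule.mem_bot]; exact hc⟩
  have hx := key x
  have hy := key y
  rw [Submodule.mem_bot] at hx hy
  rw [hx, hy]

/-- finiteness is local for a family generating the unit ideal. -/
lemma finite_of_localization_span (t : Set A) (ht : Ideal.span t = ⊤)
    (h : ∀ g : t, Module.Finite (Localization.Away g.val) (Localization.Away g.val ⊗[A] M)) :
    Module.Finite A M :=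
  Module.Finite.of_localizationSpan' t ht
    (fun g => TensorProduct.mk A (Localization.Away g.val) M 1) h

end Loc

section FF

variable {A B : Type u} [CommRing A] [CommRing B] [Algebra A B] [Module.FaithfullyFlat A B]
  (M : Type u) [AddCommGroup M] [Module A M]

/-- finiteness descends along faithfully flat maps. -/
lemma finite_of_faithfullyFlat (h : Module.Finite B (B ⊗[A] M)) : Module.Finite A M := by
  obtain ⟨S, hS⟩ := h
  obtain ⟨N', hN', hSN⟩ :=
    TensorProduct.exists_finite_submodule_right_of_setFinite (S : Set (B ⊗[A] M))
      S.finite_toSet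
  have hsurj : Function.Surjective (N'.subtype.lTensor B) := by
    have h1 : (⊤ : Submodule B (B ⊗[A] M)) ≤ LinearMap.range (N'.subtype.baseChange B) := by
      rw [← hS, Submodule.span_le]
      intro z hz
      obtain ⟨w, hw⟩ := hSN hz
      exact ⟨w, hw⟩
    intro z
    obtain ⟨w, hw⟩ := h1 (Submodule.mem_top (x := z))
    exact ⟨w, hw⟩
  have h2 : Function.Surjective N'.subtype :=
    (Module.FaithfullyFlat.lTensor_surjective_iff_surjective A B N'.subtype).1 hsurj
  exact Module.Finite.of_surjective N'.subtype h2

end FF

end Groth.Agent.Lib.helper23.ExtSc
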