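import Mathlib
import Groth.Agent.Lib.Helper23.ExtSc2

set_option autoImplicit false
universe u
open CategoryTheory CategoryTheory.Limits Pretriangulated TensorProduct

attribute [local instance] HasDerivedCategory.standard

namespace Groth.Agent.Lib.helper23.ExtSc

open Groth.Agent.Lib.helper23.PCohCore Groth.Agent.Lib.helper23.DRingPC

variable {A : Type u} [CommRing A]

/-- descent of `m`-pseudo-coherence along a finite jointly "faithfully flat" family. -/
theorem npc_of_npc_extend_family {ι : Type} [Finite ι] {B : ι → Type u} [∀ i, CommRing (B i)]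
    (φ : ∀ i, A →+* B i) (hflat : ∀ i, (φ i).Flat)
    (hzero : ∀ M : ModuleCat.{u} A,
      (∀ i, Subsingleton ((ModuleCat.extendScalars.{u, u, u} (φ i)).obj M)) → Subsingleton M)
    (hfin : ∀ M : ModuleCat.{u} A,
      (∀ i, Module.Finite (B i) ((ModuleCat.extendScalars.{u, u, u} (φ i)).obj M)) →
        Module.Finite A M)
    (K : DRing.Cx A) (m : ℤ)
    (h : ∀ i, NPC (FF (B i)) m (DRing.toD (((ModuleCat.extendScalars.{u, u, u}
      (φ i)).mapHomologicalComplex (ComplexShape.up ℤ)).obj K))) :
    NPC (FF A) m (DRing.toD K) := by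
  haveI : ∀ i, PreservesFiniteLimits (ModuleCat.extendScalars.{u, u, u} (φ i)) := fun i =>
    preservesFiniteLimits_extendScalars (φ i) (hflat i)
  haveI : ∀ i, PreservesFiniteColimits (ModuleCat.extendScalars.{u, u, u} (φ i)) := fun i =>
    preservesFiniteColimits_extendScalars (φ i)
  refine npc_of_npc_map_family (C' := fun i => ModuleCat.{u} (B i))
    (fun i => (ModuleCat.extendScalars.{u, u, u} (φ i)).mapDerivedCategory) (FF A)
    (fun i => FF (B i)) (FF_sum A) (FF_hqs A) (FF_hql A) (fun i => FF_sum (B i))
    (fun i => FF_hqs (B i)) (fun i => FF_hql (B i)) (fun i => extend_ha (φ i))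
    (fun i => extend_hb1 (φ i)) ?_ ?_ m (DRing.toD K)
    (fun i => (h i).of_iso (extendComplexIso (φ i) K).symm)
  · intro X j hX
    rw [ModuleCat.isZero_iff_subsingleton]
    refine hzero _ (fun i => ?_)
    rw [← ModuleCat.isZero_iff_subsingleton]
    exact (hX i).of_iso
      (NCFree.homologyMapDerivedCategoryIso (ModuleCat.extendScalars.{u, u, u} (φ i)) X j).symm
  · intro X j hX
    rw [isOfFiniteType_iff_finite]
    refine hfin _ (fun i => ?_)
    haveI := (isOfFiniteType_iff_finite (B i) _).1 (hX i)
    exact Module.Finite.equiv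
      (NCFree.homologyMapDerivedCategoryIso (ModuleCat.extendScalars.{u, u, u} (φ i)) X
        j).toLinearEquiv

/-- S2087 in terms of `NPC`. -/
theorem npc_of_localization_away {r : ℕ} (f : Fin r → A) (hf : Ideal.span (Set.range f) = ⊤)
    (K : DRing.Cx A) (m : ℤ)
    (h : ∀ i, NPC (FF (Localization.Away (f i))) m (DRing.toD (((ModuleCat.extendScalars.{u, u, u}
      (algebraMap A (Localization.Away (f i)))).mapHomologicalComplex
        (ComplexShape.up ℤ)).obj K))) :
    NPC (FF A) m (DRing.toD K) := by
  refine npc_of_npc_extend_family (B := fun i => Localization.Away (f i))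
    (fun i => algebraMap A (Localization.Away (f i))) (fun i => ?_) ?_ ?_ K m h
  · rw [RingHom.flat_algebraMap_iff]
    exact IsLocalization.flat (Localization.Away (f i)) (Submonoid.powers (f i))
  · intro M hM
    refine subsingleton_of_localization_span M (Set.range f) hf ?_
    rintro ⟨_, i, rfl⟩
    exact (subsingleton_extend_iff M).1 (hM i)
  · intro M hM
    refine finite_of_localization_span M (Set.range f) hf ?_
    rintro ⟨_, i, rfl⟩
    exact (finite_extend_iff M).1 (hM i)

/-- S6941 in terms of `NPC`. -/
theorem npc_of_faithfullyFlat {B : Type u} [CommRing B] [Algebra A B]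
    [Module.FaithfullyFlat A B] (K : DRing.Cx A) (m : ℤ)
    (h : NPC (FF B) m (DRing.toD (((ModuleCat.extendScalars.{u, u, u}
      (algebraMap A B)).mapHomologicalComplex (ComplexShape.up ℤ)).obj K))) :
    NPC (FF A) m (DRing.toD K) := by
  refine npc_of_npc_extend_family (ι := Unit) (B := fun _ => B) (fun _ => algebraMap A B)
    (fun _ => ?_) ?_ ?_ K m (fun _ => h)
  · rw [RingHom.flat_algebraMap_iff]
    infer_instance
  · intro M hM
    haveI := (subsingleton_extend_iff (B := B) M).1 (hM ())
    exact Module.FaithfullyFlat.lTensor_reflects_triviality A B M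
  · intro M hM
    exact finite_of_faithfullyFlat M ((finite_extend_iff (B := B) M).1 (hM ()))

end Groth.Agent.Lib.helper23.ExtSc
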