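import Mathlib
import Groth.Prelude.Def_DRing2
import Groth.Prelude.Def_DDual2
import Groth.Agent.Lib.Helper23.LDer3
import Groth.Agent.Lib.Helper23.PCohInf3
import Groth.Agent.Lib.Helper23.ExtSc

set_option autoImplicit false
universe u
open CategoryTheory CategoryTheory.Limits

attribute [local instance] HasDerivedCategory.standard

namespace Groth.Agent.Lib.helper23.LDer

open Groth.Agent.Lib.helper23.PCohCore Groth.Agent.Lib.helper23.DRingPC
  Groth.Agent.Lib.helper23.PerfThick

section BaseChange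

variable {A B : Type u} [CommRing A] [CommRing B] (φ : A →+* B)
  (LF : Dual.D A ⥤ Dual.D B) (α : DerivedCategory.Qh ⋙ LF ⟶ DRing.baseChangeKh φ)
  [LF.IsRightKanExtension α]

include α in
/-- an `m`-pseudo-coherent object has an `m`-pseudo-coherent derived base change. -/
theorem npc_leftDerived_baseChange (K : Dual.D A) (m : ℤ) (hK : NPC (FF A) m K) :
    NPC (FF B) m (LF.obj K) := by
  obtain ⟨E, b, α₀, hz, hP, hα₀⟩ :=
    NPC.exists_perfect_nIso (FF A) (FF_sum A) (FF_hqs A) (FF_hql A) m hK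
  obtain ⟨b', -, hb'⟩ := NPC.exists_bound hK
  let F₀ := DerivedCategory.Q.objPreimage K
  let eF : DerivedCategory.Q.obj F₀ ≅ K := DerivedCategory.Q.objObjPreimageIso K
  have hproj : ∀ i, Projective (E.X i) := fun i => by
    haveI := (hP i).1
    haveI := (hP i).2
    haveI : Module.Projective A (E.X i) := inferInstance
    exact (IsProjective.iff_projective (R := A) (E.X i)).1 inferInstance
  haveI : ∀ n, Projective (E.X n) := hproj
  haveI : E.IsStrictlyLE b :=
    (CochainComplex.isStrictlyLE_iff _ _).2 (fun i hi => hz i (Or.inr hi))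
  haveI : E.IsKProjective := CochainComplex.isKProjective_of_projective E b
  obtain ⟨ψ, hψ⟩ := (CochainComplex.IsKProjective.Qh_map_bijective E
    ((HomotopyCategory.quotient _ _).obj F₀)).2 (α₀ ≫ eF.inv)
  obtain ⟨u, rfl⟩ := (HomotopyCategory.quotient _ _).map_surjective ψ
  have hu : DerivedCategory.Q.map u = α₀ ≫ eF.inv := hψ
  have hNI : NIso m (DerivedCategory.Q.map u) := by
    rw [hu]
    exact hα₀.comp_iso eF.inv
  have hF : ∀ n : ℤ, NPC (PJ (C := ModuleCat.{u} A)) n (DerivedCategory.Q.obj F₀) := fun n =>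
    (npc_iff_coherent_homology (PJ (C := ModuleCat.{u} A)) PJ_sum PJ_hql PJ_hcoh n _ b'
      (fun i hi => (hb' i hi).of_iso ((DerivedCategory.homologyFunctor _ i).mapIso eF))).2
      ⟨PJ_ft _, fun i _ => PJ_isCoh _⟩
  let s₀ : GStage (PJ (C := ModuleCat.{u} A)) F₀ m (max b (m - 1)) 0 :=
    { G := E
      w := u
      hP := hproj
      hb := fun i hi => hz i (Or.inr (lt_of_le_of_lt (le_max_left _ _) hi))
      hiso := fun i hi => (isIso_homologyFunctor_map_Q_iff u i).1 (hNI.1 i (by simpa using hi))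
      hepi := by
        have h0 : m - ((0 : ℕ) : ℤ) = m := by simp
        rw [h0]
        exact (epi_homologyFunctor_map_Q_iff u m).1 hNI.2 }
  obtain ⟨E', v, u', -, h2, h3, h4, -, h6⟩ :=
    exists_strictPCAll_factorisation PJ_sum (isQuasiStable_of_coh _ PJ_hcoh) PJ_hql
      (le_max_right b (m - 1)) hF s₀
  haveI : IsIso (DerivedCategory.Q.map u') :=
    (DerivedCategory.isIso_Q_map_iff_quasiIso _ u').2 h4
  have eK : DerivedCategory.Q.obj E' ≅ K := asIso (DerivedCategory.Q.map u') ≪≫ eF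
  obtain ⟨eL⟩ := nonempty_iso_of_projective (ModuleCat.extendScalars.{u, u, u} φ) LF α E'
    (max b (m - 1)) h2 h3
  refine NPC.of_iso ⟨_, ⟨⟨max b (m - 1), fun i hi => ?_⟩, fun i hi => ?_⟩, ⟨Iso.refl _⟩⟩
    (eL.symm ≪≫ LF.mapIso eK)
  · exact (ModuleCat.extendScalars.{u, u, u} φ).map_isZero (h3 i hi)
  · haveI := h6 i hi
    have h7 : FF A (E'.X i) := (FF A).prop_of_iso (asIso (v.f i)) (hP i)
    exact ExtSc.FF_extend φ _ h7

end BaseChange

end Groth.Agent.Lib.helper23.LDer
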