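import Mathlib
import Groth.Prelude.Def_DRing2
import Groth.Prelude.Def_DDual2
import Groth.Agent.Lib.Helper23.TA3
import Groth.Agent.Lib.Helper23.PCohAmp2

/-!
# helper23: Tor-amplitude library, part 4 (the main characterisation)

For a bounded above complex `F` of flat modules, `Q F` has tor amplitude in `[a, b]` (flat
representative definition) iff `N ⊗ F` is exact in degrees `< a` for all `N` and `F` is exact in
degrees `> b`.
-/

set_option autoImplicit false
universe u
open CategoryTheory CategoryTheory.Limits TensorProduct MonoidalCategory ZeroObject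

attribute [local instance] HasDerivedCategory.standard

namespace Groth.Agent.Lib.helper23.TA

open Groth.Agent.Lib.helper23.PCohAmp

variable {A : Type u} [CommRing A]

/-- the property of being a flat module. -/
def FlatP (A : Type u) [CommRing A] : ObjectProperty (ModuleCat.{u} A) := fun M => Module.Flat A M

instance : (FlatP A).IsClosedUnderIsomorphisms :=
  ⟨fun {X Y} e (h : Module.Flat A X) => by
    haveI := h
    exact (Module.Flat.of_linearEquiv e.toLinearEquiv.symm : Module.Flat A Y)⟩

instance : (FlatP A).ContainsZero :=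
  ⟨⟨0, Limits.isZero_zero _, by
    haveI : Subsingleton ((0 : ModuleCat.{u} A) : Type u) :=
      ModuleCat.subsingleton_of_isZero (Limits.isZero_zero _)
    exact (inferInstance : Module.Flat A ((0 : ModuleCat.{u} A) : Type u))⟩⟩

lemma flatP_of_isZero (M : ModuleCat.{u} A) (h : IsZero M) : FlatP A M := by
  haveI : Subsingleton M := ModuleCat.subsingleton_of_isZero h
  exact (inferInstance : Module.Flat A M)

lemma flatP_kernel (E F : ModuleCat.{u} A) (u : E ⟶ F) (hu : Epi u) (hE : FlatP A E)
    (hF : FlatP A F) : FlatP A (kernel u) := by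
  haveI : Module.Flat A E := hE
  haveI : Module.Flat A F := hF
  have h1 : Module.Flat A (LinearMap.ker u.hom) :=
    flat_of_exact (LinearMap.ker u.hom).subtype u.hom (Submodule.subtype_injective _)
      ((ModuleCat.epi_iff_surjective u).1 hu) (LinearMap.exact_subtype_ker_map _)
  exact (FlatP A).prop_of_iso (ModuleCat.kernelIsoKer u).symm h1

lemma hasTorAmplitudeIn_iff_amp (a b : ℤ) (K : Dual.D A) :
    DRing.HasTorAmplitudeIn A a b K ↔ Amp (FlatP A) a b K :=
  ⟨fun ⟨E, h1, h2, h3⟩ => ⟨E, h2, h1, h3⟩, fun ⟨E, h1, h2, h3⟩ => ⟨E, h2, h1, h3⟩⟩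

/-- tensor vanishing in low degrees. -/
def TVL (a : ℤ) (F : DRing.Cx A) : Prop :=
  ∀ (N : ModuleCat.{u} A) (i : ℤ), i < a →
    (((tensorLeft N).mapHomologicalComplex (ComplexShape.up ℤ)).obj F).ExactAt i

/-- exactness is invariant under isomorphisms in the derived category. -/
lemma exactAt_of_iso_Q {K L : DRing.Cx A}
    (e : DerivedCategory.Q.obj K ≅ DerivedCategory.Q.obj L) (i : ℤ) (h : K.ExactAt i) :
    L.ExactAt i := by
  rw [HomologicalComplex.exactAt_iff_isZero_homology] at h ⊢
  exact h.of_iso (((DerivedCategory.homologyFunctorFactors _ i).app L).symm ≪≫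
    (DerivedCategory.homologyFunctor _ i).mapIso e.symm ≪≫
    (DerivedCategory.homologyFunctorFactors _ i).app K)

lemma exactAt_of_iso {K L : DRing.Cx A} (e : K ≅ L) (i : ℤ) (h : K.ExactAt i) : L.ExactAt i :=
  exactAt_of_iso_Q (DerivedCategory.Q.mapIso e) i h

lemma exactAt_of_hasTorAmplitudeIn (F : DRing.Cx A) (a b : ℤ)
    (h : DRing.HasTorAmplitudeIn A a b (DerivedCategory.Q.obj F)) (i : ℤ) (hi : i < a ∨ b < i) :
    F.ExactAt i := by
  obtain ⟨E, hV, -, ⟨e⟩⟩ := h
  exact exactAt_of_iso_Q e i (HomologicalComplex.ExactAt.of_isZero (hV i hi))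

/-- (⇒) of the main characterisation. -/
theorem tvl_of_hasTorAmplitudeIn (F : DRing.Cx A) (c : ℤ) (hc : DRing.VanishesAbove F c)
    (hfl : DRing.TermwiseFlat F) (a b : ℤ)
    (h : DRing.HasTorAmplitudeIn A a b (DerivedCategory.Q.obj F)) : TVL a F := by
  obtain ⟨E, hV, hEfl, ⟨e⟩⟩ := h
  intro N i hi
  obtain ⟨e'⟩ := nonempty_iso_map_of_flat (tensorLeft N) (tensorLike_tensorLeft N) E F b c
    (fun j hj => hV j (Or.inr hj)) hc hEfl hfl e
  exact exactAt_of_iso_Q e' i
    (HomologicalComplex.ExactAt.of_isZero ((tensorLeft N).map_isZero (hV i (Or.inl hi))))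

lemma exactAt_of_tensorLeft_unit (F : DRing.Cx A) (i : ℤ)
    (h : (((tensorLeft (𝟙_ (ModuleCat.{u} A))).mapHomologicalComplex
      (ComplexShape.up ℤ)).obj F).ExactAt i) : F.ExactAt i :=
  exactAt_of_iso ((NatIso.mapHomologicalComplex (leftUnitorNatIso (ModuleCat.{u} A))
    (ComplexShape.up ℤ)).app F ≪≫ (Functor.mapHomologicalComplexIdIso _ _).app F) i h

lemma exactAt_of_tvl (F : DRing.Cx A) (a : ℤ) (h : TVL a F) (i : ℤ) (hi : i < a) :
    F.ExactAt i :=
  exactAt_of_tensorLeft_unit F i (h _ i hi)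

/-- the flat cokernel. -/
theorem flat_quotient_of_tvl (F : DRing.Cx A) (hfl : DRing.TermwiseFlat F) (a : ℤ)
    (h : TVL a F) : Module.Flat A ((F.X a) ⧸ LinearMap.range (F.d (a - 1) a).hom) := by
  haveI := hfl a
  refine flat_quotient_range (F.d (a - 1 - 1) (a - 1)).hom (F.d (a - 1) a).hom ?_ ?_
  · rw [← ModuleCat.hom_comp, F.d_comp_d]
    rfl
  · intro N _ _
    have h1 := h (ModuleCat.of A N) (a - 1) (by omega)
    rw [HomologicalComplex.exactAt_iff' _ (a - 1 - 1) (a - 1) a (by simp) (by simp)] at h1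
    exact (ShortComplex.ShortExact.moduleCat_exact_iff_function_exact _).1 h1

/-- lower truncation. -/
theorem amp_of_tvl (F : DRing.Cx A) (c : ℤ) (hc : DRing.VanishesAbove F c)
    (hfl : DRing.TermwiseFlat F) (a : ℤ) (h : TVL a F) :
    Amp (FlatP A) a c (DerivedCategory.Q.obj F) := by
  haveI : F.IsGE a := (CochainComplex.isGE_iff F a).2 (fun i hi => exactAt_of_tvl F a h i hi)
  haveI : IsIso (DerivedCategory.Q.map (F.πTruncGE a)) :=
    (DerivedCategory.isIso_Q_map_iff_quasiIso _ _).2 inferInstance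
  have hop : F.opcycles a ≅ ModuleCat.of A ((F.X a) ⧸ LinearMap.range (F.d (a - 1) a).hom) :=
    IsColimit.coconePointUniqueUpToIso (F.opcyclesIsCokernel (a - 1) a (by simp))
      (cokernelIsCokernel _) ≪≫ ModuleCat.cokernelIsoRangeQuotient _
  refine ⟨F.truncGE a, ?_, ?_, ⟨(asIso (DerivedCategory.Q.map (F.πTruncGE a))).symm⟩⟩
  · intro i
    rcases lt_trichotomy i a with hi | rfl | hi
    · exact flatP_of_isZero _ (CochainComplex.isZero_of_isStrictlyGE _ a i hi)
    · exact (FlatP A).prop_of_iso (F.truncGEXIsoOpcycles i ≪≫ hop).symm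
        (flat_quotient_of_tvl F hfl i h)
    · exact (FlatP A).prop_of_iso (F.truncGEXIso a i hi).symm (hfl i)
  · intro i hi
    rcases lt_trichotomy i a with hi' | rfl | hi'
    · exact CochainComplex.isZero_of_isStrictlyGE _ a i hi'
    · have h0 : IsZero (F.X i) := hc i (hi.elim (fun h => absurd h (lt_irrefl _)) id)
      haveI : Epi (F.pOpcycles i) := inferInstance
      exact (IsZero.of_epi (F.pOpcycles i) h0).of_iso (F.truncGEXIsoOpcycles i)
    · exact (hc i (hi.elim (fun h => absurd h (by omega)) id)).of_iso (F.truncGEXIso a i hi')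

/-- iterated upper truncation. -/
theorem amp_truncate_iter (a b : ℤ) (X : Dual.D A)
    (hX : ∀ i : ℤ, b < i → IsZero ((DerivedCategory.homologyFunctor _ i).obj X)) :
    ∀ n : ℕ, Amp (FlatP A) a (b + n) X → Amp (FlatP A) a b X := by
  intro n
  induction n with
  | zero => intro h; simpa using h
  | succ n ih =>
    intro h
    refine ih (Amp.truncate flatP_kernel (b := b + n) ?_ (hX _ (by omega)))
    have : b + ((n + 1 : ℕ) : ℤ) = b + n + 1 := by push_cast; ring
    rwa [this] at h

/-- (⇐) of the main characterisation. -/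
theorem hasTorAmplitudeIn_of_tvl (F : DRing.Cx A) (c : ℤ) (hc : DRing.VanishesAbove F c)
    (hfl : DRing.TermwiseFlat F) (a b : ℤ) (h : TVL a F) (hb : ∀ i : ℤ, b < i → F.ExactAt i) :
    DRing.HasTorAmplitudeIn A a b (DerivedCategory.Q.obj F) := by
  rw [hasTorAmplitudeIn_iff_amp]
  have h1 := amp_of_tvl F c hc hfl a h
  have hX : ∀ i : ℤ, b < i →
      IsZero ((DerivedCategory.homologyFunctor _ i).obj (DerivedCategory.Q.obj F)) := by
    intro i hi
    have h2 := hb i hi
    rw [HomologicalComplex.exactAt_iff_isZero_homology] at h2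
    exact h2.of_iso ((DerivedCategory.homologyFunctorFactors _ i).app F)
  by_cases hcb : c ≤ b
  · exact h1.mono le_rfl hcb
  · refine amp_truncate_iter a b _ hX (c - b).toNat ?_
    have : b + ((c - b).toNat : ℤ) = c := by
      rw [Int.toNat_of_nonneg (by omega)]; ring
    rwa [this]

end Groth.Agent.Lib.helper23.TA
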