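import Mathlib
import Groth.Prelude.Def_DRing2
import Groth.Prelude.Def_DDual2
import Groth.Agent.Lib.Helper23.TA4
import Groth.Agent.Lib.Helper23.PCohCore
import Groth.Agent.Lib.Helper23.PCohAmp3

/-!
# helper23: Tor-amplitude library, part 5 (cones, shifts, summands)
-/

set_option autoImplicit false
universe u
open CategoryTheory CategoryTheory.Limits TensorProduct MonoidalCategory ZeroObject
open CategoryTheory.Pretriangulated

attribute [local instance] HasDerivedCategory.standard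

namespace Groth.Agent.Lib.helper23.TA

open Groth.Agent.Lib.helper23.PCohAmp

variable {A : Type u} [CommRing A]

lemma hasTorAmplitudeIn_of_iso {a b : ℤ} {K L : Dual.D A} (e : K ≅ L)
    (h : DRing.HasTorAmplitudeIn A a b K) : DRing.HasTorAmplitudeIn A a b L := by
  obtain ⟨E, h1, h2, ⟨e'⟩⟩ := h
  exact ⟨E, h1, h2, ⟨e' ≪≫ e⟩⟩

lemma hasTorAmplitudeIn_mono {a b a' b' : ℤ} {K : Dual.D A}
    (h : DRing.HasTorAmplitudeIn A a b K) (ha : a' ≤ a) (hb : b ≤ b') :
    DRing.HasTorAmplitudeIn A a' b' K := by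
  rw [hasTorAmplitudeIn_iff_amp] at h ⊢
  exact h.mono ha hb

lemma hasTorAmplitudeIn_shift {a b : ℤ} {K : Dual.D A}
    (h : DRing.HasTorAmplitudeIn A a b K) (n : ℤ) :
    DRing.HasTorAmplitudeIn A (a - n) (b - n) (K⟦n⟧) := by
  rw [hasTorAmplitudeIn_iff_amp] at h ⊢
  exact h.shift n

/-- the homology of an object with tor amplitude in `[a, b]` vanishes outside `[a, b]`. -/
lemma isZero_homology_of_hasTorAmplitudeIn {a b : ℤ} {K : Dual.D A}
    (h : DRing.HasTorAmplitudeIn A a b K) (i : ℤ) (hi : i < a ∨ b < i) :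
    IsZero ((DerivedCategory.homologyFunctor _ i).obj K) := by
  obtain ⟨E, hV, -, ⟨e⟩⟩ := h
  have h1 : IsZero (E.homology i) :=
    (HomologicalComplex.ExactAt.of_isZero (hV i hi)).isZero_homology
  exact (h1.of_iso ((DerivedCategory.homologyFunctorFactors _ i).app E)).of_iso
    ((DerivedCategory.homologyFunctor _ i).mapIso e.symm)

/-- an object with tor amplitude in `[a, b]` has a bounded above projective representative, and
any such representative has the tensor vanishing property. -/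
lemma exists_projective_rep {b : ℤ} {K : Dual.D A}
    (hK : ∀ i : ℤ, b < i → IsZero ((DerivedCategory.homologyFunctor _ i).obj K)) :
    ∃ P : DRing.Cx A, (∀ i, Projective (P.X i)) ∧ DRing.VanishesAbove P b ∧
      DRing.TermwiseFlat P ∧ Nonempty (DerivedCategory.Q.obj P ≅ K) := by
  obtain ⟨P, hP, hPb, ⟨e⟩⟩ := LDer.exists_projective_resolution K b hK
  exact ⟨P, hP, hPb, fun i => flat_of_projective_obj _ (hP i), ⟨e⟩⟩

lemma tvl_of_rep {a b : ℤ} {K : Dual.D A} (h : DRing.HasTorAmplitudeIn A a b K)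
    (F : DRing.Cx A) (c : ℤ) (hc : DRing.VanishesAbove F c) (hfl : DRing.TermwiseFlat F)
    (e : DerivedCategory.Q.obj F ≅ K) : TVL a F :=
  tvl_of_hasTorAmplitudeIn F c hc hfl a b (hasTorAmplitudeIn_of_iso e.symm h)

lemma exactAt_of_rep {a b : ℤ} {K : Dual.D A} (h : DRing.HasTorAmplitudeIn A a b K)
    (F : DRing.Cx A) (e : DerivedCategory.Q.obj F ≅ K) (i : ℤ) (hi : i < a ∨ b < i) :
    F.ExactAt i :=
  exactAt_of_hasTorAmplitudeIn F a b (hasTorAmplitudeIn_of_iso e.symm h) i hi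

lemma exactAt_mappingCone_of {K L : DRing.Cx A} (u : K ⟶ L) (i : ℤ) (hK : K.ExactAt (i + 1))
    (hL : L.ExactAt i) : (CochainComplex.mappingCone u).ExactAt i := by
  rw [HomologicalComplex.exactAt_iff_isZero_homology] at hK hL ⊢
  refine PCohCore.isZero_homology_mappingCone u i ?_ ?_
  · exact ⟨fun _ _ _ => hL.eq_of_src _ _⟩
  · exact ⟨fun _ _ _ => hK.eq_of_tgt _ _⟩

/-- tor amplitude of a cone. -/
theorem hasTorAmplitudeIn_cone (T : Triangle (Dual.D A)) (hT : T ∈ distTriang _)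
    {a₁ b₁ a₂ b₂ a b : ℤ} (h₁ : DRing.HasTorAmplitudeIn A a₁ b₁ T.obj₁)
    (h₂ : DRing.HasTorAmplitudeIn A a₂ b₂ T.obj₂)
    (ha₁ : a ≤ a₁ - 1) (ha₂ : a ≤ a₂) (hb₁ : b₁ - 1 ≤ b) (hb₂ : b₂ ≤ b) :
    DRing.HasTorAmplitudeIn A a b T.obj₃ := by
  obtain ⟨P₁, hP₁, hPb₁, hPfl₁, ⟨e₁⟩⟩ := exists_projective_rep (K := T.obj₁) (b := b₁)
    (fun i hi => isZero_homology_of_hasTorAmplitudeIn h₁ i (Or.inr hi))
  obtain ⟨E₂, hV₂, hfl₂, ⟨e₂⟩⟩ := h₂
  haveI : ∀ n, Projective (P₁.X n) := hP₁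
  haveI : P₁.IsStrictlyLE b₁ := (CochainComplex.isStrictlyLE_iff _ _).2 hPb₁
  haveI : P₁.IsKProjective := CochainComplex.isKProjective_of_projective P₁ b₁
  obtain ⟨f, ⟨e₃⟩⟩ := PerfCone.exists_cone_rep P₁ E₂ T hT e₁ e₂
  have hV₂' : DRing.VanishesAbove E₂ b₂ := fun i hi => hV₂ i (Or.inr hi)
  refine hasTorAmplitudeIn_of_iso e₃ (hasTorAmplitudeIn_of_tvl _ (max b₁ b₂)
    (vanishesAbove_mappingCone f b₁ b₂ hPb₁ hV₂') (termwiseFlat_mappingCone f hPfl₁ hfl₂) a b
    ?_ ?_)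
  · intro N i hi
    have hK : (((tensorLeft N).mapHomologicalComplex (ComplexShape.up ℤ)).obj P₁).ExactAt
        (i + 1) := tvl_of_rep h₁ P₁ b₁ hPb₁ hPfl₁ e₁ N (i + 1) (by omega)
    have hL : (((tensorLeft N).mapHomologicalComplex (ComplexShape.up ℤ)).obj E₂).ExactAt i :=
      HomologicalComplex.ExactAt.of_isZero
        ((tensorLeft N).map_isZero (hV₂ i (Or.inl (by omega))))
    exact exactAt_of_iso (CochainComplex.mappingCone.mapHomologicalComplexIso f
      (tensorLeft N)).symm i (exactAt_mappingCone_of _ i hK hL)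
  · intro i hi
    exact exactAt_mappingCone_of f i
      (HomologicalComplex.ExactAt.of_isZero (hPb₁ (i + 1) (by omega)))
      (HomologicalComplex.ExactAt.of_isZero (hV₂' i (by omega)))

lemma flat_biprod_obj (M N : ModuleCat.{u} A) (hM : Module.Flat A M) (hN : Module.Flat A N) :
    Module.Flat A (M ⊞ N : ModuleCat.{u} A) := by
  haveI := flat_prod (A := A) M N
  exact Module.Flat.of_linearEquiv (ModuleCat.biprodIsoProd M N).toLinearEquiv

/-- tor amplitude of a direct summand. -/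
theorem hasTorAmplitudeIn_of_biprod {a b : ℤ} {K L : Dual.D A} [HasBinaryBiproduct K L]
    (h : DRing.HasTorAmplitudeIn A a b (K ⊞ L)) : DRing.HasTorAmplitudeIn A a b K := by
  have hH : ∀ (X : Dual.D A) (i : ℤ) (ι : X ⟶ K ⊞ L) (r : K ⊞ L ⟶ X), ι ≫ r = 𝟙 X → b < i →
      IsZero ((DerivedCategory.homologyFunctor _ i).obj X) := fun X i ι r hr hi =>
    PCohAmp.isZero_obj_of_retract _ ι r hr (isZero_homology_of_hasTorAmplitudeIn h i (Or.inr hi))
  obtain ⟨P₁, hP₁, hPb₁, hPfl₁, ⟨e₁⟩⟩ := exists_projective_rep (K := K) (b := b)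
    (fun i hi => hH K i biprod.inl biprod.fst biprod.inl_fst hi)
  obtain ⟨P₂, hP₂, hPb₂, hPfl₂, ⟨e₂⟩⟩ := exists_projective_rep (K := L) (b := b)
    (fun i hi => hH L i biprod.inr biprod.snd biprod.inr_snd hi)
  haveI : PreservesBinaryBiproducts (DerivedCategory.Q (C := ModuleCat.{u} A)) :=
    preservesBinaryBiproducts_of_preservesBiproducts _
  have e : DerivedCategory.Q.obj (P₁ ⊞ P₂) ≅ K ⊞ L :=
    DerivedCategory.Q.mapBiprod P₁ P₂ ≪≫ biprod.mapIso e₁ e₂
  have hVb : DRing.VanishesAbove (P₁ ⊞ P₂) b := by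
    intro i hi
    refine IsZero.of_iso ?_ (HomologicalComplex.biprodXIso P₁ P₂ i)
    rw [biprod_isZero_iff]
    exact ⟨hPb₁ i hi, hPb₂ i hi⟩
  have hfl : DRing.TermwiseFlat (P₁ ⊞ P₂) := by
    intro i
    haveI := flat_biprod_obj _ _ (hPfl₁ i) (hPfl₂ i)
    exact Module.Flat.of_linearEquiv (HomologicalComplex.biprodXIso P₁ P₂ i).toLinearEquiv
  have htv := tvl_of_rep h (P₁ ⊞ P₂) b hVb hfl e
  refine hasTorAmplitudeIn_of_iso e₁ (hasTorAmplitudeIn_of_tvl P₁ b hPb₁ hPfl₁ a b ?_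
    (fun i hi => HomologicalComplex.ExactAt.of_isZero (hPb₁ i hi)))
  intro N i hi
  have h1 := htv N i hi
  rw [HomologicalComplex.exactAt_iff_isZero_homology] at h1 ⊢
  exact PCohAmp.isZero_obj_of_retract
    ((tensorLeft N).mapHomologicalComplex (ComplexShape.up ℤ) ⋙
      HomologicalComplex.homologyFunctor _ _ i) (biprod.inl : P₁ ⟶ P₁ ⊞ P₂) biprod.fst
    biprod.inl_fst h1

end Groth.Agent.Lib.helper23.TA
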