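import Mathlib
import Groth.Prelude.Def_DRing2
import Groth.Prelude.Def_DDual2
import Groth.Agent.Lib.Helper23.TA5
import Groth.Agent.Lib.Helper23.LDer4
import Groth.Agent.Lib.Helper23.PerfThick
import Groth.Agent.Lib.Helper23.DRingPC9

/-!
# helper23: Tor-amplitude library, part 6 (perfect = pseudo-coherent + finite tor dimension)
-/

set_option autoImplicit false
universe u
open CategoryTheory CategoryTheory.Limits TensorProduct MonoidalCategory ZeroObject
open CategoryTheory.Pretriangulated

attribute [local instance] HasDerivedCategory.standard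

namespace Groth.Agent.Lib.helper23.TA

open Groth.Agent.Lib.helper23.PCohAmp Groth.Agent.Lib.helper23.PCohCore
  Groth.Agent.Lib.helper23.DRingPC Groth.Agent.Lib.helper23.PerfThick
  Groth.Agent.Lib.helper23.LDer

variable {A : Type u} [CommRing A]

/-- generic lower truncation. -/
theorem amp_truncGE (Pr : ObjectProperty (ModuleCat.{u} A)) [Pr.IsClosedUnderIsomorphisms]
    [Pr.ContainsZero] (F : DRing.Cx A) (c : ℤ) (hc : DRing.VanishesAbove F c) (a : ℤ)
    (hex : ∀ i : ℤ, i < a → F.ExactAt i) (hPr : ∀ i : ℤ, a < i → Pr (F.X i))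
    (hq : Pr (ModuleCat.of A ((F.X a) ⧸ LinearMap.range (F.d (a - 1) a).hom))) :
    Amp Pr a c (DerivedCategory.Q.obj F) := by
  haveI : F.IsGE a := (CochainComplex.isGE_iff F a).2 (fun i hi => hex i hi)
  haveI : IsIso (DerivedCategory.Q.map (F.πTruncGE a)) :=
    (DerivedCategory.isIso_Q_map_iff_quasiIso _ _).2 inferInstance
  have hop : F.opcycles a ≅ ModuleCat.of A ((F.X a) ⧸ LinearMap.range (F.d (a - 1) a).hom) :=
    IsColimit.coconePointUniqueUpToIso (F.opcyclesIsCokernel (a - 1) a (by simp))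
      (cokernelIsCokernel _) ≪≫ ModuleCat.cokernelIsoRangeQuotient _
  refine ⟨F.truncGE a, ?_, ?_, ⟨(asIso (DerivedCategory.Q.map (F.πTruncGE a))).symm⟩⟩
  · intro i
    rcases lt_trichotomy i a with hi | rfl | hi
    · exact Pr.prop_of_isZero (CochainComplex.isZero_of_isStrictlyGE _ a i hi)
    · exact Pr.prop_of_iso (F.truncGEXIsoOpcycles i ≪≫ hop).symm hq
    · exact Pr.prop_of_iso (F.truncGEXIso a i hi).symm (hPr i hi)
  · intro i hi
    rcases lt_trichotomy i a with hi' | rfl | hi'
    · exact CochainComplex.isZero_of_isStrictlyGE _ a i hi'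
    · have h0 : IsZero (F.X i) := hc i (hi.elim (fun h => absurd h (lt_irrefl _)) id)
      haveI : Epi (F.pOpcycles i) := inferInstance
      exact (IsZero.of_epi (F.pOpcycles i) h0).of_iso (F.truncGEXIsoOpcycles i)
    · exact (hc i (hi.elim (fun h => absurd h (by omega)) id)).of_iso (F.truncGEXIso a i hi')

/-- generic iterated upper truncation. -/
theorem amp_truncate_iter' (Pr : ObjectProperty (ModuleCat.{u} A)) [Pr.IsClosedUnderIsomorphisms]
    [Pr.ContainsZero]
    (hst : ∀ (E F : ModuleCat.{u} A) (u : E ⟶ F), Epi u → Pr E → Pr F → Pr (kernel u))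
    (a b : ℤ) (X : Dual.D A)
    (hX : ∀ i : ℤ, b < i → IsZero ((DerivedCategory.homologyFunctor _ i).obj X)) :
    ∀ n : ℕ, Amp Pr a (b + n) X → Amp Pr a b X := by
  intro n
  induction n with
  | zero => intro h; simpa using h
  | succ n ih =>
    intro h
    refine ih (Amp.truncate hst (b := b + n) ?_ (hX _ (by omega)))
    have : b + ((n + 1 : ℕ) : ℤ) = b + n + 1 := by push_cast; ring
    rwa [this] at h

theorem amp_truncate_to (Pr : ObjectProperty (ModuleCat.{u} A)) [Pr.IsClosedUnderIsomorphisms]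
    [Pr.ContainsZero]
    (hst : ∀ (E F : ModuleCat.{u} A) (u : E ⟶ F), Epi u → Pr E → Pr F → Pr (kernel u))
    (a b c : ℤ) (X : Dual.D A)
    (hX : ∀ i : ℤ, b < i → IsZero ((DerivedCategory.homologyFunctor _ i).obj X))
    (h : Amp Pr a c X) : Amp Pr a b X := by
  by_cases hcb : c ≤ b
  · exact h.mono le_rfl hcb
  · refine amp_truncate_iter' Pr hst a b X hX (c - b).toNat ?_
    have : b + ((c - b).toNat : ℤ) = c := by
      rw [Int.toNat_of_nonneg (by omega)]; ring
    rwa [this]

/-- an `m`-pseudo-coherent object is represented by a bounded above complex of projectives whose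
terms are finite free in degrees `≥ m`. -/
theorem exists_projective_rep_of_npc (K : Dual.D A) (m : ℤ) (hK : NPC (FF A) m K) :
    ∃ (E' : DRing.Cx A) (b : ℤ), (∀ i, Projective (E'.X i)) ∧ (∀ i : ℤ, b < i → IsZero (E'.X i)) ∧
      (∀ i : ℤ, m ≤ i → FF A (E'.X i)) ∧ Nonempty (DerivedCategory.Q.obj E' ≅ K) := by
  obtain ⟨E, b, α₀, hz, hP, hα₀⟩ :=
    NPC.exists_perfect_nIso (FF A) (FF_sum A) (FF_hqs A) (FF_hql A) m hK
  obtain ⟨b', -, hb'⟩ := NPC.exists_bound hK
  let F₀ := DerivedCategory.Q.objPreimage K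
  let eF : DerivedCategory.Q.obj F₀ ≅ K := DerivedCategory.Q.objObjPreimageIso K
  have hproj : ∀ i, Projective (E.X i) := fun i => by
    haveI := (hP i).1
    haveI := (hP i).2
    haveI : Module.Projective A (E.X i) := inferInstance
    exact (IsProjective.iff_projective (R := A) (E.X i)).1 inferInstance
  haveI : ∀ n, Projective (E.X n) := hproj
  haveI : E.IsStrictlyLE b :=
    (CochainComplex.isStrictlyLE_iff _ _).2 (fun i hi => hz i (Or.inr hi))
  haveI : E.IsKProjective := CochainComplex.isKProjective_of_projective E b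
  obtain ⟨ψ, hψ⟩ := (CochainComplex.IsKProjective.Qh_map_bijective E
    ((HomotopyCategory.quotient _ _).obj F₀)).2 (α₀ ≫ eF.inv)
  obtain ⟨u, rfl⟩ := (HomotopyCategory.quotient _ _).map_surjective ψ
  have hu : DerivedCategory.Q.map u = α₀ ≫ eF.inv := hψ
  have hNI : NIso m (DerivedCategory.Q.map u) := by
    rw [hu]
    exact hα₀.comp_iso eF.inv
  have hF : ∀ n : ℤ, NPC (PJ (C := ModuleCat.{u} A)) n (DerivedCategory.Q.obj F₀) := fun n =>
    (npc_iff_coherent_homology (PJ (C := ModuleCat.{u} A)) PJ_sum PJ_hql PJ_hcoh n _ b'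
      (fun i hi => (hb' i hi).of_iso ((DerivedCategory.homologyFunctor _ i).mapIso eF))).2
      ⟨PJ_ft _, fun i _ => PJ_isCoh _⟩
  let s₀ : GStage (PJ (C := ModuleCat.{u} A)) F₀ m (max b (m - 1)) 0 :=
    { G := E
      w := u
      hP := hproj
      hb := fun i hi => hz i (Or.inr (lt_of_le_of_lt (le_max_left _ _) hi))
      hiso := fun i hi => (isIso_homologyFunctor_map_Q_iff u i).1 (hNI.1 i (by simpa using hi))
      hepi := by
        have h0 : m - ((0 : ℕ) : ℤ) = m := by simp
        rw [h0]
        exact (epi_homologyFunctor_map_Q_iff u m).1 hNI.2 }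
  obtain ⟨E', v, u', -, h2, h3, h4, -, h6⟩ :=
    exists_strictPCAll_factorisation PJ_sum (isQuasiStable_of_coh _ PJ_hcoh) PJ_hql
      (le_max_right b (m - 1)) hF s₀
  haveI : IsIso (DerivedCategory.Q.map u') :=
    (DerivedCategory.isIso_Q_map_iff_quasiIso _ u').2 h4
  refine ⟨E', max b (m - 1), h2, h3, fun i hi => ?_, ⟨asIso (DerivedCategory.Q.map u') ≪≫ eF⟩⟩
  haveI := h6 i hi
  exact (FF A).prop_of_iso (asIso (v.f i)) (hP i)

lemma FP_of_flat_quotient (X Y : ModuleCat.{u} A) (hX : FF A X) (hY : FF A Y) (d : X ⟶ Y)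
    (hfl : Module.Flat A ((Y : Type u) ⧸ LinearMap.range d.hom)) :
    FP A (ModuleCat.of A ((Y : Type u) ⧸ LinearMap.range d.hom)) := by
  haveI := hX.1
  haveI := hX.2
  haveI := hY.1
  haveI := hY.2
  haveI : Module.Projective A Y := Module.Projective.of_free
  haveI : Module.FinitePresentation A Y := Module.finitePresentation_of_projective A Y
  haveI : Module.FinitePresentation A ((Y : Type u) ⧸ LinearMap.range d.hom) := by
    refine Module.finitePresentation_of_surjective (LinearMap.range d.hom).mkQ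
      (Submodule.mkQ_surjective _) ?_
    rw [Submodule.ker_mkQ, LinearMap.range_eq_map]
    exact (Module.Finite.fg_top).map d.hom
  haveI := hfl
  exact ⟨inferInstance, Module.Flat.projective_of_finitePresentation⟩

/-- the key statement: `(m-1)`-pseudo-coherent with tor amplitude in `[m, n]` implies perfect
amplitude in `[m, n]`. -/
theorem amp_FP_of_npc_of_hasTorAmplitudeIn (K : Dual.D A) (m n : ℤ)
    (hK : NPC (FF A) (m - 1) K) (hTA : DRing.HasTorAmplitudeIn A m n K) :
    Amp (FP A) m n K := by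
  obtain ⟨P, b, hproj, hb, hff, ⟨e⟩⟩ := exists_projective_rep_of_npc K (m - 1) hK
  have hfl : DRing.TermwiseFlat P := fun i => flat_of_projective_obj _ (hproj i)
  have htv : TVL m P := tvl_of_rep hTA P b hb hfl e
  have hq := FP_of_flat_quotient _ _ (hff (m - 1) le_rfl) (hff m (by omega)) (P.d (m - 1) m)
    (flat_quotient_of_tvl P hfl m htv)
  have h1 : Amp (FP A) m b (DerivedCategory.Q.obj P) :=
    amp_truncGE (FP A) P b hb m (fun i hi => exactAt_of_tvl P m htv i hi)
      (fun i hi => by
        have h0 := hff i (by omega)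
        haveI := h0.1
        haveI := h0.2
        exact ⟨h0.1, Module.Projective.of_free⟩) hq
  exact amp_truncate_to (FP A) (FP_kernel A) m n b K
    (fun i hi => isZero_homology_of_hasTorAmplitudeIn hTA i (Or.inr hi)) (h1.of_iso e)

end Groth.Agent.Lib.helper23.TA
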