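import Mathlib
import Groth.Prelude.Def_DRing2
import Groth.Prelude.Def_DDual2
import Groth.Agent.Lib.Helper23.TA6
import Groth.Agent.Lib.Helper23.ExtSc3

/-!
# helper23: perfectness from vanishing of the cohomology of the fibres
-/

set_option autoImplicit false
universe u
open CategoryTheory CategoryTheory.Limits TensorProduct

attribute [local instance] HasDerivedCategory.standard

namespace Groth.Agent.Lib.helper23.FibVan

open Groth.Agent.Lib.helper23.TA Groth.Agent.Lib.helper23.PCohAmp
  Groth.Agent.Lib.helper23.PerfThick Groth.Agent.Lib.helper23.ExtSc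

section Modules

variable {R : Type u} [CommRing R]

/-- exactness of `N ⊗ -` only depends on the isomorphism class of `N`. -/
lemma exact_lTensor_congr {N N' : Type u} [AddCommGroup N] [Module R N] [AddCommGroup N']
    [Module R N'] (e : N ≃ₗ[R] N') {F₁ F₂ F₃ : Type u} [AddCommGroup F₁] [Module R F₁]
    [AddCommGroup F₂] [Module R F₂] [AddCommGroup F₃] [Module R F₃]
    (f : F₁ →ₗ[R] F₂) (g : F₂ →ₗ[R] F₃)
    (h : Function.Exact (f.lTensor N') (g.lTensor N')) :
    Function.Exact (f.lTensor N) (g.lTensor N) := by
  have key : ∀ {X Y : Type u} [AddCommGroup X] [Module R X] [AddCommGroup Y] [Module R Y]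
      (u : X →ₗ[R] Y) (x : N ⊗[R] X),
      (TensorProduct.congr e (LinearEquiv.refl R Y)) (u.lTensor N x) =
        u.lTensor N' ((TensorProduct.congr e (LinearEquiv.refl R X)) x) := by
    intro X Y _ _ _ _ u x
    induction x using TensorProduct.induction_on with
    | zero => simp
    | tmul n y => simp
    | add a b ha hb => rw [map_add, map_add, ha, hb, map_add, map_add]
  exact exact_of_addEquiv _ _ _ _
    (TensorProduct.congr e (LinearEquiv.refl R F₁)).toAddEquiv
    (TensorProduct.congr e (LinearEquiv.refl R F₂)).toAddEquiv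
    (TensorProduct.congr e (LinearEquiv.refl R F₃)).toAddEquiv
    (fun x => key f x) (fun x => key g x) h

variable [IsLocalRing R]

/-- the key local statement: exactness after tensoring with the residue field implies exactness
and freeness of the cokernel. -/
theorem exact_and_free_of_residue_exact {F₁ F₂ F₃ : Type u} [AddCommGroup F₁] [Module R F₁]
    [AddCommGroup F₂] [Module R F₂] [AddCommGroup F₃] [Module R F₃]
    [Module.Finite R F₂] [Module.Finite R F₃] [Module.Free R F₃]
    (f : F₁ →ₗ[R] F₂) (g : F₂ →ₗ[R] F₃) (hgf : g ∘ₗ f = 0)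
    (h : Function.Exact (f.lTensor (IsLocalRing.ResidueField R))
      (g.lTensor (IsLocalRing.ResidueField R))) :
    Function.Exact f g ∧ Module.Free R (F₃ ⧸ LinearMap.range g) := by
  have hle : LinearMap.range f ≤ LinearMap.ker g := by
    rintro _ ⟨x, rfl⟩
    exact LinearMap.congr_fun hgf x
  let l : (F₂ ⧸ LinearMap.range f) →ₗ[R] F₃ := (LinearMap.range f).liftQ g hle
  have hl : l ∘ₗ (LinearMap.range f).mkQ = g := Submodule.liftQ_mkQ _ _ _
  have hmf : (LinearMap.range f).mkQ ∘ₗ f = 0 := by
    ext x
    simp
  have hinj : Function.Injective (l.lTensor (IsLocalRing.ResidueField R)) := by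
    rw [injective_iff_map_eq_zero]
    intro z hz
    obtain ⟨y, rfl⟩ := LinearMap.lTensor_surjective (IsLocalRing.ResidueField R)
      (Submodule.mkQ_surjective (LinearMap.range f)) z
    rw [← LinearMap.comp_apply, ← LinearMap.lTensor_comp, hl] at hz
    obtain ⟨x, rfl⟩ := (h y).1 hz
    rw [← LinearMap.comp_apply, ← LinearMap.lTensor_comp, hmf, LinearMap.lTensor_zero,
      LinearMap.zero_apply]
  have hrange : LinearMap.range l = LinearMap.range g := Submodule.range_liftQ _ _ _
  have hfree : Module.Free R (F₃ ⧸ LinearMap.range l) :=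
    Module.free_of_lTensor_residueField_injective l (LinearMap.range l).mkQ
      (Submodule.mkQ_surjective _) l.exact_map_mkQ_range hinj
  obtain ⟨l', hl'⟩ :=
    (IsLocalRing.split_injective_iff_lTensor_residueField_injective l).2 hinj
  have hlinj : Function.Injective l :=
    Function.HasLeftInverse.injective ⟨l', LinearMap.congr_fun hl'⟩
  refine ⟨?_, ?_⟩
  · intro y
    constructor
    · intro hy
      have h1 : l ((LinearMap.range f).mkQ y) = 0 := by
        rw [← LinearMap.comp_apply, hl, hy]
      have h2 := hlinj (h1.trans (map_zero l).symm)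
      rwa [Submodule.mkQ_apply, Submodule.Quotient.mk_eq_zero] at h2
    · rintro ⟨x, rfl⟩
      exact LinearMap.congr_fun hgf x
  · rw [← hrange]
    exact hfree

end Modules

section Complexes

variable {A B : Type u} [CommRing A] [CommRing B] [Algebra A B]

set_option backward.isDefEq.respectTransparency false in
lemma extend_map_hom_apply {X Y : ModuleCat.{u} A} (f : X ⟶ Y)
    (x : (ModuleCat.extendScalars.{u, u, u} (algebraMap A B)).obj X) :
    ((ModuleCat.extendScalars.{u, u, u} (algebraMap A B)).map f).hom x =
      (f.hom.lTensor ((ModuleCat.restrictScalars.{u} (algebraMap A B)).obj (ModuleCat.of B B))) x := by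
  induction x using TensorProduct.induction_on with
  | zero => simp
  | tmul a n => rfl
  | add a b ha hb => rw [map_add, map_add, ha, hb]

/-- exactness of the base-changed complex in terms of `lTensor`. -/
lemma exact_lTensor_of_exactAt_extend (E : DRing.Cx A) (i : ℤ)
    (h : (((ModuleCat.extendScalars.{u, u, u} (algebraMap A B)).mapHomologicalComplex
      (ComplexShape.up ℤ)).obj E).ExactAt i) :
    Function.Exact ((E.d (i - 1) i).hom.lTensor B) ((E.d i (i + 1)).hom.lTensor B) := by
  rw [HomologicalComplex.exactAt_iff' _ (i - 1) i (i + 1) (by simp) (by simp)] at h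
  have h1 := (ShortComplex.ShortExact.moduleCat_exact_iff_function_exact _).1 h
  refine exact_lTensor_congr (e₀ (A := A) (B := B)).symm _ _ ?_
  exact exact_of_addEquiv _ _ _ _ (AddEquiv.refl _) (AddEquiv.refl _) (AddEquiv.refl _)
    (fun x => (extend_map_hom_apply (E.d (i - 1) i) x).symm)
    (fun x => (extend_map_hom_apply (E.d i (i + 1)) x).symm) h1

end Complexes

section Local

variable {R : Type u} [CommRing R] [IsLocalRing R]

/-- lower part: exactness of the fibre below `a` gives perfect amplitude `≥ a`. -/
theorem amp_FP_of_residue_exact_below (E : DRing.Cx R) (c : ℤ) (hc : DRing.VanishesAbove E c)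
    (hE : DRing.TermwiseFiniteFree E) (a : ℤ)
    (h : ∀ i : ℤ, i < a → (((ModuleCat.extendScalars.{u, u, u}
      (algebraMap R (IsLocalRing.ResidueField R))).mapHomologicalComplex
        (ComplexShape.up ℤ)).obj E).ExactAt i) :
    Amp (FP R) a c (DerivedCategory.Q.obj E) := by
  have key : ∀ i : ℤ, i < a → Function.Exact (E.d (i - 1) i).hom (E.d i (i + 1)).hom ∧
      Module.Free R ((E.X (i + 1)) ⧸ LinearMap.range (E.d i (i + 1)).hom) := by
    intro i hi
    haveI := (hE i).1
    haveI := (hE (i + 1)).1
    haveI := (hE (i + 1)).2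
    exact exact_and_free_of_residue_exact (E.d (i - 1) i).hom (E.d i (i + 1)).hom
      (by rw [← ModuleCat.hom_comp, E.d_comp_d]; rfl)
      (exact_lTensor_of_exactAt_extend E i (h i hi))
  obtain ⟨j, rfl⟩ : ∃ j, a = j + 1 := ⟨a - 1, by omega⟩
  refine amp_truncGE (FP R) E c hc (j + 1) (fun i hi => ?_) (fun i hi => ?_) ?_
  · rw [HomologicalComplex.exactAt_iff' _ (i - 1) i (i + 1) (by simp) (by simp)]
    exact (ShortComplex.ShortExact.moduleCat_exact_iff_function_exact _).2 (key i hi).1
  · haveI := (hE i).1
    haveI := (hE i).2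
    exact ⟨(hE i).1, Module.Projective.of_free⟩
  · have h1 := (key j (by omega)).2
    have hj : j + 1 - 1 = j := by omega
    rw [hj]
    haveI := (hE (j + 1)).1
    exact ⟨inferInstance, Module.Projective.of_free⟩

/-- S6975 (with `algebraMap`). -/
theorem isPerfect_of_fibre_bounded_below
    [DRing.HasLBaseChange (algebraMap R (IsLocalRing.ResidueField R))] (K : Dual.D R)
    (hK : DRing.IsPseudoCoherent' R K) (a : ℤ)
    (h : ∀ i : ℤ, i < a → Subsingleton (Dual.HD (IsLocalRing.ResidueField R)
      ((DRing.LBaseChange (algebraMap R (IsLocalRing.ResidueField R))).obj K) i)) :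
    DRing.IsPerfect R K := by
  haveI : (DRing.LBaseChange (algebraMap R (IsLocalRing.ResidueField R))).IsRightKanExtension
      ((DRing.baseChangeKh (algebraMap R (IsLocalRing.ResidueField R))).totalLeftDerivedCounit
        DerivedCategory.Qh
        (HomotopyCategory.quasiIso (ModuleCat.{u} R) (ComplexShape.up ℤ))) :=
    CategoryTheory.Functor.IsLeftDerivedFunctor.isRightKanExtension _ _
      (HomotopyCategory.quasiIso (ModuleCat.{u} R) (ComplexShape.up ℤ))
  obtain ⟨E, c, hc, hE, ⟨e⟩⟩ := hK
  have hproj : ∀ i, Projective (E.X i) := fun i => by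
    haveI := (hE i).1
    haveI := (hE i).2
    exact (IsProjective.iff_projective (R := R) (E.X i)).1 Module.Projective.of_free
  obtain ⟨eL⟩ := LDer.nonempty_iso_of_projective
    (ModuleCat.extendScalars.{u, u, u} (algebraMap R (IsLocalRing.ResidueField R)))
    (DRing.LBaseChange (algebraMap R (IsLocalRing.ResidueField R)))
    ((DRing.baseChangeKh (algebraMap R (IsLocalRing.ResidueField R))).totalLeftDerivedCounit
      DerivedCategory.Qh
      (HomotopyCategory.quasiIso (ModuleCat.{u} R) (ComplexShape.up ℤ))) E c hproj hc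
  have hex : ∀ i : ℤ, i < a → (((ModuleCat.extendScalars.{u, u, u}
      (algebraMap R (IsLocalRing.ResidueField R))).mapHomologicalComplex
        (ComplexShape.up ℤ)).obj E).ExactAt i := by
    intro i hi
    rw [HomologicalComplex.exactAt_iff_isZero_homology]
    haveI := h i hi
    have hz : IsZero ((DerivedCategory.homologyFunctor
        (ModuleCat.{u} (IsLocalRing.ResidueField R)) i).obj
        ((DRing.LBaseChange (algebraMap R (IsLocalRing.ResidueField R))).obj K)) :=
      ModuleCat.isZero_of_subsingleton _
    exact (hz.of_iso ((DerivedCategory.homologyFunctor _ i).mapIso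
      (eL.symm ≪≫ (DRing.LBaseChange (algebraMap R (IsLocalRing.ResidueField R))).mapIso
        e))).of_iso ((DerivedCategory.homologyFunctorFactors _ i).app _).symm
  obtain ⟨F, hP, hz, ⟨he⟩⟩ := amp_FP_of_residue_exact_below E c hc hE a hex
  exact ⟨F, a, c, hz, hP, ⟨he ≪≫ e⟩⟩

end Local

end Groth.Agent.Lib.helper23.FibVan
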