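import Mathlib
import Groth.Prelude.Def_DRing2
import Groth.Prelude.Def_DDual2
import Groth.Agent.Lib.Helper23.TA5
import Groth.Agent.Lib.Helper23.ExtSc3

/-!
# helper23: Tor-amplitude library, part 12 (flat descent of tor amplitude)
-/

set_option autoImplicit false
universe u
open CategoryTheory CategoryTheory.Limits TensorProduct MonoidalCategory ZeroObject

attribute [local instance] HasDerivedCategory.standard

namespace Groth.Agent.Lib.helper23.TA

open Groth.Agent.Lib.helper23.ExtSc

variable {A : Type u} [CommRing A]

section One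

variable {B : Type u} [CommRing B] (φ : A →+* B)

/-- extension of scalars commutes with tensoring on the left (complex level). -/
noncomputable def extendTensorIso (N : ModuleCat.{u} A) (P : DRing.Cx A) :
    ((tensorLeft ((ModuleCat.extendScalars.{u, u, u} φ).obj N)).mapHomologicalComplex
      (ComplexShape.up ℤ)).obj (((ModuleCat.extendScalars.{u, u, u} φ).mapHomologicalComplex
        (ComplexShape.up ℤ)).obj P) ≅
    ((ModuleCat.extendScalars.{u, u, u} φ).mapHomologicalComplex (ComplexShape.up ℤ)).obj
      (((tensorLeft N).mapHomologicalComplex (ComplexShape.up ℤ)).obj P) :=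
  HomologicalComplex.Hom.isoOfComponents
    (fun j => Functor.Monoidal.μIso (ModuleCat.extendScalars.{u, u, u} φ) N (P.X j))
    (by
      intro i j _
      exact (Functor.LaxMonoidal.μ_natural_right (ModuleCat.extendScalars.{u, u, u} φ) N
        (P.d i j)).symm)

lemma termwiseFlat_extend (P : DRing.Cx A) (h : DRing.TermwiseFlat P) :
    DRing.TermwiseFlat (((ModuleCat.extendScalars.{u, u, u} φ).mapHomologicalComplex
        (ComplexShape.up ℤ)).obj P) := by
  intro i
  letI : Algebra A B := φ.toAlgebra
  haveI := h i
  exact inferInstanceAs (Module.Flat B (TensorProduct A B (P.X i)))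

lemma vanishesAbove_extend (P : DRing.Cx A) (b : ℤ) (h : DRing.VanishesAbove P b) :
    DRing.VanishesAbove (((ModuleCat.extendScalars.{u, u, u} φ).mapHomologicalComplex
        (ComplexShape.up ℤ)).obj P) b :=
  fun i hi => (ModuleCat.extendScalars.{u, u, u} φ).map_isZero (h i hi)

end One

section Family

variable {ι : Type*} {B : ι → Type u} [∀ i, CommRing (B i)] (φ : ∀ i, A →+* B i)
  (hflat : ∀ i, (φ i).Flat)
  (hzero : ∀ M : ModuleCat.{u} A,
      (∀ i, Subsingleton ((ModuleCat.extendScalars.{u, u, u} (φ i)).obj M)) → Subsingleton M)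

include hflat hzero in
lemma exactAt_of_exactAt_extend_family (K : DRing.Cx A) (j : ℤ)
    (h : ∀ i, (((ModuleCat.extendScalars.{u, u, u} (φ i)).mapHomologicalComplex
      (ComplexShape.up ℤ)).obj K).ExactAt j) : K.ExactAt j := by
  rw [HomologicalComplex.exactAt_iff_isZero_homology, ModuleCat.isZero_iff_subsingleton]
  refine hzero _ (fun i => ?_)
  haveI := preservesFiniteLimits_extendScalars (φ i) (hflat i)
  haveI := preservesFiniteColimits_extendScalars (φ i)
  rw [← ModuleCat.isZero_iff_subsingleton]
  have h1 := h i
  rw [HomologicalComplex.exactAt_iff_isZero_homology] at h1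
  exact h1.of_iso ((K.sc j).mapHomologyIso (ModuleCat.extendScalars.{u, u, u} (φ i))).symm

include hflat hzero in
/-- descent of tor amplitude along a jointly faithfully flat family. -/
theorem hasTorAmplitudeIn_of_extend_family (K : DRing.Cx A) (a b : ℤ)
    (h : ∀ i, DRing.HasTorAmplitudeIn (B i) a b
      (DRing.toD (((ModuleCat.extendScalars.{u, u, u} (φ i)).mapHomologicalComplex
        (ComplexShape.up ℤ)).obj K))) :
    DRing.HasTorAmplitudeIn A a b (DRing.toD K) := by
  have hKb : ∀ j, b < j → K.ExactAt j := fun j hj =>
    exactAt_of_exactAt_extend_family φ hflat hzero K j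
      (fun i => exactAt_of_hasTorAmplitudeIn _ a b (h i) j (Or.inr hj))
  obtain ⟨P, u, hP, hPb, hu⟩ := exists_projective_resolution_map K b hKb
  have hPfl : DRing.TermwiseFlat P := fun i => flat_of_projective_obj _ (hP i)
  haveI := hu
  refine hasTorAmplitudeIn_of_iso (asIso (DerivedCategory.Q.map u)) ?_
  refine hasTorAmplitudeIn_of_tvl P b hPb hPfl a b ?_
    (fun j hj => HomologicalComplex.ExactAt.of_isZero (hPb j hj))
  intro N j hj
  refine exactAt_of_exactAt_extend_family φ hflat hzero _ j (fun i => ?_)
  haveI := preservesFiniteLimits_extendScalars (φ i) (hflat i)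
  haveI := preservesFiniteColimits_extendScalars (φ i)
  have e : DerivedCategory.Q.obj (((ModuleCat.extendScalars.{u, u, u} (φ i)).mapHomologicalComplex
        (ComplexShape.up ℤ)).obj P) ≅
      DRing.toD (((ModuleCat.extendScalars.{u, u, u} (φ i)).mapHomologicalComplex
        (ComplexShape.up ℤ)).obj K) :=
    (extendComplexIso (φ i) P).symm ≪≫
      (ModuleCat.extendScalars.{u, u, u} (φ i)).mapDerivedCategory.mapIso
        (asIso (DerivedCategory.Q.map u)) ≪≫ extendComplexIso (φ i) K
  have htvl := tvl_of_rep (h i) _ b (vanishesAbove_extend (φ i) P b hPb)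
    (termwiseFlat_extend (φ i) P hPfl) e
  exact exactAt_of_iso (extendTensorIso (φ i) N P) j (htvl _ j hj)

end Family

/-- faithfully flat descent of tor amplitude. -/
theorem hasTorAmplitudeIn_of_faithfullyFlat {B : Type u} [CommRing B] [Algebra A B]
    [Module.FaithfullyFlat A B] (K : DRing.Cx A) (a b : ℤ)
    (h : DRing.HasTorAmplitudeIn B a b (DRing.toD (((ModuleCat.extendScalars.{u, u, u}
      (algebraMap A B)).mapHomologicalComplex (ComplexShape.up ℤ)).obj K))) :
    DRing.HasTorAmplitudeIn A a b (DRing.toD K) := by
  refine hasTorAmplitudeIn_of_extend_family (ι := Unit) (B := fun _ => B)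
    (fun _ => algebraMap A B) (fun _ => ?_) ?_ K a b (fun _ => h)
  · rw [RingHom.flat_algebraMap_iff]
    infer_instance
  · intro M hM
    haveI := (subsingleton_extend_iff (B := B) M).1 (hM ())
    exact Module.FaithfullyFlat.lTensor_reflects_triviality A B M

/-- Zariski descent of tor amplitude. -/
theorem hasTorAmplitudeIn_of_localization_away {r : ℕ} (f : Fin r → A)
    (hf : Ideal.span (Set.range f) = ⊤) (K : DRing.Cx A) (a b : ℤ)
    (h : ∀ i, DRing.HasTorAmplitudeIn (Localization.Away (f i)) a b
      (DRing.toD (((ModuleCat.extendScalars.{u, u, u}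
        (algebraMap A (Localization.Away (f i)))).mapHomologicalComplex
          (ComplexShape.up ℤ)).obj K))) :
    DRing.HasTorAmplitudeIn A a b (DRing.toD K) := by
  refine hasTorAmplitudeIn_of_extend_family (B := fun i => Localization.Away (f i))
    (fun i => algebraMap A (Localization.Away (f i))) (fun i => ?_) ?_ K a b h
  · rw [RingHom.flat_algebraMap_iff]
    exact IsLocalization.flat (Localization.Away (f i)) (Submonoid.powers (f i))
  · intro M hM
    refine subsingleton_of_localization_span M (Set.range f) hf ?_
    rintro ⟨_, i, rfl⟩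
    exact (subsingleton_extend_iff M).1 (hM i)

end Groth.Agent.Lib.helper23.TA
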