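import Mathlib
import Groth.Prelude.Def_DRing2
import Groth.Prelude.Def_DDual2
import Groth.Agent.Lib.Helper23.TA12
import Groth.Agent.Lib.Helper23.TA6

/-!
# helper23: Tor-amplitude library, part 13 (flat descent of perfectness)
-/

set_option autoImplicit false
universe u
open CategoryTheory CategoryTheory.Limits TensorProduct MonoidalCategory ZeroObject

attribute [local instance] HasDerivedCategory.standard

namespace Groth.Agent.Lib.helper23.TA

open Groth.Agent.Lib.helper23.ExtSc Groth.Agent.Lib.helper23.PCohCore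
  Groth.Agent.Lib.helper23.DRingPC

variable {A : Type u} [CommRing A]

/-- perfect objects are `m`-pseudo-coherent for all `m` and have finite tor amplitude. -/
lemma npc_and_hasTorAmplitudeIn_of_isPerfect (K : Dual.D A) (h : DRing.IsPerfect A K) :
    (∀ m, NPC (FF A) m K) ∧ ∃ a b, DRing.HasTorAmplitudeIn A a b K := by
  obtain ⟨E, a, b, hz, hP, ⟨e⟩⟩ := h
  refine ⟨fun m => (npc_of_termwiseFiniteProjective A E b (fun i hi => hz i (Or.inr hi)) hP
    m).of_iso e, a, b, E, hz, fun i => ?_, ⟨e⟩⟩
  haveI := (hP i).2
  infer_instance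

lemma isPerfect_of_npc_of_hasTorAmplitudeIn (K : Dual.D A) (a b : ℤ)
    (h1 : ∀ m, NPC (FF A) m K) (h2 : DRing.HasTorAmplitudeIn A a b K) : DRing.IsPerfect A K := by
  obtain ⟨E, hP, hz, he⟩ := amp_FP_of_npc_of_hasTorAmplitudeIn K a b (h1 (a - 1)) h2
  exact ⟨E, a, b, hz, hP, he⟩

section Family

variable {ι : Type} [Finite ι] {B : ι → Type u} [∀ i, CommRing (B i)] (φ : ∀ i, A →+* B i)
  (hflat : ∀ i, (φ i).Flat)
  (hzero : ∀ M : ModuleCat.{u} A,
      (∀ i, Subsingleton ((ModuleCat.extendScalars.{u, u, u} (φ i)).obj M)) → Subsingleton M)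
  (hfin : ∀ M : ModuleCat.{u} A,
      (∀ i, Module.Finite (B i) ((ModuleCat.extendScalars.{u, u, u} (φ i)).obj M)) →
        Module.Finite A M)

include hflat hzero hfin in
/-- descent of perfectness along a finite jointly faithfully flat family. -/
theorem isPerfect_of_extend_family (K : DRing.Cx A)
    (h : ∀ i, DRing.IsPerfect (B i)
      (DRing.toD (((ModuleCat.extendScalars.{u, u, u} (φ i)).mapHomologicalComplex
        (ComplexShape.up ℤ)).obj K))) :
    DRing.IsPerfect A (DRing.toD K) := by
  have h1 := fun i => npc_and_hasTorAmplitudeIn_of_isPerfect _ (h i)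
  choose a b hab using fun i => (h1 i).2
  obtain ⟨a₀, ha₀⟩ := (Set.finite_range a).bddBelow
  obtain ⟨b₀, hb₀⟩ := (Set.finite_range b).bddAbove
  refine isPerfect_of_npc_of_hasTorAmplitudeIn _ a₀ b₀
    (fun m => npc_of_npc_extend_family φ hflat hzero hfin K m (fun i => (h1 i).1 m)) ?_
  exact hasTorAmplitudeIn_of_extend_family φ hflat hzero K a₀ b₀
    (fun i => hasTorAmplitudeIn_mono (hab i) (ha₀ ⟨i, rfl⟩) (hb₀ ⟨i, rfl⟩))

end Family

/-- faithfully flat descent of perfectness. -/
theorem isPerfect_of_faithfullyFlat {B : Type u} [CommRing B] [Algebra A B]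
    [Module.FaithfullyFlat A B] (K : DRing.Cx A)
    (h : DRing.IsPerfect B (DRing.toD (((ModuleCat.extendScalars.{u, u, u}
      (algebraMap A B)).mapHomologicalComplex (ComplexShape.up ℤ)).obj K))) :
    DRing.IsPerfect A (DRing.toD K) := by
  refine isPerfect_of_extend_family (ι := Unit) (B := fun _ => B)
    (fun _ => algebraMap A B) (fun _ => ?_) ?_ ?_ K (fun _ => h)
  · rw [RingHom.flat_algebraMap_iff]
    infer_instance
  · intro M hM
    haveI := (subsingleton_extend_iff (B := B) M).1 (hM ())
    exact Module.FaithfullyFlat.lTensor_reflects_triviality A B M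
  · intro M hM
    exact finite_of_faithfullyFlat M ((finite_extend_iff (B := B) M).1 (hM ()))

/-- Zariski descent of perfectness. -/
theorem isPerfect_of_localization_away {r : ℕ} (f : Fin r → A)
    (hf : Ideal.span (Set.range f) = ⊤) (K : DRing.Cx A)
    (h : ∀ i, DRing.IsPerfect (Localization.Away (f i))
      (DRing.toD (((ModuleCat.extendScalars.{u, u, u}
        (algebraMap A (Localization.Away (f i)))).mapHomologicalComplex
          (ComplexShape.up ℤ)).obj K))) :
    DRing.IsPerfect A (DRing.toD K) := by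
  refine isPerfect_of_extend_family (B := fun i => Localization.Away (f i))
    (fun i => algebraMap A (Localization.Away (f i))) (fun i => ?_) ?_ ?_ K h
  · rw [RingHom.flat_algebraMap_iff]
    exact IsLocalization.flat (Localization.Away (f i)) (Submonoid.powers (f i))
  · intro M hM
    refine subsingleton_of_localization_span M (Set.range f) hf ?_
    rintro ⟨_, i, rfl⟩
    exact (subsingleton_extend_iff M).1 (hM i)
  · intro M hM
    refine finite_of_localization_span M (Set.range f) hf ?_
    rintro ⟨_, i, rfl⟩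
    exact (finite_extend_iff M).1 (hM i)

end Groth.Agent.Lib.helper23.TA
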