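import Mathlib
import Groth.Prelude.Def_DRing2
import Groth.Prelude.Def_DDual2
import Groth.Agent.Lib.Helper23.FibVan
import Groth.Agent.Lib.Helper23.TA13

/-!
# helper23: perfectness from vanishing of the cohomology of the fibres, global version (S6974)
-/

set_option autoImplicit false
universe u
open CategoryTheory CategoryTheory.Limits TensorProduct

attribute [local instance] HasDerivedCategory.standard

namespace Groth.Agent.Lib.helper23.FibVan

open Groth.Agent.Lib.helper23.TA Groth.Agent.Lib.helper23.PCohAmp
  Groth.Agent.Lib.helper23.PerfThick Groth.Agent.Lib.helper23.ExtSc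

section General

variable {A B C : Type u} [CommRing A] [CommRing B] [CommRing C]

/-- flat extension of scalars preserves exactness. -/
lemma exactAt_extend_of_flat (ψ : A →+* B) (hψ : ψ.Flat) (K : DRing.Cx A) (i : ℤ)
    (h : K.ExactAt i) :
    (((ModuleCat.extendScalars.{u, u, u} ψ).mapHomologicalComplex
      (ComplexShape.up ℤ)).obj K).ExactAt i := by
  haveI := preservesFiniteLimits_extendScalars ψ hψ
  haveI := preservesFiniteColimits_extendScalars ψ
  rw [HomologicalComplex.exactAt_iff_isZero_homology] at h ⊢
  exact ((ModuleCat.extendScalars.{u, u, u} ψ).map_isZero h).of_iso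
    ((K.sc i).mapHomologyIso (ModuleCat.extendScalars.{u, u, u} ψ))

/-- extension of scalars along a composition, for complexes. -/
noncomputable def extendCompIso (f : A →+* B) (g : B →+* C) (E : DRing.Cx A) :
    ((ModuleCat.extendScalars.{u, u, u} (g.comp f)).mapHomologicalComplex
      (ComplexShape.up ℤ)).obj E ≅
    ((ModuleCat.extendScalars.{u, u, u} g).mapHomologicalComplex (ComplexShape.up ℤ)).obj
      (((ModuleCat.extendScalars.{u, u, u} f).mapHomologicalComplex (ComplexShape.up ℤ)).obj E) :=
  HomologicalComplex.Hom.isoOfComponents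
    (fun j => (ModuleCat.extendScalarsComp f g).app (E.X j))
    (by
      intro i j _
      exact ((ModuleCat.extendScalarsComp f g).hom.naturality (E.d i j)).symm)

end General

section Identify

variable {R : Type u} [CommRing R] (m : Ideal R) [m.IsPrime]

/-- exactness of the fibre over `R ⧸ m` gives exactness of the fibre of the localization over the
residue field. -/
lemma exactAt_extend_residue_of_quotient (E : DRing.Cx R) (i : ℤ)
    (h : (((ModuleCat.extendScalars.{u, u, u} (algebraMap R (R ⧸ m))).mapHomologicalComplex
      (ComplexShape.up ℤ)).obj E).ExactAt i) :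
    (((ModuleCat.extendScalars.{u, u, u}
      (algebraMap (Localization.AtPrime m)
        (IsLocalRing.ResidueField (Localization.AtPrime m)))).mapHomologicalComplex
          (ComplexShape.up ℤ)).obj
      (((ModuleCat.extendScalars.{u, u, u}
        (algebraMap R (Localization.AtPrime m))).mapHomologicalComplex
          (ComplexShape.up ℤ)).obj E)).ExactAt i := by
  have hflat : (algebraMap (R ⧸ m) m.ResidueField).Flat := by
    rw [RingHom.flat_algebraMap_iff]
    exact IsLocalization.flat m.ResidueField (nonZeroDivisors (R ⧸ m))
  have h1 := exactAt_extend_of_flat (algebraMap (R ⧸ m) m.ResidueField) hflat _ i h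
  have h2 := exactAt_of_iso (extendCompIso (algebraMap R (R ⧸ m))
    (algebraMap (R ⧸ m) m.ResidueField) E).symm i h1
  have heq : (algebraMap (R ⧸ m) m.ResidueField).comp (algebraMap R (R ⧸ m)) =
      (algebraMap (Localization.AtPrime m) m.ResidueField).comp
        (algebraMap R (Localization.AtPrime m)) := by
    rw [← IsScalarTower.algebraMap_eq, ← IsScalarTower.algebraMap_eq]
  rw [heq] at h2
  exact exactAt_of_iso (extendCompIso (algebraMap R (Localization.AtPrime m))
    (algebraMap (Localization.AtPrime m) m.ResidueField) E) i h2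

end Identify

section Local2

variable {R : Type u} [CommRing R] [IsLocalRing R]

lemma exactAt_of_exactAt_extend_residue (E : DRing.Cx R) (hE : DRing.TermwiseFiniteFree E) (i : ℤ)
    (h : (((ModuleCat.extendScalars.{u, u, u}
      (algebraMap R (IsLocalRing.ResidueField R))).mapHomologicalComplex
        (ComplexShape.up ℤ)).obj E).ExactAt i) : E.ExactAt i := by
  haveI := (hE i).1
  haveI := (hE (i + 1)).1
  haveI := (hE (i + 1)).2
  have key := exact_and_free_of_residue_exact (E.d (i - 1) i).hom (E.d i (i + 1)).hom
      (by rw [← ModuleCat.hom_comp, E.d_comp_d]; rfl)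
      (exact_lTensor_of_exactAt_extend E i h)
  rw [HomologicalComplex.exactAt_iff' _ (i - 1) i (i + 1) (by simp) (by simp)]
  exact (ShortComplex.ShortExact.moduleCat_exact_iff_function_exact _).2 key.1

/-- the local statement: vanishing of the cohomology of the fibre outside `[a, b]` gives perfect
amplitude in `[a, b]`. -/
theorem amp_FP_of_residue_exact_outside (E : DRing.Cx R) (c : ℤ) (hc : DRing.VanishesAbove E c)
    (hE : DRing.TermwiseFiniteFree E) (a b : ℤ)
    (h : ∀ i : ℤ, (i < a ∨ b < i) → (((ModuleCat.extendScalars.{u, u, u}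
      (algebraMap R (IsLocalRing.ResidueField R))).mapHomologicalComplex
        (ComplexShape.up ℤ)).obj E).ExactAt i) :
    Amp (FP R) a b (DerivedCategory.Q.obj E) := by
  have h1 := amp_FP_of_residue_exact_below E c hc hE a (fun i hi => h i (Or.inl hi))
  refine amp_truncate_to (FP R) (FP_kernel R) a b c _ (fun i hi => ?_) h1
  have hex := exactAt_of_exactAt_extend_residue E hE i (h i (Or.inr hi))
  rw [HomologicalComplex.exactAt_iff_isZero_homology] at hex
  exact hex.of_iso ((DerivedCategory.homologyFunctorFactors _ i).app E)

end Local2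

section Global

variable (R : Type u) [CommRing R]

lemma subsingleton_of_forall_maximal_extend (M : ModuleCat.{u} R)
    (h : ∀ m : MaximalSpectrum R, Subsingleton ((ModuleCat.extendScalars.{u, u, u}
      (algebraMap R (Localization.AtPrime m.asIdeal))).obj M)) : Subsingleton M := by
  refine Module.subsingleton_of_localization_maximal
    (fun P _ => Localization.AtPrime P ⊗[R] M)
    (fun P _ => TensorProduct.mk R (Localization.AtPrime P) M 1) ?_
  intro P hP
  exact (subsingleton_extend_iff (B := Localization.AtPrime P) M).1 (h ⟨P, hP⟩)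

/-- S6974. -/
theorem isPerfect_and_hasTorAmplitudeIn_of_fibres
    [∀ m : Ideal R, DRing.HasLBaseChange (Ideal.Quotient.mk m)] (K : Dual.D R)
    (hK : DRing.IsPseudoCoherent' R K) (a b : ℤ)
    (h : ∀ (m : Ideal R), m.IsMaximal → ∀ i : ℤ, (i < a ∨ b < i) →
      Subsingleton (Dual.HD (R ⧸ m) ((DRing.LBaseChange (Ideal.Quotient.mk m)).obj K) i)) :
    DRing.IsPerfect R K ∧ DRing.HasTorAmplitudeIn R a b K := by
  have hnpc : ∀ n, PCohCore.NPC (DRingPC.FF R) n K :=
    (DRingPC.isPseudoCoherent'_iff_npc R K).1 hK
  obtain ⟨E, c, hc, hE, ⟨e⟩⟩ := hK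
  have hproj : ∀ i, Projective (E.X i) := fun i => by
    haveI := (hE i).1
    haveI := (hE i).2
    exact (IsProjective.iff_projective (R := R) (E.X i)).1 Module.Projective.of_free
  have hTA : DRing.HasTorAmplitudeIn R a b (DRing.toD E) := by
    refine hasTorAmplitudeIn_of_extend_family (ι := MaximalSpectrum R)
      (B := fun m => Localization.AtPrime m.asIdeal)
      (fun m => algebraMap R (Localization.AtPrime m.asIdeal)) (fun m => ?_)
      (subsingleton_of_forall_maximal_extend R) E a b (fun m => ?_)
    · rw [RingHom.flat_algebraMap_iff]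
      exact IsLocalization.flat (Localization.AtPrime m.asIdeal) m.asIdeal.primeCompl
    · haveI := m.isMaximal
      haveI : (DRing.LBaseChange (Ideal.Quotient.mk m.asIdeal)).IsRightKanExtension
          ((DRing.baseChangeKh (Ideal.Quotient.mk m.asIdeal)).totalLeftDerivedCounit
            DerivedCategory.Qh
            (HomotopyCategory.quasiIso (ModuleCat.{u} R) (ComplexShape.up ℤ))) :=
        CategoryTheory.Functor.IsLeftDerivedFunctor.isRightKanExtension _ _
          (HomotopyCategory.quasiIso (ModuleCat.{u} R) (ComplexShape.up ℤ))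
      obtain ⟨eL⟩ := LDer.nonempty_iso_of_projective
        (ModuleCat.extendScalars.{u, u, u} (Ideal.Quotient.mk m.asIdeal))
        (DRing.LBaseChange (Ideal.Quotient.mk m.asIdeal))
        ((DRing.baseChangeKh (Ideal.Quotient.mk m.asIdeal)).totalLeftDerivedCounit
          DerivedCategory.Qh
          (HomotopyCategory.quasiIso (ModuleCat.{u} R) (ComplexShape.up ℤ))) E c hproj hc
      have hex : ∀ i : ℤ, (i < a ∨ b < i) → (((ModuleCat.extendScalars.{u, u, u}
          (algebraMap R (R ⧸ m.asIdeal))).mapHomologicalComplex
            (ComplexShape.up ℤ)).obj E).ExactAt i := by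
        intro i hi
        rw [HomologicalComplex.exactAt_iff_isZero_homology]
        haveI := h m.asIdeal m.isMaximal i hi
        have hz : IsZero ((DerivedCategory.homologyFunctor
            (ModuleCat.{u} (R ⧸ m.asIdeal)) i).obj
            ((DRing.LBaseChange (Ideal.Quotient.mk m.asIdeal)).obj K)) :=
          ModuleCat.isZero_of_subsingleton _
        exact (hz.of_iso ((DerivedCategory.homologyFunctor _ i).mapIso
          (eL.symm ≪≫ (DRing.LBaseChange (Ideal.Quotient.mk m.asIdeal)).mapIso
            e))).of_iso ((DerivedCategory.homologyFunctorFactors _ i).app _).symm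
      obtain ⟨F, hP, hz, he⟩ := amp_FP_of_residue_exact_outside
        (((ModuleCat.extendScalars.{u, u, u}
          (algebraMap R (Localization.AtPrime m.asIdeal))).mapHomologicalComplex
            (ComplexShape.up ℤ)).obj E) c
        (vanishesAbove_extend _ E c hc)
        (fun i => FF_extend (algebraMap R (Localization.AtPrime m.asIdeal)) _ (hE i)) a b
        (fun i hi => exactAt_extend_residue_of_quotient m.asIdeal E i (hex i hi))
      refine ⟨F, hz, fun i => ?_, he⟩
      haveI := (hP i).2
      infer_instance
  have hTA' := hasTorAmplitudeIn_of_iso e hTA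
  exact ⟨isPerfect_of_npc_of_hasTorAmplitudeIn K a b hnpc hTA', hTA'⟩

end Global

end Groth.Agent.Lib.helper23.FibVan
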