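import Mathlib
import Groth.Prelude.Def_DRing2
import Groth.Prelude.Def_DDual2
import Groth.Agent.Lib.Helper23.FibVan2
import Groth.Agent.Lib.Helper23.TA12
import Groth.Agent.Lib.Helper13.RKF2
import Groth.Agent.S6948

/-!
# helper23: derived base change along a composition, on bounded above flat complexes;
tor amplitude from the fibre over `R ⧸ I`, `I ⊆ rad R` (S15232)
-/

set_option autoImplicit false
universe u
open CategoryTheory CategoryTheory.Limits TensorProduct

attribute [local instance] HasDerivedCategory.standard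

namespace Groth.Agent.Lib.helper23.LBCComp

open Groth.Agent.Lib.helper23.TA Groth.Agent.Lib.helper23.FibVan

variable {R S T : Type u} [CommRing R] [CommRing S] [CommRing T]

/-- derived base change is computed termwise on bounded above complexes of flat modules. -/
lemma lbc_iso (φ : R →+* S) [DRing.HasLBaseChange φ] (E : DRing.Cx R) (c : ℤ)
    (hc : DRing.VanishesAbove E c) (hfl : DRing.TermwiseFlat E) :
    Nonempty ((DRing.LBaseChange φ).obj (DerivedCategory.Q.obj E) ≅
      DerivedCategory.Q.obj (((ModuleCat.extendScalars.{u, u, u} φ).mapHomologicalComplex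
        (ComplexShape.up ℤ)).obj E)) := by
  haveI : (DRing.LBaseChange φ).IsRightKanExtension
      ((DRing.baseChangeKh φ).totalLeftDerivedCounit DerivedCategory.Qh
        (HomotopyCategory.quasiIso (ModuleCat.{u} R) (ComplexShape.up ℤ))) :=
    CategoryTheory.Functor.IsLeftDerivedFunctor.isRightKanExtension _ _
      (HomotopyCategory.quasiIso (ModuleCat.{u} R) (ComplexShape.up ℤ))
  exact TA.nonempty_iso_of_flat
    (ModuleCat.extendScalars.{u, u, u} φ) (DRing.LBaseChange φ)
    ((DRing.baseChangeKh φ).totalLeftDerivedCounit DerivedCategory.Qh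
      (HomotopyCategory.quasiIso (ModuleCat.{u} R) (ComplexShape.up ℤ)))
    (TA.tensorLike_extendScalars φ) E c hc hfl

/-- derived base change along a composition. -/
theorem lbc_comp (φ : R →+* S) (ψ : S →+* T) (χ : R →+* T) (h : χ = ψ.comp φ)
    [DRing.HasLBaseChange φ] [DRing.HasLBaseChange ψ] [DRing.HasLBaseChange χ]
    (E : DRing.Cx R) (c : ℤ) (hc : DRing.VanishesAbove E c) (hfl : DRing.TermwiseFlat E) :
    Nonempty ((DRing.LBaseChange χ).obj (DerivedCategory.Q.obj E) ≅
      (DRing.LBaseChange ψ).obj ((DRing.LBaseChange φ).obj (DerivedCategory.Q.obj E))) := by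
  subst h
  obtain ⟨e1⟩ := lbc_iso (ψ.comp φ) E c hc hfl
  obtain ⟨e2⟩ := lbc_iso φ E c hc hfl
  obtain ⟨e3⟩ := lbc_iso ψ _ c (vanishesAbove_extend φ E c hc) (termwiseFlat_extend φ E hfl)
  exact ⟨e1 ≪≫ DerivedCategory.Q.mapIso (extendCompIso φ ψ E) ≪≫ e3.symm ≪≫
    (DRing.LBaseChange ψ).mapIso e2.symm⟩

/-- S15232. -/
theorem hasTorAmplitudeIn_of_quotient_le_jacobson (R : Type u) [CommRing R]
    (I : Ideal R) (hI : I ≤ Ideal.jacobson (⊥ : Ideal R))
    [DRing.HasLBaseChange (Ideal.Quotient.mk I)]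
    (P : Dual.D R) (hP : DRing.IsPseudoCoherent' R P) (a b : ℤ)
    (h : DRing.HasTorAmplitudeIn (R ⧸ I) a b ((DRing.LBaseChange (Ideal.Quotient.mk I)).obj P)) :
    DRing.HasTorAmplitudeIn R a b P := by
  haveI : ∀ m : Ideal R, DRing.HasLBaseChange (Ideal.Quotient.mk m) :=
    fun m => Groth.Agent.Lib.helper13.RKF.hasLBaseChange _
  refine (isPerfect_and_hasTorAmplitudeIn_of_fibres R P hP a b ?_).2
  intro m hm i hi
  have hIm : I ≤ m := le_trans hI (sInf_le ⟨bot_le, hm⟩)
  haveI : DRing.HasLBaseChange (Ideal.Quotient.factor hIm) :=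
    Groth.Agent.Lib.helper13.RKF.hasLBaseChange _
  obtain ⟨E, c, hc, hE, ⟨e⟩⟩ := hP
  have hfl : DRing.TermwiseFlat E := fun j => by
    haveI := (hE j).1
    haveI := (hE j).2
    infer_instance
  obtain ⟨e1⟩ := lbc_comp (Ideal.Quotient.mk I) (Ideal.Quotient.factor hIm) (Ideal.Quotient.mk m)
    (Ideal.Quotient.factor_comp_mk hIm).symm E c hc hfl
  have h1 : DRing.HasTorAmplitudeIn (R ⧸ m) a b
      ((DRing.LBaseChange (Ideal.Quotient.factor hIm)).obj
        ((DRing.LBaseChange (Ideal.Quotient.mk I)).obj P)) :=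
    Groth.Agent.S6948.result _ _ a b h
  have h2 : DRing.HasTorAmplitudeIn (R ⧸ m) a b ((DRing.LBaseChange (Ideal.Quotient.mk m)).obj P) :=
    hasTorAmplitudeIn_of_iso
      ((DRing.LBaseChange (Ideal.Quotient.factor hIm)).mapIso
        ((DRing.LBaseChange (Ideal.Quotient.mk I)).mapIso e.symm) ≪≫ e1.symm ≪≫
        (DRing.LBaseChange (Ideal.Quotient.mk m)).mapIso e) h1
  exact ModuleCat.subsingleton_of_isZero (isZero_homology_of_hasTorAmplitudeIn h2 i hi)

end Groth.Agent.Lib.helper23.LBCComp
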