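import Mathlib
import Groth.Agent.Lib.Helper23.PCohCore8
import Groth.Agent.Lib.Helper23.Devissage

set_option autoImplicit false
universe w v u
open CategoryTheory CategoryTheory.Limits HomologicalComplex CochainComplex
open CategoryTheory.Pretriangulated

namespace Groth.Agent.Lib.helper23.Devissage2

open Groth.Agent.Lib.helper23.PCohCore

variable {C : Type u} [Category.{v} C] [Abelian C] [HasDerivedCategory.{w} C]
  (Pr : DerivedCategory C → Prop)
  (hiso : ∀ X Y : DerivedCategory C, (X ≅ Y) → Pr X → Pr Y)
  (hzero : ∀ X : DerivedCategory C, IsZero X → Pr X)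
  (hext : ∀ T : Triangle (DerivedCategory C), T ∈ distTriang _ → Pr T.obj₁ → Pr T.obj₃ → Pr T.obj₂)

include hiso hzero hext in
/-- dévissage by terms for bounded complexes. -/
theorem devissage_terms' : ∀ (k : ℕ) (b : ℤ) (F : CochainComplex C ℤ),
    (∀ i : ℤ, b < i → IsZero (F.X i)) → (∀ i : ℤ, i ≤ b - k → IsZero (F.X i)) →
    (∀ i : ℤ, Pr (DerivedCategory.Q.obj
      ((HomologicalComplex.single C (ComplexShape.up ℤ) i).obj (F.X i)))) →
    Pr (DerivedCategory.Q.obj F) := by
  intro k
  induction k with
  | zero =>
    intro b F h1 h2 _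
    have hz : IsZero F := by
      rw [IsZero.iff_id_eq_zero]
      ext i
      have : IsZero (F.X i) := by
        by_cases h : b < i
        · exact h1 i h
        · exact h2 i (by simp; omega)
      exact this.eq_of_src _ _
    exact hzero _ (DerivedCategory.Q.map_isZero hz)
  | succ k ih =>
    intro b F hz hlow hfp
    let S := (HomologicalComplex.single C (ComplexShape.up ℤ) b).obj (F.X b)
    let ι : S ⟶ F := HomologicalComplex.mkHomFromSingle (𝟙 (F.X b)) (fun k hk => by
      simp only [ComplexShape.up_Rel] at hk
      subst hk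
      exact (hz (b + 1) (by omega)).eq_of_tgt _ _)
    haveI hιb : IsIso (ι.f b) := by
      dsimp [ι]
      rw [HomologicalComplex.mkHomFromSingle_f]
      infer_instance
    have hSz : ∀ i : ℤ, i ≠ b → IsZero (S.X i) := fun i hi =>
      HomologicalComplex.isZero_single_obj_X (ComplexShape.up ℤ) b _ i hi
    have hιf : ∀ i, Mono (ι.f i) := by
      intro i
      by_cases hi : i = b
      · subst hi; infer_instance
      · exact ⟨fun _ _ _ => (hSz i hi).eq_of_tgt _ _⟩
    haveI : Mono ι := HomologicalComplex.mono_of_mono_f ι hιf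
    let S₁ : ShortComplex (CochainComplex C ℤ) :=
      ShortComplex.mk ι (cokernel.π ι) (cokernel.condition ι)
    haveI : Mono S₁.f := by dsimp [S₁]; infer_instance
    haveI : Epi S₁.g := by dsimp [S₁]; infer_instance
    have hS₁ : S₁.ShortExact :=
      { exact := ShortComplex.exact_of_g_is_cokernel _ (cokernelIsCokernel ι) }
    have hS₁i := fun i => hS₁.map_of_exact (HomologicalComplex.eval C (ComplexShape.up ℤ) i)
    have hKiso : ∀ i : ℤ, i ≠ b → IsIso ((cokernel.π ι).f i) := by
      intro i hi
      haveI : Mono ((cokernel.π ι).f i) := (hS₁i i).exact.mono_g ((hSz i hi).eq_of_src _ _)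
      haveI : Epi ((cokernel.π ι).f i) := (hS₁i i).epi_g
      exact isIso_of_mono_of_epi _
    have hKb : IsZero ((cokernel ι).X b) := by
      haveI : Epi ((cokernel.π ι).f b) := (hS₁i b).epi_g
      refine IsZero.of_epi_eq_zero ((cokernel.π ι).f b) ?_
      rw [← cancel_epi (ι.f b), comp_zero, ← HomologicalComplex.comp_f, cokernel.condition,
        HomologicalComplex.zero_f]
    have hKz : ∀ i : ℤ, b - 1 < i → IsZero ((cokernel ι).X i) := by
      intro i hi
      by_cases hib : i = b
      · subst hib; exact hKb
      · haveI := hKiso i hib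
        exact (hz i (by omega)).of_iso (asIso ((cokernel.π ι).f i)).symm
    have hKlow : ∀ i : ℤ, i ≤ b - 1 - k → IsZero ((cokernel ι).X i) := by
      intro i hi
      have hib : i ≠ b := by omega
      haveI := hKiso i hib
      exact (hlow i (by push_cast; omega)).of_iso (asIso ((cokernel.π ι).f i)).symm
    have hK : Pr (DerivedCategory.Q.obj (cokernel ι)) := by
      refine ih (b - 1) (cokernel ι) hKz hKlow (fun i => ?_)
      by_cases hib : i = b
      · subst hib
        exact hzero _ (DerivedCategory.Q.map_isZero
          ((HomologicalComplex.single C (ComplexShape.up ℤ) i).map_isZero hKb))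
      · haveI := hKiso i hib
        exact hiso _ _ (DerivedCategory.Q.mapIso
          ((HomologicalComplex.single C (ComplexShape.up ℤ) i).mapIso
            (asIso ((cokernel.π ι).f i)))) (hfp i)
    have hS : Pr (DerivedCategory.Q.obj S) := hfp b
    exact hext _ (DerivedCategory.triangleOfSES_distinguished hS₁) hS hK

include hiso hzero hext in
/-- dévissage by cohomology objects for bounded objects. -/
theorem devissage_homology' : ∀ (k : ℕ) (b : ℤ) (F : DerivedCategory C),
    (∀ i : ℤ, b < i → IsZero ((DerivedCategory.homologyFunctor C i).obj F)) →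
    (∀ i : ℤ, i ≤ b - k → IsZero ((DerivedCategory.homologyFunctor C i).obj F)) →
    (∀ i : ℤ, Pr ((DerivedCategory.singleFunctor C i).obj
      ((DerivedCategory.homologyFunctor C i).obj F))) → Pr F := by
  intro k
  induction k with
  | zero =>
    intro b F h1 h2 _
    haveI : F.IsLE b := (DerivedCategory.isLE_iff F b).2 h1
    haveI : F.IsGE (b + 1) := (DerivedCategory.isGE_iff F (b + 1)).2
      (fun i hi => h2 i (by simp; omega))
    exact hzero _ (DerivedCategory.TStructure.t.isZero F b (b + 1) (by omega))
  | succ k ih =>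
    intro b F hac hlow hfp
    let t := DerivedCategory.TStructure.t (C := C)
    let T := (t.triangleLTGE b).obj F
    have hT : T ∈ distTriang _ := t.triangleLTGE_distinguished b F
    haveI h1LE : T.obj₁.IsLE (b - 1) := by
      dsimp [T]; infer_instance
    haveI h3GE : T.obj₃.IsGE b := by
      dsimp [T]; infer_instance
    have hz1 : ∀ i : ℤ, b - 1 < i → IsZero ((DerivedCategory.homologyFunctor C i).obj T.obj₁) :=
      fun i hi => DerivedCategory.isZero_of_isLE T.obj₁ (b - 1) i hi
    have hz3 : ∀ i : ℤ, i < b → IsZero ((DerivedCategory.homologyFunctor C i).obj T.obj₃) :=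
      fun i hi => DerivedCategory.isZero_of_isGE T.obj₃ b i hi
    have hz2 : ∀ i : ℤ, b < i → IsZero ((DerivedCategory.homologyFunctor C i).obj T.obj₂) := hac
    have hiso1 : ∀ i : ℤ, i < b → IsIso ((DerivedCategory.homologyFunctor C i).map T.mor₁) := by
      intro i hi
      haveI : Mono ((DerivedCategory.homologyFunctor C i).map T.mor₁) :=
        (DerivedCategory.HomologySequence.mono_homologyMap_mor₁_iff _ hT (i - 1) i (by simp)).2
          ((hz3 (i - 1) (by omega)).eq_of_src _ _)
      haveI : Epi ((DerivedCategory.homologyFunctor C i).map T.mor₁) :=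
        (DerivedCategory.HomologySequence.epi_homologyMap_mor₁_iff _ hT i).2
          ((hz3 i hi).eq_of_tgt _ _)
      exact isIso_of_mono_of_epi _
    have hX1 : Pr T.obj₁ := by
      refine ih (b - 1) T.obj₁ hz1 (fun i hi => ?_) (fun i => ?_)
      · have hib : i < b := by omega
        haveI := hiso1 i hib
        have hz2' : IsZero ((DerivedCategory.homologyFunctor C i).obj T.obj₂) :=
          hlow i (by push_cast at hi ⊢; omega)
        exact hz2'.of_iso (asIso ((DerivedCategory.homologyFunctor C i).map T.mor₁))
      · by_cases hib : i < b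
        · haveI := hiso1 i hib
          exact hiso _ _ ((DerivedCategory.singleFunctor C i).mapIso
            (asIso ((DerivedCategory.homologyFunctor C i).map T.mor₁)).symm) (hfp i)
        · exact hzero _ ((DerivedCategory.singleFunctor C i).map_isZero (hz1 i (by omega)))
    haveI h3LE : T.obj₃.IsLE b := by
      rw [DerivedCategory.isLE_iff]
      intro i hi
      exact (DerivedCategory.HomologySequence.exact₃ _ hT i (i + 1) rfl).isZero_of_both_zeros
        ((hz2 i hi).eq_of_src _ _) ((hz1 (i + 1) (by omega)).eq_of_tgt _ _)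
    obtain ⟨Y, ⟨e⟩⟩ := DerivedCategory.exists_iso_singleFunctor_obj_of_isGE_of_isLE T.obj₃ b
    haveI : Mono ((DerivedCategory.homologyFunctor C b).map T.mor₂) :=
      (DerivedCategory.HomologySequence.mono_homologyMap_mor₂_iff _ hT b).2
        ((hz1 b (by omega)).eq_of_src _ _)
    haveI : Epi ((DerivedCategory.homologyFunctor C b).map T.mor₂) :=
      (DerivedCategory.HomologySequence.epi_homologyMap_mor₂_iff _ hT b (b + 1) rfl).2
        ((hz1 (b + 1) (by omega)).eq_of_tgt _ _)
    have hiso2 : IsIso ((DerivedCategory.homologyFunctor C b).map T.mor₂) :=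
      isIso_of_mono_of_epi _
    obtain ⟨m₂, hm₂⟩ : ∃ m₂ : (DerivedCategory.homologyFunctor C b).obj F ⟶
        (DerivedCategory.homologyFunctor C b).obj T.obj₃,
        m₂ = (DerivedCategory.homologyFunctor C b).map T.mor₂ := ⟨_, rfl⟩
    haveI : IsIso m₂ := by rw [hm₂]; exact hiso2
    let iso₀ : (DerivedCategory.homologyFunctor C b).obj F ≅ Y :=
      asIso m₂ ≪≫
        (DerivedCategory.homologyFunctor C b).mapIso e ≪≫ homologySingleIso b Y
    have hY' : Pr ((DerivedCategory.singleFunctor C b).obj Y) :=
      hiso _ _ ((DerivedCategory.singleFunctor C b).mapIso iso₀) (hfp b)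
    have hX3 : Pr T.obj₃ := hiso _ _ e.symm hY'
    exact hext T hT hX1 hX3

end Groth.Agent.Lib.helper23.Devissage2
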