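import Mathlib
import Groth.Prelude.Def_DRing2
import Groth.Prelude.Def_DDual2
import Groth.Agent.Lib.Helper23.TA5
import Groth.Agent.Lib.Helper23.Devissage2

/-!
# helper23: Tor-amplitude library, part 7 (extensions, dévissage)
-/

set_option autoImplicit false
universe u
open CategoryTheory CategoryTheory.Limits TensorProduct MonoidalCategory ZeroObject
open CategoryTheory.Pretriangulated

attribute [local instance] HasDerivedCategory.standard

namespace Groth.Agent.Lib.helper23.TA

variable {A : Type u} [CommRing A]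

lemma hasTorAmplitudeIn_of_isZero (a b : ℤ) {K : Dual.D A} (h : IsZero K) :
    DRing.HasTorAmplitudeIn A a b K := by
  refine ⟨0, fun i _ => (HomologicalComplex.eval _ _ i).map_isZero (Limits.isZero_zero _),
    fun i => ?_, ⟨(DerivedCategory.Q.map_isZero (Limits.isZero_zero _)).iso h⟩⟩
  haveI : Subsingleton ((0 : DRing.Cx A).X i) := ModuleCat.subsingleton_of_isZero
    ((HomologicalComplex.eval _ _ i).map_isZero (Limits.isZero_zero _))
  infer_instance

/-- extensions. -/
theorem hasTorAmplitudeIn_ext (T : Triangle (Dual.D A)) (hT : T ∈ distTriang _) {a b : ℤ}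
    (h₁ : DRing.HasTorAmplitudeIn A a b T.obj₁) (h₃ : DRing.HasTorAmplitudeIn A a b T.obj₃) :
    DRing.HasTorAmplitudeIn A a b T.obj₂ := by
  have hT' := inv_rot_of_distTriang _ hT
  have h₃' := hasTorAmplitudeIn_shift h₃ (-1)
  exact hasTorAmplitudeIn_cone T.invRotate hT' h₃' h₁ (by omega) le_rfl (by omega) le_rfl

/-- a module placed in degree `i`. -/
lemma hasTorAmplitudeIn_single {a b : ℤ} (Y : ModuleCat.{u} A) (i : ℤ)
    (h : DRing.HasTorAmplitudeIn A (a - i) (b - i)
      ((DerivedCategory.singleFunctor (ModuleCat.{u} A) 0).obj Y)) :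
    DRing.HasTorAmplitudeIn A a b ((DerivedCategory.singleFunctor (ModuleCat.{u} A) i).obj Y) := by
  have h1 := hasTorAmplitudeIn_shift h (-i)
  have e1 : a - i - -i = a := by ring
  have e2 : b - i - -i = b := by ring
  rw [e1, e2] at h1
  exact hasTorAmplitudeIn_of_iso
    (((DerivedCategory.singleFunctors (ModuleCat.{u} A)).shiftIso (-i) i 0 (by simp)).app Y) h1

/-- dévissage by terms. -/
theorem hasTorAmplitudeIn_of_terms (a b : ℤ) (K : DRing.Cx A) (c d : ℤ)
    (hcd : DRing.VanishesOutside K c d)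
    (hK : ∀ i : ℤ, DRing.HasTorAmplitudeIn A (a - i) (b - i)
      ((DerivedCategory.singleFunctor (ModuleCat.{u} A) 0).obj (K.X i))) :
    DRing.HasTorAmplitudeIn A a b (DerivedCategory.Q.obj K) := by
  refine Devissage2.devissage_terms' (fun X => DRing.HasTorAmplitudeIn A a b X)
    (fun X Y e h => hasTorAmplitudeIn_of_iso e h) (fun X h => hasTorAmplitudeIn_of_isZero a b h)
    (fun T hT h1 h3 => hasTorAmplitudeIn_ext T hT h1 h3) (d - c + 1).toNat d K
    (fun i hi => hcd i (Or.inr hi)) (fun i hi => hcd i (Or.inl ?_)) (fun i => ?_)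
  · have := Int.self_le_toNat (d - c + 1)
    omega
  · exact hasTorAmplitudeIn_of_iso ((DerivedCategory.singleFunctorIsoCompQ _ i).app (K.X i))
      (hasTorAmplitudeIn_single (K.X i) i (hK i))

/-- dévissage by cohomology. -/
theorem hasTorAmplitudeIn_of_homology (a b : ℤ) (K : Dual.D A) (c d : ℤ)
    (hcd : ∀ i : ℤ, (i < c ∨ d < i) → IsZero ((DerivedCategory.homologyFunctor _ i).obj K))
    (hK : ∀ i : ℤ, DRing.HasTorAmplitudeIn A (a - i) (b - i)
      ((DerivedCategory.singleFunctor (ModuleCat.{u} A) 0).obj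
        ((DerivedCategory.homologyFunctor _ i).obj K))) :
    DRing.HasTorAmplitudeIn A a b K := by
  refine Devissage2.devissage_homology' (fun X => DRing.HasTorAmplitudeIn A a b X)
    (fun X Y e h => hasTorAmplitudeIn_of_iso e h) (fun X h => hasTorAmplitudeIn_of_isZero a b h)
    (fun T hT h1 h3 => hasTorAmplitudeIn_ext T hT h1 h3) (d - c + 1).toNat d K
    (fun i hi => hcd i (Or.inr hi)) (fun i hi => hcd i (Or.inl ?_)) (fun i => ?_)
  · have := Int.self_le_toNat (d - c + 1)
    omega
  · exact hasTorAmplitudeIn_single _ i (hK i)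

end Groth.Agent.Lib.helper23.TA
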