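import Mathlib
import Groth.Prelude.Def_DRing2
import Groth.Prelude.Def_DDual2
import Groth.Agent.Lib.Helper23.TA7

/-!
# helper23: Tor-amplitude library, part 8 (derived functors of exact functors; `LTensor`)
-/

set_option autoImplicit false
universe u
open CategoryTheory CategoryTheory.Limits TensorProduct MonoidalCategory ZeroObject
open CategoryTheory.Pretriangulated

attribute [local instance] HasDerivedCategory.standard

namespace Groth.Agent.Lib.helper23.TA

variable {A B : Type u} [CommRing A] [CommRing B]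

section Inverts

variable (G : ModuleCat.{u} A ⥤ ModuleCat.{u} B) [G.Additive]
  (LF : Dual.D A ⥤ Dual.D B)
  (α : DerivedCategory.Qh ⋙ LF ⟶
    G.mapHomotopyCategory (ComplexShape.up ℤ) ⋙ DerivedCategory.Qh)
  [LF.IsRightKanExtension α]

lemma isInvertedBy_of_preserves_quasiIso
    (hG : ∀ {X Y : DRing.Cx A} (f : X ⟶ Y), QuasiIso f →
      QuasiIso ((G.mapHomologicalComplex (ComplexShape.up ℤ)).map f)) :
    (HomotopyCategory.quasiIso (ModuleCat.{u} A) (ComplexShape.up ℤ)).IsInvertedBy
      (G.mapHomotopyCategory (ComplexShape.up ℤ) ⋙ DerivedCategory.Qh) := by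
  intro X Y f hf
  obtain ⟨X', rfl⟩ := HomotopyCategory.quotient_obj_surjective X
  obtain ⟨Y', rfl⟩ := HomotopyCategory.quotient_obj_surjective Y
  obtain ⟨f', rfl⟩ := (HomotopyCategory.quotient _ _).map_surjective f
  rw [HomotopyCategory.quotient_map_mem_quasiIso_iff, HomologicalComplex.mem_quasiIso_iff] at hf
  have h1 := hG f' hf
  rw [Functor.comp_map, Functor.mapHomotopyCategory_map]
  exact Localization.inverts DerivedCategory.Qh
    (HomotopyCategory.quasiIso (ModuleCat.{u} B) (ComplexShape.up ℤ)) _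
    ((HomotopyCategory.quotient_map_mem_quasiIso_iff _).2
      ((HomologicalComplex.mem_quasiIso_iff _).2 h1))

include α in
/-- the left derived functor of a functor preserving quasi-isomorphisms is computed termwise on
all complexes. -/
theorem nonempty_iso_of_preserves_quasiIso
    (hG : ∀ {X Y : DRing.Cx A} (f : X ⟶ Y), QuasiIso f →
      QuasiIso ((G.mapHomologicalComplex (ComplexShape.up ℤ)).map f)) (X : DRing.Cx A) :
    Nonempty (LF.obj (DerivedCategory.Q.obj X) ≅
      DerivedCategory.Q.obj ((G.mapHomologicalComplex (ComplexShape.up ℤ)).obj X)) := by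
  haveI : LF.IsLeftDerivedFunctor α
      (HomotopyCategory.quasiIso (ModuleCat.{u} A) (ComplexShape.up ℤ)) := ⟨inferInstance⟩
  haveI : IsIso α := Functor.isIso_of_isLeftDerivedFunctor_of_inverts LF α
    (isInvertedBy_of_preserves_quasiIso G hG)
  exact ⟨LF.mapIso ((DerivedCategory.quotientCompQhIso _).app X).symm ≪≫
    asIso (α.app ((HomotopyCategory.quotient _ (ComplexShape.up ℤ)).obj X)) ≪≫
    DerivedCategory.Qh.mapIso ((G.mapHomotopyCategoryFactors (ComplexShape.up ℤ)).app X) ≪≫
    (DerivedCategory.quotientCompQhIso _).app _⟩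

end Inverts

section LTensor

variable (R : Type u) [CommRing R]

/-- tensoring with the unit is isomorphic to the identity on complexes. -/
noncomputable def tensorRightUnitIso :
    (tensorRight (𝟙_ (ModuleCat.{u} R))).mapHomologicalComplex (ComplexShape.up ℤ) ≅ 𝟭 _ :=
  NatIso.mapHomologicalComplex (rightUnitorNatIso (ModuleCat.{u} R)) (ComplexShape.up ℤ) ≪≫
    Functor.mapHomologicalComplexIdIso _ _

lemma quasiIso_tensorRight_unit {X Y : DRing.Cx R} (f : X ⟶ Y) (hf : QuasiIso f) :
    QuasiIso (((tensorRight (𝟙_ (ModuleCat.{u} R))).mapHomologicalComplex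
      (ComplexShape.up ℤ)).map f) := by
  rw [← NatIso.naturality_2 (tensorRightUnitIso R) f, Functor.id_map]
  infer_instance

/-- `K ⊗^L R ≅ K`. -/
theorem nonempty_iso_LTensor_unit [DRing.HasLTensor R (𝟙_ (ModuleCat.{u} R))] (K : Dual.D R) :
    Nonempty ((DRing.LTensor R (𝟙_ (ModuleCat.{u} R))).obj K ≅ K) := by
  haveI : (DRing.LTensor R (𝟙_ (ModuleCat.{u} R))).IsRightKanExtension
      ((DRing.tensorKh R (𝟙_ (ModuleCat.{u} R))).totalLeftDerivedCounit DerivedCategory.Qh
        (HomotopyCategory.quasiIso (ModuleCat.{u} R) (ComplexShape.up ℤ))) :=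
    CategoryTheory.Functor.IsLeftDerivedFunctor.isRightKanExtension _ _
      (HomotopyCategory.quasiIso (ModuleCat.{u} R) (ComplexShape.up ℤ))
  let X := DerivedCategory.Q.objPreimage K
  let eX : DerivedCategory.Q.obj X ≅ K := DerivedCategory.Q.objObjPreimageIso K
  obtain ⟨e⟩ := nonempty_iso_of_preserves_quasiIso (tensorRight (𝟙_ (ModuleCat.{u} R)))
    (DRing.LTensor R (𝟙_ (ModuleCat.{u} R)))
    ((DRing.tensorKh R (𝟙_ (ModuleCat.{u} R))).totalLeftDerivedCounit DerivedCategory.Qh
      (HomotopyCategory.quasiIso (ModuleCat.{u} R) (ComplexShape.up ℤ)))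
    (fun f hf => quasiIso_tensorRight_unit R f hf) X
  exact ⟨(DRing.LTensor R (𝟙_ (ModuleCat.{u} R))).mapIso eX.symm ≪≫ e ≪≫
    DerivedCategory.Q.mapIso ((tensorRightUnitIso R).app X) ≪≫ eX⟩

/-- the gate for `- ⊗^L M` on bounded above flat complexes. -/
theorem nonempty_iso_LTensor_of_flat (M : ModuleCat.{u} R) [DRing.HasLTensor R M]
    (F : DRing.Cx R) (c : ℤ) (hc : DRing.VanishesAbove F c) (hfl : DRing.TermwiseFlat F) :
    Nonempty ((DRing.LTensor R M).obj (DerivedCategory.Q.obj F) ≅
      DerivedCategory.Q.obj (((tensorRight M).mapHomologicalComplex (ComplexShape.up ℤ)).obj F)) := by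
  haveI : (DRing.LTensor R M).IsRightKanExtension
      ((DRing.tensorKh R M).totalLeftDerivedCounit DerivedCategory.Qh
        (HomotopyCategory.quasiIso (ModuleCat.{u} R) (ComplexShape.up ℤ))) :=
    CategoryTheory.Functor.IsLeftDerivedFunctor.isRightKanExtension _ _
      (HomotopyCategory.quasiIso (ModuleCat.{u} R) (ComplexShape.up ℤ))
  exact nonempty_iso_of_flat (tensorRight M) (DRing.LTensor R M)
    ((DRing.tensorKh R M).totalLeftDerivedCounit DerivedCategory.Qh
      (HomotopyCategory.quasiIso (ModuleCat.{u} R) (ComplexShape.up ℤ)))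
    (tensorLike_tensorRight M) F c hc hfl

lemma exactAt_tensorLeft_iff (M : ModuleCat.{u} R) (F : DRing.Cx R) (i : ℤ) :
    (((tensorLeft M).mapHomologicalComplex (ComplexShape.up ℤ)).obj F).ExactAt i ↔
      (((tensorRight M).mapHomologicalComplex (ComplexShape.up ℤ)).obj F).ExactAt i :=
  ⟨exactAt_of_iso ((NatIso.mapHomologicalComplex (BraidedCategory.tensorLeftIsoTensorRight M)
      (ComplexShape.up ℤ)).app F) i,
    exactAt_of_iso ((NatIso.mapHomologicalComplex (BraidedCategory.tensorLeftIsoTensorRight M)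
      (ComplexShape.up ℤ)).app F).symm i⟩

/-- tor amplitude in terms of the derived tensor products with modules. -/
theorem hasTorAmplitudeIn_iff_LTensor [∀ M : ModuleCat.{u} R, DRing.HasLTensor R M]
    (K : Dual.D R) (a b : ℤ) :
    DRing.HasTorAmplitudeIn R a b K ↔
      ∀ (M : ModuleCat.{u} R) (i : ℤ), (i < a ∨ b < i) →
        IsZero ((DerivedCategory.homologyFunctor _ i).obj ((DRing.LTensor R M).obj K)) := by
  constructor
  · rintro ⟨E, hV, hfl, ⟨e⟩⟩ M i hi
    obtain ⟨e'⟩ := nonempty_iso_LTensor_of_flat R M E b (fun j hj => hV j (Or.inr hj)) hfl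
    have h1 : IsZero ((((tensorRight M).mapHomologicalComplex (ComplexShape.up ℤ)).obj
        E).homology i) :=
      (HomologicalComplex.ExactAt.of_isZero ((tensorRight M).map_isZero (hV i hi))).isZero_homology
    exact (h1.of_iso ((DerivedCategory.homologyFunctorFactors _ i).app _)).of_iso
      ((DerivedCategory.homologyFunctor _ i).mapIso
        ((DRing.LTensor R M).mapIso e.symm ≪≫ e'))
  · intro h
    obtain ⟨eu⟩ := nonempty_iso_LTensor_unit R K
    have hK : ∀ i : ℤ, (i < a ∨ b < i) →
        IsZero ((DerivedCategory.homologyFunctor _ i).obj K) := fun i hi =>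
      (h _ i hi).of_iso ((DerivedCategory.homologyFunctor _ i).mapIso eu.symm)
    obtain ⟨P, hP, hPb, hPfl, ⟨e⟩⟩ := exists_projective_rep (K := K) (b := b)
      (fun i hi => hK i (Or.inr hi))
    refine hasTorAmplitudeIn_of_iso e (hasTorAmplitudeIn_of_tvl P b hPb hPfl a b ?_
      (fun i hi => HomologicalComplex.ExactAt.of_isZero (hPb i hi)))
    intro N i hi
    rw [exactAt_tensorLeft_iff]
    obtain ⟨e'⟩ := nonempty_iso_LTensor_of_flat R N P b hPb hPfl
    have h1 := (h N i (Or.inl hi)).of_iso ((DerivedCategory.homologyFunctor _ i).mapIso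
      (e'.symm ≪≫ (DRing.LTensor R N).mapIso e))
    rw [HomologicalComplex.exactAt_iff_isZero_homology]
    exact h1.of_iso ((DerivedCategory.homologyFunctorFactors _ i).app _).symm

end LTensor

end Groth.Agent.Lib.helper23.TA
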