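import Mathlib
import Groth.Prelude.Def_DRing2
import Groth.Prelude.Def_DDual2
import Groth.Agent.Lib.Helper23.TA8

/-!
# helper23: Tor-amplitude library, part 9 (projective dimension)
-/

set_option autoImplicit false
universe u
open CategoryTheory CategoryTheory.Limits TensorProduct MonoidalCategory ZeroObject
open CategoryTheory.Pretriangulated

attribute [local instance] HasDerivedCategory.standard

namespace Groth.Agent.Lib.helper23.TA

variable {A : Type u} [CommRing A]

/-- a flat module placed in degree `i`. -/
lemma hasTorAmplitudeIn_single_flat (M : ModuleCat.{u} A) (hM : Module.Flat A M) (i : ℤ) :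
    DRing.HasTorAmplitudeIn A i i
      ((DerivedCategory.singleFunctor (ModuleCat.{u} A) i).obj M) := by
  refine ⟨(HomologicalComplex.single _ (ComplexShape.up ℤ) i).obj M, fun j hj => ?_, fun j => ?_,
    ⟨((DerivedCategory.singleFunctorIsoCompQ _ i).app M).symm⟩⟩
  · exact HomologicalComplex.isZero_single_obj_X (ComplexShape.up ℤ) i M j (by omega)
  · by_cases hj : j = i
    · subst hj
      haveI := hM
      exact Module.Flat.of_linearEquiv
        (HomologicalComplex.singleObjXSelf (ComplexShape.up ℤ) j M).toLinearEquiv
    · haveI : Subsingleton (((HomologicalComplex.single _ (ComplexShape.up ℤ) i).obj M).X j) :=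
        ModuleCat.subsingleton_of_isZero
          (HomologicalComplex.isZero_single_obj_X (ComplexShape.up ℤ) i M j hj)
      infer_instance

/-- modules of projective dimension `≤ d` have tor amplitude in `[-d, 0]`. -/
theorem hasTorAmplitudeIn_of_hasProjectiveDimensionLT : ∀ (d : ℕ) (M : ModuleCat.{u} A),
    HasProjectiveDimensionLT M (d + 1) →
    DRing.HasTorAmplitudeIn A (-(d : ℤ)) 0
      ((DerivedCategory.singleFunctor (ModuleCat.{u} A) 0).obj M) := by
  intro d
  induction d with
  | zero =>
    intro M hM
    have hM' : HasProjectiveDimensionLT M 1 := hM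
    haveI : Projective M := projective_iff_hasProjectiveDimensionLT_one.2 hM'
    have := hasTorAmplitudeIn_single_flat M (flat_of_projective_obj M inferInstance) 0
    simpa using this
  | succ d ih =>
    intro M hM
    let S : ShortComplex (ModuleCat.{u} A) :=
      ShortComplex.mk (kernel.ι (Projective.π M)) (Projective.π M) (kernel.condition _)
    have hS : S.ShortExact :=
      { exact := ShortComplex.exact_of_f_is_kernel _ (kernelIsKernel _)
        mono_f := by dsimp [S]; infer_instance
        epi_g := by dsimp [S]; infer_instance }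
    have h₂ : HasProjectiveDimensionLT S.X₂ (d + 1) := by
      haveI : Projective S.X₂ := by dsimp [S]; infer_instance
      exact hasProjectiveDimensionLT_of_ge S.X₂ 1 (d + 1) (by omega)
    have h₃ : HasProjectiveDimensionLT S.X₃ (d + 1 + 1) := hM
    have h₁ : HasProjectiveDimensionLT S.X₁ (d + 1) := hS.hasProjectiveDimensionLT_X₁ (d + 1) h₂ h₃
    have t₁ := ih S.X₁ h₁
    have t₂ : DRing.HasTorAmplitudeIn A 0 0
        ((DerivedCategory.singleFunctor (ModuleCat.{u} A) 0).obj S.X₂) :=
      hasTorAmplitudeIn_single_flat S.X₂
        (flat_of_projective_obj _ (by dsimp [S]; infer_instance)) 0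
    have := hasTorAmplitudeIn_cone hS.singleTriangle hS.singleTriangle_distinguished t₁ t₂
      (a := -((d + 1 : ℕ) : ℤ)) (b := 0) (by push_cast; omega) (by push_cast; omega)
      (by omega) le_rfl
    exact this

/-- objects with cohomology in `[a, b]` over a ring of global dimension `≤ d`. -/
theorem hasTorAmplitudeIn_of_globalDimension (d : ℕ)
    (hgl : ∀ M : ModuleCat.{u} A, HasProjectiveDimensionLT M (d + 1)) (K : Dual.D A) (a b : ℤ)
    (hK : ∀ i : ℤ, (i < a ∨ b < i) → IsZero ((DerivedCategory.homologyFunctor _ i).obj K)) :
    DRing.HasTorAmplitudeIn A (a - d) b K := by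
  refine hasTorAmplitudeIn_of_homology (a - d) b K a b hK (fun i => ?_)
  by_cases hi : i < a ∨ b < i
  · exact hasTorAmplitudeIn_of_isZero _ _
      ((DerivedCategory.singleFunctor (ModuleCat.{u} A) 0).map_isZero (hK i hi))
  · exact hasTorAmplitudeIn_mono (hasTorAmplitudeIn_of_hasProjectiveDimensionLT d _ (hgl _))
      (by omega) (by omega)

end Groth.Agent.Lib.helper23.TA
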