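import Mathlib
import Groth.Prelude.Def_DRing2
import Groth.Prelude.Def_DDual2
import Groth.Agent.Lib.Helper23.TA9
import Groth.Agent.Lib.Helper7.TorAPI2

/-!
# helper23: Tor-amplitude library, part 10 (tor dimension of modules via Mathlib's `Tor`)
-/

set_option autoImplicit false
universe u
open CategoryTheory CategoryTheory.Limits TensorProduct MonoidalCategory ZeroObject
open CategoryTheory.Pretriangulated

attribute [local instance] HasDerivedCategory.standard

namespace Groth.Agent.Lib.helper23.TA

open Groth.Agent.Lib.helper7.TorAPI Groth.Agent.Lib.helper23.PCohAmp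

variable {A : Type u} [CommRing A]

/-- `Tor_p(M, N) = 0` for all `N` and `p > d`. -/
def TorVan (d : ℕ) (M : ModuleCat.{u} A) : Prop :=
  ∀ (N : ModuleCat.{u} A) (p : ℕ), d < p → IsZero ((T p M).obj N)

lemma torVan_zero_iff_flat (M : ModuleCat.{u} A) : TorVan 0 M ↔ Module.Flat A M := by
  constructor
  · intro h
    rw [Module.Flat.iff_lTensor_injective']
    intro I
    let S : ShortComplex (ModuleCat.{u} A) :=
      ShortComplex.mk (ModuleCat.ofHom I.subtype) (ModuleCat.ofHom I.mkQ) (by
        ext x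
        exact (Submodule.Quotient.mk_eq_zero I).2 x.2)
    have hS : S.ShortExact :=
      ModuleCat.shortComplex_shortExact S (LinearMap.exact_subtype_mkQ I)
        (Submodule.subtype_injective I) (Submodule.mkQ_surjective I)
    haveI : Projective S.X₂ :=
      (IsProjective.iff_projective (R := A) (ModuleCat.of A A)).1 inferInstance
    have h1 := (isZero_one_iff M hS (isZero_T_projective M S.X₂ 0)).1 (h S.X₃ 1 (by omega))
    exact (ModuleCat.mono_iff_injective _).1 h1
  · intro h N p hp
    haveI := h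
    obtain ⟨q, rfl⟩ : ∃ q, p = q + 1 := ⟨p - 1, by omega⟩
    exact isZero_T_flat M N q

/-- a module with tor amplitude in `[0, 0]` is flat. -/
lemma flat_of_hasTorAmplitudeIn_zero (M : ModuleCat.{u} A)
    (h : DRing.HasTorAmplitudeIn A 0 0
      ((DerivedCategory.singleFunctor (ModuleCat.{u} A) 0).obj M)) : Module.Flat A M := by
  obtain ⟨E, hV, hfl, ⟨e⟩⟩ := h
  haveI : E.IsStrictlyGE 0 := (CochainComplex.isStrictlyGE_iff _ _).2 (fun i hi => hV i (Or.inl hi))
  haveI : E.IsStrictlyLE 0 := (CochainComplex.isStrictlyLE_iff _ _).2 (fun i hi => hV i (Or.inr hi))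
  obtain ⟨M', ⟨e'⟩⟩ := E.exists_iso_single 0
  have e0 : E.X 0 ≅ M' := (HomologicalComplex.eval _ _ 0).mapIso e' ≪≫
    HomologicalComplex.singleObjXSelf (ComplexShape.up ℤ) 0 M'
  have e1 : (DerivedCategory.singleFunctor (ModuleCat.{u} A) 0).obj M' ≅
      (DerivedCategory.singleFunctor (ModuleCat.{u} A) 0).obj M :=
    (DerivedCategory.singleFunctorIsoCompQ _ 0).app M' ≪≫ DerivedCategory.Q.mapIso e'.symm ≪≫ e
  have e2 : M' ≅ M := (DerivedCategory.singleFunctor (ModuleCat.{u} A) 0).preimageIso e1
  haveI := hfl 0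
  exact Module.Flat.of_linearEquiv (e0 ≪≫ e2).toLinearEquiv.symm

/-- the canonical projective presentation. -/
noncomputable def presSC (M : ModuleCat.{u} A) : ShortComplex (ModuleCat.{u} A) :=
  ShortComplex.mk (kernel.ι (Projective.π M)) (Projective.π M) (kernel.condition _)

lemma presSC_shortExact (M : ModuleCat.{u} A) : (presSC M).ShortExact :=
  { exact := ShortComplex.exact_of_f_is_kernel _ (kernelIsKernel _)
    mono_f := by dsimp [presSC]; infer_instance
    epi_g := by dsimp [presSC]; infer_instance }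

instance (M : ModuleCat.{u} A) : Projective (presSC M).X₂ := by
  dsimp [presSC]; infer_instance

lemma torVan_succ_iff (d : ℕ) (M : ModuleCat.{u} A) :
    TorVan (d + 1) M ↔ TorVan d (presSC M).X₁ := by
  have hS := presSC_shortExact M
  haveI : Module.Flat A (presSC M).X₂ := flat_of_projective_obj _ inferInstance
  have key : ∀ (N : ModuleCat.{u} A) (q : ℕ), d < q →
      (IsZero ((T (q + 1) (presSC M).X₃).obj N) ↔ IsZero ((T q (presSC M).X₁).obj N)) := by
    intro N q hq
    obtain ⟨r, rfl⟩ : ∃ r, q = r + 1 := ⟨q - 1, by omega⟩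
    exact Groth.Agent.Lib.helper7.TorAPI.isZero_succ_iff₁ hS N (r + 1)
      (isZero_T_flat _ N (r + 1)) (isZero_T_flat _ N r)
  constructor
  · intro h N q hq
    exact (key N q hq).1 (h N (q + 1) (by omega))
  · intro h N p hp
    obtain ⟨q, rfl⟩ : ∃ q, p = q + 1 := ⟨p - 1, by omega⟩
    exact (key N q (by omega)).2 (h N q (by omega))

lemma hasTorAmplitudeIn_succ_iff (d : ℕ) (M : ModuleCat.{u} A) :
    DRing.HasTorAmplitudeIn A (-((d + 1 : ℕ) : ℤ)) 0
        ((DerivedCategory.singleFunctor (ModuleCat.{u} A) 0).obj M) ↔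
      DRing.HasTorAmplitudeIn A (-(d : ℤ)) 0
        ((DerivedCategory.singleFunctor (ModuleCat.{u} A) 0).obj (presSC M).X₁) := by
  have hS := presSC_shortExact M
  have hT := hS.singleTriangle_distinguished
  have t₂ : DRing.HasTorAmplitudeIn A 0 0
      ((DerivedCategory.singleFunctor (ModuleCat.{u} A) 0).obj (presSC M).X₂) :=
    hasTorAmplitudeIn_single_flat _ (flat_of_projective_obj _ inferInstance) 0
  constructor
  · intro h
    have h1 := hasTorAmplitudeIn_cone _ (rot_of_distTriang _ hT) t₂ h
      (a := -((d + 1 : ℕ) : ℤ)) (b := 0) (by push_cast; omega) le_rfl (by omega) le_rfl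
    have h2 := hasTorAmplitudeIn_shift h1 (-1)
    have e : ((((DerivedCategory.singleFunctor (ModuleCat.{u} A) 0).obj
        (presSC M).X₁)⟦(1 : ℤ)⟧)⟦(-1 : ℤ)⟧) ≅
        (DerivedCategory.singleFunctor (ModuleCat.{u} A) 0).obj (presSC M).X₁ :=
      (shiftEquiv (Dual.D A) (1 : ℤ)).unitIso.symm.app _
    have h3 := hasTorAmplitudeIn_of_iso e h2
    have e1 : -((d + 1 : ℕ) : ℤ) - -1 = -(d : ℤ) := by push_cast; ring
    have e2 : (0 : ℤ) - -1 = 0 + 1 := by ring
    rw [e1, e2, hasTorAmplitudeIn_iff_amp] at h3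
    rw [hasTorAmplitudeIn_iff_amp]
    exact Amp.truncate flatP_kernel h3 (DerivedCategory.isZero_of_isLE _ 0 _ (by omega))
  · intro h
    exact hasTorAmplitudeIn_cone _ hT h t₂ (by push_cast; omega) (by push_cast; omega)
      (by omega) le_rfl

/-- tor dimension via `Tor` agrees with tor amplitude of the module placed in degree `0`. -/
theorem torVan_iff_hasTorAmplitudeIn : ∀ (d : ℕ) (M : ModuleCat.{u} A),
    TorVan d M ↔ DRing.HasTorAmplitudeIn A (-(d : ℤ)) 0
      ((DerivedCategory.singleFunctor (ModuleCat.{u} A) 0).obj M) := by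
  intro d
  induction d with
  | zero =>
    intro M
    rw [torVan_zero_iff_flat]
    constructor
    · intro h
      simpa using hasTorAmplitudeIn_single_flat M h 0
    · intro h
      exact flat_of_hasTorAmplitudeIn_zero M (by simpa using h)
  | succ d ih =>
    intro M
    rw [torVan_succ_iff, hasTorAmplitudeIn_succ_iff, ih]

lemma hasTorDimLE_iff_torVan (d : ℕ) (M : Type u) [AddCommGroup M] [Module A M] :
    DRing.HasTorDimLE A d M ↔ TorVan d (ModuleCat.of A M) := by
  constructor
  · intro h N p hp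
    haveI := h N p hp
    exact ModuleCat.isZero_of_subsingleton _
  · intro h N _ _ p hp
    exact ModuleCat.subsingleton_of_isZero (h (ModuleCat.of A N) p hp)

end Groth.Agent.Lib.helper23.TA
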