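import Mathlib
import Groth.Prelude.Def_Wider
import Groth.Prelude.Def_DDual2
import Groth.Prelude.Def_DRing2

/-!
# helper23: `N ↦ N ⊗ F` as an exact functor from modules to complexes, for a termwise flat complex
`F`; the resulting two-out-of-three property for exactness of `N ⊗ F` at a degree.
-/

set_option autoImplicit false
universe u
open CategoryTheory CategoryTheory.Limits MonoidalCategory

namespace Groth.Agent.Lib.helper23.TensSES

variable {R : Type u} [CommRing R]

/-- `N ↦ N ⊗ F` as a functor to complexes. -/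
noncomputable def tensF (F : DRing.Cx R) : ModuleCat.{u} R ⥤ DRing.Cx R where
  obj N := ((tensorLeft N).mapHomologicalComplex (ComplexShape.up ℤ)).obj F
  map g := (NatTrans.mapHomologicalComplex ((curriedTensor (ModuleCat.{u} R)).map g)
    (ComplexShape.up ℤ)).app F
  map_id N := by
    ext i : 1
    simp
  map_comp f g := by
    ext i : 1
    simp

lemma tensF_map_f (F : DRing.Cx R) {N N' : ModuleCat.{u} R} (g : N ⟶ N') (i : ℤ) :
    ((tensF F).map g).f i = g ▷ (F.X i) := rfl

/-- the short complex of complexes `X₁ ⊗ F → X₂ ⊗ F → X₃ ⊗ F`. -/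
noncomputable def tensSC (F : DRing.Cx R) (S : ShortComplex (ModuleCat.{u} R)) :
    ShortComplex (DRing.Cx R) :=
  ShortComplex.mk ((tensF F).map S.f) ((tensF F).map S.g) (by
    rw [← Functor.map_comp, S.zero]
    ext i : 1
    rw [tensF_map_f]
    simp
    rfl)

lemma tensSC_shortExact (F : DRing.Cx R) (hfl : DRing.TermwiseFlat F)
    (S : ShortComplex (ModuleCat.{u} R)) (hS : S.ShortExact) : (tensSC F S).ShortExact := by
  refine HomologicalComplex.shortExact_of_degreewise_shortExact _ (fun i => ?_)
  haveI := hfl i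
  have hex : Function.Exact S.f.hom S.g.hom :=
    (ShortComplex.ShortExact.moduleCat_exact_iff_function_exact S).1 hS.exact
  have hinj : Function.Injective S.f.hom := (ModuleCat.mono_iff_injective _).1 hS.mono_f
  have hsurj : Function.Surjective S.g.hom := (ModuleCat.epi_iff_surjective _).1 hS.epi_g
  refine ModuleCat.shortComplex_shortExact _ ?_ ?_ ?_
  · exact rTensor_exact (F.X i) hex hsurj
  · exact Module.Flat.rTensor_preserves_injective_linearMap S.f.hom hinj
  · exact LinearMap.rTensor_surjective (F.X i) hsurj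

/-- two-out-of-three (middle term) for exactness of `N ⊗ F` at degree `i`. -/
theorem exactAt_middle (F : DRing.Cx R) (hfl : DRing.TermwiseFlat F)
    (S : ShortComplex (ModuleCat.{u} R)) (hS : S.ShortExact) (i : ℤ)
    (h₁ : ((tensF F).obj S.X₁).ExactAt i) (h₃ : ((tensF F).obj S.X₃).ExactAt i) :
    ((tensF F).obj S.X₂).ExactAt i := by
  rw [HomologicalComplex.exactAt_iff_isZero_homology] at h₁ h₃ ⊢
  exact ((tensSC_shortExact F hfl S hS).homology_exact₂ i).isZero_X₂
    (h₁.eq_of_src _ _) (h₃.eq_of_tgt _ _)

/-- exactness of `N ⊗ F` only depends on the isomorphism class of `N`. -/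
lemma exactAt_of_iso (F : DRing.Cx R) {N N' : ModuleCat.{u} R} (e : N ≅ N') (i : ℤ)
    (h : ((tensF F).obj N).ExactAt i) : ((tensF F).obj N').ExactAt i := by
  rw [HomologicalComplex.exactAt_iff_isZero_homology] at h ⊢
  exact h.of_iso ((HomologicalComplex.homologyFunctor _ _ i).mapIso ((tensF F).mapIso e.symm))

lemma exactAt_of_isZero (F : DRing.Cx R) {N : ModuleCat.{u} R} (hN : IsZero N) (i : ℤ) :
    ((tensF F).obj N).ExactAt i := by
  refine HomologicalComplex.ExactAt.of_isZero ?_
  show IsZero (N ⊗ F.X i)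
  rw [IsZero.iff_id_eq_zero, ← id_tensorHom_id, hN.eq_of_src (𝟙 N) 0]
  simp

end Groth.Agent.Lib.helper23.TensSES
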