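import Mathlib
import Groth.Prelude.Def_DRing2
import Groth.Prelude.Def_DDual2
import Groth.Agent.Lib.Helper23.LBCComp
import Groth.Agent.Lib.Helper23.TensSES
import Groth.Agent.Lib.Helper23.TA10

/-!
# Gluing flatness along `D(f)` and `V(f)` in the derived category (helper23)

For `F` a bounded above complex of flat `R`-modules, `Pr F N` says `N ⊗ F` is exact in negative degrees.
* `exact_lTensor_of_exact_lTensor_baseChange`, `exactAt_tensF_restrict`, `exactAt_of_restrict`, `exactAt_of_module`:
  if `Q F ⊗^L_R B` has tor amplitude `[0,0]` then `Pr F N` for `N` restricted from `B`.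
* `exactAt_left`: kernel direction of two-out-of-three for exactness of `N ⊗ F`.
* `exact_lTensor_of_directed`: exactness passes to exhausting unions of submodules.
* `subSC`, `Pr.middle`, `Pr.left`, `Pr.of_pow_smul`, `Pr.of_pow_torsion`, `Pr.all`.
* `exists_flat_iso` (S12899): `M ∈ D^{≤0}(R)` with `M ⊗^L R_f` and `M ⊗^L R/f` flat modules in degree 0 is a
  flat module in degree 0.
-/

set_option autoImplicit false
universe u
open CategoryTheory CategoryTheory.Limits TensorProduct MonoidalCategory

attribute [local instance] HasDerivedCategory.standard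

namespace Groth.Agent.Lib.helper23.FlatGlue

open Groth.Agent.Lib.helper23.TA Groth.Agent.Lib.helper23.TensSES

/-- exactness of `N ⊗_B (B ⊗_A -)` gives exactness of `N ⊗_A -`. -/
theorem exact_lTensor_of_exact_lTensor_baseChange {A B : Type u} [CommRing A] [CommRing B]
    [Algebra A B] (N : Type u) [AddCommGroup N] [Module A N] [Module B N] [IsScalarTower A B N]
    {X Y Z : Type u} [AddCommGroup X] [Module A X] [AddCommGroup Y] [Module A Y]
    [AddCommGroup Z] [Module A Z] (f : X →ₗ[A] Y) (g : Y →ₗ[A] Z)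
    (h : Function.Exact ((f.baseChange B).lTensor N) ((g.baseChange B).lTensor N)) :
    Function.Exact (f.lTensor N) (g.lTensor N) := by
  have key : ∀ {X Y : Type u} [AddCommGroup X] [Module A X] [AddCommGroup Y] [Module A Y]
      (f : X →ₗ[A] Y) (x : N ⊗[A] X),
      (TensorProduct.AlgebraTensorModule.cancelBaseChange A B B N Y).symm ((f.lTensor N) x) =
        ((f.baseChange B).lTensor N)
          ((TensorProduct.AlgebraTensorModule.cancelBaseChange A B B N X).symm x) := by
    intro X Y _ _ _ _ f x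
    induction x using TensorProduct.induction_on with
    | zero => simp
    | tmul n x => rfl
    | add a b ha hb => rw [map_add, map_add, ha, hb, map_add, map_add]
  exact exact_of_addEquiv _ _ _ _
    (TensorProduct.AlgebraTensorModule.cancelBaseChange A B B N X).symm.toAddEquiv
    (TensorProduct.AlgebraTensorModule.cancelBaseChange A B B N Y).symm.toAddEquiv
    (TensorProduct.AlgebraTensorModule.cancelBaseChange A B B N Z).symm.toAddEquiv
    (fun x => key f x) (fun x => key g x) h

variable {R B : Type u} [CommRing R] [CommRing B] (φ : R →+* B)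

/-- exactness of `N' ⊗_B (B ⊗_R F)` gives exactness of `N'|_R ⊗_R F`. -/
lemma exactAt_tensF_restrict (F : DRing.Cx R) (N' : ModuleCat.{u} B) (i : ℤ)
    (h : (((tensorLeft N').mapHomologicalComplex (ComplexShape.up ℤ)).obj
      (((ModuleCat.extendScalars.{u, u, u} φ).mapHomologicalComplex
        (ComplexShape.up ℤ)).obj F)).ExactAt i) :
    ((tensF F).obj ((ModuleCat.restrictScalars.{u} φ).obj N')).ExactAt i := by
  letI : Algebra R B := φ.toAlgebra
  letI : Module R N' := Module.compHom N' φ
  haveI : IsScalarTower R B N' := IsScalarTower.of_algebraMap_smul (fun _ _ => rfl)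
  rw [HomologicalComplex.exactAt_iff' _ (i - 1) i (i + 1) (by simp) (by simp)] at h ⊢
  rw [ShortComplex.ShortExact.moduleCat_exact_iff_function_exact] at h ⊢
  exact exact_lTensor_of_exact_lTensor_baseChange (A := R) (B := B) N'
    (F.d (i - 1) i).hom (F.d i (i + 1)).hom h

/-- if `M ⊗^L_R B` has tor amplitude in `[0,0]` then `N ⊗_R F` is exact in negative degrees for
every `R`-module `N` restricted from `B` (`F` a bounded above flat representative of `M`). -/
lemma exactAt_of_restrict [DRing.HasLBaseChange φ] (F : DRing.Cx R) (c : ℤ)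
    (hc : DRing.VanishesAbove F c) (hfl : DRing.TermwiseFlat F)
    (hB : DRing.HasTorAmplitudeIn B 0 0
      ((DRing.LBaseChange φ).obj (DerivedCategory.Q.obj F)))
    (N' : ModuleCat.{u} B) (i : ℤ) (hi : i < 0) :
    ((tensF F).obj ((ModuleCat.restrictScalars.{u} φ).obj N')).ExactAt i := by
  obtain ⟨e⟩ := Groth.Agent.Lib.helper23.LBCComp.lbc_iso φ F c hc hfl
  have htvl := tvl_of_rep hB _ c (vanishesAbove_extend φ F c hc) (termwiseFlat_extend φ F hfl)
    e.symm
  exact exactAt_tensF_restrict φ F N' i (htvl N' i hi)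

/-- the same, for an `R`-module `N` carrying a compatible `B`-module structure. -/
lemma exactAt_of_module [DRing.HasLBaseChange φ] (F : DRing.Cx R) (c : ℤ)
    (hc : DRing.VanishesAbove F c) (hfl : DRing.TermwiseFlat F)
    (hB : DRing.HasTorAmplitudeIn B 0 0
      ((DRing.LBaseChange φ).obj (DerivedCategory.Q.obj F)))
    (N : Type u) [AddCommGroup N] [Module R N] [Module B N]
    (hcompat : ∀ (r : R) (x : N), φ r • x = r • x) (i : ℤ) (hi : i < 0) :
    ((tensF F).obj (ModuleCat.of R N)).ExactAt i := by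
  have h := exactAt_of_restrict φ F c hc hfl hB (ModuleCat.of B N) i hi
  let l : ((ModuleCat.restrictScalars.{u} φ).obj (ModuleCat.of B N)) ≃ₗ[R] N :=
    { toFun := fun x => x
      invFun := fun x => x
      map_add' := fun _ _ => rfl
      map_smul' := fun r x => hcompat r x
      left_inv := fun _ => rfl
      right_inv := fun _ => rfl }
  exact TensSES.exactAt_of_iso F l.toModuleIso i h

section SES

variable (F : DRing.Cx R) (hfl : DRing.TermwiseFlat F)

include hfl in
/-- kernel direction of two-out-of-three. -/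
theorem exactAt_left (S : ShortComplex (ModuleCat.{u} R)) (hS : S.ShortExact) (i : ℤ)
    (h₂ : ((tensF F).obj S.X₂).ExactAt i) (h₃ : ((tensF F).obj S.X₃).ExactAt (i - 1)) :
    ((tensF F).obj S.X₁).ExactAt i := by
  rw [HomologicalComplex.exactAt_iff_isZero_homology] at h₂ h₃ ⊢
  exact ((tensSC_shortExact F hfl S hS).homology_exact₁ (i - 1) i (by simp)).isZero_X₂
    (h₃.eq_of_src _ _) (h₂.eq_of_tgt _ _)

end SES

section Directed

/-- exactness of `N ⊗ -` from exactness of `Nₙ ⊗ -` for an exhausting chain of submodules. -/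
lemma exact_lTensor_of_directed {N X Y Z : Type u} [AddCommGroup N] [Module R N]
    [AddCommGroup X] [Module R X] [AddCommGroup Y] [Module R Y] [AddCommGroup Z] [Module R Z]
    [Module.Flat R Z] (Ns : ℕ → Submodule R N) (hmono : Monotone Ns)
    (hcover : ∀ x : N, ∃ n, x ∈ Ns n) (a : X →ₗ[R] Y) (b : Y →ₗ[R] Z) (hab : b ∘ₗ a = 0)
    (h : ∀ n, Function.Exact (a.lTensor (Ns n)) (b.lTensor (Ns n))) :
    Function.Exact (a.lTensor N) (b.lTensor N) := by
  have claim : ∀ z : N ⊗[R] Y, ∃ (n : ℕ) (zn : (Ns n) ⊗[R] Y),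
      (Ns n).subtype.rTensor Y zn = z := by
    intro z
    induction z using TensorProduct.induction_on with
    | zero => exact ⟨0, 0, map_zero _⟩
    | tmul x y =>
      obtain ⟨n, hn⟩ := hcover x
      exact ⟨n, (⟨x, hn⟩ : Ns n) ⊗ₜ[R] y, rfl⟩
    | add z₁ z₂ h₁ h₂ =>
      obtain ⟨n₁, w₁, rfl⟩ := h₁
      obtain ⟨n₂, w₂, rfl⟩ := h₂
      let m := max n₁ n₂
      let ι₁ : Ns n₁ →ₗ[R] Ns m := Submodule.inclusion (hmono (le_max_left n₁ n₂))
      let ι₂ : Ns n₂ →ₗ[R] Ns m := Submodule.inclusion (hmono (le_max_right n₁ n₂))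
      refine ⟨m, ι₁.rTensor Y w₁ + ι₂.rTensor Y w₂, ?_⟩
      rw [map_add, ← LinearMap.rTensor_comp_apply, ← LinearMap.rTensor_comp_apply]
      rfl
  have comm : ∀ {X Y : Type u} [AddCommGroup X] [Module R X] [AddCommGroup Y] [Module R Y]
      (c : X →ₗ[R] Y) (n : ℕ) (w : (Ns n) ⊗[R] X),
      c.lTensor N ((Ns n).subtype.rTensor X w) = (Ns n).subtype.rTensor Y (c.lTensor (Ns n) w) := by
    intro X Y _ _ _ _ c n w
    rw [← LinearMap.comp_apply, ← LinearMap.comp_apply, LinearMap.lTensor_comp_rTensor,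
      LinearMap.rTensor_comp_lTensor]
  intro z
  constructor
  · intro hz
    obtain ⟨n, zn, rfl⟩ := claim z
    rw [comm b n zn] at hz
    have hinj : Function.Injective ((Ns n).subtype.rTensor Z) :=
      Module.Flat.rTensor_preserves_injective_linearMap _ (Submodule.subtype_injective _)
    have hzn : b.lTensor (Ns n) zn = 0 := hinj (hz.trans (map_zero _).symm)
    obtain ⟨wn, hwn⟩ := (h n zn).1 hzn
    exact ⟨(Ns n).subtype.rTensor X wn, by rw [comm a n wn, hwn]⟩
  · rintro ⟨w, rfl⟩
    rw [← LinearMap.comp_apply, ← LinearMap.lTensor_comp, hab, LinearMap.lTensor_zero,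
      LinearMap.zero_apply]

end Directed

section Main

variable (F : DRing.Cx R)

/-- `N ⊗ F` is exact in negative degrees. -/
def Pr (N : ModuleCat.{u} R) : Prop := ∀ i : ℤ, i < 0 → ((tensF F).obj N).ExactAt i

variable {F}

lemma Pr.of_iso {N N' : ModuleCat.{u} R} (e : N ≅ N') (h : Pr F N) : Pr F N' :=
  fun i hi => TensSES.exactAt_of_iso F e i (h i hi)

lemma Pr.of_subsingleton (N : ModuleCat.{u} R) [Subsingleton N] : Pr F N :=
  fun i _ => exactAt_of_isZero F (ModuleCat.isZero_of_subsingleton _) i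

/-- the short exact sequence `0 → N' → N → N/N' → 0` in `ModuleCat`. -/
noncomputable def subSC {N : Type u} [AddCommGroup N] [Module R N] (N' : Submodule R N) :
    ShortComplex (ModuleCat.{u} R) :=
  ShortComplex.mk (ModuleCat.ofHom N'.subtype) (ModuleCat.ofHom N'.mkQ) (by
    ext x
    exact (Submodule.Quotient.mk_eq_zero N').2 x.2)

lemma subSC_shortExact {N : Type u} [AddCommGroup N] [Module R N] (N' : Submodule R N) :
    (subSC N').ShortExact :=
  ModuleCat.shortComplex_shortExact (subSC N') (LinearMap.exact_subtype_mkQ N')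
    (Submodule.subtype_injective N') (Submodule.mkQ_surjective N')

lemma Pr.middle (hfl : DRing.TermwiseFlat F) {N : Type u} [AddCommGroup N] [Module R N]
    (N' : Submodule R N) (h₁ : Pr F (ModuleCat.of R N')) (h₃ : Pr F (ModuleCat.of R (N ⧸ N'))) :
    Pr F (ModuleCat.of R N) :=
  fun i hi => exactAt_middle F hfl (subSC N') (subSC_shortExact N') i (h₁ i hi) (h₃ i hi)

lemma Pr.left (hfl : DRing.TermwiseFlat F) {N : Type u} [AddCommGroup N] [Module R N]
    (N' : Submodule R N) (h₂ : Pr F (ModuleCat.of R N)) (h₃ : Pr F (ModuleCat.of R (N ⧸ N'))) :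
    Pr F (ModuleCat.of R N') :=
  fun i hi => exactAt_left F hfl (subSC N') (subSC_shortExact N') i (h₂ i hi)
    (h₃ (i - 1) (by omega))

/-- dévissage along powers of `f`. -/
lemma Pr.of_pow_smul (hfl : DRing.TermwiseFlat F) (f : R)
    (hq : ∀ (N : Type u) [AddCommGroup N] [Module R N], (∀ x : N, f • x = 0) →
      Pr F (ModuleCat.of R N)) :
    ∀ (n : ℕ) (N : Type u) [AddCommGroup N] [Module R N], (∀ x : N, f ^ n • x = 0) →
      Pr F (ModuleCat.of R N) := by
  intro n
  induction n with
  | zero =>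
    intro N _ _ h
    haveI : Subsingleton N := ⟨fun x y => by
      have hx := h x
      have hy := h y
      rw [pow_zero, one_smul] at hx hy
      rw [hx, hy]⟩
    exact Pr.of_subsingleton (ModuleCat.of R N)
  | succ n ih =>
    intro N _ _ h
    let N' : Submodule R N := LinearMap.range (LinearMap.lsmul R N f)
    refine Pr.middle hfl N' (ih N' ?_) (hq (N ⧸ N') ?_)
    · rintro ⟨y, x, rfl⟩
      apply Subtype.ext
      show f ^ n • (f • x) = 0
      rw [← mul_smul, ← pow_succ]
      exact h x
    · intro y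
      obtain ⟨x, rfl⟩ := Submodule.Quotient.mk_surjective N' y
      rw [← Submodule.Quotient.mk_smul]
      exact (Submodule.Quotient.mk_eq_zero N').2 ⟨x, rfl⟩

/-- `f`-power torsion modules. -/
lemma Pr.of_pow_torsion (hfl : DRing.TermwiseFlat F) (f : R)
    (hq : ∀ (N : Type u) [AddCommGroup N] [Module R N], (∀ x : N, f • x = 0) →
      Pr F (ModuleCat.of R N))
    {N : Type u} [AddCommGroup N] [Module R N] (hN : ∀ x : N, ∃ n : ℕ, f ^ n • x = 0) :
    Pr F (ModuleCat.of R N) := by
  intro i hi
  let Ns : ℕ → Submodule R N := fun n => Submodule.torsionBy R N (f ^ n)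
  have hmono : Monotone Ns := by
    intro n m hnm x hx
    rw [Submodule.mem_torsionBy_iff] at hx ⊢
    obtain ⟨k, rfl⟩ := Nat.exists_eq_add_of_le hnm
    rw [pow_add, mul_comm, mul_smul, hx, smul_zero]
  have hcover : ∀ x, ∃ n, x ∈ Ns n :=
    fun x => (hN x).imp fun n hn => (Submodule.mem_torsionBy_iff _ _).2 hn
  have hn : ∀ n, Pr F (ModuleCat.of R (Ns n)) := fun n =>
    Pr.of_pow_smul hfl f hq n (Ns n) (by
      rintro ⟨x, hx⟩
      apply Subtype.ext
      exact (Submodule.mem_torsionBy_iff _ _).1 hx)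
  rw [HomologicalComplex.exactAt_iff' _ (i - 1) i (i + 1) (by simp) (by simp),
    ShortComplex.ShortExact.moduleCat_exact_iff_function_exact]
  haveI := hfl (i + 1)
  refine exact_lTensor_of_directed Ns hmono hcover (F.d (i - 1) i).hom (F.d i (i + 1)).hom ?_ ?_
  · rw [← ModuleCat.hom_comp, F.d_comp_d]
    rfl
  · intro n
    have := hn n i hi
    rw [HomologicalComplex.exactAt_iff' _ (i - 1) i (i + 1) (by simp) (by simp),
      ShortComplex.ShortExact.moduleCat_exact_iff_function_exact] at this
    exact this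

/-- all modules, from the `f`-torsion ones and the `R_f`-modules. -/
theorem Pr.all (hfl : DRing.TermwiseFlat F) (f : R)
    (hq : ∀ (N : Type u) [AddCommGroup N] [Module R N], (∀ x : N, f • x = 0) →
      Pr F (ModuleCat.of R N))
    (hloc : ∀ (N : Type u) [AddCommGroup N] [Module R N] [Module (Localization.Away f) N]
      [IsScalarTower R (Localization.Away f) N], Pr F (ModuleCat.of R N))
    (N : Type u) [AddCommGroup N] [Module R N] : Pr F (ModuleCat.of R N) := by
  let S := Submonoid.powers f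
  let Nf := LocalizedModule S N
  let g : N →ₗ[R] Nf := LocalizedModule.mkLinearMap S N
  have hK : Pr F (ModuleCat.of R (LinearMap.ker g)) := Pr.of_pow_torsion hfl f hq (by
    rintro ⟨x, hx⟩
    obtain ⟨⟨_, n, rfl⟩, hs⟩ := (IsLocalizedModule.eq_zero_iff S g).1 hx
    exact ⟨n, Subtype.ext hs⟩)
  have hC : Pr F (ModuleCat.of R (Nf ⧸ LinearMap.range g)) := Pr.of_pow_torsion hfl f hq (by
    intro y
    obtain ⟨z, rfl⟩ := Submodule.Quotient.mk_surjective _ y
    obtain ⟨⟨m, s⟩, rfl⟩ := IsLocalizedModule.mk'_surjective S g z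
    obtain ⟨n, hn⟩ := (Submonoid.mem_powers_iff _ _).1 s.2
    refine ⟨n, ?_⟩
    rw [← Submodule.Quotient.mk_smul]
    apply (Submodule.Quotient.mk_eq_zero _).2
    refine ⟨m, ?_⟩
    have h1 := IsLocalizedModule.mk'_cancel' g m s
    rw [Submonoid.smul_def, ← hn] at h1
    exact h1.symm)
  have hNf : Pr F (ModuleCat.of R Nf) := hloc Nf
  have hI : Pr F (ModuleCat.of R (LinearMap.range g)) := Pr.left hfl (LinearMap.range g) hNf hC
  have hNK : Pr F (ModuleCat.of R (N ⧸ LinearMap.ker g)) :=
    Pr.of_iso (g.quotKerEquivRange.symm.toModuleIso) hI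
  exact Pr.middle hfl (LinearMap.ker g) hK hNK

end Main

/-- **Gluing flatness along `D(f)` and `V(f)`** (S12899). -/
theorem exists_flat_iso {R : Type u} [CommRing R] (f : R) (M : Dual.D R)
    [DRing.HasLBaseChange (algebraMap R (Localization.Away f))]
    [DRing.HasLBaseChange (Ideal.Quotient.mk (Ideal.span ({f} : Set R)))]
    (h1 : ∀ i : ℤ, 0 < i → Subsingleton (Dual.HD R M i))
    (h2 : ∃ (N : Type u) (_ : AddCommGroup N) (_ : Module (Localization.Away f) N),
      Module.Flat (Localization.Away f) N ∧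
        Nonempty ((DRing.LBaseChange (algebraMap R (Localization.Away f))).obj M ≅
          Dual.inD (Localization.Away f) N))
    (h3 : ∃ (N : Type u) (_ : AddCommGroup N) (_ : Module (R ⧸ Ideal.span ({f} : Set R)) N),
      Module.Flat (R ⧸ Ideal.span ({f} : Set R)) N ∧
        Nonempty ((DRing.LBaseChange (Ideal.Quotient.mk (Ideal.span ({f} : Set R)))).obj M ≅
          Dual.inD (R ⧸ Ideal.span ({f} : Set R)) N)) :
    ∃ (N : Type u) (_ : AddCommGroup N) (_ : Module R N),
      Module.Flat R N ∧ Nonempty (M ≅ Dual.inD R N) := by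
  obtain ⟨N₂, _, _, hN₂, ⟨e₂⟩⟩ := h2
  obtain ⟨N₃, _, _, hN₃, ⟨e₃⟩⟩ := h3
  obtain ⟨F, -, hc, hfl, ⟨eF⟩⟩ := exists_projective_rep (b := 0) (K := M) (fun i hi => by
    haveI := h1 i hi
    exact ModuleCat.isZero_of_subsingleton _)
  have hB₂ : DRing.HasTorAmplitudeIn (Localization.Away f) 0 0
      ((DRing.LBaseChange (algebraMap R (Localization.Away f))).obj (DerivedCategory.Q.obj F)) :=
    hasTorAmplitudeIn_of_iso
      ((DRing.LBaseChange (algebraMap R (Localization.Away f))).mapIso eF ≪≫ e₂).symm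
      (hasTorAmplitudeIn_single_flat (ModuleCat.of _ N₂) hN₂ 0)
  have hB₃ : DRing.HasTorAmplitudeIn (R ⧸ Ideal.span ({f} : Set R)) 0 0
      ((DRing.LBaseChange (Ideal.Quotient.mk (Ideal.span ({f} : Set R)))).obj
        (DerivedCategory.Q.obj F)) :=
    hasTorAmplitudeIn_of_iso
      ((DRing.LBaseChange (Ideal.Quotient.mk (Ideal.span ({f} : Set R)))).mapIso eF ≪≫ e₃).symm
      (hasTorAmplitudeIn_single_flat (ModuleCat.of _ N₃) hN₃ 0)
  have hq : ∀ (N : Type u) [AddCommGroup N] [Module R N], (∀ x : N, f • x = 0) →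
      Pr F (ModuleCat.of R N) := by
    intro N _ _ hN
    have hT : Module.IsTorsionBySet R N (Ideal.span ({f} : Set R)) :=
      (Module.isTorsionBySet_span_singleton_iff f).2 (fun x => hN x)
    letI := hT.module
    intro i hi
    exact exactAt_of_module (Ideal.Quotient.mk (Ideal.span ({f} : Set R))) F 0 hc hfl hB₃ N
      (fun r x => hT.mk_smul r x) i hi
  have hloc : ∀ (N : Type u) [AddCommGroup N] [Module R N] [Module (Localization.Away f) N]
      [IsScalarTower R (Localization.Away f) N], Pr F (ModuleCat.of R N) := by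
    intro N _ _ _ _ i hi
    exact exactAt_of_module (algebraMap R (Localization.Away f)) F 0 hc hfl hB₂ N
      (fun r x => algebraMap_smul _ r x) i hi
  have htvl : TVL 0 F := fun N i hi => Pr.all hfl f hq hloc N i hi
  have hTA : DRing.HasTorAmplitudeIn R 0 0 (DerivedCategory.Q.obj F) :=
    hasTorAmplitudeIn_of_tvl F 0 hc hfl 0 0 htvl
      (fun i hi => HomologicalComplex.ExactAt.of_isZero (hc i hi))
  obtain ⟨E, hV, hEfl, ⟨e⟩⟩ := hTA
  haveI : E.IsStrictlyGE 0 := (CochainComplex.isStrictlyGE_iff _ _).2 (fun i hi => hV i (Or.inl hi))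
  haveI : E.IsStrictlyLE 0 := (CochainComplex.isStrictlyLE_iff _ _).2 (fun i hi => hV i (Or.inr hi))
  obtain ⟨M', ⟨e'⟩⟩ := E.exists_iso_single 0
  have e0 : E.X 0 ≅ M' := (HomologicalComplex.eval _ _ 0).mapIso e' ≪≫
    HomologicalComplex.singleObjXSelf (ComplexShape.up ℤ) 0 M'
  haveI := hEfl 0
  refine ⟨M', inferInstance, inferInstance, Module.Flat.of_linearEquiv e0.toLinearEquiv.symm, ⟨?_⟩⟩
  exact eF.symm ≪≫ e.symm ≪≫ DerivedCategory.Q.mapIso e' ≪≫
    ((DerivedCategory.singleFunctorIsoCompQ _ 0).app M').symm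

end Groth.Agent.Lib.helper23.FlatGlue
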