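import Mathlib
import Groth.Prelude.Def_Wider
import Groth.Prelude.Def_DDual2
import Groth.Prelude.Def_DRing2
import Groth.Agent.Lib.Helper13.RKF2
import Groth.Agent.Lib.Helper13.KRes6
import Groth.Agent.Lib.Helper23.TensSES
import Groth.Agent.Lib.Helper23.TA8

/-!
# helper23: derived tensor products and derived base change computed on K-flat complexes;
`H^i(P ⊗^L N) = 0` for finite length `N` from the fibre over the residue field (S15231)
-/

set_option autoImplicit false
universe u
open CategoryTheory CategoryTheory.Limits MonoidalCategory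

attribute [local instance] HasDerivedCategory.standard

namespace Groth.Agent.Lib.helper23.LTenK

open Groth.Agent.Lib.helper13.KFlat Groth.Agent.Lib.helper13.RKF Groth.Agent.Lib.helper13.DerAdjL
  Groth.Agent.Lib.Helper25.LDerAdapted Groth.Agent.Lib.Helper25.TotSingle
  Groth.Agent.Lib.helper23.TensSES

section General

variable {A B : Type u} [CommRing A] [CommRing B]
  (G : ModuleCat.{u} A ⥤ ModuleCat.{u} B) [G.Additive] (LF : Dual.D A ⥤ Dual.D B)
  (α : DerivedCategory.Qh ⋙ LF ⟶ G.mapHomotopyCategory (ComplexShape.up ℤ) ⋙ DerivedCategory.Qh)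

/-- a derived functor is computed termwise at a complex where the counit is invertible. -/
theorem nonempty_iso_of_isIso_counit (X : DRing.Cx A)
    (h : IsIso (α.app ((HomotopyCategory.quotient _ (ComplexShape.up ℤ)).obj X))) :
    Nonempty (LF.obj (DerivedCategory.Q.obj X) ≅
      DerivedCategory.Q.obj ((G.mapHomologicalComplex (ComplexShape.up ℤ)).obj X)) :=
  ⟨LF.mapIso ((DerivedCategory.quotientCompQhIso _).app X).symm ≪≫
    asIso (α.app ((HomotopyCategory.quotient _ (ComplexShape.up ℤ)).obj X)) ≪≫
    DerivedCategory.Qh.mapIso ((G.mapHomotopyCategoryFactors (ComplexShape.up ℤ)).app X) ≪≫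
    (DerivedCategory.quotientCompQhIso _).app _⟩

end General

variable {R : Type u} [CommRing R]

/-- `- ⊗ M` (termwise) sends quasi-isomorphisms between K-flat complexes to quasi-isomorphisms. -/
lemma quasiIso_tensorRight_map (M : ModuleCat.{u} R) {P Q : DRing.Cx R} (hP : IsKFlatR P)
    (hQ : IsKFlatR Q) (f : P ⟶ Q) [QuasiIso f] :
    QuasiIso (((tensorRight M).mapHomologicalComplex (ComplexShape.up ℤ)).map f) :=
  (quasiIso_map_iff_of_natIso (BraidedCategory.tensorLeftIsoTensorRight M) f).1
    (quasiIso_tensorLeft_map M hP hQ f)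

/-- the counit of `- ⊗^L M` is invertible at K-flat complexes. -/
theorem isIso_counit_LTensor (M : ModuleCat.{u} R) [DRing.HasLTensor R M] (K : DRing.Cx R)
    (hK : IsKFlatR K) :
    IsIso (((DRing.tensorKh R M).totalLeftDerivedCounit DerivedCategory.Qh
      (HomotopyCategory.quasiIso (ModuleCat.{u} R) (ComplexShape.up ℤ))).app
        ((HomotopyCategory.quotient _ _).obj K)) :=
  isIso_counit_app_quotient_obj (fun K : DRing.Cx R => IsKFlatR K) hzeroR isKFlatR_shift
    (fun f h h' => isKFlatR_mappingCone f h h') exists_res (DRing.tensorKh R M)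
    (fun f hE hE' hf => isIso_map_of_adapted (G₀ := tensorRight M)
      (fun K : DRing.Cx R => IsKFlatR K)
      (fun f hE hE' hf => by
        haveI := hf
        exact quasiIso_tensorRight_map M hE hE' f) f hE hE' hf) _ _ K hK

/-- `K ⊗^L M` is computed termwise on K-flat complexes. -/
theorem nonempty_iso_LTensor_of_kflat (M : ModuleCat.{u} R) [DRing.HasLTensor R M]
    (K : DRing.Cx R) (hK : IsKFlatR K) :
    Nonempty ((DRing.LTensor R M).obj (DerivedCategory.Q.obj K) ≅
      DerivedCategory.Q.obj (((tensorRight M).mapHomologicalComplex (ComplexShape.up ℤ)).obj K)) :=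
  nonempty_iso_of_isIso_counit (tensorRight M) (DRing.LTensor R M) _ K
    (isIso_counit_LTensor M K hK)

/-- derived base change is computed termwise on K-flat complexes. -/
theorem nonempty_iso_LBaseChange_of_kflat {A : Type u} [CommRing A] (φ : R →+* A)
    [DRing.HasLBaseChange φ] (K : DRing.Cx R) (hK : IsKFlatR K) :
    Nonempty ((DRing.LBaseChange φ).obj (DerivedCategory.Q.obj K) ≅
      DerivedCategory.Q.obj (((ModuleCat.extendScalars.{u, u, u} φ).mapHomologicalComplex
        (ComplexShape.up ℤ)).obj K)) :=
  nonempty_iso_of_isIso_counit (ModuleCat.extendScalars.{u, u, u} φ) (DRing.LBaseChange φ) _ K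
    (isIso_counit φ K hK)

/-- every object of `D(R)` is represented by a K-flat complex with flat terms. -/
theorem exists_kflat_rep (P : Dual.D R) :
    ∃ (F : DRing.Cx R), IsKFlatR F ∧ DRing.TermwiseFlat F ∧
      Nonempty (DerivedCategory.Q.obj F ≅ P) := by
  obtain ⟨F, f, h1, h2, h3, -⟩ :=
    Groth.Agent.Lib.helper13.KRes.exists_isKFlatR_resolution (DerivedCategory.Q.objPreimage P)
  haveI := h3
  exact ⟨F, h1, h2, ⟨asIso (DerivedCategory.Q.map f) ≪≫ DerivedCategory.Q.objObjPreimageIso P⟩⟩

section Fibre

variable {A : Type u} [CommRing A] (φ : R →+* A)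

/-- exactness of the termwise base change gives exactness of `A ⊗_R F`. -/
lemma exactAt_tensF_AR (F : DRing.Cx R) (i : ℤ)
    (h : (((ModuleCat.extendScalars.{u, u, u} φ).mapHomologicalComplex
      (ComplexShape.up ℤ)).obj F).ExactAt i) :
    ((tensF F).obj (AR φ)).ExactAt i := by
  have h1 : (((ModuleCat.extendScalars.{u, u, u} φ ⋙
      ModuleCat.restrictScalars.{u} φ).mapHomologicalComplex (ComplexShape.up ℤ)).obj F).ExactAt i := by
    rw [HomologicalComplex.exactAt_iff_isZero_homology] at h ⊢
    exact ((ModuleCat.restrictScalars.{u} φ).map_isZero h).of_iso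
      (((((ModuleCat.extendScalars.{u, u, u} φ).mapHomologicalComplex
        (ComplexShape.up ℤ)).obj F).sc i).mapHomologyIso (ModuleCat.restrictScalars.{u} φ))
  exact TA.exactAt_of_iso ((NatIso.mapHomologicalComplex (extResIso φ)
    (ComplexShape.up ℤ)).app F) i h1

end Fibre

end Groth.Agent.Lib.helper23.LTenK
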