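import Mathlib
import Groth.Prelude.Def_Wider
import Groth.Prelude.Def_DDual2
import Groth.Prelude.Def_DRing2
import Groth.Agent.Lib.Helper23.LTenKFlat
import Groth.Agent.Lib.Helper23.FlatGlue
import Groth.Agent.Lib.Helper23.TA5
import Groth.Agent.Lib.Helper13.ExtKFlat

/-!
# helper23: `K ⊗^L N ∈ D^{≤0}` for `N` killed by a power of `I`, from `K ⊗^L R/I ∈ D^{≤0}` (S7084)

* `hasLTensor M : DRing.HasLTensor R M` (existence of `- ⊗^L M` on `D(R)`, from K-flat resolutions).
* `exactAt_tensorRight_of_kflat`: for a K-flat complex `G` with `H^j(G) = 0` for `j > 0`, `G ⊗ N` is exact in positive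
  degrees for every module `N`.
* `exactAt_tensF_of_pow`: for `F` K-flat with flat terms and `F ⊗ R/I` exact in positive degrees, `N ⊗ F` is exact in
  positive degrees for every `N` killed by a power of `I`.
* `subsingleton_HD_LTensor_of_pow` (S7084).
-/

set_option autoImplicit false
universe u
open CategoryTheory CategoryTheory.Limits MonoidalCategory

attribute [local instance] HasDerivedCategory.standard

namespace Groth.Agent.Lib.helper23.PosVan

open Groth.Agent.Lib.helper13.KFlat Groth.Agent.Lib.helper13.RKF Groth.Agent.Lib.helper13.DerAdjL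
  Groth.Agent.Lib.Helper25.LDerAdapted Groth.Agent.Lib.helper23.TensSES
  Groth.Agent.Lib.helper23.LTenK Groth.Agent.Lib.helper23.TA

variable {R : Type u} [CommRing R]

/-- the total left derived functor of `- ⊗ M` exists. -/
theorem hasLTensor (M : ModuleCat.{u} R) : DRing.HasLTensor R M :=
  hasLeftDerivedFunctor_Qh (fun K : DRing.Cx R => IsKFlatR K) hzeroR isKFlatR_shift
    (fun f h h' => isKFlatR_mappingCone f h h') exists_res (DRing.tensorKh R M)
    (fun f hE hE' hf => isIso_map_of_adapted (G₀ := tensorRight M)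
      (fun K : DRing.Cx R => IsKFlatR K)
      (fun f hE hE' hf => by
        haveI := hf
        exact quasiIso_tensorRight_map M hE hE' f) f hE hE' hf)

/-- a K-flat complex acyclic in positive degrees stays so after `- ⊗ N`. -/
theorem exactAt_tensorRight_of_kflat (G : DRing.Cx R) (hG : IsKFlatR G)
    (hex : ∀ j : ℤ, 0 < j → G.ExactAt j) (N : ModuleCat.{u} R) (j : ℤ) (hj : 0 < j) :
    (((tensorRight N).mapHomologicalComplex (ComplexShape.up ℤ)).obj G).ExactAt j := by
  haveI := hasLTensor N
  obtain ⟨P, -, hPb, hPfl, ⟨e⟩⟩ := exists_projective_rep (K := DerivedCategory.Q.obj G) (b := 0)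
    (fun i hi => by
      have := hex i hi
      rw [HomologicalComplex.exactAt_iff_isZero_homology] at this
      exact this.of_iso ((DerivedCategory.homologyFunctorFactors _ i).app G))
  have hPK : IsKFlatR P := isKFlatR_of_bounded_above P 0 hPb hPfl
  obtain ⟨e1⟩ := nonempty_iso_LTensor_of_kflat N P hPK
  obtain ⟨e2⟩ := nonempty_iso_LTensor_of_kflat N G hG
  refine exactAt_of_iso_Q (e1.symm ≪≫ (DRing.LTensor R N).mapIso e ≪≫ e2) j ?_
  refine HomologicalComplex.ExactAt.of_isZero ?_
  exact (tensorRight N).map_isZero (hPb j hj)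


section Main

open Groth.Agent.Lib.helper13.ExtKFlat

variable (F : DRing.Cx R) (hKF : IsKFlatR F) (hfl : DRing.TermwiseFlat F) (I : Ideal R)

/-- `R ⧸ I` as an `R`-module, in two ways. -/
noncomputable def quotEquiv : (R ⧸ I) ≃ₗ[R] (AR (Ideal.Quotient.mk I)) where
  toFun := fun x => x
  invFun := fun x => x
  map_add' := fun _ _ => rfl
  map_smul' := fun r x => by
    obtain ⟨y, rfl⟩ := Ideal.Quotient.mk_surjective x
    rfl
  left_inv := fun _ => rfl
  right_inv := fun _ => rfl

/-- exactness of `R/I ⊗_R F` gives exactness of the termwise base change. -/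
lemma exactAt_extCx {A : Type u} [CommRing A] (φ : R →+* A) (i : ℤ)
    (h : ((tensF F).obj (AR φ)).ExactAt i) : ((extCx φ).obj F).ExactAt i := by
  have h1 : (((ModuleCat.extendScalars.{u, u, u} φ ⋙
      ModuleCat.restrictScalars.{u} φ).mapHomologicalComplex (ComplexShape.up ℤ)).obj F).ExactAt i :=
    TA.exactAt_of_iso ((NatIso.mapHomologicalComplex (extResIso φ)
      (ComplexShape.up ℤ)).app F).symm i h
  rw [HomologicalComplex.exactAt_iff_isZero_homology] at h1 ⊢
  exact (isZero_homology_map_iff (ModuleCat.restrictScalars.{u} φ) _ i).1 h1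

include hKF in
/-- modules killed by `I`. -/
theorem exactAt_tensF_of_killed
    (hI : ∀ j : ℤ, 0 < j → ((tensF F).obj (ModuleCat.of R (R ⧸ I))).ExactAt j)
    (N : Type u) [AddCommGroup N] [Module R N] (hN : ∀ a ∈ I, ∀ x : N, a • x = 0)
    (j : ℤ) (hj : 0 < j) : ((tensF F).obj (ModuleCat.of R N)).ExactAt j := by
  have hM : Module.IsTorsionBySet R N (I : Set R) := fun x a => hN a.1 a.2 x
  letI : Module (R ⧸ I) N := hM.module
  let N' : ModuleCat.{u} (R ⧸ I) := ModuleCat.of (R ⧸ I) N
  let e0 : ((ModuleCat.restrictScalars.{u} (Ideal.Quotient.mk I)).obj N') ≃ₗ[R] N :=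
    { toFun := fun x => x
      invFun := fun x => x
      map_add' := fun _ _ => rfl
      map_smul' := fun _ _ => rfl
      left_inv := fun _ => rfl
      right_inv := fun _ => rfl }
  have hG : ∀ i : ℤ, 0 < i → ((extCx (Ideal.Quotient.mk I)).obj F).ExactAt i := fun i hi =>
    exactAt_extCx F (Ideal.Quotient.mk I) i
      (TensSES.exactAt_of_iso F (quotEquiv I).toModuleIso i (hI i hi))
  have h1 : (((tensorRight N').mapHomologicalComplex (ComplexShape.up ℤ)).obj
      ((extCx (Ideal.Quotient.mk I)).obj F)).ExactAt j :=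
    exactAt_tensorRight_of_kflat _ (isKFlatR_extCx (Ideal.Quotient.mk I) F hKF) hG N' j hj
  have h2 : ((tensF F).obj ((ModuleCat.restrictScalars.{u} (Ideal.Quotient.mk I)).obj N')).ExactAt j :=
    FlatGlue.exactAt_tensF_restrict (Ideal.Quotient.mk I) F N' j (by rw [exactAt_tensorLeft_iff]; exact h1)
  exact TensSES.exactAt_of_iso F e0.toModuleIso j h2

include hKF hfl in
/-- modules killed by a power of `I`. -/
theorem exactAt_tensF_of_pow
    (hI : ∀ j : ℤ, 0 < j → ((tensF F).obj (ModuleCat.of R (R ⧸ I))).ExactAt j) :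
    ∀ (n : ℕ) (N : Type u) [AddCommGroup N] [Module R N], (∀ a ∈ I ^ n, ∀ x : N, a • x = 0) →
      ∀ j : ℤ, 0 < j → ((tensF F).obj (ModuleCat.of R N)).ExactAt j := by
  intro n
  induction n with
  | zero =>
    intro N _ _ hN j _
    haveI : Subsingleton N := ⟨fun x y => by
      have hx := hN 1 (by simp) x
      have hy := hN 1 (by simp) y
      rw [one_smul] at hx hy
      rw [hx, hy]⟩
    exact exactAt_of_isZero F (ModuleCat.isZero_of_subsingleton _) j
  | succ n ih =>
    intro N _ _ hN j hj
    let N' : Submodule R N := I • ⊤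
    refine exactAt_middle F hfl (FlatGlue.subSC N') (FlatGlue.subSC_shortExact N') j
      (ih N' ?_ j hj) (exactAt_tensF_of_killed F hKF I hI (N ⧸ N') ?_ j hj)
    · rintro a ha ⟨x, hx⟩
      apply Subtype.ext
      show a • x = 0
      refine Submodule.smul_induction_on hx (fun r hr m _ => ?_) (fun x y hx hy => ?_)
      · rw [← mul_smul]
        exact hN _ (by rw [pow_succ]; exact Ideal.mul_mem_mul ha hr) m
      · rw [smul_add, hx, hy, add_zero]
    · intro a ha y
      obtain ⟨x, rfl⟩ := Submodule.Quotient.mk_surjective N' y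
      rw [← Submodule.Quotient.mk_smul]
      exact (Submodule.Quotient.mk_eq_zero N').2 (Submodule.smul_mem_smul ha Submodule.mem_top)

end Main

/-- **S7084**: if `K ⊗^L R/I` has no cohomology in positive degrees, neither has `K ⊗^L N` for `N` killed by a power
of `I`. -/
theorem subsingleton_HD_LTensor_of_pow (I : Ideal R)
    [DRing.HasLTensor R (ModuleCat.of R (R ⧸ I))] (K : Dual.D R)
    (hK : ∀ i : ℤ, 0 < i →
      Subsingleton (Dual.HD R ((DRing.LTensor R (ModuleCat.of R (R ⧸ I))).obj K) i))
    (N : Type u) [AddCommGroup N] [Module R N] (n : ℕ) (hN : I ^ n • (⊤ : Submodule R N) = ⊥)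
    [DRing.HasLTensor R (ModuleCat.of R N)] (i : ℤ) (hi : 0 < i) :
    Subsingleton (Dual.HD R ((DRing.LTensor R (ModuleCat.of R N)).obj K) i) := by
  obtain ⟨F, hKF, hfl, ⟨eF⟩⟩ := exists_kflat_rep K
  have hI : ∀ j : ℤ, 0 < j → ((tensF F).obj (ModuleCat.of R (R ⧸ I))).ExactAt j := by
    intro j hj
    obtain ⟨e1⟩ := nonempty_iso_LTensor_of_kflat (ModuleCat.of R (R ⧸ I)) F hKF
    show (((tensorLeft (ModuleCat.of R (R ⧸ I))).mapHomologicalComplex
      (ComplexShape.up ℤ)).obj F).ExactAt j
    rw [TA.exactAt_tensorLeft_iff, HomologicalComplex.exactAt_iff_isZero_homology]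
    haveI := hK j hj
    have hz : IsZero ((DerivedCategory.homologyFunctor _ j).obj
        ((DRing.LTensor R (ModuleCat.of R (R ⧸ I))).obj K)) :=
      ModuleCat.isZero_of_subsingleton _
    exact hz.of_iso (((DerivedCategory.homologyFunctorFactors _ j).app _).symm ≪≫
      (DerivedCategory.homologyFunctor _ j).mapIso
        (e1.symm ≪≫ (DRing.LTensor R (ModuleCat.of R (R ⧸ I))).mapIso eF))
  have hN' : ∀ a ∈ I ^ n, ∀ x : N, a • x = 0 := by
    intro a ha x
    have : a • x ∈ I ^ n • (⊤ : Submodule R N) := Submodule.smul_mem_smul ha Submodule.mem_top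
    rw [hN] at this
    exact (Submodule.mem_bot R).1 this
  obtain ⟨e2⟩ := nonempty_iso_LTensor_of_kflat (ModuleCat.of R N) F hKF
  have h3 : (((tensorLeft (ModuleCat.of R N)).mapHomologicalComplex
      (ComplexShape.up ℤ)).obj F).ExactAt i := exactAt_tensF_of_pow F hKF hfl I hI n N hN' i hi
  rw [TA.exactAt_tensorLeft_iff, HomologicalComplex.exactAt_iff_isZero_homology] at h3
  have hz : IsZero ((DerivedCategory.homologyFunctor _ i).obj
      ((DRing.LTensor R (ModuleCat.of R N)).obj K)) :=
    h3.of_iso ((DerivedCategory.homologyFunctor _ i).mapIso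
      ((DRing.LTensor R (ModuleCat.of R N)).mapIso eF.symm ≪≫ e2) ≪≫
      (DerivedCategory.homologyFunctorFactors _ i).app _)
  exact ModuleCat.subsingleton_of_isZero hz

end Groth.Agent.Lib.helper23.PosVan
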