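import Mathlib
import Groth.Prelude.Def_Wider
import Groth.Prelude.Def_DDual2
import Groth.Prelude.Def_DRing2
import Groth.Agent.Lib.Helper23.PosVan

/-!
# helper23: dévissage over a finite family of surjections whose kernels have product zero, complex level

`φ i : R →+* Rf i` surjective (`i : Fin k`) with `∏ i, ker (φ i) = ⊥` (e.g. `k` copies of a surjection with
`(ker φ)^k = 0`, or `R/IJ → R/I`, `R/IJ → R/J`).

* `exactAt_tensorRight_of_amp`, `exactAt_tensorRight_of_bddAbove`: for K-flat `G`, exactness of `G ⊗ N` outside the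
  tor amplitude / above the cohomological bound.
* `exists_module_of_killed`: an `R`-module killed by `ker φ` (`φ` surjective) is restricted from the target.
* `devissage_prod`: a property of modules with the middle two-out-of-three property holds for modules killed by a
  product of ideals as soon as it holds for modules killed by one of the factors.
* `exactAt_tensF_of_family`: for `F` K-flat with flat terms, if `(Rf i ⊗ F) ⊗ N'` is exact in the degrees of `J` for all
  `i` and `N'` then `N ⊗ F` is exact in the degrees of `J` for every `R`-module `N`.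
-/

set_option autoImplicit false
universe u
open CategoryTheory CategoryTheory.Limits MonoidalCategory

attribute [local instance] HasDerivedCategory.standard

namespace Groth.Agent.Lib.helper23.NilDesc

open Groth.Agent.Lib.helper13.KFlat Groth.Agent.Lib.helper13.RKF Groth.Agent.Lib.helper13.DerAdjL
  Groth.Agent.Lib.Helper25.LDerAdapted Groth.Agent.Lib.helper23.TensSES
  Groth.Agent.Lib.helper23.LTenK Groth.Agent.Lib.helper23.TA Groth.Agent.Lib.helper23.PosVan
  Groth.Agent.Lib.helper13.ExtKFlat

variable {R : Type u} [CommRing R]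

/-- a K-flat complex with tor amplitude in `[a, b]` stays exact outside `[a, b]` after `- ⊗ N`. -/
theorem exactAt_tensorRight_of_amp (G : DRing.Cx R) (hG : IsKFlatR G) (a b : ℤ)
    (h : DRing.HasTorAmplitudeIn R a b (DerivedCategory.Q.obj G)) (N : ModuleCat.{u} R) (j : ℤ)
    (hj : j < a ∨ b < j) :
    (((tensorRight N).mapHomologicalComplex (ComplexShape.up ℤ)).obj G).ExactAt j := by
  haveI := hasLTensor N
  obtain ⟨E, hV, hfl, ⟨e⟩⟩ := h
  have hEK : IsKFlatR E := isKFlatR_of_bounded_above E b (fun i hi => hV i (Or.inr hi)) hfl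
  obtain ⟨e1⟩ := nonempty_iso_LTensor_of_kflat N E hEK
  obtain ⟨e2⟩ := nonempty_iso_LTensor_of_kflat N G hG
  refine exactAt_of_iso_Q (e1.symm ≪≫ (DRing.LTensor R N).mapIso e ≪≫ e2) j ?_
  refine HomologicalComplex.ExactAt.of_isZero ?_
  exact (tensorRight N).map_isZero (hV j hj)

/-- a K-flat complex acyclic above `b` stays so after `- ⊗ N`. -/
theorem exactAt_tensorRight_of_bddAbove (G : DRing.Cx R) (hG : IsKFlatR G) (b : ℤ)
    (hex : ∀ j : ℤ, b < j → G.ExactAt j) (N : ModuleCat.{u} R) (j : ℤ) (hj : b < j) :
    (((tensorRight N).mapHomologicalComplex (ComplexShape.up ℤ)).obj G).ExactAt j := by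
  haveI := hasLTensor N
  obtain ⟨P, -, hPb, hPfl, ⟨e⟩⟩ := exists_projective_rep (K := DerivedCategory.Q.obj G) (b := b)
    (fun i hi => by
      have := hex i hi
      rw [HomologicalComplex.exactAt_iff_isZero_homology] at this
      exact this.of_iso ((DerivedCategory.homologyFunctorFactors _ i).app G))
  have hPK : IsKFlatR P := isKFlatR_of_bounded_above P b hPb hPfl
  obtain ⟨e1⟩ := nonempty_iso_LTensor_of_kflat N P hPK
  obtain ⟨e2⟩ := nonempty_iso_LTensor_of_kflat N G hG
  refine exactAt_of_iso_Q (e1.symm ≪≫ (DRing.LTensor R N).mapIso e ≪≫ e2) j ?_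
  refine HomologicalComplex.ExactAt.of_isZero ?_
  exact (tensorRight N).map_isZero (hPb j hj)

section Killed

variable {S : Type u} [CommRing S] (φ : R →+* S) (hφ : Function.Surjective φ)

include hφ in
/-- a module killed by the kernel of a surjection is restricted from the target. -/
theorem exists_module_of_killed (N : Type u) [AddCommGroup N] [Module R N]
    (hN : ∀ a ∈ RingHom.ker φ, ∀ x : N, a • x = 0) :
    ∃ N' : ModuleCat.{u} S,
      Nonempty ((ModuleCat.restrictScalars.{u} φ).obj N' ≅ ModuleCat.of R N) := by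
  letI : SMul S N := ⟨fun s x => Function.surjInv hφ s • x⟩
  have hsmul : ∀ (c : R) (x : N), φ c • x = c • x := by
    intro c x
    show Function.surjInv hφ (φ c) • x = c • x
    have h1 : Function.surjInv hφ (φ c) - c ∈ RingHom.ker φ := by
      rw [RingHom.mem_ker, map_sub, Function.surjInv_eq hφ, sub_self]
    have h2 := hN _ h1 x
    rw [sub_smul, sub_eq_zero] at h2
    exact h2
  letI : Module S N := Function.Surjective.moduleLeft φ hφ hsmul
  let e0 : ((ModuleCat.restrictScalars.{u} φ).obj (ModuleCat.of S N)) ≃ₗ[R] N :=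
    { toFun := fun x => x
      invFun := fun x => x
      map_add' := fun _ _ => rfl
      map_smul' := fun r x => hsmul r x
      left_inv := fun _ => rfl
      right_inv := fun _ => rfl }
  exact ⟨ModuleCat.of S N, ⟨e0.toModuleIso⟩⟩

include hφ in
/-- exactness of `N ⊗ F` for `N` killed by `ker φ`, from exactness of `(S ⊗ F) ⊗ N'` for all `S`-modules `N'`. -/
theorem exactAt_tensF_of_killed (F : DRing.Cx R) (j : ℤ)
    (hG : ∀ N' : ModuleCat.{u} S,
      (((tensorRight N').mapHomologicalComplex (ComplexShape.up ℤ)).obj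
        ((extCx φ).obj F)).ExactAt j)
    (N : Type u) [AddCommGroup N] [Module R N]
    (hN : ∀ a ∈ RingHom.ker φ, ∀ x : N, a • x = 0) :
    ((tensF F).obj (ModuleCat.of R N)).ExactAt j := by
  obtain ⟨N', ⟨e⟩⟩ := exists_module_of_killed φ hφ N hN
  have h2 : ((tensF F).obj ((ModuleCat.restrictScalars.{u} φ).obj N')).ExactAt j :=
    FlatGlue.exactAt_tensF_restrict φ F N' j (by rw [exactAt_tensorLeft_iff]; exact hG N')
  exact TensSES.exactAt_of_iso F e j h2

end Killed

section Devissage

/-- dévissage over a product of ideals. -/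
theorem devissage_prod (P : ∀ (N : Type u) [AddCommGroup N] [Module R N], Prop)
    (hzero : ∀ (N : Type u) [AddCommGroup N] [Module R N], Subsingleton N → P N)
    (hmid : ∀ (N : Type u) [AddCommGroup N] [Module R N] (N' : Submodule R N),
      P N' → P (N ⧸ N') → P N) :
    ∀ (k : ℕ) (I : Fin k → Ideal R),
      (∀ (i : Fin k) (N : Type u) [AddCommGroup N] [Module R N],
        (∀ a ∈ I i, ∀ x : N, a • x = 0) → P N) →
      ∀ (N : Type u) [AddCommGroup N] [Module R N],
        (∀ a ∈ ∏ i, I i, ∀ x : N, a • x = 0) → P N := by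
  intro k
  induction k with
  | zero =>
    intro I _ N _ _ hN
    refine hzero N ⟨fun x y => ?_⟩
    have hx := hN 1 (by simp) x
    have hy := hN 1 (by simp) y
    rw [one_smul] at hx hy
    rw [hx, hy]
  | succ k ih =>
    intro I hI N _ _ hN
    let N' : Submodule R N := I 0 • ⊤
    refine hmid N N' (ih (fun i => I i.succ) (fun i => hI i.succ) N' ?_) (hI 0 (N ⧸ N') ?_)
    · rintro a ha ⟨x, hx⟩
      apply Subtype.ext
      show a • x = 0
      refine Submodule.smul_induction_on hx (fun r hr m _ => ?_) (fun x y hx hy => ?_)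
      · rw [← mul_smul]
        refine hN _ ?_ m
        rw [Fin.prod_univ_succ, mul_comm]
        exact Ideal.mul_mem_mul ha hr
      · rw [smul_add, hx, hy, add_zero]
    · intro a ha y
      obtain ⟨x, rfl⟩ := Submodule.Quotient.mk_surjective N' y
      rw [← Submodule.Quotient.mk_smul]
      exact (Submodule.Quotient.mk_eq_zero N').2 (Submodule.smul_mem_smul ha Submodule.mem_top)

end Devissage



section Family

variable {k : ℕ} (Rf : Fin k → Type u) [∀ i, CommRing (Rf i)] (φ : ∀ i, R →+* Rf i)
  (hφ : ∀ i, Function.Surjective (φ i)) (hprod : ∏ i, RingHom.ker (φ i) = ⊥)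

include hφ hprod in
/-- exactness of `N ⊗ F` at `j` for every `N`, from the base changes along the family. -/
theorem exactAt_tensF_of_family (F : DRing.Cx R) (hfl : DRing.TermwiseFlat F) (j : ℤ)
    (hG : ∀ (i : Fin k) (N' : ModuleCat.{u} (Rf i)),
      (((tensorRight N').mapHomologicalComplex (ComplexShape.up ℤ)).obj
        ((extCx (φ i)).obj F)).ExactAt j)
    (N : Type u) [AddCommGroup N] [Module R N] :
    ((tensF F).obj (ModuleCat.of R N)).ExactAt j := by
  have h0 : ∀ (N : Type u) [AddCommGroup N] [Module R N], Subsingleton N →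
      ((tensF F).obj (ModuleCat.of R N)).ExactAt j := by
    intro N _ _ hN
    exact exactAt_of_isZero F (ModuleCat.isZero_of_subsingleton _) j
  have h1 : ∀ (N : Type u) [AddCommGroup N] [Module R N] (N' : Submodule R N),
      ((tensF F).obj (ModuleCat.of R N')).ExactAt j →
      ((tensF F).obj (ModuleCat.of R (N ⧸ N'))).ExactAt j →
      ((tensF F).obj (ModuleCat.of R N)).ExactAt j := by
    intro N _ _ N' h1 h3
    exact exactAt_middle F hfl (FlatGlue.subSC N') (FlatGlue.subSC_shortExact N') j h1 h3
  have h2 : ∀ (i : Fin k) (N : Type u) [AddCommGroup N] [Module R N],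
      (∀ a ∈ RingHom.ker (φ i), ∀ x : N, a • x = 0) →
      ((tensF F).obj (ModuleCat.of R N)).ExactAt j := by
    intro i N _ _ hN
    exact exactAt_tensF_of_killed (φ i) (hφ i) F j (hG i) N hN
  have h3 : ∀ a ∈ ∏ i, RingHom.ker (φ i), ∀ x : N, a • x = 0 := by
    intro a ha x
    rw [hprod] at ha
    rw [(Submodule.mem_bot R).1 ha, zero_smul]
  exact devissage_prod (R := R)
    (fun (N : Type u) [AddCommGroup N] [Module R N] => ((tensF F).obj (ModuleCat.of R N)).ExactAt j)
    h0 h1 k (fun i => RingHom.ker (φ i)) h2 N h3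

end Family

end Groth.Agent.Lib.helper23.NilDesc
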