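import Mathlib
import Groth.Prelude.Def_Wider
import Groth.Prelude.Def_DDual2
import Groth.Prelude.Def_DRing2
import Groth.Prelude.Def_DRing3
import Groth.Agent.Lib.Helper23.NilDesc1
import Groth.Agent.Lib.Helper23.DCompl9
import Groth.Agent.Lib.Helper23.DCompl3
import Groth.Agent.Lib.Helper23.HomNat
import Groth.Agent.Lib.Helper23.TA3

/-!
# helper23: derived Nakayama for derived complete objects (S7055, S7056)

* `epi_mono_homologyMap_mul`, `exactAt_tensF_cone`: `N ⊗ cone(f : F → F)` is exact above `b` if `N[f] ⊗ F` and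
  `N/fN ⊗ F` are (`F` with flat terms).
* `exactAt_of_derivedComplete b s F`: for `F` K-flat with flat terms, derived complete with respect to every element of
  the finite set `s`, if `N ⊗ F` is exact above `b` for every `N` killed by `s` then `F` is exact above `b`
  (induction on `s` through the cones of multiplication by the generators).
* `exactAt_of_quotient`, `isZero_homology_of_LTensor_quotient`: `K` derived complete w.r.t. a f.g. ideal `I`,
  `K ⊗^L A/I ∈ D^{≤ b}` ⇒ `K ∈ D^{≤ b}`; `isZero_homology_LTensor` (`- ⊗^L M` is right t-exact);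
  `isZero_of_homology`.
-/

set_option autoImplicit false
universe u
open CategoryTheory CategoryTheory.Limits MonoidalCategory

attribute [local instance] HasDerivedCategory.standard

namespace Groth.Agent.Lib.helper23.DNak

open Groth.Agent.Lib.helper13.KFlat Groth.Agent.Lib.helper13.RKF
  Groth.Agent.Lib.helper23.TensSES Groth.Agent.Lib.helper23.LTenK Groth.Agent.Lib.helper23.TA
  Groth.Agent.Lib.helper23.PosVan Groth.Agent.Lib.helper13.ExtKFlat
  Groth.Agent.Lib.helper23.DCompl

variable {A : Type u} [CommRing A]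

section LES

variable (F : DRing.Cx A) (hfl : DRing.TermwiseFlat F) (S : ShortComplex (ModuleCat.{u} A))
  (hS : S.ShortExact)

include hfl hS

lemma mono_homologyMap_g (i : ℤ) (h₁ : ((tensF F).obj S.X₁).ExactAt i) :
    Mono (HomologicalComplex.homologyMap ((tensF F).map S.g) i) :=
  ((tensSC_shortExact F hfl S hS).homology_exact₂ i).mono_g
    (IsZero.eq_of_src h₁.isZero_homology _ _)

lemma epi_homologyMap_g (i : ℤ) (h₁ : ((tensF F).obj S.X₁).ExactAt (i + 1)) :
    Epi (HomologicalComplex.homologyMap ((tensF F).map S.g) i) :=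
  ((tensSC_shortExact F hfl S hS).homology_exact₃ i (i + 1) rfl).epi_f
    (IsZero.eq_of_tgt h₁.isZero_homology _ _)

lemma mono_homologyMap_f (i : ℤ) (h₃ : ((tensF F).obj S.X₃).ExactAt (i - 1)) :
    Mono (HomologicalComplex.homologyMap ((tensF F).map S.f) i) :=
  ((tensSC_shortExact F hfl S hS).homology_exact₁ (i - 1) i (by simp)).mono_g
    (IsZero.eq_of_src h₃.isZero_homology _ _)

lemma epi_homologyMap_f (i : ℤ) (h₃ : ((tensF F).obj S.X₃).ExactAt i) :
    Epi (HomologicalComplex.homologyMap ((tensF F).map S.f) i) :=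
  ((tensSC_shortExact F hfl S hS).homology_exact₂ i).epi_f
    (IsZero.eq_of_tgt h₃.isZero_homology _ _)

end LES


section Step

variable (F : DRing.Cx A) (hfl : DRing.TermwiseFlat F) (f : A) (b : ℤ)
  (N : Type u) [AddCommGroup N] [Module A N]

/-- multiplication by `f` on `N`. -/
abbrev mulN : N →ₗ[A] N := LinearMap.lsmul A N f

/-- `0 → N[f] → N → fN → 0`. -/
noncomputable def kerSC : ShortComplex (ModuleCat.{u} A) :=
  ShortComplex.mk (ModuleCat.ofHom (LinearMap.ker (mulN f N)).subtype)
    (ModuleCat.ofHom (mulN f N).rangeRestrict) (by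
      ext x
      exact LinearMap.mem_ker.1 x.2)

lemma kerSC_shortExact : (kerSC f N).ShortExact :=
  ModuleCat.shortComplex_shortExact (kerSC f N)
    (by
      intro y
      constructor
      · intro hy
        exact ⟨⟨y, congrArg Subtype.val hy⟩, rfl⟩
      · rintro ⟨x, rfl⟩
        exact Subtype.ext x.2)
    (Submodule.subtype_injective (LinearMap.ker (mulN f N)))
    (LinearMap.surjective_rangeRestrict (mulN f N))

include hfl in
lemma epi_mono_homologyMap_mul
    (hK : ∀ i : ℤ, b < i →
      ((tensF F).obj (ModuleCat.of A (LinearMap.ker (mulN f N)))).ExactAt i)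
    (hC : ∀ i : ℤ, b < i →
      ((tensF F).obj (ModuleCat.of A (N ⧸ LinearMap.range (mulN f N)))).ExactAt i)
    (i : ℤ) (hi : b < i) :
    Epi (HomologicalComplex.homologyMap ((tensF F).map (ModuleCat.ofHom (mulN f N))) i) ∧
      Mono (HomologicalComplex.homologyMap ((tensF F).map (ModuleCat.ofHom (mulN f N))) (i + 1)) := by
  let α : ModuleCat.of A N ⟶ ModuleCat.of A (LinearMap.range (mulN f N)) :=
    ModuleCat.ofHom (mulN f N).rangeRestrict
  let β : ModuleCat.of A (LinearMap.range (mulN f N)) ⟶ ModuleCat.of A N :=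
    ModuleCat.ofHom (LinearMap.range (mulN f N)).subtype
  have hαβ : ModuleCat.ofHom (mulN f N) = α ≫ β := rfl
  rw [hαβ, Functor.map_comp, HomologicalComplex.homologyMap_comp,
    HomologicalComplex.homologyMap_comp]
  have h1 : Epi (HomologicalComplex.homologyMap ((tensF F).map α) i) :=
    epi_homologyMap_g F hfl (kerSC f N) (kerSC_shortExact f N) i (hK (i + 1) (by omega))
  have h2 : Epi (HomologicalComplex.homologyMap ((tensF F).map β) i) :=
    epi_homologyMap_f F hfl (FlatGlue.subSC (LinearMap.range (mulN f N)))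
      (FlatGlue.subSC_shortExact _) i (hC i hi)
  have h3 : Mono (HomologicalComplex.homologyMap ((tensF F).map α) (i + 1)) :=
    mono_homologyMap_g F hfl (kerSC f N) (kerSC_shortExact f N) (i + 1) (hK (i + 1) (by omega))
  have h4 : Mono (HomologicalComplex.homologyMap ((tensF F).map β) (i + 1)) :=
    mono_homologyMap_f F hfl (FlatGlue.subSC (LinearMap.range (mulN f N)))
      (FlatGlue.subSC_shortExact _) (i + 1) (by
        have := hC i hi
        rwa [show i + 1 - 1 = i by ring])
  exact ⟨epi_comp _ _, mono_comp _ _⟩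

lemma mapHC_smul_eq :
    ((tensorLeft (ModuleCat.of A N)).mapHomologicalComplex (ComplexShape.up ℤ)).map (f • 𝟙 F) =
      (tensF F).map (ModuleCat.ofHom (mulN f N)) := by
  ext p : 1
  apply ModuleCat.hom_ext
  apply TensorProduct.ext'
  intro n x
  show n ⊗ₜ[A] ((f • 𝟙 F : F ⟶ F).f p).hom x = (f • n) ⊗ₜ[A] x
  rw [TensorProduct.smul_tmul]
  rfl

include hfl in
/-- `N ⊗ cone(f)` is exact above `b` if `N[f] ⊗ F` and `N/fN ⊗ F` are. -/
lemma exactAt_tensF_cone
    (hK : ∀ i : ℤ, b < i →
      ((tensF F).obj (ModuleCat.of A (LinearMap.ker (mulN f N)))).ExactAt i)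
    (hC : ∀ i : ℤ, b < i →
      ((tensF F).obj (ModuleCat.of A (N ⧸ LinearMap.range (mulN f N)))).ExactAt i)
    (i : ℤ) (hi : b < i) :
    ((tensF (CochainComplex.mappingCone (f • 𝟙 F))).obj (ModuleCat.of A N)).ExactAt i := by
  obtain ⟨h1, h2⟩ := epi_mono_homologyMap_mul F hfl f b N hK hC i hi
  rw [← mapHC_smul_eq] at h1 h2
  have h3 := Groth.Agent.Lib.helper23.PCohCore.isZero_homology_mappingCone _ i h1 h2
  rw [← HomologicalComplex.exactAt_iff_isZero_homology] at h3
  exact TA.exactAt_of_iso (CochainComplex.mappingCone.mapHomologicalComplexIso (f • 𝟙 F)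
    (tensorLeft (ModuleCat.of A N))).symm i h3

end Step


section Main

open Groth.Agent.Lib.helper23.HomNat

/-- if the cone of `φ` is exact at `i` then `H^i(φ)` is an epimorphism. -/
lemma epi_homologyMap_of_exactAt_cone {F G : DRing.Cx A} (φ : F ⟶ G) (i : ℤ)
    (h : (CochainComplex.mappingCone φ).ExactAt i) :
    Epi (HomologicalComplex.homologyMap φ i) := by
  have hT := DerivedCategory.mappingCone_triangle_distinguished φ
  have e2 := CochainComplex.homologyMap_exact₂_of_distTriang _ hT i
  exact e2.epi_f (IsZero.eq_of_tgt h.isZero_homology _ _)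

lemma homologyMap_smul_id (F : DRing.Cx A) (f : A) (i : ℤ) :
    HomologicalComplex.homologyMap (f • 𝟙 F) i = f • 𝟙 (F.homology i) := by
  show (HomologicalComplex.homologyFunctor _ _ i).map (f • 𝟙 F) = _
  rw [Functor.map_smul, CategoryTheory.Functor.map_id]
  rfl

/-- **derived Nakayama, complex form**: for `F` K-flat with flat terms, derived complete with respect to the elements of
`s`, if `N ⊗ F` is exact above `b` for every `N` killed by `s`, then `F` is exact above `b`. -/
theorem exactAt_of_derivedComplete (b : ℤ) : ∀ (s : Finset A) (F : DRing.Cx A), IsKFlatR F →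
    DRing.TermwiseFlat F →
    (∀ f ∈ s, ∀ n : ℤ,
      Subsingleton (Dual.inD A (Localization.Away f) ⟶ (DerivedCategory.Q.obj F)⟦n⟧)) →
    (∀ (N : Type u) [AddCommGroup N] [Module A N], (∀ a ∈ s, ∀ x : N, a • x = 0) →
      ∀ i : ℤ, b < i → ((tensF F).obj (ModuleCat.of A N)).ExactAt i) →
    ∀ i : ℤ, b < i → F.ExactAt i := by
  intro s
  classical
  induction s using Finset.induction_on with
  | empty =>
    intro F _ _ _ hN i hi
    exact exactAt_of_tensorLeft_unit F i (hN A (by simp) i hi)
  | insert f s hfs ih =>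
    intro F hKF hfl hDC hN i hi
    have hT := DerivedCategory.mappingCone_triangle_distinguished (f • 𝟙 F)
    have hcone : ∀ j : ℤ, b < j → (CochainComplex.mappingCone (f • 𝟙 F)).ExactAt j := by
      refine ih (CochainComplex.mappingCone (f • 𝟙 F)) (isKFlatR_mappingCone _ hKF hKF)
        (termwiseFlat_mappingCone _ hfl hfl) ?_ ?_
      · intro g hg n
        exact P_third _ _ hT n (hDC g (Finset.mem_insert_of_mem hg) n)
          (hDC g (Finset.mem_insert_of_mem hg) (n + 1))
      · intro N _ _ hNs j hj
        refine exactAt_tensF_cone F hfl f b N ?_ ?_ j hj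
        · refine hN _ ?_
          intro a ha x
          apply Subtype.ext
          rcases Finset.mem_insert.1 ha with rfl | ha
          · exact LinearMap.mem_ker.1 x.2
          · exact hNs a ha x.1
        · refine hN _ ?_
          intro a ha y
          obtain ⟨x, rfl⟩ := Submodule.Quotient.mk_surjective _ y
          rw [← Submodule.Quotient.mk_smul]
          rcases Finset.mem_insert.1 ha with rfl | ha
          · exact (Submodule.Quotient.mk_eq_zero _).2 ⟨x, rfl⟩
          · rw [hNs a ha x, Submodule.Quotient.mk_zero]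
    have hepi : Epi (HomologicalComplex.homologyMap (f • 𝟙 F) i) :=
      epi_homologyMap_of_exactAt_cone _ i (hcone i hi)
    rw [homologyMap_smul_id] at hepi
    have hseq := (general_criterion f (DerivedCategory.Q.obj F)).1
      (hDC f (Finset.mem_insert_self f s)) i
    have hseq' : SeqC f (F.homology i) :=
      SeqC.of_equiv ((DerivedCategory.homologyFunctorFactors _ i).app F).toLinearEquiv hseq
    have h0 : En f 0 (F.homology i) := En_of_seqC f hseq' 0
    have hs : ∀ m : F.homology i, ∃ m' : F.homology i, f • m' = m := by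
      intro m
      obtain ⟨m', hm'⟩ := (ModuleCat.epi_iff_surjective _).1 hepi m
      exact ⟨m', hm'⟩
    haveI : Subsingleton (F.homology i) :=
      ⟨fun a b => by rw [eq_zero_of_surj f h0 hs a, eq_zero_of_surj f h0 hs b]⟩
    rw [HomologicalComplex.exactAt_iff_isZero_homology]
    exact ModuleCat.isZero_of_subsingleton _

end Main


section Rows

variable (I : Ideal A)

open ZeroObject in
lemma isZero_of_homology (X : Dual.D A)
    (h : ∀ n : ℤ, IsZero ((DerivedCategory.homologyFunctor _ n).obj X)) : IsZero X := by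
  obtain ⟨O, hO⟩ : ∃ O : Dual.D A, IsZero O := ⟨0, isZero_zero _⟩
  haveI : IsIso (0 : X ⟶ O) := by
    rw [DerivedCategory.isIso_iff]
    intro n
    have hO' : IsZero ((DerivedCategory.homologyFunctor _ n).obj O) := Functor.map_isZero _ hO
    exact ⟨0, (h n).eq_of_src _ _, hO'.eq_of_src _ _⟩
  exact IsZero.of_iso hO (asIso (0 : X ⟶ O))

/-- for `F` K-flat with flat terms, derived complete with respect to the finitely generated ideal `I`: if
`A/I ⊗ F` is exact above `b` then so is `F`. -/
theorem exactAt_of_quotient (hI : I.FG) (F : DRing.Cx A) (hKF : IsKFlatR F)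
    (hfl : DRing.TermwiseFlat F) (hDC : DRing.IsDerivedComplete I (DerivedCategory.Q.obj F))
    (b : ℤ) (hq : ∀ i : ℤ, b < i → ((tensF F).obj (ModuleCat.of A (A ⧸ I))).ExactAt i)
    (i : ℤ) (hi : b < i) : F.ExactAt i := by
  obtain ⟨s, hs⟩ := hI
  refine exactAt_of_derivedComplete b s F hKF hfl
    (fun f hf n => hDC f (hs ▸ Ideal.subset_span hf) n) ?_ i hi
  intro N _ _ hN j hj
  have hNI : ∀ a ∈ I, ∀ x : N, a • x = 0 := by
    intro a ha x
    rw [← hs] at ha
    induction ha using Submodule.span_induction with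
    | mem a ha => exact hN a ha x
    | zero => exact zero_smul _ _
    | add a b _ _ ha hb => rw [add_smul, ha, hb, add_zero]
    | smul c a _ ha => rw [smul_eq_mul, mul_smul, ha, smul_zero]
  have hG : ∀ l : ℤ, b < l → ((extCx (Ideal.Quotient.mk I)).obj F).ExactAt l := fun l hl =>
    exactAt_extCx F (Ideal.Quotient.mk I) l
      (TensSES.exactAt_of_iso F (quotEquiv I).toModuleIso l (hq l hl))
  exact NilDesc.exactAt_tensF_of_killed (Ideal.Quotient.mk I) Ideal.Quotient.mk_surjective F j
    (fun N' => NilDesc.exactAt_tensorRight_of_bddAbove _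
      (isKFlatR_extCx (Ideal.Quotient.mk I) F hKF) b hG N' j hj) N
    (by rwa [Ideal.mk_ker])

/-- D-level: cohomology above `b` of a derived complete object vanishes if that of `K ⊗^L A/I` does. -/
theorem isZero_homology_of_LTensor_quotient (hI : I.FG)
    [DRing.HasLTensor A (ModuleCat.of A (A ⧸ I))] (K : Dual.D A)
    (hc : DRing.IsDerivedComplete I K) (b : ℤ)
    (h : ∀ i : ℤ, b < i → IsZero ((DerivedCategory.homologyFunctor _ i).obj
      ((DRing.LTensor A (ModuleCat.of A (A ⧸ I))).obj K)))
    (i : ℤ) (hi : b < i) : IsZero ((DerivedCategory.homologyFunctor _ i).obj K) := by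
  obtain ⟨F, hKF, hfl, ⟨eF⟩⟩ := exists_kflat_rep K
  obtain ⟨e1⟩ := nonempty_iso_LTensor_of_kflat (ModuleCat.of A (A ⧸ I)) F hKF
  have hq : ∀ j : ℤ, b < j → ((tensF F).obj (ModuleCat.of A (A ⧸ I))).ExactAt j := by
    intro j hj
    show (((tensorLeft (ModuleCat.of A (A ⧸ I))).mapHomologicalComplex
      (ComplexShape.up ℤ)).obj F).ExactAt j
    rw [TA.exactAt_tensorLeft_iff, HomologicalComplex.exactAt_iff_isZero_homology]
    exact (h j hj).of_iso (((DerivedCategory.homologyFunctorFactors _ j).app _).symm ≪≫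
      (DerivedCategory.homologyFunctor _ j).mapIso
        (e1.symm ≪≫ (DRing.LTensor A (ModuleCat.of A (A ⧸ I))).mapIso eF))
  have hDC : DRing.IsDerivedComplete I (DerivedCategory.Q.obj F) := fun f hf n =>
    subsingleton_of_iso _ ((shiftFunctor (Dual.D A) n).mapIso eF.symm) (hc f hf n)
  have h4 := exactAt_of_quotient I hI F hKF hfl hDC b hq i hi
  rw [HomologicalComplex.exactAt_iff_isZero_homology] at h4
  exact h4.of_iso ((DerivedCategory.homologyFunctor _ i).mapIso eF.symm ≪≫
    (DerivedCategory.homologyFunctorFactors _ i).app _)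

/-- D-level: `- ⊗^L M` is right t-exact. -/
theorem isZero_homology_LTensor (M : ModuleCat.{u} A) [DRing.HasLTensor A M] (K : Dual.D A)
    (b : ℤ) (h : ∀ i : ℤ, b < i → IsZero ((DerivedCategory.homologyFunctor _ i).obj K))
    (i : ℤ) (hi : b < i) :
    IsZero ((DerivedCategory.homologyFunctor _ i).obj ((DRing.LTensor A M).obj K)) := by
  obtain ⟨F, hKF, hfl, ⟨eF⟩⟩ := exists_kflat_rep K
  obtain ⟨e1⟩ := nonempty_iso_LTensor_of_kflat M F hKF
  have hex : ∀ j : ℤ, b < j → F.ExactAt j := by
    intro j hj
    rw [HomologicalComplex.exactAt_iff_isZero_homology]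
    exact (h j hj).of_iso (((DerivedCategory.homologyFunctorFactors _ j).app _).symm ≪≫
      (DerivedCategory.homologyFunctor _ j).mapIso eF)
  have h3 := NilDesc.exactAt_tensorRight_of_bddAbove F hKF b hex M i hi
  rw [HomologicalComplex.exactAt_iff_isZero_homology] at h3
  exact h3.of_iso ((DerivedCategory.homologyFunctor _ i).mapIso
    ((DRing.LTensor A M).mapIso eF.symm ≪≫ e1) ≪≫
    (DerivedCategory.homologyFunctorFactors _ i).app _)

end Rows

end Groth.Agent.Lib.helper23.DNak
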