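import Mathlib
import Groth.Prelude.Def_DDual2
import Groth.Agent.Lib.Helper25.DerAdjK
import Groth.Agent.Lib.Helper25.DerBC2
import Groth.Agent.Lib.Helper25.KInjMain

/-!
# Restriction of scalars on derived categories has a right adjoint (helper23)

`exists_rightAdjoint_restrictD φ`: for every homomorphism of commutative rings `φ : A →+* B`, the
functor `DRing.restrictD φ : D(B) ⥤ D(A)` has a right adjoint (`RHom_A(B, -)`), obtained from
helper25's K-injective resolutions and derived adjunctions.
-/

set_option autoImplicit false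
universe u
open CategoryTheory CategoryTheory.Limits

attribute [local instance] HasDerivedCategory.standard

namespace Groth.Agent.Lib.helper23.RHomEx

/-- K-injective resolutions in `ModuleCat A`. -/
theorem hKinj (A : Type u) [CommRing A] (K : CochainComplex (ModuleCat.{u} A) ℤ) :
    ∃ (I : CochainComplex (ModuleCat.{u} A) ℤ) (f : K ⟶ I), I.IsKInjective ∧ QuasiIso f := by
  obtain ⟨I, f, hI, hf, -, -⟩ := Groth.Agent.Lib.Helper25.KInjMain.exists_kInjective_resolution K
  exact ⟨I, f, hI, hf⟩

/-- restriction of scalars on derived categories has a right adjoint. -/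
theorem exists_rightAdjoint_restrictD {A B : Type u} [CommRing A] [CommRing B] (φ : A →+* B) :
    ∃ R : Dual.D A ⥤ Dual.D B, Nonempty (DRing.restrictD φ ⊣ R) := by
  haveI : (ModuleCat.coextendScalars.{u, u, u} φ).Additive :=
    (ModuleCat.restrictCoextendScalarsAdj.{u, u, u} φ).right_adjoint_additive
  let Φ : HomotopyCategory (ModuleCat.{u} A) (ComplexShape.up ℤ) ⥤ Dual.D B :=
    (ModuleCat.coextendScalars.{u, u, u} φ).mapHomotopyCategory (ComplexShape.up ℤ) ⋙
      DerivedCategory.Qh
  haveI : Φ.HasRightDerivedFunctor (HomotopyCategory.quasiIso (ModuleCat.{u} A) (ComplexShape.up ℤ)) :=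
    Groth.Agent.Lib.Helper25.DerBC.hasRightDerivedFunctor (hKinj A) Φ
  obtain ⟨adj', -⟩ := Groth.Agent.Lib.Helper25.DerAdjK.exists_adjunction (hKinj A)
    (ModuleCat.restrictCoextendScalarsAdj.{u, u, u} φ)
    (Φ.totalRightDerived DerivedCategory.Qh
      (HomotopyCategory.quasiIso (ModuleCat.{u} A) (ComplexShape.up ℤ)))
    (Φ.totalRightDerivedUnit DerivedCategory.Qh
      (HomotopyCategory.quasiIso (ModuleCat.{u} A) (ComplexShape.up ℤ)))
  exact ⟨_, ⟨adj'⟩⟩

end Groth.Agent.Lib.helper23.RHomEx
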