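import Mathlib
import Groth.Prelude.Def_DRing4

/-!
# The Hom complex `DRing.homCx K L`: cohomology and quasi-isomorphisms (helper23)

* `sc_quasiIso_of_elementwise`, `quasiIso_of_elementwise`: elementwise criterion for a morphism of
  (short / cochain) complexes of modules to be a quasi-isomorphism.
* `cyc K L n`: the `n`-cocycles of `homCx K L` as a submodule of `Cochain K L n`;
  `Ψ K L n : cyc K L n →ₗ[A] (Q K ⟶ Q (L⟦n⟧))`, `Ψ_postcomp`, `Ψ_precomp`, `Ψ_eq_zero_iff`,
  `Ψ_surjective_of_isKProjective`, `Ψ_surjective_of_isKInjective`.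
* `homCxMapLeft f L : homCx K' L ⟶ homCx K L` (precomposition with `f : K ⟶ K'`).
* `quasiIso_homCxMap_of_isKProjective`: `Hom•(P, -)` preserves quasi-isomorphisms for `P` K-projective.
* `quasiIso_homCxMap_of_isKInjective`: a quasi-isomorphism between K-injective complexes induces a
  quasi-isomorphism on `Hom•(K, -)`, any `K`.
* `quasiIso_homCxMapLeft`: `Hom•(-, I)` sends quasi-isomorphisms to quasi-isomorphisms for `I` K-injective.
-/

set_option autoImplicit false
universe u
open CategoryTheory CategoryTheory.Limits DerivedCategory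
open CochainComplex.HomComplex

attribute [local instance] HasDerivedCategory.standard

namespace Groth.Agent.Lib.helper23.RHomCx

variable {A : Type u} [CommRing A]

/-- elementwise criterion for a morphism of short complexes of modules to be a quasi-isomorphism -/
theorem sc_quasiIso_of_elementwise {S₁ S₂ : ShortComplex (ModuleCat.{u} A)} (ψ : S₁ ⟶ S₂)
    (hsurj : ∀ y : S₂.X₂, S₂.g y = 0 → ∃ (x : S₁.X₂) (b : S₂.X₁), S₁.g x = 0 ∧ ψ.τ₂ x = y + S₂.f b)
    (hinj : ∀ x : S₁.X₂, S₁.g x = 0 → (∃ b : S₂.X₁, ψ.τ₂ x = S₂.f b) → ∃ a : S₁.X₁, x = S₁.f a) :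
    ShortComplex.QuasiIso ψ := by
  have hmap : ∀ x : LinearMap.ker S₁.g.hom, ψ.τ₂.hom x.1 ∈ LinearMap.ker S₂.g.hom := by
    intro x
    rw [LinearMap.mem_ker]
    have h := congrArg (fun t => t.hom x.1) ψ.comm₂₃
    simp only [ModuleCat.hom_comp, LinearMap.comp_apply] at h
    rw [h]
    have hx : S₁.g.hom x.1 = 0 := x.2
    rw [hx, map_zero]
  let φK : LinearMap.ker S₁.g.hom →ₗ[A] LinearMap.ker S₂.g.hom :=
    (ψ.τ₂.hom.comp (LinearMap.ker S₁.g.hom).subtype).codRestrict _ hmap
  have hle : LinearMap.range S₁.moduleCatToCycles ≤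
      (LinearMap.range S₂.moduleCatToCycles).comap φK := by
    rintro _ ⟨a, rfl⟩
    refine ⟨ψ.τ₁.hom a, Subtype.ext ?_⟩
    have h := congrArg (fun t => t.hom a) ψ.comm₁₂
    simp only [ModuleCat.hom_comp, LinearMap.comp_apply] at h
    exact h
  let φH := Submodule.mapQ _ _ φK hle
  let γ : ShortComplex.LeftHomologyMapData ψ S₁.moduleCatLeftHomologyData
      S₂.moduleCatLeftHomologyData :=
    { φK := ModuleCat.ofHom φK
      φH := ModuleCat.ofHom φH
      commi := by
        ext x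
        rfl
      commf' := by
        ext a
        apply Subtype.ext
        have h := congrArg (fun t => t.hom a) ψ.comm₁₂
        simp only [ModuleCat.hom_comp, LinearMap.comp_apply] at h
        exact h.symm
      commπ := by
        ext x
        rfl }
  rw [γ.quasiIso_iff]
  rw [ConcreteCategory.isIso_iff_bijective]
  constructor
  · rw [← LinearMap.ker_eq_bot, LinearMap.ker_eq_bot']
    intro q hq
    obtain ⟨x, rfl⟩ := Submodule.mkQ_surjective _ q
    have hq' : φH (Submodule.Quotient.mk x) = 0 := hq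
    have h1 : φH (Submodule.Quotient.mk x) = Submodule.Quotient.mk (φK x) := rfl
    rw [h1, Submodule.Quotient.mk_eq_zero] at hq'
    obtain ⟨b, hb⟩ := hq'
    have hb' : ψ.τ₂ x.1 = S₂.f b := by
      have := congrArg Subtype.val hb
      exact this.symm
    obtain ⟨a, ha⟩ := hinj x.1 x.2 ⟨b, hb'⟩
    show Submodule.Quotient.mk x = 0
    rw [Submodule.Quotient.mk_eq_zero]
    exact ⟨a, Subtype.ext ha.symm⟩
  · intro q
    obtain ⟨y, rfl⟩ := Submodule.mkQ_surjective _ q
    obtain ⟨x, b, hx, hxy⟩ := hsurj y.1 y.2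
    refine ⟨Submodule.Quotient.mk ⟨x, hx⟩, ?_⟩
    show Submodule.Quotient.mk (φK ⟨x, hx⟩) = Submodule.Quotient.mk y
    rw [Submodule.Quotient.eq]
    refine ⟨b, Subtype.ext ?_⟩
    show S₂.f b = ψ.τ₂ x - y.1
    rw [hxy]
    abel

/-- elementwise criterion for a morphism of cochain complexes of modules to be a
quasi-isomorphism in degree `n` -/
theorem quasiIsoAt_of_elementwise {X Y : CochainComplex (ModuleCat.{u} A) ℤ} (φ : X ⟶ Y) (n : ℤ)
    (hsurj : ∀ y : Y.X n, Y.d n (n + 1) y = 0 →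
      ∃ (x : X.X n) (b : Y.X (n - 1)), X.d n (n + 1) x = 0 ∧ φ.f n x = y + Y.d (n - 1) n b)
    (hinj : ∀ x : X.X n, X.d n (n + 1) x = 0 → (∃ b : Y.X (n - 1), φ.f n x = Y.d (n - 1) n b) →
      ∃ a : X.X (n - 1), x = X.d (n - 1) n a) :
    QuasiIsoAt φ n := by
  rw [quasiIsoAt_iff' φ (n - 1) n (n + 1) (by simp) (by simp)]
  exact sc_quasiIso_of_elementwise _ hsurj hinj

theorem quasiIso_of_elementwise {X Y : CochainComplex (ModuleCat.{u} A) ℤ} (φ : X ⟶ Y)
    (hsurj : ∀ (n : ℤ) (y : Y.X n), Y.d n (n + 1) y = 0 →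
      ∃ (x : X.X n) (b : Y.X (n - 1)), X.d n (n + 1) x = 0 ∧ φ.f n x = y + Y.d (n - 1) n b)
    (hinj : ∀ (n : ℤ) (x : X.X n), X.d n (n + 1) x = 0 →
      (∃ b : Y.X (n - 1), φ.f n x = Y.d (n - 1) n b) → ∃ a : X.X (n - 1), x = X.d (n - 1) n a) :
    QuasiIso φ :=
  ⟨fun n => quasiIsoAt_of_elementwise φ n (hsurj n) (hinj n)⟩

section Psi

variable (K L : DRing.Cx A) (n : ℤ)

lemma homCx_d_apply (m : ℤ) (z : Cochain K L n) :
    (DRing.homCx K L).d n m z = δ n m z := rfl

/-- the class in `Hom_{D(A)}(K, L⟦n⟧)` of a cocycle -/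
noncomputable def Ψ : Cocycle K L n →+ (Q.obj K ⟶ Q.obj (L⟦n⟧)) where
  toFun z := Q.map (Cocycle.equivHomShift.symm z)
  map_zero' := by rw [map_zero, Functor.map_zero]
  map_add' z z' := by rw [map_add, Functor.map_add]

variable {K L n}

lemma Ψ_apply (z : Cocycle K L n) :
    Ψ K L n z = Qh.map (CohomologyClass.toHom (CohomologyClass.mk z)) := rfl

lemma Ψ_postcomp (z : Cocycle K L n) {L' : DRing.Cx A} (g : L ⟶ L') :
    Ψ K L' n (z.postcomp g) = Ψ K L n z ≫ Q.map (g⟦n⟧') := by
  show Q.map _ = Q.map _ ≫ _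
  rw [Cocycle.equivHomShift_symm_postcomp, Functor.map_comp]

lemma Ψ_precomp (z : Cocycle K L n) {K' : DRing.Cx A} (g : K' ⟶ K) :
    Ψ K' L n (z.precomp g) = Q.map g ≫ Ψ K L n z := by
  show Q.map _ = _ ≫ Q.map _
  rw [Cocycle.equivHomShift_symm_precomp, Functor.map_comp]

lemma Ψ_eq_zero_of_coboundary (z : Cocycle K L n) (β : Cochain K L (n - 1))
    (h : δ (n - 1) n β = z.1) : Ψ K L n z = 0 := by
  rw [Ψ_apply]
  have : CohomologyClass.toHom (CohomologyClass.mk z) = 0 := by
    rw [CohomologyClass.toHom_mk_eq_zero_iff, mem_coboundaries_iff z (n - 1) (by omega)]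
    exact ⟨β, h⟩
  rw [this, Functor.map_zero]
  rfl

lemma exists_coboundary_of_isKProjective [K.IsKProjective] (z : Cocycle K L n)
    (h : Ψ K L n z = 0) : ∃ β : Cochain K L (n - 1), δ (n - 1) n β = z.1 := by
  rw [Ψ_apply] at h
  have h0 : CohomologyClass.toHom (CohomologyClass.mk z) = 0 := by
    apply (CochainComplex.IsKProjective.Qh_map_bijective K _).1
    rw [h, Functor.map_zero]
    rfl
  rw [CohomologyClass.toHom_mk_eq_zero_iff, mem_coboundaries_iff z (n - 1) (by omega)] at h0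
  exact h0

lemma exists_coboundary_of_isKInjective [L.IsKInjective] (z : Cocycle K L n)
    (h : Ψ K L n z = 0) : ∃ β : Cochain K L (n - 1), δ (n - 1) n β = z.1 := by
  rw [Ψ_apply] at h
  have h0 : CohomologyClass.toHom (CohomologyClass.mk z) = 0 := by
    apply (CochainComplex.IsKInjective.Qh_map_bijective _ (L⟦n⟧)).1
    rw [h, Functor.map_zero]
    rfl
  rw [CohomologyClass.toHom_mk_eq_zero_iff, mem_coboundaries_iff z (n - 1) (by omega)] at h0
  exact h0

lemma Ψ_surjective_of_isKProjective [K.IsKProjective] : Function.Surjective (Ψ K L n) := by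
  intro f
  obtain ⟨h, hh⟩ := (CochainComplex.IsKProjective.Qh_map_bijective K
    ((HomotopyCategory.quotient _ _).obj (L⟦n⟧))).2 f
  obtain ⟨c, rfl⟩ := (CohomologyClass.toHom_bijective K L n).2 h
  obtain ⟨z, rfl⟩ := c.mk_surjective
  exact ⟨z, hh⟩

lemma Ψ_surjective_of_isKInjective [L.IsKInjective] : Function.Surjective (Ψ K L n) := by
  intro f
  obtain ⟨h, hh⟩ := (CochainComplex.IsKInjective.Qh_map_bijective
    ((HomotopyCategory.quotient _ _).obj K) (L⟦n⟧)).2 f
  obtain ⟨c, rfl⟩ := (CohomologyClass.toHom_bijective K L n).2 h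
  obtain ⟨z, rfl⟩ := c.mk_surjective
  exact ⟨z, hh⟩

end Psi

section QI

lemma homCxMap_f_apply (K : DRing.Cx A) {L L' : DRing.Cx A} (f : L ⟶ L') (n : ℤ)
    (z : Cochain K L n) :
    (DRing.homCxMap K f).f n z = z.comp (Cochain.ofHom f) (add_zero n) := rfl

/-- the cocycle attached to an element of `homCx K L` killed by the differential -/
noncomputable def mkCocycle {K L : DRing.Cx A} {n : ℤ} (z : Cochain K L n)
    (hz : (DRing.homCx K L).d n (n + 1) z = 0) : Cocycle K L n :=
  Cocycle.mk z (n + 1) rfl hz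

@[simp] lemma mkCocycle_coe {K L : DRing.Cx A} {n : ℤ} (z : Cochain K L n)
    (hz : (DRing.homCx K L).d n (n + 1) z = 0) : (mkCocycle z hz).1 = z := rfl

lemma homCx_d_cocycle {K L : DRing.Cx A} {n : ℤ} (z : Cocycle K L n) :
    (DRing.homCx K L).d n (n + 1) z.1 = 0 := Cocycle.δ_eq_zero z (n + 1)

/-- abstract form of the quasi-isomorphism statements -/
theorem quasiIso_homCxMap_aux (K : DRing.Cx A) {L L' : DRing.Cx A} (f : L ⟶ L') [QuasiIso f]
    (hs : ∀ n : ℤ, Function.Surjective (Ψ K L n))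
    (hc : ∀ (n : ℤ) (z : Cocycle K L n), Ψ K L n z = 0 →
      ∃ β : Cochain K L (n - 1), δ (n - 1) n β = z.1)
    (hc' : ∀ (n : ℤ) (z : Cocycle K L' n), Ψ K L' n z = 0 →
      ∃ β : Cochain K L' (n - 1), δ (n - 1) n β = z.1) :
    QuasiIso (DRing.homCxMap K f) := by
  have hiso : ∀ n : ℤ, IsIso (Q.map (f⟦n⟧')) := fun n => by
    rw [isIso_Q_map_iff_quasiIso]
    infer_instance
  apply quasiIso_of_elementwise
  · intro n (y : Cochain K L' n) hy
    haveI := hiso n
    obtain ⟨x, hx⟩ := hs n (Ψ K L' n (mkCocycle y hy) ≫ inv (Q.map (f⟦n⟧')))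
    have h1 : Ψ K L' n (x.postcomp f - mkCocycle y hy) = 0 := by
      rw [map_sub, Ψ_postcomp, hx, Category.assoc, IsIso.inv_hom_id, Category.comp_id, sub_self]
    obtain ⟨β, hβ⟩ := hc' n _ h1
    refine ⟨x.1, β, homCx_d_cocycle x, ?_⟩
    show x.1.comp (Cochain.ofHom f) (add_zero n) = y + δ (n - 1) n β
    have h2 : δ (n - 1) n β = x.1.comp (Cochain.ofHom f) (add_zero n) - y := hβ
    rw [h2]
    abel
  · intro n (x : Cochain K L n) hx hb
    obtain ⟨b, hb⟩ := hb
    haveI := hiso n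
    have h1 : Ψ K L' n ((mkCocycle x hx).postcomp f) = 0 :=
      Ψ_eq_zero_of_coboundary _ b hb.symm
    rw [Ψ_postcomp] at h1
    have h2 : Ψ K L n (mkCocycle x hx) = 0 := by
      rw [← cancel_mono (Q.map (f⟦n⟧')), h1, zero_comp]
    obtain ⟨a, ha⟩ := hc n _ h2
    exact ⟨a, ha.symm⟩

/-- `Hom•(P, -)` preserves quasi-isomorphisms for `P` K-projective. -/
theorem quasiIso_homCxMap_of_isKProjective (P : DRing.Cx A) [P.IsKProjective]
    {L L' : DRing.Cx A} (f : L ⟶ L') [QuasiIso f] : QuasiIso (DRing.homCxMap P f) :=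
  quasiIso_homCxMap_aux P f (fun _ => Ψ_surjective_of_isKProjective)
    (fun _ z h => exists_coboundary_of_isKProjective z h)
    (fun _ z h => exists_coboundary_of_isKProjective z h)

/-- a quasi-isomorphism between K-injective complexes induces a quasi-isomorphism on
`Hom•(K, -)`. -/
theorem quasiIso_homCxMap_of_isKInjective (K : DRing.Cx A)
    {L L' : DRing.Cx A} [L.IsKInjective] [L'.IsKInjective] (f : L ⟶ L') [QuasiIso f] :
    QuasiIso (DRing.homCxMap K f) :=
  quasiIso_homCxMap_aux K f (fun _ => Ψ_surjective_of_isKInjective)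
    (fun _ z h => exists_coboundary_of_isKInjective z h)
    (fun _ z h => exists_coboundary_of_isKInjective z h)

end QI

section Left

/-- precomposition with `f` as a linear map on cochains -/
noncomputable def precompLin {K K' : DRing.Cx A} (f : K ⟶ K') (L : DRing.Cx A) (i : ℤ) :
    Cochain K' L i →ₗ[A] Cochain K L i where
  toFun z := (Cochain.ofHom f).comp z (zero_add i)
  map_add' z z' := by simp
  map_smul' a z := by simp

/-- contravariant functoriality of `Hom•(-, L)` -/
noncomputable def homCxMapLeft {K K' : DRing.Cx A} (f : K ⟶ K') (L : DRing.Cx A) :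
    DRing.homCx K' L ⟶ DRing.homCx K L where
  f i := ModuleCat.ofHom (precompLin f L i)
  comm' i j _ := by
    ext z
    change δ i j ((Cochain.ofHom f).comp z (zero_add i)) = (Cochain.ofHom f).comp (δ i j z) (zero_add j)
    exact δ_ofHom_comp f z j

lemma homCxMapLeft_f_apply {K K' : DRing.Cx A} (f : K ⟶ K') (L : DRing.Cx A) (n : ℤ)
    (z : Cochain K' L n) :
    (homCxMapLeft f L).f n z = (Cochain.ofHom f).comp z (zero_add n) := rfl

lemma homCxMapLeft_id (K L : DRing.Cx A) : homCxMapLeft (𝟙 K) L = 𝟙 _ := by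
  refine HomologicalComplex.hom_ext _ _ fun i => ModuleCat.hom_ext (LinearMap.ext fun (z : Cochain K L i) => ?_)
  exact Cochain.id_comp z

lemma homCxMapLeft_comp {K K' K'' : DRing.Cx A} (f : K ⟶ K') (g : K' ⟶ K'') (L : DRing.Cx A) :
    homCxMapLeft (f ≫ g) L = homCxMapLeft g L ≫ homCxMapLeft f L := by
  refine HomologicalComplex.hom_ext _ _ fun i => ModuleCat.hom_ext (LinearMap.ext fun (z : Cochain K'' L i) => ?_)
  change (Cochain.ofHom (f ≫ g)).comp z (zero_add i) =
    (Cochain.ofHom f).comp ((Cochain.ofHom g).comp z (zero_add i)) (zero_add i)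
  rw [Cochain.ofHom_comp]
  exact Cochain.comp_assoc_of_first_is_zero_cochain _ _ _ _

lemma homCxMapLeft_comm {K K' L L' : DRing.Cx A} (f : K ⟶ K') (g : L ⟶ L') :
    homCxMapLeft f L ≫ DRing.homCxMap K g = DRing.homCxMap K' g ≫ homCxMapLeft f L' := by
  refine HomologicalComplex.hom_ext _ _ fun i => ModuleCat.hom_ext (LinearMap.ext fun (z : Cochain K' L i) => ?_)
  change ((Cochain.ofHom f).comp z (zero_add i)).comp (Cochain.ofHom g) (add_zero i) =
    (Cochain.ofHom f).comp (z.comp (Cochain.ofHom g) (add_zero i)) (zero_add i)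
  exact Cochain.comp_assoc_of_first_is_zero_cochain _ _ _ _

/-- `Hom•(-, I)` sends quasi-isomorphisms to quasi-isomorphisms for `I` K-injective. -/
theorem quasiIso_homCxMapLeft {K K' : DRing.Cx A} (f : K ⟶ K') [QuasiIso f] (I : DRing.Cx A)
    [I.IsKInjective] : QuasiIso (homCxMapLeft f I) := by
  haveI : IsIso (Q.map f) := by
    rw [isIso_Q_map_iff_quasiIso]
    infer_instance
  apply quasiIso_of_elementwise
  · intro n (y : Cochain K I n) hy
    obtain ⟨x, hx⟩ := Ψ_surjective_of_isKInjective (K := K') (L := I) (n := n)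
      (inv (Q.map f) ≫ Ψ K I n (mkCocycle y hy))
    have h1 : Ψ K I n (x.precomp f - mkCocycle y hy) = 0 := by
      rw [map_sub, Ψ_precomp, hx, IsIso.hom_inv_id_assoc, sub_self]
    obtain ⟨β, hβ⟩ := exists_coboundary_of_isKInjective _ h1
    refine ⟨x.1, β, homCx_d_cocycle x, ?_⟩
    show (Cochain.ofHom f).comp x.1 (zero_add n) = y + δ (n - 1) n β
    have h2 : δ (n - 1) n β = (Cochain.ofHom f).comp x.1 (zero_add n) - y := hβ
    rw [h2]
    abel
  · intro n (x : Cochain K' I n) hx hb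
    obtain ⟨b, hb⟩ := hb
    have h1 : Ψ K I n ((mkCocycle x hx).precomp f) = 0 :=
      Ψ_eq_zero_of_coboundary _ b hb.symm
    rw [Ψ_precomp] at h1
    have h2 : Ψ K' I n (mkCocycle x hx) = 0 := by
      rw [← cancel_epi (Q.map f), h1, comp_zero]
    obtain ⟨a, ha⟩ := exists_coboundary_of_isKInjective _ h2
    exact ⟨a, ha.symm⟩

end Left

end Groth.Agent.Lib.helper23.RHomCx
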