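import Mathlib
import Groth.Prelude.Def_DRing4
import Groth.Agent.Lib.Helper23.RHomCx1
import Groth.Agent.Lib.Helper23.RHomEx
import Groth.Agent.Lib.Helper25.DerBC

/-!
# `DRing.RHomCx K` is computed by K-injective resolutions (helper23)

* `homCxHomotopy`, `homCxQ_map_eq_of_homotopic`: `Hom•(K, -)` is homotopy invariant.
* `descF`, `descα`, `isLeftKanExtension_descα`: a right derived functor along `Q` of a homotopy
  invariant functor is a right derived functor along `Qh`.
* `isIso_unit_app_of_isKInjective`: the unit of any right derived functor (along `Q`) of a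
  homotopy invariant functor on complexes of modules is invertible at K-injective complexes.
* `η K : homCxQ K ⟶ Q ⋙ RHomCx K`, `isIso_η_app K I`: `RHom(K, Q I) ≅ Q (Hom•(K, I))` for `I`
  K-injective; `RHomCxIso`.
* `isIso_η_of_isKProjective`, `nonempty_RHomCx_iso_of_isKProjective` (S6996):
  `RHom(P, Q L) ≅ Q (Hom•(P, L))` for `P` K-projective.
-/

set_option autoImplicit false
universe w v u v₃ u₃
open CategoryTheory CategoryTheory.Limits DerivedCategory
open CochainComplex.HomComplex

namespace Groth.Agent.Lib.helper23.RHomCx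

section HtpySec

attribute [local instance] HasDerivedCategory.standard

variable {A : Type u} [CommRing A]

section Htpy

/-- composition with a fixed cochain, as a linear map -/
noncomputable def compLin (K : DRing.Cx A) {L L' : DRing.Cx A} {m : ℤ} (H : Cochain L L' m)
    (p q : ℤ) (hpq : p + m = q) : Cochain K L p →ₗ[A] Cochain K L' q where
  toFun z := z.comp H hpq
  map_add' z z' := by simp
  map_smul' a z := by simp

/-- the homotopy on `Hom•(K, -)` induced by a homotopy -/
noncomputable def homCxHomotopy (K : DRing.Cx A) {L L' : DRing.Cx A} {f g : L ⟶ L'}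
    (h : Homotopy f g) : Homotopy (DRing.homCxMap K f) (DRing.homCxMap K g) := by
  refine (Cochain.equivHomotopy _ _).symm
    ⟨Cochain.mk (fun p q hpq => ModuleCat.ofHom (compLin K (Cochain.ofHomotopy h) p q hpq)), ?_⟩
  refine Cochain.ext₀ _ _ (fun p => ?_)
  rw [Cochain.add_v, δ_v (-1) 0 (neg_add_cancel 1) _ p p (add_zero p) (p - 1) (p + 1) rfl rfl]
  simp only [Cochain.ofHom_v, Cochain.mk_v, Int.negOnePow_zero, one_smul]
  apply ModuleCat.hom_ext
  apply LinearMap.ext
  intro (z : Cochain K L p)
  show z.comp (Cochain.ofHom f) (add_zero p) =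
    (δ (p - 1) p (z.comp (Cochain.ofHomotopy h) (by omega)) +
      (δ p (p + 1) z).comp (Cochain.ofHomotopy h) (by omega)) +
      z.comp (Cochain.ofHom g) (add_zero p)
  rw [δ_comp z (Cochain.ofHomotopy h) (show p + (-1) = p - 1 by omega) (p + 1) 0 p (by omega) rfl
    (neg_add_cancel 1), δ_ofHomotopy]
  simp only [Int.negOnePow_neg, Int.negOnePow_one, Units.neg_smul, one_smul, Cochain.comp_sub]
  abel

lemma homCxQ_map_eq_of_homotopic (K : DRing.Cx A) (L L' : DRing.Cx A) (f g : L ⟶ L')
    (h : homotopic (ModuleCat.{u} A) (ComplexShape.up ℤ) f g) :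
    (DRing.homCxQ K).map f = (DRing.homCxQ K).map g := by
  obtain ⟨h⟩ := h
  exact congrArg DerivedCategory.Qh.map (HomotopyCategory.eq_of_homotopy _ _ (homCxHomotopy K h))

end Htpy

end HtpySec

section Bridge

open HomotopyCategory

variable {A₀ : Type u} [Category.{v} A₀] [Abelian A₀] [HasDerivedCategory.{w} A₀]
  {H : Type u₃} [Category.{v₃} H]
  (F : CochainComplex A₀ ℤ ⥤ H)
  (hF : ∀ (K L : CochainComplex A₀ ℤ) (f g : K ⟶ L),
    homotopic A₀ (ComplexShape.up ℤ) f g → F.map f = F.map g)

/-- The functor on the homotopy category induced by a homotopy invariant functor. -/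
noncomputable def descF : HomotopyCategory A₀ (ComplexShape.up ℤ) ⥤ H :=
  CategoryTheory.Quotient.lift _ F hF

/-- The natural transformation on the homotopy category induced by `F ⟶ Q ⋙ RF`. -/
noncomputable def descα (RF : DerivedCategory A₀ ⥤ H) (α : F ⟶ DerivedCategory.Q ⋙ RF) :
    descF F hF ⟶ DerivedCategory.Qh ⋙ RF :=
  CategoryTheory.Quotient.natTransLift _
    (show quotient _ _ ⋙ descF F hF ⟶ quotient _ _ ⋙ (DerivedCategory.Qh ⋙ RF) from
      (CategoryTheory.Quotient.lift.isLift _ F hF).hom ≫ α)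

lemma descα_app (RF : DerivedCategory A₀ ⥤ H) (α : F ⟶ DerivedCategory.Q ⋙ RF)
    (K : CochainComplex A₀ ℤ) :
    (descα F hF RF α).app ((quotient _ _).obj K) = α.app K := by
  change 𝟙 _ ≫ α.app K = _
  exact Category.id_comp _

/-- The natural transformation on cochain complexes induced by `descF F ⟶ Qh ⋙ G`. -/
noncomputable def liftβ (G : DerivedCategory A₀ ⥤ H) (β : descF F hF ⟶ DerivedCategory.Qh ⋙ G) :
    F ⟶ DerivedCategory.Q ⋙ G :=
  (CategoryTheory.Quotient.lift.isLift _ F hF).inv ≫
    (show quotient _ _ ⋙ descF F hF ⟶ DerivedCategory.Q ⋙ G from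
      Functor.whiskerLeft (quotient _ _) β)

lemma liftβ_app (G : DerivedCategory A₀ ⥤ H) (β : descF F hF ⟶ DerivedCategory.Qh ⋙ G)
    (K : CochainComplex A₀ ℤ) :
    (liftβ F hF G β).app K = β.app ((quotient _ _).obj K) := by
  change 𝟙 _ ≫ β.app ((quotient _ _).obj K) = _
  exact Category.id_comp _

/-- a left Kan extension along `Q` of a homotopy invariant functor is a left Kan extension along
`Qh` of the induced functor. -/
lemma isLeftKanExtension_descα (RF : DerivedCategory A₀ ⥤ H) (α : F ⟶ DerivedCategory.Q ⋙ RF)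
    [RF.IsLeftKanExtension α] : RF.IsLeftKanExtension (descα F hF RF α) := by
  have hdesc : ∀ (G' : DerivedCategory A₀ ⥤ H) (β' : descF F hF ⟶ DerivedCategory.Qh ⋙ G'),
      descα F hF RF α ≫ Functor.whiskerLeft DerivedCategory.Qh
        (RF.descOfIsLeftKanExtension α G' (liftβ F hF G' β')) = β' := by
    intro G' β'
    ext X
    obtain ⟨K, rfl⟩ := X.quotient_obj_surjective
    rw [NatTrans.comp_app, Functor.whiskerLeft_app, descα_app, ← liftβ_app F hF G' β' K]
    exact RF.descOfIsLeftKanExtension_fac_app α G' (liftβ F hF G' β') K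
  refine ⟨⟨Limits.IsInitial.ofUniqueHom
    (fun E => StructuredArrow.homMk _ (hdesc E.right E.hom)) (fun E m => ?_)⟩⟩
  apply StructuredArrow.ext
  apply RF.hom_ext_of_isLeftKanExtension α
  have hm : descα F hF RF α ≫ Functor.whiskerLeft DerivedCategory.Qh m.right = E.hom :=
    StructuredArrow.w m
  ext K
  have h1 : α.app K ≫ m.right.app (DerivedCategory.Qh.obj ((quotient _ _).obj K)) =
      E.hom.app ((quotient _ _).obj K) := by
    rw [← descα_app F hF RF α K]
    exact congr_app hm ((quotient _ _).obj K)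
  have h2 : α.app K ≫ (RF.descOfIsLeftKanExtension α E.right
      (liftβ F hF E.right E.hom)).app (DerivedCategory.Qh.obj ((quotient _ _).obj K)) =
      E.hom.app ((quotient _ _).obj K) := by
    rw [← descα_app F hF RF α K]
    exact congr_app (hdesc E.right E.hom) ((quotient _ _).obj K)
  exact h1.trans h2.symm

end Bridge

section Unit

attribute [local instance] HasDerivedCategory.standard

variable {A : Type u} [CommRing A] {H : Type u₃} [Category.{v₃} H]

/-- the unit of any right derived functor (along `Q`) of a homotopy invariant functor on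
complexes of modules is invertible at K-injective complexes. -/
theorem isIso_unit_app_of_isKInjective (F : DRing.Cx A ⥤ H)
    (hF : ∀ (K L : DRing.Cx A) (f g : K ⟶ L),
      homotopic (ModuleCat.{u} A) (ComplexShape.up ℤ) f g → F.map f = F.map g)
    (RF : Dual.D A ⥤ H) (α : F ⟶ DerivedCategory.Q ⋙ RF) [RF.IsLeftKanExtension α]
    (I : DRing.Cx A) [I.IsKInjective] : IsIso (α.app I) := by
  haveI := isLeftKanExtension_descα F hF RF α
  have h := Groth.Agent.Lib.Helper25.DerBC.isIso_unit_app_of_isKInjective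
    (Groth.Agent.Lib.helper23.RHomEx.hKinj A) (descF F hF) RF (descα F hF RF α) I
  rwa [descα_app] at h

/-- quasi-isomorphisms of complexes of `A`-modules -/
abbrev W (A : Type u) [CommRing A] : MorphismProperty (DRing.Cx A) :=
  HomologicalComplex.quasiIso (ModuleCat.{u} A) (ComplexShape.up ℤ)

/-- the unit of `RHom(K, -)` -/
noncomputable abbrev η (K : DRing.Cx A) [DRing.HasRHomCx K] :
    DRing.homCxQ K ⟶ DerivedCategory.Q ⋙ DRing.RHomCx K :=
  (DRing.homCxQ K).totalRightDerivedUnit DerivedCategory.Q (W A)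

instance (K : DRing.Cx A) [DRing.HasRHomCx K] : (DRing.RHomCx K).IsLeftKanExtension (η K) :=
  Functor.IsRightDerivedFunctor.isLeftKanExtension _ _ (W A)

/-- `RHom(K, Q I) = Q (Hom•(K, I))` for `I` K-injective. -/
theorem isIso_η_app (K : DRing.Cx A) [DRing.HasRHomCx K] (I : DRing.Cx A) [I.IsKInjective] :
    IsIso ((η K).app I) :=
  isIso_unit_app_of_isKInjective (DRing.homCxQ K) (homCxQ_map_eq_of_homotopic K)
    (DRing.RHomCx K) (η K) I

/-- `RHom(K, Q I) ≅ Q (Hom•(K, I))` for `I` K-injective. -/
noncomputable def RHomCxIso (K : DRing.Cx A) [DRing.HasRHomCx K] (I : DRing.Cx A)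
    [I.IsKInjective] :
    DerivedCategory.Q.obj (DRing.homCx K I) ≅ (DRing.RHomCx K).obj (DerivedCategory.Q.obj I) :=
  @asIso _ _ _ _ ((η K).app I) (isIso_η_app K I)

/-- for `P` K-projective, `Hom•(P, -) ⋙ Q` inverts quasi-isomorphisms -/
lemma isInvertedBy_homCxQ (P : DRing.Cx A) [P.IsKProjective] :
    (W A).IsInvertedBy (DRing.homCxQ P) := by
  intro L L' f hf
  haveI : QuasiIso f := hf
  change IsIso (DerivedCategory.Q.map (DRing.homCxMap P f))
  rw [DerivedCategory.isIso_Q_map_iff_quasiIso]
  exact quasiIso_homCxMap_of_isKProjective P f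

theorem isIso_η_of_isKProjective (P : DRing.Cx A) [P.IsKProjective] [DRing.HasRHomCx P] :
    IsIso (η P) :=
  Functor.isIso_of_isRightDerivedFunctor_of_inverts (DRing.RHomCx P) (η P)
    (isInvertedBy_homCxQ P)

/-- `RHom(P, Q L) ≅ Q (Hom•(P, L))` for `P` K-projective and any `L`. -/
theorem nonempty_RHomCx_iso_of_isKProjective (P : DRing.Cx A) [P.IsKProjective]
    [DRing.HasRHomCx P] (L : DRing.Cx A) :
    Nonempty ((DRing.RHomCx P).obj (DRing.toD L) ≅ DRing.toD (DRing.homCx P L)) := by
  haveI := isIso_η_of_isKProjective P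
  exact ⟨(asIso ((η P).app L)).symm⟩

end Unit

end Groth.Agent.Lib.helper23.RHomCx
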