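import Mathlib
import Groth.Prelude.Def_DRing4

/-!
# Tensor-Hom adjunction for complexes of modules, part 1 (helper23)

`toT : Cochain K (homCx L M) n → Cochain (K ⊗ L) M n` and its inverse `fromT` (no signs needed
with Mathlib's conventions).
-/

set_option autoImplicit false
universe u
open CategoryTheory CategoryTheory.Limits MonoidalCategory
open CochainComplex.HomComplex HomologicalComplex

namespace Groth.Agent.Lib.helper23.TensHom

variable {A : Type u} [CommRing A] (K L M : DRing.Cx A)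

/-- evaluation of a cochain at a pair of degrees, as a linear map -/
noncomputable def ev {k : ℤ} (q m' : ℤ) (h : q + k = m') :
    Cochain L M k →ₗ[A] (L.X q →ₗ[A] M.X m') where
  toFun w := (w.v q m' h).hom
  map_add' w w' := by rw [Cochain.add_v]; rfl
  map_smul' a w := by rw [Cochain.smul_v]; rfl

variable {K L M}

/-- the bilinear map attached to a cochain with values in the Hom complex -/
noncomputable def bil {n : ℤ} (z : Cochain K (DRing.homCx L M) n) (p q m' : ℤ)
    (h : p + q + n = m') : K.X p →ₗ[A] L.X q →ₗ[A] M.X m' :=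
  (ev L M q m' (show q + (p + n) = m' by omega)).comp (z.v p (p + n) rfl).hom

/-- the component on a summand -/
noncomputable def comp₂ {n : ℤ} (z : Cochain K (DRing.homCx L M) n) (p q m' : ℤ)
    (h : p + q + n = m') : K.X p ⊗ L.X q ⟶ M.X m' :=
  ModuleCat.ofHom (TensorProduct.lift (bil z p q m' h))

lemma comp₂_tmul {n : ℤ} (z : Cochain K (DRing.homCx L M) n) (p q m' : ℤ)
    (h : p + q + n = m') (x : K.X p) (y : L.X q) :
    (comp₂ z p q m' h).hom (x ⊗ₜ[A] y) =
      (((z.v p (p + n) rfl).hom x : Cochain L M (p + n)).v q m' (by omega)).hom y := by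
  show TensorProduct.lift (bil z p q m' h) (x ⊗ₜ[A] y) = _
  rw [TensorProduct.lift.tmul]
  rfl

/-- `Hom(K, Hom(L, M)) → Hom(K ⊗ L, M)` on cochains -/
noncomputable def toT {n : ℤ} (z : Cochain K (DRing.homCx L M) n) : Cochain (K ⊗ L) M n :=
  Cochain.mk (fun m m' hm => mapBifunctorDesc (K₁ := K) (K₂ := L)
    (F := curriedTensor (ModuleCat.{u} A)) (c := ComplexShape.up ℤ)
    (fun p q (hpq : p + q = m) => comp₂ z p q m' (by omega)))

lemma ι_toT_v {n : ℤ} (z : Cochain K (DRing.homCx L M) n) (p q m m' : ℤ) (hpq : p + q = m)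
    (hm : m + n = m') :
    ιTensorObj K L p q m hpq ≫ (toT z).v m m' hm = comp₂ z p q m' (by omega) := by
  simp [toT]

/-- currying -/
noncomputable def curryLin {n : ℤ} (u : Cochain (K ⊗ L) M n) (p q' : ℤ) (h : p + n = q') :
    K.X p →ₗ[A] Cochain L M q' where
  toFun x := Cochain.mk (fun q m' hq => ModuleCat.ofHom
    (((ιTensorObj K L p q (p + q) rfl ≫ u.v (p + q) m' (by omega)).hom).comp
      (TensorProduct.mk A (K.X p) (L.X q) x)))
  map_add' x x' := by
    refine Cochain.ext _ _ (fun q m' hq => ?_)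
    rw [Cochain.add_v, Cochain.mk_v, Cochain.mk_v, Cochain.mk_v]
    apply ModuleCat.hom_ext
    apply LinearMap.ext
    intro y
    show (ιTensorObj K L p q (p + q) rfl ≫ u.v (p + q) m' (by omega)).hom ((x + x') ⊗ₜ[A] y) =
      (ιTensorObj K L p q (p + q) rfl ≫ u.v (p + q) m' (by omega)).hom (x ⊗ₜ[A] y) +
      (ιTensorObj K L p q (p + q) rfl ≫ u.v (p + q) m' (by omega)).hom (x' ⊗ₜ[A] y)
    rw [TensorProduct.add_tmul, map_add]
  map_smul' a x := by
    refine Cochain.ext _ _ (fun q m' hq => ?_)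
    rw [Cochain.smul_v, Cochain.mk_v, Cochain.mk_v]
    apply ModuleCat.hom_ext
    apply LinearMap.ext
    intro y
    show (ιTensorObj K L p q (p + q) rfl ≫ u.v (p + q) m' (by omega)).hom ((a • x) ⊗ₜ[A] y) =
      a • (ιTensorObj K L p q (p + q) rfl ≫ u.v (p + q) m' (by omega)).hom (x ⊗ₜ[A] y)
    rw [← TensorProduct.smul_tmul', map_smul]

lemma curryLin_apply_v {n : ℤ} (u : Cochain (K ⊗ L) M n) (p q' : ℤ) (h : p + n = q')
    (x : K.X p) (q m' : ℤ) (hq : q + q' = m') (y : L.X q) :
    ((curryLin u p q' h x).v q m' hq).hom y =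
      (ιTensorObj K L p q (p + q) rfl ≫ u.v (p + q) m' (by omega)).hom (x ⊗ₜ[A] y) := rfl

/-- `Hom(K ⊗ L, M) → Hom(K, Hom(L, M))` on cochains -/
noncomputable def fromT {n : ℤ} (u : Cochain (K ⊗ L) M n) : Cochain K (DRing.homCx L M) n :=
  Cochain.mk (fun p q' h => ModuleCat.ofHom (curryLin u p q' h))

lemma fromT_v_apply {n : ℤ} (u : Cochain (K ⊗ L) M n) (p q' : ℤ) (h : p + n = q') (x : K.X p) :
    ((fromT u).v p q' h).hom x = curryLin u p q' h x := rfl

lemma toT_fromT {n : ℤ} (u : Cochain (K ⊗ L) M n) : toT (fromT u) = u := by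
  refine Cochain.ext _ _ (fun m m' hm => ?_)
  apply mapBifunctor.hom_ext
  intro p q hpq
  have hpq' : p + q = m := hpq
  subst hpq'
  rw [ι_toT_v (fromT u) p q (p + q) m' rfl hm]
  apply ModuleCat.hom_ext
  apply TensorProduct.ext'
  intro x y
  rw [comp₂_tmul]
  rfl

lemma fromT_toT {n : ℤ} (z : Cochain K (DRing.homCx L M) n) : fromT (toT z) = z := by
  refine Cochain.ext _ _ (fun p q' h => ?_)
  subst h
  apply ModuleCat.hom_ext
  apply LinearMap.ext
  intro x
  rw [fromT_v_apply]
  apply Cochain.ext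
  intro q m' hq
  apply ModuleCat.hom_ext
  apply LinearMap.ext
  intro y
  rw [curryLin_apply_v, ι_toT_v z p q (p + q) m' rfl (by omega), comp₂_tmul]

end Groth.Agent.Lib.helper23.TensHom
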