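import Mathlib
import Groth.Prelude.Def_DRing4
import Groth.Agent.Lib.Helper23.TensHom1

set_option autoImplicit false
universe u
open CategoryTheory CategoryTheory.Limits MonoidalCategory
open CochainComplex.HomComplex HomologicalComplex

namespace Groth.Agent.Lib.helper23.TensHom

variable {A : Type u} [CommRing A] {K L M : DRing.Cx A}

lemma comp₂_tmul' {n : ℤ} (z : Cochain K (DRing.homCx L M) n) (p q m' : ℤ)
    (h : p + q + n = m') (q' : ℤ) (hq' : p + n = q') (x : K.X p) (y : L.X q) :
    (comp₂ z p q m' h).hom (x ⊗ₜ[A] y) =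
      (((z.v p q' hq').hom x : Cochain L M q').v q m' (by omega)).hom y := by
  subst hq'
  exact comp₂_tmul z p q m' h x y

lemma ι_d_tensor (p q : ℤ) :
    ιTensorObj K L p q (p + q) rfl ≫ (K ⊗ L).d (p + q) (p + q + 1) =
      (K.d p (p + 1) ▷ L.X q) ≫ ιTensorObj K L (p + 1) q (p + q + 1) (by omega) +
      p.negOnePow • ((K.X p ◁ L.d q (q + 1)) ≫ ιTensorObj K L p (q + 1) (p + q + 1) (by omega)) := by
  change ιMapBifunctor K L (curriedTensor (ModuleCat.{u} A)) (ComplexShape.up ℤ) p q (p + q) rfl ≫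
    (mapBifunctor K L (curriedTensor (ModuleCat.{u} A)) (ComplexShape.up ℤ)).d (p + q) (p + q + 1) = _
  rw [mapBifunctor.d_eq, Preadditive.comp_add, mapBifunctor.ι_D₁, mapBifunctor.ι_D₂,
    mapBifunctor.d₁_eq K L _ _ (show (ComplexShape.up ℤ).Rel p (p + 1) from rfl) q (p + q + 1)
      (by show p + 1 + q = p + q + 1; omega),
    mapBifunctor.d₂_eq K L _ _ p (show (ComplexShape.up ℤ).Rel q (q + 1) from rfl) (p + q + 1)
      (by show p + (q + 1) = p + q + 1; omega)]
  have e1 : ComplexShape.ε₁ (ComplexShape.up ℤ) (ComplexShape.up ℤ) (ComplexShape.up ℤ) (p, q) = 1 := rfl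
  have e2 : ComplexShape.ε₂ (ComplexShape.up ℤ) (ComplexShape.up ℤ) (ComplexShape.up ℤ) (p, q) =
      p.negOnePow := rfl
  rw [e1, e2, one_smul]
  rfl

end Groth.Agent.Lib.helper23.TensHom

namespace Groth.Agent.Lib.helper23.TensHom

variable {A : Type u} [CommRing A] {K L M : DRing.Cx A}

lemma units_smul_hom_apply {X Y : ModuleCat.{u} A} (u : ℤˣ) (f : X ⟶ Y) (x : X) :
    (u • f).hom x = u • f.hom x := by
  rcases Int.units_eq_one_or u with rfl | rfl
  · simp
  · simp

lemma homCx_add_v (k : ℤ) (a b : (DRing.homCx L M).X k) (q m' : ℤ) (h : q + k = m') :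
    ((a + b : (DRing.homCx L M).X k) : Cochain L M k).v q m' h =
      (a : Cochain L M k).v q m' h + (b : Cochain L M k).v q m' h :=
  Cochain.add_v (a : Cochain L M k) (b : Cochain L M k) q m' h

lemma homCx_units_smul_v (k : ℤ) (u : ℤˣ) (a : (DRing.homCx L M).X k) (q m' : ℤ)
    (h : q + k = m') :
    ((u • a : (DRing.homCx L M).X k) : Cochain L M k).v q m' h =
      u • (a : Cochain L M k).v q m' h := by
  rcases Int.units_eq_one_or u with rfl | rfl
  · simp
  · rw [show ((-1 : ℤˣ) • a : (DRing.homCx L M).X k) = -a by simp]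
    rw [show ((-1 : ℤˣ) • (a : Cochain L M k).v q m' h) = -((a : Cochain L M k).v q m' h) by simp]
    exact Cochain.neg_v (a : Cochain L M k) q m' h

theorem δ_toT {n m : ℤ} (hnm : n + 1 = m) (z : Cochain K (DRing.homCx L M) n) :
    δ n m (toT z) = toT (δ n m z) := by
  refine Cochain.ext _ _ (fun mm m' hm' => ?_)
  apply mapBifunctor.hom_ext
  intro p q hpq
  have hpq' : p + q = mm := hpq
  subst hpq'
  change ιTensorObj K L p q (p + q) rfl ≫ _ = ιTensorObj K L p q (p + q) rfl ≫ _
  rw [ι_toT_v (δ n m z) p q (p + q) m' rfl hm',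
    δ_v n m hnm (toT z) (p + q) m' hm' (m' - 1) (p + q + 1) rfl rfl,
    Preadditive.comp_add, Linear.comp_units_smul, ← Category.assoc, ← Category.assoc,
    ι_toT_v z p q (p + q) (m' - 1) rfl (by omega), ι_d_tensor, Preadditive.add_comp,
    Linear.units_smul_comp, Category.assoc, Category.assoc,
    ι_toT_v z (p + 1) q (p + q + 1) m' (by omega) (by omega),
    ι_toT_v z p (q + 1) (p + q + 1) m' (by omega) (by omega)]
  apply ModuleCat.hom_ext
  apply TensorProduct.ext'
  intro x y
  rw [comp₂_tmul' (δ n m z) p q m' (by omega) (p + m) rfl x y,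
    δ_v n m hnm z p (p + m) rfl (p + n) (p + 1) (by omega) rfl]
  have h1 : (comp₂ z p q (m' - 1) (by omega) ≫ M.d (m' - 1) m').hom (x ⊗ₜ[A] y) =
      (M.d (m' - 1) m').hom
        ((((z.v p (p + n) rfl).hom x : Cochain L M (p + n)).v q (m' - 1) (by omega)).hom y) := by
    rw [ModuleCat.hom_comp, LinearMap.comp_apply, comp₂_tmul]
  have h2 : (K.d p (p + 1) ▷ L.X q ≫ comp₂ z (p + 1) q m' (by omega)).hom (x ⊗ₜ[A] y) =
      (((z.v (p + 1) (p + m) (by omega)).hom ((K.d p (p + 1)).hom x) :
        Cochain L M (p + m)).v q m' (by omega)).hom y := by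
    rw [ModuleCat.hom_comp, LinearMap.comp_apply, ModuleCat.MonoidalCategory.whiskerRight_apply,
      comp₂_tmul' z (p + 1) q m' (by omega) (p + m) (by omega)]
  have h3 : (K.X p ◁ L.d q (q + 1) ≫ comp₂ z p (q + 1) m' (by omega)).hom (x ⊗ₜ[A] y) =
      (((z.v p (p + n) rfl).hom x : Cochain L M (p + n)).v (q + 1) m' (by omega)).hom
        ((L.d q (q + 1)).hom y) := by
    rw [ModuleCat.hom_comp, LinearMap.comp_apply, ModuleCat.MonoidalCategory.whiskerLeft_apply,
      comp₂_tmul]
  have h4 : (((z.v p (p + n) rfl ≫ (DRing.homCx L M).d (p + n) (p + m)).hom x :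
      Cochain L M (p + m)).v q m' (by omega)).hom y =
      (M.d (m' - 1) m').hom
        ((((z.v p (p + n) rfl).hom x : Cochain L M (p + n)).v q (m' - 1) (by omega)).hom y) +
      (p + m).negOnePow •
        (((z.v p (p + n) rfl).hom x : Cochain L M (p + n)).v (q + 1) m' (by omega)).hom
        ((L.d q (q + 1)).hom y) := by
    rw [ModuleCat.hom_comp, LinearMap.comp_apply]
    change ((δ (p + n) (p + m) ((z.v p (p + n) rfl).hom x : Cochain L M (p + n))).v q m'
      (by omega)).hom y = _
    rw [δ_v (p + n) (p + m) (by omega) _ q m' (by omega) (m' - 1) (q + 1) rfl rfl,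
      ModuleCat.hom_add, LinearMap.add_apply, units_smul_hom_apply, ModuleCat.hom_comp,
      LinearMap.comp_apply, ModuleCat.hom_comp, LinearMap.comp_apply]
  rw [ModuleCat.hom_add, LinearMap.add_apply, units_smul_hom_apply, ModuleCat.hom_add,
    LinearMap.add_apply, units_smul_hom_apply, h1, h2, h3]
  rw [ModuleCat.hom_add, LinearMap.add_apply, homCx_add_v, ModuleCat.hom_add,
    LinearMap.add_apply, h4, units_smul_hom_apply, homCx_units_smul_v, units_smul_hom_apply,
    ModuleCat.hom_comp, LinearMap.comp_apply,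
    Int.negOnePow_add, smul_add, smul_smul, mul_comm p.negOnePow m.negOnePow]
  abel

lemma toT_add {n : ℤ} (z z' : Cochain K (DRing.homCx L M) n) :
    toT (z + z') = toT z + toT z' := by
  refine Cochain.ext _ _ (fun mm m' hm => ?_)
  apply mapBifunctor.hom_ext
  intro p q hpq
  have hpq' : p + q = mm := hpq
  subst hpq'
  change ιTensorObj K L p q (p + q) rfl ≫ _ = ιTensorObj K L p q (p + q) rfl ≫ _
  rw [Cochain.add_v, Preadditive.comp_add, ι_toT_v, ι_toT_v, ι_toT_v]
  apply ModuleCat.hom_ext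
  apply TensorProduct.ext'
  intro x y
  rw [ModuleCat.hom_add, LinearMap.add_apply, comp₂_tmul, comp₂_tmul, comp₂_tmul, Cochain.add_v,
    ModuleCat.hom_add, LinearMap.add_apply, homCx_add_v, ModuleCat.hom_add, LinearMap.add_apply]

lemma homCx_smul_v (k : ℤ) (a : A) (w : (DRing.homCx L M).X k) (q m' : ℤ)
    (h : q + k = m') :
    ((a • w : (DRing.homCx L M).X k) : Cochain L M k).v q m' h =
      a • (w : Cochain L M k).v q m' h :=
  Cochain.smul_v a (w : Cochain L M k) q m' h

lemma toT_smul {n : ℤ} (a : A) (z : Cochain K (DRing.homCx L M) n) :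
    toT (a • z) = a • toT z := by
  refine Cochain.ext _ _ (fun mm m' hm => ?_)
  apply mapBifunctor.hom_ext
  intro p q hpq
  have hpq' : p + q = mm := hpq
  subst hpq'
  change ιTensorObj K L p q (p + q) rfl ≫ _ = ιTensorObj K L p q (p + q) rfl ≫ _
  rw [Cochain.smul_v, Linear.comp_smul, ι_toT_v, ι_toT_v]
  apply ModuleCat.hom_ext
  apply TensorProduct.ext'
  intro x y
  rw [ModuleCat.hom_smul, LinearMap.smul_apply, comp₂_tmul, comp₂_tmul, Cochain.smul_v,
    ModuleCat.hom_smul, LinearMap.smul_apply, homCx_smul_v, ModuleCat.hom_smul,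
    LinearMap.smul_apply]

/-- the tensor-Hom linear equivalence on cochains -/
noncomputable def toTLin (K L M : DRing.Cx A) (n : ℤ) :
    Cochain K (DRing.homCx L M) n ≃ₗ[A] Cochain (K ⊗ L) M n where
  toFun := toT
  invFun := fromT
  map_add' := toT_add
  map_smul' := toT_smul
  left_inv := fromT_toT
  right_inv := toT_fromT

/-- `Hom(K, Hom(L, M)) ≅ Hom(K ⊗ L, M)` as complexes -/
noncomputable def homHomIso (K L M : DRing.Cx A) :
    DRing.homCx K (DRing.homCx L M) ≅ DRing.homCx (K ⊗ L) M :=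
  HomologicalComplex.Hom.isoOfComponents (fun n => (toTLin K L M n).toModuleIso) (by
    intro i j hij
    apply ModuleCat.hom_ext
    apply LinearMap.ext
    intro (z : Cochain K (DRing.homCx L M) i)
    exact (δ_toT hij z))

lemma homHomIso_hom_f_apply (K L M : DRing.Cx A) (n : ℤ) (z : Cochain K (DRing.homCx L M) n) :
    ((homHomIso K L M).hom.f n).hom z = toT z := rfl

lemma homHomIso_inv_f_apply (K L M : DRing.Cx A) (n : ℤ) (u : Cochain (K ⊗ L) M n) :
    ((homHomIso K L M).inv.f n).hom u = fromT u := rfl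

end Groth.Agent.Lib.helper23.TensHom
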