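import Mathlib
import Groth.Prelude.Def_DRing4
import Groth.Agent.Lib.Helper23.TensHom2
import Groth.Agent.Lib.Helper23.RHomCx2
import Groth.Agent.Lib.Helper23.RHomEx
import Groth.Agent.Lib.Helper13.KFlat9
import Groth.Agent.Lib.Helper25.TotSingle

/-!
# Tensor-Hom for complexes of modules, part 3 (helper23)

* `fromT_δ`, `isKInjective_homCx`: `Hom•(L, I)` is K-injective for `L` K-flat and `I` K-injective;
* `singleTensorIso`: `M[0] ⊗ N[0] ≅ (M ⊗ N)[0]`;
* `homCxIsoLeft`;
* `nonempty_RHomCx_RHomCx_iso`: `RHom(K, RHom(L, X)) ≅ RHom(T, X)` for `L` K-flat and `T ≅ K ⊗ L`.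
-/

set_option autoImplicit false
universe u
open CategoryTheory CategoryTheory.Limits MonoidalCategory
open CochainComplex.HomComplex HomologicalComplex

attribute [local instance] HasDerivedCategory.standard

namespace Groth.Agent.Lib.helper23.TensHom

open Groth.Agent.Lib.helper23.RHomCx Groth.Agent.Lib.helper13.KFlat

variable {A : Type u} [CommRing A] {K L M : DRing.Cx A}

lemma fromT_δ {n m : ℤ} (hnm : n + 1 = m) (u : Cochain (K ⊗ L) M n) :
    δ n m (fromT u) = fromT (δ n m u) := by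
  have h := δ_toT hnm (fromT u)
  rw [toT_fromT] at h
  rw [h, fromT_toT]

/-- `Hom•(L, I)` is K-injective when `L` is K-flat and `I` is K-injective. -/
theorem isKInjective_homCx (L I : DRing.Cx A) [I.IsKInjective] (hL : IsKFlatR L) :
    (DRing.homCx L I).IsKInjective := by
  refine ⟨fun {X} f hX => ?_⟩
  have hXL : (X ⊗ L).Acyclic := by
    intro i
    rw [exactAt_iff_isZero_homology]
    exact hL X (fun i => (exactAt_iff_isZero_homology _ _).1 (hX i)) i
  -- the cocycle attached to `f`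
  have hz : δ 0 1 (toT (Cochain.ofHom f)) = 0 := by
    rw [δ_toT (by norm_num) (Cochain.ofHom f), δ_ofHom]
    exact (toTLin X L I 1).map_zero
  let g : X ⊗ L ⟶ I := Cocycle.homOf (Cocycle.mk (toT (Cochain.ofHom f)) 1 (by norm_num) hz)
  have hg : Cochain.ofHom g = toT (Cochain.ofHom f) := by
    have := Cocycle.cochain_ofHom_homOf_eq_coe
      (Cocycle.mk (toT (Cochain.ofHom f)) 1 (by norm_num) hz)
    exact this
  obtain ⟨h⟩ := CochainComplex.IsKInjective.nonempty_homotopy_zero g hXL
  have h1 := Cochain.equivHomotopy g 0 h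
  obtain ⟨β, hβ⟩ := h1
  rw [Cochain.ofHom_zero, add_zero] at hβ
  refine ⟨(Cochain.equivHomotopy f 0).symm ⟨fromT β, ?_⟩⟩
  rw [Cochain.ofHom_zero, add_zero, fromT_δ (by norm_num) β, ← hβ, hg, fromT_toT]

/-- `M[0] ⊗ N[0] ≅ (M ⊗ N)[0]` -/
noncomputable def singleTensorIso (M N : ModuleCat.{u} A) :
    ((HomologicalComplex.single (ModuleCat.{u} A) (ComplexShape.up ℤ) 0).obj M : DRing.Cx A) ⊗
      ((HomologicalComplex.single (ModuleCat.{u} A) (ComplexShape.up ℤ) 0).obj N : DRing.Cx A) ≅
    (HomologicalComplex.single (ModuleCat.{u} A) (ComplexShape.up ℤ) 0).obj (M ⊗ N) :=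
  (Groth.Agent.Lib.Helper25.TotSingle.totIso (curriedTensor (ModuleCat.{u} A))
    ((HomologicalComplex.single (ModuleCat.{u} A) (ComplexShape.up ℤ) 0).obj M)
    (fun _ hp => HomologicalComplex.isZero_single_obj_X _ _ _ _ hp)
    ((HomologicalComplex.single (ModuleCat.{u} A) (ComplexShape.up ℤ) 0).obj N)).symm ≪≫
  (HomologicalComplex.singleMapHomologicalComplex
    ((curriedTensor (ModuleCat.{u} A)).obj
      (((HomologicalComplex.single (ModuleCat.{u} A) (ComplexShape.up ℤ) 0).obj M).X 0))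
    (ComplexShape.up ℤ) 0).app N ≪≫
  (HomologicalComplex.single (ModuleCat.{u} A) (ComplexShape.up ℤ) 0).mapIso
    (((curriedTensor (ModuleCat.{u} A)).mapIso
      (HomologicalComplex.singleObjXSelf (ComplexShape.up ℤ) 0 M)).app N)

/-- `Hom•(-, L)` on isomorphisms -/
noncomputable def homCxIsoLeft {K K' : DRing.Cx A} (e : K ≅ K') (L : DRing.Cx A) :
    DRing.homCx K' L ≅ DRing.homCx K L where
  hom := homCxMapLeft e.hom L
  inv := homCxMapLeft e.inv L
  hom_inv_id := by rw [← homCxMapLeft_comp, e.inv_hom_id, homCxMapLeft_id]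
  inv_hom_id := by rw [← homCxMapLeft_comp, e.hom_inv_id, homCxMapLeft_id]

/-- `RHom(K, RHom(L, Q I)) ≅ RHom(T, Q I)` for `L` K-flat, `T ≅ K ⊗ L` and `I` K-injective. -/
noncomputable def RHomCxRHomCxIsoQ (K L T : DRing.Cx A) (hL : IsKFlatR L) (e : T ≅ K ⊗ L)
    [DRing.HasRHomCx K] [DRing.HasRHomCx L] [DRing.HasRHomCx T] (I : DRing.Cx A)
    [I.IsKInjective] :
    (DRing.RHomCx K).obj ((DRing.RHomCx L).obj (DerivedCategory.Q.obj I)) ≅
      (DRing.RHomCx T).obj (DerivedCategory.Q.obj I) :=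
  haveI := isKInjective_homCx L I hL
  (DRing.RHomCx K).mapIso (RHomCxIso L I).symm ≪≫ (RHomCxIso K (DRing.homCx L I)).symm ≪≫
    DerivedCategory.Q.mapIso (homHomIso K L I ≪≫ homCxIsoLeft e I) ≪≫ RHomCxIso T I

/-- `RHom(K, RHom(L, X)) ≅ RHom(T, X)` for `L` K-flat and `T ≅ K ⊗ L`. -/
theorem nonempty_RHomCx_RHomCx_iso (K L T : DRing.Cx A) (hL : IsKFlatR L) (e : T ≅ K ⊗ L)
    [DRing.HasRHomCx K] [DRing.HasRHomCx L] [DRing.HasRHomCx T] (X : Dual.D A) :
    Nonempty ((DRing.RHomCx K).obj ((DRing.RHomCx L).obj X) ≅ (DRing.RHomCx T).obj X) := by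
  obtain ⟨I, f, hI, hf⟩ := Groth.Agent.Lib.helper23.RHomEx.hKinj A (DerivedCategory.Q.objPreimage X)
  haveI := hI
  haveI : IsIso (DerivedCategory.Q.map f) := by
    rw [DerivedCategory.isIso_Q_map_iff_quasiIso]
    exact hf
  let eX : X ≅ DerivedCategory.Q.obj I :=
    (DerivedCategory.Q.objObjPreimageIso X).symm ≪≫ asIso (DerivedCategory.Q.map f)
  exact ⟨(DRing.RHomCx K).mapIso ((DRing.RHomCx L).mapIso eX) ≪≫
    RHomCxRHomCxIsoQ K L T hL e I ≪≫ (DRing.RHomCx T).mapIso eX.symm⟩

/-- `A_f ⊗_A A_g ≃ A_{fg}` -/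
theorem nonempty_awayTensorEquiv (f g : A) :
    Nonempty (TensorProduct A (Localization.Away f) (Localization.Away g) ≃ₗ[A]
      Localization.Away (f * g)) := by
  haveI h1 : IsLocalization (Algebra.algebraMapSubmonoid (Localization.Away f)
      (Submonoid.powers g)) (TensorProduct A (Localization.Away f) (Localization.Away g)) :=
    IsLocalization.tensor (Localization.Away g) (Submonoid.powers g)
  haveI h2 : IsLocalization.Away (algebraMap A (Localization.Away f) g)
      (TensorProduct A (Localization.Away f) (Localization.Away g)) := by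
    have : Algebra.algebraMapSubmonoid (Localization.Away f) (Submonoid.powers g) =
        Submonoid.powers (algebraMap A (Localization.Away f) g) := by
      unfold Algebra.algebraMapSubmonoid
      rw [Submonoid.map_powers]
    rw [this] at h1
    exact h1
  haveI h3 : IsLocalization.Away (f * g)
      (TensorProduct A (Localization.Away f) (Localization.Away g)) :=
    IsLocalization.Away.mul' (Localization.Away f) _ f g
  exact ⟨(IsLocalization.algEquiv (Submonoid.powers (f * g))
    (TensorProduct A (Localization.Away f) (Localization.Away g))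
    (Localization.Away (f * g))).toLinearEquiv⟩

end Groth.Agent.Lib.helper23.TensHom
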