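import Mathlib
import Groth.Agent.Lib.Helper23.ExtSc2

set_option autoImplicit false
universe u
open CategoryTheory TensorProduct

namespace Groth.Agent.Lib.helper23.BaseChg

open Groth.Agent.Lib.helper23.ExtSc

section Unbundled

variable (P A P' A' : Type u) [CommRing P] [CommRing A] [CommRing P'] [CommRing A']
  [Algebra P A] [Algebra P P'] [Algebra A A'] [Algebra P' A'] [Algebra P A']
  [IsScalarTower P A A'] [IsScalarTower P P' A'] (F : P)
  [IsLocalization.Away F P'] [IsLocalization.Away (algebraMap P A F) A']
  (M : Type u) [AddCommGroup M] [Module A M] [Module P M] [IsScalarTower P A M]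

/-- `m ↦ 1 ⊗ m`, as a `P`-linear map. -/
noncomputable def g₀ : M →ₗ[P] A' ⊗[A] M :=
  LinearMap.restrictScalars P (TensorProduct.mk A A' M 1 : M →ₗ[A] A' ⊗[A] M)

include F in
lemma g₀_isLocalizedModule : IsLocalizedModule (Submonoid.powers F) (g₀ P A A' M) := by
  haveI : IsLocalizedModule (Submonoid.powers (algebraMap P A F))
      (TensorProduct.mk A A' M 1 : M →ₗ[A] A' ⊗[A] M) :=
    inferInstance
  exact IsLocalizedModule.restrictScalars_powers (R := P) (A := A) F
    (TensorProduct.mk A A' M 1 : M →ₗ[A] A' ⊗[A] M)

/-- localization commutes with restriction of scalars. -/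
noncomputable def bcEquiv : P' ⊗[P] M ≃ₗ[P'] A' ⊗[A] M :=
  haveI := g₀_isLocalizedModule P A A' F M
  (IsLocalizedModule.isBaseChange (Submonoid.powers F) P' (g₀ P A A' M)).equiv

lemma bcEquiv_tmul (p : P') (m : M) :
    bcEquiv P A P' A' F M (p ⊗ₜ m) = (algebraMap P' A' p) ⊗ₜ m := by
  unfold bcEquiv
  rw [IsBaseChange.equiv_tmul]
  simp [g₀, TensorProduct.smul_tmul', Algebra.smul_def]

end Unbundled

section Obj

variable {A B : Type u} [CommRing A] [CommRing B] [Algebra A B]

lemma extendObjEquiv_tmul (M : ModuleCat.{u} A) (b : B) (m : M) :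
    extendObjEquiv (B := B) M
      (@TensorProduct.tmul A _ _ _ _ _ (Module.compHom _ (algebraMap A B)) _ b m) = b ⊗ₜ m :=
  rfl

lemma extendObjEquiv_symm_tmul (M : ModuleCat.{u} A) (b : B) (m : M) :
    (extendObjEquiv (B := B) M).symm (b ⊗ₜ m) =
      (@TensorProduct.tmul A _ _ _ _ _ (Module.compHom _ (algebraMap A B)) _ b m) :=
  rfl

end Obj




section Cat

variable {P A P' A' : Type u} [CommRing P] [CommRing A] [CommRing P'] [CommRing A']
  [Algebra P P'] [Algebra A A'] (α : P →+* A) (β : P' →+* A')
  (hβ : ∀ p, β (algebraMap P P' p) = algebraMap A A' (α p))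

include hβ in
/-- the underlying additive equivalence, with its formula. -/
lemma exists_compEquiv₀ (F : P)
    [IsLocalization.Away F P'] [IsLocalization.Away (α F) A'] (M : ModuleCat.{u} A) :
    ∃ e : (P' ⊗[P] ((ModuleCat.restrictScalars.{u} α).obj M)) ≃+ (A' ⊗[A] M),
      ∀ (p : P') (m : M), e (p ⊗ₜ (m : (ModuleCat.restrictScalars.{u} α).obj M)) = (β p) ⊗ₜ m := by
  letI : Algebra P A := α.toAlgebra
  letI : Algebra P' A' := β.toAlgebra
  letI : Algebra P A' := ((algebraMap A A').comp α).toAlgebra
  haveI : IsScalarTower P A A' := IsScalarTower.of_algebraMap_eq (fun x => rfl)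
  haveI : IsScalarTower P P' A' := IsScalarTower.of_algebraMap_eq (fun x => (hβ x).symm)
  letI : Module P M := Module.compHom M α
  haveI : IsScalarTower P A M := ⟨fun p a m => by
    show (α p * a) • m = α p • (a • m)
    rw [mul_smul]⟩
  haveI : IsLocalization.Away (algebraMap P A F) A' := ‹IsLocalization.Away (α F) A'›
  exact ⟨(bcEquiv P A P' A' F M).toAddEquiv, fun p m => bcEquiv_tmul P A P' A' F M p m⟩

end Cat






section Cat2

variable {P A P' A' : Type u} [CommRing P] [CommRing A] [CommRing P'] [CommRing A']
  [Algebra P P'] [Algebra A A'] (α : P →+* A) (β : P' →+* A')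
  (hβ : ∀ p, β (algebraMap P P' p) = algebraMap A A' (α p))

include hβ in
lemma exists_compLinearEquiv (F : P)
    [IsLocalization.Away F P'] [IsLocalization.Away (α F) A'] (M : ModuleCat.{u} A) :
    ∃ e : ((ModuleCat.extendScalars.{u, u, u} (algebraMap P P')).obj
        ((ModuleCat.restrictScalars.{u} α).obj M)) ≃ₗ[P']
        ((ModuleCat.restrictScalars.{u} β).obj
          ((ModuleCat.extendScalars.{u, u, u} (algebraMap A A')).obj M)),
      ∀ m : M, e (@TensorProduct.tmul P _ _ _ _ _ (Module.compHom _ (algebraMap P P')) _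
          (1 : P') (m : (ModuleCat.restrictScalars.{u} α).obj M)) =
        (@TensorProduct.tmul A _ _ _ _ _ (Module.compHom _ (algebraMap A A')) _ (1 : A') m) := by
  obtain ⟨e₀, he₀⟩ := exists_compEquiv₀ α β hβ F M
  have hsm : ∀ (p : P') (w : P' ⊗[P] ((ModuleCat.restrictScalars.{u} α).obj M)),
      e₀ (p • w) = β p • e₀ w := by
    intro p w
    induction w using TensorProduct.induction_on with
    | zero => simp
    | tmul q m =>
      rw [TensorProduct.smul_tmul', smul_eq_mul, he₀, he₀, map_mul, TensorProduct.smul_tmul',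
        smul_eq_mul]
    | add x y hx hy => rw [smul_add, map_add, hx, hy, map_add, smul_add]
  refine ⟨
    ({ toFun := fun z => (extendObjEquiv (B := A') M).symm
          (e₀ (extendObjEquiv (B := P') ((ModuleCat.restrictScalars.{u} α).obj M) z))
       invFun := fun z => (extendObjEquiv (B := P') ((ModuleCat.restrictScalars.{u} α).obj M)).symm
          (e₀.symm (extendObjEquiv (B := A') M z))
       map_add' := fun x y => by
        simp only [map_add]
        rfl
       map_smul' := fun p z => by
        simp only [map_smul, hsm, RingHom.id_apply]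
        rfl
       left_inv := fun z => by simp
       right_inv := fun z => by simp } :
      ((ModuleCat.extendScalars.{u, u, u} (algebraMap P P')).obj
        ((ModuleCat.restrictScalars.{u} α).obj M)) ≃ₗ[P']
        ((ModuleCat.restrictScalars.{u} β).obj
          ((ModuleCat.extendScalars.{u, u, u} (algebraMap A A')).obj M))), ?_⟩
  intro m
  show (extendObjEquiv (B := A') M).symm
          (e₀ (extendObjEquiv (B := P') ((ModuleCat.restrictScalars.{u} α).obj M) _)) = _
  rw [extendObjEquiv_tmul, he₀, map_one, extendObjEquiv_symm_tmul]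

end Cat2






attribute [local instance] HasDerivedCategory.standard

section Cx

variable {P A P' A' : Type u} [CommRing P] [CommRing A] [CommRing P'] [CommRing A']
  [Algebra P P'] [Algebra A A'] (α : P →+* A) (β : P' →+* A')
  (hβ : ∀ p, β (algebraMap P P' p) = algebraMap A A' (α p))

include hβ in
/-- localization of complexes commutes with restriction of scalars. -/
theorem nonempty_complex_iso (F : P)
    [IsLocalization.Away F P'] [IsLocalization.Away (α F) A']
    (K : CochainComplex (ModuleCat.{u} A) ℤ) :
    Nonempty (((ModuleCat.extendScalars.{u, u, u} (algebraMap P P')).mapHomologicalComplex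
        (ComplexShape.up ℤ)).obj
        (((ModuleCat.restrictScalars.{u} α).mapHomologicalComplex (ComplexShape.up ℤ)).obj K) ≅
      ((ModuleCat.restrictScalars.{u} β).mapHomologicalComplex (ComplexShape.up ℤ)).obj
        (((ModuleCat.extendScalars.{u, u, u} (algebraMap A A')).mapHomologicalComplex
          (ComplexShape.up ℤ)).obj K)) := by
  choose e he using fun i : ℤ => exists_compLinearEquiv α β hβ F (K.X i)
  refine ⟨HomologicalComplex.Hom.isoOfComponents (fun i => (e i).toModuleIso) ?_⟩
  intro i j _
  apply ModuleCat.ExtendScalars.hom_ext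
  intro m
  show (ModuleCat.restrictScalars.{u} β).map
      ((ModuleCat.extendScalars.{u, u, u} (algebraMap A A')).map (K.d i j)) (e i _) =
    e j ((ModuleCat.extendScalars.{u, u, u} (algebraMap P P')).map
      ((ModuleCat.restrictScalars.{u} α).map (K.d i j)) _)
  refine (congrArg (fun z => (ModuleCat.restrictScalars.{u} β).map
      ((ModuleCat.extendScalars.{u, u, u} (algebraMap A A')).map (K.d i j)) z) (he i m)).trans ?_
  exact (he j ((K.d i j) m)).symm

end Cx



end Groth.Agent.Lib.helper23.BaseChg

namespace Groth.Agent.Lib.helper23.BaseChg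

section Poly

open Polynomial

variable {P : Type u} [CommRing P] (F : P) (P' : Type u) [CommRing P'] [Algebra P P']
  [IsLocalization.Away F P']

/-- `P' ≃ P[X]/(FX - 1)`. -/
noncomputable def awayEquiv : P' ≃ₐ[P] AdjoinRoot (C F * X - 1) :=
  (IsLocalization.algEquiv (Submonoid.powers F) P' (Localization.Away F)).trans
    (Localization.awayEquivAdjoin F)

/-- the surjection `P[X] → P'`. -/
noncomputable def polyToAway : Polynomial P →+* P' :=
  ((awayEquiv F P').symm : AdjoinRoot (C F * X - 1) →+* P').comp (AdjoinRoot.mk (C F * X - 1))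

lemma polyToAway_surjective : Function.Surjective (polyToAway F P') := by
  intro y
  obtain ⟨q, hq⟩ := AdjoinRoot.mk_surjective (awayEquiv F P' y)
  refine ⟨q, ?_⟩
  show (awayEquiv F P').symm (AdjoinRoot.mk _ q) = y
  rw [hq]
  exact (awayEquiv F P').symm_apply_apply y

lemma polyToAway_eq_zero_iff (y : Polynomial P) :
    polyToAway F P' y = 0 ↔ (C F * X - 1) ∣ y := by
  show (awayEquiv F P').symm (AdjoinRoot.mk _ y) = 0 ↔ _
  rw [map_eq_zero_iff _ (awayEquiv F P').symm.injective, AdjoinRoot.mk_eq_zero]

lemma polyToAway_C (p : P) : polyToAway F P' (C p) = algebraMap P P' p := by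
  show (awayEquiv F P').symm (AdjoinRoot.mk _ (C p)) = _
  have : AdjoinRoot.mk (C F * X - 1) (C p) = algebraMap P (AdjoinRoot (C F * X - 1)) p := rfl
  rw [this, AlgEquiv.commutes]

lemma isRegular_CX_sub_one : IsRegular (C F * X - 1 : Polynomial P) := by
  have hu : IsUnit ((C F * X - 1 : Polynomial P) : PowerSeries P) := by
    rw [PowerSeries.isUnit_iff_constantCoeff]
    simp
  have hinj : ∀ a b : Polynomial P, (C F * X - 1) * a = (C F * X - 1) * b → a = b := by
    intro a b h
    apply Polynomial.coe_injective
    have h2 := congrArg (fun q : Polynomial P => (q : PowerSeries P)) h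
    simp only [Polynomial.coe_mul] at h2
    exact hu.isRegular.left h2
  refine ⟨fun a b h => hinj a b h, fun a b h => hinj a b ?_⟩
  have h' : a * (C F * X - 1) = b * (C F * X - 1) := h
  rw [mul_comm a, mul_comm b] at h'
  exact h'

end Poly

end Groth.Agent.Lib.helper23.BaseChg
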