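import Mathlib

/-!
# Abstract module biduality (helper23)

`D : (ModuleCat A)ᵒᵖ ⥤ 𝒟` a contravariant functor to a pretriangulated category sending short
exact sequences to distinguished triangles, `Z : 𝒟`, and a natural additive map
`η N : N → (D N ⟶ Z)`.  If `η A` is bijective, `Hom(D A, Z[i]) = 0` for `i ≠ 0`, and
`Hom(D N, Z[i]) = 0` for `i ≫ 0` uniformly in finite `N`, then the same holds for every finite
module `N` (over a Noetherian ring).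
-/

set_option autoImplicit false
universe u v w
open CategoryTheory CategoryTheory.Limits Pretriangulated Opposite

namespace Groth.Agent.Lib.helper23.DualD

section Tri

variable {𝒟 : Type w} [Category.{v} 𝒟] [Preadditive 𝒟] [HasZeroObject 𝒟] [HasShift 𝒟 ℤ]
  [∀ n : ℤ, (shiftFunctor 𝒟 n).Additive] [Pretriangulated 𝒟]

/-- exactness of `Hom(-, W)` at `X₁[1]`. -/
lemma yoneda_exact₄ (T : Triangle 𝒟) (hT : T ∈ distTriang 𝒟) {W : 𝒟}
    (ζ : T.obj₁⟦(1 : ℤ)⟧ ⟶ W) (h : T.mor₃ ≫ ζ = 0) :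
    ∃ ψ : T.obj₂⟦(1 : ℤ)⟧ ⟶ W, ζ = T.mor₁⟦(1 : ℤ)⟧' ≫ ψ := by
  obtain ⟨g, hg⟩ : ∃ g : T.obj₂⟦(1 : ℤ)⟧ ⟶ W, ζ = (-(T.mor₁⟦(1 : ℤ)⟧')) ≫ g :=
    Triangle.yoneda_exact₃ T.rotate (rot_of_distTriang T hT) ζ h
  refine ⟨-g, ?_⟩
  rw [hg, Preadditive.neg_comp, Preadditive.comp_neg]

/-- exactness of `Hom(-, W)` at `X₁` (via the shift). -/
lemma yoneda_exact₁ (T : Triangle 𝒟) (hT : T ∈ distTriang 𝒟) {W : 𝒟}
    (φ : T.obj₁ ⟶ W) (h : T.mor₃ ≫ φ⟦(1 : ℤ)⟧' = 0) :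
    ∃ χ : T.obj₂ ⟶ W, φ = T.mor₁ ≫ χ := by
  obtain ⟨ψ, hψ⟩ := yoneda_exact₄ T hT (φ⟦(1 : ℤ)⟧') h
  obtain ⟨χ, rfl⟩ := (shiftFunctor 𝒟 (1 : ℤ)).map_surjective ψ
  refine ⟨χ, (shiftFunctor 𝒟 (1 : ℤ)).map_injective ?_⟩
  rw [hψ, Functor.map_comp]

end Tri

section Main

variable {A : Type u} [CommRing A]
variable {𝒟 : Type w} [Category.{v} 𝒟] [Preadditive 𝒟] [HasZeroObject 𝒟] [HasShift 𝒟 ℤ]
  [∀ n : ℤ, (shiftFunctor 𝒟 n).Additive] [Pretriangulated 𝒟]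

/-- the data of a "duality δ-functor". -/
structure Setup (A : Type u) [CommRing A] (𝒟 : Type w) [Category.{v} 𝒟] [Preadditive 𝒟]
    [HasZeroObject 𝒟] [HasShift 𝒟 ℤ] [∀ n : ℤ, (shiftFunctor 𝒟 n).Additive]
    [Pretriangulated 𝒟] where
  D : (ModuleCat.{u} A)ᵒᵖ ⥤ 𝒟
  tri : ∀ (S : ShortComplex (ModuleCat.{u} A)), S.ShortExact →
    ∃ h : D.obj (op S.X₁) ⟶ (D.obj (op S.X₃))⟦(1 : ℤ)⟧,
      Triangle.mk (D.map S.g.op) (D.map S.f.op) h ∈ distTriang 𝒟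
  Z : 𝒟
  η : ∀ N : ModuleCat.{u} A, N →+ (D.obj (op N) ⟶ Z)
  η_nat : ∀ {N N' : ModuleCat.{u} A} (f : N ⟶ N') (n : N), D.map f.op ≫ η N n = η N' (f n)

namespace Setup

variable (s : Setup.{u, v, w} A 𝒟)

/-- vanishing of `Hom(D N, Z[i])`. -/
def Van (N : ModuleCat.{u} A) (i : ℤ) : Prop := ∀ φ : s.D.obj (op N) ⟶ s.Z⟦i⟧, φ = 0

/-- biduality holds for `N`. -/
def Good (N : ModuleCat.{u} A) : Prop :=
  Function.Bijective (s.η N) ∧ ∀ i : ℤ, i ≠ 0 → s.Van N i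

lemma van_of_iso {N N' : ModuleCat.{u} A} (e : N ≅ N') (i : ℤ) (h : s.Van N i) : s.Van N' i := by
  intro φ
  have h1 := h (s.D.map e.inv.op ≫ φ)
  have h2 : s.D.map e.hom.op ≫ s.D.map e.inv.op ≫ φ = φ := by
    rw [← Category.assoc, ← Functor.map_comp, ← op_comp, e.inv_hom_id, op_id,
      CategoryTheory.Functor.map_id, Category.id_comp]
  rw [← h2, h1, comp_zero]

lemma good_of_iso {N N' : ModuleCat.{u} A} (e : N ≅ N') (h : s.Good N) : s.Good N' := by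
  refine ⟨⟨?_, ?_⟩, fun i hi => s.van_of_iso e i (h.2 i hi)⟩
  · intro x y hxy
    have h1 : s.η N (e.inv x) = s.η N (e.inv y) := by
      rw [← s.η_nat e.inv x, ← s.η_nat e.inv y, hxy]
    have h2 := h.1.1 h1
    have := congrArg e.hom h2
    simpa using this
  · intro φ
    obtain ⟨x, hx⟩ := h.1.2 (s.D.map e.inv.op ≫ φ)
    refine ⟨e.hom x, ?_⟩
    rw [← s.η_nat e.hom x, hx, ← Category.assoc, ← Functor.map_comp, ← op_comp, e.inv_hom_id,
      op_id, CategoryTheory.Functor.map_id, Category.id_comp]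

/-- vanishing passes to the middle term. -/
lemma van_of_ses (S : ShortComplex (ModuleCat.{u} A)) (hS : S.ShortExact) (i : ℤ)
    (h₁ : s.Van S.X₁ i) (h₃ : s.Van S.X₃ i) : s.Van S.X₂ i := by
  obtain ⟨h, hT⟩ := s.tri S hS
  intro φ
  obtain ⟨ξ, hξ⟩ : ∃ ξ : s.D.obj (op S.X₁) ⟶ s.Z⟦i⟧, φ = s.D.map S.f.op ≫ ξ :=
    Triangle.yoneda_exact₂ _ hT φ (h₃ _)
  rw [hξ, h₁ ξ, comp_zero]

/-- shifting the target: `Van N (i + 1)` in terms of the double shift. -/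
lemma van_shift {N : ModuleCat.{u} A} {i j : ℤ} (hij : i + 1 = j) (h : s.Van N j)
    (ψ : s.D.obj (op N) ⟶ (s.Z⟦i⟧)⟦(1 : ℤ)⟧) : ψ = 0 := by
  have h1 := h (ψ ≫ ((shiftFunctorAdd' 𝒟 i 1 j hij).app s.Z).inv)
  have : ψ = (ψ ≫ ((shiftFunctorAdd' 𝒟 i 1 j hij).app s.Z).inv) ≫
      ((shiftFunctorAdd' 𝒟 i 1 j hij).app s.Z).hom := by simp
  rw [this, h1, zero_comp]

lemma good_of_ses (S : ShortComplex (ModuleCat.{u} A)) (hS : S.ShortExact)
    (h₁ : s.Good S.X₁) (h₃ : s.Good S.X₃) : s.Good S.X₂ := by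
  obtain ⟨h, hT⟩ := s.tri S hS
  have hg : Function.Surjective S.g := (ModuleCat.epi_iff_surjective S.g).1 hS.epi_g
  have hf : Function.Injective S.f := (ModuleCat.mono_iff_injective S.f).1 hS.mono_f
  have hex := (ShortComplex.ShortExact.moduleCat_exact_iff_function_exact S).1 hS.exact
  refine ⟨⟨?_, ?_⟩, fun i hi => s.van_of_ses S hS i (h₁.2 i hi) (h₃.2 i hi)⟩
  · -- injectivity
    rw [injective_iff_map_eq_zero]
    intro n hn
    have h1 : s.η S.X₃ (S.g n) = 0 := by rw [← s.η_nat S.g n, hn, comp_zero]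
    have h2 : S.g n = 0 := (injective_iff_map_eq_zero (s.η S.X₃)).1 h₃.1.1 _ h1
    obtain ⟨y, rfl⟩ := (hex n).1 h2
    have h3 : s.D.map S.f.op ≫ s.η S.X₁ y = 0 := by rw [s.η_nat S.f y, hn]
    obtain ⟨ζ, hζ⟩ : ∃ ζ : (s.D.obj (op S.X₃))⟦(1 : ℤ)⟧ ⟶ s.Z, s.η S.X₁ y = h ≫ ζ :=
      Triangle.yoneda_exact₃ _ hT (s.η S.X₁ y) h3
    -- ζ : D X₃ [1] ⟶ Z vanishes
    have hζ0 : ζ = 0 := by
      obtain ⟨ζ', rfl⟩ : ∃ ζ' : s.D.obj (op S.X₃) ⟶ s.Z⟦(-1 : ℤ)⟧,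
          ζ = ζ'⟦(1 : ℤ)⟧' ≫ (shiftFunctorCompIsoId 𝒟 (-1 : ℤ) 1 (by omega)).hom.app s.Z := by
        obtain ⟨ζ', hζ'⟩ := (shiftFunctor 𝒟 (1 : ℤ)).map_surjective
          (ζ ≫ (shiftFunctorCompIsoId 𝒟 (-1 : ℤ) 1 (by omega)).inv.app s.Z)
        refine ⟨ζ', ?_⟩
        rw [hζ', Category.assoc, Iso.inv_hom_id_app]
        exact (Category.comp_id _).symm
      rw [h₃.2 (-1) (by omega) ζ', Functor.map_zero, zero_comp]
    rw [hζ0, comp_zero] at hζ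
    have : y = 0 := (injective_iff_map_eq_zero (s.η S.X₁)).1 h₁.1.1 _ hζ
    rw [this, map_zero]
  · -- surjectivity
    intro φ
    obtain ⟨z, hz⟩ := h₃.1.2 (s.D.map S.g.op ≫ φ)
    obtain ⟨n, rfl⟩ := hg z
    have h1 : s.D.map S.g.op ≫ (φ - s.η S.X₂ n) = 0 := by
      rw [Preadditive.comp_sub, s.η_nat S.g n, hz, sub_self]
    obtain ⟨ξ, hξ⟩ : ∃ ξ : s.D.obj (op S.X₁) ⟶ s.Z,
        φ - s.η S.X₂ n = s.D.map S.f.op ≫ ξ := Triangle.yoneda_exact₂ _ hT _ h1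
    obtain ⟨y, rfl⟩ := h₁.1.2 ξ
    refine ⟨n + S.f y, ?_⟩
    have h2 : s.D.map S.f.op ≫ s.η S.X₁ y = s.η S.X₂ (S.f y) := s.η_nat S.f y
    rw [h2] at hξ
    rw [map_add, ← hξ]
    abel

lemma shortExact_of_functions {X₁ X₂ X₃ : ModuleCat.{u} A} (f : X₁ ⟶ X₂) (g : X₂ ⟶ X₃)
    (w : f ≫ g = 0) (hf : Function.Injective f) (hg : Function.Surjective g)
    (hex : ∀ x, g x = 0 → ∃ y, f y = x) : (ShortComplex.mk f g w).ShortExact :=
  ShortComplex.ShortExact.mk' ((ShortComplex.moduleCat_exact_iff _).2 hex)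
    ((ModuleCat.mono_iff_injective f).2 hf) ((ModuleCat.epi_iff_surjective g).2 hg)

lemma good_prod (N₁ N₂ : ModuleCat.{u} A) (h₁ : s.Good N₁) (h₂ : s.Good N₂) :
    s.Good (ModuleCat.of A (N₁ × N₂)) := by
  have hS := shortExact_of_functions (A := A) (X₁ := N₁) (X₂ := ModuleCat.of A (N₁ × N₂))
    (X₃ := N₂) (ModuleCat.ofHom (LinearMap.inl A N₁ N₂)) (ModuleCat.ofHom (LinearMap.snd A N₁ N₂))
    (by ext x; simp) (fun x y h => by simpa using h) (fun y => ⟨(0, y), rfl⟩)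
    (fun x hx => ⟨x.1, by
      have h0 : x.2 = 0 := hx
      exact Prod.ext rfl h0.symm⟩)
  exact s.good_of_ses _ hS h₁ h₂

lemma good_free (hA : s.Good (ModuleCat.of A A)) :
    ∀ n : ℕ, s.Good (ModuleCat.of A (Fin (n + 1) → A)) := by
  intro n
  induction n with
  | zero =>
    exact s.good_of_iso (LinearEquiv.toModuleIso (LinearEquiv.funUnique (Fin 1) A A).symm) hA
  | succ n ih =>
    have h := s.good_prod _ _ hA ih
    exact s.good_of_iso
      (LinearEquiv.toModuleIso (Fin.consLinearEquiv A (fun _ : Fin (n + 1 + 1) => A))) h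

lemma shortExact_ker {X N : ModuleCat.{u} A} (p : X ⟶ N) (hp : Function.Surjective p) :
    (ShortComplex.mk (ModuleCat.ofHom (LinearMap.ker p.hom).subtype) p
      (by ext ⟨x, hx⟩; exact hx)).ShortExact :=
  shortExact_of_functions _ _ _ Subtype.val_injective hp (fun x hx => ⟨⟨x, hx⟩, rfl⟩)

lemma exists_pres (N : ModuleCat.{u} A) [Module.Finite A N] :
    ∃ (n : ℕ) (p : ModuleCat.of A (Fin (n + 1) → A) ⟶ N), Function.Surjective p := by
  obtain ⟨n, f, hf⟩ := Module.Finite.exists_fin' A N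
  refine ⟨n, ModuleCat.ofHom (f ∘ₗ LinearMap.funLeft A A (Fin.castSucc : Fin n → Fin (n + 1))), ?_⟩
  intro x
  obtain ⟨y, rfl⟩ := hf x
  obtain ⟨z, rfl⟩ := LinearMap.funLeft_surjective_of_injective A A
    (Fin.castSucc : Fin n → Fin (n + 1)) (Fin.castSucc_injective n) y
  exact ⟨z, rfl⟩

variable [IsNoetherianRing A]

theorem good_of_finite (hA : s.Good (ModuleCat.of A A)) (i₁ : ℤ)
    (hb : ∀ i : ℤ, i₁ < i → ∀ N : ModuleCat.{u} A, Module.Finite A N → s.Van N i) :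
    ∀ N : ModuleCat.{u} A, Module.Finite A N → s.Good N := by
  have hfree := s.good_free hA
  -- positive degrees
  have hpos : ∀ k : ℕ, ∀ i : ℤ, 1 ≤ i → i₁ - i < k →
      ∀ N : ModuleCat.{u} A, Module.Finite A N → s.Van N i := by
    intro k
    induction k with
    | zero => intro i _ hi N hN; exact hb i (by omega) N hN
    | succ k ih =>
      intro i hi1 hik N hN
      obtain ⟨n, p, hp⟩ := exists_pres N
      have hS := shortExact_ker p hp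
      obtain ⟨h, hT⟩ := s.tri _ hS
      intro φ
      have hK : Module.Finite A (LinearMap.ker p.hom) := inferInstance
      obtain ⟨χ, hχ⟩ : ∃ χ : s.D.obj (op (ModuleCat.of A (Fin (n + 1) → A))) ⟶ s.Z⟦i⟧,
          φ = s.D.map p.op ≫ χ :=
        yoneda_exact₁ _ hT φ (s.van_shift (rfl : i + 1 = i + 1)
          (ih (i + 1) (by omega) (by omega) _ hK) _)
      rw [hχ, (hfree n).2 i (by omega) χ, comp_zero]
  have hpos1 : ∀ i : ℤ, 1 ≤ i → ∀ N : ModuleCat.{u} A, Module.Finite A N → s.Van N i :=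
    fun i hi => hpos (i₁ - i + 1).toNat i hi (by omega)
  -- surjectivity of η
  have hsurj : ∀ N : ModuleCat.{u} A, Module.Finite A N → Function.Surjective (s.η N) := by
    intro N hN φ
    obtain ⟨n, p, hp⟩ := exists_pres N
    have hS := shortExact_ker p hp
    obtain ⟨h, hT⟩ := s.tri _ hS
    have hK : Module.Finite A (LinearMap.ker p.hom) := inferInstance
    obtain ⟨χ, hχ⟩ : ∃ χ : s.D.obj (op (ModuleCat.of A (Fin (n + 1) → A))) ⟶ s.Z,
        φ = s.D.map p.op ≫ χ :=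
      yoneda_exact₁ _ hT φ (hpos1 1 le_rfl _ hK _)
    obtain ⟨x, rfl⟩ := (hfree n).1.2 χ
    exact ⟨p x, by rw [hχ, s.η_nat p x]⟩
  -- injectivity of η
  have hinj : ∀ N : ModuleCat.{u} A, Module.Finite A N → Function.Injective (s.η N) := by
    intro N hN
    rw [injective_iff_map_eq_zero]
    intro m hm
    obtain ⟨n, p, hp⟩ := exists_pres N
    have hS := shortExact_ker p hp
    obtain ⟨h, hT⟩ := s.tri _ hS
    have hK : Module.Finite A (LinearMap.ker p.hom) := inferInstance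
    obtain ⟨x, rfl⟩ := hp m
    have h1 : s.D.map p.op ≫ s.η _ x = 0 := by rw [s.η_nat p x, hm]
    obtain ⟨ξ, hξ⟩ : ∃ ξ : s.D.obj (op (ModuleCat.of A (LinearMap.ker p.hom))) ⟶ s.Z,
        s.η _ x = s.D.map (ModuleCat.ofHom (LinearMap.ker p.hom).subtype).op ≫ ξ :=
      Triangle.yoneda_exact₂ _ hT _ h1
    obtain ⟨y, rfl⟩ := hsurj _ hK ξ
    rw [s.η_nat (ModuleCat.ofHom (LinearMap.ker p.hom).subtype) y] at hξ
    have h2 := (hfree n).1.1 hξ
    rw [h2]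
    exact y.2
  -- degree -1
  have hstep : ∀ (i : ℤ), i ≠ 0 → ∀ (N : ModuleCat.{u} A), Module.Finite A N →
      (∀ (K : ModuleCat.{u} A), Module.Finite A K → ∀ (X : ModuleCat.{u} A) (f : K ⟶ X)
        (_ : Function.Injective f) (_ : s.Good X) (ψ : s.D.obj (op K) ⟶ (s.Z⟦i⟧)⟦(1 : ℤ)⟧),
        s.D.map f.op ≫ ψ = 0 → ψ = 0) → s.Van N i := by
    intro i hi N hN hyp φ
    obtain ⟨n, p, hp⟩ := exists_pres N
    have hS := shortExact_ker p hp
    obtain ⟨h, hT⟩ := s.tri _ hS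
    have hK : Module.Finite A (LinearMap.ker p.hom) := inferInstance
    have h0 : h ≫ φ⟦(1 : ℤ)⟧' = 0 := by
      refine hyp _ hK _ (ModuleCat.ofHom (LinearMap.ker p.hom).subtype) Subtype.val_injective
        (hfree n) _ ?_
      have h23 : s.D.map (ModuleCat.ofHom (LinearMap.ker p.hom).subtype).op ≫ h = 0 :=
        comp_distTriang_mor_zero₂₃ _ hT
      rw [← Category.assoc, h23, zero_comp]
    obtain ⟨χ, hχ⟩ : ∃ χ : s.D.obj (op (ModuleCat.of A (Fin (n + 1) → A))) ⟶ s.Z⟦i⟧,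
        φ = s.D.map p.op ≫ χ := yoneda_exact₁ _ hT φ h0
    rw [hχ, (hfree n).2 i hi χ, comp_zero]
  have hneg1 : ∀ N : ModuleCat.{u} A, Module.Finite A N → s.Van N (-1) := by
    intro N hN
    refine hstep (-1) (by omega) N hN ?_
    intro K hK X f hf hX ψ hψ
    obtain ⟨y, hy⟩ := hsurj K hK (ψ ≫ (shiftFunctorCompIsoId 𝒟 (-1 : ℤ) 1 (by omega)).hom.app s.Z)
    have h1 : s.η X (f y) = 0 := by
      rw [← s.η_nat f y, hy, ← Category.assoc, hψ, zero_comp]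
    have h2 : f y = 0 := (injective_iff_map_eq_zero (s.η X)).1 hX.1.1 _ h1
    have h3 : y = 0 := hf (by rw [h2, map_zero])
    rw [h3, map_zero] at hy
    have : ψ = (ψ ≫ (shiftFunctorCompIsoId 𝒟 (-1 : ℤ) 1 (by omega)).hom.app s.Z) ≫
        (shiftFunctorCompIsoId 𝒟 (-1 : ℤ) 1 (by omega)).inv.app s.Z := by
      rw [Category.assoc, Iso.hom_inv_id_app]
      exact (Category.comp_id _).symm
    rw [this, ← hy, zero_comp]
  have hneg : ∀ k : ℕ, ∀ N : ModuleCat.{u} A, Module.Finite A N → s.Van N (-1 - k) := by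
    intro k
    induction k with
    | zero => intro N hN; simpa using hneg1 N hN
    | succ k ih =>
      intro N hN
      refine hstep _ (by omega) N hN ?_
      intro K hK X f hf hX ψ hψ
      exact s.van_shift (by push_cast; ring) (ih K hK) ψ
  intro N hN
  refine ⟨⟨hinj N hN, hsurj N hN⟩, fun i hi => ?_⟩
  rcases lt_or_gt_of_ne hi with h | h
  · have := hneg (-1 - i).toNat N hN
    have h2 : (-1 - ((-1 - i).toNat : ℤ)) = i := by omega
    rwa [h2] at this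
  · exact hpos1 i (by omega) N hN

end Setup

end Main

end Groth.Agent.Lib.helper23.DualD
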