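import Mathlib

/-!
# Base change of linear maps and the four/five lemmas (helper23)

For an `A`-algebra `B`, an `A`-linear map `ℓ : M → N` into a `B`-module induces
`B ⊗[A] M →ₗ[B] N`; `BCInj/BCSurj/BCBij ℓ` say that this map is injective/surjective/bijective.
For `B` flat over `A` these properties satisfy the four and five lemmas along exact sequences.
-/

set_option autoImplicit false
universe u
open TensorProduct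

namespace Groth.Agent.Lib.helper23.FBC

variable {A B : Type*} [CommRing A] [CommRing B] [Algebra A B]

section Defs

variable {M N : Type*} [AddCommGroup M] [Module A M] [AddCommGroup N] [Module A N] [Module B N]
  [IsScalarTower A B N]

variable (B) in
/-- the induced map `B ⊗ M → N` is injective. -/
def BCInj (ℓ : M →ₗ[A] N) : Prop := Function.Injective (ℓ.liftBaseChange B)

variable (B) in
/-- the induced map `B ⊗ M → N` is surjective. -/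
def BCSurj (ℓ : M →ₗ[A] N) : Prop := Function.Surjective (ℓ.liftBaseChange B)

variable (B) in
/-- the induced map `B ⊗ M → N` is bijective. -/
def BCBij (ℓ : M →ₗ[A] N) : Prop := Function.Bijective (ℓ.liftBaseChange B)

lemma BCBij.inj {ℓ : M →ₗ[A] N} (h : BCBij B ℓ) : BCInj B ℓ := h.1
lemma BCBij.surj {ℓ : M →ₗ[A] N} (h : BCBij B ℓ) : BCSurj B ℓ := h.2

lemma bcBij_of_subsingleton [Subsingleton M] [Subsingleton N] (ℓ : M →ₗ[A] N) : BCBij B ℓ := by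
  haveI : Subsingleton (B ⊗[A] M) := inferInstance
  exact ⟨fun x y _ => Subsingleton.elim x y, fun y => ⟨0, Subsingleton.elim _ _⟩⟩

/-- the canonical base change. -/
lemma bcBij_mk : BCBij B (TensorProduct.mk A B M 1) := by
  have h : (TensorProduct.mk A B M 1).liftBaseChange B = LinearMap.id := by
    apply TensorProduct.AlgebraTensorModule.ext
    intro b m
    simp [TensorProduct.smul_tmul']
  show Function.Bijective ((TensorProduct.mk A B M 1).liftBaseChange B)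
  rw [h]
  exact Function.bijective_id

end Defs

section Transfer

variable {M M' N N' : Type*} [AddCommGroup M] [Module A M] [AddCommGroup N] [Module A N]
  [Module B N] [IsScalarTower A B N] [AddCommGroup M'] [Module A M'] [AddCommGroup N'] [Module A N']
  [Module B N'] [IsScalarTower A B N']

lemma lift_comm (f : M →ₗ[A] M') (g : N →ₗ[B] N') (ℓ : M →ₗ[A] N) (ℓ' : M' →ₗ[A] N')
    (h : ∀ m, g (ℓ m) = ℓ' (f m)) :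
    g.comp (ℓ.liftBaseChange B) = (ℓ'.liftBaseChange B).comp (f.baseChange B) := by
  apply TensorProduct.AlgebraTensorModule.ext
  intro b m
  simp [h]

lemma lift_conj (eM : M ≃ₗ[A] M') (eN : N ≃ₗ[B] N') (ℓ : M →ₗ[A] N) (ℓ' : M' →ₗ[A] N')
    (h : ∀ m, eN (ℓ m) = ℓ' (eM m)) (x : B ⊗[A] M) :
    eN (ℓ.liftBaseChange B x) =
      ℓ'.liftBaseChange B ((LinearEquiv.baseChange A B M M' eM) x) := by
  have hc := lift_comm (B := B) eM.toLinearMap eN.toLinearMap ℓ ℓ' h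
  exact LinearMap.congr_fun hc x

lemma bcInj_of_equiv (eM : M ≃ₗ[A] M') (eN : N ≃ₗ[B] N') (ℓ : M →ₗ[A] N) (ℓ' : M' →ₗ[A] N')
    (h : ∀ m, eN (ℓ m) = ℓ' (eM m)) (hℓ : BCInj B ℓ) : BCInj B ℓ' := by
  intro x y hxy
  obtain ⟨x', rfl⟩ := (LinearEquiv.baseChange A B M M' eM).surjective x
  obtain ⟨y', rfl⟩ := (LinearEquiv.baseChange A B M M' eM).surjective y
  rw [← lift_conj eM eN ℓ ℓ' h, ← lift_conj eM eN ℓ ℓ' h] at hxy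
  rw [hℓ (eN.injective hxy)]

lemma bcSurj_of_equiv (eM : M ≃ₗ[A] M') (eN : N ≃ₗ[B] N') (ℓ : M →ₗ[A] N) (ℓ' : M' →ₗ[A] N')
    (h : ∀ m, eN (ℓ m) = ℓ' (eM m)) (hℓ : BCSurj B ℓ) : BCSurj B ℓ' := by
  intro y
  obtain ⟨x, hx⟩ := hℓ (eN.symm y)
  refine ⟨(LinearEquiv.baseChange A B M M' eM) x, ?_⟩
  rw [← lift_conj eM eN ℓ ℓ' h, hx, LinearEquiv.apply_symm_apply]

lemma bcBij_of_equiv (eM : M ≃ₗ[A] M') (eN : N ≃ₗ[B] N') (ℓ : M →ₗ[A] N) (ℓ' : M' →ₗ[A] N')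
    (h : ∀ m, eN (ℓ m) = ℓ' (eM m)) (hℓ : BCBij B ℓ) : BCBij B ℓ' :=
  ⟨bcInj_of_equiv eM eN ℓ ℓ' h hℓ.1, bcSurj_of_equiv eM eN ℓ ℓ' h hℓ.2⟩

end Transfer

section Four

variable [Module.Flat A B]
variable {M₁ M₂ M₃ M₄ M₅ N₁ N₂ N₃ N₄ N₅ : Type*}
  [AddCommGroup M₁] [AddCommGroup M₂] [AddCommGroup M₃] [AddCommGroup M₄] [AddCommGroup M₅]
  [Module A M₁] [Module A M₂] [Module A M₃] [Module A M₄] [Module A M₅]
  [AddCommGroup N₁] [AddCommGroup N₂] [AddCommGroup N₃] [AddCommGroup N₄] [AddCommGroup N₅]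
  [Module A N₁] [Module A N₂] [Module A N₃] [Module A N₄] [Module A N₅]
  [Module B N₁] [Module B N₂] [Module B N₃] [Module B N₄] [Module B N₅]
  [IsScalarTower A B N₁] [IsScalarTower A B N₂] [IsScalarTower A B N₃] [IsScalarTower A B N₄]
  [IsScalarTower A B N₅]

lemma exact_baseChange {f : M₁ →ₗ[A] M₂} {g : M₂ →ₗ[A] M₃} (h : Function.Exact f g) :
    Function.Exact (f.baseChange B) (g.baseChange B) := by
  have := Module.Flat.lTensor_exact B h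
  intro x
  exact this x

variable (f₁ : M₁ →ₗ[A] M₂) (f₂ : M₂ →ₗ[A] M₃) (f₃ : M₃ →ₗ[A] M₄) (f₄ : M₄ →ₗ[A] M₅)
  (g₁ : N₁ →ₗ[B] N₂) (g₂ : N₂ →ₗ[B] N₃) (g₃ : N₃ →ₗ[B] N₄) (g₄ : N₄ →ₗ[B] N₅)
  (ℓ₁ : M₁ →ₗ[A] N₁) (ℓ₂ : M₂ →ₗ[A] N₂) (ℓ₃ : M₃ →ₗ[A] N₃) (ℓ₄ : M₄ →ₗ[A] N₄)
  (ℓ₅ : M₅ →ₗ[A] N₅)

/-- four lemma, injectivity of the third map. -/
lemma bcInj_four (hc₁ : ∀ m, g₁ (ℓ₁ m) = ℓ₂ (f₁ m)) (hc₂ : ∀ m, g₂ (ℓ₂ m) = ℓ₃ (f₂ m))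
    (hc₃ : ∀ m, g₃ (ℓ₃ m) = ℓ₄ (f₃ m)) (hf₁ : Function.Exact f₁ f₂) (hf₂ : Function.Exact f₂ f₃)
    (hg₁ : Function.Exact g₁ g₂) (h₁ : BCSurj B ℓ₁) (h₂ : BCInj B ℓ₂) (h₄ : BCInj B ℓ₄) :
    BCInj B ℓ₃ :=
  LinearMap.injective_of_surjective_of_injective_of_injective
    (f₁.baseChange B) (f₂.baseChange B) (f₃.baseChange B) g₁ g₂ g₃
    (ℓ₁.liftBaseChange B) (ℓ₂.liftBaseChange B) (ℓ₃.liftBaseChange B) (ℓ₄.liftBaseChange B)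
    (lift_comm f₁ g₁ ℓ₁ ℓ₂ hc₁) (lift_comm f₂ g₂ ℓ₂ ℓ₃ hc₂) (lift_comm f₃ g₃ ℓ₃ ℓ₄ hc₃)
    (exact_baseChange hf₁) (exact_baseChange hf₂) hg₁ h₁ h₂ h₄

/-- four lemma, surjectivity of the second map. -/
lemma bcSurj_four (hc₁ : ∀ m, g₁ (ℓ₁ m) = ℓ₂ (f₁ m)) (hc₂ : ∀ m, g₂ (ℓ₂ m) = ℓ₃ (f₂ m))
    (hc₃ : ∀ m, g₃ (ℓ₃ m) = ℓ₄ (f₃ m)) (hf₂ : Function.Exact f₂ f₃)
    (hg₁ : Function.Exact g₁ g₂) (hg₂ : Function.Exact g₂ g₃)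
    (h₁ : BCSurj B ℓ₁) (h₃ : BCSurj B ℓ₃) (h₄ : BCInj B ℓ₄) :
    BCSurj B ℓ₂ :=
  LinearMap.surjective_of_surjective_of_surjective_of_injective
    (f₁.baseChange B) (f₂.baseChange B) (f₃.baseChange B) g₁ g₂ g₃
    (ℓ₁.liftBaseChange B) (ℓ₂.liftBaseChange B) (ℓ₃.liftBaseChange B) (ℓ₄.liftBaseChange B)
    (lift_comm f₁ g₁ ℓ₁ ℓ₂ hc₁) (lift_comm f₂ g₂ ℓ₂ ℓ₃ hc₂) (lift_comm f₃ g₃ ℓ₃ ℓ₄ hc₃)
    (exact_baseChange hf₂) hg₁ hg₂ h₁ h₃ h₄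

/-- five lemma. -/
lemma bcBij_five (hc₁ : ∀ m, g₁ (ℓ₁ m) = ℓ₂ (f₁ m)) (hc₂ : ∀ m, g₂ (ℓ₂ m) = ℓ₃ (f₂ m))
    (hc₃ : ∀ m, g₃ (ℓ₃ m) = ℓ₄ (f₃ m)) (hc₄ : ∀ m, g₄ (ℓ₄ m) = ℓ₅ (f₄ m))
    (hf₁ : Function.Exact f₁ f₂) (hf₂ : Function.Exact f₂ f₃) (hf₃ : Function.Exact f₃ f₄)
    (hg₁ : Function.Exact g₁ g₂) (hg₂ : Function.Exact g₂ g₃) (hg₃ : Function.Exact g₃ g₄)
    (h₁ : BCSurj B ℓ₁) (h₂ : BCBij B ℓ₂) (h₄ : BCBij B ℓ₄) (h₅ : BCInj B ℓ₅) :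
    BCBij B ℓ₃ :=
  LinearMap.bijective_of_surjective_of_bijective_of_bijective_of_injective
    (f₁.baseChange B) (f₂.baseChange B) (f₃.baseChange B) (f₄.baseChange B) g₁ g₂ g₃ g₄
    (ℓ₁.liftBaseChange B) (ℓ₂.liftBaseChange B) (ℓ₃.liftBaseChange B) (ℓ₄.liftBaseChange B)
    (ℓ₅.liftBaseChange B)
    (lift_comm f₁ g₁ ℓ₁ ℓ₂ hc₁) (lift_comm f₂ g₂ ℓ₂ ℓ₃ hc₂) (lift_comm f₃ g₃ ℓ₃ ℓ₄ hc₃)
    (lift_comm f₄ g₄ ℓ₄ ℓ₅ hc₄)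
    (exact_baseChange hf₁) (exact_baseChange hf₂) (exact_baseChange hf₃) hg₁ hg₂ hg₃ h₁ h₂ h₄ h₅

end Four

end Groth.Agent.Lib.helper23.FBC
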