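import Mathlib
import Groth.Prelude.Def_Wider
import Groth.Prelude.Def_DDual2

/-!
# Derived base change along a flat ring map is termwise (helper23)

If extension of scalars along `φ : A → B` is exact (e.g. `φ` flat), then `DRing.LBaseChange φ` is
isomorphic to `(ModuleCat.extendScalars φ).mapDerivedCategory`.
-/

set_option autoImplicit false
universe u
open CategoryTheory CategoryTheory.Limits DerivedCategory

attribute [local instance] HasDerivedCategory.standard

namespace Groth.Agent.Lib.helper23.FlatBC

variable {A B : Type u} [CommRing A] [CommRing B] (φ : A →+* B)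

instance preservesFiniteColimits_extendScalars :
    PreservesFiniteColimits (ModuleCat.extendScalars.{u, u, u} φ) := by
  haveI := (ModuleCat.extendRestrictScalarsAdj.{u, u, u} φ).leftAdjoint_preservesColimits
  infer_instance

lemma preservesFiniteLimits_extendScalars_of_flat (hφ : φ.Flat) :
    PreservesFiniteLimits (ModuleCat.extendScalars.{u, u, u} φ) :=
  ModuleCat.preservesFiniteLimits_extendScalars_of_flat hφ

lemma preservesFiniteLimits_extendScalars_algebraMap [Algebra A B] [Module.Flat A B] :
    PreservesFiniteLimits (ModuleCat.extendScalars.{u, u, u} (algebraMap A B)) :=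
  ModuleCat.preservesFiniteLimits_extendScalars_of_flat
    ((RingHom.flat_algebraMap_iff).2 inferInstance)

variable [PreservesFiniteLimits (ModuleCat.extendScalars.{u, u, u} φ)]

/-- termwise extension of scalars on the derived category. -/
noncomputable abbrev extD : Dual.D A ⥤ Dual.D B :=
  (ModuleCat.extendScalars.{u, u, u} φ).mapDerivedCategory

/-- derived base change along a flat map is termwise. -/
noncomputable def lbcIso [DRing.HasLBaseChange φ] : DRing.LBaseChange φ ≅ extD φ :=
  haveI : (extD φ).IsLeftDerivedFunctor
      ((ModuleCat.extendScalars.{u, u, u} φ).mapDerivedCategoryFactorsh).hom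
      (HomotopyCategory.quasiIso (ModuleCat.{u} A) (ComplexShape.up ℤ)) :=
    Functor.isLeftDerivedFunctor_of_inverts
      (HomotopyCategory.quasiIso (ModuleCat.{u} A) (ComplexShape.up ℤ)) _ _
  Functor.leftDerivedUnique (extD φ) (DRing.LBaseChange φ)
    ((DRing.baseChangeKh φ).totalLeftDerivedCounit DerivedCategory.Qh
      (HomotopyCategory.quasiIso (ModuleCat.{u} A) (ComplexShape.up ℤ)))
    ((ModuleCat.extendScalars.{u, u, u} φ).mapDerivedCategoryFactorsh).hom
    (HomotopyCategory.quasiIso (ModuleCat.{u} A) (ComplexShape.up ℤ))

end Groth.Agent.Lib.helper23.FlatBC
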