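import Mathlib
import Groth.Prelude.Def_Wider
import Groth.Prelude.Def_DDual2
import Groth.Agent.Lib.Helper23.FlatBC1
import Groth.Agent.Lib.Helper23.NCFree

/-!
# Cohomology of a flat base change (helper23)
-/

set_option autoImplicit false
universe u
open CategoryTheory CategoryTheory.Limits DerivedCategory

attribute [local instance] HasDerivedCategory.standard

namespace Groth.Agent.Lib.helper23.FlatBC

variable {A B : Type u} [CommRing A] [CommRing B] (φ : A →+* B)
  [PreservesFiniteLimits (ModuleCat.extendScalars.{u, u, u} φ)]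

/-- `H^i(K ⊗_A B) ≅ H^i(K) ⊗_A B`. -/
noncomputable def homologyExtDIso (K : Dual.D A) (i : ℤ) :
    (homologyFunctor (ModuleCat.{u} B) i).obj ((extD φ).obj K) ≅
      (ModuleCat.extendScalars.{u, u, u} φ).obj ((homologyFunctor (ModuleCat.{u} A) i).obj K) :=
  NCFree.homologyMapDerivedCategoryIso (ModuleCat.extendScalars.{u, u, u} φ) K i

lemma isZero_homology_extD (K : Dual.D A) (i : ℤ)
    (h : IsZero ((homologyFunctor (ModuleCat.{u} A) i).obj K)) :
    IsZero ((homologyFunctor (ModuleCat.{u} B) i).obj ((extD φ).obj K)) :=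
  ((ModuleCat.extendScalars.{u, u, u} φ).map_isZero h).of_iso (homologyExtDIso φ K i)

lemma finite_extendScalars (M : ModuleCat.{u} A) [Module.Finite A M] :
    Module.Finite B ((ModuleCat.extendScalars.{u, u, u} φ).obj M) := by
  letI : Algebra A B := φ.toAlgebra
  exact inferInstanceAs (Module.Finite B (TensorProduct A B M))

lemma finite_homology_extD (K : Dual.D A) (i : ℤ)
    (h : Module.Finite A ((homologyFunctor (ModuleCat.{u} A) i).obj K)) :
    Module.Finite B ((homologyFunctor (ModuleCat.{u} B) i).obj ((extD φ).obj K)) := by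
  haveI := finite_extendScalars φ ((homologyFunctor (ModuleCat.{u} A) i).obj K)
  exact Module.Finite.equiv (homologyExtDIso φ K i).toLinearEquiv.symm

section Shift

variable {C : Type*} [Category C] [Abelian C] [HasDerivedCategory C]

/-- `H^i(X[n]) ≅ H^{n+i}(X)`. -/
noncomputable def homologyShiftIso (X : DerivedCategory C) (n i j : ℤ) (h : n + i = j) :
    (homologyFunctor C i).obj (X⟦n⟧) ≅ (homologyFunctor C j).obj X :=
  ((homologyFunctor C 0).shiftIso n i j h).app X

end Shift

end Groth.Agent.Lib.helper23.FlatBC
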