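import Mathlib
import Groth.Prelude.Def_Wider
import Groth.Prelude.Def_DDual2
import Groth.Agent.Lib.Helper23.FBC1
import Groth.Agent.Lib.Helper23.FlatBC2
import Groth.Agent.Lib.Helper23.DualD1

/-!
# Flat base change for `Hom` in the derived category: set-up and the four lemmas (helper23)

`E = - ⊗_A B : D(A) ⥤ D(B)` (flat `A`-algebra `B`).  `ℓ X Y : Hom(X, Y) →ₗ[A] Hom(E X, E Y)`;
`BI/BS/BB X Y` say that `B ⊗_A Hom(X, Y) → Hom(E X, E Y)` is injective / surjective / bijective.
-/

set_option autoImplicit false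
universe u
open CategoryTheory CategoryTheory.Limits DerivedCategory Pretriangulated TensorProduct

attribute [local instance] HasDerivedCategory.standard

namespace Groth.Agent.Lib.helper23.FBC

variable (A B : Type u) [CommRing A] [CommRing B] [Algebra A B]
  [PreservesFiniteLimits (ModuleCat.extendScalars.{u, u, u} (algebraMap A B))]

/-- extension of scalars `D(A) ⥤ D(B)`. -/
noncomputable abbrev EE : Dual.D A ⥤ Dual.D B := FlatBC.extD (algebraMap A B)

/-- `A` acts on the morphisms of `D(B)` through `B`. -/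
@[reducible] noncomputable def homModuleA (X Y : Dual.D B) : Module A (X ⟶ Y) :=
  Module.compHom (X ⟶ Y) (algebraMap A B)

attribute [local instance 50] homModuleA

instance isScalarTower_hom (X Y : Dual.D B) : IsScalarTower A B (X ⟶ Y) :=
  ⟨fun a b g => by
    show (a • b) • g = algebraMap A B a • (b • g)
    rw [Algebra.smul_def, mul_smul]⟩

variable {A B}

lemma extendScalars_map_smul_id (M : ModuleCat.{u} A) (a : A) :
    (ModuleCat.extendScalars.{u, u, u} (algebraMap A B)).map (a • 𝟙 M) =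
      algebraMap A B a • 𝟙 _ := by
  apply ModuleCat.hom_ext
  apply LinearMap.ext
  intro x
  induction x using TensorProduct.induction_on with
  | zero => exact (map_zero _).trans (map_zero _).symm
  | tmul b m =>
    change (b ⊗ₜ[A] (a • m) : TensorProduct A _ _) = _
    rw [ModuleCat.hom_smul, LinearMap.smul_apply, ModuleCat.hom_id, LinearMap.id_apply]
    erw [ModuleCat.ExtendScalars.smul_tmul]
    rw [← TensorProduct.smul_tmul]
    rfl
  | add x y hx hy =>
    erw [map_add, map_add, hx, hy]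

lemma extendCx_map_smul_id (K : CochainComplex (ModuleCat.{u} A) ℤ) (a : A) :
    ((ModuleCat.extendScalars.{u, u, u} (algebraMap A B)).mapHomologicalComplex
      (ComplexShape.up ℤ)).map (a • 𝟙 K) = algebraMap A B a • 𝟙 _ := by
  ext n : 1
  exact extendScalars_map_smul_id (K.X n) a

lemma EE_map_Q_map {K L : CochainComplex (ModuleCat.{u} A) ℤ} (g : K ⟶ L) :
    (EE A B).map (Q.map g) =
      (ModuleCat.extendScalars.{u, u, u} (algebraMap A B)).mapDerivedCategoryFactors.hom.app K ≫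
        Q.map (((ModuleCat.extendScalars.{u, u, u} (algebraMap A B)).mapHomologicalComplex
          (ComplexShape.up ℤ)).map g) ≫
        (ModuleCat.extendScalars.{u, u, u} (algebraMap A B)).mapDerivedCategoryFactors.inv.app
          L := by
  have h := (ModuleCat.extendScalars.{u, u, u}
    (algebraMap A B)).mapDerivedCategoryFactors_hom_naturality g
  rw [← Category.assoc, ← h, Category.assoc, Iso.hom_inv_id_app]
  exact (Category.comp_id _).symm

lemma EE_map_smul_id (X : Dual.D A) (a : A) :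
    (EE A B).map (a • 𝟙 X) = algebraMap A B a • 𝟙 ((EE A B).obj X) := by
  let e : Q.obj (Q.objPreimage X) ≅ X := Q.objObjPreimageIso X
  have h1 : a • 𝟙 X = e.inv ≫ Q.map (a • 𝟙 (Q.objPreimage X)) ≫ e.hom := by
    rw [Functor.map_smul, CategoryTheory.Functor.map_id, Linear.smul_comp, Linear.comp_smul,
      Category.id_comp, Iso.inv_hom_id]
  rw [h1, Functor.map_comp, Functor.map_comp, EE_map_Q_map, extendCx_map_smul_id,
    Functor.map_smul, CategoryTheory.Functor.map_id]
  have h2 : (ModuleCat.extendScalars.{u, u, u}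
      (algebraMap A B)).mapDerivedCategoryFactors.hom.app (Q.objPreimage X) ≫
      𝟙 _ ≫ (ModuleCat.extendScalars.{u, u, u}
        (algebraMap A B)).mapDerivedCategoryFactors.inv.app (Q.objPreimage X) = 𝟙 _ := by
    rw [Category.id_comp, Iso.hom_inv_id_app]
  simp only [Linear.smul_comp, Linear.comp_smul]
  erw [h2]
  erw [Category.id_comp]
  rw [← Functor.map_comp, Iso.inv_hom_id, CategoryTheory.Functor.map_id]

lemma EE_map_smul {X Y : Dual.D A} (a : A) (f : X ⟶ Y) :
    (EE A B).map (a • f) = algebraMap A B a • (EE A B).map f := by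
  have h : a • f = (a • 𝟙 X) ≫ f := by rw [Linear.smul_comp, Category.id_comp]
  rw [h, Functor.map_comp, EE_map_smul_id, Linear.smul_comp, Category.id_comp]

/-- the `A`-linear map `Hom(X, Y) → Hom(E X, E Y)`. -/
noncomputable def ℓ (X Y : Dual.D A) : (X ⟶ Y) →ₗ[A] ((EE A B).obj X ⟶ (EE A B).obj Y) where
  toFun f := (EE A B).map f
  map_add' f g := Functor.map_add _
  map_smul' a f := EE_map_smul a f

lemma ℓ_apply {X Y : Dual.D A} (f : X ⟶ Y) : ℓ (B := B) X Y f = (EE A B).map f := rfl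

variable (B) in
/-- `B ⊗ Hom(X, Y) → Hom(E X, E Y)` is injective. -/
def BI (X Y : Dual.D A) : Prop := BCInj B (ℓ (B := B) X Y)

variable (B) in
/-- `B ⊗ Hom(X, Y) → Hom(E X, E Y)` is surjective. -/
def BS (X Y : Dual.D A) : Prop := BCSurj B (ℓ (B := B) X Y)

variable (B) in
/-- `B ⊗ Hom(X, Y) → Hom(E X, E Y)` is bijective. -/
def BB (X Y : Dual.D A) : Prop := BCBij B (ℓ (B := B) X Y)

lemma BB.bi {X Y : Dual.D A} (h : BB B X Y) : BI B X Y := h.1
lemma BB.bs {X Y : Dual.D A} (h : BB B X Y) : BS B X Y := h.2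

section Iso

variable {X X' Y Y' : Dual.D A} (eX : X ≅ X') (eY : Y ≅ Y')

lemma ℓ_homCongr (f : X ⟶ Y) :
    Linear.homCongr B ((EE A B).mapIso eX) ((EE A B).mapIso eY) (ℓ (B := B) X Y f) =
      ℓ (B := B) X' Y' (Linear.homCongr A eX eY f) := by
  rw [Linear.homCongr_apply, Linear.homCongr_apply, ℓ_apply, ℓ_apply, Functor.map_comp,
    Functor.map_comp]
  rfl

include eX eY in
lemma BI.of_iso (h : BI B X Y) : BI B X' Y' :=
  bcInj_of_equiv (Linear.homCongr A eX eY)
    (Linear.homCongr B ((EE A B).mapIso eX) ((EE A B).mapIso eY)) _ _ (ℓ_homCongr eX eY) h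

include eX eY in
lemma BS.of_iso (h : BS B X Y) : BS B X' Y' :=
  bcSurj_of_equiv (Linear.homCongr A eX eY)
    (Linear.homCongr B ((EE A B).mapIso eX) ((EE A B).mapIso eY)) _ _ (ℓ_homCongr eX eY) h

include eX eY in
lemma BB.of_iso (h : BB B X Y) : BB B X' Y' :=
  ⟨BI.of_iso eX eY h.1, BS.of_iso eX eY h.2⟩

end Iso

section Shift

variable (X Y : Dual.D A) (n : ℤ)

/-- `Hom(X, Y) ≃ Hom(X[n], Y[n])`. -/
noncomputable def shiftEquivA : (X ⟶ Y) ≃ₗ[A] (X⟦n⟧ ⟶ Y⟦n⟧) :=
  LinearEquiv.ofBijective ((shiftFunctor (Dual.D A) n).mapLinearMap A)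
    ⟨(shiftFunctor (Dual.D A) n).map_injective, (shiftFunctor (Dual.D A) n).map_surjective⟩

/-- `Hom(E X, E Y) ≃ Hom(E (X[n]), E (Y[n]))`. -/
noncomputable def shiftEquivB :
    ((EE A B).obj X ⟶ (EE A B).obj Y) ≃ₗ[B] ((EE A B).obj (X⟦n⟧) ⟶ (EE A B).obj (Y⟦n⟧)) :=
  (LinearEquiv.ofBijective ((shiftFunctor (Dual.D B) n).mapLinearMap B)
    ⟨(shiftFunctor (Dual.D B) n).map_injective, (shiftFunctor (Dual.D B) n).map_surjective⟩) ≪≫ₗ
  Linear.homCongr B (((EE A B).commShiftIso n).app X).symm (((EE A B).commShiftIso n).app Y).symm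

lemma ℓ_shift (f : X ⟶ Y) :
    shiftEquivB (B := B) X Y n (ℓ (B := B) X Y f) =
      ℓ (B := B) (X⟦n⟧) (Y⟦n⟧) (shiftEquivA X Y n f) := by
  have h := ((EE A B).commShiftIso n).hom.naturality f
  dsimp only [Functor.comp_obj, Functor.comp_map] at h
  show (((EE A B).commShiftIso n).hom.app X ≫ ((EE A B).map f)⟦n⟧') ≫
    ((EE A B).commShiftIso n).inv.app Y = (EE A B).map (f⟦n⟧')
  rw [← h, Category.assoc, Iso.hom_inv_id_app]
  exact Category.comp_id _

variable {X Y}

lemma BI.shift (h : BI B X Y) : BI B (X⟦n⟧) (Y⟦n⟧) :=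
  bcInj_of_equiv (shiftEquivA X Y n) (shiftEquivB X Y n) _ _ (ℓ_shift X Y n) h

lemma BS.shift (h : BS B X Y) : BS B (X⟦n⟧) (Y⟦n⟧) :=
  bcSurj_of_equiv (shiftEquivA X Y n) (shiftEquivB X Y n) _ _ (ℓ_shift X Y n) h

lemma BB.shift (h : BB B X Y) : BB B (X⟦n⟧) (Y⟦n⟧) := ⟨BI.shift n h.1, BS.shift n h.2⟩

end Shift

end Groth.Agent.Lib.helper23.FBC
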