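import Mathlib
import Groth.Prelude.Def_Wider
import Groth.Prelude.Def_DDual2

/-!
# Functoriality of `mapDerivedCategory`; restriction of scalars along composites and isomorphisms (helper23)

* `mapDCIso e : F.mapDerivedCategory ≅ G.mapDerivedCategory` for `e : F ≅ G` (exact functors);
* `mapDCComp F G : (F ⋙ G).mapDerivedCategory ≅ F.mapDerivedCategory ⋙ G.mapDerivedCategory`, `mapDCId`;
* `restrictDCompIso f g : restrictD g ⋙ restrictD f ≅ restrictD (g.comp f)`, `restrictDIdIso`;
* `restrictDEquiv e : D(S) ≌ D(R)` for a ring isomorphism `e : R ≃+* S`.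
-/

set_option autoImplicit false
universe w₁ w₂ w₃ v₁ v₂ v₃ u₁ u₂ u₃ u
open CategoryTheory CategoryTheory.Limits DerivedCategory

namespace Groth.Agent.Lib.helper23.Kz

section General

variable {C₁ : Type u₁} [Category.{v₁} C₁] [Abelian C₁] [HasDerivedCategory.{w₁} C₁]
  {C₂ : Type u₂} [Category.{v₂} C₂] [Abelian C₂] [HasDerivedCategory.{w₂} C₂]
  {C₃ : Type u₃} [Category.{v₃} C₃] [Abelian C₃] [HasDerivedCategory.{w₃} C₃]

section

variable {F G : C₁ ⥤ C₂} [F.Additive] [G.Additive]
  [PreservesFiniteLimits F] [PreservesFiniteColimits F]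
  [PreservesFiniteLimits G] [PreservesFiniteColimits G]

/-- an isomorphism of exact functors induces an isomorphism on derived categories. -/
noncomputable def mapDCIso (e : F ≅ G) : F.mapDerivedCategory ≅ G.mapDerivedCategory :=
  Localization.liftNatIso Q (HomologicalComplex.quasiIso C₁ (ComplexShape.up ℤ))
    (F.mapHomologicalComplex (ComplexShape.up ℤ) ⋙ Q)
    (G.mapHomologicalComplex (ComplexShape.up ℤ) ⋙ Q) _ _
    (Functor.isoWhiskerRight (NatIso.mapHomologicalComplex e (ComplexShape.up ℤ)) Q)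

end

section

variable (F : C₁ ⥤ C₂) (G : C₂ ⥤ C₃) [F.Additive] [G.Additive]
  [PreservesFiniteLimits F] [PreservesFiniteColimits F]
  [PreservesFiniteLimits G] [PreservesFiniteColimits G]

/-- `F.mapDerivedCategory ⋙ G.mapDerivedCategory` lifts `(F ⋙ G).mapHomologicalComplex ⋙ Q`. -/
@[instance_reducible]
noncomputable def liftingCompDC :
    Localization.Lifting Q (HomologicalComplex.quasiIso C₁ (ComplexShape.up ℤ))
      ((F ⋙ G).mapHomologicalComplex (ComplexShape.up ℤ) ⋙ Q)
      (F.mapDerivedCategory ⋙ G.mapDerivedCategory) :=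
  ⟨(Functor.associator _ _ _).symm ≪≫
    Functor.isoWhiskerRight F.mapDerivedCategoryFactors G.mapDerivedCategory ≪≫
    Functor.associator _ _ _ ≪≫
    Functor.isoWhiskerLeft (F.mapHomologicalComplex (ComplexShape.up ℤ))
      G.mapDerivedCategoryFactors ≪≫
    (Functor.associator _ _ _).symm ≪≫
    Functor.isoWhiskerRight
      (Functor.mapHomologicalComplexCompIso (Iso.refl (F ⋙ G)) (ComplexShape.up ℤ)) Q⟩

/-- `mapDerivedCategory` of a composite. -/
noncomputable def mapDCComp :
    (F ⋙ G).mapDerivedCategory ≅ F.mapDerivedCategory ⋙ G.mapDerivedCategory :=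
  letI := liftingCompDC F G
  Localization.liftNatIso Q (HomologicalComplex.quasiIso C₁ (ComplexShape.up ℤ))
    ((F ⋙ G).mapHomologicalComplex (ComplexShape.up ℤ) ⋙ Q)
    ((F ⋙ G).mapHomologicalComplex (ComplexShape.up ℤ) ⋙ Q) _ _ (Iso.refl _)

end

variable (C₁) in
/-- `mapDerivedCategory` of the identity. -/
noncomputable def mapDCId : (𝟭 C₁).mapDerivedCategory ≅ 𝟭 (DerivedCategory C₁) :=
  Localization.liftNatIso Q (HomologicalComplex.quasiIso C₁ (ComplexShape.up ℤ))
    ((𝟭 C₁).mapHomologicalComplex (ComplexShape.up ℤ) ⋙ Q) Q _ _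
    (Functor.isoWhiskerRight (Functor.mapHomologicalComplexIdIso (W₁ := C₁) (ComplexShape.up ℤ)) Q ≪≫
      Functor.leftUnitor Q)

end General

attribute [local instance] HasDerivedCategory.standard

section Restrict

variable {R₁ R₂ R₃ : Type u} [CommRing R₁] [CommRing R₂] [CommRing R₃]

/-- restriction of scalars along a composite, on derived categories. -/
noncomputable def restrictDCompIso (f : R₁ →+* R₂) (g : R₂ →+* R₃) (gf : R₁ →+* R₃)
    (h : gf = g.comp f) :
    DRing.restrictD g ⋙ DRing.restrictD f ≅ DRing.restrictD gf :=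
  (mapDCComp (ModuleCat.restrictScalars.{u} g) (ModuleCat.restrictScalars.{u} f)).symm ≪≫
    mapDCIso (ModuleCat.restrictScalarsComp'.{u} f g gf h).symm

/-- restriction of scalars along the identity. -/
noncomputable def restrictDIdIso (f : R₁ →+* R₁) (h : f = RingHom.id R₁) :
    DRing.restrictD f ≅ 𝟭 (Dual.D R₁) :=
  mapDCIso (ModuleCat.restrictScalarsId'.{u} f h) ≪≫ mapDCId _

/-- restriction of scalars along a ring isomorphism is an equivalence. -/
noncomputable def restrictDEquiv (e : R₁ ≃+* R₂) : Dual.D R₂ ≌ Dual.D R₁ :=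
  CategoryTheory.Equivalence.mk (DRing.restrictD e.toRingHom) (DRing.restrictD e.symm.toRingHom)
    ((restrictDIdIso (e.toRingHom.comp e.symm.toRingHom) (by ext; simp)).symm ≪≫
      (restrictDCompIso e.symm.toRingHom e.toRingHom _ rfl).symm)
    (restrictDCompIso e.toRingHom e.symm.toRingHom _ rfl ≪≫
      restrictDIdIso (e.symm.toRingHom.comp e.toRingHom) (by ext; simp))

instance isEquivalence_restrictD (e : R₁ ≃+* R₂) : (DRing.restrictD e.toRingHom).IsEquivalence :=
  inferInstanceAs (restrictDEquiv e).functor.IsEquivalence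

end Restrict

end Groth.Agent.Lib.helper23.Kz
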