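import Mathlib
import Groth.Prelude.Def_Wider
import Groth.Prelude.Def_DDual2
import Groth.Agent.Lib.Helper23.ExtSc2
import Groth.Agent.Lib.Helper23.BaseChg
import Groth.Agent.Lib.Helper23.Kz5
import Groth.Agent.Lib.Helper23.FBC2

/-!
# Base change square for restriction and extension of scalars (helper23)

For a pushout square of commutative rings `P → B`, `P → P'`, `B → B'`, `P' → B'` (`B' = P' ⊗_P B`):
* `γ₀ : restrictScalars (P → B) ⋙ extendScalars (P → P') ≅ extendScalars (B → B') ⋙ restrictScalars (P' → B')`
  on module categories;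
* `γ` : the induced isomorphism on derived categories when `P → P'` and `B → B'` are flat.
-/

set_option autoImplicit false
universe u
open CategoryTheory CategoryTheory.Limits DerivedCategory TensorProduct

attribute [local instance] HasDerivedCategory.standard

namespace Groth.Agent.Lib.helper23.FBCR

variable {P P' B B' : Type u} [CommRing P] [CommRing P'] [CommRing B] [CommRing B']
  [Algebra P P'] [Algebra P B] [Algebra B B'] [Algebra P' B'] [Algebra P B']
  [IsScalarTower P B B'] [IsScalarTower P P' B'] [Algebra.IsPushout P P' B B']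

section ModuleLevel

variable (P) in
/-- a `B`-module as a `P`-module. -/
@[reducible] noncomputable def modP (N : ModuleCat.{u} B) : Module P N :=
  Module.compHom N (algebraMap P B)

variable (P) in
lemma isScalarTower_modP (N : ModuleCat.{u} B) :
    @IsScalarTower P B N _ _ (modP P N).toSMul :=
  letI := modP P N
  ⟨fun p b n => by
    show (p • b) • n = algebraMap P B p • (b • n)
    rw [Algebra.smul_def, mul_smul]⟩

variable (P P' B') in
/-- `P' ⊗_P N ≃ B' ⊗_B N` for a `B`-module `N`. -/
noncomputable def cancelEquiv (N : ModuleCat.{u} B) :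
    (P' ⊗[P] ((ModuleCat.restrictScalars.{u} (algebraMap P B)).obj N)) ≃ₗ[P'] (B' ⊗[B] N) :=
  letI := modP P N
  haveI := isScalarTower_modP P N
  (Algebra.IsPushout.cancelBaseChange P P' B B' N).symm

lemma cancelEquiv_tmul (N : ModuleCat.{u} B) (s : P') (n : N) :
    cancelEquiv P P' B' N
      (s ⊗ₜ[P] (show ((ModuleCat.restrictScalars.{u} (algebraMap P B)).obj N) from n)) =
      algebraMap P' B' s ⊗ₜ[B] n := by
  letI := modP P N
  haveI := isScalarTower_modP P N
  exact Algebra.IsPushout.cancelBaseChange_symm_tmul P P' B B' N s n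

variable (P') in
/-- `B' ⊗_B N`, as a `P'`-module, is the restriction of `extendScalars`. -/
noncomputable def extRes (N : ModuleCat.{u} B) :
    (B' ⊗[B] N) ≃ₗ[P'] ((ModuleCat.restrictScalars.{u} (algebraMap P' B')).obj
      ((ModuleCat.extendScalars.{u, u, u} (algebraMap B B')).obj N)) :=
  { toFun := fun z => (ExtSc.extendObjEquiv (B := B') N).symm z
    invFun := fun w => ExtSc.extendObjEquiv (B := B') N w
    map_add' := fun x y => map_add _ x y
    map_smul' := fun s z => by
      have h : s • z = algebraMap P' B' s • z := (algebraMap_smul B' s z).symm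
      rw [h]
      exact map_smul (ExtSc.extendObjEquiv (B := B') N).symm (algebraMap P' B' s) z
    left_inv := fun z => (ExtSc.extendObjEquiv (B := B') N).apply_symm_apply z
    right_inv := fun w => (ExtSc.extendObjEquiv (B := B') N).symm_apply_apply w }

/-- the component of the base change isomorphism, as a `P'`-linear equivalence. -/
noncomputable def γObj (N : ModuleCat.{u} B) :
    ((ModuleCat.extendScalars.{u, u, u} (algebraMap P P')).obj
      ((ModuleCat.restrictScalars.{u} (algebraMap P B)).obj N)) ≃ₗ[P']
    ((ModuleCat.restrictScalars.{u} (algebraMap P' B')).obj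
      ((ModuleCat.extendScalars.{u, u, u} (algebraMap B B')).obj N)) :=
  (ExtSc.extendObjEquiv (B := P') ((ModuleCat.restrictScalars.{u} (algebraMap P B)).obj N)) ≪≫ₗ
    cancelEquiv P P' B' N ≪≫ₗ extRes P' N

lemma γObj_one_tmul (N : ModuleCat.{u} B) (n : N) :
    γObj (P := P) (P' := P') (B' := B') N
      (@TensorProduct.tmul P _ _ _ _ _ (Module.compHom _ (algebraMap P P')) _
        (1 : P') (n : (ModuleCat.restrictScalars.{u} (algebraMap P B)).obj N)) =
      (@TensorProduct.tmul B _ _ _ _ _ (Module.compHom _ (algebraMap B B')) _ (1 : B') n) := by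
  show (ExtSc.extendObjEquiv (B := B') N).symm (cancelEquiv P P' B' N
    (ExtSc.extendObjEquiv (B := P') ((ModuleCat.restrictScalars.{u} (algebraMap P B)).obj N) _)) = _
  rw [BaseChg.extendObjEquiv_tmul, cancelEquiv_tmul, map_one, BaseChg.extendObjEquiv_symm_tmul]

variable (P P' B B') in
/-- **base change square**: `P' ⊗_P (N|_P) ≅ (B' ⊗_B N)|_{P'}`, naturally in the `B`-module `N`. -/
noncomputable def γ₀ :
    ModuleCat.restrictScalars.{u} (algebraMap P B) ⋙
        ModuleCat.extendScalars.{u, u, u} (algebraMap P P') ≅
      ModuleCat.extendScalars.{u, u, u} (algebraMap B B') ⋙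
        ModuleCat.restrictScalars.{u} (algebraMap P' B') :=
  NatIso.ofComponents (fun N => (γObj (P := P) (P' := P') (B' := B') N).toModuleIso) (by
    intro N N' f
    apply ModuleCat.ExtendScalars.hom_ext
    intro n
    have h1 := γObj_one_tmul (P := P) (P' := P') (B' := B') N n
    have h2 := γObj_one_tmul (P := P) (P' := P') (B' := B') N' (f n)
    rw [ConcreteCategory.comp_apply, ConcreteCategory.comp_apply]
    refine Eq.trans h2 ?_
    exact (congrArg (fun z => (ModuleCat.restrictScalars.{u} (algebraMap P' B')).map
      ((ModuleCat.extendScalars.{u, u, u} (algebraMap B B')).map f) z) h1).symm)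

end ModuleLevel

section Derived

open Groth.Agent.Lib.helper23.FBC Groth.Agent.Lib.helper23.Kz

attribute [local instance] FlatBC.preservesFiniteLimits_extendScalars_algebraMap

variable [Module.Flat P P'] [Module.Flat B B']

variable (P P' B B') in
/-- **base change square on derived categories**: `(X|_P) ⊗_P P' ≅ (X ⊗_B B')|_{P'}`, naturally in
`X : D(B)`. -/
noncomputable def γ :
    DRing.restrictD (algebraMap P B) ⋙ EE P P' ≅ EE B B' ⋙ DRing.restrictD (algebraMap P' B') :=
  (mapDCComp (ModuleCat.restrictScalars.{u} (algebraMap P B))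
      (ModuleCat.extendScalars.{u, u, u} (algebraMap P P'))).symm ≪≫
    mapDCIso (γ₀ P P' B B') ≪≫
    mapDCComp (ModuleCat.extendScalars.{u, u, u} (algebraMap B B'))
      (ModuleCat.restrictScalars.{u} (algebraMap P' B'))

end Derived

end Groth.Agent.Lib.helper23.FBCR
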