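import Mathlib
import Groth.Prelude.Def_DRing2
import Groth.Prelude.Def_DDual2
import Groth.Agent.Lib.Helper23.TA10

/-!
# helper23: Tor-amplitude library, part 11 (restriction of scalars along a ring map of finite tor
dimension)
-/

set_option autoImplicit false
universe u
open CategoryTheory CategoryTheory.Limits TensorProduct MonoidalCategory ZeroObject
open CategoryTheory.Pretriangulated

attribute [local instance] HasDerivedCategory.standard

namespace Groth.Agent.Lib.helper23.TA

open Groth.Agent.Lib.helper7.TorAPI Groth.Agent.Lib.helper23.PCohAmp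

theorem exact_lTensor_of_flat_of_exact_baseChange {A B : Type u} [CommRing A] [CommRing B]
    [Algebra A B] (N : Type u) [AddCommGroup N] [Module A N] [Module B N] [IsScalarTower A B N]
    [Module.Flat B N] {X Y Z : Type u} [AddCommGroup X] [Module A X] [AddCommGroup Y] [Module A Y]
    [AddCommGroup Z] [Module A Z] (f : X →ₗ[A] Y) (g : Y →ₗ[A] Z)
    (h : Function.Exact (f.lTensor B) (g.lTensor B)) :
    Function.Exact (f.lTensor N) (g.lTensor N) := by
  have h' : Function.Exact (f.baseChange B) (g.baseChange B) := fun y => h y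
  have h2 := Module.Flat.lTensor_exact N h'
  have key : ∀ {X Y : Type u} [AddCommGroup X] [Module A X] [AddCommGroup Y] [Module A Y]
      (f : X →ₗ[A] Y) (x : N ⊗[A] X),
      (TensorProduct.AlgebraTensorModule.cancelBaseChange A B B N Y).symm ((f.lTensor N) x) =
        ((f.baseChange B).lTensor N)
          ((TensorProduct.AlgebraTensorModule.cancelBaseChange A B B N X).symm x) := by
    intro X Y _ _ _ _ f x
    induction x using TensorProduct.induction_on with
    | zero => simp
    | tmul n x => rfl
    | add a b ha hb => rw [map_add, map_add, ha, hb, map_add, map_add]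
  exact exact_of_addEquiv _ _ _ _
    (TensorProduct.AlgebraTensorModule.cancelBaseChange A B B N X).symm.toAddEquiv
    (TensorProduct.AlgebraTensorModule.cancelBaseChange A B B N Y).symm.toAddEquiv
    (TensorProduct.AlgebraTensorModule.cancelBaseChange A B B N Z).symm.toAddEquiv
    (fun x => key f x) (fun x => key g x) h2

variable {A B : Type u} [CommRing A] [CommRing B] [Algebra A B]

/-- vanishing of `Tor_{q+1}(X, M)` in terms of a projective resolution of `M`. -/
lemma isZero_T_succ_iff (X M : ModuleCat.{u} A) (Q : ProjectiveResolution M) (q : ℕ) :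
    IsZero ((T (q + 1) X).obj M) ↔
      Function.Exact ((Q.complex.d (q + 2) (q + 1)).hom.lTensor X)
        ((Q.complex.d (q + 1) q).hom.lTensor X) := by
  have e := Q.isoLeftDerivedObj (tF X) (q + 1)
  have h1 : IsZero ((T (q + 1) X).obj M) ↔
      IsZero ((((tF X).mapHomologicalComplex (ComplexShape.down ℕ)).obj Q.complex).homology
        (q + 1)) := ⟨fun h => h.of_iso e.symm, fun h => h.of_iso e⟩
  rw [h1, ← HomologicalComplex.exactAt_iff_isZero_homology,
    HomologicalComplex.exactAt_iff' _ (q + 2) (q + 1) q (by simp) (by simp)]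
  exact ShortComplex.ShortExact.moduleCat_exact_iff_function_exact _

/-- flat `B`-modules have tor dimension `≤ d` over `A` if `B` has. -/
theorem torVan_restrict_of_flat (d : ℕ) (hB : TorVan d (ModuleCat.of A B)) (N : ModuleCat.{u} B)
    (hN : Module.Flat B N) :
    TorVan d ((ModuleCat.restrictScalars.{u} (algebraMap A B)).obj N) := by
  intro M p hp
  obtain ⟨q, rfl⟩ : ∃ q, p = q + 1 := ⟨p - 1, by omega⟩
  obtain ⟨Q⟩ : Nonempty (ProjectiveResolution M) := HasProjectiveResolution.out
  have h1 := (isZero_T_succ_iff (ModuleCat.of A B) M Q q).1 (hB M (q + 1) hp)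
  rw [isZero_T_succ_iff _ M Q q]
  letI : Module A N := Module.compHom N (algebraMap A B)
  haveI : IsScalarTower A B N := IsScalarTower.of_algebraMap_smul (fun _ _ => rfl)
  haveI := hN
  exact exact_lTensor_of_flat_of_exact_baseChange (A := A) (B := B) N _ _ h1

/-- restriction of scalars on the derived category is computed termwise. -/
noncomputable def restrictDQIso (E : DRing.Cx B) :
    (DRing.restrictD (algebraMap A B)).obj (DerivedCategory.Q.obj E) ≅
      DerivedCategory.Q.obj (((ModuleCat.restrictScalars.{u} (algebraMap A B)).mapHomologicalComplex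
        (ComplexShape.up ℤ)).obj E) :=
  ((ModuleCat.restrictScalars.{u} (algebraMap A B)).mapDerivedCategoryFactors).app E

/-- restriction of scalars along a ring map of tor dimension `≤ d`. -/
theorem hasTorAmplitudeIn_restrict (d : ℕ)
    (hB : DRing.HasTorAmplitudeIn A (-(d : ℤ)) 0 (Dual.inD A B)) (K : Dual.D B) (a b : ℤ)
    (hK : DRing.HasTorAmplitudeIn B a b K) :
    DRing.HasTorAmplitudeIn A (a - d) b ((DRing.restrictD (algebraMap A B)).obj K) := by
  have hB' : TorVan d (ModuleCat.of A B) := (torVan_iff_hasTorAmplitudeIn d _).2 hB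
  obtain ⟨E, hV, hfl, ⟨e⟩⟩ := hK
  refine hasTorAmplitudeIn_of_iso ((restrictDQIso E).symm ≪≫
    (DRing.restrictD (algebraMap A B)).mapIso e) ?_
  refine hasTorAmplitudeIn_of_terms (a - d) b _ a b
    (fun i hi => (ModuleCat.restrictScalars.{u} (algebraMap A B)).map_isZero (hV i hi))
    (fun i => ?_)
  by_cases hi : i < a ∨ b < i
  · exact hasTorAmplitudeIn_of_isZero _ _
      ((DerivedCategory.singleFunctor (ModuleCat.{u} A) 0).map_isZero
        ((ModuleCat.restrictScalars.{u} (algebraMap A B)).map_isZero (hV i hi)))
  · exact hasTorAmplitudeIn_mono ((torVan_iff_hasTorAmplitudeIn d _).1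
      (torVan_restrict_of_flat d hB' (E.X i) (hfl i))) (by omega) (by omega)

end Groth.Agent.Lib.helper23.TA
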