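import Mathlib

/-!
# Coproducts of cochain complexes, computed termwise, and quasi-isomorphisms (AB4)
-/

set_option autoImplicit false
universe w v u
open CategoryTheory Limits

namespace Groth.Agent.Lib.helper23.DCoprod

variable {A : Type u} [Category.{v} A] [Abelian A] {J : Type w}
  {ι : Type*} {c : ComplexShape ι}

/-- The complex in the functor category attached to a family of complexes. -/
@[simps]
def fam (K : J → HomologicalComplex A c) : HomologicalComplex (Discrete J ⥤ A) c where
  X n := Discrete.functor (fun j => (K j).X n)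
  d n m := Discrete.natTrans (fun j => (K j.as).d n m)
  shape n m h := by
    ext ⟨j⟩
    exact (K j).shape n m h
  d_comp_d' n m k _ _ := by
    ext ⟨j⟩
    exact (K j).d_comp_d n m k

/-- The morphism attached to a family of morphisms. -/
@[simps]
def famMap {K L : J → HomologicalComplex A c} (s : ∀ j, K j ⟶ L j) : fam K ⟶ fam L where
  f n := Discrete.natTrans (fun j => (s j.as).f n)
  comm' n m _ := by
    ext ⟨j⟩
    exact (s j).comm n m

lemma quasiIso_famMap {K L : J → HomologicalComplex A c} (s : ∀ j, K j ⟶ L j)
    (hs : ∀ j, QuasiIso (s j)) : QuasiIso (famMap s) := by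
  rw [HomologicalComplex.quasiIso_iff_evaluation]
  rintro ⟨j⟩
  exact hs j

variable [HasCoproductsOfShape J A]

/-- The termwise coproduct of a family of complexes. -/
noncomputable def sig (K : J → HomologicalComplex A c) : HomologicalComplex A c :=
  ((colim (J := Discrete J) (C := A)).mapHomologicalComplex c).obj (fam K)

/-- The map between termwise coproducts. -/
noncomputable def sigMap {K L : J → HomologicalComplex A c} (s : ∀ j, K j ⟶ L j) :
    sig K ⟶ sig L :=
  ((colim (J := Discrete J) (C := A)).mapHomologicalComplex c).map (famMap s)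

lemma sig_X (K : J → HomologicalComplex A c) (n : ι) :
    (sig K).X n = ∐ (fun j => (K j).X n) := rfl

/-- The inclusion of a summand. -/
noncomputable def sigι (K : J → HomologicalComplex A c) (j : J) : K j ⟶ sig K where
  f n := Sigma.ι (fun j => (K j).X n) j
  comm' n m _ := by
    show _ ≫ colimMap _ = _
    erw [ι_colimMap]
    rfl

/-- The morphism out of the coproduct. -/
noncomputable def sigDesc {K : J → HomologicalComplex A c} {L : HomologicalComplex A c}
    (g : ∀ j, K j ⟶ L) : sig K ⟶ L where
  f n := Sigma.desc (fun j => (g j).f n)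
  comm' n m _ := by
    apply Sigma.hom_ext (f := fun j => (K j).X n)
    intro j
    have h1 : Sigma.ι (fun j => (K j).X n) j ≫ (sig K).d n m =
        (K j).d n m ≫ Sigma.ι (fun j => (K j).X m) j := by
      show _ ≫ colimMap _ = _
      erw [ι_colimMap]
      rfl
    have h2 : Sigma.ι (fun j => (K j).X n) j ≫ Sigma.desc (fun j => (g j).f n) = (g j).f n :=
      Sigma.ι_desc _ _
    have h3 : Sigma.ι (fun j => (K j).X m) j ≫ Sigma.desc (fun j => (g j).f m) = (g j).f m :=
      Sigma.ι_desc _ _
    have e1 : Sigma.ι (fun j => (K j).X n) j ≫ Sigma.desc (fun j => (g j).f n) ≫ L.d n m =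
        (g j).f n ≫ L.d n m := by
      rw [← Category.assoc, h2]
    have e2 : Sigma.ι (fun j => (K j).X n) j ≫ (sig K).d n m ≫ Sigma.desc (fun j => (g j).f m) =
        (K j).d n m ≫ (g j).f m := by
      refine (Category.assoc _ _ _).symm.trans ?_
      refine (congrArg (fun x : (K j).X n ⟶ (sig K).X m =>
        x ≫ (Sigma.desc (fun j => (g j).f m) : (sig K).X m ⟶ L.X m)) h1).trans ?_
      refine (Category.assoc _ _ _).trans ?_
      exact congrArg (fun x => (K j).d n m ≫ x) h3
    exact e1.trans (((g j).comm n m).trans e2.symm)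

@[reassoc (attr := simp)]
lemma sigι_desc {K : J → HomologicalComplex A c} {L : HomologicalComplex A c}
    (g : ∀ j, K j ⟶ L) (j : J) : sigι K j ≫ sigDesc g = g j := by
  ext n
  exact Sigma.ι_desc _ _

@[reassoc (attr := simp)]
lemma sigι_map {K L : J → HomologicalComplex A c} (s : ∀ j, K j ⟶ L j) (j : J) :
    sigι K j ≫ sigMap s = s j ≫ sigι L j := by
  ext n
  show Sigma.ι (fun j => (K j).X n) j ≫ colimMap _ = _
  erw [ι_colimMap]
  rfl

lemma sig_hom_ext {K : J → HomologicalComplex A c} {L : HomologicalComplex A c}
    {a b : sig K ⟶ L} (h : ∀ j, sigι K j ≫ a = sigι K j ≫ b) : a = b := by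
  ext n
  apply Sigma.hom_ext (f := fun j => (K j).X n)
  intro j
  exact HomologicalComplex.congr_hom (h j) n

end Groth.Agent.Lib.helper23.DCoprod
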