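import Mathlib
import Groth.Agent.Lib.Helper23.DCoprod1

/-!
# Termwise coproducts preserve quasi-isomorphisms under AB4
-/

set_option autoImplicit false
universe w v u
open CategoryTheory Limits

namespace Groth.Agent.Lib.helper23.DCoprod

variable {A : Type u} [Category.{v} A] [Abelian A] {J : Type w}
  {ι : Type*} {c : ComplexShape ι} [HasCoproductsOfShape J A]
  [HasExactColimitsOfShape (Discrete J) A]

lemma quasiIso_sigMap {K L : J → HomologicalComplex A c} (s : ∀ j, K j ⟶ L j)
    (hs : ∀ j, QuasiIso (s j)) : QuasiIso (sigMap s) := by
  haveI := quasiIso_famMap s hs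
  haveI : (colim (J := Discrete J) (C := A)).PreservesHomology := inferInstance
  exact HomologicalComplex.quasiIso_map_of_preservesHomology (famMap s)
    (colim (J := Discrete J) (C := A))

end Groth.Agent.Lib.helper23.DCoprod
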