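import Mathlib
import Groth.Agent.Lib.Helper23.DCoprod2

/-!
# Coproducts in the derived category (AB4): preparation
-/

set_option autoImplicit false
universe w w' v u
open CategoryTheory Limits DerivedCategory CochainComplex HomComplex Pretriangulated

namespace Groth.Agent.Lib.helper23.DCoprod

variable {A : Type u} [Category.{v} A] [Abelian A] [HasDerivedCategory.{w'} A]

/-- A morphism of complexes which vanishes in the derived category factors, after precomposition
with a quasi-isomorphism, through a complex which is zero in the derived category. -/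
lemma exists_factor_of_Q_map_eq_zero {X Y : CochainComplex A ℤ} (a : X ⟶ Y)
    (ha : Q.map a = 0) :
    ∃ (X' : CochainComplex A ℤ) (r : X' ⟶ X) (_ : QuasiIso r) (Z : CochainComplex A ℤ)
      (_ : IsZero (Q.obj Z)) (α : X' ⟶ Z) (β : Z ⟶ Y), r ≫ a = α ≫ β := by
  have h := (MorphismProperty.map_eq_iff_precomp Qh
    (HomotopyCategory.quasiIso A (ComplexShape.up ℤ))
    ((HomotopyCategory.quotient _ _).map a) 0).1 (by
      rw [CategoryTheory.Functor.map_zero]
      exact ha)
  obtain ⟨Z, s₀, hs₀, hfs⟩ := h
  obtain ⟨X', rfl⟩ := HomotopyCategory.quotient_obj_surjective Z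
  obtain ⟨r, rfl⟩ := (HomotopyCategory.quotient _ _).map_surjective s₀
  rw [HomotopyCategory.quotient_map_mem_quasiIso_iff] at hs₀
  have H0 : Homotopy (r ≫ a) 0 := HomotopyCategory.homotopyOfEq _ _ (by
    rw [CategoryTheory.Functor.map_comp, hfs, comp_zero, CategoryTheory.Functor.map_zero])
  let z := (Cochain.equivHomotopy _ _ H0).1
  have hz : Cochain.ofHom (r ≫ a) = δ (-1) 0 z + Cochain.ofHom 0 :=
    (Cochain.equivHomotopy _ _ H0).2
  refine ⟨X', r, hs₀, mappingCone (𝟙 X'), ?_, mappingCone.inr (𝟙 X'),
    mappingCone.desc (𝟙 X') z (r ≫ a) (by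
      rw [Category.id_comp, hz, Cochain.ofHom_zero, add_zero]),
    (mappingCone.inr_desc _ _ _ _).symm⟩
  refine (Triangle.isZero₃_iff_isIso₁ _ (mappingCone_triangle_distinguished (𝟙 X'))).2 ?_
  show IsIso (Q.map (𝟙 X'))
  infer_instance

end Groth.Agent.Lib.helper23.DCoprod
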