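import Mathlib
import Groth.Agent.Lib.Helper23.DCoprod3

/-!
# Coproducts in the derived category (AB4): the universal property
-/

set_option autoImplicit false
universe w w' v u
open CategoryTheory Limits DerivedCategory CochainComplex HomComplex Pretriangulated

namespace Groth.Agent.Lib.helper23.DCoprod

variable {A : Type u} [Category.{v} A] [Abelian A] [HasDerivedCategory.{w'} A]
  {J : Type w} [HasCoproductsOfShape J A] [HasExactColimitsOfShape (Discrete J) A]

lemma isIso_Q_map_sigMap {K L : J → CochainComplex A ℤ} (s : ∀ j, K j ⟶ L j)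
    (hs : ∀ j, IsIso (Q.map (s j))) : IsIso (Q.map (sigMap s)) := by
  rw [isIso_Q_map_iff_quasiIso]
  exact quasiIso_sigMap s (fun j => (isIso_Q_map_iff_quasiIso A (s j)).1 (hs j))

lemma isZero_Q_sig (Z : J → CochainComplex A ℤ) (hZ : ∀ j, IsZero (Q.obj (Z j))) :
    IsZero (Q.obj (sig Z)) := by
  have h : IsIso (Q.map (sigMap (fun j => (0 : Z j ⟶ Z j)))) :=
    isIso_Q_map_sigMap _ (fun j => by
      rw [CategoryTheory.Functor.map_zero]
      exact ⟨0, (hZ j).eq_of_src _ _, (hZ j).eq_of_src _ _⟩)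
  have h0 : sigMap (fun j => (0 : Z j ⟶ Z j)) = 0 :=
    sig_hom_ext (fun j => by rw [sigι_map, zero_comp, comp_zero])
  rw [h0, CategoryTheory.Functor.map_zero] at h
  rw [IsZero.iff_id_eq_zero]
  have := IsIso.hom_inv_id (f := (0 : Q.obj (sig Z) ⟶ Q.obj (sig Z)))
  rw [zero_comp] at this
  exact this.symm

lemma exists_desc (K : J → CochainComplex A ℤ) (L : CochainComplex A ℤ)
    (φ : ∀ j, Q.obj (K j) ⟶ Q.obj L) :
    ∃ f : Q.obj (sig K) ⟶ Q.obj L, ∀ j, Q.map (sigι K j) ≫ f = φ j := by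
  have key : ∀ j, ∃ (P : CochainComplex A ℤ) (s : P ⟶ K j) (_ : IsIso (Q.map s)) (g : P ⟶ L),
      φ j = inv (Q.map s) ≫ Q.map g := fun j => right_fac (φ j)
  choose P s hs g hφ using key
  haveI := isIso_Q_map_sigMap s hs
  refine ⟨inv (Q.map (sigMap s)) ≫ Q.map (sigDesc g), fun j => ?_⟩
  have h1 : Q.map (sigι K j) ≫ inv (Q.map (sigMap s)) =
      inv (Q.map (s j)) ≫ Q.map (sigι P j) := by
    rw [← cancel_mono (Q.map (sigMap s)), Category.assoc, IsIso.inv_hom_id, Category.comp_id,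
      Category.assoc, ← Q.map_comp, sigι_map, Q.map_comp, IsIso.inv_hom_id_assoc]
  rw [reassoc_of% h1, ← Q.map_comp, sigι_desc, hφ j]

lemma eq_zero_of_forall_comp_eq_zero (K : J → CochainComplex A ℤ) (L : CochainComplex A ℤ)
    (d : Q.obj (sig K) ⟶ Q.obj L) (hd : ∀ j, Q.map (sigι K j) ≫ d = 0) : d = 0 := by
  obtain ⟨P, s, hs, g, rfl⟩ := right_fac d
  have key : ∀ j, ∃ (P'' : CochainComplex A ℤ) (wt : P'' ⟶ K j) (wu : P'' ⟶ P)
      (_ : QuasiIso wt) (Z Z' : CochainComplex A ℤ) (_ : IsZero (Q.obj Z))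
      (_ : IsZero (Q.obj Z')) (α : P'' ⟶ Z) (β : Z ⟶ L) (α' : P'' ⟶ Z') (β' : Z' ⟶ sig K),
      wu ≫ g = α ≫ β ∧ wu ≫ s - wt ≫ sigι K j = α' ≫ β' := by
    intro j
    obtain ⟨Pj, t, ht, u, hu⟩ := right_fac (Q.map (sigι K j) ≫ inv (Q.map s))
    have hu' : Q.map u = Q.map t ≫ Q.map (sigι K j) ≫ inv (Q.map s) := by
      rw [hu, IsIso.hom_inv_id_assoc]
    have ha : Q.map u ≫ Q.map s = Q.map t ≫ Q.map (sigι K j) := by
      rw [hu', Category.assoc, Category.assoc, IsIso.inv_hom_id, Category.comp_id]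
    have hb : Q.map (u ≫ g) = 0 := by
      rw [Q.map_comp, hu', Category.assoc, Category.assoc, hd j, comp_zero]
    obtain ⟨P', r, hr, Z, hZ, α, β, h1⟩ := exists_factor_of_Q_map_eq_zero (u ≫ g) hb
    have hc : Q.map (r ≫ (u ≫ s - t ≫ sigι K j)) = 0 := by
      rw [Q.map_comp, CategoryTheory.Functor.map_sub, Q.map_comp, Q.map_comp, ha, sub_self,
        comp_zero]
    obtain ⟨P'', r', hr', Z', hZ', α', β', h2⟩ := exists_factor_of_Q_map_eq_zero _ hc
    refine ⟨P'', r' ≫ r ≫ t, r' ≫ r ≫ u, ?_, Z, Z', hZ, hZ', r' ≫ α, β, α', β', ?_, ?_⟩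
    · haveI : QuasiIso t := (isIso_Q_map_iff_quasiIso A t).1 ht
      infer_instance
    · simp only [Category.assoc]
      rw [h1]
    · rw [← h2]
      simp only [Category.assoc, Preadditive.comp_sub]
  choose P'' wt wu hwt Z Z' hZ hZ' α β α' β' h1 h2 using key
  have hT : IsIso (Q.map (sigMap wt)) :=
    isIso_Q_map_sigMap wt (fun j => (isIso_Q_map_iff_quasiIso A (wt j)).2 (hwt j))
  have c1 : sigDesc wu ≫ s - sigMap wt =
      sigDesc (fun j => α' j ≫ sigι Z' j) ≫ sigDesc β' := by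
    apply sig_hom_ext
    intro j
    rw [Preadditive.comp_sub, sigι_desc_assoc, sigι_map, h2, sigι_desc_assoc, Category.assoc,
      sigι_desc]
  have c2 : sigDesc wu ≫ g = sigDesc (fun j => α j ≫ sigι Z j) ≫ sigDesc β := by
    apply sig_hom_ext
    intro j
    rw [sigι_desc_assoc, h1, sigι_desc_assoc, Category.assoc, sigι_desc]
  have hU : Q.map (sigDesc wu) ≫ Q.map s = Q.map (sigMap wt) := by
    have := congrArg (fun x => Q.map x) c1
    simp only [CategoryTheory.Functor.map_sub, CategoryTheory.Functor.map_comp] at this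
    rw [(isZero_Q_sig Z' hZ').eq_of_tgt (Q.map (sigDesc fun j => α' j ≫ sigι Z' j)) 0, zero_comp,
      sub_eq_zero] at this
    exact this
  have hU' : IsIso (Q.map (sigDesc wu)) := by
    have : Q.map (sigDesc wu) = Q.map (sigMap wt) ≫ inv (Q.map s) := by
      rw [← hU, Category.assoc, IsIso.hom_inv_id, Category.comp_id]
    rw [this]
    infer_instance
  have hg : Q.map g = 0 := by
    have := congrArg (fun x => Q.map x) c2
    simp only [CategoryTheory.Functor.map_comp] at this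
    rw [(isZero_Q_sig Z hZ).eq_of_tgt (Q.map (sigDesc fun j => α j ≫ sigι Z j)) 0, zero_comp]
      at this
    rw [← cancel_epi (Q.map (sigDesc wu)), this, comp_zero]
  rw [hg, comp_zero]

end Groth.Agent.Lib.helper23.DCoprod
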