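import Mathlib
import Groth.Agent.Lib.Helper23.DCoprod4

/-!
# Coproducts in the derived category (AB4)
-/

set_option autoImplicit false
universe w w' v u
open CategoryTheory Limits DerivedCategory CochainComplex HomComplex Pretriangulated

namespace Groth.Agent.Lib.helper23.DCoprod

variable {A : Type u} [Category.{v} A] [Abelian A] [HasDerivedCategory.{w'} A]
  {J : Type w} [HasCoproductsOfShape J A] [HasExactColimitsOfShape (Discrete J) A]

lemma existsUnique_desc (K : J → CochainComplex A ℤ) (Y : DerivedCategory A)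
    (φ : ∀ j, Q.obj (K j) ⟶ Y) :
    ∃! f : Q.obj (sig K) ⟶ Y, ∀ j, Q.map (sigι K j) ≫ f = φ j := by
  let L := Q.objPreimage Y
  let eL : Q.obj L ≅ Y := Q.objObjPreimageIso Y
  obtain ⟨f, hf⟩ := exists_desc K L (fun j => φ j ≫ eL.inv)
  refine ⟨f ≫ eL.hom, fun j => ?_, fun m hm => ?_⟩
  · rw [← Category.assoc, hf j, Category.assoc, Iso.inv_hom_id, Category.comp_id]
  · have h0 : (m - f ≫ eL.hom) ≫ eL.inv = 0 := by
      apply eq_zero_of_forall_comp_eq_zero K L
      intro j
      have hmj : Q.map (sigι K j) ≫ m = φ j := hm j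
      rw [Preadditive.sub_comp, Preadditive.comp_sub, reassoc_of% hmj, Category.assoc,
        Iso.hom_inv_id, Category.comp_id, hf j, sub_self]
    have h1 : m - f ≫ eL.hom = 0 := by
      rw [← cancel_mono eL.inv, h0, zero_comp]
    exact sub_eq_zero.1 h1

/-- The cofan in the derived category. -/
noncomputable def cofan (K : J → CochainComplex A ℤ) :
    Cofan (fun j => (Q (C := A)).obj (K j)) :=
  Cofan.mk (Q.obj (sig K)) (fun j => Q.map (sigι K j))

/-- The cofan is a coproduct. -/
noncomputable def isColimitCofan (K : J → CochainComplex A ℤ) : IsColimit (cofan K) :=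
  Cofan.IsColimit.mk _ (fun t => (existsUnique_desc K t.pt t.inj).choose)
    (fun t j => (existsUnique_desc K t.pt t.inj).choose_spec.1 j)
    (fun t m hm => (existsUnique_desc K t.pt t.inj).choose_spec.2 m hm)

theorem hasCoproduct (X : J → DerivedCategory A) : HasCoproduct X := by
  let K : J → CochainComplex A ℤ := fun j => Q.objPreimage (X j)
  have e : Discrete.functor (fun j => (Q (C := A)).obj (K j)) ≅ Discrete.functor X :=
    Discrete.natIso (fun j => Q.objObjPreimageIso (X j.as))
  haveI : HasColimit (Discrete.functor (fun j => (Q (C := A)).obj (K j))) :=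
    ⟨⟨⟨cofan K, isColimitCofan K⟩⟩⟩
  exact hasColimit_of_iso e.symm

theorem hasCoproductsOfShape : HasCoproductsOfShape J (DerivedCategory A) :=
  ⟨fun F => by
    haveI : HasColimit (Discrete.functor (F.obj ∘ Discrete.mk)) :=
      hasCoproduct (F.obj ∘ Discrete.mk)
    exact hasColimit_of_iso (Discrete.natIsoFunctor (F := F))⟩

end Groth.Agent.Lib.helper23.DCoprod
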