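import Mathlib
import Groth.Prelude.Def_DRing2
import Groth.Agent.Lib.Helper23.Devissage
import Groth.Agent.Lib.Helper23.PerfCone
import Groth.Agent.Lib.Helper23.PerfThick
import Groth.Agent.Lib.Helper23.DRingPC4

set_option autoImplicit false
universe u
open CategoryTheory CategoryTheory.Limits Pretriangulated ZeroObject

attribute [local instance] HasDerivedCategory.standard

namespace Groth.Agent.Lib.helper23.PerfDev

open Groth.Agent.Lib.helper23.PerfThick Groth.Agent.Lib.helper23.PerfCone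

variable (R : Type u) [CommRing R]

lemma isPerfect_of_iso {X Y : Dual.D R} (e : X ≅ Y) (h : DRing.IsPerfect R X) :
    DRing.IsPerfect R Y := by
  obtain ⟨E, a, b, hV, hP, ⟨e'⟩⟩ := h
  exact ⟨E, a, b, hV, hP, ⟨e' ≪≫ e⟩⟩

lemma isPerfect_of_isZero {X : Dual.D R} (h : IsZero X) : DRing.IsPerfect R X := by
  have h0 : IsZero (0 : CochainComplex (ModuleCat.{u} R) ℤ) := Limits.isZero_zero _
  have h0i : ∀ i, IsZero ((0 : CochainComplex (ModuleCat.{u} R) ℤ).X i) := fun i =>
    (HomologicalComplex.eval (ModuleCat.{u} R) (ComplexShape.up ℤ) i).map_isZero h0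
  refine ⟨(0 : CochainComplex (ModuleCat.{u} R) ℤ), 0, 0,
    fun i _ => h0i i, fun i => ?_, ⟨?_⟩⟩
  · exact (FP R).prop_of_isZero (h0i i)
  · have hz : IsZero (DRing.toD (0 : CochainComplex (ModuleCat.{u} R) ℤ)) :=
      DerivedCategory.Q.map_isZero h0
    exact hz.iso h

private def Pfp : ModuleCat.{u} R → Prop := fun M => Module.Finite R M ∧ Module.Projective R M

private lemma toRep (K : Dual.D R) (h : DRing.IsPerfect R K) : Rep (Pfp R) True K := by
  obtain ⟨E, a, b, hV, hFF, he⟩ := h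
  exact ⟨E, a, b, fun i hi => hV i (hi.imp (fun h => h.2) id), hFF, he⟩

private lemma ofRep (K : Dual.D R) (h : Rep (Pfp R) True K) : DRing.IsPerfect R K := by
  obtain ⟨E, a, b, h1, h2, he⟩ := h
  exact ⟨E, a, b, fun i hi => h1 i (hi.imp (fun h => ⟨trivial, h⟩) id), h2, he⟩

lemma isPerfect_shift (X : Dual.D R) (n : ℤ) (h : DRing.IsPerfect R X) :
    DRing.IsPerfect R (X⟦n⟧) :=
  ofRep R _ ((toRep R _ h).shift n)

lemma isPerfect_two_of_three (T : Triangle (Dual.D R)) (hT : T ∈ distTriang _) :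
    (DRing.IsPerfect R T.obj₁ → DRing.IsPerfect R T.obj₂ → DRing.IsPerfect R T.obj₃) ∧
      (DRing.IsPerfect R T.obj₁ → DRing.IsPerfect R T.obj₃ → DRing.IsPerfect R T.obj₂) ∧
      (DRing.IsPerfect R T.obj₂ → DRing.IsPerfect R T.obj₃ → DRing.IsPerfect R T.obj₁) := by
  have hproj : ∀ M, Pfp R M → Projective M := fun M h => by
    haveI := h.1
    haveI := h.2
    exact (IsProjective.iff_projective (R := R) M).1 h.2
  have hprod : ∀ (M N X : ModuleCat.{u} R), Pfp R M → Pfp R N → (X ≃ₗ[R] (M × N)) → Pfp R X := by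
    intro M N X hM hN e
    haveI := hM.1
    haveI := hM.2
    haveI := hN.1
    haveI := hN.2
    exact ⟨Module.Finite.equiv e.symm, Module.Projective.of_equiv e.symm⟩
  obtain ⟨h1, h2, h3⟩ := Rep.two_of_three (lo := True) hproj hprod T hT
  exact ⟨fun a b => ofRep R _ (h1 (toRep R _ a) (toRep R _ b)),
    fun a b => ofRep R _ (h2 (toRep R _ a) (toRep R _ b)),
    fun a b => ofRep R _ (h3 (toRep R _ a) (toRep R _ b))⟩

lemma isPerfect_summand (K L : Dual.D R) [HasBinaryBiproduct K L]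
    (h : DRing.IsPerfect R (K ⊞ L)) : DRing.IsPerfect R K ∧ DRing.IsPerfect R L := by
  obtain ⟨E, a, b, hz, hP, ⟨e⟩⟩ := h
  have hamp : PCohAmp.Amp (FP R) a b (K ⊞ L) := ⟨E, hP, hz, ⟨e⟩⟩
  have hamp' : PCohAmp.Amp (FP R) (min a b) b (K ⊞ L) := hamp.mono (min_le_left _ _) le_rfl
  have hdf : ∀ (E' E'' : ModuleCat.{u} R) [HasBinaryBiproduct E' E''],
      FP R (E' ⊞ E'') → FP R E' ∧ FP R E'' := by
    intro E' E'' _ h
    exact ⟨FP_of_retract R biprod.inl biprod.fst biprod.inl_fst h,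
      FP_of_retract R biprod.inr biprod.snd biprod.inr_snd h⟩
  obtain ⟨h1, h2⟩ := PCohAmp.Amp.summand_both (FP_sum R) (FP_lift R) (FP_kernel R) hdf
    (min_le_right a b)
    (PCohAmp.Amp.of_bilimit (BinaryBiproduct.bicone K L) (BinaryBiproduct.isBilimit K L) hamp')
  obtain ⟨E1, hP1, hz1, ⟨e1⟩⟩ := h1
  obtain ⟨E2, hP2, hz2, ⟨e2⟩⟩ := h2
  exact ⟨⟨E1, min a b, b, hz1, hP1, ⟨e1⟩⟩, ⟨E2, min a b, b, hz2, hP2, ⟨e2⟩⟩⟩

/-- S7029. -/
theorem isPerfect_of_terms (K : DRing.Cx R) (a b : ℤ) (hab : DRing.VanishesOutside K a b)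
    (hK : ∀ i : ℤ, DRing.IsPerfect R
      ((DerivedCategory.singleFunctor (ModuleCat.{u} R) 0).obj (K.X i))) :
    DRing.IsPerfect R (DRing.toD K) := by
  refine Devissage.devissage_terms (DRing.IsPerfect R) (fun X Y e h => isPerfect_of_iso R e h)
    (fun X h => isPerfect_of_isZero R h) (isPerfect_shift R)
    (fun T hT => (isPerfect_two_of_three R T hT).2.1) (b - a + 1).toNat b K
    (fun i hi => hab i (Or.inr hi)) (fun i hi => hab i (Or.inl ?_)) hK
  have := Int.self_le_toNat (b - a + 1)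
  omega

/-- S7030. -/
theorem isPerfect_of_homology (K : Dual.D R) (a b : ℤ)
    (hab : ∀ i : ℤ, (i < a ∨ b < i) →
      IsZero ((DerivedCategory.homologyFunctor (ModuleCat.{u} R) i).obj K))
    (hK : ∀ i : ℤ, DRing.IsPerfect R ((DerivedCategory.singleFunctor (ModuleCat.{u} R) 0).obj
      ((DerivedCategory.homologyFunctor (ModuleCat.{u} R) i).obj K))) :
    DRing.IsPerfect R K := by
  refine Devissage.devissage_homology (DRing.IsPerfect R) (fun X Y e h => isPerfect_of_iso R e h)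
    (fun X h => isPerfect_of_isZero R h) (isPerfect_shift R)
    (fun T hT => (isPerfect_two_of_three R T hT).2.1) (b - a + 1).toNat b K
    (fun i hi => hab i (Or.inr hi)) (fun i hi => hab i (Or.inl ?_)) hK
  have := Int.self_le_toNat (b - a + 1)
  omega

end Groth.Agent.Lib.helper23.PerfDev
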