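import Mathlib
import Groth.Agent.S0563

/-!
# helper23: finite modules over regular rings have finite projective dimension
-/

set_option autoImplicit false
universe u
open CategoryTheory CategoryTheory.Limits

namespace Groth.Agent.Lib.helper23.RegPD

variable {R : Type u} [CommRing R] [IsNoetherianRing R]

/-- the locus where the projective dimension is at most `n`. -/
def pdLocus (M : ModuleCat.{u} R) (n : ℕ) : Set (PrimeSpectrum R) :=
  {p | HasProjectiveDimensionLE (M.localizedModule p.asIdeal.primeCompl) n}

lemma pdLocus_zero (M : ModuleCat.{u} R) [Module.Finite R M] :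
    pdLocus M 0 = Module.freeLocus R M := by
  ext p
  simp only [pdLocus, Set.mem_ofPred_eq, Module.mem_freeLocus, HasProjectiveDimensionLE, zero_add]
  rw [← projective_iff_hasProjectiveDimensionLT_one, ← IsProjective.iff_projective]
  constructor
  · intro h
    haveI h0 : Module.Projective (Localization.AtPrime p.asIdeal)
        (Shrink.{u} (LocalizedModule p.asIdeal.primeCompl M)) := h
    haveI h1 : Module.Projective (Localization.AtPrime p.asIdeal)
        (LocalizedModule p.asIdeal.primeCompl M) :=
      Module.Projective.of_equiv (Shrink.linearEquiv.{u} (Localization.AtPrime p.asIdeal)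
        (LocalizedModule p.asIdeal.primeCompl M))
    haveI h2 : Module.Flat (Localization.AtPrime p.asIdeal)
        (LocalizedModule p.asIdeal.primeCompl M) := Module.Flat.of_projective
    exact Module.free_of_flat_of_isLocalRing
  · intro h
    haveI := h
    haveI h1 : Module.Projective (Localization.AtPrime p.asIdeal)
        (LocalizedModule p.asIdeal.primeCompl M) := Module.Projective.of_free
    have h2 : Module.Projective (Localization.AtPrime p.asIdeal)
        (Shrink.{u} (LocalizedModule p.asIdeal.primeCompl M)) :=
      Module.Projective.of_equiv (Shrink.linearEquiv.{u} (Localization.AtPrime p.asIdeal)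
        (LocalizedModule p.asIdeal.primeCompl M)).symm
    exact h2

lemma isOpen_pdLocus (n : ℕ) :
    ∀ (M : ModuleCat.{u} R) [Module.Finite R M], IsOpen (pdLocus M n) := by
  induction n with
  | zero =>
    intro M _
    rw [pdLocus_zero]
    haveI := Module.finitePresentation_of_finite R M
    exact Module.isOpen_freeLocus
  | succ n ih =>
    intro M _
    rcases Module.exists_finite_presentation R M with ⟨P, _, _, _, _, f, surjf⟩
    let S := f.shortComplexKer
    have S_exact := LinearMap.shortExact_shortComplexKer surjf
    have proj := ModuleCat.projective_of_categoryTheory_projective S.X₂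
    have key : pdLocus M (n + 1) = pdLocus (ModuleCat.of R (LinearMap.ker f)) n := by
      ext p
      let Sp := S.map (ModuleCat.localizedModuleFunctor p.asIdeal.primeCompl)
      have Sp_exact : Sp.ShortExact :=
        S_exact.map_of_exact (ModuleCat.localizedModuleFunctor p.asIdeal.primeCompl)
      have projp : Projective Sp.X₂ :=
        (ModuleCat.localizedModuleFunctor.{u} p.asIdeal.primeCompl).projective_obj_of_projective
          proj
      exact (Sp_exact.hasProjectiveDimensionLT_X₃_iff n projp)
    rw [key]
    exact ih _

lemma pdLocus_mono (M : ModuleCat.{u} R) {n m : ℕ} (h : n ≤ m) : pdLocus M n ⊆ pdLocus M m := by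
  intro p hp
  simp only [pdLocus, Set.mem_ofPred_eq, HasProjectiveDimensionLE] at hp ⊢
  exact hasProjectiveDimensionLT_of_ge _ (n + 1) (m + 1) (by omega)

/-- a finite module over a Noetherian ring with locally finite projective dimension has finite
projective dimension. -/
theorem exists_hasProjectiveDimensionLE (M : ModuleCat.{u} R) [Module.Finite R M]
    (h : ∀ p : PrimeSpectrum R, ∃ n, p ∈ pdLocus M n) : ∃ n, HasProjectiveDimensionLE M n := by
  obtain ⟨n, hn⟩ := isCompact_univ.elim_directed_cover (fun n => pdLocus M n)
    (fun n => isOpen_pdLocus n M)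
    (fun p _ => by
      obtain ⟨n, hn⟩ := h p
      exact Set.mem_iUnion.2 ⟨n, hn⟩)
    (directed_of_isDirected_le (fun n m h => pdLocus_mono M h))
  refine ⟨n, ?_⟩
  rw [ModuleCat.hasProjectiveDimensionLE_iff_forall_primeSpectrum]
  intro p
  exact hn (Set.mem_univ p)

/-- finite modules over regular rings have finite projective dimension. -/
theorem exists_hasProjectiveDimensionLE_of_regular
    (hreg : ∀ p : PrimeSpectrum R, IsRegularLocalRing (Localization.AtPrime p.asIdeal))
    (M : ModuleCat.{u} R) [Module.Finite R M] : ∃ n, HasProjectiveDimensionLE M n := by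
  refine exists_hasProjectiveDimensionLE M (fun p => ?_)
  haveI := hreg p
  have h1 := IsRegularLocalRing.spanFinrank_maximalIdeal (R := Localization.AtPrime p.asIdeal)
  exact ⟨_, Groth.Agent.S0563.result (Localization.AtPrime p.asIdeal) _ h1.symm _⟩

end Groth.Agent.Lib.helper23.RegPD
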