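import Mathlib
import Groth.Prelude.Def_DRing2
import Groth.Prelude.Def_DDual2
import Groth.Agent.Lib.Helper23.RegPD
import Groth.Agent.Lib.Helper23.TA13
import Groth.Agent.Lib.Helper23.TA9
import Groth.Agent.Lib.Helper23.PerfDev
import Groth.Agent.Lib.Helper23.DRingPC8

/-!
# helper23: perfect complexes over regular rings
-/

set_option autoImplicit false
universe u
open CategoryTheory CategoryTheory.Limits

attribute [local instance] HasDerivedCategory.standard

namespace Groth.Agent.Lib.helper23.RegPD

open Groth.Agent.Lib.helper23.PCohCore Groth.Agent.Lib.helper23.DRingPC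
  Groth.Agent.Lib.helper23.TA

variable (R : Type u) [CommRing R] [IsNoetherianRing R]

/-- a finite module of finite projective dimension over a Noetherian ring is perfect. -/
theorem isPerfect_single_of_hasProjectiveDimensionLE (M : ModuleCat.{u} R) [Module.Finite R M]
    (n : ℕ) (h : HasProjectiveDimensionLE M n) :
    DRing.IsPerfect R ((DerivedCategory.singleFunctor (ModuleCat.{u} R) 0).obj M) :=
  isPerfect_of_npc_of_hasTorAmplitudeIn _ (-(n : ℤ)) 0
    ((forall_npc_single_iff_of_noetherian R M).2 inferInstance)
    (hasTorAmplitudeIn_of_hasProjectiveDimensionLT n M h)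

theorem isPerfect_single_of_regular
    (hreg : ∀ p : PrimeSpectrum R, IsRegularLocalRing (Localization.AtPrime p.asIdeal))
    (M : ModuleCat.{u} R) [Module.Finite R M] :
    DRing.IsPerfect R ((DerivedCategory.singleFunctor (ModuleCat.{u} R) 0).obj M) := by
  obtain ⟨n, hn⟩ := exists_hasProjectiveDimensionLE_of_regular hreg M
  exact isPerfect_single_of_hasProjectiveDimensionLE R M n hn

omit [IsNoetherianRing R] in
theorem finite_of_isPerfect_single (M : ModuleCat.{u} R)
    (h : DRing.IsPerfect R ((DerivedCategory.singleFunctor (ModuleCat.{u} R) 0).obj M)) :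
    Module.Finite R M :=
  (npc_zero_single_iff_finite R M).1 ((npc_and_hasTorAmplitudeIn_of_isPerfect _ h).1 0)

/-- S6962. -/
theorem isPerfectModule_iff_finite_of_regular
    (hreg : ∀ p : PrimeSpectrum R, IsRegularLocalRing (Localization.AtPrime p.asIdeal))
    (M : Type u) [AddCommGroup M] [Module R M] :
    DRing.IsPerfectModule R M ↔ Module.Finite R M :=
  ⟨fun h => finite_of_isPerfect_single R (ModuleCat.of R M) h,
    fun h => by
      haveI : Module.Finite R (ModuleCat.of R M) := h
      exact isPerfect_single_of_regular R hreg (ModuleCat.of R M)⟩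

/-- S7031. -/
theorem isPerfect_iff_of_regular
    (hreg : ∀ p : PrimeSpectrum R, IsRegularLocalRing (Localization.AtPrime p.asIdeal))
    [∀ M : ModuleCat.{u} R, DRing.HasLTensor R M] (K : Dual.D R) :
    DRing.IsPerfect R K ↔
      (∃ a b : ℤ, ∀ i : ℤ, (i < a ∨ b < i) → Subsingleton (Dual.HD R K i)) ∧
        ∀ i : ℤ, Module.Finite R (Dual.HD R K i) := by
  constructor
  · intro h
    have h1 := (npc_and_hasTorAmplitudeIn_of_isPerfect _ h).1
    refine ⟨?_, fun i => ((npc_iff_of_noetherian R i K).1 (h1 i)).2 i le_rfl⟩
    obtain ⟨E, a, b, hz, -, ⟨e⟩⟩ := h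
    refine ⟨a, b, fun i hi => ?_⟩
    have h2 : IsZero (E.homology i) :=
      (HomologicalComplex.ExactAt.of_isZero (hz i hi)).isZero_homology
    exact ModuleCat.subsingleton_of_isZero
      ((h2.of_iso ((DerivedCategory.homologyFunctorFactors _ i).app E)).of_iso
        ((DerivedCategory.homologyFunctor _ i).mapIso e.symm))
  · rintro ⟨⟨a, b, hab⟩, hfin⟩
    refine PerfDev.isPerfect_of_homology R K a b (fun i hi => ?_) (fun i => ?_)
    · haveI := hab i hi
      exact ModuleCat.isZero_of_subsingleton _
    · haveI : Module.Finite R ((DerivedCategory.homologyFunctor (ModuleCat.{u} R) i).obj K) :=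
        hfin i
      exact isPerfect_single_of_regular R hreg _

end Groth.Agent.Lib.helper23.RegPD
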