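import Mathlib
import Groth.Agent.Lib.Helper23.DCoprod5

/-!
# `Q` preserves coproducts (AB4)
-/

set_option autoImplicit false
universe w w' v u
open CategoryTheory Limits DerivedCategory CochainComplex HomComplex Pretriangulated

namespace Groth.Agent.Lib.helper23.DCoprod

section

variable {A : Type u} [Category.{v} A] [Abelian A] {J : Type w} [HasCoproductsOfShape J A]
  {ι : Type*} {c : ComplexShape ι}

/-- The termwise coproduct is a coproduct in the category of complexes. -/
noncomputable def isColimitSigCofan (K : J → HomologicalComplex A c) :
    IsColimit (Cofan.mk (sig K) (sigι K)) :=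
  Cofan.IsColimit.mk _ (fun t => sigDesc t.inj) (fun t j => sigι_desc t.inj j)
    (fun t m hm => sig_hom_ext (fun j => by
      rw [sigι_desc]
      exact hm j))

end

variable {A : Type u} [Category.{v} A] [Abelian A] [HasDerivedCategory.{w'} A]
  {J : Type w} [HasCoproductsOfShape J A] [HasExactColimitsOfShape (Discrete J) A]

noncomputable instance preservesColimit_Q (K : J → CochainComplex A ℤ) :
    PreservesColimit (Discrete.functor K) (Q (C := A)) :=
  preservesColimit_of_preserves_colimit_cocone (isColimitSigCofan K)
    { desc := fun t => (existsUnique_desc K t.pt (fun j => t.ι.app ⟨j⟩)).choose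
      fac := fun t ⟨j⟩ => (existsUnique_desc K t.pt (fun j => t.ι.app ⟨j⟩)).choose_spec.1 j
      uniq := fun t m hm =>
        (existsUnique_desc K t.pt (fun j => t.ι.app ⟨j⟩)).choose_spec.2 m (fun j => hm ⟨j⟩) }

noncomputable instance preservesColimitsOfShape_Q :
    PreservesColimitsOfShape (Discrete J) (Q (C := A)) where
  preservesColimit {F} :=
    preservesColimit_of_iso_diagram _ (Discrete.natIsoFunctor (F := F)).symm

end Groth.Agent.Lib.helper23.DCoprod
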