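import Mathlib

/-!
# helper23: injective amplitude in a general abelian category (S12537, S11153)
-/

set_option autoImplicit false
universe w v u
open CategoryTheory CategoryTheory.Limits Pretriangulated ZeroObject

namespace Groth.Agent.Lib.helper23.InjAmpG

variable {C : Type u} [Category.{v} C] [Abelian C] [HasDerivedCategory.{w} C]

/-- `Hom(N[0], K[i]) = 0` iff `Hom(N[-i], K) = 0`. -/
lemma hom_shift_zero_iff (N : C) (K : DerivedCategory C) (i : ℤ) :
    (∀ φ : (DerivedCategory.singleFunctor C 0).obj N ⟶ K⟦i⟧, φ = 0) ↔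
      (∀ φ : (DerivedCategory.singleFunctor C i).obj N ⟶ K, φ = 0) := by
  have e1 : ((DerivedCategory.singleFunctor C i).obj N)⟦i⟧ ≅
      (DerivedCategory.singleFunctor C 0).obj N :=
    ((DerivedCategory.singleFunctors C).shiftIso i 0 i (by omega)).app N
  constructor
  · intro h φ
    apply (shiftFunctor (DerivedCategory C) i).map_injective
    refine (cancel_epi e1.inv).1 ?_
    rw [h (e1.inv ≫ (shiftFunctor (DerivedCategory C) i).map φ), Functor.map_zero, comp_zero]
  · intro h f
    obtain ⟨g, hg⟩ := (shiftFunctor (DerivedCategory C) i).map_surjective (e1.hom ≫ f)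
    have h1 : e1.hom ≫ f = 0 := by rw [← hg, h g, Functor.map_zero]
    calc f = e1.inv ≫ e1.hom ≫ f := (Iso.inv_hom_id_assoc _ _).symm
      _ = 0 := by rw [h1, comp_zero]

/-- maps from an object in degree `j` to a K-injective complex which vanish in the derived
category are null-homotopic. -/
lemma exists_factor_of_hom_zero (L : CochainComplex C ℤ) [L.IsKInjective] (N : C) (j : ℤ)
    (h : ∀ φ : (DerivedCategory.singleFunctor C j).obj N ⟶ DerivedCategory.Q.obj L, φ = 0)
    (φ : N ⟶ L.X j) (hφ : φ ≫ L.d j (j + 1) = 0) :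
    ∃ h' : N ⟶ L.X (j - 1), φ = h' ≫ L.d (j - 1) j := by
  let f : (HomologicalComplex.single C (ComplexShape.up ℤ) j).obj N ⟶ L :=
    HomologicalComplex.mkHomFromSingle φ (fun k hk => by
      simp only [ComplexShape.up_Rel] at hk
      subst hk
      exact hφ)
  have hQ : DerivedCategory.Q.map f = 0 := by
    have h2 : ((DerivedCategory.singleFunctorIsoCompQ C j).app N).hom ≫
        DerivedCategory.Q.map f = 0 := h _
    calc DerivedCategory.Q.map f
        = ((DerivedCategory.singleFunctorIsoCompQ C j).app N).inv ≫
          ((DerivedCategory.singleFunctorIsoCompQ C j).app N).hom ≫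
            DerivedCategory.Q.map f := (Iso.inv_hom_id_assoc _ _).symm
      _ = 0 := by rw [h2, comp_zero]
  have hq : (HomotopyCategory.quotient _ _).map f =
      (HomotopyCategory.quotient _ _).map (0 : _ ⟶ L) := by
    apply (CochainComplex.IsKInjective.Qh_map_bijective _ L).1
    show DerivedCategory.Q.map f = DerivedCategory.Q.map 0
    rw [hQ, Functor.map_zero]
  have H : Homotopy f 0 := HomotopyCategory.homotopyOfEq _ _ hq
  have hcomm := H.comm j
  rw [dNext_eq H.hom (show (ComplexShape.up ℤ).Rel j (j + 1) by simp),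
    prevD_eq H.hom (show (ComplexShape.up ℤ).Rel (j - 1) j by simp)] at hcomm
  simp only [HomologicalComplex.single_obj_d, zero_comp, zero_add, add_zero,
    HomologicalComplex.zero_f] at hcomm
  refine ⟨(HomologicalComplex.singleObjXSelf (ComplexShape.up ℤ) j N).inv ≫ H.hom j (j - 1), ?_⟩
  rw [Category.assoc, ← hcomm, HomologicalComplex.mkHomFromSingle_f, Iso.inv_hom_id_assoc]

lemma exists_factor_of_hom_zero' (L : CochainComplex C ℤ) [L.IsKInjective] (N : C)
    (i j k : ℤ) (hij : i + 1 = j) (hjk : j + 1 = k)
    (h : ∀ φ : (DerivedCategory.singleFunctor C j).obj N ⟶ DerivedCategory.Q.obj L, φ = 0)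
    (φ : N ⟶ L.X j) (hφ : φ ≫ L.d j k = 0) :
    ∃ h' : N ⟶ L.X i, φ = h' ≫ L.d i j := by
  obtain rfl : i = j - 1 := by omega
  obtain rfl : k = j + 1 := by omega
  exact exists_factor_of_hom_zero L N j h φ hφ

/-- no maps in `D(C)` from an object placed in degree `i` to a bounded below complex of injectives
with zero term in degree `i`. -/
lemma hom_single_zero_of_injective (E : CochainComplex C ℤ) (a : ℤ) [E.IsStrictlyGE a]
    [∀ n, Injective (E.X n)] (N : C) (i : ℤ) (hi : IsZero (E.X i))
    (φ : (DerivedCategory.singleFunctor C i).obj N ⟶ DerivedCategory.Q.obj E) : φ = 0 := by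
  haveI : E.IsKInjective := CochainComplex.isKInjective_of_injective E a
  let S : CochainComplex C ℤ := (HomologicalComplex.single C (ComplexShape.up ℤ) i).obj N
  let eS : (DerivedCategory.singleFunctor C i).obj N ≅ DerivedCategory.Q.obj S :=
    (DerivedCategory.singleFunctorIsoCompQ C i).app N
  have key : ∀ g : DerivedCategory.Q.obj S ⟶ DerivedCategory.Q.obj E, g = 0 := by
    intro g
    obtain ⟨h, hh⟩ := (CochainComplex.IsKInjective.Qh_map_bijective
      ((HomotopyCategory.quotient _ _).obj S) E).2 g
    obtain ⟨f, rfl⟩ := (HomotopyCategory.quotient _ _).map_surjective h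
    have hf : f = 0 := by
      refine HomologicalComplex.hom_ext _ _ (fun k => ?_)
      by_cases hk : k = i
      · subst hk
        exact hi.eq_of_tgt _ _
      · exact (HomologicalComplex.isZero_single_obj_X (ComplexShape.up ℤ) i _ k hk).eq_of_src _ _
    rw [← hh, hf, Functor.map_zero, Functor.map_zero]
    rfl
  have h1 := key (eS.inv ≫ φ)
  calc φ = eS.hom ≫ eS.inv ≫ φ := (Iso.hom_inv_id_assoc _ _).symm
    _ = 0 := by rw [h1, comp_zero]

/-- If there are no nonzero maps `Z^i(K')[-i] ⟶ K'` in `D(C)` then `K'` is exact in degree `i`. -/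
lemma exactAt_of_hom_zero (K' : CochainComplex C ℤ) (i : ℤ)
    (h : ∀ φ : (DerivedCategory.singleFunctor C i).obj (K'.cycles i) ⟶ DerivedCategory.Q.obj K',
      φ = 0) : K'.ExactAt i := by
  let N : C := K'.cycles i
  let c : (HomologicalComplex.single C (ComplexShape.up ℤ) i).obj N ⟶ K' :=
    HomologicalComplex.mkHomFromSingle (K'.iCycles i) (fun k hk => by
      simp only [ComplexShape.up_Rel] at hk
      subst hk
      exact K'.iCycles_d i (i + 1))
  have hQ : DerivedCategory.Q.map c = 0 := by
    have h2 : ((DerivedCategory.singleFunctorIsoCompQ C i).app N).hom ≫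
        DerivedCategory.Q.map c = 0 := h _
    calc DerivedCategory.Q.map c
        = ((DerivedCategory.singleFunctorIsoCompQ C i).app N).inv ≫
          ((DerivedCategory.singleFunctorIsoCompQ C i).app N).hom ≫
            DerivedCategory.Q.map c := (Iso.inv_hom_id_assoc _ _).symm
      _ = 0 := by rw [h2, comp_zero]
  have hH : HomologicalComplex.homologyMap c i = 0 := by
    have h1 := NatIso.naturality_2 (DerivedCategory.homologyFunctorFactors C i) c
    have h2 : (DerivedCategory.Q ⋙ DerivedCategory.homologyFunctor C i).map c = 0 := by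
      show (DerivedCategory.homologyFunctor C i).map (DerivedCategory.Q.map c) = 0
      rw [hQ, Functor.map_zero]
    rw [h2] at h1
    have h3 : (HomologicalComplex.homologyFunctor C (ComplexShape.up ℤ) i).map c ≫
        (DerivedCategory.homologyFunctorFactors C i).inv.app K' = 0 := by
      refine (cancel_epi ((DerivedCategory.homologyFunctorFactors C i).hom.app _)).1 ?_
      rw [h1, comp_zero]
    have h4 : (HomologicalComplex.homologyFunctor C (ComplexShape.up ℤ) i).map c = 0 := by
      refine (cancel_mono ((DerivedCategory.homologyFunctorFactors C i).inv.app K')).1 ?_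
      rw [h3, zero_comp]
    exact h4
  haveI : Epi (HomologicalComplex.homologyMap c i) := by
    rw [HomologicalComplex.epi_homologyMap_iff_up_to_refinements _ (i - 1) i (i + 1)
      (by simp) (by simp)]
    intro A y₂ hy₂
    refine ⟨A, 𝟙 A, inferInstance,
      K'.liftCycles y₂ (i + 1) (by simp) hy₂ ≫
        (HomologicalComplex.singleObjXSelf (ComplexShape.up ℤ) i N).inv, ?_, 0, ?_⟩
    · rw [Category.assoc, HomologicalComplex.single_obj_d, comp_zero, comp_zero]
    · rw [Category.id_comp, zero_comp, add_zero, Category.assoc,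
        HomologicalComplex.mkHomFromSingle_f, Iso.inv_hom_id_assoc,
        HomologicalComplex.liftCycles_i]
  rw [HomologicalComplex.exactAt_iff_isZero_homology]
  exact IsZero.of_epi_eq_zero _ hH

end Groth.Agent.Lib.helper23.InjAmpG
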