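import Mathlib
import Groth.Agent.Lib.Helper23.InjAmpG

/-!
# helper23: injective amplitude in a general abelian category, part 2
-/

set_option autoImplicit false
universe w v u
open CategoryTheory CategoryTheory.Limits Pretriangulated ZeroObject

namespace Groth.Agent.Lib.helper23.InjAmpG

variable {C : Type u} [Category.{v} C] [Abelian C] [HasDerivedCategory.{w} C]

/-- the cycles in degree `i` of a K-injective complex with injective terms are injective as soon as
there are no maps from objects placed in degree `i + 1`. -/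
lemma injective_cycles (L : CochainComplex C ℤ) [L.IsKInjective] (i : ℤ) [Injective (L.X i)]
    (h : ∀ φ : (DerivedCategory.singleFunctor C (i + 1)).obj (L.cycles (i + 1)) ⟶
      DerivedCategory.Q.obj L, φ = 0) : Injective (L.cycles i) := by
  obtain ⟨h', hh'⟩ := exists_factor_of_hom_zero' L (L.cycles (i + 1)) i (i + 1) (i + 2) rfl
    (by omega) h (L.iCycles (i + 1)) (L.iCycles_d (i + 1) (i + 2))
  let r : L.X i ⟶ L.cycles i :=
    L.liftCycles (𝟙 _ - L.toCycles i (i + 1) ≫ h') (i + 1) (by simp) (by
      rw [Preadditive.sub_comp, Category.id_comp, Category.assoc, ← hh', L.toCycles_i, sub_self])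
  have hr : L.iCycles i ≫ r = 𝟙 _ := by
    have h0 : L.iCycles i ≫ L.toCycles i (i + 1) = 0 := by
      rw [← cancel_mono (L.iCycles (i + 1)), Category.assoc, L.toCycles_i, L.iCycles_d, zero_comp]
    rw [← cancel_mono (L.iCycles i), Category.assoc, L.liftCycles_i, Preadditive.comp_sub,
      Category.comp_id, Category.id_comp, ← Category.assoc, h0, zero_comp, sub_zero]
  exact Retract.injective ⟨L.iCycles i, r, hr⟩

variable [EnoughInjectives C]

theorem exists_injective_model (X : DerivedCategory C) (a b : ℤ) (hab : a ≤ b)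
    (h : ∀ (F : C) (i : ℤ), (i < a ∨ b < i) →
      ∀ φ : (DerivedCategory.singleFunctor C i).obj F ⟶ X, φ = 0) :
    ∃ I : CochainComplex C ℤ, (∀ i, Injective (I.X i)) ∧
      (∀ i, (i < a ∨ b < i) → IsZero (I.X i)) ∧ Nonempty (DerivedCategory.Q.obj I ≅ X) := by
  have hsub : ∀ (K' : CochainComplex C ℤ) (e : DerivedCategory.Q.obj K' ≅ X) (F : C) (i : ℤ),
      (i < a ∨ b < i) →
      ∀ φ : (DerivedCategory.singleFunctor C i).obj F ⟶ DerivedCategory.Q.obj K', φ = 0 := by
    intro K' e F i hi φ
    have h1 := h F i hi (φ ≫ e.hom)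
    exact (cancel_mono e.hom).1 (by rw [h1, zero_comp])
  have hex : ∀ (K' : CochainComplex C ℤ) (e : DerivedCategory.Q.obj K' ≅ X) (i : ℤ),
      (i < a ∨ b < i) → K'.ExactAt i :=
    fun K' e i hi => exactAt_of_hom_zero K' i (hsub K' e _ i hi)
  haveI : X.IsGE a := by
    let K' := DerivedCategory.Q.objPreimage X
    let e : DerivedCategory.Q.obj K' ≅ X := DerivedCategory.Q.objObjPreimageIso X
    haveI : K'.IsGE a := by
      rw [CochainComplex.isGE_iff]
      intro i hi
      exact hex K' e i (Or.inl hi)
    haveI : (DerivedCategory.Q.obj K').IsGE a :=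
      (DerivedCategory.isGE_Q_obj_iff K' a).2 inferInstance
    exact DerivedCategory.TStructure.t.isGE_of_iso e a
  obtain ⟨K'', hK'', ⟨e⟩⟩ := DerivedCategory.exists_iso_Q_obj_of_isGE X a
  obtain ⟨L, ι, hι, hLinj, hLge⟩ :=
    CochainComplex.Plus.modelCategoryQuillen.exists_quasiIso_injective K'' a
  haveI := hι
  haveI := hLinj
  haveI := hLge
  haveI : L.IsKInjective := CochainComplex.isKInjective_of_injective L a
  let eL : DerivedCategory.Q.obj L ≅ X := (asIso (DerivedCategory.Q.map ι)).symm ≪≫ e.symm
  have hLex : ∀ i, (i < a ∨ b < i) → L.ExactAt i := hex L eL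
  haveI : L.IsLE b := by
    rw [CochainComplex.isLE_iff]
    intro i hi
    exact hLex i (Or.inr hi)
  haveI : QuasiIso (L.ιTruncLE b) := (L.quasiIso_ιTruncLE_iff b).2 inferInstance
  refine ⟨L.truncLE b, ?_, ?_, ⟨asIso (DerivedCategory.Q.map (L.ιTruncLE b)) ≪≫ eL⟩⟩
  · intro i
    rcases lt_trichotomy i b with hib | rfl | hib
    · exact Injective.of_iso (L.truncLEXIso b i hib).symm (hLinj i)
    · refine Injective.of_iso (L.truncLEXIsoCycles i).symm ?_
      exact injective_cycles L i (hsub L eL _ (i + 1) (Or.inr (by omega)))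
    · exact (CochainComplex.isZero_of_isStrictlyLE (L.truncLE b) b i hib).injective
  · intro i hi
    rcases hi with hi | hi
    · exact (CochainComplex.isZero_of_isStrictlyGE L a i hi).of_iso
        (L.truncLEXIso b i (by omega))
    · exact CochainComplex.isZero_of_isStrictlyLE (L.truncLE b) b i hi

/-- S12537-type statement. -/
theorem extVanishing_iff (X : DerivedCategory C) (a b : ℤ) (hab : a ≤ b) :
    (∀ (F : C) (i : ℤ), (i < a ∨ b < i) →
        ∀ φ : (DerivedCategory.singleFunctor C 0).obj F ⟶
          (shiftFunctor (DerivedCategory C) i).obj X, φ = 0) ↔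
      ∃ I : CochainComplex C ℤ, (∀ i, Injective (I.X i)) ∧
        (∀ i, (i < a ∨ b < i) → IsZero (I.X i)) ∧ Nonempty (DerivedCategory.Q.obj I ≅ X) := by
  constructor
  · intro h
    exact exists_injective_model X a b hab
      (fun F i hi => (hom_shift_zero_iff F X i).1 (h F i hi))
  · rintro ⟨I, hI, hz, ⟨e⟩⟩ F i hi
    refine (hom_shift_zero_iff F X i).2 (fun φ => ?_)
    haveI : I.IsStrictlyGE a := by
      rw [CochainComplex.isStrictlyGE_iff]
      intro j hj
      exact hz j (Or.inl hj)
    have h1 := hom_single_zero_of_injective I a F i (hz i hi) (φ ≫ e.inv)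
    exact (cancel_mono e.inv).1 (by rw [h1, zero_comp])

end Groth.Agent.Lib.helper23.InjAmpG
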