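import Mathlib
import Groth.Agent.Lib.Helper23.InjAmpG2

/-!
# Baer's criterion for the injective amplitude in `D(R)` (helper23)

For `K ∈ D^{[a,b]}(R)`: if `Hom(R/J, K[b+1]) = 0` for all ideals `J`, then `K` is represented by a
complex of injectives concentrated in `[a, b]`; so `Hom(N, K[i]) = 0` for all modules `N` and all
`i ∉ [a, b]`.
-/

set_option autoImplicit false
universe u
open CategoryTheory CategoryTheory.Limits Pretriangulated

attribute [local instance] HasDerivedCategory.standard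

namespace Groth.Agent.Lib.helper23.BaerD

open Groth.Agent.Lib.helper23.InjAmpG

section General

variable {C : Type*} [Category C] [Abelian C] [HasDerivedCategory C] [EnoughInjectives C]

/-- a bounded object of `D^{[a,b]}` all of whose bounded below injective models have injective
`b`-cycles is represented by a complex of injectives in `[a, b]`. -/
theorem exists_injective_model_of_cycles (X : DerivedCategory C) (a b : ℤ) (hab : a ≤ b)
    [X.IsGE a] [X.IsLE b]
    (hcyc : ∀ (L : CochainComplex C ℤ) [L.IsKInjective], (∀ i, Injective (L.X i)) →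
      (DerivedCategory.Q.obj L ≅ X) → Injective (L.cycles b)) :
    ∃ I : CochainComplex C ℤ, (∀ i, Injective (I.X i)) ∧
      (∀ i, (i < a ∨ b < i) → IsZero (I.X i)) ∧ Nonempty (DerivedCategory.Q.obj I ≅ X) := by
  obtain ⟨K'', hK'', ⟨e⟩⟩ := DerivedCategory.exists_iso_Q_obj_of_isGE X a
  obtain ⟨L, ι, hι, hLinj, hLge⟩ :=
    CochainComplex.Plus.modelCategoryQuillen.exists_quasiIso_injective K'' a
  haveI := hι
  haveI := hLinj
  haveI := hLge
  haveI : L.IsKInjective := CochainComplex.isKInjective_of_injective L a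
  let eL : DerivedCategory.Q.obj L ≅ X := (asIso (DerivedCategory.Q.map ι)).symm ≪≫ e.symm
  haveI : (DerivedCategory.Q.obj L).IsLE b := DerivedCategory.TStructure.t.isLE_of_iso eL.symm b
  haveI : L.IsLE b := (DerivedCategory.isLE_Q_obj_iff L b).1 inferInstance
  haveI : QuasiIso (L.ιTruncLE b) := (L.quasiIso_ιTruncLE_iff b).2 inferInstance
  refine ⟨L.truncLE b, ?_, ?_, ⟨asIso (DerivedCategory.Q.map (L.ιTruncLE b)) ≪≫ eL⟩⟩
  · intro i
    rcases lt_trichotomy i b with hib | rfl | hib
    · exact Injective.of_iso (L.truncLEXIso b i hib).symm (hLinj i)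
    · refine Injective.of_iso (L.truncLEXIsoCycles i).symm ?_
      exact hcyc L hLinj eL
    · exact (CochainComplex.isZero_of_isStrictlyLE (L.truncLE b) b i hib).injective
  · intro i hi
    rcases hi with hi | hi
    · exact (CochainComplex.isZero_of_isStrictlyGE L a i hi).of_iso
        (L.truncLEXIso b i (by omega))
    · exact CochainComplex.isZero_of_isStrictlyLE (L.truncLE b) b i hi

end General

section Mod

variable {R : Type u} [CommRing R]

/-- **Baer's criterion for cycles**: the cycles in degree `b` of a K-injective complex of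
injective modules are injective as soon as there are no maps from cyclic modules placed in
degree `b + 1`. -/
theorem injective_cycles_of_cyclic (L : CochainComplex (ModuleCat.{u} R) ℤ) [L.IsKInjective]
    (b : ℤ) [Injective (L.X b)]
    (h : ∀ (J : Ideal R) (φ : (DerivedCategory.singleFunctor (ModuleCat.{u} R) (b + 1)).obj
      (ModuleCat.of R (R ⧸ J)) ⟶ DerivedCategory.Q.obj L), φ = 0) :
    Injective (L.cycles b) := by
  suffices hB : Module.Baer R (L.cycles b) by
    haveI := hB.injective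
    exact Module.injective_object_of_injective_module R (L.cycles b)
  intro J g
  haveI : Mono (ModuleCat.ofHom J.subtype) :=
    (ModuleCat.mono_iff_injective _).2 Subtype.val_injective
  -- extend to `R → L^b`
  let g₁ : ModuleCat.of R R ⟶ L.X b :=
    Injective.factorThru (ModuleCat.ofHom g ≫ L.iCycles b) (ModuleCat.ofHom J.subtype)
  have hg₁ : ModuleCat.ofHom J.subtype ≫ g₁ = ModuleCat.ofHom g ≫ L.iCycles b :=
    Injective.comp_factorThru _ _
  have hg₁' : ∀ x : J, g₁.hom (x : R) = (L.iCycles b).hom (g x) := fun x =>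
    congrArg (fun k => k.hom x) hg₁
  -- the induced map `R/J → L^{b+1}`
  have hker : J ≤ LinearMap.ker (g₁ ≫ L.d b (b + 1)).hom := by
    intro x hx
    rw [LinearMap.mem_ker]
    show (L.d b (b + 1)).hom (g₁.hom x) = 0
    rw [hg₁' ⟨x, hx⟩]
    exact congrArg (fun k => k.hom (g ⟨x, hx⟩)) (L.iCycles_d b (b + 1))
  let hq : ModuleCat.of R (R ⧸ J) ⟶ L.X (b + 1) :=
    ModuleCat.ofHom (J.liftQ (g₁ ≫ L.d b (b + 1)).hom hker)
  have hπ : ModuleCat.ofHom J.mkQ ≫ hq = g₁ ≫ L.d b (b + 1) := by
    rfl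
  haveI : Epi (ModuleCat.ofHom J.mkQ) :=
    (ModuleCat.epi_iff_surjective _).2 (Submodule.mkQ_surjective J)
  have hqd : hq ≫ L.d (b + 1) (b + 1 + 1) = 0 := by
    rw [← cancel_epi (ModuleCat.ofHom J.mkQ), ← Category.assoc, hπ, Category.assoc,
      L.d_comp_d, comp_zero, comp_zero]
  obtain ⟨h', hh'⟩ := exists_factor_of_hom_zero' L (ModuleCat.of R (R ⧸ J)) b (b + 1)
    (b + 1 + 1) rfl rfl (h J) hq hqd
  let g₂ : ModuleCat.of R R ⟶ L.X b := g₁ - ModuleCat.ofHom J.mkQ ≫ h'
  have hg₂ : g₂ ≫ L.d b (b + 1) = 0 := by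
    rw [Preadditive.sub_comp, Category.assoc, ← hh', hπ, sub_self]
  let g' : ModuleCat.of R R ⟶ L.cycles b := L.liftCycles g₂ (b + 1) (by simp) hg₂
  refine ⟨g'.hom, fun x hx => ?_⟩
  have hinj : Function.Injective (L.iCycles b).hom :=
    (ModuleCat.mono_iff_injective _).1 inferInstance
  apply hinj
  have h1 : (L.iCycles b).hom (g'.hom x) = g₂.hom x :=
    congrArg (fun k => k.hom x) (L.liftCycles_i g₂ (b + 1) (by simp) hg₂)
  rw [h1, ← hg₁' ⟨x, hx⟩]
  show g₁.hom x - h'.hom (J.mkQ x) = g₁.hom x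
  have h2 : J.mkQ x = 0 := (Submodule.Quotient.mk_eq_zero J).2 hx
  rw [h2, map_zero, sub_zero]

/-- **Baer's criterion for the injective amplitude**. -/
theorem exists_injective_model_of_cyclic (K : DerivedCategory (ModuleCat.{u} R)) (a b : ℤ)
    (hab : a ≤ b) [K.IsGE a] [K.IsLE b]
    (h : ∀ (J : Ideal R) (φ : (DerivedCategory.singleFunctor (ModuleCat.{u} R) 0).obj
      (ModuleCat.of R (R ⧸ J)) ⟶ K⟦b + 1⟧), φ = 0) :
    ∃ I : CochainComplex (ModuleCat.{u} R) ℤ, (∀ i, Injective (I.X i)) ∧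
      (∀ i, (i < a ∨ b < i) → IsZero (I.X i)) ∧ Nonempty (DerivedCategory.Q.obj I ≅ K) := by
  refine exists_injective_model_of_cycles K a b hab (fun L _ hL e => ?_)
  haveI := hL b
  refine injective_cycles_of_cyclic L b (fun J φ => ?_)
  have h1 := (hom_shift_zero_iff (ModuleCat.of R (R ⧸ J)) K (b + 1)).1 (h J) (φ ≫ e.hom)
  exact (cancel_mono e.hom).1 (by rw [h1, zero_comp])

theorem hom_eq_zero_of_cyclic (K : DerivedCategory (ModuleCat.{u} R)) (a b : ℤ)
    (hab : a ≤ b) [K.IsGE a] [K.IsLE b]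
    (h : ∀ (J : Ideal R) (φ : (DerivedCategory.singleFunctor (ModuleCat.{u} R) 0).obj
      (ModuleCat.of R (R ⧸ J)) ⟶ K⟦b + 1⟧), φ = 0)
    (N : ModuleCat.{u} R) (i : ℤ) (hi : i < a ∨ b < i)
    (φ : (DerivedCategory.singleFunctor (ModuleCat.{u} R) 0).obj N ⟶ K⟦i⟧) : φ = 0 :=
  (extVanishing_iff K a b hab).2 (exists_injective_model_of_cyclic K a b hab h) N i hi φ

end Mod

end Groth.Agent.Lib.helper23.BaerD
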