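import Mathlib
import Groth.Prelude.Def_DRing2

/-!
# Finiteness of the `Hom` modules `Hom_{D(A)}(X, Y[i])` (helper23)

`FH X Y` says that all `Hom(X, Y[i])` are finite `A`-modules; closure properties
(isomorphisms, zero objects, shifts, two-out-of-three in both variables).
-/

set_option autoImplicit false
universe u
open CategoryTheory CategoryTheory.Limits DerivedCategory Pretriangulated

attribute [local instance] HasDerivedCategory.standard

namespace Groth.Agent.Lib.helper23.FinHom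

variable {A : Type u} [CommRing A]

/-- middle term of an exact sequence with finite ends over a Noetherian ring. -/
lemma finite_of_exact [IsNoetherianRing A] {M₁ M₂ M₃ : Type*} [AddCommGroup M₁] [Module A M₁]
    [AddCommGroup M₂] [Module A M₂] [AddCommGroup M₃] [Module A M₃]
    (f : M₁ →ₗ[A] M₂) (g : M₂ →ₗ[A] M₃) (h : ∀ x, g x = 0 → ∃ y, f y = x)
    [Module.Finite A M₁] [Module.Finite A M₃] : Module.Finite A M₂ := by
  haveI : IsNoetherian A M₃ := isNoetherian_of_isNoetherianRing_of_finite A M₃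
  haveI : IsNoetherian A M₁ := isNoetherian_of_isNoetherianRing_of_finite A M₁
  haveI : IsNoetherian A (LinearMap.range f) := isNoetherian_of_isNoetherianRing_of_finite A _
  have hle : LinearMap.ker g ≤ LinearMap.range f := fun x hx => h x (LinearMap.mem_ker.mp hx)
  haveI : Module.Finite A (LinearMap.ker g) :=
    Module.Finite.of_injective (Submodule.inclusion hle) (Submodule.inclusion_injective hle)
  haveI : Module.Finite A (M₂ ⧸ LinearMap.ker g) :=
    Module.Finite.equiv (g.quotKerEquivRange).symm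
  exact Module.Finite.of_submodule_quotient (LinearMap.ker g)

/-- all `Hom(X, Y[i])` are finite `A`-modules. -/
def FH (X Y : Dual.D A) : Prop := ∀ i : ℤ, Module.Finite A (X ⟶ Y⟦i⟧)

section

variable {X X' Y Y' : Dual.D A}

lemma finite_hom_of_iso_left {Z : Dual.D A} (e : X ≅ X') (h : Module.Finite A (X ⟶ Z)) :
    Module.Finite A (X' ⟶ Z) :=
  Module.Finite.of_surjective (Linear.leftComp A Z e.inv) (fun g => ⟨e.hom ≫ g, by simp⟩)

lemma finite_hom_of_iso_right {Z : Dual.D A} (e : Y ≅ Y') (h : Module.Finite A (Z ⟶ Y)) :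
    Module.Finite A (Z ⟶ Y') :=
  Module.Finite.of_surjective (Linear.rightComp A Z e.hom) (fun g => ⟨g ≫ e.inv, by simp⟩)

lemma FH.of_iso_left (e : X ≅ X') (h : FH X Y) : FH X' Y :=
  fun i => finite_hom_of_iso_left e (h i)

lemma FH.of_iso_right (e : Y ≅ Y') (h : FH X Y) : FH X Y' :=
  fun i => finite_hom_of_iso_right ((shiftFunctor (Dual.D A) i).mapIso e) (h i)

lemma FH.of_isZero_left (hX : IsZero X) : FH X Y := fun i => by
  haveI : Subsingleton (X ⟶ Y⟦i⟧) := ⟨fun f g => hX.eq_of_src f g⟩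
  infer_instance

lemma FH.of_isZero_right (hY : IsZero Y) : FH X Y := fun i => by
  haveI : Subsingleton (X ⟶ Y⟦i⟧) :=
    ⟨fun f g => ((shiftFunctor (Dual.D A) i).map_isZero hY).eq_of_tgt f g⟩
  infer_instance

lemma FH.shift_right (n : ℤ) (h : FH X Y) : FH X (Y⟦n⟧) := fun i =>
  finite_hom_of_iso_right ((shiftFunctorAdd' (Dual.D A) n i (n + i) rfl).app Y) (h (n + i))

lemma FH.shift_left (n : ℤ) (h : FH X Y) : FH (X⟦n⟧) Y := fun i => by
  -- `Hom(X, Y[i-n]) → Hom(X[n], Y[i])`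
  haveI := h (i - n)
  let φ : (X ⟶ Y⟦i - n⟧) →ₗ[A] (X⟦n⟧ ⟶ Y⟦i⟧) :=
    (Linear.rightComp A (X⟦n⟧) ((shiftFunctorAdd' (Dual.D A) (i - n) n i (by omega)).inv.app Y)) ∘ₗ
      ((shiftFunctor (Dual.D A) n).mapLinearMap A)
  refine Module.Finite.of_surjective φ (fun g => ?_)
  obtain ⟨f, hf⟩ := (shiftFunctor (Dual.D A) n).map_surjective
    (g ≫ (shiftFunctorAdd' (Dual.D A) (i - n) n i (by omega)).hom.app Y)
  refine ⟨f, ?_⟩
  show f⟦n⟧' ≫ (shiftFunctorAdd' (Dual.D A) (i - n) n i (by omega)).inv.app Y = g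
  rw [hf, Category.assoc, Iso.hom_inv_id_app, Category.comp_id]

end

section Ext

variable [IsNoetherianRing A]

lemma FH.ext_left {Y : Dual.D A} (T : Triangle (Dual.D A)) (hT : T ∈ distTriang _)
    (h₁ : FH T.obj₁ Y) (h₃ : FH T.obj₃ Y) : FH T.obj₂ Y := fun i => by
  haveI := h₁ i
  haveI := h₃ i
  refine finite_of_exact (Linear.leftComp A (Y⟦i⟧) T.mor₂) (Linear.leftComp A (Y⟦i⟧) T.mor₁)
    (fun f hf => ?_)
  obtain ⟨g, hg⟩ := Triangle.yoneda_exact₂ T hT f hf
  exact ⟨g, hg.symm⟩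

lemma FH.ext_right {X : Dual.D A} (T : Triangle (Dual.D A)) (hT : T ∈ distTriang _)
    (h₁ : FH X T.obj₁) (h₃ : FH X T.obj₃) : FH X T.obj₂ := fun i => by
  haveI := h₁ i
  haveI := h₃ i
  refine finite_of_exact (Linear.rightComp A X (T.mor₁⟦i⟧')) (Linear.rightComp A X (T.mor₂⟦i⟧'))
    (fun f hf => ?_)
  have hT' := Triangle.shift_distinguished T hT i
  have hf' : f ≫ ((CategoryTheory.shiftFunctor (Triangle (Dual.D A)) i).obj T).mor₂ = 0 := by
    show f ≫ (i.negOnePow • T.mor₂⟦i⟧') = 0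
    rw [Linear.comp_units_smul]
    have : f ≫ T.mor₂⟦i⟧' = 0 := hf
    rw [this, smul_zero]
  obtain ⟨g, hg⟩ : ∃ g : X ⟶ T.obj₁⟦i⟧, f = g ≫ (i.negOnePow • T.mor₁⟦i⟧') :=
    Triangle.coyoneda_exact₂ _ hT' f hf'
  refine ⟨i.negOnePow • g, ?_⟩
  show (i.negOnePow • g) ≫ T.mor₁⟦i⟧' = f
  rw [hg, Linear.comp_units_smul, Linear.units_smul_comp]

end Ext

end Groth.Agent.Lib.helper23.FinHom
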