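import Mathlib
import Groth.Prelude.Def_DRing2
import Groth.Agent.Lib.Helper23.FinHom1
import Groth.Agent.Lib.Helper23.Devissage

/-!
# Finiteness of `Hom_{D(A)}(X, Y[i])` for bounded coherent `X`, `Y` (helper23)
-/

set_option autoImplicit false
universe u
open CategoryTheory CategoryTheory.Limits DerivedCategory Pretriangulated

attribute [local instance] HasDerivedCategory.standard

namespace Groth.Agent.Lib.helper23.FinHom

variable {A : Type u} [CommRing A] [IsNoetherianRing A]

/-- base case: `Ext` between finite modules. -/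
lemma FH_modules (M N : ModuleCat.{u} A) [Module.Finite A M] [Module.Finite A N] :
    FH ((singleFunctor (ModuleCat.{u} A) 0).obj M) ((singleFunctor (ModuleCat.{u} A) 0).obj N) := by
  intro i
  by_cases hi : 0 ≤ i
  · obtain ⟨n, rfl⟩ := Int.eq_ofNat_of_zero_le hi
    exact Module.Finite.equiv (Abelian.Ext.homLinearEquiv (R := A) (X := M) (Y := N) (n := n))
  · haveI : (((singleFunctor (ModuleCat.{u} A) 0).obj N)⟦i⟧).IsGE (-i) :=
      DerivedCategory.TStructure.t.isGE_shift _ 0 i (-i) (by omega)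
    haveI : Subsingleton ((singleFunctor (ModuleCat.{u} A) 0).obj M ⟶
        ((singleFunctor (ModuleCat.{u} A) 0).obj N)⟦i⟧) :=
      ⟨fun f g => by
        rw [DerivedCategory.TStructure.t.zero f 0 (-i) (by omega),
          DerivedCategory.TStructure.t.zero g 0 (-i) (by omega)]⟩
    infer_instance

/-- `Y` has cohomology only in `(b - k, b]`, all of it finite. -/
def BC (k : ℕ) (b : ℤ) (Y : Dual.D A) : Prop :=
  (∀ i : ℤ, b < i → IsZero ((homologyFunctor (ModuleCat.{u} A) i).obj Y)) ∧
  (∀ i : ℤ, i ≤ b - k → IsZero ((homologyFunctor (ModuleCat.{u} A) i).obj Y)) ∧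
  ∀ i : ℤ, Module.Finite A ((homologyFunctor (ModuleCat.{u} A) i).obj Y)

lemma FH_single_of_BC (M : ModuleCat.{u} A) [Module.Finite A M] {k : ℕ} {b : ℤ} {Y : Dual.D A}
    (hY : BC k b Y) : FH ((singleFunctor (ModuleCat.{u} A) 0).obj M) Y := by
  refine Devissage.devissage_homology
    (fun Y => FH ((singleFunctor (ModuleCat.{u} A) 0).obj M) Y)
    (fun _ _ e h => h.of_iso_right e) (fun _ h => FH.of_isZero_right h)
    (fun _ n h => h.shift_right n) (fun T hT h₁ h₃ => FH.ext_right T hT h₁ h₃)
    k b Y hY.1 hY.2.1 (fun i => ?_)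
  haveI := hY.2.2 i
  exact FH_modules M _

theorem FH_of_BC {k k' : ℕ} {b b' : ℤ} {X Y : Dual.D A} (hX : BC k b X) (hY : BC k' b' Y) :
    FH X Y := by
  refine Devissage.devissage_homology (fun X => FH X Y)
    (fun _ _ e h => h.of_iso_left e) (fun _ h => FH.of_isZero_left h)
    (fun _ n h => h.shift_left n) (fun T hT h₁ h₃ => FH.ext_left T hT h₁ h₃)
    k b X hX.1 hX.2.1 (fun i => ?_)
  haveI := hX.2.2 i
  exact FH_single_of_BC _ hY

end Groth.Agent.Lib.helper23.FinHom
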