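import Mathlib

/-!
# helper23: splitting an object of the derived category along a cohomological gap
-/

set_option autoImplicit false
universe w v u
open CategoryTheory CategoryTheory.Limits Pretriangulated

namespace Groth.Agent.Lib.helper23.SplitTrunc

variable {C : Type u} [Category.{v} C] [Abelian C] [HasDerivedCategory.{w} C]


/-- `K ⟶ τ_{≥ n} K` is an isomorphism on cohomology in degrees `≥ n`. -/
lemma isIso_homologyMap_truncGEπ (K : DerivedCategory C) (n i : ℤ) (hi : n ≤ i) :
    IsIso ((DerivedCategory.homologyFunctor C i).map (((DerivedCategory.TStructure.t (C := C)).truncGEπ n).app K)) := by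
  let T := ((DerivedCategory.TStructure.t (C := C)).triangleLTGE n).obj K
  have hT : T ∈ distTriang _ := (DerivedCategory.TStructure.t (C := C)).triangleLTGE_distinguished n K
  haveI h1LE : T.obj₁.IsLE (n - 1) := by
    dsimp [T]; infer_instance
  have hz1 : ∀ j : ℤ, n - 1 < j → IsZero ((DerivedCategory.homologyFunctor C j).obj T.obj₁) :=
    fun j hj => DerivedCategory.isZero_of_isLE T.obj₁ (n - 1) j hj
  haveI : Mono ((DerivedCategory.homologyFunctor C i).map T.mor₂) :=
    (DerivedCategory.HomologySequence.mono_homologyMap_mor₂_iff _ hT i).2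
      ((hz1 i (by omega)).eq_of_src _ _)
  haveI : Epi ((DerivedCategory.homologyFunctor C i).map T.mor₂) :=
    (DerivedCategory.HomologySequence.epi_homologyMap_mor₂_iff _ hT i (i + 1) rfl).2
      ((hz1 (i + 1) (by omega)).eq_of_tgt _ _)
  exact isIso_of_mono_of_epi ((DerivedCategory.homologyFunctor C i).map T.mor₂)

/-- `τ_{< n} K ⟶ K` is an isomorphism on cohomology in degrees `< n`. -/
lemma isIso_homologyMap_truncLTι (K : DerivedCategory C) (n i : ℤ) (hi : i < n) :
    IsIso ((DerivedCategory.homologyFunctor C i).map (((DerivedCategory.TStructure.t (C := C)).truncLTι n).app K)) := by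
  let T := ((DerivedCategory.TStructure.t (C := C)).triangleLTGE n).obj K
  have hT : T ∈ distTriang _ := (DerivedCategory.TStructure.t (C := C)).triangleLTGE_distinguished n K
  haveI h3GE : T.obj₃.IsGE n := by
    dsimp [T]; infer_instance
  have hz3 : ∀ j : ℤ, j < n → IsZero ((DerivedCategory.homologyFunctor C j).obj T.obj₃) :=
    fun j hj => DerivedCategory.isZero_of_isGE T.obj₃ n j hj
  haveI : Mono ((DerivedCategory.homologyFunctor C i).map T.mor₁) :=
    (DerivedCategory.HomologySequence.mono_homologyMap_mor₁_iff _ hT (i - 1) i (by simp)).2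
      ((hz3 (i - 1) (by omega)).eq_of_src _ _)
  haveI : Epi ((DerivedCategory.homologyFunctor C i).map T.mor₁) :=
    (DerivedCategory.HomologySequence.epi_homologyMap_mor₁_iff _ hT i).2
      ((hz3 i hi).eq_of_tgt _ _)
  exact isIso_of_mono_of_epi ((DerivedCategory.homologyFunctor C i).map T.mor₁)

lemma isGE_truncGE_of_gap (K : DerivedCategory C) (n m : ℤ)
    (hgap : ∀ i : ℤ, n ≤ i → i < m → IsZero ((DerivedCategory.homologyFunctor C i).obj K)) :
    (((DerivedCategory.TStructure.t (C := C)).truncGE n).obj K).IsGE m := by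
  rw [DerivedCategory.isGE_iff]
  intro i hi
  by_cases hin : i < n
  · exact DerivedCategory.isZero_of_isGE (((DerivedCategory.TStructure.t (C := C)).truncGE n).obj K) n i hin
  · haveI := isIso_homologyMap_truncGEπ K n i (by omega)
    exact (hgap i (by omega) hi).of_iso
      (asIso ((DerivedCategory.homologyFunctor C i).map (((DerivedCategory.TStructure.t (C := C)).truncGEπ n).app K))).symm

/-- along a cohomological gap, the truncations agree. -/
theorem exists_iso_truncGE_of_gap (K : DerivedCategory C) (n m : ℤ) (hnm : n ≤ m)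
    (hgap : ∀ i : ℤ, n ≤ i → i < m → IsZero ((DerivedCategory.homologyFunctor C i).obj K)) :
    ∃ ψ : ((DerivedCategory.TStructure.t (C := C)).truncGE n).obj K ≅ ((DerivedCategory.TStructure.t (C := C)).truncGE m).obj K,
      ((DerivedCategory.TStructure.t (C := C)).truncGEπ n).app K ≫ ψ.hom = ((DerivedCategory.TStructure.t (C := C)).truncGEπ m).app K := by
  haveI := isGE_truncGE_of_gap K n m hgap
  haveI h1 : IsIso (((DerivedCategory.TStructure.t (C := C)).truncGEπ m).app (((DerivedCategory.TStructure.t (C := C)).truncGE n).obj K)) :=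
    ((DerivedCategory.TStructure.t (C := C)).isGE_iff_isIso_truncGEπ_app m _).1 inferInstance
  haveI h2 : IsIso (((DerivedCategory.TStructure.t (C := C)).truncGE m).map (((DerivedCategory.TStructure.t (C := C)).truncGEπ n).app K)) :=
    (DerivedCategory.TStructure.t (C := C)).isIso_truncGE_map_truncGEπ_app m n hnm K
  refine ⟨asIso (((DerivedCategory.TStructure.t (C := C)).truncGEπ m).app (((DerivedCategory.TStructure.t (C := C)).truncGE n).obj K)) ≪≫
    (asIso (((DerivedCategory.TStructure.t (C := C)).truncGE m).map (((DerivedCategory.TStructure.t (C := C)).truncGEπ n).app K))).symm, ?_⟩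
  have nat := ((DerivedCategory.TStructure.t (C := C)).truncGEπ m).naturality (((DerivedCategory.TStructure.t (C := C)).truncGEπ n).app K)
  simp only [Functor.id_obj, Functor.id_map] at nat
  simp only [Iso.trans_hom, asIso_hom, Iso.symm_hom, asIso_inv]
  rw [← Category.assoc, nat, Category.assoc, IsIso.hom_inv_id, Category.comp_id]

/-- the splitting along a gap. -/
theorem exists_split_iso (K : DerivedCategory C) (n m : ℤ) (hnm : n ≤ m)
    (hgap : ∀ i : ℤ, n ≤ i → i < m → IsZero ((DerivedCategory.homologyFunctor C i).obj K))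
    (hvan : Subsingleton (((DerivedCategory.TStructure.t (C := C)).truncGE n).obj K ⟶ (((DerivedCategory.TStructure.t (C := C)).truncLT n).obj K)⟦(1 : ℤ)⟧))
    [HasBinaryBiproduct (((DerivedCategory.TStructure.t (C := C)).truncLT n).obj K) (((DerivedCategory.TStructure.t (C := C)).truncGE m).obj K)] :
    ∃ e : K ≅ ((DerivedCategory.TStructure.t (C := C)).truncLT n).obj K ⊞ ((DerivedCategory.TStructure.t (C := C)).truncGE m).obj K,
      ((DerivedCategory.TStructure.t (C := C)).truncLTι n).app K ≫ e.hom = biprod.inl ∧
        e.hom ≫ biprod.snd = ((DerivedCategory.TStructure.t (C := C)).truncGEπ m).app K := by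
  obtain ⟨e, he1, he2⟩ : ∃ e : K ≅ ((DerivedCategory.TStructure.t (C := C)).truncLT n).obj K ⊞
      ((DerivedCategory.TStructure.t (C := C)).truncGE n).obj K,
      ((DerivedCategory.TStructure.t (C := C)).truncLTι n).app K ≫ e.hom = biprod.inl ∧
      ((DerivedCategory.TStructure.t (C := C)).truncGEπ n).app K = e.hom ≫ biprod.snd :=
    exists_iso_binaryBiproduct_of_distTriang
      (((DerivedCategory.TStructure.t (C := C)).triangleLTGE n).obj K)
      ((DerivedCategory.TStructure.t (C := C)).triangleLTGE_distinguished n K) (hvan.elim _ _)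
  obtain ⟨ψ, hψ⟩ := exists_iso_truncGE_of_gap K n m hnm hgap
  refine ⟨e ≪≫ biprod.mapIso (Iso.refl _) ψ, ?_, ?_⟩
  · rw [Iso.trans_hom, ← Category.assoc, he1]
    simp
  · rw [Iso.trans_hom, Category.assoc]
    simp only [biprod.mapIso_hom, biprod.map_snd]
    rw [← Category.assoc, ← he2, hψ]

end Groth.Agent.Lib.helper23.SplitTrunc
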