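import Mathlib
import Groth.Prelude.Def_DRing2
import Groth.Agent.Lib.Helper23.FinHom2
import Groth.Agent.Lib.Helper23.SplitTrunc

/-!
# Finiteness of `Hom_{D(A)}(K, L[i])` for coherent `K` and coherent `L` of finite injective
dimension (helper23, S1746)
-/

set_option autoImplicit false
universe u
open CategoryTheory CategoryTheory.Limits DerivedCategory Pretriangulated

attribute [local instance] HasDerivedCategory.standard

namespace Groth.Agent.Lib.helper23.FinHom

variable {A : Type u} [CommRing A]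

lemma injAmp_shift (Y : Dual.D A) (a b i : ℤ) (h : DRing.HasInjAmplitudeIn A a b Y) :
    DRing.HasInjAmplitudeIn A (a - i) (b - i) (Y⟦i⟧) := by
  obtain ⟨E, h1, h2, ⟨e'⟩⟩ := h
  refine ⟨E⟦i⟧, ?_, ?_, ⟨(Q.commShiftIso i).app E ≪≫
    (CategoryTheory.shiftFunctor (DerivedCategory (ModuleCat.{u} A)) i).mapIso e'⟩⟩
  · intro j hj
    show IsZero (E.X (j + i))
    refine h1 (j + i) ?_
    rcases hj with hj | hj
    · exact Or.inl (by omega)
    · exact Or.inr (by omega)
  · intro j
    exact h2 (j + i)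

lemma isGE_of_injAmp (Y : Dual.D A) (a b : ℤ) (h : DRing.HasInjAmplitudeIn A a b Y) :
    Y.IsGE a := by
  obtain ⟨E, hz, _, ⟨e⟩⟩ := h
  haveI : E.IsStrictlyGE a := by
    rw [CochainComplex.isStrictlyGE_iff]
    intro j hj
    exact hz j (Or.inl hj)
  exact DerivedCategory.TStructure.t.isGE_of_iso e a

lemma isLE_of_injAmp (Y : Dual.D A) (a b : ℤ) (h : DRing.HasInjAmplitudeIn A a b Y) :
    Y.IsLE b := by
  obtain ⟨E, hz, _, ⟨e⟩⟩ := h
  haveI : E.IsStrictlyLE b := by
    rw [CochainComplex.isStrictlyLE_iff]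
    intro j hj
    exact hz j (Or.inr hj)
  exact DerivedCategory.TStructure.t.isLE_of_iso e b

/-- no maps from `D^{> b}` to an object of injective amplitude `[a, b]`. -/
lemma hom_eq_zero_of_isGE_of_injAmp (X Y : Dual.D A) (a b n : ℤ)
    (hY : DRing.HasInjAmplitudeIn A a b Y) [X.IsGE n] (hn : b < n) (f : X ⟶ Y) : f = 0 := by
  obtain ⟨E, hz, hinj, ⟨e⟩⟩ := hY
  obtain ⟨X', hX', ⟨eX⟩⟩ := DerivedCategory.exists_iso_Q_obj_of_isGE X n
  haveI : ∀ k, Injective (E.X k) := fun k =>
    (Module.injective_iff_injective_object A (E.X k)).1 (hinj k)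
  haveI : E.IsStrictlyGE a := by
    rw [CochainComplex.isStrictlyGE_iff]
    intro j hj
    exact hz j (Or.inl hj)
  haveI : E.IsKInjective := CochainComplex.isKInjective_of_injective E a
  have key : ∀ g : Q.obj X' ⟶ Q.obj E, g = 0 := by
    intro g
    obtain ⟨h, hh⟩ := (CochainComplex.IsKInjective.Qh_map_bijective
      ((HomotopyCategory.quotient _ _).obj X') E).2 g
    obtain ⟨φ, rfl⟩ := (HomotopyCategory.quotient _ _).map_surjective h
    have hφ : φ = 0 := by
      refine HomologicalComplex.hom_ext _ _ (fun k => ?_)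
      by_cases hk : k < n
      · exact (X'.isZero_of_isStrictlyGE n k hk).eq_of_src _ _
      · exact (hz k (Or.inr (by omega))).eq_of_tgt _ _
    rw [← hh, hφ, Functor.map_zero, Functor.map_zero]
    rfl
  have h1 := key (eX.inv ≫ f ≫ e.inv)
  have h2 : f = eX.hom ≫ (eX.inv ≫ f ≫ e.inv) ≫ e.hom := by simp
  rw [h2, h1, zero_comp, comp_zero]

lemma finite_of_isZero {M : ModuleCat.{u} A} (h : IsZero M) : Module.Finite A M := by
  haveI : Subsingleton M := ModuleCat.subsingleton_of_isZero h
  infer_instance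

lemma finite_of_isIso {M N : ModuleCat.{u} A} (f : M ⟶ N) [IsIso f] (h : Module.Finite A M) :
    Module.Finite A N :=
  Module.Finite.equiv (asIso f).toLinearEquiv

lemma finite_of_isIso' {M N : ModuleCat.{u} A} (f : M ⟶ N) [IsIso f] (h : Module.Finite A N) :
    Module.Finite A M :=
  Module.Finite.equiv (asIso f).toLinearEquiv.symm

variable [IsNoetherianRing A]

theorem finite_hom (K L : Dual.D A)
    (hK : ∀ j : ℤ, Module.Finite A ((homologyFunctor (ModuleCat.{u} A) j).obj K))
    (hL : ∀ j : ℤ, Module.Finite A ((homologyFunctor (ModuleCat.{u} A) j).obj L))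
    (a b : ℤ) (hLi : DRing.HasInjAmplitudeIn A a b L) (i : ℤ) :
    Module.Finite A (K ⟶ L⟦i⟧) := by
  let t := DerivedCategory.TStructure.t (C := ModuleCat.{u} A)
  have hY := injAmp_shift L a b i hLi
  haveI hYGE : (L⟦i⟧).IsGE (a - i) := isGE_of_injAmp _ _ _ hY
  -- first truncation
  obtain ⟨n, hn⟩ : ∃ n : ℤ, n = b - i + 1 := ⟨_, rfl⟩
  obtain ⟨m, hm⟩ : ∃ m : ℤ, m = a - i := ⟨_, rfl⟩
  let T₁ := (t.triangleLTGE n).obj K
  have hT₁ : T₁ ∈ distTriang _ := t.triangleLTGE_distinguished n K
  let K' := (t.truncLT n).obj K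
  let T₂ := (t.triangleLTGE m).obj K'
  have hT₂ : T₂ ∈ distTriang _ := t.triangleLTGE_distinguished m K'
  let K'' := (t.truncGE m).obj K'
  -- the bounded piece
  have hK''fin : Module.Finite A (K'' ⟶ L⟦i⟧) := by
    have hK'fin : ∀ j : ℤ, Module.Finite A ((homologyFunctor (ModuleCat.{u} A) j).obj K') := by
      intro j
      by_cases hj : j < n
      · haveI := SplitTrunc.isIso_homologyMap_truncLTι K n j hj
        exact finite_of_isIso' ((homologyFunctor (ModuleCat.{u} A) j).map ((t.truncLTι n).app K))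
          (hK j)
      · haveI : K'.IsLE (n - 1) := by dsimp [K']; infer_instance
        exact finite_of_isZero (DerivedCategory.isZero_of_isLE K' (n - 1) j (by omega))
    have hBC'' : BC (n - m).toNat (n - 1) K'' := by
      refine ⟨fun j hj => ?_, fun j hj => ?_, fun j => ?_⟩
      · -- j ≥ n
        by_cases hjm : m ≤ j
        · haveI := SplitTrunc.isIso_homologyMap_truncGEπ K' m j hjm
          haveI : K'.IsLE (n - 1) := by dsimp [K']; infer_instance
          exact (DerivedCategory.isZero_of_isLE K' (n - 1) j (by omega)).of_iso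
            (asIso ((homologyFunctor (ModuleCat.{u} A) j).map ((t.truncGEπ m).app K'))).symm
        · haveI : K''.IsGE m := by dsimp [K'']; infer_instance
          exact DerivedCategory.isZero_of_isGE K'' m j (by omega)
      · haveI : K''.IsGE m := by dsimp [K'']; infer_instance
        exact DerivedCategory.isZero_of_isGE K'' m j (by omega)
      · by_cases hjm : m ≤ j
        · haveI := SplitTrunc.isIso_homologyMap_truncGEπ K' m j hjm
          exact finite_of_isIso ((homologyFunctor (ModuleCat.{u} A) j).map ((t.truncGEπ m).app K'))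
            (hK'fin j)
        · haveI : K''.IsGE m := by dsimp [K'']; infer_instance
          exact finite_of_isZero (DerivedCategory.isZero_of_isGE K'' m j (by omega))
    haveI hLGE : L.IsGE a := isGE_of_injAmp _ _ _ hLi
    haveI hLLE : L.IsLE b := isLE_of_injAmp _ _ _ hLi
    have hBCL : BC (b - a + 1).toNat b L := by
      refine ⟨fun j hj => DerivedCategory.isZero_of_isLE L b j hj,
        fun j hj => DerivedCategory.isZero_of_isGE L a j (by omega), hL⟩
    exact FH_of_BC hBC'' hBCL i
  -- second truncation: `Hom(K'', Y) → Hom(K', Y)` is surjective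
  have hK'fin : Module.Finite A (K' ⟶ L⟦i⟧) := by
    haveI := hK''fin
    refine Module.Finite.of_surjective (Linear.leftComp A (L⟦i⟧) ((t.truncGEπ m).app K'))
      (fun f => ?_)
    haveI : ((t.truncLT m).obj K').IsLE (m - 1) := inferInstance
    have hz : T₂.mor₁ ≫ f = 0 :=
      t.zero _ (m - 1) (a - i) (by omega)
    obtain ⟨g, hg⟩ := Triangle.yoneda_exact₂ T₂ hT₂ f hz
    exact ⟨g, hg.symm⟩
  -- first truncation: `Hom(K, Y) → Hom(K', Y)` is injective
  haveI := hK'fin
  refine Module.Finite.of_injective (Linear.leftComp A (L⟦i⟧) ((t.truncLTι n).app K)) ?_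
  rw [← LinearMap.ker_eq_bot, LinearMap.ker_eq_bot']
  intro f hf
  have hz : T₁.mor₁ ≫ f = 0 := hf
  obtain ⟨g, hg⟩ := Triangle.yoneda_exact₂ T₁ hT₁ f hz
  haveI : T₁.obj₃.IsGE n := by dsimp [T₁]; infer_instance
  have hg0 : g = 0 := hom_eq_zero_of_isGE_of_injAmp T₁.obj₃ (L⟦i⟧) (a - i) (b - i) n hY (by omega) g
  rw [hg, hg0, comp_zero]
  rfl

end Groth.Agent.Lib.helper23.FinHom
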