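import Mathlib
import Groth.Prelude.Def_DRing2
import Groth.Agent.Lib.Helper23.FinHom3

/-!
# Finiteness of `Hom_{D(A)}(N[0], K[i])` for `N` finite and `K` bounded below with finite
cohomology (helper23)
-/

set_option autoImplicit false
universe u
open CategoryTheory CategoryTheory.Limits DerivedCategory Pretriangulated

attribute [local instance] HasDerivedCategory.standard

namespace Groth.Agent.Lib.helper23.FinHom

variable {A : Type u} [CommRing A] [IsNoetherianRing A]

theorem finite_hom_single_of_bddBelow (N : ModuleCat.{u} A) [Module.Finite A N] (K : Dual.D A)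
    (a : ℤ) (hKa : ∀ j : ℤ, j < a → IsZero ((homologyFunctor (ModuleCat.{u} A) j).obj K))
    (hK : ∀ j : ℤ, Module.Finite A ((homologyFunctor (ModuleCat.{u} A) j).obj K)) (i : ℤ) :
    Module.Finite A ((singleFunctor (ModuleCat.{u} A) 0).obj N ⟶ K⟦i⟧) := by
  let t := DerivedCategory.TStructure.t (C := ModuleCat.{u} A)
  obtain ⟨n, hn⟩ : ∃ n : ℤ, n = i + 1 := ⟨_, rfl⟩
  let T := (t.triangleLTGE n).obj K
  have hT : T ∈ distTriang _ := t.triangleLTGE_distinguished n K
  let K' := (t.truncLT n).obj K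
  haveI hK'LE : K'.IsLE (n - 1) := by dsimp [K']; infer_instance
  have hiso : ∀ j : ℤ, j < n → IsIso ((homologyFunctor (ModuleCat.{u} A) j).map
      ((t.truncLTι n).app K)) := fun j hj => SplitTrunc.isIso_homologyMap_truncLTι K n j hj
  have hBC : BC (n - a).toNat (n - 1) K' := by
    refine ⟨fun j hj => ?_, fun j hj => ?_, fun j => ?_⟩
    · exact DerivedCategory.isZero_of_isLE K' (n - 1) j (by omega)
    · have hjn : j < n := by omega
      have hja : j < a := by omega
      haveI := hiso j hjn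
      exact (hKa j hja).of_iso
        (asIso ((homologyFunctor (ModuleCat.{u} A) j).map ((t.truncLTι n).app K)))
    · by_cases hj : j < n
      · haveI := hiso j hj
        exact finite_of_isIso' ((homologyFunctor (ModuleCat.{u} A) j).map ((t.truncLTι n).app K))
          (hK j)
      · exact finite_of_isZero (DerivedCategory.isZero_of_isLE K' (n - 1) j (by omega))
  haveI hfin : Module.Finite A ((singleFunctor (ModuleCat.{u} A) 0).obj N ⟶ T.obj₁⟦i⟧) :=
    FH_single_of_BC N hBC i
  refine Module.Finite.of_surjective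
    (Linear.rightComp A ((singleFunctor (ModuleCat.{u} A) 0).obj N) (T.mor₁⟦i⟧')) ?_
  intro (f : (singleFunctor (ModuleCat.{u} A) 0).obj N ⟶ T.obj₂⟦i⟧)
  haveI : (T.obj₃).IsGE n := by dsimp [T]; infer_instance
  haveI : ((T.obj₃)⟦i⟧).IsGE 1 := t.isGE_shift T.obj₃ n i 1 (by omega)
  have hz : f ≫ T.mor₂⟦i⟧' = 0 := t.zero (f ≫ T.mor₂⟦i⟧') 0 1 (by omega)
  have hT' := Triangle.shift_distinguished T hT i
  have hf' : f ≫ ((CategoryTheory.shiftFunctor (Triangle (Dual.D A)) i).obj T).mor₂ = 0 := by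
    show f ≫ (i.negOnePow • T.mor₂⟦i⟧') = 0
    rw [Linear.comp_units_smul, hz, smul_zero]
  obtain ⟨g, hg⟩ : ∃ g : (singleFunctor (ModuleCat.{u} A) 0).obj N ⟶ T.obj₁⟦i⟧,
      f = g ≫ (i.negOnePow • T.mor₁⟦i⟧') :=
    Triangle.coyoneda_exact₂ _ hT' f hf'
  refine ⟨i.negOnePow • g, ?_⟩
  show (i.negOnePow • g) ≫ T.mor₁⟦i⟧' = f
  rw [hg, Linear.comp_units_smul, Linear.units_smul_comp]

end Groth.Agent.Lib.helper23.FinHom
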