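import Mathlib
import Groth.Prelude.Def_Wider
import Groth.Prelude.Def_DDual2
import Groth.Agent.Lib.Helper23.RAdj4
import Groth.Agent.Lib.Helper23.DualD1

/-!
# The Bass criterion for the injective amplitude (helper23)

`A` Noetherian, `K ∈ D^+_coh(A)`, `n : ℤ`.  If `Hom((A/m)[0], K[i]) = 0` for all maximal ideals
`m` and all `i > n`, then `Hom(M[0], K[i]) = 0` for all finite modules `M` and all `i > n`.
-/

set_option autoImplicit false
universe u
open CategoryTheory CategoryTheory.Limits DerivedCategory Pretriangulated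

attribute [local instance] HasDerivedCategory.standard

namespace Groth.Agent.Lib.helper23.BassD

variable {A : Type u} [CommRing A]

/-- `M[0]`. -/
noncomputable abbrev sg (M : ModuleCat.{u} A) : Dual.D A :=
  (singleFunctor (ModuleCat.{u} A) 0).obj M

variable (K : Dual.D A) (n : ℤ)

/-- `Hom(M[0], K[i]) = 0` for `i > n`. -/
def PB (M : ModuleCat.{u} A) : Prop := ∀ i : ℤ, n < i → ∀ φ : sg M ⟶ K⟦i⟧, φ = 0

variable {K n}

lemma PB.of_iso {M M' : ModuleCat.{u} A} (e : M ≅ M') (h : PB K n M) : PB K n M' := by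
  intro i hi φ
  have h1 := h i hi ((singleFunctor (ModuleCat.{u} A) 0).map e.hom ≫ φ)
  have h2 : φ = (singleFunctor (ModuleCat.{u} A) 0).map e.inv ≫
      (singleFunctor (ModuleCat.{u} A) 0).map e.hom ≫ φ := by
    rw [← Category.assoc, ← Functor.map_comp, e.inv_hom_id, CategoryTheory.Functor.map_id,
      Category.id_comp]
  rw [h2, h1, comp_zero]

lemma PB.of_isZero {M : ModuleCat.{u} A} (hM : IsZero M) : PB K n M := by
  intro i _ φ
  exact ((singleFunctor (ModuleCat.{u} A) 0).map_isZero hM).eq_of_src _ _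

lemma PB.ext (S : ShortComplex (ModuleCat.{u} A)) (hS : S.ShortExact) (h₁ : PB K n S.X₁)
    (h₃ : PB K n S.X₃) : PB K n S.X₂ := by
  intro i hi φ
  have hT := hS.singleTriangle_distinguished
  have h1 : (singleFunctor (ModuleCat.{u} A) 0).map S.f ≫ φ = 0 := h₁ i hi _
  obtain ⟨g, hg⟩ : ∃ g : sg S.X₃ ⟶ K⟦i⟧, φ = (singleFunctor (ModuleCat.{u} A) 0).map S.g ≫ g :=
    Triangle.yoneda_exact₂ _ hT φ h1
  rw [hg, h₃ i hi g, comp_zero]

/-- if `PB` holds for the cokernel of an injective endomorphism `f = x • 𝟙` of `M`, then `x` acts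
surjectively on `Hom(M[0], K[i])`, `i > n`. -/
lemma exists_smul_eq (S : ShortComplex (ModuleCat.{u} A)) (hS : S.ShortExact) (x : A)
    (e : S.X₁ ≅ S.X₂) (hf : S.f = x • e.hom) (h₃ : PB K n S.X₃) (i : ℤ) (hi : n < i)
    (φ : sg S.X₂ ⟶ K⟦i⟧) : ∃ ψ : sg S.X₂ ⟶ K⟦i⟧, φ = x • ψ := by
  have hT := hS.singleTriangle_distinguished
  let E : sg S.X₁ ≅ sg S.X₂ := (singleFunctor (ModuleCat.{u} A) 0).mapIso e
  let δ : sg S.X₃ ⟶ (sg S.X₁)⟦(1 : ℤ)⟧ := hS.singleδ
  let f₁ : sg S.X₁ ⟶ sg S.X₂ := (singleFunctor (ModuleCat.{u} A) 0).map S.f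
  have h0 : δ ≫ (E.hom ≫ φ)⟦(1 : ℤ)⟧' = 0 := by
    let ι : K⟦i + 1⟧ ≅ (K⟦i⟧)⟦(1 : ℤ)⟧ := (shiftFunctorAdd' (Dual.D A) i 1 (i + 1) rfl).app K
    have h1 : (δ ≫ (E.hom ≫ φ)⟦(1 : ℤ)⟧') ≫ ι.inv = 0 := h₃ (i + 1) (by omega) _
    have h2 : δ ≫ (E.hom ≫ φ)⟦(1 : ℤ)⟧' = ((δ ≫ (E.hom ≫ φ)⟦(1 : ℤ)⟧') ≫ ι.inv) ≫ ι.hom := by
      rw [Category.assoc, Iso.inv_hom_id, Category.comp_id]
    rw [h2, h1, zero_comp]
  obtain ⟨χ, hχ⟩ : ∃ χ : sg S.X₂ ⟶ K⟦i⟧, E.hom ≫ φ = f₁ ≫ χ :=
    DualD.yoneda_exact₁ _ hT (E.hom ≫ φ) h0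
  refine ⟨χ, ?_⟩
  have h3 : f₁ = x • E.hom := by
    show (singleFunctor (ModuleCat.{u} A) 0).map S.f = _
    rw [hf, Functor.map_smul]
    rfl
  rw [h3, Linear.smul_comp] at hχ
  have h4 : φ = E.inv ≫ E.hom ≫ φ := by rw [Iso.inv_hom_id_assoc]
  rw [h4, hχ, Linear.comp_smul, Iso.inv_hom_id_assoc]

section Cok

/-- Nakayama: if `x` acts surjectively on the finite module `H` then some `r ≡ 1 mod x` kills
`H`. -/
lemma exists_kill {H : Type*} [AddCommGroup H] [Module A H] [Module.Finite A H] (x : A)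
    (hx : ∀ h : H, ∃ h', h = x • h') :
    ∃ r : A, r - 1 ∈ Ideal.span {x} ∧ ∀ h : H, r • h = 0 := by
  obtain ⟨r, hr1, hr2⟩ := Submodule.exists_sub_one_mem_and_smul_eq_zero_of_fg_of_le_smul
    (Ideal.span {x}) (⊤ : Submodule A H) Module.Finite.fg_top (fun h _ => by
      obtain ⟨h', rfl⟩ := hx h
      exact Submodule.smul_mem_smul (Ideal.subset_span rfl) trivial)
  exact ⟨r, hr1, fun h => hr2 h trivial⟩

/-- the short exact sequence `0 → A/p →x A/p → (A/p)/x → 0`. -/
noncomputable def cokSC (p : Ideal A) (x : A) : ShortComplex (ModuleCat.{u} A) :=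
  ShortComplex.mk (ModuleCat.ofHom (LinearMap.lsmul A (A ⧸ p) x))
    (ModuleCat.ofHom (LinearMap.range (LinearMap.lsmul A (A ⧸ p) x)).mkQ) (by
      rw [← ModuleCat.ofHom_comp, LinearMap.range_mkQ_comp]
      rfl)

lemma cokSC_shortExact (p : Ideal A) [p.IsPrime] (x : A) (hx : x ∉ p) :
    (cokSC p x).ShortExact where
  exact := (ShortComplex.ShortExact.moduleCat_exact_iff_function_exact _).2
    (LinearMap.exact_map_mkQ_range _)
  mono_f := by
    refine (ModuleCat.mono_iff_injective _).2 ?_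
    have hinj : Function.Injective (LinearMap.lsmul A (A ⧸ p) x) := by
      refine (injective_iff_map_eq_zero _).2 (fun y hy => ?_)
      obtain ⟨y, rfl⟩ := Ideal.Quotient.mk_surjective y
      have h1 : Ideal.Quotient.mk p (x * y) = 0 := hy
      rw [Ideal.Quotient.eq_zero_iff_mem] at h1 ⊢
      exact (Ideal.IsPrime.mem_or_mem inferInstance h1).resolve_left hx
    exact hinj
  epi_g := (ModuleCat.epi_iff_surjective _).2 (Submodule.mkQ_surjective _)

lemma cokSC_ann (p : Ideal A) (x : A) (y : A) (hy : y ∈ p ⊔ Ideal.span {x})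
    (m : (A ⧸ p) ⧸ LinearMap.range (LinearMap.lsmul A (A ⧸ p) x)) : y • m = 0 := by
  obtain ⟨y₁, hy₁, y₂, hy₂, rfl⟩ := Submodule.mem_sup.1 hy
  obtain ⟨c, rfl⟩ := Ideal.mem_span_singleton'.1 hy₂
  obtain ⟨m', rfl⟩ := Submodule.mkQ_surjective _ m
  obtain ⟨a', rfl⟩ := Ideal.Quotient.mk_surjective m'
  rw [← map_smul, Submodule.mkQ_apply, Submodule.Quotient.mk_eq_zero]
  refine ⟨c • Ideal.Quotient.mk p a', ?_⟩
  have h1 : Ideal.Quotient.mk p (y₁ * a') = 0 :=
    Ideal.Quotient.eq_zero_iff_mem.2 (Ideal.mul_mem_right _ _ hy₁)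
  show x • c • Ideal.Quotient.mk p a' = (y₁ + c * x) • Ideal.Quotient.mk p a'
  rw [add_smul, mul_smul, smul_comm x c]
  have h2 : y₁ • Ideal.Quotient.mk p a' = Ideal.Quotient.mk p (y₁ * a') := rfl
  rw [h2, h1, zero_add]

end Cok

section Main

variable [IsNoetherianRing A] (a : ℤ)
  (hKa : ∀ j : ℤ, j < a → IsZero ((homologyFunctor (ModuleCat.{u} A) j).obj K))
  (hfin : ∀ j : ℤ, Module.Finite A ((homologyFunctor (ModuleCat.{u} A) j).obj K))

include hKa hfin in
/-- **Bass criterion**: vanishing of `Ext^i(-, K)`, `i > n`, on finite modules can be tested on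
the residue fields of the maximal ideals. -/
theorem PB_of_maximal
    (hmax : ∀ m : Ideal A, m.IsMaximal → PB K n (ModuleCat.of A (A ⧸ m))) :
    ∀ (J : Ideal A) (M : Type u) [AddCommGroup M] [Module A M] [Module.Finite A M],
      (∀ y ∈ J, ∀ m : M, y • m = 0) → PB K n (ModuleCat.of A M) := by
  intro J
  refine IsNoetherian.induction (P := fun J : Ideal A => ∀ (M : Type u) [AddCommGroup M]
    [Module A M] [Module.Finite A M], (∀ y ∈ J, ∀ m : M, y • m = 0) →
      PB K n (ModuleCat.of A M)) (fun J IH => ?_) J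
  intro M _ _ hMfin hJ
  refine IsNoetherianRing.induction_on_isQuotientEquivQuotientPrime A hMfin
    (motive := fun N _ _ _ => (∀ y ∈ J, ∀ m : N, y • m = 0) → PB K n (ModuleCat.of A N))
    ?_ ?_ ?_ hJ
  · intro N _ _ _ _ _
    exact PB.of_isZero (ModuleCat.isZero_of_subsingleton _)
  · intro N _ _ _ p e hN
    have hJp : J ≤ p.asIdeal := by
      intro y hy
      have h1 := hN y hy (e.symm 1)
      have h2 : y • (1 : A ⧸ p.asIdeal) = 0 := by
        have := congrArg e h1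
        rwa [map_smul, LinearEquiv.apply_symm_apply, map_zero] at this
      have h3 : Ideal.Quotient.mk p.asIdeal y = 0 := by
        rw [← h2]
        show Ideal.Quotient.mk p.asIdeal y = Ideal.Quotient.mk p.asIdeal (y * 1)
        rw [mul_one]
      exact Ideal.Quotient.eq_zero_iff_mem.1 h3
    have hann : ∀ y ∈ p.asIdeal, ∀ m : A ⧸ p.asIdeal, y • m = 0 := by
      intro y hy m
      obtain ⟨a', rfl⟩ := Ideal.Quotient.mk_surjective m
      exact Ideal.Quotient.eq_zero_iff_mem.2 (Ideal.mul_mem_right _ _ hy)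
    refine PB.of_iso (e.symm.toModuleIso) ?_
    rcases hJp.lt_or_eq with hlt | heq
    · exact IH p.asIdeal hlt (A ⧸ p.asIdeal) hann
    · subst heq
      haveI := p.2
      by_cases hpm : p.asIdeal.IsMaximal
      · exact hmax p.asIdeal hpm
      · obtain ⟨m, hm, hpm'⟩ := Ideal.exists_le_maximal p.asIdeal p.2.ne_top
        have hlt : p.asIdeal < m := lt_of_le_of_ne hpm' (fun h => hpm (h ▸ hm))
        obtain ⟨x, hxm, hxp⟩ := SetLike.exists_of_lt hlt
        have surj : ∀ y : A, y ∉ p.asIdeal → ∀ i : ℤ, n < i →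
            ∀ φ : sg (ModuleCat.of A (A ⧸ p.asIdeal)) ⟶ K⟦i⟧,
              ∃ ψ : sg (ModuleCat.of A (A ⧸ p.asIdeal)) ⟶ K⟦i⟧, φ = y • ψ := by
          intro y hy i hi φ
          have hlt' : p.asIdeal < p.asIdeal ⊔ Ideal.span {y} := by
            refine lt_of_le_of_ne le_sup_left (fun h => hy ?_)
            rw [h]
            exact Ideal.mem_sup_right (Ideal.subset_span rfl)
          have hcok : PB K n (cokSC p.asIdeal y).X₃ :=
            IH _ hlt' ((A ⧸ p.asIdeal) ⧸ LinearMap.range (LinearMap.lsmul A (A ⧸ p.asIdeal) y))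
              (cokSC_ann p.asIdeal y)
          exact exists_smul_eq (cokSC p.asIdeal y) (cokSC_shortExact p.asIdeal y hy) y
            (Iso.refl _) rfl hcok i hi φ
        intro i hi φ
        haveI : Module.Finite A (A ⧸ p.asIdeal) := inferInstance
        haveI : Module.Finite A (sg (ModuleCat.of A (A ⧸ p.asIdeal)) ⟶ K⟦i⟧) :=
          FinHom.finite_hom_single_of_bddBelow (ModuleCat.of A (A ⧸ p.asIdeal)) K a hKa hfin i
        obtain ⟨r, hr1, hr2⟩ := exists_kill x (surj x hxp i hi)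
        have hr : r ∉ p.asIdeal := by
          intro hrp
          have h1 : r - 1 ∈ m := (Ideal.span_singleton_le_iff_mem m).2 hxm hr1
          have h2 : (1 : A) ∈ m := by
            have : (1 : A) = r - (r - 1) := by ring
            rw [this]
            exact m.sub_mem (hpm' hrp) h1
          exact hm.ne_top ((Ideal.eq_top_iff_one m).2 h2)
        obtain ⟨ψ, rfl⟩ := surj r hr i hi φ
        exact hr2 ψ
  · intro N₁ _ _ _ N₂ _ _ _ N₃ _ _ _ f g hf hg hfg h1 h3 hN2
    have hN1 : ∀ y ∈ J, ∀ m : N₁, y • m = 0 := fun y hy m => hf (by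
      rw [map_smul, hN2 y hy, map_zero])
    have hN3 : ∀ y ∈ J, ∀ m : N₃, y • m = 0 := fun y hy m => by
      obtain ⟨m', rfl⟩ := hg m
      rw [← map_smul, hN2 y hy, map_zero]
    let S : ShortComplex (ModuleCat.{u} A) :=
      ShortComplex.mk (ModuleCat.ofHom f) (ModuleCat.ofHom g) (by
        ext x
        exact hfg.apply_apply_eq_zero x)
    have hS : S.ShortExact :=
      { exact := (ShortComplex.ShortExact.moduleCat_exact_iff_function_exact S).2 hfg
        mono_f := (ModuleCat.mono_iff_injective _).2 hf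
        epi_g := (ModuleCat.epi_iff_surjective _).2 hg }
    exact PB.ext S hS (h1 hN1) (h3 hN3)

include hKa hfin in
theorem PB_of_maximal' (hmax : ∀ m : Ideal A, m.IsMaximal → PB K n (ModuleCat.of A (A ⧸ m)))
    (M : ModuleCat.{u} A) [Module.Finite A M] : PB K n M :=
  PB_of_maximal a hKa hfin hmax ⊥ M (fun y hy m => by
    rw [(Submodule.mem_bot A).1 hy, zero_smul])

end Main

end Groth.Agent.Lib.helper23.BassD
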