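import Mathlib
import Groth.Prelude.Def_Wider
import Groth.Prelude.Def_DDual2
import Groth.Agent.Lib.Helper23.BassD

/-!
# The Bass induction, generalized (helper23)

To prove `Hom(M[0], K[i]) = 0` for all finite `M` and `i > n`, it suffices to prove it for `R/q`,
`q` prime, knowing that every `y ∉ q` acts surjectively on `Hom((R/q)[0], K[i])`, `i > n`.
-/

set_option autoImplicit false
universe u
open CategoryTheory CategoryTheory.Limits DerivedCategory Pretriangulated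

attribute [local instance] HasDerivedCategory.standard

namespace Groth.Agent.Lib.helper23.BassD

variable {A : Type u} [CommRing A] {K : Dual.D A} {n : ℤ}

/-- every `y ∉ q` acts surjectively on `Hom((A/q)[0], K[i])`, `i > n`. -/
def Surj (K : Dual.D A) (n : ℤ) (q : Ideal A) : Prop :=
  ∀ y : A, y ∉ q → ∀ i : ℤ, n < i → ∀ φ : sg (ModuleCat.of A (A ⧸ q)) ⟶ K⟦i⟧,
    ∃ ψ : sg (ModuleCat.of A (A ⧸ q)) ⟶ K⟦i⟧, φ = y • ψ

/-- `PB` for the third term of a short exact sequence, with a shift of the bound. -/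
lemma PB.succ (S : ShortComplex (ModuleCat.{u} A)) (hS : S.ShortExact) (h₁ : PB K n S.X₁)
    (h₂ : PB K n S.X₂) : PB K (n + 1) S.X₃ := by
  intro i hi φ
  have hT := hS.singleTriangle_distinguished
  have h1 : (singleFunctor (ModuleCat.{u} A) 0).map S.g ≫ φ = 0 := h₂ i (by omega) _
  obtain ⟨θ, hθ⟩ : ∃ θ : (sg S.X₁)⟦(1 : ℤ)⟧ ⟶ K⟦i⟧, φ = hS.singleδ ≫ θ :=
    Triangle.yoneda_exact₃ _ hT φ h1
  -- `θ` corresponds to a map `X₁[0] → K[i - 1]`
  let ι : K⟦i⟧ ≅ (K⟦i - 1⟧)⟦(1 : ℤ)⟧ :=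
    (shiftFunctorAdd' (Dual.D A) (i - 1) 1 i (by omega)).app K
  obtain ⟨θ', hθ'⟩ := (shiftFunctor (Dual.D A) (1 : ℤ)).map_surjective (θ ≫ ι.hom)
  have h2 : θ' = 0 := h₁ (i - 1) (by omega) θ'
  have h3 : θ = (θ ≫ ι.hom) ≫ ι.inv := by rw [Category.assoc, Iso.hom_inv_id, Category.comp_id]
  rw [hθ, h3, ← hθ', h2, Functor.map_zero, zero_comp, comp_zero]

/-- if `c` kills the kernel `X₁` of `X₂ ↠ X₃`, `PB` holds for `X₂` and `c` acts surjectively on
`Hom(X₃[0], K[i])`, then this group vanishes. -/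
lemma eq_zero_of_kill (S : ShortComplex (ModuleCat.{u} A)) (hS : S.ShortExact) (c : A)
    (hc : c • 𝟙 S.X₁ = 0) (h₂ : PB K n S.X₂) (i : ℤ) (hi : n < i)
    (hsurj : ∀ φ : sg S.X₃ ⟶ K⟦i⟧, ∃ ψ : sg S.X₃ ⟶ K⟦i⟧, φ = c • ψ)
    (φ : sg S.X₃ ⟶ K⟦i⟧) : φ = 0 := by
  obtain ⟨ψ, rfl⟩ := hsurj φ
  have hT := hS.singleTriangle_distinguished
  have h1 : (singleFunctor (ModuleCat.{u} A) 0).map S.g ≫ ψ = 0 := h₂ i hi _
  obtain ⟨θ, hθ⟩ : ∃ θ : (sg S.X₁)⟦(1 : ℤ)⟧ ⟶ K⟦i⟧, ψ = hS.singleδ ≫ θ :=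
    Triangle.yoneda_exact₃ _ hT ψ h1
  have h2 : c • 𝟙 ((sg S.X₁)⟦(1 : ℤ)⟧) = 0 := by
    have h3 : c • 𝟙 (sg S.X₁) = 0 := by
      rw [← CategoryTheory.Functor.map_id, ← Functor.map_smul, hc, Functor.map_zero]
    rw [← CategoryTheory.Functor.map_id, ← Functor.map_smul, h3, Functor.map_zero]
  have h4 : c • θ = 0 := by
    have : c • θ = (c • 𝟙 _) ≫ θ := by rw [Linear.smul_comp, Category.id_comp]
    rw [this, h2, zero_comp]
  rw [hθ, ← Linear.comp_smul, h4, comp_zero]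

section Main

variable [IsNoetherianRing A]

/-- **generalized Bass induction**. -/
theorem PB_of_prime_step
    (hstep : ∀ q : Ideal A, q.IsPrime → Surj K n q → PB K n (ModuleCat.of A (A ⧸ q))) :
    ∀ (J : Ideal A) (M : Type u) [AddCommGroup M] [Module A M] [Module.Finite A M],
      (∀ y ∈ J, ∀ m : M, y • m = 0) → PB K n (ModuleCat.of A M) := by
  intro J
  refine IsNoetherian.induction (P := fun J : Ideal A => ∀ (M : Type u) [AddCommGroup M]
    [Module A M] [Module.Finite A M], (∀ y ∈ J, ∀ m : M, y • m = 0) →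
      PB K n (ModuleCat.of A M)) (fun J IH => ?_) J
  intro M _ _ hMfin hJ
  refine IsNoetherianRing.induction_on_isQuotientEquivQuotientPrime A hMfin
    (motive := fun N _ _ _ => (∀ y ∈ J, ∀ m : N, y • m = 0) → PB K n (ModuleCat.of A N))
    ?_ ?_ ?_ hJ
  · intro N _ _ _ _ _
    exact PB.of_isZero (ModuleCat.isZero_of_subsingleton _)
  · intro N _ _ _ p e hN
    have hJp : J ≤ p.asIdeal := by
      intro y hy
      have h1 := hN y hy (e.symm 1)
      have h2 : y • (1 : A ⧸ p.asIdeal) = 0 := by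
        have := congrArg e h1
        rwa [map_smul, LinearEquiv.apply_symm_apply, map_zero] at this
      have h3 : Ideal.Quotient.mk p.asIdeal y = 0 := by
        rw [← h2]
        show Ideal.Quotient.mk p.asIdeal y = Ideal.Quotient.mk p.asIdeal (y * 1)
        rw [mul_one]
      exact Ideal.Quotient.eq_zero_iff_mem.1 h3
    have hann : ∀ y ∈ p.asIdeal, ∀ m : A ⧸ p.asIdeal, y • m = 0 := by
      intro y hy m
      obtain ⟨a', rfl⟩ := Ideal.Quotient.mk_surjective m
      exact Ideal.Quotient.eq_zero_iff_mem.2 (Ideal.mul_mem_right _ _ hy)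
    refine PB.of_iso (e.symm.toModuleIso) ?_
    rcases hJp.lt_or_eq with hlt | heq
    · exact IH p.asIdeal hlt (A ⧸ p.asIdeal) hann
    · subst heq
      haveI := p.2
      refine hstep p.asIdeal p.2 ?_
      intro y hy i hi φ
      have hlt' : p.asIdeal < p.asIdeal ⊔ Ideal.span {y} := by
        refine lt_of_le_of_ne le_sup_left (fun h => hy ?_)
        rw [h]
        exact Ideal.mem_sup_right (Ideal.subset_span rfl)
      have hcok : PB K n (cokSC p.asIdeal y).X₃ :=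
        IH _ hlt' ((A ⧸ p.asIdeal) ⧸ LinearMap.range (LinearMap.lsmul A (A ⧸ p.asIdeal) y))
          (cokSC_ann p.asIdeal y)
      exact exists_smul_eq (cokSC p.asIdeal y) (cokSC_shortExact p.asIdeal y hy) y
        (Iso.refl _) rfl hcok i hi φ
  · intro N₁ _ _ _ N₂ _ _ _ N₃ _ _ _ f g hf hg hfg h1 h3 hN2
    have hN1 : ∀ y ∈ J, ∀ m : N₁, y • m = 0 := fun y hy m => hf (by
      rw [map_smul, hN2 y hy, map_zero])
    have hN3 : ∀ y ∈ J, ∀ m : N₃, y • m = 0 := fun y hy m => by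
      obtain ⟨m', rfl⟩ := hg m
      rw [← map_smul, hN2 y hy, map_zero]
    let S : ShortComplex (ModuleCat.{u} A) :=
      ShortComplex.mk (ModuleCat.ofHom f) (ModuleCat.ofHom g) (by
        ext x
        exact hfg.apply_apply_eq_zero x)
    have hS : S.ShortExact :=
      { exact := (ShortComplex.ShortExact.moduleCat_exact_iff_function_exact S).2 hfg
        mono_f := (ModuleCat.mono_iff_injective _).2 hf
        epi_g := (ModuleCat.epi_iff_surjective _).2 hg }
    exact PB.ext S hS (h1 hN1) (h3 hN3)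

theorem PB_of_prime_step'
    (hstep : ∀ q : Ideal A, q.IsPrime → Surj K n q → PB K n (ModuleCat.of A (A ⧸ q)))
    (M : ModuleCat.{u} A) [Module.Finite A M] : PB K n M :=
  PB_of_prime_step hstep ⊥ M (fun y hy m => by
    rw [(Submodule.mem_bot A).1 hy, zero_smul])

end Main

end Groth.Agent.Lib.helper23.BassD
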