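import Mathlib
import Groth.Prelude.Def_Wider
import Groth.Prelude.Def_DDual2
import Groth.Agent.Lib.Helper23.BassD2

/-!
# The dimension function of a dualizing complex: the local step (helper23)

`(B, m)` Noetherian local, `K ∈ D^+_coh(B)`, `Hom((B/m)[0], K[j]) = 0` for `j ≠ n`.  If `P` is a
prime such that `m` is the only prime strictly containing `P`, then
`Hom((B/P)[0], K[i]) = 0` for `i ≠ n - 1`.
-/

set_option autoImplicit false
universe u
open CategoryTheory CategoryTheory.Limits DerivedCategory Pretriangulated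

attribute [local instance] HasDerivedCategory.standard

namespace Groth.Agent.Lib.helper23.DimFn

open Groth.Agent.Lib.helper23.BassD

variable {A : Type u} [CommRing A]

/-- `Hom(M[0], K[i]) = 0`. -/
def VZ (K : Dual.D A) (i : ℤ) (M : ModuleCat.{u} A) : Prop := ∀ φ : sg M ⟶ K⟦i⟧, φ = 0

variable {K : Dual.D A} {i : ℤ}

lemma VZ.of_iso {M M' : ModuleCat.{u} A} (e : M ≅ M') (h : VZ K i M) : VZ K i M' := by
  intro φ
  have h1 := h ((singleFunctor (ModuleCat.{u} A) 0).map e.hom ≫ φ)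
  have h2 : φ = (singleFunctor (ModuleCat.{u} A) 0).map e.inv ≫
      (singleFunctor (ModuleCat.{u} A) 0).map e.hom ≫ φ := by
    rw [← Category.assoc, ← Functor.map_comp, e.inv_hom_id, CategoryTheory.Functor.map_id,
      Category.id_comp]
  rw [h2, h1, comp_zero]

lemma VZ.of_isZero {M : ModuleCat.{u} A} (hM : IsZero M) : VZ K i M := by
  intro φ
  exact ((singleFunctor (ModuleCat.{u} A) 0).map_isZero hM).eq_of_src _ _

lemma VZ.ext (S : ShortComplex (ModuleCat.{u} A)) (hS : S.ShortExact) (h₁ : VZ K i S.X₁)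
    (h₃ : VZ K i S.X₃) : VZ K i S.X₂ := by
  intro φ
  have hT := hS.singleTriangle_distinguished
  have h1 : (singleFunctor (ModuleCat.{u} A) 0).map S.f ≫ φ = 0 := h₁ _
  obtain ⟨g, hg⟩ : ∃ g : sg S.X₃ ⟶ K⟦i⟧, φ = (singleFunctor (ModuleCat.{u} A) 0).map S.g ≫ g :=
    Triangle.yoneda_exact₂ _ hT φ h1
  rw [hg, h₃ g, comp_zero]

/-- if `Hom(X₃[0], K[i+1]) = 0` for the cokernel `X₃` of an injective endomorphism `x • 𝟙` of `M`,
then `x` acts surjectively on `Hom(M[0], K[i])`. -/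
lemma exists_smul_eq_of_VZ (S : ShortComplex (ModuleCat.{u} A)) (hS : S.ShortExact) (x : A)
    (e : S.X₁ ≅ S.X₂) (hf : S.f = x • e.hom) (h₃ : VZ K (i + 1) S.X₃)
    (φ : sg S.X₂ ⟶ K⟦i⟧) : ∃ ψ : sg S.X₂ ⟶ K⟦i⟧, φ = x • ψ := by
  have hT := hS.singleTriangle_distinguished
  let E : sg S.X₁ ≅ sg S.X₂ := (singleFunctor (ModuleCat.{u} A) 0).mapIso e
  let δ : sg S.X₃ ⟶ (sg S.X₁)⟦(1 : ℤ)⟧ := hS.singleδ
  let f₁ : sg S.X₁ ⟶ sg S.X₂ := (singleFunctor (ModuleCat.{u} A) 0).map S.f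
  have h0 : δ ≫ (E.hom ≫ φ)⟦(1 : ℤ)⟧' = 0 := by
    let ι : K⟦i + 1⟧ ≅ (K⟦i⟧)⟦(1 : ℤ)⟧ := (shiftFunctorAdd' (Dual.D A) i 1 (i + 1) rfl).app K
    have h1 : (δ ≫ (E.hom ≫ φ)⟦(1 : ℤ)⟧') ≫ ι.inv = 0 := h₃ _
    have h2 : δ ≫ (E.hom ≫ φ)⟦(1 : ℤ)⟧' = ((δ ≫ (E.hom ≫ φ)⟦(1 : ℤ)⟧') ≫ ι.inv) ≫ ι.hom := by
      rw [Category.assoc, Iso.inv_hom_id, Category.comp_id]
    rw [h2, h1, zero_comp]
  obtain ⟨χ, hχ⟩ : ∃ χ : sg S.X₂ ⟶ K⟦i⟧, E.hom ≫ φ = f₁ ≫ χ :=
    DualD.yoneda_exact₁ _ hT (E.hom ≫ φ) h0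
  refine ⟨χ, ?_⟩
  have h3 : f₁ = x • E.hom := by
    show (singleFunctor (ModuleCat.{u} A) 0).map S.f = _
    rw [hf, Functor.map_smul]
    rfl
  rw [h3, Linear.smul_comp] at hχ
  have h4 : φ = E.inv ≫ E.hom ≫ φ := by rw [Iso.inv_hom_id_assoc]
  rw [h4, hχ, Linear.comp_smul, Iso.inv_hom_id_assoc]

section Filtration

variable [IsNoetherianRing A]

/-- prime filtration: vanishing for the `A/p'`, `J ≤ p'`, implies vanishing for all finite modules
killed by `J`. -/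
theorem VZ_of_killed (J : Ideal A)
    (hprime : ∀ p' : Ideal A, p'.IsPrime → J ≤ p' → VZ K i (ModuleCat.of A (A ⧸ p')))
    (M : Type u) [AddCommGroup M] [Module A M] [hMfin : Module.Finite A M]
    (hJ : ∀ y ∈ J, ∀ m : M, y • m = 0) : VZ K i (ModuleCat.of A M) := by
  refine IsNoetherianRing.induction_on_isQuotientEquivQuotientPrime A hMfin
    (motive := fun N _ _ _ => (∀ y ∈ J, ∀ m : N, y • m = 0) → VZ K i (ModuleCat.of A N))
    ?_ ?_ ?_ hJ
  · intro N _ _ _ _ _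
    exact VZ.of_isZero (ModuleCat.isZero_of_subsingleton _)
  · intro N _ _ _ p e hN
    have hJp : J ≤ p.asIdeal := by
      intro y hy
      have h1 := hN y hy (e.symm 1)
      have h2 : y • (1 : A ⧸ p.asIdeal) = 0 := by
        have := congrArg e h1
        rwa [map_smul, LinearEquiv.apply_symm_apply, map_zero] at this
      have h3 : Ideal.Quotient.mk p.asIdeal y = 0 := by
        rw [← h2]
        show Ideal.Quotient.mk p.asIdeal y = Ideal.Quotient.mk p.asIdeal (y * 1)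
        rw [mul_one]
      exact Ideal.Quotient.eq_zero_iff_mem.1 h3
    exact VZ.of_iso (e.symm.toModuleIso) (hprime p.asIdeal p.2 hJp)
  · intro N₁ _ _ _ N₂ _ _ _ N₃ _ _ _ f g hf hg hfg h1 h3 hN2
    have hN1 : ∀ y ∈ J, ∀ m : N₁, y • m = 0 := fun y hy m => hf (by
      rw [map_smul, hN2 y hy, map_zero])
    have hN3 : ∀ y ∈ J, ∀ m : N₃, y • m = 0 := fun y hy m => by
      obtain ⟨m', rfl⟩ := hg m
      rw [← map_smul, hN2 y hy, map_zero]
    let S : ShortComplex (ModuleCat.{u} A) :=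
      ShortComplex.mk (ModuleCat.ofHom f) (ModuleCat.ofHom g) (by
        ext x
        exact hfg.apply_apply_eq_zero x)
    have hS : S.ShortExact :=
      { exact := (ShortComplex.ShortExact.moduleCat_exact_iff_function_exact S).2 hfg
        mono_f := (ModuleCat.mono_iff_injective _).2 hf
        epi_g := (ModuleCat.epi_iff_surjective _).2 hg }
    exact VZ.ext S hS (h1 hN1) (h3 hN3)

end Filtration

section Local

variable [IsNoetherianRing A] [IsLocalRing A] (a : ℤ)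
  (hKa : ∀ j : ℤ, j < a → IsZero ((homologyFunctor (ModuleCat.{u} A) j).obj K))
  (hfin : ∀ j : ℤ, Module.Finite A ((homologyFunctor (ModuleCat.{u} A) j).obj K))

include hKa hfin in
/-- **the local step**. -/
theorem VZ_of_covBy (n : ℤ)
    (hn : ∀ j : ℤ, j ≠ n → VZ K j (ModuleCat.of A (A ⧸ IsLocalRing.maximalIdeal A)))
    (P : Ideal A) [P.IsPrime] (hP : P ≠ IsLocalRing.maximalIdeal A)
    (hcov : ∀ p' : Ideal A, p'.IsPrime → P < p' → p' = IsLocalRing.maximalIdeal A)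
    (i : ℤ) (hi : i ≠ n - 1) : VZ K i (ModuleCat.of A (A ⧸ P)) := by
  -- choose `x ∈ m ∖ P`
  have hPm : P ≤ IsLocalRing.maximalIdeal A := IsLocalRing.le_maximalIdeal (Ideal.IsPrime.ne_top ‹_›)
  obtain ⟨x, hxm, hxP⟩ : ∃ x, x ∈ IsLocalRing.maximalIdeal A ∧ x ∉ P := by
    by_contra hcon
    push Not at hcon
    exact hP (le_antisymm hPm hcon)
  -- vanishing for the cokernel
  have hcok : VZ K (i + 1) (cokSC P x).X₃ := by
    refine VZ_of_killed (P ⊔ Ideal.span {x}) (fun p' hp' hJ => ?_)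
      ((A ⧸ P) ⧸ LinearMap.range (LinearMap.lsmul A (A ⧸ P) x)) (cokSC_ann P x)
    have hlt : P < p' := by
      refine lt_of_le_of_ne (le_trans le_sup_left hJ) (fun h => hxP ?_)
      rw [h]
      exact hJ (Ideal.mem_sup_right (Ideal.subset_span rfl))
    rw [hcov p' hp' hlt]
    exact hn (i + 1) (by omega)
  intro φ
  haveI : Module.Finite A (ModuleCat.of A (A ⧸ P)) := inferInstanceAs (Module.Finite A (A ⧸ P))
  haveI : Module.Finite A (sg (ModuleCat.of A (A ⧸ P)) ⟶ K⟦i⟧) :=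
    FinHom.finite_hom_single_of_bddBelow (ModuleCat.of A (A ⧸ P)) K a hKa hfin i
  obtain ⟨r, hr1, hr2⟩ := exists_kill (H := (sg (ModuleCat.of A (A ⧸ P)) ⟶ K⟦i⟧)) x
    (fun φ => exists_smul_eq_of_VZ (cokSC P x) (cokSC_shortExact P x hxP) x
      (Iso.refl _) rfl hcok φ)
  have hr : IsUnit r := by
    by_contra hnu
    have h1 : r ∈ IsLocalRing.maximalIdeal A := (IsLocalRing.mem_maximalIdeal r).2 hnu
    have h2 : r - 1 ∈ IsLocalRing.maximalIdeal A :=
      (Ideal.span_singleton_le_iff_mem _).2 hxm hr1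
    have h3 : (1 : A) ∈ IsLocalRing.maximalIdeal A := by
      have : (1 : A) = r - (r - 1) := by ring
      rw [this]
      exact Ideal.sub_mem _ h1 h2
    exact (Ideal.IsPrime.ne_top inferInstance) ((Ideal.eq_top_iff_one _).2 h3)
  obtain ⟨r', hr'⟩ := hr.exists_left_inv
  have h4 : φ = r' • (r • φ) := by rw [smul_smul, hr', one_smul]
  rw [h4, hr2 φ, smul_zero]

end Local

end Groth.Agent.Lib.helper23.DimFn
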