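import Mathlib
import Groth.Agent.Lib.Helper23.DualD1

/-!
# The complex `Hom_A(N, I)` as a contravariant functor of the module `N` (helper23)

* `homCx I : (ModuleCat A)ᵒᵖ ⥤ CochainComplex (ModuleCat A) ℤ`,
* short exact sequences of modules go to short exact sequences of complexes when the terms of `I`
  are injective, hence to distinguished triangles in `D(A)`,
* evaluation maps `evCx I N n : Hom_A(N, I) ⟶ I`, `evCx I A 1` is an isomorphism.
-/

set_option autoImplicit false
universe u
open CategoryTheory CategoryTheory.Limits Pretriangulated Opposite DerivedCategory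

attribute [local instance] HasDerivedCategory.standard

namespace Groth.Agent.Lib.helper23.DualD

variable {A : Type u} [CommRing A]

/-- the complex `Hom_A(N, I)`, contravariant in `N`. -/
noncomputable def homCx (I : CochainComplex (ModuleCat.{u} A) ℤ) :
    (ModuleCat.{u} A)ᵒᵖ ⥤ CochainComplex (ModuleCat.{u} A) ℤ where
  obj N := (((linearCoyoneda A (ModuleCat.{u} A)).obj N).mapHomologicalComplex _).obj I
  map f := (NatTrans.mapHomologicalComplex ((linearCoyoneda A (ModuleCat.{u} A)).map f) _).app I
  map_id N := by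
    rw [CategoryTheory.Functor.map_id, NatTrans.mapHomologicalComplex_id]
    rfl
  map_comp f g := by
    rw [Functor.map_comp, NatTrans.mapHomologicalComplex_comp]
    rfl

lemma homCx_map_f (I : CochainComplex (ModuleCat.{u} A) ℤ) {N N' : ModuleCat.{u} A} (f : N ⟶ N')
    (j : ℤ) (φ : N' ⟶ I.X j) :
    (((homCx I).map f.op).f j).hom φ = f ≫ φ := rfl

lemma homCx_d (I : CochainComplex (ModuleCat.{u} A) ℤ) (N : ModuleCat.{u} A) (i j : ℤ)
    (φ : N ⟶ I.X i) :
    (((homCx I).obj (op N)).d i j).hom φ = φ ≫ I.d i j := rfl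

lemma homCx_shortExact (I : CochainComplex (ModuleCat.{u} A) ℤ) [∀ j, Injective (I.X j)]
    (S : ShortComplex (ModuleCat.{u} A)) (hS : S.ShortExact) :
    (ShortComplex.mk ((homCx I).map S.g.op) ((homCx I).map S.f.op) (by
      rw [← Functor.map_comp, ← op_comp, S.zero]
      ext j φ
      show (0 : S.X₁ ⟶ S.X₃) ≫ φ = 0
      rw [zero_comp])).ShortExact := by
  apply HomologicalComplex.shortExact_of_degreewise_shortExact
  intro j
  haveI := hS.mono_f
  haveI := hS.epi_g
  refine Setup.shortExact_of_functions (A := A) _ _ _ ?_ ?_ ?_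
  · intro φ ψ h
    have h' : S.g ≫ φ = S.g ≫ ψ := h
    exact (cancel_epi S.g).1 h'
  · intro ψ
    exact ⟨Injective.factorThru ψ S.f, Injective.comp_factorThru ψ S.f⟩
  · intro χ hχ
    have hχ' : S.f ≫ χ = 0 := hχ
    exact ⟨hS.exact.desc χ hχ', hS.exact.g_desc χ hχ'⟩

/-- evaluation at `n : N`. -/
noncomputable def evCx (I : CochainComplex (ModuleCat.{u} A) ℤ) (N : ModuleCat.{u} A) (n : N) :
    (homCx I).obj (op N) ⟶ I where
  f j := ModuleCat.ofHom
    ((LinearMap.applyₗ n) ∘ₗ (ModuleCat.homLinearEquiv (S := A) (M := N) (N := I.X j)).toLinearMap)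
  comm' i j _ := by
    ext φ
    rfl

lemma evCx_f_apply (I : CochainComplex (ModuleCat.{u} A) ℤ) (N : ModuleCat.{u} A) (n : N) (j : ℤ)
    (φ : N ⟶ I.X j) : ((evCx I N n).f j).hom φ = φ.hom n := rfl

lemma evCx_add (I : CochainComplex (ModuleCat.{u} A) ℤ) (N : ModuleCat.{u} A) (n n' : N) :
    evCx I N (n + n') = evCx I N n + evCx I N n' := by
  ext j φ
  exact map_add φ.hom n n'

lemma evCx_smul (I : CochainComplex (ModuleCat.{u} A) ℤ) (N : ModuleCat.{u} A) (a : A) (n : N) :
    evCx I N (a • n) = a • evCx I N n := by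
  ext j φ
  exact map_smul φ.hom a n

lemma evCx_nat (I : CochainComplex (ModuleCat.{u} A) ℤ) {N N' : ModuleCat.{u} A} (f : N ⟶ N')
    (n : N) : (homCx I).map f.op ≫ evCx I N n = evCx I N' (f n) := by
  ext j φ
  rfl

instance isIso_evCx_one (I : CochainComplex (ModuleCat.{u} A) ℤ) :
    IsIso (evCx I (ModuleCat.of A A) (1 : A)) := by
  haveI : ∀ j, IsIso ((evCx I (ModuleCat.of A A) (1 : A)).f j) := by
    intro j
    rw [ConcreteCategory.isIso_iff_bijective]
    constructor
    · intro (φ : ModuleCat.of A A ⟶ I.X j) (ψ : ModuleCat.of A A ⟶ I.X j) h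
      have h' : φ.hom (1 : A) = ψ.hom (1 : A) := h
      apply ModuleCat.hom_ext
      apply LinearMap.ext
      intro (x : A)
      have hx : x = x • (1 : A) := by simp
      rw [hx, map_smul, map_smul, h']
    · intro x
      exact ⟨ModuleCat.ofHom (LinearMap.toSpanSingleton A (I.X j) x), by
        show (LinearMap.toSpanSingleton A (I.X j) x) 1 = x
        simp⟩
  exact HomologicalComplex.Hom.isIso_of_components _

lemma evCx_eq_smul (I : CochainComplex (ModuleCat.{u} A) ℤ) (a : A) :
    evCx I (ModuleCat.of A A) a = evCx I (ModuleCat.of A A) (1 : A) ≫ (a • 𝟙 I) := by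
  have : a = a • (1 : A) := by simp
  conv_lhs => rw [this, evCx_smul]
  simp

/-- the functor `N ↦ Q(Hom_A(N, I))`. -/
noncomputable def DD (I : CochainComplex (ModuleCat.{u} A) ℤ) :
    (ModuleCat.{u} A)ᵒᵖ ⥤ DerivedCategory (ModuleCat.{u} A) := homCx I ⋙ Q

/-- the duality setup attached to a complex of injectives. -/
noncomputable def setup (I : CochainComplex (ModuleCat.{u} A) ℤ) [∀ j, Injective (I.X j)] :
    Setup.{u, u + 1, u + 1} A (DerivedCategory (ModuleCat.{u} A)) where
  D := DD I
  tri S hS := ⟨triangleOfSESδ (homCx_shortExact I S hS),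
    triangleOfSES_distinguished (homCx_shortExact I S hS)⟩
  Z := Q.obj I
  η N :=
    { toFun := fun n => Q.map (evCx I N n)
      map_zero' := by
        have : evCx I N 0 = 0 := by
          ext j φ
          exact map_zero φ.hom
        rw [this, Functor.map_zero]
        rfl
      map_add' := fun n n' => by
        rw [evCx_add, Functor.map_add]
        rfl }
  η_nat f n := by
    show Q.map ((homCx I).map f.op) ≫ Q.map (evCx I _ n) = Q.map (evCx I _ (f n))
    rw [← Functor.map_comp, evCx_nat]

end Groth.Agent.Lib.helper23.DualD
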