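import Mathlib
import Groth.Prelude.Def_DRing2
import Groth.Agent.Lib.Helper23.DualD2
import Groth.Agent.Lib.Helper23.FinHom3

/-!
# Module biduality for a dualizing complex represented by a bounded complex of injectives (helper23)
-/

set_option autoImplicit false
universe u
open CategoryTheory CategoryTheory.Limits Pretriangulated Opposite DerivedCategory

attribute [local instance] HasDerivedCategory.standard

namespace Groth.Agent.Lib.helper23.DualD

variable {A : Type u} [CommRing A]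

lemma homCx_isZero (I : CochainComplex (ModuleCat.{u} A) ℤ) (N : ModuleCat.{u} A) (j : ℤ)
    (h : IsZero (I.X j)) : IsZero (((homCx I).obj (op N)).X j) := by
  haveI : Subsingleton (N ⟶ I.X j) := ⟨fun f g => h.eq_of_tgt f g⟩
  exact ModuleCat.isZero_of_subsingleton (ModuleCat.of A (N ⟶ I.X j))

lemma homCx_isStrictlyGE (I : CochainComplex (ModuleCat.{u} A) ℤ) (N : ModuleCat.{u} A) (a : ℤ)
    (hI : ∀ j, j < a → IsZero (I.X j)) : ((homCx I).obj (op N)).IsStrictlyGE a := by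
  rw [CochainComplex.isStrictlyGE_iff]
  intro j hj
  exact homCx_isZero I N j (hI j hj)

lemma homCx_isStrictlyLE (I : CochainComplex (ModuleCat.{u} A) ℤ) (N : ModuleCat.{u} A) (b : ℤ)
    (hI : ∀ j, b < j → IsZero (I.X j)) : ((homCx I).obj (op N)).IsStrictlyLE b := by
  rw [CochainComplex.isStrictlyLE_iff]
  intro j hj
  exact homCx_isZero I N j (hI j hj)

lemma injAmp_of_model (I : CochainComplex (ModuleCat.{u} A) ℤ) [∀ j, Injective (I.X j)] (a b : ℤ)
    (hI : ∀ j, (j < a ∨ b < j) → IsZero (I.X j)) : DRing.HasInjAmplitudeIn A a b (Q.obj I) :=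
  ⟨I, hI, fun j => (Module.injective_iff_injective_object A (I.X j)).2 inferInstance,
    ⟨Iso.refl _⟩⟩

/-- the upper bound. -/
lemma van_of_gt (I : CochainComplex (ModuleCat.{u} A) ℤ) [∀ j, Injective (I.X j)] (a b : ℤ)
    (hI : ∀ j, (j < a ∨ b < j) → IsZero (I.X j)) (N : ModuleCat.{u} A) (i : ℤ) (hi : b - a < i) :
    (setup I).Van N i := by
  intro φ
  haveI := homCx_isStrictlyGE I N a (fun j hj => hI j (Or.inl hj))
  haveI : (Q.obj ((homCx I).obj (op N))).IsGE a :=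
    (DerivedCategory.isGE_Q_obj_iff _ a).2 inferInstance
  exact FinHom.hom_eq_zero_of_isGE_of_injAmp (Q.obj ((homCx I).obj (op N))) ((Q.obj I)⟦i⟧)
    (a - i) (b - i) a (FinHom.injAmp_shift _ a b i (injAmp_of_model I a b hI)) (by omega) φ

lemma good_self (I : CochainComplex (ModuleCat.{u} A) ℤ) [∀ j, Injective (I.X j)]
    (hend : Function.Bijective (fun x : A => x • 𝟙 (Q.obj I)))
    (hext : ∀ i : ℤ, i ≠ 0 → ∀ φ : Q.obj I ⟶ (Q.obj I)⟦i⟧, φ = 0) :
    (setup I).Good (ModuleCat.of A A) := by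
  let e : Q.obj ((homCx I).obj (op (ModuleCat.of A A))) ≅ Q.obj I :=
    asIso (Q.map (evCx I (ModuleCat.of A A) (1 : A)))
  have hη : ∀ x : A, (setup I).η (ModuleCat.of A A) x = e.hom ≫ (x • 𝟙 (Q.obj I)) := by
    intro x
    show Q.map (evCx I (ModuleCat.of A A) x) = Q.map (evCx I (ModuleCat.of A A) (1 : A)) ≫ _
    rw [evCx_eq_smul, Functor.map_comp, Functor.map_smul, CategoryTheory.Functor.map_id]
  refine ⟨⟨?_, ?_⟩, ?_⟩
  · intro x y hxy
    rw [hη, hη] at hxy
    exact hend.1 ((cancel_epi e.hom).1 hxy)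
  · intro (φ : Q.obj ((homCx I).obj (op (ModuleCat.of A A))) ⟶ Q.obj I)
    obtain ⟨x, hx⟩ := hend.2 (e.inv ≫ φ)
    refine ⟨x, ?_⟩
    have hx' : x • 𝟙 (Q.obj I) = e.inv ≫ φ := hx
    rw [hη, hx', Iso.hom_inv_id_assoc]
  · intro i hi (φ : Q.obj ((homCx I).obj (op (ModuleCat.of A A))) ⟶ (Q.obj I)⟦i⟧)
    have h1 := hext i hi (e.inv ≫ φ)
    calc φ = e.hom ≫ e.inv ≫ φ := (Iso.hom_inv_id_assoc _ _).symm
      _ = 0 := by rw [h1, comp_zero]

/-- **Module biduality.** -/
theorem biduality [IsNoetherianRing A] (I : CochainComplex (ModuleCat.{u} A) ℤ)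
    [∀ j, Injective (I.X j)] (a b : ℤ) (hI : ∀ j, (j < a ∨ b < j) → IsZero (I.X j))
    (hend : Function.Bijective (fun x : A => x • 𝟙 (Q.obj I)))
    (hext : ∀ i : ℤ, i ≠ 0 → ∀ φ : Q.obj I ⟶ (Q.obj I)⟦i⟧, φ = 0) :
    ∀ N : ModuleCat.{u} A, Module.Finite A N → (setup I).Good N :=
  (setup I).good_of_finite (good_self I hend hext) (b - a)
    (fun i hi N _ => van_of_gt I a b hI N i hi)

end Groth.Agent.Lib.helper23.DualD
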