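import Mathlib
import Groth.Agent.Lib.Helper23.DualD2

/-!
# Cohomology of `Hom_A(N, L)` for a K-injective complex `L` (helper23)

`H^j(Hom_A(N, L)) ≃ₗ[A] Hom_{D(A)}(N[0], (Q L)[j])`.
-/

set_option autoImplicit false
universe u
open CategoryTheory CategoryTheory.Limits Pretriangulated Opposite DerivedCategory
open CochainComplex.HomComplex

attribute [local instance] HasDerivedCategory.standard

namespace Groth.Agent.Lib.helper23.DualD

variable {A : Type u} [CommRing A]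

/-- `N` in degree `0` as a cochain complex. -/
noncomputable abbrev S₀ (N : ModuleCat.{u} A) : CochainComplex (ModuleCat.{u} A) ℤ :=
  (CochainComplex.singleFunctor (ModuleCat.{u} A) 0).obj N

lemma fromSingleMk_congr {K : CochainComplex (ModuleCat.{u} A) ℤ} {N : ModuleCat.{u} A} {j : ℤ}
    {f f' : N ⟶ K.X j} (h : f = f') (hf : f ≫ K.d j (j + 1) = 0)
    (hf' : f' ≫ K.d j (j + 1) = 0) :
    Cocycle.fromSingleMk (p := 0) f (zero_add j) (j + 1) rfl hf =
      Cocycle.fromSingleMk (p := 0) f' (zero_add j) (j + 1) rfl hf' := by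
  subst h
  rfl

/-- the `j`-cycles of `Hom_A(N, L)`. -/
noncomputable abbrev cyc (L : CochainComplex (ModuleCat.{u} A) ℤ) (N : ModuleCat.{u} A) (j : ℤ) :
    Submodule A (N ⟶ L.X j) :=
  LinearMap.ker (((homCx L).obj (op N)).d j (j + 1)).hom

lemma cyc_cond {L : CochainComplex (ModuleCat.{u} A) ℤ} {N : ModuleCat.{u} A} {j : ℤ}
    (φ : cyc L N j) : φ.1 ≫ L.d j (j + 1) = 0 := φ.2

/-- cycles to morphisms in the derived category. -/
noncomputable def Ψ (L : CochainComplex (ModuleCat.{u} A) ℤ) (N : ModuleCat.{u} A) (j : ℤ) :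
    cyc L N j →ₗ[A] (Q.obj (S₀ N) ⟶ Q.obj (L⟦j⟧)) where
  toFun φ := Q.map (Cocycle.equivHomShift.symm
    (Cocycle.fromSingleMk (p := 0) φ.1 (zero_add j) (j + 1) rfl (cyc_cond φ)))
  map_add' φ ψ := by
    have h := Cocycle.fromSingleMk_add (p := 0) φ.1 ψ.1 (zero_add j) (j + 1) rfl
      (cyc_cond φ) (cyc_cond ψ)
    have hadd : (φ + ψ).1 = φ.1 + ψ.1 := rfl
    have hc : (φ.1 + ψ.1) ≫ L.d j (j + 1) = 0 := by
      rw [Preadditive.add_comp, cyc_cond φ, cyc_cond ψ, add_zero]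
    have h0 := fromSingleMk_congr hadd (cyc_cond (φ + ψ)) hc
    show Q.map (Cocycle.equivHomShift.symm
      (Cocycle.fromSingleMk (p := 0) (φ + ψ).1 (zero_add j) (j + 1) rfl (cyc_cond (φ + ψ)))) = _
    rw [h0, h, map_add, Functor.map_add]
  map_smul' a φ := by
    have h1 : (a • φ).1 = (a • 𝟙 N) ≫ φ.1 := by
      rw [Linear.smul_comp, Category.id_comp]
      rfl
    have h2 := Cocycle.fromSingleMk_precomp (p := 0) (a • 𝟙 N) φ.1 (zero_add j) (j + 1) rfl
      (cyc_cond φ)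
    have h0 := fromSingleMk_congr h1 (cyc_cond (a • φ))
      (by rw [Category.assoc, cyc_cond φ, comp_zero])
    show Q.map (Cocycle.equivHomShift.symm
      (Cocycle.fromSingleMk (p := 0) (a • φ).1 (zero_add j) (j + 1) rfl (cyc_cond (a • φ)))) = _
    rw [h0, h2,
      Cocycle.equivHomShift_symm_precomp, Functor.map_comp, Functor.map_smul, Functor.map_smul,
      CategoryTheory.Functor.map_id, CategoryTheory.Functor.map_id, Linear.smul_comp,
      Category.id_comp]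
    rfl

lemma Ψ_apply (L : CochainComplex (ModuleCat.{u} A) ℤ) (N : ModuleCat.{u} A) (j : ℤ)
    (φ : cyc L N j) :
    Ψ L N j φ = Qh.map (CohomologyClass.toHom (CohomologyClass.mk
      (Cocycle.fromSingleMk (p := 0) φ.1 (zero_add j) (j + 1) rfl (cyc_cond φ)))) := rfl

lemma Ψ_surjective (L : CochainComplex (ModuleCat.{u} A) ℤ) [L.IsKInjective]
    (N : ModuleCat.{u} A) (j : ℤ) : Function.Surjective (Ψ L N j) := by
  intro f
  obtain ⟨h, hh⟩ := (CochainComplex.IsKInjective.Qh_map_bijective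
    ((HomotopyCategory.quotient _ _).obj (S₀ N)) (L⟦j⟧)).2 f
  obtain ⟨c, rfl⟩ := (CohomologyClass.toHom_bijective (S₀ N) L j).2 h
  obtain ⟨z, rfl⟩ := c.mk_surjective
  obtain ⟨φ, hφ, rfl⟩ := Cocycle.fromSingleMk_surjective z j (zero_add j) (j + 1) rfl
  exact ⟨⟨φ, hφ⟩, hh⟩

lemma Ψ_eq_zero_iff (L : CochainComplex (ModuleCat.{u} A) ℤ) [L.IsKInjective]
    (N : ModuleCat.{u} A) (j : ℤ) (φ : cyc L N j) :
    Ψ L N j φ = 0 ↔ ∃ g : N ⟶ L.X (j - 1), g ≫ L.d (j - 1) j = φ.1 := by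
  rw [Ψ_apply, ← Cocycle.fromSingleMk_mem_coboundaries_iff (p := 0) φ.1 (zero_add j) (j + 1) rfl
    (cyc_cond φ) (j - 1) (by omega), ← CohomologyClass.toHom_mk_eq_zero_iff]
  constructor
  · intro h
    apply (CochainComplex.IsKInjective.Qh_map_bijective
      ((HomotopyCategory.quotient _ _).obj (S₀ N)) (L⟦j⟧)).1
    rw [h, Functor.map_zero]
    rfl
  · intro h
    rw [h, Functor.map_zero]
    rfl

lemma range_toCycles_eq_ker (L : CochainComplex (ModuleCat.{u} A) ℤ) [L.IsKInjective]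
    (N : ModuleCat.{u} A) (j : ℤ) :
    LinearMap.range (((homCx L).obj (op N)).sc' (j - 1) j (j + 1)).moduleCatToCycles =
      LinearMap.ker (show ↥(LinearMap.ker
        (((homCx L).obj (op N)).sc' (j - 1) j (j + 1)).g.hom) →ₗ[A] _ from Ψ L N j) := by
  ext φ
  constructor
  · rintro ⟨g, hg⟩
    exact LinearMap.mem_ker.2 ((Ψ_eq_zero_iff L N j φ).2 ⟨g, congrArg Subtype.val hg⟩)
  · intro h
    obtain ⟨g, hg⟩ := (Ψ_eq_zero_iff L N j φ).1 (LinearMap.mem_ker.1 h)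
    exact ⟨g, Subtype.ext hg⟩

/-- `H^j(Hom_A(N, L)) ≃ₗ Hom_{D(A)}(Q N, Q (L[j]))`. -/
noncomputable def homologyEquiv (L : CochainComplex (ModuleCat.{u} A) ℤ) [L.IsKInjective]
    (N : ModuleCat.{u} A) (j : ℤ) :
    ((homCx L).obj (op N)).homology j ≃ₗ[A] (Q.obj (S₀ N) ⟶ Q.obj (L⟦j⟧)) :=
  (((homCx L).obj (op N)).homologyIsoSc' (j - 1) j (j + 1) (by simp) (by simp)).toLinearEquiv ≪≫ₗ
    (((homCx L).obj (op N)).sc' (j - 1) j (j + 1)).moduleCatHomologyIso.toLinearEquiv ≪≫ₗ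
    Submodule.quotEquivOfEq _ _ (range_toCycles_eq_ker L N j) ≪≫ₗ
    LinearMap.quotKerEquivOfSurjective (Ψ L N j) (Ψ_surjective L N j)

/-- `H^j(Hom_A(N, L)) ≃ₗ Hom_{D(A)}(N[0], ω[j])` for `ω ≅ Q L`. -/
noncomputable def homologyEquiv' (L : CochainComplex (ModuleCat.{u} A) ℤ) [L.IsKInjective]
    (N : ModuleCat.{u} A) (j : ℤ) {ω : DerivedCategory (ModuleCat.{u} A)} (e : Q.obj L ≅ ω) :
    ((homCx L).obj (op N)).homology j ≃ₗ[A]
      ((DerivedCategory.singleFunctor (ModuleCat.{u} A) 0).obj N ⟶ ω⟦j⟧) :=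
  homologyEquiv L N j ≪≫ₗ Linear.homCongr A
    ((DerivedCategory.singleFunctorIsoCompQ (ModuleCat.{u} A) 0).app N).symm
    ((Q.commShiftIso j).app L ≪≫ (shiftFunctor (DerivedCategory (ModuleCat.{u} A)) j).mapIso e)

/-- the same for the object `Q(Hom_A(N, L))` of `D(A)`. -/
noncomputable def homologyEquiv'' (L : CochainComplex (ModuleCat.{u} A) ℤ) [L.IsKInjective]
    (N : ModuleCat.{u} A) (j : ℤ) {ω : DerivedCategory (ModuleCat.{u} A)} (e : Q.obj L ≅ ω) :
    ((DerivedCategory.homologyFunctor (ModuleCat.{u} A) j).obj (Q.obj ((homCx L).obj (op N))))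
      ≃ₗ[A] ((DerivedCategory.singleFunctor (ModuleCat.{u} A) 0).obj N ⟶ ω⟦j⟧) :=
  ((DerivedCategory.homologyFunctorFactors (ModuleCat.{u} A) j).app
    ((homCx L).obj (op N))).toLinearEquiv ≪≫ₗ homologyEquiv' L N j e

end Groth.Agent.Lib.helper23.DualD
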