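import Mathlib
import Groth.Agent.Lib.Helper23.SplitTrunc
import Groth.Agent.Lib.Helper23.InjAmpG

/-!
# Degree-sensitive dévissage for vanishing of `Hom` in `D(C)` (helper23)
-/

set_option autoImplicit false
universe w v u
open CategoryTheory CategoryTheory.Limits Pretriangulated DerivedCategory

namespace Groth.Agent.Lib.helper23.DualD

section Dev

variable {C : Type u} [Category.{v} C] [Abelian C] [HasDerivedCategory.{w} C]

/-- an object concentrated in degree `c` is the single of its `c`-th cohomology. -/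
lemma exists_iso_single_homology (Y : DerivedCategory C) (c : ℤ) [Y.IsGE c] [Y.IsLE c] :
    Nonempty (Y ≅ (singleFunctor C c).obj ((homologyFunctor C c).obj Y)) := by
  obtain ⟨M, ⟨e⟩⟩ := exists_iso_singleFunctor_obj_of_isGE_of_isLE Y c
  have e2 : (homologyFunctor C c).obj Y ≅ M :=
    (homologyFunctor C c).mapIso e ≪≫ (singleFunctorCompHomologyFunctorIso C c).app M
  exact ⟨e ≪≫ (singleFunctor C c).mapIso e2.symm⟩

/-- degree-sensitive dévissage: a bounded object all of whose `H^j(Y)[-j]` have no maps to `W` has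
no maps to `W`. -/
theorem hom_eq_zero_of_homology (W : DerivedCategory C) :
    ∀ (k : ℕ) (c : ℤ) (Y : DerivedCategory C), Y.IsGE c → Y.IsLE (c + k - 1) →
      (∀ (j : ℤ) (g : (singleFunctor C j).obj ((homologyFunctor C j).obj Y) ⟶ W), g = 0) →
      ∀ g : Y ⟶ W, g = 0 := by
  intro k
  induction k with
  | zero =>
    intro c Y hGE hLE _ g
    haveI := hGE
    haveI : Y.IsLE (c - 1) := by simpa using hLE
    exact (TStructure.t.isZero Y (c - 1) c (by omega)).eq_of_src _ _
  | succ k ih =>
    intro c Y hGE hLE hyp g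
    haveI := hGE
    haveI := hLE
    let t := TStructure.t (C := C)
    let T := (t.triangleLTGE (c + 1)).obj Y
    have hT : T ∈ distTriang _ := t.triangleLTGE_distinguished (c + 1) Y
    let Y' := (t.truncLT (c + 1)).obj Y
    let Y'' := (t.truncGE (c + 1)).obj Y
    -- Y' is concentrated in degree c
    haveI hY'LE : Y'.IsLE c := by
      have : Y'.IsLE (c + 1 - 1) := by dsimp [Y']; infer_instance
      simpa using this
    haveI hY'GE : Y'.IsGE c := by
      rw [isGE_iff]
      intro i hi
      haveI := SplitTrunc.isIso_homologyMap_truncLTι Y (c + 1) i (by omega)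
      exact (isZero_of_isGE Y c i hi).of_iso
        (asIso ((homologyFunctor C i).map ((t.truncLTι (c + 1)).app Y)))
    obtain ⟨e⟩ := exists_iso_single_homology Y' c
    haveI := SplitTrunc.isIso_homologyMap_truncLTι Y (c + 1) c (by omega)
    let e' : Y' ≅ (singleFunctor C c).obj ((homologyFunctor C c).obj Y) :=
      e ≪≫ (singleFunctor C c).mapIso
        (asIso ((homologyFunctor C c).map ((t.truncLTι (c + 1)).app Y)))
    have h1 : T.mor₁ ≫ g = 0 := by
      have h2 := hyp c (e'.inv ≫ T.mor₁ ≫ g)
      calc T.mor₁ ≫ g = e'.hom ≫ e'.inv ≫ T.mor₁ ≫ g := (Iso.hom_inv_id_assoc _ _).symm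
        _ = 0 := by rw [h2, comp_zero]
    obtain ⟨g'', hg''⟩ : ∃ g'' : Y'' ⟶ W, g = (t.truncGEπ (c + 1)).app Y ≫ g'' :=
      Triangle.yoneda_exact₂ T hT g h1
    haveI hY''GE : Y''.IsGE (c + 1) := by dsimp [Y'']; infer_instance
    haveI hY''LE : Y''.IsLE (c + 1 + k - 1) := by
      rw [isLE_iff]
      intro i hi
      haveI := SplitTrunc.isIso_homologyMap_truncGEπ Y (c + 1) i (by omega)
      exact (isZero_of_isLE Y (c + (k + 1 : ℕ) - 1) i (by push_cast; omega)).of_iso
        (asIso ((homologyFunctor C i).map ((t.truncGEπ (c + 1)).app Y))).symm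
    have h3 : g'' = 0 := by
      refine ih (c + 1) Y'' hY''GE hY''LE ?_ g''
      intro j γ
      by_cases hj : c + 1 ≤ j
      · haveI := SplitTrunc.isIso_homologyMap_truncGEπ Y (c + 1) j hj
        let ε := (singleFunctor C j).mapIso
          (asIso ((homologyFunctor C j).map ((t.truncGEπ (c + 1)).app Y)))
        have h4 := hyp j (ε.hom ≫ γ)
        calc γ = ε.inv ≫ ε.hom ≫ γ := (Iso.inv_hom_id_assoc _ _).symm
          _ = 0 := by rw [h4, comp_zero]
      · have hz : IsZero ((homologyFunctor C j).obj Y'') :=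
          isZero_of_isGE Y'' (c + 1) j (by omega)
        exact ((singleFunctor C j).map_isZero hz).eq_of_src _ _
    rw [hg'', h3, comp_zero]

end Dev

end Groth.Agent.Lib.helper23.DualD
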