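import Mathlib
import Groth.Prelude.Def_Wider
import Groth.Agent.Lib.Helper23.DualD3
import Groth.Agent.Lib.Helper23.DualD4
import Groth.Agent.Lib.Helper23.DualD5
import Groth.Agent.Lib.Helper23.InjAmpG2

/-!
# Bounded injective models of dualizing complexes; module biduality (helper23)
-/

set_option autoImplicit false
universe u
open CategoryTheory CategoryTheory.Limits Pretriangulated Opposite DerivedCategory

attribute [local instance] HasDerivedCategory.standard

namespace Groth.Agent.Lib.helper23.DualD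

variable {A : Type u} [CommRing A]

/-- a bounded injective model of an object of `D(A)`. -/
structure Model (ω : Dual.D A) where
  I : CochainComplex (ModuleCat.{u} A) ℤ
  inj : ∀ j, Injective (I.X j)
  a : ℤ
  b : ℤ
  zero : ∀ j, (j < a ∨ b < j) → IsZero (I.X j)
  e : Q.obj I ≅ ω

instance {ω : Dual.D A} (M : Model ω) (j : ℤ) : Injective (M.I.X j) := M.inj j

lemma Model.isStrictlyGE {ω : Dual.D A} (M : Model ω) : M.I.IsStrictlyGE M.a := by
  rw [CochainComplex.isStrictlyGE_iff]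
  intro j hj
  exact M.zero j (Or.inl hj)

lemma Model.isKInjective {ω : Dual.D A} (M : Model ω) : M.I.IsKInjective := by
  haveI := M.isStrictlyGE
  exact CochainComplex.isKInjective_of_injective M.I M.a

lemma Model.injAmp {ω : Dual.D A} (M : Model ω) : DRing.HasInjAmplitudeIn A M.a M.b ω :=
  ⟨M.I, M.zero, fun j => (Module.injective_iff_injective_object A (M.I.X j)).2 (M.inj j),
    ⟨M.e⟩⟩

lemma exists_model (ω : Dual.D A) (hω : Dual.IsDualizing A ω) : Nonempty (Model ω) := by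
  obtain ⟨a, b, h⟩ := hω.finite_injective_dimension
  obtain ⟨I, hI, hz, ⟨e⟩⟩ := (InjAmpG.extVanishing_iff ω a (max a b) (le_max_left a b)).1 (by
    intro F i hi φ
    haveI := h F i (by
      rcases hi with hi | hi
      · exact Or.inl hi
      · exact Or.inr (lt_of_le_of_lt (le_max_right a b) hi))
    exact Subsingleton.elim (α := Dual.inD A F ⟶ ω⟦i⟧) φ 0)
  exact ⟨⟨I, hI, a, max a b, hz, e⟩⟩

lemma Model.hend {ω : Dual.D A} (hω : Dual.IsDualizing A ω) (M : Model ω) :
    Function.Bijective (fun x : A => x • 𝟙 (Q.obj M.I)) := by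
  have key : ∀ x : A, x • 𝟙 (Q.obj M.I) = M.e.hom ≫ (x • 𝟙 ω) ≫ M.e.inv := by
    intro x
    rw [Linear.smul_comp, Linear.comp_smul, Category.id_comp, Iso.hom_inv_id]
  constructor
  · intro x y hxy
    apply hω.toEnd_bijective.1
    show x • 𝟙 ω = y • 𝟙 ω
    have hxy' : x • 𝟙 (Q.obj M.I) = y • 𝟙 (Q.obj M.I) := hxy
    rw [key, key] at hxy'
    have h1 := (cancel_epi M.e.hom).1 hxy'
    exact (cancel_mono M.e.inv).1 h1
  · intro f
    obtain ⟨x, hx⟩ := hω.toEnd_bijective.2 (M.e.inv ≫ f ≫ M.e.hom)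
    have hx' : x • 𝟙 ω = M.e.inv ≫ f ≫ M.e.hom := hx
    refine ⟨x, ?_⟩
    show x • 𝟙 (Q.obj M.I) = f
    rw [key, hx']
    simp

lemma Model.hext {ω : Dual.D A} (hω : Dual.IsDualizing A ω) (M : Model ω) :
    ∀ i : ℤ, i ≠ 0 → ∀ φ : Q.obj M.I ⟶ (Q.obj M.I)⟦i⟧, φ = 0 := by
  intro i hi φ
  haveI := hω.ext_self_subsingleton i hi
  have h1 : M.e.inv ≫ φ ≫ M.e.hom⟦i⟧' = 0 := Subsingleton.elim _ _
  have h2 : φ = M.e.hom ≫ (M.e.inv ≫ φ ≫ M.e.hom⟦i⟧') ≫ M.e.inv⟦i⟧' := by
    simp only [Category.assoc, Iso.hom_inv_id_assoc, ← Functor.map_comp, Iso.hom_inv_id,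
      CategoryTheory.Functor.map_id, Category.comp_id]
  rw [h2, h1, zero_comp, comp_zero]

/-- module biduality for a dualizing complex. -/
theorem Model.good [IsNoetherianRing A] {ω : Dual.D A} (hω : Dual.IsDualizing A ω)
    (M : Model ω) : ∀ N : ModuleCat.{u} A, Module.Finite A N → (setup M.I).Good N :=
  biduality M.I M.a M.b M.zero (M.hend hω) (M.hext hω)

/-- the linear version of the evaluation map. -/
noncomputable def ηL (I : CochainComplex (ModuleCat.{u} A) ℤ) (N : ModuleCat.{u} A) :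
    N →ₗ[A] (Q.obj ((homCx I).obj (op N)) ⟶ Q.obj I) where
  toFun n := Q.map (evCx I N n)
  map_add' n n' := by rw [evCx_add, Functor.map_add]
  map_smul' a n := by
    rw [evCx_smul, Functor.map_smul]
    rfl

lemma ηL_apply (I : CochainComplex (ModuleCat.{u} A) ℤ) [∀ j, Injective (I.X j)]
    (N : ModuleCat.{u} A) (n : N) : ηL I N n = (setup I).η N n := rfl

section Single

lemma finite_homology_single (M : ModuleCat.{u} A) [Module.Finite A M] (i : ℤ) :
    Module.Finite A ((homologyFunctor (ModuleCat.{u} A) i).obj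
      ((singleFunctor (ModuleCat.{u} A) 0).obj M)) := by
  by_cases hi : i = 0
  · subst hi
    have e : ((homologyFunctor (ModuleCat.{u} A) 0).obj
        ((singleFunctor (ModuleCat.{u} A) 0).obj M)) ≅ M :=
      (singleFunctorCompHomologyFunctorIso (ModuleCat.{u} A) 0).app M
    exact Module.Finite.equiv e.toLinearEquiv.symm
  · have hz : IsZero ((homologyFunctor (ModuleCat.{u} A) i).obj
        ((singleFunctor (ModuleCat.{u} A) 0).obj M)) := by
      rcases lt_or_gt_of_ne hi with h | h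
      · exact isZero_of_isGE _ 0 i h
      · exact isZero_of_isLE _ 0 i h
    haveI : Subsingleton ((homologyFunctor (ModuleCat.{u} A) i).obj
        ((singleFunctor (ModuleCat.{u} A) 0).obj M)) := ModuleCat.subsingleton_of_isZero hz
    infer_instance

/-- `Hom(N[-j], K[i]) = 0` iff `Hom(N[0], K[i+j]) = 0`. -/
lemma hom_single_shift_zero_iff (N : ModuleCat.{u} A) (K : DerivedCategory (ModuleCat.{u} A))
    (j i k : ℤ) (h : i + j = k) :
    (∀ φ : (singleFunctor (ModuleCat.{u} A) j).obj N ⟶ K⟦i⟧, φ = 0) ↔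
      (∀ φ : (singleFunctor (ModuleCat.{u} A) 0).obj N ⟶ K⟦k⟧, φ = 0) := by
  rw [← InjAmpG.hom_shift_zero_iff N (K⟦i⟧) j]
  let ε : (K⟦i⟧)⟦j⟧ ≅ K⟦k⟧ :=
    ((shiftFunctorAdd' (DerivedCategory (ModuleCat.{u} A)) i j k h).app K).symm
  constructor
  · intro H φ
    have h1 := H (φ ≫ ε.inv)
    calc φ = (φ ≫ ε.inv) ≫ ε.hom := by simp
      _ = 0 := by rw [h1, zero_comp]
  · intro H φ
    have h1 := H (φ ≫ ε.hom)
    calc φ = (φ ≫ ε.hom) ≫ ε.inv := by simp
      _ = 0 := by rw [h1, zero_comp]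

end Single

end Groth.Agent.Lib.helper23.DualD
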