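import Mathlib
import Groth.Agent.Lib.Helper23.DualD6

/-!
# `Ext^i(A/m, ω)` is concentrated in one degree, where it is `A/m` (helper23, S0364)
-/

set_option autoImplicit false
universe w v u
open CategoryTheory CategoryTheory.Limits Pretriangulated Opposite DerivedCategory

namespace Groth.Agent.Lib.helper23.DualD

section Trunc

variable {C : Type u} [Category.{v} C] [Abelian C] [HasDerivedCategory.{w} C]

lemma exists_iso_truncLT_single (Y : DerivedCategory C) (c : ℤ) [Y.IsGE c] :
    Nonempty (((TStructure.t (C := C)).truncLT (c + 1)).obj Y ≅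
      (singleFunctor C c).obj ((homologyFunctor C c).obj Y)) := by
  let t := TStructure.t (C := C)
  let Y' := (t.truncLT (c + 1)).obj Y
  haveI hY'LE : Y'.IsLE c := by
    have : Y'.IsLE (c + 1 - 1) := by dsimp [Y']; infer_instance
    simpa using this
  haveI hY'GE : Y'.IsGE c := by
    rw [isGE_iff]
    intro i hi
    haveI := SplitTrunc.isIso_homologyMap_truncLTι Y (c + 1) i (by omega)
    exact (isZero_of_isGE Y c i hi).of_iso
      (asIso ((homologyFunctor C i).map ((t.truncLTι (c + 1)).app Y)))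
  obtain ⟨e⟩ := exists_iso_single_homology Y' c
  haveI := SplitTrunc.isIso_homologyMap_truncLTι Y (c + 1) c (by omega)
  exact ⟨e ≪≫ (singleFunctor C c).mapIso
    (asIso ((homologyFunctor C c).map ((t.truncLTι (c + 1)).app Y)))⟩

end Trunc

section Pi

variable {A : Type u} [CommRing A] (κ : ModuleCat.{u} A) (n : ℕ)

/-- the `i`-th inclusion `κ → κ^n`. -/
noncomputable def piι (i : Fin n) : κ ⟶ ModuleCat.of A (Fin n → κ) :=
  ModuleCat.ofHom (LinearMap.single A (fun _ : Fin n => κ) i)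

/-- the `i`-th projection `κ^n → κ`. -/
noncomputable def piπ (i : Fin n) : ModuleCat.of A (Fin n → κ) ⟶ κ :=
  ModuleCat.ofHom (LinearMap.proj i)

lemma piι_π (i : Fin n) : piι κ n i ≫ piπ κ n i = 𝟙 κ := by
  ext x
  simp [piι, piπ]

lemma piι_π_ne (i j : Fin n) (h : i ≠ j) : piι κ n i ≫ piπ κ n j = 0 := by
  ext x
  simp [piι, piπ, h.symm]

lemma sum_piπ_ι : ∑ i, piπ κ n i ≫ piι κ n i = 𝟙 (ModuleCat.of A (Fin n → κ)) := by
  apply ModuleCat.hom_ext
  apply LinearMap.ext
  intro x
  funext j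
  simp [piι, piπ, Pi.single_apply, ModuleCat.hom_sum, Finset.sum_apply]

variable {𝒟 : Type*} [Category 𝒟] [Preadditive 𝒟] (F : ModuleCat.{u} A ⥤ 𝒟) [F.Additive]

lemma hom_pi_eq_zero {W : 𝒟} (g : F.obj (ModuleCat.of A (Fin n → κ)) ⟶ W)
    (h : ∀ i, F.map (piι κ n i) ≫ g = 0) : g = 0 := by
  have h1 : g = F.map (𝟙 _) ≫ g := by simp
  rw [h1, ← sum_piπ_ι, Functor.map_sum, Preadditive.sum_comp]
  refine Finset.sum_eq_zero (fun i _ => ?_)
  rw [Functor.map_comp, Category.assoc, h i, comp_zero]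

end Pi

section Struct

variable {A : Type u} [CommRing A]

lemma exists_iso_pi (m : Ideal A) [hm : m.IsMaximal] (V : ModuleCat.{u} A) [Module.Finite A V]
    (hV : ∀ a ∈ m, ∀ v : V, a • v = 0) :
    ∃ n : ℕ, Nonempty (V ≅ ModuleCat.of A (Fin n → A ⧸ m)) := by
  have ht : Module.IsTorsionBySet A V (m : Set A) := fun v a => hV a.1 a.2 v
  letI : Module (A ⧸ m) V := ht.module
  haveI : IsScalarTower A (A ⧸ m) V := ht.isScalarTower
  letI : Field (A ⧸ m) := Ideal.Quotient.field m
  haveI : Module.Finite (A ⧸ m) V := Module.Finite.of_restrictScalars_finite A (A ⧸ m) V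
  let b := Module.finBasis (A ⧸ m) V
  exact ⟨_, ⟨(b.equivFun.restrictScalars A).toModuleIso⟩⟩

end Struct

end Groth.Agent.Lib.helper23.DualD
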