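import Mathlib
import Groth.Agent.Lib.Helper23.DualD7

/-!
# `Ext^i(A/m, ω)` is concentrated in one degree, where it is `A/m` (helper23, S0364), core
-/

set_option autoImplicit false
universe u
open CategoryTheory CategoryTheory.Limits Pretriangulated Opposite DerivedCategory

attribute [local instance] HasDerivedCategory.standard

namespace Groth.Agent.Lib.helper23.DualD

variable {A : Type u} [CommRing A]

lemma hom_single_eq_zero_of_pi (κ : ModuleCat.{u} A) (j : ℤ) (n : ℕ) (V : ModuleCat.{u} A)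
    (e : V ≅ ModuleCat.of A (Fin n → κ)) (W : DerivedCategory (ModuleCat.{u} A))
    (h : ∀ g : (singleFunctor (ModuleCat.{u} A) j).obj κ ⟶ W, g = 0)
    (g : (singleFunctor (ModuleCat.{u} A) j).obj V ⟶ W) : g = 0 := by
  have h1 : (singleFunctor (ModuleCat.{u} A) j).map e.inv ≫ g = 0 :=
    hom_pi_eq_zero κ n (singleFunctor (ModuleCat.{u} A) j) _ (fun i => h _)
  have h2 : g = (singleFunctor (ModuleCat.{u} A) j).map e.hom ≫
      (singleFunctor (ModuleCat.{u} A) j).map e.inv ≫ g := by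
    rw [← Category.assoc, ← Functor.map_comp, e.hom_inv_id, CategoryTheory.Functor.map_id,
      Category.id_comp]
  rw [h2, h1, comp_zero]

lemma exists_hom_single_ne_zero_of_pi (κ : ModuleCat.{u} A) (j : ℤ) (n : ℕ) (hn : 0 < n)
    (V : ModuleCat.{u} A) (e : V ≅ ModuleCat.of A (Fin n → κ))
    (W : DerivedCategory (ModuleCat.{u} A))
    (g₀ : (singleFunctor (ModuleCat.{u} A) j).obj κ ⟶ W) (hg₀ : g₀ ≠ 0) :
    ∃ g : (singleFunctor (ModuleCat.{u} A) j).obj V ⟶ W, g ≠ 0 := by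
  refine ⟨(singleFunctor (ModuleCat.{u} A) j).map (e.hom ≫ piπ κ n ⟨0, hn⟩) ≫ g₀, fun h => hg₀ ?_⟩
  have h1 : (singleFunctor (ModuleCat.{u} A) j).map (piι κ n ⟨0, hn⟩ ≫ e.inv) ≫
      (singleFunctor (ModuleCat.{u} A) j).map (e.hom ≫ piπ κ n ⟨0, hn⟩) ≫ g₀ = g₀ := by
    rw [← Category.assoc, ← Functor.map_comp]
    have : (piι κ n ⟨0, hn⟩ ≫ e.inv) ≫ e.hom ≫ piπ κ n ⟨0, hn⟩ = 𝟙 κ := by
      rw [Category.assoc, Iso.inv_hom_id_assoc, piι_π]
    rw [this, CategoryTheory.Functor.map_id, Category.id_comp]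
  rw [← h1, h, comp_zero]

lemma isZero_of_iso_pi_zero (κ : ModuleCat.{u} A) (V : ModuleCat.{u} A)
    (e : V ≅ ModuleCat.of A (Fin 0 → κ)) : IsZero V := by
  haveI : Subsingleton (ModuleCat.of A (Fin 0 → κ)) :=
    inferInstanceAs (Subsingleton (Fin 0 → κ))
  exact (ModuleCat.isZero_of_subsingleton _).of_iso e

section Core

variable [IsNoetherianRing A]

lemma smul_hom_single_quotient_eq_zero (m : Ideal A) (Y : DerivedCategory (ModuleCat.{u} A))
    (a : A) (ha : a ∈ m)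
    (f : (singleFunctor (ModuleCat.{u} A) 0).obj (ModuleCat.of A (A ⧸ m)) ⟶ Y) : a • f = 0 := by
  have h0 : a • 𝟙 (ModuleCat.of A (A ⧸ m)) = 0 := by
    apply ModuleCat.hom_ext
    apply LinearMap.ext
    intro (x : A ⧸ m)
    obtain ⟨x, rfl⟩ := Ideal.Quotient.mk_surjective x
    show a • (Ideal.Quotient.mk m x) = 0
    rw [← Ideal.Quotient.mk_eq_mk, ← Submodule.Quotient.mk_smul, Submodule.Quotient.mk_eq_zero]
    exact m.mul_mem_right x ha
  have h1 : a • f = (singleFunctor (ModuleCat.{u} A) 0).map (a • 𝟙 _) ≫ f := by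
    rw [Functor.map_smul, CategoryTheory.Functor.map_id, Linear.smul_comp, Category.id_comp]
  rw [h1, h0, Functor.map_zero, zero_comp]

theorem ext_residue_single_degree (ω : Dual.D A) (hω : Dual.IsDualizing A ω) (m : Ideal A)
    [m.IsMaximal] :
    ∃ n : ℤ, (∀ i : ℤ, i ≠ n → Subsingleton (Dual.inD A (A ⧸ m) ⟶ ω⟦i⟧)) ∧
      Nonempty ((Dual.inD A (A ⧸ m) ⟶ ω⟦n⟧) ≃ₗ[A] (A ⧸ m)) := by
  obtain ⟨M⟩ := exists_model ω hω
  haveI := M.isKInjective
  let κ : ModuleCat.{u} A := ModuleCat.of A (A ⧸ m)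
  let Z : DerivedCategory (ModuleCat.{u} A) := Q.obj M.I
  let X : DerivedCategory (ModuleCat.{u} A) := Q.obj ((homCx M.I).obj (op κ))
  have hgood : (setup M.I).Good κ := M.good hω κ (inferInstanceAs (Module.Finite A (A ⧸ m)))
  let V : ℤ → ModuleCat.{u} A := fun j => (homologyFunctor (ModuleCat.{u} A) j).obj X
  have eVE : ∀ j : ℤ, V j ≃ₗ[A] ((singleFunctor (ModuleCat.{u} A) 0).obj κ ⟶ Z⟦j⟧) :=
    fun j => homologyEquiv'' M.I κ j (Iso.refl Z)
  have eEE : ∀ j : ℤ, ((singleFunctor (ModuleCat.{u} A) 0).obj κ ⟶ Z⟦j⟧) ≃ₗ[A]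
      (Dual.inD A (A ⧸ m) ⟶ ω⟦j⟧) := fun j =>
    Linear.homCongr A (Iso.refl _)
      ((shiftFunctor (DerivedCategory (ModuleCat.{u} A)) j).mapIso M.e)
  -- finiteness and torsion
  have hEfin : ∀ j : ℤ, Module.Finite A (Dual.inD A (A ⧸ m) ⟶ ω⟦j⟧) := fun j =>
    FinHom.finite_hom (Dual.inD A (A ⧸ m)) ω
      (fun i => finite_homology_single (ModuleCat.of A (A ⧸ m)) i) hω.finite_cohomology
      M.a M.b M.injAmp j
  have hVfin : ∀ j : ℤ, Module.Finite A (V j) := fun j => by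
    haveI := hEfin j
    exact Module.Finite.equiv ((eVE j).trans (eEE j)).symm
  have hVm : ∀ j : ℤ, ∀ a ∈ m, ∀ v : V j, a • v = 0 := by
    intro j a ha v
    apply (eVE j).injective
    rw [map_smul, map_zero]
    exact smul_hom_single_quotient_eq_zero m _ a ha _
  have hVpi : ∀ j : ℤ, ∃ n : ℕ, Nonempty (V j ≅ ModuleCat.of A (Fin n → A ⧸ m)) := fun j => by
    haveI := hVfin j
    exact exists_iso_pi m (V j) (hVm j)
  -- vanishing of E in terms of V
  have hEzero : ∀ j : ℤ, IsZero (V j) →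
      ∀ φ : (singleFunctor (ModuleCat.{u} A) 0).obj κ ⟶ Z⟦j⟧, φ = 0 := by
    intro j hj φ
    haveI : Subsingleton (V j) := ModuleCat.subsingleton_of_isZero hj
    apply (eVE j).symm.injective
    exact Subsingleton.elim _ _
  have hEne : ∀ j : ℤ, ¬ IsZero (V j) →
      ∃ φ : (singleFunctor (ModuleCat.{u} A) 0).obj κ ⟶ Z⟦j⟧, φ ≠ 0 := by
    intro j hj
    by_contra hcon
    push Not at hcon
    apply hj
    haveI : Subsingleton (V j) := ⟨fun x y => (eVE j).injective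
      ((hcon _).trans (hcon _).symm)⟩
    exact ModuleCat.isZero_of_subsingleton _
  -- boundedness
  haveI hXGE : X.IsGE M.a := by
    haveI := homCx_isStrictlyGE M.I κ M.a (fun j hj => M.zero j (Or.inl hj))
    exact (isGE_Q_obj_iff _ M.a).2 inferInstance
  haveI hXLE : X.IsLE M.b := by
    haveI := homCx_isStrictlyLE M.I κ M.b (fun j hj => M.zero j (Or.inr hj))
    exact (isLE_Q_obj_iff _ M.b).2 inferInstance
  -- some V j is nonzero
  have hex : ∃ j : ℤ, ¬ IsZero (V j) := by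
    by_contra hcon
    push Not at hcon
    haveI : X.IsGE (M.b + 1) := by
      rw [isGE_iff]
      intro i _
      exact hcon i
    have hX0 : IsZero X := TStructure.t.isZero X M.b (M.b + 1) (by omega)
    have h1 : (setup M.I).η κ (1 : A ⧸ m) = (setup M.I).η κ (0 : A ⧸ m) := hX0.eq_of_src _ _
    have h2 : (1 : A ⧸ m) = 0 := hgood.1.1 h1
    exact one_ne_zero h2
  obtain ⟨j₁, hj₁, hj₁min⟩ := Int.exists_least_of_bdd (P := fun j => ¬ IsZero (V j))
    ⟨M.a, fun z hz => by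
      by_contra hcon
      exact hz (isZero_of_isGE X M.a z (by omega))⟩ hex
  obtain ⟨j₂, hj₂, hj₂max⟩ := Int.exists_greatest_of_bdd (P := fun j => ¬ IsZero (V j))
    ⟨M.b, fun z hz => by
      by_contra hcon
      exact hz (isZero_of_isLE X M.b z (by omega))⟩ hex
  have hj₁₂ : j₁ ≤ j₂ := hj₁min j₂ hj₂
  have hVlt : ∀ j : ℤ, j < j₁ → IsZero (V j) := by
    intro j hj
    by_contra hcon
    have := hj₁min j hcon
    omega
  have hVgt : ∀ j : ℤ, j₂ < j → IsZero (V j) := by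
    intro j hj
    by_contra hcon
    have := hj₂max j hcon
    omega
  haveI hXGE₁ : X.IsGE j₁ := by
    rw [isGE_iff]
    exact fun i hi => hVlt i hi
  -- the corner argument
  have hcorner : j₁ = j₂ := by
    by_contra hne
    have hlt : j₁ < j₂ := lt_of_le_of_ne hj₁₂ hne
    let t := TStructure.t (C := ModuleCat.{u} A)
    let T := (t.triangleLTGE (j₁ + 1)).obj X
    have hT : T ∈ distTriang _ := t.triangleLTGE_distinguished (j₁ + 1) X
    obtain ⟨e'⟩ := exists_iso_truncLT_single X j₁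
    obtain ⟨n₁, ⟨ePi₁⟩⟩ := hVpi j₁
    have hn₁ : 0 < n₁ := by
      rcases Nat.eq_zero_or_pos n₁ with h | h
      · subst h
        exact absurd (isZero_of_iso_pi_zero (ModuleCat.of A (A ⧸ m)) _ ePi₁) hj₁
      · exact h
    obtain ⟨φ₀, hφ₀⟩ := hEne j₂ hj₂
    have h1 : ¬ (∀ φ : (singleFunctor (ModuleCat.{u} A) j₁).obj κ ⟶ Z⟦j₂ - j₁⟧, φ = 0) := by
      rw [hom_single_shift_zero_iff κ Z j₁ (j₂ - j₁) j₂ (by omega)]
      intro hcon
      exact hφ₀ (hcon φ₀)
    push Not at h1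
    obtain ⟨γ₀, hγ₀⟩ := h1
    obtain ⟨g₁, hg₁⟩ := exists_hom_single_ne_zero_of_pi κ j₁ n₁ hn₁ (V j₁) ePi₁ _ γ₀ hγ₀
    -- vanishing of maps from the upper truncation
    have hvan : ∀ ψ : T.obj₃ ⟶ (Z⟦j₂ - j₁⟧)⟦(1 : ℤ)⟧, ψ = 0 := by
      have hGE3 : T.obj₃.IsGE (j₁ + 1) := by dsimp [T]; infer_instance
      have hLE3 : T.obj₃.IsLE (j₁ + 1 + ((M.b - j₁).toNat : ℤ) - 1) := by
        rw [isLE_iff]
        intro i hi
        haveI := SplitTrunc.isIso_homologyMap_truncGEπ X (j₁ + 1) i (by omega)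
        have hjb : j₁ ≤ M.b := by
          by_contra hcon
          exact hj₁ (isZero_of_isLE X M.b j₁ (by omega))
        exact (isZero_of_isLE X M.b i (by omega)).of_iso
          (asIso ((homologyFunctor (ModuleCat.{u} A) i).map ((t.truncGEπ (j₁ + 1)).app X))).symm
      refine hom_eq_zero_of_homology _ (M.b - j₁).toNat (j₁ + 1) T.obj₃ hGE3 hLE3 ?_
      intro j γ
      by_cases hj : j₁ + 1 ≤ j
      · haveI := SplitTrunc.isIso_homologyMap_truncGEπ X (j₁ + 1) j hj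
        obtain ⟨n, ⟨ePi⟩⟩ := hVpi j
        refine hom_single_eq_zero_of_pi κ j n _
          ((asIso ((homologyFunctor (ModuleCat.{u} A) j).map
            ((t.truncGEπ (j₁ + 1)).app X))).symm ≪≫ ePi) _ ?_ γ
        intro g
        let ε : (Z⟦j₂ - j₁⟧)⟦(1 : ℤ)⟧ ≅ Z⟦j₂ - j₁ + 1⟧ :=
          ((shiftFunctorAdd' (DerivedCategory (ModuleCat.{u} A)) (j₂ - j₁) 1 (j₂ - j₁ + 1)
            rfl).app Z).symm
        have h2 : ∀ φ : (singleFunctor (ModuleCat.{u} A) j).obj κ ⟶ Z⟦j₂ - j₁ + 1⟧, φ = 0 := by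
          rw [hom_single_shift_zero_iff κ Z j (j₂ - j₁ + 1) (j₂ - j₁ + 1 + j) rfl]
          exact hEzero _ (hVgt _ (by omega))
        have h3 := h2 (g ≫ ε.hom)
        calc g = (g ≫ ε.hom) ≫ ε.inv := by simp
          _ = 0 := by rw [h3, zero_comp]
      · have hz : IsZero ((homologyFunctor (ModuleCat.{u} A) j).obj T.obj₃) := by
          haveI := hGE3
          exact isZero_of_isGE T.obj₃ (j₁ + 1) j (by omega)
        exact ((singleFunctor (ModuleCat.{u} A) j).map_isZero hz).eq_of_src _ _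
    obtain ⟨χ, hχ⟩ : ∃ χ : X ⟶ Z⟦j₂ - j₁⟧, e'.hom ≫ g₁ = T.mor₁ ≫ χ :=
      yoneda_exact₁ T hT (e'.hom ≫ g₁) (hvan _)
    have hχ0 : χ = 0 := hgood.2 (j₂ - j₁) (by omega) χ
    have hχ' : e'.hom ≫ g₁ = 0 := by
      rw [hχ, hχ0]
      exact comp_zero
    apply hg₁
    calc g₁ = e'.inv ≫ e'.hom ≫ g₁ := (Iso.inv_hom_id_assoc _ _).symm
      _ = 0 := by rw [hχ', comp_zero]
  subst hcorner
  -- X is concentrated in degree j₁
  haveI hXLE₁ : X.IsLE j₁ := by
    rw [isLE_iff]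
    exact fun i hi => hVgt i hi
  obtain ⟨eX⟩ := exists_iso_single_homology X j₁
  obtain ⟨n, ⟨ePi⟩⟩ := hVpi j₁
  have hn : 0 < n := by
    rcases Nat.eq_zero_or_pos n with h | h
    · subst h
      exact absurd (isZero_of_iso_pi_zero (ModuleCat.of A (A ⧸ m)) _ ePi) hj₁
    · exact h
  have hn2 : ¬ 2 ≤ n := by
    intro hn2
    obtain ⟨φ₀, hφ₀⟩ := hEne j₁ hj₁
    have h1 : ¬ (∀ φ : (singleFunctor (ModuleCat.{u} A) j₁).obj κ ⟶ Z, φ = 0) := by
      rw [← InjAmpG.hom_shift_zero_iff κ Z j₁]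
      intro hcon
      exact hφ₀ (hcon φ₀)
    push Not at h1
    obtain ⟨γ₀, hγ₀⟩ := h1
    let F := singleFunctor (ModuleCat.{u} A) j₁
    let i0 : Fin n := ⟨0, by omega⟩
    let i1 : Fin n := ⟨1, by omega⟩
    let x : X ⟶ Z := eX.hom ≫ F.map ePi.hom ≫ F.map (piπ κ n i0) ≫ γ₀
    let y : X ⟶ Z := eX.hom ≫ F.map ePi.hom ≫ F.map (piπ κ n i1) ≫ γ₀
    let u : F.obj κ ⟶ X := F.map (piι κ n i1) ≫ F.map ePi.inv ≫ eX.inv
    have hux : u ≫ x = 0 := by
      dsimp only [u, x]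
      simp only [Category.assoc, Iso.inv_hom_id_assoc]
      rw [← F.map_comp_assoc ePi.inv ePi.hom, Iso.inv_hom_id, CategoryTheory.Functor.map_id,
        Category.id_comp, ← F.map_comp_assoc, piι_π_ne κ n i1 i0 (by
          intro h
          have := congrArg Fin.val h
          simp [i0, i1] at this), Functor.map_zero, zero_comp]
    have huy : u ≫ y = γ₀ := by
      dsimp only [u, y]
      simp only [Category.assoc, Iso.inv_hom_id_assoc]
      rw [← F.map_comp_assoc ePi.inv ePi.hom, Iso.inv_hom_id, CategoryTheory.Functor.map_id,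
        Category.id_comp, ← F.map_comp_assoc, piι_π, CategoryTheory.Functor.map_id,
        Category.id_comp]
    let u0 : F.obj κ ⟶ X := F.map (piι κ n i0) ≫ F.map ePi.inv ≫ eX.inv
    have hu0x : u0 ≫ x = γ₀ := by
      dsimp only [u0, x]
      simp only [Category.assoc, Iso.inv_hom_id_assoc]
      rw [← F.map_comp_assoc ePi.inv ePi.hom, Iso.inv_hom_id, CategoryTheory.Functor.map_id,
        Category.id_comp, ← F.map_comp_assoc, piι_π, CategoryTheory.Functor.map_id,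
        Category.id_comp]
    have hx : x ≠ 0 := by
      intro h
      apply hγ₀
      rw [← hu0x, h, comp_zero]
    -- H = Hom(X, Z) is one-dimensional
    let ηκ : (A ⧸ m) ≃ₗ[A] (X ⟶ Z) := LinearEquiv.ofBijective (ηL M.I κ) hgood.1
    letI : Field (A ⧸ m) := Ideal.Quotient.field m
    have hxbar : ηκ.symm x ≠ 0 := by
      intro h
      apply hx
      have := congrArg ηκ h
      simpa using this
    obtain ⟨c, hc⟩ := Ideal.Quotient.mk_surjective (ηκ.symm y * (ηκ.symm x)⁻¹)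
    have hcy : y = c • x := by
      apply ηκ.symm.injective
      rw [map_smul]
      have : c • ηκ.symm x = Ideal.Quotient.mk m c * ηκ.symm x := by
        rw [Algebra.smul_def]
        rfl
      rw [this, hc, mul_assoc, inv_mul_cancel₀ hxbar, mul_one]
    apply hγ₀
    rw [← huy, hcy, Linear.comp_smul, hux, smul_zero]
  have hn1 : n = 1 := by omega
  subst hn1
  refine ⟨j₁, fun i hi => ?_, ⟨(eEE j₁).symm.trans ((eVE j₁).symm.trans
    (ePi.toLinearEquiv.trans (LinearEquiv.funUnique (Fin 1) A (A ⧸ m))))⟩⟩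
  have hz : IsZero (V i) := by
    rcases lt_or_gt_of_ne hi with h | h
    · exact hVlt i h
    · exact hVgt i h
  haveI : Subsingleton (V i) := ModuleCat.subsingleton_of_isZero hz
  exact ((eEE i).symm.trans (eVE i).symm).toEquiv.subsingleton

end Core

end Groth.Agent.Lib.helper23.DualD
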