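import Mathlib
import Groth.Prelude.Def_Wider
import Groth.Prelude.Def_DDual2
import Groth.Agent.Lib.Helper23.FBC2

/-!
# Flat base change for `Hom` in the derived category: the four lemmas along triangles (helper23)
-/

set_option autoImplicit false
universe u
open CategoryTheory CategoryTheory.Limits DerivedCategory Pretriangulated TensorProduct

attribute [local instance] HasDerivedCategory.standard

namespace Groth.Agent.Lib.helper23.FBC

variable {A B : Type u} [CommRing A] [CommRing B] [Algebra A B] [Module.Flat A B]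

attribute [local instance 50] homModuleA
attribute [local instance] FlatBC.preservesFiniteLimits_extendScalars_algebraMap

section Exact

lemma exactA_tri (T : Triangle (Dual.D A)) (hT : T ∈ distTriang _) (Z : Dual.D A) :
    Function.Exact (Linear.leftComp A Z T.mor₂) (Linear.leftComp A Z T.mor₁) := by
  intro f
  constructor
  · intro h
    obtain ⟨g, hg⟩ := Triangle.yoneda_exact₂ T hT f h
    exact ⟨g, hg.symm⟩
  · rintro ⟨g, rfl⟩
    show T.mor₁ ≫ T.mor₂ ≫ g = 0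
    rw [← Category.assoc, comp_distTriang_mor_zero₁₂ T hT, zero_comp]

lemma exactB_tri (T : Triangle (Dual.D A)) (hT : T ∈ distTriang _) (W : Dual.D B) :
    Function.Exact (Linear.leftComp B W ((EE A B).map T.mor₂))
      (Linear.leftComp B W ((EE A B).map T.mor₁)) := by
  have hT' := (EE A B).map_distinguished T hT
  intro f
  constructor
  · intro h
    obtain ⟨g, hg⟩ := Triangle.yoneda_exact₂ _ hT' f h
    exact ⟨g, hg.symm⟩
  · rintro ⟨g, rfl⟩
    show (EE A B).map T.mor₁ ≫ (EE A B).map T.mor₂ ≫ g = 0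
    rw [← Category.assoc, ← Functor.map_comp, comp_distTriang_mor_zero₁₂ T hT, Functor.map_zero,
      zero_comp]

end Exact

section Window

variable (T : Triangle (Dual.D A)) (hT : T ∈ distTriang _) (Z : Dual.D A)

include hT in
lemma BI_obj₃ (h₁ : BS B (T.obj₂⟦(1 : ℤ)⟧) Z) (h₂ : BI B (T.obj₁⟦(1 : ℤ)⟧) Z)
    (h₄ : BI B T.obj₂ Z) : BI B T.obj₃ Z := by
  have hT1 := rot_of_distTriang T hT
  have hT2 := rot_of_distTriang T.rotate hT1
  exact bcInj_four (B := B)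
    (Linear.leftComp A Z T.rotate.rotate.mor₂) (Linear.leftComp A Z T.mor₃)
    (Linear.leftComp A Z T.mor₂)
    (Linear.leftComp B ((EE A B).obj Z) ((EE A B).map T.rotate.rotate.mor₂))
    (Linear.leftComp B ((EE A B).obj Z) ((EE A B).map T.mor₃))
    (Linear.leftComp B ((EE A B).obj Z) ((EE A B).map T.mor₂))
    (ℓ _ Z) (ℓ _ Z) (ℓ _ Z) (ℓ _ Z)
    (fun m => ((EE A B).map_comp _ m).symm) (fun m => ((EE A B).map_comp _ m).symm)
    (fun m => ((EE A B).map_comp _ m).symm)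
    (exactA_tri T.rotate.rotate hT2 Z) (exactA_tri T.rotate hT1 Z)
    (exactB_tri T.rotate.rotate hT2 _) h₁ h₂ h₄

include hT in
lemma BS_obj₃ (h₁ : BS B (T.obj₁⟦(1 : ℤ)⟧) Z) (h₃ : BS B T.obj₂ Z) (h₄ : BI B T.obj₁ Z) :
    BS B T.obj₃ Z := by
  have hT1 := rot_of_distTriang T hT
  exact bcSurj_four (B := B)
    (Linear.leftComp A Z T.mor₃) (Linear.leftComp A Z T.mor₂) (Linear.leftComp A Z T.mor₁)
    (Linear.leftComp B ((EE A B).obj Z) ((EE A B).map T.mor₃))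
    (Linear.leftComp B ((EE A B).obj Z) ((EE A B).map T.mor₂))
    (Linear.leftComp B ((EE A B).obj Z) ((EE A B).map T.mor₁))
    (ℓ _ Z) (ℓ _ Z) (ℓ _ Z) (ℓ _ Z)
    (fun m => ((EE A B).map_comp _ m).symm) (fun m => ((EE A B).map_comp _ m).symm)
    (fun m => ((EE A B).map_comp _ m).symm)
    (exactA_tri T hT Z) (exactB_tri T.rotate hT1 _) (exactB_tri T hT _) h₁ h₃ h₄

end Window

section Step

variable {X : Dual.D A} (Y : Dual.D A) {i j : ℤ}

lemma BI.shift_succ (hij : j + 1 = i) (h : BI B X (Y⟦j⟧)) : BI B (X⟦(1 : ℤ)⟧) (Y⟦i⟧) :=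
  BI.of_iso (Iso.refl _) ((shiftFunctorAdd' (Dual.D A) j 1 i hij).app Y).symm (BI.shift 1 h)

lemma BS.shift_succ (hij : j + 1 = i) (h : BS B X (Y⟦j⟧)) : BS B (X⟦(1 : ℤ)⟧) (Y⟦i⟧) :=
  BS.of_iso (Iso.refl _) ((shiftFunctorAdd' (Dual.D A) j 1 i hij).app Y).symm (BS.shift 1 h)

variable (T : Triangle (Dual.D A)) (hT : T ∈ distTriang _)

include hT in
lemma BI_step (hij : j + 1 = i) (h₁ : BS B T.obj₂ (Y⟦j⟧)) (h₂ : BI B T.obj₁ (Y⟦j⟧))
    (h₄ : BI B T.obj₂ (Y⟦i⟧)) : BI B T.obj₃ (Y⟦i⟧) :=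
  BI_obj₃ T hT (Y⟦i⟧) (BS.shift_succ Y hij h₁) (BI.shift_succ Y hij h₂) h₄

include hT in
lemma BS_step (hij : j + 1 = i) (h₁ : BS B T.obj₁ (Y⟦j⟧)) (h₃ : BS B T.obj₂ (Y⟦i⟧))
    (h₄ : BI B T.obj₁ (Y⟦i⟧)) : BS B T.obj₃ (Y⟦i⟧) :=
  BS_obj₃ T hT (Y⟦i⟧) (BS.shift_succ Y hij h₁) h₃ h₄

end Step

end Groth.Agent.Lib.helper23.FBC
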