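import Mathlib
import Groth.Prelude.Def_Wider
import Groth.Prelude.Def_DDual2
import Groth.Agent.Lib.Helper23.FBC3
import Groth.Agent.Lib.Helper23.ExtSc2

/-!
# Flat base change for `Hom`: the module level (helper23)

For a finite free `A`-module `P`, `B ⊗_A Hom_A(P, H) ≃ Hom_B(B ⊗ P, B ⊗ H)`, phrased with
`ModuleCat.extendScalars`.
-/

set_option autoImplicit false
universe u
open CategoryTheory CategoryTheory.Limits TensorProduct

namespace Groth.Agent.Lib.helper23.FBC

variable {A B : Type u} [CommRing A] [CommRing B] [Algebra A B]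

/-- `A` acts on the morphisms of `B`-modules through `B`. -/
@[reducible] noncomputable def homModuleA' (M N : ModuleCat.{u} B) : Module A (M ⟶ N) :=
  Module.compHom (M ⟶ N) (algebraMap A B)

attribute [local instance 50] homModuleA'

instance isScalarTower_hom' (M N : ModuleCat.{u} B) : IsScalarTower A B (M ⟶ N) :=
  ⟨fun a b g => by
    show (a • b) • g = algebraMap A B a • (b • g)
    rw [Algebra.smul_def, mul_smul]⟩

lemma extendScalars_map_smul_id' (M : ModuleCat.{u} A) (a : A) :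
    (ModuleCat.extendScalars.{u, u, u} (algebraMap A B)).map (a • 𝟙 M) =
      algebraMap A B a • 𝟙 _ := by
  apply ModuleCat.hom_ext
  apply LinearMap.ext
  intro x
  induction x using TensorProduct.induction_on with
  | zero => exact (map_zero _).trans (map_zero _).symm
  | tmul b m =>
    change (b ⊗ₜ[A] (a • m) : TensorProduct A _ _) = _
    rw [ModuleCat.hom_smul, LinearMap.smul_apply, ModuleCat.hom_id, LinearMap.id_apply]
    erw [ModuleCat.ExtendScalars.smul_tmul]
    rw [← TensorProduct.smul_tmul]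
    rfl
  | add x y hx hy =>
    erw [map_add, map_add, hx, hy]

/-- the `A`-linear map `Hom_A(P, H) → Hom_B(B ⊗ P, B ⊗ H)`. -/
noncomputable def ℓmod (P H : ModuleCat.{u} A) :
    (P ⟶ H) →ₗ[A] ((ModuleCat.extendScalars.{u, u, u} (algebraMap A B)).obj P ⟶
      (ModuleCat.extendScalars.{u, u, u} (algebraMap A B)).obj H) where
  toFun γ := (ModuleCat.extendScalars.{u, u, u} (algebraMap A B)).map γ
  map_add' γ γ' := Functor.map_add _
  map_smul' a γ := by
    have h : a • γ = (a • 𝟙 P) ≫ γ := by rw [Linear.smul_comp, Category.id_comp]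
    rw [h, Functor.map_comp, extendScalars_map_smul_id', Linear.smul_comp, Category.id_comp]
    rfl

lemma ℓmod_apply {P H : ModuleCat.{u} A} (γ : P ⟶ H) :
    ℓmod (B := B) P H γ = (ModuleCat.extendScalars.{u, u, u} (algebraMap A B)).map γ := rfl

section Free

variable (P H : ModuleCat.{u} A) [Module.Flat A B] [Module.FinitePresentation A P]

/-- the base change map of Mathlib. -/
noncomputable abbrev ℓ₀ : (P →ₗ[A] H) →ₗ[A] (B ⊗[A] P →ₗ[B] B ⊗[A] H) :=
  LinearMap.baseChangeHom A B P H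

lemma bcBij_ℓ₀ : BCBij (M := P →ₗ[A] H) (N := B ⊗[A] P →ₗ[B] B ⊗[A] H) B
    (ℓ₀ (B := B) P H) := by
  have hbc := Module.FinitePresentation.isBaseChange_map A P H B
  have h : (ℓ₀ (B := B) P H).liftBaseChange B = hbc.equiv.toLinearMap := by
    apply TensorProduct.AlgebraTensorModule.ext
    intro b f
    simp [IsBaseChange.equiv_tmul]
  show Function.Bijective ((ℓ₀ (B := B) P H).liftBaseChange B)
  rw [h]
  exact hbc.equiv.bijective

omit [Module.Flat A B] [Module.FinitePresentation A P] in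
lemma ℓ₀_tmul (f : P →ₗ[A] H) (b : B) (p : P) :
    ℓ₀ (B := B) P H f (b ⊗ₜ[A] p) = b ⊗ₜ[A] f p := by
  simp

/-- `Hom_B(B ⊗ P, B ⊗ H)` in both languages. -/
noncomputable def eN₀ : (B ⊗[A] P →ₗ[B] B ⊗[A] H) ≃ₗ[B]
    ((ModuleCat.extendScalars.{u, u, u} (algebraMap A B)).obj P ⟶
      (ModuleCat.extendScalars.{u, u, u} (algebraMap A B)).obj H) :=
  (LinearEquiv.arrowCongr (ExtSc.extendObjEquiv (B := B) P).symm
    (ExtSc.extendObjEquiv (B := B) H).symm) ≪≫ₗ (ModuleCat.homLinearEquiv (S := B)).symm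

omit [Module.Flat A B] [Module.FinitePresentation A P] in
lemma eN₀_ℓ₀ (f : P →ₗ[A] H) :
    (eN₀ (B := B) P H) ((ℓ₀ (B := B) P H) f) =
      (ℓmod (B := B) P H) ((ModuleCat.homLinearEquiv (S := A)).symm f) := by
  apply ModuleCat.hom_ext
  apply LinearMap.ext
  intro x
  induction x using TensorProduct.induction_on with
  | zero => exact (map_zero _).trans (map_zero _).symm
  | tmul b p =>
    apply (ExtSc.extendObjEquiv (B := B) H).injective
    let b' : B := b
    show (ExtSc.extendObjEquiv (B := B) H) ((ExtSc.extendObjEquiv (B := B) H).symm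
      (ℓ₀ (B := B) P H f (b' ⊗ₜ[A] p))) = (b' ⊗ₜ[A] f p : B ⊗[A] H)
    rw [LinearEquiv.apply_symm_apply, ℓ₀_tmul]
  | add x y hx hy =>
    erw [map_add, map_add, hx, hy]

theorem bcBij_ℓmod : BCBij B (ℓmod (B := B) P H) := by
  have h0 : BCBij (M := P →ₗ[A] H) (N := B ⊗[A] P →ₗ[B] B ⊗[A] H) B (ℓ₀ (B := B) P H) :=
    bcBij_ℓ₀ P H
  have h2 := bcBij_of_equiv (M := P →ₗ[A] H) (N := B ⊗[A] P →ₗ[B] B ⊗[A] H)
    (M' := P ⟶ H) (N' := (ModuleCat.extendScalars.{u, u, u} (algebraMap A B)).obj P ⟶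
      (ModuleCat.extendScalars.{u, u, u} (algebraMap A B)).obj H)
    (ModuleCat.homLinearEquiv (S := A)).symm (eN₀ (B := B) P H)
    (ℓ₀ (B := B) P H) (ℓmod (B := B) P H) (eN₀_ℓ₀ P H)
  exact h2 h0

end Free

end Groth.Agent.Lib.helper23.FBC
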