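import Mathlib
import Groth.Agent.Lib.Helper23.SplitTrunc
import Groth.Agent.Lib.Helper23.DualD7

/-!
# `Hom_{D(C)}(P[0], Y) ≃ Hom_C(P, H^0(Y))` for `P` projective (helper23)
-/

set_option autoImplicit false
universe w v u
open CategoryTheory CategoryTheory.Limits Pretriangulated DerivedCategory

namespace Groth.Agent.Lib.helper23.ProjCorep

variable {C : Type u} [Category.{v} C] [Abelian C] [HasDerivedCategory.{w} C]

/-- `g ↦ H^0(g)` on `Hom(P[0], Y)`. -/
noncomputable def ν (P : C) (Y : DerivedCategory C) (g : (singleFunctor C 0).obj P ⟶ Y) :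
    P ⟶ (homologyFunctor C 0).obj Y :=
  ((singleFunctorCompHomologyFunctorIso C 0).app P).inv ≫ (homologyFunctor C 0).map g

lemma ν_comp (P : C) {Y Y' : DerivedCategory C} (g : (singleFunctor C 0).obj P ⟶ Y)
    (φ : Y ⟶ Y') : ν P Y' (g ≫ φ) = ν P Y g ≫ (homologyFunctor C 0).map φ := by
  dsimp only [ν]
  rw [Functor.map_comp, Category.assoc]

lemma ν_add (P : C) (Y : DerivedCategory C) (g g' : (singleFunctor C 0).obj P ⟶ Y) :
    ν P Y (g + g') = ν P Y g + ν P Y g' := by
  dsimp only [ν]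
  rw [Functor.map_add, Preadditive.comp_add]

/-- transfer of bijectivity along a morphism. -/
lemma bijective_iff_of_comp (P : C) {Y Y' : DerivedCategory C} (φ : Y ⟶ Y')
    (h1 : Function.Bijective (fun g : (singleFunctor C 0).obj P ⟶ Y => g ≫ φ))
    [IsIso ((homologyFunctor C 0).map φ)] :
    Function.Bijective (ν P Y) ↔ Function.Bijective (ν P Y') := by
  have h2 : Function.Bijective
      (fun x : P ⟶ (homologyFunctor C 0).obj Y => x ≫ (homologyFunctor C 0).map φ) :=
    ⟨fun x y hxy => (cancel_mono ((homologyFunctor C 0).map φ)).1 hxy,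
      fun y => ⟨y ≫ inv ((homologyFunctor C 0).map φ), by simp⟩⟩
  have h3 : (ν P Y') ∘ (fun g : (singleFunctor C 0).obj P ⟶ Y => g ≫ φ) =
      (fun x : P ⟶ (homologyFunctor C 0).obj Y => x ≫ (homologyFunctor C 0).map φ) ∘ (ν P Y) := by
    funext g
    exact ν_comp P g φ
  constructor
  · intro h
    have h4 : Function.Bijective
        ((ν P Y') ∘ (fun g : (singleFunctor C 0).obj P ⟶ Y => g ≫ φ)) := by
      rw [h3]
      exact h2.comp h
    exact (Function.Bijective.of_comp_iff _ h1).1 h4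
  · intro h
    have h4 : Function.Bijective
        ((fun x : P ⟶ (homologyFunctor C 0).obj Y => x ≫ (homologyFunctor C 0).map φ) ∘
          (ν P Y)) := by
      rw [← h3]
      exact h.comp h1
    exact (Function.Bijective.of_comp_iff' h2 _).1 h4

/-- no maps from a projective object in degree `0` to an object of `D^{≤ -1}`. -/
lemma hom_eq_zero_of_projective_of_isLE (P : C) [Projective P] (W : DerivedCategory C)
    [W.IsLE (-1)] (φ : (singleFunctor C 0).obj P ⟶ W) : φ = 0 := by
  obtain ⟨L, hL, ⟨e⟩⟩ := DerivedCategory.exists_iso_Q_obj_of_isLE W (-1)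
  haveI := hL
  let e₀ : (singleFunctor C 0).obj P ≅ Q.obj ((CochainComplex.singleFunctor C 0).obj P) :=
    (singleFunctorIsoCompQ C 0).app P
  have h0 : e₀.inv ≫ φ ≫ e.hom = 0 :=
    from_singleFunctor_obj_eq_zero_of_projective (L := L) (i := 0) _ (-1) (by omega)
  have h1 : φ = e₀.hom ≫ (e₀.inv ≫ φ ≫ e.hom) ≫ e.inv := by simp
  rw [h1, h0, zero_comp, comp_zero]

section

variable (P : C) [Projective P] (Y : DerivedCategory C)

lemma bijective_comp_truncGEπ :
    Function.Bijective (fun g : (singleFunctor C 0).obj P ⟶ Y =>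
      g ≫ ((TStructure.t (C := C)).truncGEπ 0).app Y) := by
  let t := TStructure.t (C := C)
  let T := (t.triangleLTGE 0).obj Y
  have hT : T ∈ distTriang _ := t.triangleLTGE_distinguished 0 Y
  haveI h1 : T.obj₁.IsLE (-1) := by
    have : ((t.truncLT 0).obj Y).IsLE (0 - 1) := inferInstance
    exact this
  haveI h2 : (T.obj₁⟦(1 : ℤ)⟧).IsLE (-1) := by
    haveI : (T.obj₁⟦(1 : ℤ)⟧).IsLE (-2) := t.isLE_shift T.obj₁ (-1) 1 (-2) (by omega)
    exact t.isLE_of_le _ (-2) (-1) (by omega)
  constructor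
  · intro g g' hgg'
    have h3 : (g - g') ≫ T.mor₂ = 0 := by
      rw [Preadditive.sub_comp, sub_eq_zero]
      exact hgg'
    obtain ⟨k, hk⟩ := Triangle.coyoneda_exact₂ T hT (g - g') h3
    rw [hom_eq_zero_of_projective_of_isLE P T.obj₁ k, zero_comp] at hk
    exact sub_eq_zero.1 hk
  · intro (h : (singleFunctor C 0).obj P ⟶ T.obj₃)
    have h3 : h ≫ T.mor₃ = 0 := hom_eq_zero_of_projective_of_isLE P (T.obj₁⟦(1 : ℤ)⟧) _
    obtain ⟨g, hg⟩ := Triangle.coyoneda_exact₃ T hT h h3
    exact ⟨g, hg.symm⟩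

lemma bijective_comp_truncLTι :
    Function.Bijective (fun g : (singleFunctor C 0).obj P ⟶
        ((TStructure.t (C := C)).truncLT 1).obj Y =>
      g ≫ ((TStructure.t (C := C)).truncLTι 1).app Y) := by
  let t := TStructure.t (C := C)
  let T := (t.triangleLTGE 1).obj Y
  have hT : T ∈ distTriang _ := t.triangleLTGE_distinguished 1 Y
  haveI h3 : T.obj₃.IsGE 1 := by dsimp [T]; infer_instance
  constructor
  · intro (g : (singleFunctor C 0).obj P ⟶ T.obj₁) (g' : (singleFunctor C 0).obj P ⟶ T.obj₁) hgg'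
    have h4 : (g - g') ≫ T.mor₁ = 0 := by
      rw [Preadditive.sub_comp, sub_eq_zero]
      exact hgg'
    obtain ⟨k, hk⟩ := Triangle.coyoneda_exact₂ _ (inv_rot_of_distTriang T hT) (g - g') h4
    haveI : (T.invRotate.obj₁).IsGE 2 := by
      show ((T.obj₃)⟦(-1 : ℤ)⟧).IsGE 2
      exact t.isGE_shift T.obj₃ 1 (-1) 2 (by omega)
    have hk0 : k = 0 := t.zero k 0 2 (by omega)
    rw [hk0, zero_comp] at hk
    exact sub_eq_zero.1 hk
  · intro (h : (singleFunctor C 0).obj P ⟶ T.obj₂)
    have h4 : h ≫ T.mor₂ = 0 := t.zero (h ≫ T.mor₂) 0 1 (by omega)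
    obtain ⟨g, hg⟩ := Triangle.coyoneda_exact₂ T hT h h4
    exact ⟨g, hg.symm⟩

end

lemma ν_bijective_single (P H : C) :
    Function.Bijective (ν P ((singleFunctor C 0).obj H)) := by
  have h1 : Function.Bijective (fun γ : P ⟶ H => (singleFunctor C 0).map γ) :=
    ⟨(singleFunctor C 0).map_injective, (singleFunctor C 0).map_surjective⟩
  have h2 : Function.Bijective (fun γ : P ⟶ H =>
      γ ≫ ((singleFunctorCompHomologyFunctorIso C 0).app H).inv) :=
    ⟨fun x y hxy => (cancel_mono _).1 hxy,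
      fun y => ⟨y ≫ ((singleFunctorCompHomologyFunctorIso C 0).app H).hom, by simp⟩⟩
  have h3 : (ν P ((singleFunctor C 0).obj H)) ∘ (fun γ : P ⟶ H => (singleFunctor C 0).map γ) =
      fun γ : P ⟶ H => γ ≫ ((singleFunctorCompHomologyFunctorIso C 0).app H).inv := by
    funext γ
    have := (singleFunctorCompHomologyFunctorIso C 0).inv.naturality γ
    dsimp only [Functor.id_obj, Functor.id_map, Functor.comp_obj, Functor.comp_map] at this
    exact this.symm
  have h4 : Function.Bijective ((ν P ((singleFunctor C 0).obj H)) ∘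
      (fun γ : P ⟶ H => (singleFunctor C 0).map γ)) := by
    rw [h3]
    exact h2
  exact (Function.Bijective.of_comp_iff _ h1).1 h4

lemma ν_bijective_of_iso (P : C) {Y Y' : DerivedCategory C} (e : Y ≅ Y')
    (h : Function.Bijective (ν P Y)) : Function.Bijective (ν P Y') := by
  refine (bijective_iff_of_comp P e.hom ?_).1 h
  exact ⟨fun x y hxy => (cancel_mono e.hom).1 hxy, fun y => ⟨y ≫ e.inv, by simp⟩⟩

/-- **`Hom(P[0], Y) ≃ Hom(P, H^0 Y)`** for `P` projective. -/
theorem ν_bijective (P : C) [Projective P] (Y : DerivedCategory C) :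
    Function.Bijective (ν P Y) := by
  let t := TStructure.t (C := C)
  let Y₁ := (t.truncGE 0).obj Y
  haveI : Y₁.IsGE 0 := by dsimp [Y₁]; infer_instance
  haveI := SplitTrunc.isIso_homologyMap_truncGEπ Y 0 0 le_rfl
  refine (bijective_iff_of_comp P ((t.truncGEπ 0).app Y) (bijective_comp_truncGEπ P Y)).2 ?_
  haveI := SplitTrunc.isIso_homologyMap_truncLTι Y₁ 1 0 (by omega)
  refine (bijective_iff_of_comp P ((t.truncLTι 1).app Y₁) (bijective_comp_truncLTι P Y₁)).1 ?_
  obtain ⟨e⟩ := DualD.exists_iso_truncLT_single Y₁ 0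
  exact ν_bijective_of_iso P e.symm (ν_bijective_single P _)

end Groth.Agent.Lib.helper23.ProjCorep
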