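import Mathlib
import Groth.Prelude.Def_Wider
import Groth.Prelude.Def_DDual2
import Groth.Agent.Lib.Helper23.FBC4
import Groth.Agent.Lib.Helper23.HomNat
import Groth.Agent.Lib.Helper23.ProjCorep

/-!
# Flat base change for `Hom`: the base case `P[0]`, `P` finite projective (helper23)
-/

set_option autoImplicit false
universe w v u
open CategoryTheory CategoryTheory.Limits DerivedCategory Pretriangulated TensorProduct

namespace Groth.Agent.Lib.helper23.ProjCorep

variable {C : Type u} [Category.{v} C] [Abelian C] [HasDerivedCategory.{w} C]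

/-- for `X ≅ P[0]` with `P` projective, `g ↦ H^0(g)` is bijective on `Hom(X, W)`. -/
lemma bijective_homologyMap (P : C) [Projective P] {X : DerivedCategory C}
    (σ : X ≅ (singleFunctor C 0).obj P) (W : DerivedCategory C) :
    Function.Bijective (fun g : X ⟶ W => (homologyFunctor C 0).map g) := by
  let a : P ≅ (homologyFunctor C 0).obj X :=
    ((singleFunctorCompHomologyFunctorIso C 0).app P).symm ≪≫
      (homologyFunctor C 0).mapIso σ.symm
  have h1 : Function.Bijective (fun g : X ⟶ W => σ.inv ≫ g) :=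
    ⟨fun x y hxy => (cancel_epi σ.inv).1 hxy, fun y => ⟨σ.hom ≫ y, by simp⟩⟩
  have h2 : Function.Bijective (fun g : X ⟶ W => a.hom ≫ (homologyFunctor C 0).map g) := by
    have : (fun g : X ⟶ W => a.hom ≫ (homologyFunctor C 0).map g) =
        (ν P W) ∘ (fun g : X ⟶ W => σ.inv ≫ g) := by
      funext g
      dsimp only [ν, a, Function.comp, Iso.trans_hom, Iso.symm_hom, Functor.mapIso_hom]
      rw [Functor.map_comp, Category.assoc]
    rw [this]
    exact (ν_bijective P W).comp h1
  have h3 : Function.Bijective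
      (fun x : P ⟶ (homologyFunctor C 0).obj W => a.inv ≫ x) :=
    ⟨fun x y hxy => (cancel_epi a.inv).1 hxy, fun y => ⟨a.hom ≫ y, by simp⟩⟩
  have h4 : (fun g : X ⟶ W => (homologyFunctor C 0).map g) =
      (fun x : P ⟶ (homologyFunctor C 0).obj W => a.inv ≫ x) ∘
        (fun g : X ⟶ W => a.hom ≫ (homologyFunctor C 0).map g) := by
    funext g
    simp
  rw [h4]
  exact h3.comp h2

end Groth.Agent.Lib.helper23.ProjCorep

attribute [local instance] HasDerivedCategory.standard

namespace Groth.Agent.Lib.helper23.FBC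

section Transfer

variable {A B : Type*} [CommRing A] [CommRing B] [Algebra A B]
variable {M M' N N' : Type*} [AddCommGroup M] [Module A M] [AddCommGroup N] [Module A N]
  [Module B N] [IsScalarTower A B N] [AddCommGroup M'] [Module A M'] [AddCommGroup N'] [Module A N']
  [Module B N'] [IsScalarTower A B N']

/-- transfer of `BCBij` backwards along equivalences. -/
lemma bcBij_of_equiv' (eM : M ≃ₗ[A] M') (eN : N ≃ₗ[B] N') (ℓ : M →ₗ[A] N) (ℓ' : M' →ₗ[A] N')
    (h : ∀ m, eN (ℓ m) = ℓ' (eM m)) (hℓ : BCBij B ℓ') : BCBij B ℓ := by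
  refine bcBij_of_equiv eM.symm eN.symm ℓ' ℓ ?_ hℓ
  intro m
  rw [LinearEquiv.symm_apply_eq, h, LinearEquiv.apply_symm_apply]

end Transfer

variable {A B : Type u} [CommRing A] [CommRing B] [Algebra A B] [Module.Flat A B]

attribute [local instance 50] homModuleA
attribute [local instance 50] homModuleA'
attribute [local instance] FlatBC.preservesFiniteLimits_extendScalars_algebraMap

variable (B) in
/-- `H^0(E X) ≅ B ⊗ H^0(X)`, naturally. -/
noncomputable abbrev η : EE A B ⋙ homologyFunctor (ModuleCat.{u} B) 0 ≅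
    homologyFunctor (ModuleCat.{u} A) 0 ⋙ ModuleCat.extendScalars.{u, u, u} (algebraMap A B) :=
  HomNat.homologyNatIso (ModuleCat.extendScalars.{u, u, u} (algebraMap A B)) 0

lemma projective_extendScalars (P : ModuleCat.{u} A) [Projective P] :
    Projective ((ModuleCat.extendScalars.{u, u, u} (algebraMap A B)).obj P) :=
  (ModuleCat.extendRestrictScalarsAdj.{u, u, u} (algebraMap A B)).map_projective P inferInstance

section Base

variable (P : ModuleCat.{u} A) [Projective P] [Module.FinitePresentation A P] (Y : Dual.D A)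

/-- `Hom(P[0], Y) ≃ Hom(H^0(P[0]), H^0 Y)`. -/
noncomputable def eMbase : ((singleFunctor (ModuleCat.{u} A) 0).obj P ⟶ Y) ≃ₗ[A]
    ((homologyFunctor (ModuleCat.{u} A) 0).obj ((singleFunctor (ModuleCat.{u} A) 0).obj P) ⟶
      (homologyFunctor (ModuleCat.{u} A) 0).obj Y) :=
  LinearEquiv.ofBijective ((homologyFunctor (ModuleCat.{u} A) 0).mapLinearMap A)
    (ProjCorep.bijective_homologyMap P (Iso.refl _) Y)

/-- `Hom(E(P[0]), E Y) ≃ Hom(B ⊗ H^0(P[0]), B ⊗ H^0 Y)`. -/
noncomputable def eNbase :
    ((EE A B).obj ((singleFunctor (ModuleCat.{u} A) 0).obj P) ⟶ (EE A B).obj Y) ≃ₗ[B]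
    ((ModuleCat.extendScalars.{u, u, u} (algebraMap A B)).obj
        ((homologyFunctor (ModuleCat.{u} A) 0).obj ((singleFunctor (ModuleCat.{u} A) 0).obj P)) ⟶
      (ModuleCat.extendScalars.{u, u, u} (algebraMap A B)).obj
        ((homologyFunctor (ModuleCat.{u} A) 0).obj Y)) :=
  haveI := projective_extendScalars (B := B) P
  (LinearEquiv.ofBijective ((homologyFunctor (ModuleCat.{u} B) 0).mapLinearMap B)
    (ProjCorep.bijective_homologyMap
      ((ModuleCat.extendScalars.{u, u, u} (algebraMap A B)).obj P)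
      (((ModuleCat.extendScalars.{u, u, u} (algebraMap A B)).mapDerivedCategorySingleFunctor 0).app
        P) ((EE A B).obj Y))) ≪≫ₗ
  Linear.homCongr B ((η B).app ((singleFunctor (ModuleCat.{u} A) 0).obj P)) ((η B).app Y)

lemma eNbase_ℓ (g : (singleFunctor (ModuleCat.{u} A) 0).obj P ⟶ Y) :
    eNbase (B := B) P Y (ℓ (B := B) _ Y g) = ℓmod (B := B) _ _ (eMbase P Y g) := by
  have h := (η B).hom.naturality g
  dsimp only [Functor.comp_obj, Functor.comp_map] at h
  show ((η B).app _).inv ≫ (homologyFunctor (ModuleCat.{u} B) 0).map ((EE A B).map g) ≫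
    ((η B).app Y).hom = (ModuleCat.extendScalars.{u, u, u} (algebraMap A B)).map
      ((homologyFunctor (ModuleCat.{u} A) 0).map g)
  rw [Iso.app_hom, h, Iso.app_inv, Iso.inv_hom_id_app_assoc]

/-- **base case**: flat base change for `Hom(P[0], Y)`, `P` finite projective. -/
theorem BB_single_projective : BB B ((singleFunctor (ModuleCat.{u} A) 0).obj P) Y := by
  haveI : Module.FinitePresentation A ((homologyFunctor (ModuleCat.{u} A) 0).obj
      ((singleFunctor (ModuleCat.{u} A) 0).obj P)) :=
    let e : P ≃ₗ[A] ((homologyFunctor (ModuleCat.{u} A) 0).obj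
        ((singleFunctor (ModuleCat.{u} A) 0).obj P)) :=
      ((singleFunctorCompHomologyFunctorIso (ModuleCat.{u} A) 0).app P).toLinearEquiv.symm
    Module.FinitePresentation.of_equiv e
  exact bcBij_of_equiv' (eMbase P Y) (eNbase (B := B) P Y) _ _ (eNbase_ℓ P Y)
    (bcBij_ℓmod _ _)

end Base

end Groth.Agent.Lib.helper23.FBC
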