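import Mathlib
import Groth.Prelude.Def_Wider
import Groth.Prelude.Def_DDual2
import Groth.Agent.Lib.Helper23.FBC5

/-!
# Flat base change for `Hom`: finite modules over a Noetherian ring (helper23)

`B ⊗_A Hom_{D(A)}(M[0], Y[i]) ≃ Hom_{D(B)}(E(M[0]), E(Y[i]))` for `M` a finite module over the
Noetherian ring `A`, `B` flat over `A` and `Y` bounded below.
-/

set_option autoImplicit false
universe u
open CategoryTheory CategoryTheory.Limits DerivedCategory Pretriangulated TensorProduct

attribute [local instance] HasDerivedCategory.standard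

namespace Groth.Agent.Lib.helper23.FBC

variable {A B : Type u} [CommRing A] [CommRing B] [Algebra A B] [Module.Flat A B]

attribute [local instance 50] homModuleA
attribute [local instance] FlatBC.preservesFiniteLimits_extendScalars_algebraMap

/-- `M[0]`. -/
noncomputable abbrev sg (M : ModuleCat.{u} A) : Dual.D A :=
  (singleFunctor (ModuleCat.{u} A) 0).obj M

variable (B) in
lemma isGE_EE (Y : Dual.D A) (a : ℤ) [Y.IsGE a] : ((EE A B).obj Y).IsGE a := by
  rw [DerivedCategory.isGE_iff]
  intro i hi
  exact FlatBC.isZero_homology_extD _ Y i ((DerivedCategory.isGE_iff Y a).1 inferInstance i hi)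

variable (B) in
lemma isLE_EE (Y : Dual.D A) (a : ℤ) [Y.IsLE a] : ((EE A B).obj Y).IsLE a := by
  rw [DerivedCategory.isLE_iff]
  intro i hi
  exact FlatBC.isZero_homology_extD _ Y i ((DerivedCategory.isLE_iff Y a).1 inferInstance i hi)

lemma subsingleton_hom_of_isLE_of_isGE {R : Type u} [CommRing R] (X Y : Dual.D R) (b a : ℤ)
    [X.IsLE b] [Y.IsGE a] (h : b < a) : Subsingleton (X ⟶ Y) :=
  ⟨fun f g => by
    rw [(TStructure.t (C := ModuleCat.{u} R)).zero f b a h,
      (TStructure.t (C := ModuleCat.{u} R)).zero g b a h]⟩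

lemma BB_of_lt (X Y : Dual.D A) (a i : ℤ) [X.IsLE 0] [Y.IsGE a] (hi : i < a) :
    BB B X (Y⟦i⟧) := by
  haveI : (Y⟦i⟧).IsGE (a - i) :=
    (TStructure.t (C := ModuleCat.{u} A)).isGE_shift Y a i (a - i) (by omega)
  haveI := isGE_EE B (Y⟦i⟧) (a - i)
  haveI := isLE_EE B X 0
  haveI := subsingleton_hom_of_isLE_of_isGE X (Y⟦i⟧) 0 (a - i) (by omega)
  haveI := subsingleton_hom_of_isLE_of_isGE ((EE A B).obj X) ((EE A B).obj (Y⟦i⟧)) 0 (a - i)
    (by omega)
  exact bcBij_of_subsingleton _

/-- a finite module over a Noetherian ring is the cokernel of an injection from a finite module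
into a finite free module, as a distinguished triangle. -/
lemma exists_triangle [IsNoetherianRing A] (M : ModuleCat.{u} A) [Module.Finite A M] :
    ∃ (M' P : ModuleCat.{u} A) (f : sg M' ⟶ sg P) (g : sg P ⟶ sg M)
      (h : sg M ⟶ (sg M')⟦(1 : ℤ)⟧), Triangle.mk f g h ∈ distTriang (Dual.D A) ∧
      Module.Finite A M' ∧ Projective P ∧ Module.FinitePresentation A P := by
  obtain ⟨r, π, hπ⟩ := Module.Finite.exists_fin' A M
  let S : ShortComplex (ModuleCat.{u} A) :=
    ShortComplex.mk (ModuleCat.ofHom (LinearMap.ker π).subtype) (ModuleCat.ofHom π) (by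
      ext x
      exact x.2)
  have hS : S.ShortExact :=
    { exact := (ShortComplex.ShortExact.moduleCat_exact_iff_function_exact S).2
        (LinearMap.exact_subtype_ker_map π)
      mono_f := (ModuleCat.mono_iff_injective _).2 Subtype.val_injective
      epi_g := (ModuleCat.epi_iff_surjective _).2 hπ }
  refine ⟨S.X₁, S.X₂, _, _, _, hS.singleTriangle_distinguished, ?_, ?_, ?_⟩
  · exact inferInstanceAs (Module.Finite A (LinearMap.ker π))
  · exact (IsProjective.iff_projective (R := A) (P := (Fin r → A))).1 inferInstance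
  · exact inferInstanceAs (Module.FinitePresentation A (Fin r → A))

variable (B) in
/-- **flat base change for `Hom(M[0], Y[i])`**, `M` finite, `Y` bounded below. -/
theorem BB_single_finite [IsNoetherianRing A] (Y : Dual.D A) (a : ℤ) [Y.IsGE a] :
    ∀ (n : ℕ) (i : ℤ), i < a + n → ∀ (M : ModuleCat.{u} A), Module.Finite A M →
      BB B (sg M) (Y⟦i⟧)
  | 0, i, hi, M, _ => BB_of_lt (sg M) Y a i (by simpa using hi)
  | n + 1, i, hi, M, hM => by
    by_cases h : i < a + n
    · exact BB_single_finite Y a n i h M hM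
    · have hj : i - 1 < a + n := by push_cast at hi; omega
      have hij : i - 1 + 1 = i := by omega
      have IH : ∀ (M' : ModuleCat.{u} A), Module.Finite A M' → BB B (sg M') (Y⟦i - 1⟧) :=
        fun M' h' => BB_single_finite Y a n (i - 1) hj M' h'
      have BIall : ∀ (M : ModuleCat.{u} A), Module.Finite A M → BI B (sg M) (Y⟦i⟧) := by
        intro M hM
        obtain ⟨M', P, f, g, h, hT, h1, h2, h3⟩ := exists_triangle M
        exact BI_step Y (Triangle.mk f g h) hT hij (BB_single_projective P _).2 (IH M' h1).1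
          (BB_single_projective P _).1
      obtain ⟨M', P, f, g, h, hT, h1, h2, h3⟩ := exists_triangle M
      exact ⟨BIall M hM, BS_step Y (Triangle.mk f g h) hT hij (IH M' h1).2
        (BB_single_projective P _).2 (BIall M' h1)⟩

variable (B) in
theorem BB_single_finite' [IsNoetherianRing A] (Y : Dual.D A) (a : ℤ) [Y.IsGE a] (i : ℤ)
    (M : ModuleCat.{u} A) [Module.Finite A M] : BB B (sg M) (Y⟦i⟧) :=
  BB_single_finite B Y a (i - a + 1).toNat i (by omega) M inferInstance

end Groth.Agent.Lib.helper23.FBC
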