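import Mathlib
import Groth.Prelude.Def_Wider
import Groth.Prelude.Def_DDual2
import Groth.Agent.Lib.Helper23.FBC6
import Groth.Agent.Lib.Helper23.Devissage

/-!
# Flat base change for `Hom(X, Y)`, `X ∈ D^b_coh(A)`, `Y ∈ D^+(A)` (helper23)
-/

set_option autoImplicit false
universe u
open CategoryTheory CategoryTheory.Limits DerivedCategory Pretriangulated TensorProduct

attribute [local instance] HasDerivedCategory.standard

namespace Groth.Agent.Lib.helper23.FBC

variable {A B : Type u} [CommRing A] [CommRing B] [Algebra A B] [Module.Flat A B]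

attribute [local instance 50] homModuleA
attribute [local instance] FlatBC.preservesFiniteLimits_extendScalars_algebraMap

variable (B) in
/-- the property `∀ i, BB X (Y[i])`. -/
def PrY (Y : Dual.D A) (X : Dual.D A) : Prop := ∀ i : ℤ, BB B X (Y⟦i⟧)

lemma PrY.of_iso {Y X X' : Dual.D A} (e : X ≅ X') (h : PrY B Y X) : PrY B Y X' :=
  fun i => BB.of_iso e (Iso.refl _) (h i)

lemma PrY.of_isZero (Y : Dual.D A) {X : Dual.D A} (hX : IsZero X) : PrY B Y X := by
  intro i
  haveI : Subsingleton (X ⟶ Y⟦i⟧) := ⟨fun f g => hX.eq_of_src f g⟩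
  haveI : Subsingleton ((EE A B).obj X ⟶ (EE A B).obj (Y⟦i⟧)) :=
    ⟨fun f g => ((EE A B).map_isZero hX).eq_of_src f g⟩
  exact bcBij_of_subsingleton _

lemma PrY.shift {Y X : Dual.D A} (h : PrY B Y X) (n : ℤ) : PrY B Y (X⟦n⟧) := by
  intro i
  exact BB.of_iso (Iso.refl _) ((shiftFunctorAdd' (Dual.D A) (i - n) n i (by omega)).app Y).symm
    (BB.shift n (h (i - n)))

lemma PrY.ext {Y : Dual.D A} (T : Triangle (Dual.D A)) (hT : T ∈ distTriang _)
    (h₁ : PrY B Y T.obj₁) (h₃ : PrY B Y T.obj₃) : PrY B Y T.obj₂ := by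
  intro i
  have hT' := inv_rot_of_distTriang T hT
  have h₃' : PrY B Y T.invRotate.obj₁ := PrY.shift h₃ (-1)
  have hij : i - 1 + 1 = i := by omega
  exact ⟨BI_step Y T.invRotate hT' hij (h₁ (i - 1)).2 (h₃' (i - 1)).1 (h₁ i).1,
    BS_step Y T.invRotate hT' hij (h₃' (i - 1)).2 (h₁ i).2 (h₃' i).1⟩

variable (B) in
/-- **flat base change for `Hom` in the derived category**: `X` bounded with finite cohomology over
the Noetherian ring `A`, `Y` bounded below, `B` flat over `A`. -/
theorem BB_of_bounded_finite [IsNoetherianRing A] (X Y : Dual.D A) (a : ℤ) [Y.IsGE a]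
    (c d : ℤ) (hc : ∀ i : ℤ, i < c → IsZero ((homologyFunctor (ModuleCat.{u} A) i).obj X))
    (hd : ∀ i : ℤ, d < i → IsZero ((homologyFunctor (ModuleCat.{u} A) i).obj X))
    (hfin : ∀ i : ℤ, Module.Finite A ((homologyFunctor (ModuleCat.{u} A) i).obj X)) :
    BB B X Y := by
  have h : PrY B Y X := by
    refine Devissage.devissage_homology (PrY B Y) (fun _ _ e h => PrY.of_iso e h)
      (fun _ hX => PrY.of_isZero Y hX) (fun _ n h => PrY.shift h n)
      (fun T hT h₁ h₃ => PrY.ext T hT h₁ h₃) (d - c + 1).toNat d X hd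
      (fun i hi => hc i (by omega)) (fun i j => ?_)
    haveI := hfin i
    exact BB_single_finite' B Y a j _
  exact BB.of_iso (Iso.refl _) ((shiftFunctorZero (Dual.D A) ℤ).app Y) (h 0)

end Groth.Agent.Lib.helper23.FBC
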