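import Mathlib
import Groth.Prelude.Def_Wider
import Groth.Prelude.Def_DDual2
import Groth.Agent.Lib.Helper23.FBC7
import Groth.Agent.Lib.Helper23.BaerD

/-!
# Flat base change of dualizing complexes (helper23)

`isDualizing_EE`: for `A → B` flat between Noetherian rings such that every cyclic `B`-module is
extended from a finite `A`-module (e.g. a localization), `ω ⊗_A B` is dualizing if `ω` is.
-/

set_option autoImplicit false
universe u
open CategoryTheory CategoryTheory.Limits DerivedCategory Pretriangulated TensorProduct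

attribute [local instance] HasDerivedCategory.standard

namespace Groth.Agent.Lib.helper23.FBC

section Coh

variable {R : Type u} [CommRing R]

/-- `H^i(K) = 0` if `Hom(R[0], K[i]) = 0`. -/
lemma isZero_homology_of_subsingleton (K : Dual.D R) (i : ℤ)
    (h : Subsingleton (Dual.inD R R ⟶ K⟦i⟧)) :
    IsZero ((homologyFunctor (ModuleCat.{u} R) i).obj K) := by
  haveI : Projective (ModuleCat.of R R) :=
    (IsProjective.iff_projective (R := R) (P := R)).1 inferInstance
  have hb := ProjCorep.ν_bijective (ModuleCat.of R R) (K⟦i⟧)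
  haveI : Subsingleton (ModuleCat.of R R ⟶ (homologyFunctor (ModuleCat.{u} R) 0).obj (K⟦i⟧)) :=
    ⟨fun f g => by
      obtain ⟨f', rfl⟩ := hb.2 f
      obtain ⟨g', rfl⟩ := hb.2 g
      rw [Subsingleton.elim f' g']⟩
  have hz : IsZero ((homologyFunctor (ModuleCat.{u} R) 0).obj (K⟦i⟧)) := by
    rw [ModuleCat.isZero_iff_subsingleton]
    refine ⟨fun x y => ?_⟩
    have h1 : ModuleCat.ofHom (LinearMap.toSpanSingleton R _ x) =
        ModuleCat.ofHom (LinearMap.toSpanSingleton R _ y) := Subsingleton.elim _ _
    have h2 := congrArg (fun k => k.hom (1 : R)) h1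
    simpa using h2
  exact hz.of_iso (FlatBC.homologyShiftIso K i 0 i (by omega)).symm

lemma isGE_of_vanishing (K : Dual.D R) (a : ℤ)
    (h : ∀ i : ℤ, i < a → Subsingleton (Dual.inD R R ⟶ K⟦i⟧)) : K.IsGE a := by
  rw [DerivedCategory.isGE_iff]
  intro i hi
  exact isZero_homology_of_subsingleton K i (h i hi)

lemma isLE_of_vanishing (K : Dual.D R) (b : ℤ)
    (h : ∀ i : ℤ, b < i → Subsingleton (Dual.inD R R ⟶ K⟦i⟧)) : K.IsLE b := by
  rw [DerivedCategory.isLE_iff]
  intro i hi
  exact isZero_homology_of_subsingleton K i (h i hi)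

end Coh

variable {A B : Type u} [CommRing A] [CommRing B] [Algebra A B] [Module.Flat A B]

attribute [local instance 50] homModuleA
attribute [local instance] FlatBC.preservesFiniteLimits_extendScalars_algebraMap

lemma subsingleton_of_BS {X Y : Dual.D A} (h : BS B X Y) [Subsingleton (X ⟶ Y)] :
    Subsingleton ((EE A B).obj X ⟶ (EE A B).obj Y) := by
  haveI : Subsingleton (B ⊗[A] (X ⟶ Y)) := inferInstance
  exact Function.Surjective.subsingleton h

lemma subsingleton_tensor_of_BI {X Y : Dual.D A} (h : BI B X Y)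
    [Subsingleton ((EE A B).obj X ⟶ (EE A B).obj Y)] : Subsingleton (B ⊗[A] (X ⟶ Y)) :=
  Function.Injective.subsingleton h

section End

variable (B) (K : Dual.D A)

/-- `a ↦ a • 𝟙`. -/
noncomputable def θ : A →ₗ[A] (K ⟶ K) := LinearMap.toSpanSingleton A (K ⟶ K) (𝟙 K)

lemma θ_apply (a : A) : θ K a = a • 𝟙 K := rfl

lemma toEnd_eq (b : B) :
    b • 𝟙 ((EE A B).obj K) = (ℓ (B := B) K K).liftBaseChange B
      (((θ K).baseChange B) ((TensorProduct.AlgebraTensorModule.rid A B B).symm b)) := by
  rw [TensorProduct.AlgebraTensorModule.rid_symm_apply, LinearMap.baseChange_tmul,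
    LinearMap.liftBaseChange_tmul, θ_apply, one_smul, ℓ_apply, CategoryTheory.Functor.map_id]

lemma toEnd_bijective_iff (h : BB B K K) :
    Function.Bijective (fun b : B => b • 𝟙 ((EE A B).obj K)) ↔
      Function.Bijective ((θ K).baseChange B) := by
  have h1 : (fun b : B => b • 𝟙 ((EE A B).obj K)) =
      ((ℓ (B := B) K K).liftBaseChange B) ∘ ((θ K).baseChange B) ∘
        (TensorProduct.AlgebraTensorModule.rid A B B).symm := by
    funext b
    exact toEnd_eq B K b
  rw [h1]
  have h2 : Function.Bijective (TensorProduct.AlgebraTensorModule.rid A B B).symm :=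
    (TensorProduct.AlgebraTensorModule.rid A B B).symm.bijective
  constructor
  · intro h3
    have h4 := (Function.Bijective.of_comp_iff' h _).1 h3
    exact (Function.Bijective.of_comp_iff _ h2).1 h4
  · intro h3
    exact h.comp (h3.comp h2)

lemma toEnd_bijective_EE (h : BB B K K) (hK : Function.Bijective (fun a : A => a • 𝟙 K)) :
    Function.Bijective (fun b : B => b • 𝟙 ((EE A B).obj K)) := by
  rw [toEnd_bijective_iff B K h]
  exact (LinearEquiv.baseChange A B _ _ (LinearEquiv.ofBijective (θ K) hK)).bijective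

end End

end Groth.Agent.Lib.helper23.FBC
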