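import Mathlib
import Groth.Prelude.Def_Wider
import Groth.Prelude.Def_DDual2
import Groth.Agent.Lib.Helper23.FBC8

/-!
# Flat base change of dualizing complexes: the forward direction (helper23)
-/

set_option autoImplicit false
universe u
open CategoryTheory CategoryTheory.Limits DerivedCategory Pretriangulated TensorProduct

attribute [local instance] HasDerivedCategory.standard

namespace Groth.Agent.Lib.helper23.FBC

lemma subsingleton_hom_of_iso {C : Type*} [Category C] {X X' Y Y' : C} (eX : X ≅ X')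
    (eY : Y ≅ Y') [Subsingleton (X ⟶ Y)] : Subsingleton (X' ⟶ Y') :=
  ⟨fun f g => by
    have h : eX.hom ≫ f ≫ eY.inv = eX.hom ≫ g ≫ eY.inv := Subsingleton.elim _ _
    simpa using h⟩

variable {A B : Type u} [CommRing A] [CommRing B] [Algebra A B] [Module.Flat A B]

attribute [local instance 50] homModuleA
attribute [local instance] FlatBC.preservesFiniteLimits_extendScalars_algebraMap

variable (B) in
/-- `E(M[0]) ≅ (B ⊗ M)[0]`. -/
noncomputable def EEsingleIso (M : ModuleCat.{u} A) :
    (EE A B).obj (sg M) ≅ (singleFunctor (ModuleCat.{u} B) 0).obj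
      ((ModuleCat.extendScalars.{u, u, u} (algebraMap A B)).obj M) :=
  ((ModuleCat.extendScalars.{u, u, u} (algebraMap A B)).mapDerivedCategorySingleFunctor 0).app M

variable (B) in
/-- `E(K[i]) ≅ (E K)[i]`. -/
noncomputable def EEshiftIso (K : Dual.D A) (i : ℤ) :
    (EE A B).obj (K⟦i⟧) ≅ ((EE A B).obj K)⟦i⟧ :=
  ((EE A B).commShiftIso i).app K

/-- data extracted from a dualizing complex. -/
lemma exists_bounds {R : Type u} [CommRing R] (ω : Dual.D R) (hω : Dual.IsDualizing R ω) :
    ∃ a b : ℤ, a ≤ b ∧ ω.IsGE a ∧ ω.IsLE b ∧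
      ∀ (M : Type u) [AddCommGroup M] [Module R M] (i : ℤ), (i < a ∨ b < i) →
        Subsingleton (Dual.inD R M ⟶ ω⟦i⟧) := by
  obtain ⟨a₀, b₀, hv⟩ := hω.finite_injective_dimension
  have hv' : ∀ (M : Type u) [AddCommGroup M] [Module R M] (i : ℤ),
      (i < min a₀ b₀ ∨ max a₀ b₀ < i) → Subsingleton (Dual.inD R M ⟶ ω⟦i⟧) := by
    intro M _ _ i hi
    refine hv M i ?_
    rcases hi with hi | hi
    · exact Or.inl (lt_of_lt_of_le hi (min_le_left _ _))
    · exact Or.inr (lt_of_le_of_lt (le_max_right _ _) hi)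
  exact ⟨min a₀ b₀, max a₀ b₀, le_trans (min_le_left _ _) (le_max_left _ _),
    isGE_of_vanishing ω _ (fun i hi => hv' R i (Or.inl hi)),
    isLE_of_vanishing ω _ (fun i hi => hv' R i (Or.inr hi)), hv'⟩

variable (B) in
/-- **flat base change of dualizing complexes** when every cyclic `B`-module is extended from a
finite `A`-module. -/
theorem isDualizing_EE [IsNoetherianRing A] [IsNoetherianRing B]
    (hcyc : ∀ J' : Ideal B, ∃ M : ModuleCat.{u} A, Module.Finite A M ∧
      Nonempty (ModuleCat.of B (B ⧸ J') ≅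
        (ModuleCat.extendScalars.{u, u, u} (algebraMap A B)).obj M))
    (ω : Dual.D A) (hω : Dual.IsDualizing A ω) : Dual.IsDualizing B ((EE A B).obj ω) := by
  obtain ⟨a, b, hab, hGE, hLE, hv⟩ := exists_bounds ω hω
  haveI := hGE
  haveI := hLE
  have hfin := hω.finite_cohomology
  have hc : ∀ i : ℤ, i < a → IsZero ((homologyFunctor (ModuleCat.{u} A) i).obj ω) :=
    (DerivedCategory.isGE_iff ω a).1 inferInstance
  have hd : ∀ i : ℤ, b < i → IsZero ((homologyFunctor (ModuleCat.{u} A) i).obj ω) :=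
    (DerivedCategory.isLE_iff ω b).1 inferInstance
  haveI := isGE_EE B ω a
  haveI := isLE_EE B ω b
  refine ⟨inferInstance, ⟨a, b, fun N _ _ i hi => ⟨fun f g => ?_⟩⟩, ?_, ?_, ?_⟩
  · -- finite injective dimension, by Baer's criterion
    have key : ∀ (J' : Ideal B) (φ : (singleFunctor (ModuleCat.{u} B) 0).obj
        (ModuleCat.of B (B ⧸ J')) ⟶ ((EE A B).obj ω)⟦b + 1⟧), φ = 0 := by
      intro J' φ
      obtain ⟨M, hM, ⟨e⟩⟩ := hcyc J'
      haveI := hM
      haveI : Subsingleton (sg M ⟶ ω⟦b + 1⟧) := hv M (b + 1) (Or.inr (by omega))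
      haveI := subsingleton_of_BS (BB_single_finite' B ω a (b + 1) M).2
      haveI := subsingleton_hom_of_iso
        (EEsingleIso B M ≪≫ (singleFunctor (ModuleCat.{u} B) 0).mapIso e.symm)
        (EEshiftIso B ω (b + 1))
      exact Subsingleton.elim _ _
    rw [BaerD.hom_eq_zero_of_cyclic ((EE A B).obj ω) a b hab key (ModuleCat.of B N) i hi f,
      BaerD.hom_eq_zero_of_cyclic ((EE A B).obj ω) a b hab key (ModuleCat.of B N) i hi g]
  · intro i
    exact FlatBC.finite_homology_extD (algebraMap A B) ω i (hfin i)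
  · exact toEnd_bijective_EE B ω (BB_of_bounded_finite B ω ω a a b hc hd hfin)
      hω.toEnd_bijective
  · intro i hi
    haveI : (ω⟦i⟧).IsGE (a - i) :=
      (TStructure.t (C := ModuleCat.{u} A)).isGE_shift ω a i (a - i) (by omega)
    haveI := hω.ext_self_subsingleton i hi
    haveI := subsingleton_of_BS (BB_of_bounded_finite B ω (ω⟦i⟧) (a - i) a b hc hd hfin).2
    exact subsingleton_hom_of_iso (Iso.refl _) (EEshiftIso B ω i)

end Groth.Agent.Lib.helper23.FBC
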