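import Mathlib
import Groth.Prelude.Def_Wider
import Groth.Prelude.Def_DDual2
import Groth.Agent.Lib.Helper23.FBC9

/-!
# Dualizing complexes: invariance under isomorphism; localization (helper23)
-/

set_option autoImplicit false
universe u
open CategoryTheory CategoryTheory.Limits DerivedCategory Pretriangulated TensorProduct

attribute [local instance] HasDerivedCategory.standard

namespace Groth.Agent.Lib.helper23.FBC

lemma isDualizing_of_iso {R : Type u} [CommRing R] {ω ω' : Dual.D R} (e : ω ≅ ω')
    (hω : Dual.IsDualizing R ω) : Dual.IsDualizing R ω' := by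
  obtain ⟨a, b, hv⟩ := hω.finite_injective_dimension
  refine ⟨hω.isNoetherianRing, ⟨a, b, fun M _ _ i hi => ?_⟩, fun i => ?_, ?_, fun i hi => ?_⟩
  · haveI := hv M i hi
    exact subsingleton_hom_of_iso (Iso.refl _) ((shiftFunctor (Dual.D R) i).mapIso e)
  · haveI := hω.finite_cohomology i
    exact Module.Finite.equiv
      ((homologyFunctor (ModuleCat.{u} R) i).mapIso e).toLinearEquiv
  · have h1 : (fun r : R => r • 𝟙 ω') =
        (fun f : ω ⟶ ω => e.inv ≫ f ≫ e.hom) ∘ (fun r : R => r • 𝟙 ω) := by
      funext r
      simp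
    rw [h1]
    refine Function.Bijective.comp ?_ hω.toEnd_bijective
    refine ⟨fun f g hfg => ?_, fun f => ⟨e.hom ≫ f ≫ e.inv, by simp⟩⟩
    have h2 : e.hom ≫ (e.inv ≫ f ≫ e.hom) ≫ e.inv = e.hom ≫ (e.inv ≫ g ≫ e.hom) ≫ e.inv := by
      dsimp only at hfg
      rw [hfg]
    simpa using h2
  · haveI := hω.ext_self_subsingleton i hi
    exact subsingleton_hom_of_iso e ((shiftFunctor (Dual.D R) i).mapIso e)

section Loc

variable {A : Type u} [CommRing A] (B : Type u) [CommRing B] [Algebra A B]

/-- `B/JB ≅ B ⊗ A/J`. -/
noncomputable def quotMapIso (J : Ideal A) :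
    ModuleCat.of B (B ⧸ J.map (algebraMap A B)) ≅
      (ModuleCat.extendScalars.{u, u, u} (algebraMap A B)).obj (ModuleCat.of A (A ⧸ J)) :=
  ((Algebra.TensorProduct.quotIdealMapEquivTensorQuot B J).toLinearEquiv ≪≫ₗ
    (ExtSc.extendObjEquiv (B := B) (ModuleCat.of A (A ⧸ J))).symm).toModuleIso

lemma hcyc_of_map_comap
    (h : ∀ J' : Ideal B, (J'.comap (algebraMap A B)).map (algebraMap A B) = J')
    (J' : Ideal B) : ∃ M : ModuleCat.{u} A, Module.Finite A M ∧
      Nonempty (ModuleCat.of B (B ⧸ J') ≅
        (ModuleCat.extendScalars.{u, u, u} (algebraMap A B)).obj M) := by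
  refine ⟨ModuleCat.of A (A ⧸ J'.comap (algebraMap A B)),
    inferInstanceAs (Module.Finite A (A ⧸ J'.comap (algebraMap A B))), ⟨?_⟩⟩
  exact (Submodule.quotEquivOfEq _ _ (h J').symm).toModuleIso ≪≫
    quotMapIso B (J'.comap (algebraMap A B))

end Loc

attribute [local instance] FlatBC.preservesFiniteLimits_extendScalars_algebraMap

/-- S1775: derived base change of a dualizing complex to a localization is dualizing. -/
theorem isDualizing_LBaseChange_localization (A : Type u) [CommRing A] [IsNoetherianRing A]
    (S : Submonoid A) [DRing.HasLBaseChange (algebraMap A (Localization S))] (ω : Dual.D A)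
    (hω : Dual.IsDualizing A ω) :
    Dual.IsDualizing (Localization S)
      ((DRing.LBaseChange (algebraMap A (Localization S))).obj ω) := by
  haveI : Module.Flat A (Localization S) := IsLocalization.flat (Localization S) S
  haveI : IsNoetherianRing (Localization S) :=
    IsLocalization.isNoetherianRing S (Localization S) inferInstance
  have h := isDualizing_EE (Localization S)
    (hcyc_of_map_comap (Localization S) (fun J' => IsLocalization.map_under S (Localization S) J'))
    ω hω
  exact isDualizing_of_iso ((FlatBC.lbcIso (algebraMap A (Localization S))).app ω).symm h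

end Groth.Agent.Lib.helper23.FBC
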