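import Mathlib
import Groth.Prelude.Def_Wider
import Groth.Prelude.Def_DDual2
import Groth.Agent.Lib.Helper23.FBC10
import Groth.Agent.Lib.Helper23.BassD

/-!
# Flat base change of dualizing complexes via the Bass criterion (helper23)

`isDualizing_EE_of_maximal`: `A → B` flat, both Noetherian, every residue field `B/m'` of `B`
extended from a finite `A`-module ⇒ `ω ⊗_A B` is dualizing if `ω` is.
-/

set_option autoImplicit false
universe u
open CategoryTheory CategoryTheory.Limits DerivedCategory Pretriangulated TensorProduct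

attribute [local instance] HasDerivedCategory.standard

namespace Groth.Agent.Lib.helper23.FBC

section BassBaer

variable {R : Type u} [CommRing R] [IsNoetherianRing R]

/-- **Bass + Baer**: for `K ∈ D^+_coh(R)`, finite injective dimension can be tested on the residue
fields of the maximal ideals. -/
theorem hinj_of_maximal (K : Dual.D R) (a n : ℤ) [K.IsGE a]
    (hfin : ∀ j : ℤ, Module.Finite R ((homologyFunctor (ModuleCat.{u} R) j).obj K))
    (hmax : ∀ m : Ideal R, m.IsMaximal → ∀ i : ℤ, n < i →
      Subsingleton (sg (ModuleCat.of R (R ⧸ m)) ⟶ K⟦i⟧))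
    (M : Type u) [AddCommGroup M] [Module R M] (i : ℤ) (hi : i < a ∨ max a n < i) :
    Subsingleton (Dual.inD R M ⟶ K⟦i⟧) := by
  have hKa : ∀ j : ℤ, j < a → IsZero ((homologyFunctor (ModuleCat.{u} R) j).obj K) :=
    (DerivedCategory.isGE_iff K a).1 inferInstance
  have hPB : ∀ (N : ModuleCat.{u} R) [Module.Finite R N], BassD.PB K n N := fun N _ =>
    BassD.PB_of_maximal' a hKa hfin (fun m hm i hi φ => (hmax m hm i hi).elim _ _) N
  haveI : K.IsLE (max a n) := by
    refine isLE_of_vanishing K _ (fun j hj => ⟨fun f g => ?_⟩)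
    haveI : Module.Finite R (ModuleCat.of R R) := inferInstanceAs (Module.Finite R R)
    rw [hPB (ModuleCat.of R R) j (lt_of_le_of_lt (le_max_right a n) hj) f,
      hPB (ModuleCat.of R R) j (lt_of_le_of_lt (le_max_right a n) hj) g]
  have key : ∀ (J : Ideal R) (φ : (singleFunctor (ModuleCat.{u} R) 0).obj
      (ModuleCat.of R (R ⧸ J)) ⟶ K⟦max a n + 1⟧), φ = 0 := by
    intro J φ
    haveI : Module.Finite R (ModuleCat.of R (R ⧸ J)) := inferInstanceAs (Module.Finite R (R ⧸ J))
    exact hPB (ModuleCat.of R (R ⧸ J)) _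
      (lt_of_le_of_lt (le_max_right a n) (lt_add_one _)) φ
  exact ⟨fun f g => by
    rw [BaerD.hom_eq_zero_of_cyclic K a (max a n) (le_max_left a n) key (ModuleCat.of R M) i hi f,
      BaerD.hom_eq_zero_of_cyclic K a (max a n) (le_max_left a n) key (ModuleCat.of R M) i hi g]⟩

end BassBaer

variable {A B : Type u} [CommRing A] [CommRing B] [Algebra A B] [Module.Flat A B]

attribute [local instance 50] homModuleA
attribute [local instance] FlatBC.preservesFiniteLimits_extendScalars_algebraMap

variable (B) in
/-- **flat base change of dualizing complexes** when every residue field of `B` at a maximal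
ideal is extended from a finite `A`-module. -/
theorem isDualizing_EE_of_maximal [IsNoetherianRing A] [IsNoetherianRing B]
    (hmax : ∀ m' : Ideal B, m'.IsMaximal → ∃ M : ModuleCat.{u} A, Module.Finite A M ∧
      Nonempty (ModuleCat.of B (B ⧸ m') ≅
        (ModuleCat.extendScalars.{u, u, u} (algebraMap A B)).obj M))
    (ω : Dual.D A) (hω : Dual.IsDualizing A ω) : Dual.IsDualizing B ((EE A B).obj ω) := by
  obtain ⟨a, b, hab, hGE, hLE, hv⟩ := exists_bounds ω hω
  haveI := hGE
  haveI := hLE
  have hfin := hω.finite_cohomology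
  have hc : ∀ i : ℤ, i < a → IsZero ((homologyFunctor (ModuleCat.{u} A) i).obj ω) :=
    (DerivedCategory.isGE_iff ω a).1 inferInstance
  have hd : ∀ i : ℤ, b < i → IsZero ((homologyFunctor (ModuleCat.{u} A) i).obj ω) :=
    (DerivedCategory.isLE_iff ω b).1 inferInstance
  haveI := isGE_EE B ω a
  have hfinE : ∀ i : ℤ, Module.Finite B
      ((homologyFunctor (ModuleCat.{u} B) i).obj ((EE A B).obj ω)) := fun i =>
    FlatBC.finite_homology_extD (algebraMap A B) ω i (hfin i)
  refine ⟨inferInstance, ⟨a, max a b, fun N _ _ i hi => ?_⟩, hfinE, ?_, ?_⟩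
  · -- finite injective dimension, by the Bass and Baer criteria
    refine hinj_of_maximal ((EE A B).obj ω) a b hfinE (fun m' hm' i hi => ?_) N i hi
    obtain ⟨M, hM, ⟨e⟩⟩ := hmax m' hm'
    haveI := hM
    haveI : Subsingleton (sg M ⟶ ω⟦i⟧) := hv M i (Or.inr hi)
    haveI := subsingleton_of_BS (BB_single_finite' B ω a i M).2
    exact subsingleton_hom_of_iso
      (EEsingleIso B M ≪≫ (singleFunctor (ModuleCat.{u} B) 0).mapIso e.symm)
      (EEshiftIso B ω i)
  · exact toEnd_bijective_EE B ω (BB_of_bounded_finite B ω ω a a b hc hd hfin)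
      hω.toEnd_bijective
  · intro i hi
    haveI : (ω⟦i⟧).IsGE (a - i) :=
      (TStructure.t (C := ModuleCat.{u} A)).isGE_shift ω a i (a - i) (by omega)
    haveI := hω.ext_self_subsingleton i hi
    haveI := subsingleton_of_BS (BB_of_bounded_finite B ω (ω⟦i⟧) (a - i) a b hc hd hfin).2
    exact subsingleton_hom_of_iso (Iso.refl _) (EEshiftIso B ω i)

end Groth.Agent.Lib.helper23.FBC
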