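import Mathlib
import Groth.Prelude.Def_Wider
import Groth.Prelude.Def_DDual2
import Groth.Agent.Lib.Helper23.FBC15
import Groth.Agent.Lib.Helper23.BassD2

/-!
# Flat base change of dualizing complexes: reduction to finite injective dimension (helper23)
-/

set_option autoImplicit false
universe u
open CategoryTheory CategoryTheory.Limits DerivedCategory Pretriangulated TensorProduct

attribute [local instance] HasDerivedCategory.standard

namespace Groth.Agent.Lib.helper23.FBC

section Baer

variable {R : Type u} [CommRing R]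

/-- **Baer**: finite injective dimension from vanishing on finite modules. -/
theorem hinj_of_PB (K : Dual.D R) (a n : ℤ) [K.IsGE a]
    (hPB : ∀ (N : ModuleCat.{u} R) [Module.Finite R N], BassD.PB K n N)
    (M : Type u) [AddCommGroup M] [Module R M] (i : ℤ) (hi : i < a ∨ max a n < i) :
    Subsingleton (Dual.inD R M ⟶ K⟦i⟧) := by
  haveI : K.IsLE (max a n) := by
    refine isLE_of_vanishing K _ (fun j hj => ⟨fun f g => ?_⟩)
    haveI : Module.Finite R (ModuleCat.of R R) := inferInstanceAs (Module.Finite R R)
    rw [hPB (ModuleCat.of R R) j (lt_of_le_of_lt (le_max_right a n) hj) f,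
      hPB (ModuleCat.of R R) j (lt_of_le_of_lt (le_max_right a n) hj) g]
  have key : ∀ (J : Ideal R) (φ : (singleFunctor (ModuleCat.{u} R) 0).obj
      (ModuleCat.of R (R ⧸ J)) ⟶ K⟦max a n + 1⟧), φ = 0 := by
    intro J φ
    haveI : Module.Finite R (ModuleCat.of R (R ⧸ J)) := inferInstanceAs (Module.Finite R (R ⧸ J))
    exact hPB (ModuleCat.of R (R ⧸ J)) _
      (lt_of_le_of_lt (le_max_right a n) (lt_add_one _)) φ
  exact ⟨fun f g => by
    rw [BaerD.hom_eq_zero_of_cyclic K a (max a n) (le_max_left a n) key (ModuleCat.of R M) i hi f,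
      BaerD.hom_eq_zero_of_cyclic K a (max a n) (le_max_left a n) key (ModuleCat.of R M) i hi g]⟩

end Baer

variable {A B : Type u} [CommRing A] [CommRing B] [Algebra A B] [Module.Flat A B]

attribute [local instance 50] homModuleA
attribute [local instance] FlatBC.preservesFiniteLimits_extendScalars_algebraMap

variable (B) in
/-- flat base change of a dualizing complex is dualizing as soon as it has finite injective
dimension. -/
theorem isDualizing_EE_of_hinj [IsNoetherianRing A] [IsNoetherianRing B]
    (ω : Dual.D A) (hω : Dual.IsDualizing A ω)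
    (hinj : ∃ a b : ℤ, ∀ (N : Type u) [AddCommGroup N] [Module B N] (i : ℤ),
      (i < a ∨ b < i) → Subsingleton (Dual.inD B N ⟶ ((EE A B).obj ω)⟦i⟧)) :
    Dual.IsDualizing B ((EE A B).obj ω) := by
  obtain ⟨a, b, hab, hGE, hLE, hv⟩ := exists_bounds ω hω
  haveI := hGE
  haveI := hLE
  have hfin := hω.finite_cohomology
  have hc : ∀ i : ℤ, i < a → IsZero ((homologyFunctor (ModuleCat.{u} A) i).obj ω) :=
    (DerivedCategory.isGE_iff ω a).1 inferInstance
  have hd : ∀ i : ℤ, b < i → IsZero ((homologyFunctor (ModuleCat.{u} A) i).obj ω) :=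
    (DerivedCategory.isLE_iff ω b).1 inferInstance
  refine ⟨inferInstance, hinj, fun i =>
    FlatBC.finite_homology_extD (algebraMap A B) ω i (hfin i), ?_, ?_⟩
  · exact toEnd_bijective_EE B ω (BB_of_bounded_finite B ω ω a a b hc hd hfin)
      hω.toEnd_bijective
  · intro i hi
    haveI : (ω⟦i⟧).IsGE (a - i) :=
      (TStructure.t (C := ModuleCat.{u} A)).isGE_shift ω a i (a - i) (by omega)
    haveI := hω.ext_self_subsingleton i hi
    haveI := subsingleton_of_BS (BB_of_bounded_finite B ω (ω⟦i⟧) (a - i) a b hc hd hfin).2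
    exact subsingleton_hom_of_iso (Iso.refl _) (EEshiftIso B ω i)

variable (B) in
/-- `PB` for extended modules, from flat base change. -/
lemma PB_EE_extend [IsNoetherianRing A] (K : Dual.D A) (a n : ℤ) [K.IsGE a]
    (M : ModuleCat.{u} A) [Module.Finite A M] (hM : BassD.PB K n M)
    (N : ModuleCat.{u} B)
    (e : N ≅ (ModuleCat.extendScalars.{u, u, u} (algebraMap A B)).obj M) :
    BassD.PB ((EE A B).obj K) n N := by
  intro i hi φ
  haveI : Subsingleton (sg M ⟶ K⟦i⟧) := ⟨fun f g => by rw [hM i hi f, hM i hi g]⟩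
  haveI := subsingleton_of_BS (BB_single_finite' B K a i M).2
  haveI := subsingleton_hom_of_iso
    (EEsingleIso B M ≪≫ (singleFunctor (ModuleCat.{u} B) 0).mapIso e.symm)
    (EEshiftIso B K i)
  exact Subsingleton.elim _ _

end Groth.Agent.Lib.helper23.FBC
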