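import Mathlib
import Groth.Prelude.Def_Wider
import Groth.Prelude.Def_DDual2
import Groth.Agent.Lib.Helper23.DimFn1
import Groth.Agent.Lib.Helper23.FBC18
import Groth.Agent.Lib.Helper23.DualD8

/-!
# The dimension function of a (pointwise) dualizing complex (helper23)

`A` Noetherian, `K ∈ D^+_coh(A)` such that `K_q` is dualizing over `A_q` for all primes `q`.
`Zloc K q M i` says that `Hom(M[0], K[i])_q = 0`.  For every prime `q` there is exactly one `n_q`
with `¬ Zloc K q (A/q) n_q`, and `n_p = n_q - 1` if `q` covers `p`.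
-/

set_option autoImplicit false
universe u
open CategoryTheory CategoryTheory.Limits DerivedCategory Pretriangulated TensorProduct

attribute [local instance] HasDerivedCategory.standard

namespace Groth.Agent.Lib.helper23.DimFn

open Groth.Agent.Lib.helper23.FBC

attribute [local instance 50] homModuleA
attribute [local instance] FlatBC.preservesFiniteLimits_extendScalars_algebraMap

variable {A : Type u} [CommRing A]

/-- `Hom(M[0], K[i])_q = 0`. -/
def Zloc (K : Dual.D A) (q : Ideal A) (M : ModuleCat.{u} A) (i : ℤ) : Prop :=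
  ∀ t : FBC.sg M ⟶ K⟦i⟧, ∃ s : A, s ∉ q ∧ s • t = 0

lemma Zloc.mono {K : Dual.D A} {p q : Ideal A} (hpq : p ≤ q) {M : ModuleCat.{u} A} {i : ℤ}
    (h : Zloc K q M i) : Zloc K p M i := fun t => by
  obtain ⟨s, hs, hst⟩ := h t
  exact ⟨s, fun hsp => hs (hpq hsp), hst⟩

lemma subsingleton_tensor_atPrime_iff (q : Ideal A) [q.IsPrime] (T : Type*) [AddCommGroup T]
    [Module A T] :
    Subsingleton (Localization.AtPrime q ⊗[A] T) ↔ ∀ t : T, ∃ s : A, s ∉ q ∧ s • t = 0 := by
  constructor
  · intro h t
    have h0 : (TensorProduct.mk A (Localization.AtPrime q) T 1) t = 0 := Subsingleton.elim _ _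
    obtain ⟨⟨s, hs⟩, hc⟩ :=
      (IsLocalizedModule.eq_zero_iff q.primeCompl
        (TensorProduct.mk A (Localization.AtPrime q) T 1)).1 h0
    exact ⟨s, hs, hc⟩
  · intro h
    have key : ∀ z : Localization.AtPrime q ⊗[A] T, z = 0 := by
      intro z
      induction z using TensorProduct.induction_on with
      | zero => rfl
      | tmul b t =>
        obtain ⟨s, hs, hst⟩ := h t
        have hu : IsUnit (algebraMap A (Localization.AtPrime q) s) :=
          IsLocalization.map_units (Localization.AtPrime q) (⟨s, hs⟩ : q.primeCompl)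
        obtain ⟨c, hc⟩ := hu.exists_right_inv
        have h1 : b ⊗ₜ[A] t = (b * c) ⊗ₜ[A] (s • t) := by
          rw [TensorProduct.tmul_smul, TensorProduct.smul_tmul', Algebra.smul_def,
            mul_comm b c, ← mul_assoc, hc, one_mul]
        rw [h1, hst, TensorProduct.tmul_zero]
      | add x y hx hy => rw [hx, hy, add_zero]
    exact ⟨fun x y => by rw [key x, key y]⟩

section Transport

variable [IsNoetherianRing A]

/-- `Hom(M[0], K[i])_q = 0` iff `Hom((M_q)[0], K_q[i]) = 0`. -/
lemma Zloc_iff_subsingleton (K : Dual.D A) (a : ℤ) [K.IsGE a] (q : Ideal A) [q.IsPrime]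
    (M : ModuleCat.{u} A) [Module.Finite A M] (i : ℤ) :
    Zloc K q M i ↔
      Subsingleton ((EE A (Localization.AtPrime q)).obj (FBC.sg M) ⟶
        (EE A (Localization.AtPrime q)).obj (K⟦i⟧)) := by
  haveI : Module.Flat A (Localization.AtPrime q) :=
    IsLocalization.flat (Localization.AtPrime q) q.primeCompl
  have hBB := BB_single_finite' (Localization.AtPrime q) K a i M
  rw [Zloc, ← subsingleton_tensor_atPrime_iff q (FBC.sg M ⟶ K⟦i⟧)]
  constructor
  · intro h
    exact Function.Surjective.subsingleton hBB.2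
  · intro h
    exact Function.Injective.subsingleton hBB.1

/-- the same, in terms of `B/pB`. -/
lemma Zloc_iff_VZ (K : Dual.D A) (a : ℤ) [K.IsGE a] (q : Ideal A) [q.IsPrime]
    (p : Ideal A) (i : ℤ) :
    Zloc K q (ModuleCat.of A (A ⧸ p)) i ↔
      VZ ((EE A (Localization.AtPrime q)).obj K) i
        (ModuleCat.of (Localization.AtPrime q)
          (Localization.AtPrime q ⧸ p.map (algebraMap A (Localization.AtPrime q)))) := by
  haveI : Module.Flat A (Localization.AtPrime q) :=
    IsLocalization.flat (Localization.AtPrime q) q.primeCompl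
  haveI : Module.Finite A (ModuleCat.of A (A ⧸ p)) := inferInstanceAs (Module.Finite A (A ⧸ p))
  rw [Zloc_iff_subsingleton K a q (ModuleCat.of A (A ⧸ p)) i]
  let eX : (EE A (Localization.AtPrime q)).obj (FBC.sg (ModuleCat.of A (A ⧸ p))) ≅
      BassD.sg (ModuleCat.of (Localization.AtPrime q)
        (Localization.AtPrime q ⧸ p.map (algebraMap A (Localization.AtPrime q)))) :=
    EEsingleIso (Localization.AtPrime q) (ModuleCat.of A (A ⧸ p)) ≪≫
      (singleFunctor (ModuleCat.{u} (Localization.AtPrime q)) 0).mapIso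
        (quotMapIso (Localization.AtPrime q) p).symm
  let eY := EEshiftIso (Localization.AtPrime q) K i
  constructor
  · intro h φ
    haveI := subsingleton_hom_of_iso eX eY
    exact Subsingleton.elim _ _
  · intro h
    haveI : Subsingleton (BassD.sg (ModuleCat.of (Localization.AtPrime q)
        (Localization.AtPrime q ⧸ p.map (algebraMap A (Localization.AtPrime q)))) ⟶
        ((EE A (Localization.AtPrime q)).obj K)⟦i⟧) := ⟨fun f g => by rw [h f, h g]⟩
    exact subsingleton_hom_of_iso eX.symm eY.symm

end Transport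

section Main

variable [IsNoetherianRing A]

lemma flat_atPrime (q : Ideal A) [q.IsPrime] : Module.Flat A (Localization.AtPrime q) :=
  IsLocalization.flat (Localization.AtPrime q) q.primeCompl

attribute [local instance] flat_atPrime

/-- the degree `n_q`. -/
theorem exists_nq (K : Dual.D A) (a : ℤ) [K.IsGE a] (q : Ideal A) [q.IsPrime]
    (hq : Dual.IsDualizing (Localization.AtPrime q) ((EE A (Localization.AtPrime q)).obj K)) :
    ∃ n : ℤ, ∀ i : ℤ, Zloc K q (ModuleCat.of A (A ⧸ q)) i ↔ i ≠ n := by
  haveI : IsNoetherianRing (Localization.AtPrime q) := hq.isNoetherianRing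
  obtain ⟨n, h1, ⟨e⟩⟩ := DualD.ext_residue_single_degree _ hq
    (IsLocalRing.maximalIdeal (Localization.AtPrime q))
  have hmap : q.map (algebraMap A (Localization.AtPrime q)) =
      IsLocalRing.maximalIdeal (Localization.AtPrime q) :=
    Localization.AtPrime.map_eq_maximalIdeal
  refine ⟨n, fun i => ?_⟩
  rw [Zloc_iff_VZ K a q q i, hmap]
  constructor
  · intro h hin
    subst hin
    haveI : Nontrivial (Localization.AtPrime q ⧸
        IsLocalRing.maximalIdeal (Localization.AtPrime q)) :=
      Ideal.Quotient.nontrivial_iff.2 (Ideal.IsPrime.ne_top inferInstance)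
    obtain ⟨x, hx⟩ := exists_ne (0 : Localization.AtPrime q ⧸
        IsLocalRing.maximalIdeal (Localization.AtPrime q))
    apply hx
    have h2 : e.symm x = 0 := h _
    rw [← e.apply_symm_apply x, h2, map_zero]
  · intro hin φ
    haveI := h1 i hin
    exact Subsingleton.elim _ _

/-- the covering step. -/
theorem Zloc_of_covBy (K : Dual.D A) (a : ℤ) [K.IsGE a]
    (hfin : ∀ j : ℤ, Module.Finite A ((homologyFunctor (ModuleCat.{u} A) j).obj K))
    (p q : Ideal A) [hp : p.IsPrime] [q.IsPrime] (hpq : p < q)
    (hcov : ∀ p' : Ideal A, p'.IsPrime → p < p' → p' ≤ q → p' = q)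
    (n : ℤ) (hn : ∀ i : ℤ, i ≠ n → Zloc K q (ModuleCat.of A (A ⧸ q)) i)
    (i : ℤ) (hi : i ≠ n - 1) : Zloc K q (ModuleCat.of A (A ⧸ p)) i := by
  haveI : IsNoetherianRing (Localization.AtPrime q) :=
    IsLocalization.isNoetherianRing q.primeCompl (Localization.AtPrime q) inferInstance
  have hmap : q.map (algebraMap A (Localization.AtPrime q)) =
      IsLocalRing.maximalIdeal (Localization.AtPrime q) :=
    Localization.AtPrime.map_eq_maximalIdeal
  have hdisj : Disjoint (q.primeCompl : Set A) (p : Set A) :=
    Set.disjoint_left.2 (fun x hx hxp => hx (hpq.le hxp))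
  haveI hPprime : (p.map (algebraMap A (Localization.AtPrime q))).IsPrime :=
    IsLocalization.isPrime_of_isPrime_disjoint q.primeCompl (Localization.AtPrime q) p hp hdisj
  have hcomapP : (p.map (algebraMap A (Localization.AtPrime q))).comap
      (algebraMap A (Localization.AtPrime q)) = p :=
    IsLocalization.under_map_of_isPrime_disjoint q.primeCompl (Localization.AtPrime q) hp hdisj
  have hcomapm : (IsLocalRing.maximalIdeal (Localization.AtPrime q)).comap
      (algebraMap A (Localization.AtPrime q)) = q :=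
    IsLocalization.AtPrime.under_maximalIdeal (Localization.AtPrime q) q
  rw [Zloc_iff_VZ K a q p i]
  haveI := isGE_EE (Localization.AtPrime q) K a
  refine VZ_of_covBy (A := Localization.AtPrime q) a
    ((DerivedCategory.isGE_iff _ a).1 inferInstance)
    (fun j => FlatBC.finite_homology_extD (algebraMap A (Localization.AtPrime q)) K j (hfin j))
    n (fun j hj => ?_) (p.map (algebraMap A (Localization.AtPrime q))) (fun h => ?_)
    (fun p' hp' hlt => ?_) i hi
  · have := (Zloc_iff_VZ K a q q j).1 (hn j hj)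
    rwa [hmap] at this
  · apply hpq.ne
    rw [← hcomapP, h, hcomapm]
  · haveI := hp'
    have h1 : p ≤ p'.comap (algebraMap A (Localization.AtPrime q)) := by
      rw [← hcomapP]
      exact Ideal.comap_mono hlt.le
    have hmc : (p'.comap (algebraMap A (Localization.AtPrime q))).map
        (algebraMap A (Localization.AtPrime q)) = p' :=
      IsLocalization.map_under q.primeCompl (Localization.AtPrime q) p'
    have h2 : p ≠ p'.comap (algebraMap A (Localization.AtPrime q)) := by
      intro h
      apply hlt.ne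
      rw [h, hmc]
    have h3 : p'.comap (algebraMap A (Localization.AtPrime q)) ≤ q :=
      le_of_le_of_eq
        (Ideal.comap_mono (IsLocalRing.le_maximalIdeal (Ideal.IsPrime.ne_top hp'))) hcomapm
    have h4 := hcov _ (Ideal.comap_isPrime _ p') (lt_of_le_of_ne h1 h2) h3
    rw [← hmc, h4, hmap]

/-- `n_p = n_q - 1` when `q` covers `p`. -/
theorem nq_covBy (K : Dual.D A) (a : ℤ) [K.IsGE a]
    (hfin : ∀ j : ℤ, Module.Finite A ((homologyFunctor (ModuleCat.{u} A) j).obj K))
    (p q : Ideal A) [hp : p.IsPrime] [q.IsPrime] (hpq : p < q)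
    (hcov : ∀ p' : Ideal A, p'.IsPrime → p < p' → p' ≤ q → p' = q)
    (np nq : ℤ) (hnp : ∀ i : ℤ, Zloc K p (ModuleCat.of A (A ⧸ p)) i ↔ i ≠ np)
    (hnq : ∀ i : ℤ, Zloc K q (ModuleCat.of A (A ⧸ q)) i ↔ i ≠ nq) : np = nq - 1 := by
  by_contra h
  have h1 := Zloc_of_covBy K a hfin p q hpq hcov nq (fun i hi => (hnq i).2 hi) np h
  exact (hnp np).1 (h1.mono hpq.le) rfl

end Main

end Groth.Agent.Lib.helper23.DimFn
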