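import Mathlib
import Groth.Prelude.Def_Wider
import Groth.Prelude.Def_DDual2
import Groth.Agent.Lib.Helper23.DimFn2
import Groth.Agent.Lib.Helper23.FBC10

/-!
# The dimension function of a dualizing complex (helper23)
-/

set_option autoImplicit false
universe u
open CategoryTheory CategoryTheory.Limits DerivedCategory Pretriangulated TensorProduct

attribute [local instance] HasDerivedCategory.standard

namespace Groth.Agent.Lib.helper23.DimFn

open Groth.Agent.Lib.helper23.FBC

attribute [local instance 50] homModuleA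
attribute [local instance] FlatBC.preservesFiniteLimits_extendScalars_algebraMap
attribute [local instance] flat_atPrime

variable {A : Type u} [CommRing A] [IsNoetherianRing A]

/-- localizations of a dualizing complex are dualizing (`E`-version). -/
theorem isDualizing_EE_atPrime (ω : Dual.D A) (hω : Dual.IsDualizing A ω) (q : Ideal A)
    [q.IsPrime] :
    Dual.IsDualizing (Localization.AtPrime q) ((EE A (Localization.AtPrime q)).obj ω) := by
  haveI : IsNoetherianRing (Localization.AtPrime q) :=
    IsLocalization.isNoetherianRing q.primeCompl (Localization.AtPrime q) inferInstance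
  exact isDualizing_EE (Localization.AtPrime q)
    (hcyc_of_map_comap (Localization.AtPrime q)
      (fun J' => IsLocalization.map_under q.primeCompl (Localization.AtPrime q) J')) ω hω

/-- `Zloc` in terms of `LocalizedModule`. -/
lemma Zloc_iff_localizedModule (K : Dual.D A) (q : Ideal A) [q.IsPrime] (M : ModuleCat.{u} A)
    (i : ℤ) :
    Zloc K q M i ↔ Subsingleton (LocalizedModule q.primeCompl (FBC.sg M ⟶ K⟦i⟧)) := by
  rw [LocalizedModule.subsingleton_iff]
  constructor
  · intro h t
    obtain ⟨s, hs, hst⟩ := h t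
    exact ⟨s, hs, hst⟩
  · intro h t
    obtain ⟨s, hs, hst⟩ := h t
    exact ⟨s, hs, hst⟩

/-- the general form: pointwise dualizing complexes have a dimension function. -/
theorem exists_dimension_function_of_pointwise (K : Dual.D A) (a : ℤ) [K.IsGE a]
    (hfin : ∀ j : ℤ, Module.Finite A ((homologyFunctor (ModuleCat.{u} A) j).obj K))
    (hloc : ∀ (q : Ideal A) [q.IsPrime],
      Dual.IsDualizing (Localization.AtPrime q) ((EE A (Localization.AtPrime q)).obj K)) :
    ∃ n : PrimeSpectrum A → ℤ,
      (∀ (p : PrimeSpectrum A) (i : ℤ),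
        Zloc K p.asIdeal (ModuleCat.of A (A ⧸ p.asIdeal)) i ↔ i ≠ n p) ∧
      ∀ p q : PrimeSpectrum A, p ⋖ q → n p = n q - 1 := by
  choose n hn using fun p : PrimeSpectrum A => exists_nq K a p.asIdeal (hloc p.asIdeal)
  refine ⟨n, hn, fun p q hpq => ?_⟩
  refine nq_covBy K a hfin p.asIdeal q.asIdeal (PrimeSpectrum.asIdeal_lt_asIdeal p q |>.2 hpq.lt)
    (fun p' hp' hlt hle => ?_) (n p) (n q) (hn p) (hn q)
  let c : PrimeSpectrum A := ⟨p', hp'⟩
  have h1 : p < c := (PrimeSpectrum.asIdeal_lt_asIdeal p c).1 hlt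
  have h2 : c ≤ q := (PrimeSpectrum.asIdeal_le_asIdeal c q).1 hle
  have h3 : ¬ c < q := hpq.2 h1
  have h4 : c = q := eq_of_le_of_not_lt h2 h3
  exact congrArg PrimeSpectrum.asIdeal h4

/-- S1722. -/
theorem exists_dimension_function (ω : Dual.D A) (hω : Dual.IsDualizing A ω) :
    ∃ δ : PrimeSpectrum A → ℤ,
      (∀ (p : PrimeSpectrum A) (i : ℤ),
        Nontrivial (LocalizedModule p.asIdeal.primeCompl
          (Dual.inD A (A ⧸ p.asIdeal) ⟶ ω⟦i⟧)) ↔ i = -δ p) ∧
      ∀ p q : PrimeSpectrum A, p ⋖ q → δ p = δ q + 1 := by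
  obtain ⟨a, b, hab, hGE, hLE, hv⟩ := exists_bounds ω hω
  haveI := hGE
  obtain ⟨n, hn1, hn2⟩ := exists_dimension_function_of_pointwise ω a hω.finite_cohomology
    (fun q _ => isDualizing_EE_atPrime ω hω q)
  refine ⟨fun p => -n p, fun p i => ?_, fun p q hpq => ?_⟩
  · rw [neg_neg, ← not_subsingleton_iff_nontrivial]
    have h1 := Zloc_iff_localizedModule ω p.asIdeal (ModuleCat.of A (A ⧸ p.asIdeal)) i
    have h2 := hn1 p i
    constructor
    · intro h
      by_contra hne
      exact h (h1.1 (h2.2 hne))
    · intro h hs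
      exact (h2.1 (h1.2 hs)) h
  · show -n p = -n q + 1
    rw [hn2 p q hpq]
    ring

end Groth.Agent.Lib.helper23.DimFn
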