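import Mathlib
import Groth.Prelude.Def_Wider
import Groth.Prelude.Def_DDual2
import Groth.Agent.Lib.Helper23.DimFn3

/-!
# Finite Krull dimension of rings with a dualizing complex (helper23)
-/

set_option autoImplicit false
universe u
open CategoryTheory CategoryTheory.Limits DerivedCategory Pretriangulated TensorProduct

attribute [local instance] HasDerivedCategory.standard

namespace Groth.Agent.Lib.helper23.DimFn

open Groth.Agent.Lib.helper23.FBC

section Order

variable {α : Type*} [PartialOrder α]

/-- in an order with the ascending chain condition, below `q` and above `p < q` there is an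
element covered by `q`. -/
lemma exists_covBy_of_lt (hwf : WellFounded ((· > ·) : α → α → Prop)) {p q : α} (hpq : p < q) :
    ∃ c : α, p ≤ c ∧ c ⋖ q := by
  obtain ⟨c, ⟨hc1, hc2⟩, hmax⟩ := hwf.has_min {c | p ≤ c ∧ c < q} ⟨p, le_refl p, hpq⟩
  refine ⟨c, hc1, hc2, fun d hcd hdq => ?_⟩
  exact hmax d ⟨le_trans hc1 hcd.le, hdq⟩ hcd

/-- a bounded-below integer valued function increasing by one along coverings is strictly
monotone. -/
lemma strictMono_of_covBy (hwf : WellFounded ((· > ·) : α → α → Prop)) (n : α → ℤ) (a : ℤ)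
    (ha : ∀ x, a ≤ n x) (hcov : ∀ p q : α, p ⋖ q → n p = n q - 1) : StrictMono n := by
  have key : ∀ (k : ℕ) (q : α), (n q - a).toNat = k → ∀ p : α, p < q → n p < n q := by
    intro k
    induction k using Nat.strong_induction_on with
    | _ k IH =>
      intro q hq p hpq
      obtain ⟨c, hpc, hcq⟩ := exists_covBy_of_lt hwf hpq
      have h1 := hcov c q hcq
      rcases hpc.lt_or_eq with hlt | heq
      · have h2 := IH (n c - a).toNat (by have := ha c; have := ha q; omega) c rfl p hlt
        omega
      · rw [heq]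
        omega
  intro p q hpq
  exact key _ q rfl p hpq

/-- an order with a strictly monotone function into a bounded interval of `ℤ` has finite Krull
dimension. -/
lemma krullDim_le_of_strictMono_int (n : α → ℤ) (hn : StrictMono n) (a b : ℤ)
    (hab : ∀ x, a ≤ n x ∧ n x ≤ b) : Order.krullDim α ≤ ((b - a).toNat : WithBot ℕ∞) := by
  rw [Order.krullDim]
  refine iSup_le (fun l => ?_)
  have key : ∀ (k : ℕ) (hk : k < l.length + 1), n (l 0) + k ≤ n (l ⟨k, hk⟩) := by
    intro k
    induction k with
    | zero =>
      intro hk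
      simp
    | succ k ih =>
      intro hk
      have h1 := ih (by omega)
      have h2 : l ⟨k, by omega⟩ < l ⟨k + 1, hk⟩ :=
        l.strictMono (Fin.mk_lt_mk.2 (Nat.lt_succ_self k))
      have h3 := hn h2
      push_cast
      omega
  have h4 := key l.length (Nat.lt_succ_self _)
  have h5 := (hab (l 0)).1
  have h6 := (hab (l ⟨l.length, Nat.lt_succ_self _⟩)).2
  have h7 : l.length ≤ (b - a).toNat := by omega
  exact_mod_cast h7

end Order

variable {A : Type u} [CommRing A] [IsNoetherianRing A]

lemma wellFounded_gt_primeSpectrum :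
    WellFounded ((· > ·) : PrimeSpectrum A → PrimeSpectrum A → Prop) := by
  have h1 : WellFounded ((· > ·) : Ideal A → Ideal A → Prop) := wellFounded_gt
  refine Subrelation.wf ?_ (InvImage.wf PrimeSpectrum.asIdeal h1)
  intro x y hxy
  exact (PrimeSpectrum.asIdeal_lt_asIdeal y x).2 hxy

/-- S0371. -/
theorem ringKrullDim_lt_top_of_dualizing (ω : Dual.D A) (hω : Dual.IsDualizing A ω) :
    ringKrullDim A < ⊤ := by
  obtain ⟨a, b, hab, hGE, hLE, hv⟩ := exists_bounds ω hω
  haveI := hGE
  obtain ⟨n, hn1, hn2⟩ := exists_dimension_function_of_pointwise ω a hω.finite_cohomology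
    (fun q _ => isDualizing_EE_atPrime ω hω q)
  have hbd : ∀ p : PrimeSpectrum A, a ≤ n p ∧ n p ≤ b := by
    intro p
    by_contra hcon
    have h1 : n p < a ∨ b < n p := by omega
    haveI := hv (A ⧸ p.asIdeal) (n p) h1
    refine (hn1 p (n p)).1 (fun t => ⟨1, ?_, ?_⟩) rfl
    · exact fun h => (Ideal.IsPrime.ne_top p.2) ((Ideal.eq_top_iff_one _).2 h)
    · rw [one_smul]
      exact Subsingleton.elim _ _
  have hsm : StrictMono n :=
    strictMono_of_covBy wellFounded_gt_primeSpectrum n a (fun p => (hbd p).1) hn2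
  refine lt_of_le_of_lt (krullDim_le_of_strictMono_int n hsm a b hbd) ?_
  have h8 : (((b - a).toNat : ℕ∞) : WithBot ℕ∞) < ⊤ :=
    WithBot.coe_lt_coe.2 (ENat.natCast_lt_top _)
  exact_mod_cast h8

end Groth.Agent.Lib.helper23.DimFn
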