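import Mathlib
import Groth.Prelude.Def_Wider
import Groth.Prelude.Def_DDual2
import Groth.Agent.Lib.Helper23.FBC10

/-!
# Descent of dualizing complexes along jointly faithfully flat families (helper23)
-/

set_option autoImplicit false
universe w u
open CategoryTheory CategoryTheory.Limits DerivedCategory Pretriangulated TensorProduct

attribute [local instance] HasDerivedCategory.standard

namespace Groth.Agent.Lib.helper23.FBC

/-- a family of `A`-algebras detects zero modules (in the universe `w`). -/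
def Detects (A : Type u) [CommRing A] {Λ : Type*} (Bf : Λ → Type u) [∀ l, CommRing (Bf l)]
    [∀ l, Algebra A (Bf l)] : Prop :=
  ∀ (N : Type w) [AddCommGroup N] [Module A N], (∀ l, Subsingleton (Bf l ⊗[A] N)) →
    Subsingleton N

section Detect

variable {A : Type u} [CommRing A] {Λ : Type*} {Bf : Λ → Type u} [∀ l, CommRing (Bf l)]
  [∀ l, Algebra A (Bf l)] [∀ l, Module.Flat A (Bf l)]

lemma Detects.injective {N : Type w} {N' : Type*} [AddCommGroup N] [Module A N] [AddCommGroup N']
    [Module A N'] (hdet : Detects.{w} A Bf) (θ : N →ₗ[A] N')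
    (h : ∀ l, Function.Injective (θ.baseChange (Bf l))) : Function.Injective θ := by
  haveI : Subsingleton (LinearMap.ker θ) := by
    refine hdet _ (fun l => ?_)
    have h1 : Function.Injective ((LinearMap.ker θ).subtype.baseChange (Bf l)) :=
      Module.Flat.lTensor_preserves_injective_linearMap (LinearMap.ker θ).subtype
        Subtype.val_injective
    have h2 : (θ.baseChange (Bf l)).comp ((LinearMap.ker θ).subtype.baseChange (Bf l)) = 0 := by
      rw [← LinearMap.baseChange_comp, LinearMap.comp_ker_subtype, LinearMap.baseChange_zero]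
    refine ⟨fun x y => h1 (h l ?_)⟩
    have hx := LinearMap.congr_fun h2 x
    have hy := LinearMap.congr_fun h2 y
    rw [LinearMap.comp_apply] at hx hy
    rw [hx, hy]
    rfl
  rw [← LinearMap.ker_eq_bot]
  exact Submodule.eq_bot_of_subsingleton

lemma Detects.surjective {N : Type*} {N' : Type w} [AddCommGroup N] [Module A N]
    [AddCommGroup N'] [Module A N'] (hdet : Detects.{w} A Bf) (θ : N →ₗ[A] N')
    (h : ∀ l, Function.Surjective (θ.baseChange (Bf l))) : Function.Surjective θ := by
  haveI : Subsingleton (N' ⧸ LinearMap.range θ) := by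
    refine hdet _ (fun l => ?_)
    have h1 : Function.Surjective ((LinearMap.range θ).mkQ.baseChange (Bf l)) :=
      LinearMap.lTensor_surjective _ (Submodule.mkQ_surjective _)
    have h2 : ((LinearMap.range θ).mkQ.baseChange (Bf l)).comp (θ.baseChange (Bf l)) = 0 := by
      rw [← LinearMap.baseChange_comp, LinearMap.range_mkQ_comp, LinearMap.baseChange_zero]
    have h3 : ∀ x : Bf l ⊗[A] (N' ⧸ LinearMap.range θ), x = 0 := by
      intro x
      obtain ⟨x', rfl⟩ := h1 x
      obtain ⟨x'', rfl⟩ := h l x'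
      exact LinearMap.congr_fun h2 x''
    exact ⟨fun x y => by rw [h3 x, h3 y]⟩
  rw [← LinearMap.range_eq_top]
  exact Submodule.Quotient.subsingleton_iff.1 inferInstance

end Detect

section Family

variable {A : Type u} [CommRing A] {Λ : Type*} (Bf : Λ → Type u) [∀ l, CommRing (Bf l)]
  [∀ l, Algebra A (Bf l)] [∀ l, Module.Flat A (Bf l)]

attribute [local instance 50] homModuleA
attribute [local instance] FlatBC.preservesFiniteLimits_extendScalars_algebraMap

include Bf in
lemma subsingleton_hom_of_family (hdet : Detects.{u + 1} A Bf) (X Y : Dual.D A)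
    (hBI : ∀ l, BI (Bf l) X Y)
    (h : ∀ l, Subsingleton ((EE A (Bf l)).obj X ⟶ (EE A (Bf l)).obj Y)) :
    Subsingleton (X ⟶ Y) :=
  hdet _ (fun l => haveI := h l; subsingleton_tensor_of_BI (hBI l))

lemma toEnd_bijective_of_family (hdet0 : Detects.{u} A Bf) (hdet1 : Detects.{u + 1} A Bf)
    (K : Dual.D A) (hBB : ∀ l, BB (Bf l) K K)
    (h : ∀ l, Function.Bijective (fun x : Bf l => x • 𝟙 ((EE A (Bf l)).obj K))) :
    Function.Bijective (fun a : A => a • 𝟙 K) := by
  have h1 : ∀ l, Function.Bijective ((θ K).baseChange (Bf l)) :=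
    fun l => (toEnd_bijective_iff (Bf l) K (hBB l)).1 (h l)
  exact ⟨hdet0.injective (θ K) (fun l => (h1 l).1), hdet1.surjective (θ K) (fun l => (h1 l).2)⟩

/-- vanishing of cohomology descends. -/
lemma isZero_homology_of_family (hdet0 : Detects.{u} A Bf) (K : Dual.D A) (i : ℤ)
    (h : ∀ l, IsZero ((homologyFunctor (ModuleCat.{u} (Bf l)) i).obj ((EE A (Bf l)).obj K))) :
    IsZero ((homologyFunctor (ModuleCat.{u} A) i).obj K) := by
  rw [ModuleCat.isZero_iff_subsingleton]
  refine hdet0 _ (fun l => ?_)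
  have h1 : IsZero ((ModuleCat.extendScalars.{u, u, u} (algebraMap A (Bf l))).obj
      ((homologyFunctor (ModuleCat.{u} A) i).obj K)) :=
    (h l).of_iso (FlatBC.homologyExtDIso (algebraMap A (Bf l)) K i).symm
  rw [ModuleCat.isZero_iff_subsingleton] at h1
  exact (ExtSc.extendObjEquiv (B := Bf l)
    ((homologyFunctor (ModuleCat.{u} A) i).obj K)).symm.injective.subsingleton

variable [IsNoetherianRing A]

/-- finite injective dimension descends (Baer's criterion + flat base change). -/
theorem hinj_of_family (hdet1 : Detects.{u + 1} A Bf) (K : Dual.D A) (a b : ℤ) (hab : a ≤ b)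
    [K.IsGE a] [K.IsLE b]
    (hcyc : ∀ l (J : Ideal A), Subsingleton
      ((EE A (Bf l)).obj (sg (ModuleCat.of A (A ⧸ J))) ⟶ (EE A (Bf l)).obj (K⟦b + 1⟧)))
    (M : Type u) [AddCommGroup M] [Module A M] (i : ℤ) (hi : i < a ∨ b < i) :
    Subsingleton (Dual.inD A M ⟶ K⟦i⟧) := by
  have key : ∀ (J : Ideal A) (φ : (singleFunctor (ModuleCat.{u} A) 0).obj
      (ModuleCat.of A (A ⧸ J)) ⟶ K⟦b + 1⟧), φ = 0 := by
    intro J φ
    haveI : Module.Finite A (ModuleCat.of A (A ⧸ J)) :=
      inferInstanceAs (Module.Finite A (A ⧸ J))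
    haveI := subsingleton_hom_of_family Bf hdet1 (sg (ModuleCat.of A (A ⧸ J))) (K⟦b + 1⟧)
      (fun l => (BB_single_finite' (Bf l) K a (b + 1) (ModuleCat.of A (A ⧸ J))).1)
      (fun l => hcyc l J)
    exact Subsingleton.elim _ _
  exact ⟨fun f g => by
    rw [BaerD.hom_eq_zero_of_cyclic K a b hab key (ModuleCat.of A M) i hi f,
      BaerD.hom_eq_zero_of_cyclic K a b hab key (ModuleCat.of A M) i hi g]⟩

/-- **descent of dualizing complexes** along a family of flat algebras detecting zero modules. -/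
theorem isDualizing_of_family (hdet0 : Detects.{u} A Bf) (hdet1 : Detects.{u + 1} A Bf)
    (K : Dual.D A) (a b : ℤ) [K.IsGE a] [K.IsLE b]
    (hfin : ∀ i : ℤ, Module.Finite A (Dual.HD A K i))
    (hinj : ∃ a' b' : ℤ, ∀ (M : Type u) [AddCommGroup M] [Module A M] (i : ℤ),
      (i < a' ∨ b' < i) → Subsingleton (Dual.inD A M ⟶ K⟦i⟧))
    (hEnd : ∀ l, Function.Bijective (fun x : Bf l => x • 𝟙 ((EE A (Bf l)).obj K)))
    (hExt : ∀ l (i : ℤ), i ≠ 0 →
      Subsingleton ((EE A (Bf l)).obj K ⟶ ((EE A (Bf l)).obj K)⟦i⟧)) :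
    Dual.IsDualizing A K := by
  have hc : ∀ i : ℤ, i < a → IsZero ((homologyFunctor (ModuleCat.{u} A) i).obj K) :=
    (DerivedCategory.isGE_iff K a).1 inferInstance
  have hd : ∀ i : ℤ, b < i → IsZero ((homologyFunctor (ModuleCat.{u} A) i).obj K) :=
    (DerivedCategory.isLE_iff K b).1 inferInstance
  refine ⟨inferInstance, hinj, hfin, ?_, fun i hi => ?_⟩
  · exact toEnd_bijective_of_family Bf hdet0 hdet1 K
      (fun l => BB_of_bounded_finite (Bf l) K K a a b hc hd hfin) hEnd
  · haveI : (K⟦i⟧).IsGE (a - i) :=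
      (TStructure.t (C := ModuleCat.{u} A)).isGE_shift K a i (a - i) (by omega)
    refine subsingleton_hom_of_family Bf hdet1 K (K⟦i⟧)
      (fun l => (BB_of_bounded_finite (Bf l) K (K⟦i⟧) (a - i) a b hc hd hfin).1) (fun l => ?_)
    haveI := hExt l i hi
    exact subsingleton_hom_of_iso (Iso.refl _) (EEshiftIso (Bf l) K i).symm

end Family

end Groth.Agent.Lib.helper23.FBC
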