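import Mathlib
import Groth.Prelude.Def_Wider
import Groth.Prelude.Def_DDual2
import Groth.Agent.Lib.Helper23.FBC11

/-!
# Families of flat algebras detecting zero modules (helper23)
-/

set_option autoImplicit false
universe w u
open CategoryTheory CategoryTheory.Limits DerivedCategory Pretriangulated TensorProduct

attribute [local instance] HasDerivedCategory.standard

namespace Groth.Agent.Lib.helper23.FBC

section Instances

variable (A : Type u) [CommRing A]

/-- the localizations at maximal ideals. -/
abbrev BfMax (l : {m : Ideal A // m.IsMaximal}) : Type u :=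
  haveI := l.2
  Localization.AtPrime l.1

lemma detects_max : Detects.{w} A (BfMax A) := by
  intro N _ _ h
  refine Module.subsingleton_of_localization_maximal
    (fun P _ => Localization.AtPrime P ⊗[A] N)
    (fun P _ => TensorProduct.mk A (Localization.AtPrime P) N 1) (fun P hP => ?_)
  exact h ⟨P, hP⟩

/-- the localizations at prime ideals. -/
abbrev BfPrime (p : PrimeSpectrum A) : Type u := Localization.AtPrime p.asIdeal

lemma detects_prime : Detects.{w} A (BfPrime A) := by
  intro N _ _ h
  refine Module.subsingleton_of_localization_maximal
    (fun P _ => Localization.AtPrime P ⊗[A] N)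
    (fun P _ => TensorProduct.mk A (Localization.AtPrime P) N 1) (fun P hP => ?_)
  exact h ⟨P, hP.isPrime⟩

/-- the localizations at a family of elements. -/
abbrev BfAway {n : ℕ} (f : Fin n → A) (i : Fin n) : Type u := Localization.Away (f i)

lemma detects_away {n : ℕ} (f : Fin n → A) (hf : Ideal.span (Set.range f) = ⊤) :
    Detects.{w} A (BfAway A f) := by
  intro N _ _ h
  refine ⟨fun x y => ?_⟩
  have key : ∀ z : N, z ∈ (⊥ : Submodule A N) := by
    intro z
    refine Submodule.mem_of_span_eq_top_of_smul_pow_mem _ (Set.range f) hf z (fun r => ?_)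
    obtain ⟨r, i, rfl⟩ := r
    haveI := h i
    have h0 : (TensorProduct.mk A (Localization.Away (f i)) N 1) z = 0 := Subsingleton.elim _ _
    obtain ⟨⟨_, n, rfl⟩, hc⟩ :=
      (IsLocalizedModule.eq_zero_iff (Submonoid.powers (f i))
        (TensorProduct.mk A (Localization.Away (f i)) N 1)).1 h0
    exact ⟨n, by rw [Submodule.mem_bot]; exact hc⟩
  have hx := key x
  have hy := key y
  rw [Submodule.mem_bot] at hx hy
  rw [hx, hy]

/-- a single faithfully flat algebra. -/
abbrev BfOne (B : Type u) (_ : Unit) : Type u := B

lemma detects_one (B : Type u) [CommRing B] [Algebra A B] [Module.FaithfullyFlat A B] :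
    Detects.{w} A (BfOne B) := by
  intro N _ _ h
  haveI := h ()
  exact Module.FaithfullyFlat.lTensor_reflects_triviality A B N

end Instances

end Groth.Agent.Lib.helper23.FBC
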