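import Mathlib
import Groth.Prelude.Def_Wider
import Groth.Prelude.Def_DDual2
import Groth.Agent.Lib.Helper23.FBC12
import Groth.Agent.Lib.Helper23.FinHom3
import Groth.Prelude.Def_DRing2

/-!
# Descent of dualizing complexes: maximal ideals, prime ideals (helper23)
-/

set_option autoImplicit false
universe u
open CategoryTheory CategoryTheory.Limits DerivedCategory Pretriangulated TensorProduct

attribute [local instance] HasDerivedCategory.standard

namespace Groth.Agent.Lib.helper23.FBC

attribute [local instance 50] homModuleA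
attribute [local instance] FlatBC.preservesFiniteLimits_extendScalars_algebraMap

section Conv

variable {A B : Type u} [CommRing A] [CommRing B] [Algebra A B] [Module.Flat A B]

lemma isDualizing_EE_of_LBaseChange [DRing.HasLBaseChange (algebraMap A B)] (K : Dual.D A)
    (h : Dual.IsDualizing B ((DRing.LBaseChange (algebraMap A B)).obj K)) :
    Dual.IsDualizing B ((EE A B).obj K) :=
  isDualizing_of_iso ((FlatBC.lbcIso (algebraMap A B)).app K) h

lemma hcyc_of_vanishing (K : Dual.D A) (b : ℤ)
    (h : ∀ (M : Type u) [AddCommGroup M] [Module B M] (i : ℤ), b < i →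
      Subsingleton (Dual.inD B M ⟶ ((EE A B).obj K)⟦i⟧)) (J : Ideal A) (i : ℤ) (hi : b < i) :
    Subsingleton ((EE A B).obj (sg (ModuleCat.of A (A ⧸ J))) ⟶ (EE A B).obj (K⟦i⟧)) := by
  haveI := h ((ModuleCat.extendScalars.{u, u, u} (algebraMap A B)).obj
    (ModuleCat.of A (A ⧸ J))) i hi
  exact subsingleton_hom_of_iso (EEsingleIso B (ModuleCat.of A (A ⧸ J))).symm
    (EEshiftIso B K i).symm

lemma finite_tensor_of_finite_EE (K : Dual.D A) (j : ℤ)
    (h : Module.Finite B (Dual.HD B ((EE A B).obj K) j)) :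
    Module.Finite B (B ⊗[A] Dual.HD A K j) := by
  haveI := h
  exact Module.Finite.equiv ((FlatBC.homologyExtDIso (algebraMap A B) K j).toLinearEquiv ≪≫ₗ
    ExtSc.extendObjEquiv (B := B) ((homologyFunctor (ModuleCat.{u} A) j).obj K))

end Conv

section Max

variable (A : Type u) [CommRing A] [IsNoetherianRing A]

/-- S7867. -/
theorem isDualizing_of_localization_maximal (K : Dual.D A)
    (hbdd : ∃ a b : ℤ, ∀ i : ℤ, (i < a ∨ b < i) → Subsingleton (Dual.HD A K i))
    (hfin : ∀ i : ℤ, Module.Finite A (Dual.HD A K i))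
    (hinj : ∃ a b : ℤ, ∀ (M : Type u) [AddCommGroup M] [Module A M] (i : ℤ),
      (i < a ∨ b < i) → Subsingleton (Dual.inD A M ⟶ K⟦i⟧))
    [∀ m : Ideal A, [m.IsMaximal] → DRing.HasLBaseChange (algebraMap A (Localization.AtPrime m))]
    (hloc : ∀ (m : Ideal A) [m.IsMaximal],
      Dual.IsDualizing (Localization.AtPrime m)
        ((DRing.LBaseChange (algebraMap A (Localization.AtPrime m))).obj K)) :
    Dual.IsDualizing A K := by
  obtain ⟨a, b, hab⟩ := hbdd
  haveI : K.IsGE a := (DerivedCategory.isGE_iff K a).2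
    (fun i hi => (ModuleCat.isZero_iff_subsingleton).2 (hab i (Or.inl hi)))
  haveI : K.IsLE b := (DerivedCategory.isLE_iff K b).2
    (fun i hi => (ModuleCat.isZero_iff_subsingleton).2 (hab i (Or.inr hi)))
  haveI : ∀ l, Module.Flat A (BfMax A l) := fun l =>
    haveI := l.2
    IsLocalization.flat (Localization.AtPrime l.1) l.1.primeCompl
  have hE : ∀ l, Dual.IsDualizing (BfMax A l) ((EE A (BfMax A l)).obj K) := fun l =>
    haveI := l.2
    isDualizing_EE_of_LBaseChange K (hloc l.1)
  exact isDualizing_of_family (BfMax A) (detects_max A) (detects_max A) K a b hfin hinj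
    (fun l => (hE l).toEnd_bijective) (fun l i hi => (hE l).ext_self_subsingleton i hi)

/-- vanishing of `Hom(M, K[i])` from a bounded injective model. -/
lemma hinj_of_hasFiniteInjDim (K : Dual.D A) (h : DRing.HasFiniteInjDim A K) :
    ∃ a b : ℤ, K.IsGE a ∧ K.IsLE b ∧ ∀ (M : Type u) [AddCommGroup M] [Module A M] (i : ℤ),
      (i < a ∨ b < i) → Subsingleton (Dual.inD A M ⟶ K⟦i⟧) := by
  obtain ⟨a, b, hab⟩ := h
  have hab' := hab
  obtain ⟨E, hz, hE, ⟨e⟩⟩ := hab
  have hv := (InjAmpG.extVanishing_iff K a (max a b) (le_max_left a b)).2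
    ⟨E, fun i => (Module.injective_iff_injective_object A (E.X i)).1 (hE i),
      fun i hi => hz i (by
        rcases hi with hi | hi
        · exact Or.inl hi
        · exact Or.inr (lt_of_le_of_lt (le_max_right a b) hi)), ⟨e⟩⟩
  haveI := FinHom.isLE_of_injAmp K a b hab'
  refine ⟨a, max a b, FinHom.isGE_of_injAmp K a b hab',
    (TStructure.t (C := ModuleCat.{u} A)).isLE_of_le K b (max a b) (le_max_right a b),
    fun M _ _ i hi => ⟨fun f g => ?_⟩⟩
  rw [hv (ModuleCat.of A M) i hi f, hv (ModuleCat.of A M) i hi g]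

/-- S11360. -/
theorem isDualizing_of_isDualizing_atPrime (R : Dual.D A)
    (hfin : ∀ i : ℤ, Module.Finite A (Dual.HD A R i)) (hfid : DRing.HasFiniteInjDim A R)
    [∀ p : PrimeSpectrum A,
      DRing.HasLBaseChange (algebraMap A (Localization.AtPrime p.asIdeal))]
    (h : ∀ p : PrimeSpectrum A, Dual.IsDualizing (Localization.AtPrime p.asIdeal)
      ((DRing.LBaseChange (algebraMap A (Localization.AtPrime p.asIdeal))).obj R)) :
    Dual.IsDualizing A R := by
  obtain ⟨a, b, hGE, hLE, hv⟩ := hinj_of_hasFiniteInjDim A R hfid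
  haveI := hGE
  haveI := hLE
  haveI : ∀ l, Module.Flat A (BfPrime A l) := fun l =>
    IsLocalization.flat (Localization.AtPrime l.asIdeal) l.asIdeal.primeCompl
  have hE : ∀ l, Dual.IsDualizing (BfPrime A l) ((EE A (BfPrime A l)).obj R) := fun l =>
    isDualizing_EE_of_LBaseChange R (h l)
  exact isDualizing_of_family (BfPrime A) (detects_prime A) (detects_prime A) R a b hfin
    ⟨a, b, hv⟩ (fun l => (hE l).toEnd_bijective)
    (fun l i hi => (hE l).ext_self_subsingleton i hi)

end Max

end Groth.Agent.Lib.helper23.FBC
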