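import Mathlib
import Groth.Prelude.Def_Wider
import Groth.Prelude.Def_DDual2
import Groth.Agent.Lib.Helper23.DimFn4
import Groth.Agent.Lib.Helper23.FBC15
import Groth.Agent.Lib.Helper23.FBC13

/-!
# Pointwise dualizing complexes on rings of finite Krull dimension (helper23)
-/

set_option autoImplicit false
universe u
open CategoryTheory CategoryTheory.Limits DerivedCategory Pretriangulated TensorProduct

attribute [local instance] HasDerivedCategory.standard

namespace Groth.Agent.Lib.helper23.DimFn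

open Groth.Agent.Lib.helper23.FBC

attribute [local instance 50] homModuleA
attribute [local instance] FlatBC.preservesFiniteLimits_extendScalars_algebraMap
attribute [local instance] flat_atPrime

section Order

variable {α : Type*} [PartialOrder α]

/-- the dimension function is bounded by the height. -/
lemma sub_le_height (hwf : WellFounded ((· > ·) : α → α → Prop)) (n : α → ℤ)
    (hn : StrictMono n) (hcov : ∀ p q : α, p ⋖ q → n p = n q - 1) :
    ∀ (k : ℕ) (p₀ p : α), p₀ ≤ p → (n p - n p₀).toNat = k →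
      ((n p - n p₀).toNat : ℕ∞) ≤ Order.height p := by
  intro k
  induction k using Nat.strong_induction_on with
  | _ k IH =>
    intro p₀ p hle hk
    rcases hle.lt_or_eq with hlt | heq
    · obtain ⟨c, hpc, hcq⟩ := exists_covBy_of_lt hwf hlt
      have h1 := hcov c p hcq
      have h2 : n p₀ ≤ n c := hn.monotone hpc
      have h3 := IH (n c - n p₀).toNat (by omega) p₀ c hpc rfl
      have h4 : (n p - n p₀).toNat = (n c - n p₀).toNat + 1 := by omega
      rw [h4]
      push_cast
      exact le_trans (add_le_add_left h3 1) (Order.height_add_one_le hcq.lt)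
    · subst heq
      simp

end Order

variable {A : Type u} [CommRing A] [IsNoetherianRing A]

/-- `Zloc` at a maximal ideal means vanishing. -/
lemma subsingleton_of_Zloc_maximal (K : Dual.D A) (m : Ideal A) [hm : m.IsMaximal] (i : ℤ)
    (h : Zloc K m (ModuleCat.of A (A ⧸ m)) i) :
    Subsingleton (FBC.sg (ModuleCat.of A (A ⧸ m)) ⟶ K⟦i⟧) := by
  have key : ∀ t : FBC.sg (ModuleCat.of A (A ⧸ m)) ⟶ K⟦i⟧, t = 0 := by
    intro t
    obtain ⟨s, hs, hst⟩ := h t
    obtain ⟨r, hr⟩ := Ideal.IsMaximal.exists_inv hm hs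
    obtain ⟨y, hy, hsum⟩ := hr
    -- `r * s + y = 1` with `y ∈ m`
    have h1 : (1 : A) • t = (r * s) • t + y • t := by rw [← add_smul, hsum]
    rw [one_smul, mul_smul, hst, smul_zero, zero_add,
      DualD.smul_hom_single_quotient_eq_zero m (K⟦i⟧) y hy t] at h1
    exact h1
  exact ⟨fun f g => by rw [key f, key g]⟩

/-- **pointwise dualizing + finite Krull dimension ⇒ dualizing** (`E`-version). -/
theorem isDualizing_of_pointwise (hdim : ringKrullDim A < ⊤) (K : Dual.D A) (a : ℤ) [K.IsGE a]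
    (hfin : ∀ j : ℤ, Module.Finite A ((homologyFunctor (ModuleCat.{u} A) j).obj K))
    (hloc : ∀ (q : Ideal A) [q.IsPrime],
      Dual.IsDualizing (Localization.AtPrime q) ((EE A (Localization.AtPrime q)).obj K)) :
    Dual.IsDualizing A K := by
  obtain ⟨n, hn1, hn2⟩ := exists_dimension_function_of_pointwise K a hfin hloc
  -- lower bound
  have hlow : ∀ p : PrimeSpectrum A, a ≤ n p := by
    intro p
    by_contra hcon
    have h1 : n p < a := by omega
    haveI : (FBC.sg (ModuleCat.of A (A ⧸ p.asIdeal))).IsLE 0 := by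
      dsimp only [FBC.sg]
      infer_instance
    haveI : (K⟦n p⟧).IsGE (a - n p) :=
      (TStructure.t (C := ModuleCat.{u} A)).isGE_shift K a (n p) (a - n p) (by omega)
    haveI := subsingleton_hom_of_isLE_of_isGE (FBC.sg (ModuleCat.of A (A ⧸ p.asIdeal)))
      (K⟦n p⟧) 0 (a - n p) (by omega)
    refine (hn1 p (n p)).1 (fun t => ⟨1, ?_, ?_⟩) rfl
    · exact fun h => (Ideal.IsPrime.ne_top p.2) ((Ideal.eq_top_iff_one _).2 h)
    · rw [one_smul]
      exact Subsingleton.elim _ _
  have hsm : StrictMono n :=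
    strictMono_of_covBy wellFounded_gt_primeSpectrum n a hlow hn2
  -- the dimension
  obtain ⟨d, hd⟩ : ∃ d : ℕ, ∀ p : PrimeSpectrum A, Order.height p ≤ (d : ℕ∞) := by
    by_cases hne : Nonempty (PrimeSpectrum A)
    · have h1 : ringKrullDim A ≠ ⊥ := by
        rw [ringKrullDim]
        exact Order.krullDim_ne_bot_iff.2 hne
      obtain ⟨x, hx⟩ := WithBot.ne_bot_iff_exists.1 h1
      have h2 : x ≠ ⊤ := by
        intro h
        rw [← hx, h] at hdim
        exact lt_irrefl _ hdim
      obtain ⟨d, hd⟩ := ENat.ne_top_iff_exists.1 h2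
      refine ⟨d, fun p => ?_⟩
      have h3 : (Order.height p : WithBot ℕ∞) ≤ ringKrullDim A := Order.height_le_krullDim p
      rw [← hx, ← hd] at h3
      exact_mod_cast h3
    · exact ⟨0, fun p => (hne ⟨p⟩).elim⟩
  -- upper bound over the minimal primes
  have hSfin : {p : PrimeSpectrum A | p.asIdeal ∈ minimalPrimes A}.Finite := by
    refine Set.Finite.of_finite_image (f := PrimeSpectrum.asIdeal) ?_ ?_
    · exact (minimalPrimes.finite_of_isNoetherianRing A).subset (by
        rintro _ ⟨p, hp, rfl⟩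
        exact hp)
    · intro p _ q _ hpq
      exact PrimeSpectrum.ext hpq
  obtain ⟨N₀, hN₀⟩ := (hSfin.image n).bddAbove
  have hup : ∀ p : PrimeSpectrum A, n p ≤ N₀ + d := by
    intro p
    obtain ⟨p₀, hp₀, hp₀p⟩ := Ideal.exists_minimalPrimes_le (bot_le : (⊥ : Ideal A) ≤ p.asIdeal)
    let P₀ : PrimeSpectrum A := ⟨p₀, hp₀.1.1⟩
    have hle : P₀ ≤ p := (PrimeSpectrum.asIdeal_le_asIdeal P₀ p).1 hp₀p
    have h1 : n P₀ ≤ N₀ := hN₀ ⟨P₀, hp₀, rfl⟩
    have h2 := sub_le_height wellFounded_gt_primeSpectrum n hsm hn2 _ P₀ p hle rfl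
    have h3 : ((n p - n P₀).toNat : ℕ∞) ≤ (d : ℕ∞) := le_trans h2 (hd p)
    have h4 : (n p - n P₀).toNat ≤ d := by exact_mod_cast h3
    omega
  -- Bass
  have hmax : ∀ m : Ideal A, m.IsMaximal → ∀ i : ℤ, N₀ + d < i →
      Subsingleton (FBC.sg (ModuleCat.of A (A ⧸ m)) ⟶ K⟦i⟧) := by
    intro m hm i hi
    haveI := hm
    refine subsingleton_of_Zloc_maximal K m i ?_
    have := hup ⟨m, hm.isPrime⟩
    exact (hn1 ⟨m, hm.isPrime⟩ i).2 (by omega)
  have hinj := hinj_of_maximal K a (N₀ + d) hfin hmax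
  haveI : K.IsLE (max a (N₀ + d)) :=
    isLE_of_vanishing K _ (fun i hi => hinj A i (Or.inr hi))
  haveI : ∀ l, Module.Flat A (BfPrime A l) := fun l =>
    IsLocalization.flat (Localization.AtPrime l.asIdeal) l.asIdeal.primeCompl
  have hE : ∀ l, Dual.IsDualizing (BfPrime A l) ((EE A (BfPrime A l)).obj K) := fun l =>
    hloc l.asIdeal
  exact isDualizing_of_family (BfPrime A) (detects_prime A) (detects_prime A) K a
    (max a (N₀ + d)) hfin ⟨a, max a (N₀ + d), hinj⟩ (fun l => (hE l).toEnd_bijective)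
    (fun l i hi => (hE l).ext_self_subsingleton i hi)

/-- S11173. -/
theorem isDualizing_of_LBaseChange_atPrime (hdim : ringKrullDim A < ⊤) (R : Dual.D A)
    (hfin : ∀ i : ℤ, Module.Finite A (Dual.HD A R i))
    (hbdd : ∃ a : ℤ, ∀ i : ℤ, i < a → Subsingleton (Dual.HD A R i))
    (h : ∀ p : PrimeSpectrum A,
      ∃ _ : DRing.HasLBaseChange (algebraMap A (Localization.AtPrime p.asIdeal)),
        Dual.IsDualizing (Localization.AtPrime p.asIdeal)
          ((DRing.LBaseChange (algebraMap A (Localization.AtPrime p.asIdeal))).obj R)) :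
    Dual.IsDualizing A R := by
  obtain ⟨a, ha⟩ := hbdd
  haveI : R.IsGE a := (DerivedCategory.isGE_iff R a).2 (fun i hi =>
    (ModuleCat.isZero_iff_subsingleton).2 (ha i hi))
  refine isDualizing_of_pointwise hdim R a hfin (fun q hq => ?_)
  obtain ⟨inst, hq'⟩ := h ⟨q, hq⟩
  exact isDualizing_EE_of_LBaseChange R hq'

end Groth.Agent.Lib.helper23.DimFn
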