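import Mathlib
import Groth.Prelude.Def_Wider
import Groth.Prelude.Def_DDual2
import Groth.Agent.Lib.Helper23.DimFn3
import Groth.Agent.Lib.Helper23.FBC13

/-!
# Dualizing complexes at minimal primes (helper23)
-/

set_option autoImplicit false
universe u
open CategoryTheory CategoryTheory.Limits DerivedCategory Pretriangulated TensorProduct

attribute [local instance] HasDerivedCategory.standard

namespace Groth.Agent.Lib.helper23.DimFn

open Groth.Agent.Lib.helper23.FBC

attribute [local instance 50] homModuleA
attribute [local instance] FlatBC.preservesFiniteLimits_extendScalars_algebraMap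
attribute [local instance] flat_atPrime

variable {A : Type u} [CommRing A]

/-- `H^i(K)_p = 0` iff `H^i(K_p) = 0`. -/
lemma subsingleton_localizedModule_HD_iff (K : Dual.D A) (p : Ideal A) [p.IsPrime] (i : ℤ) :
    Subsingleton (LocalizedModule p.primeCompl (Dual.HD A K i)) ↔
      IsZero ((homologyFunctor (ModuleCat.{u} (Localization.AtPrime p)) i).obj
        ((EE A (Localization.AtPrime p)).obj K)) := by
  rw [LocalizedModule.subsingleton_iff, ModuleCat.isZero_iff_subsingleton]
  have e : ((homologyFunctor (ModuleCat.{u} (Localization.AtPrime p)) i).obj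
        ((EE A (Localization.AtPrime p)).obj K)) ≃ₗ[Localization.AtPrime p]
      (Localization.AtPrime p ⊗[A] Dual.HD A K i) :=
    (FlatBC.homologyExtDIso (algebraMap A (Localization.AtPrime p)) K i).toLinearEquiv ≪≫ₗ
      ExtSc.extendObjEquiv (B := Localization.AtPrime p)
        ((homologyFunctor (ModuleCat.{u} A) i).obj K)
  rw [e.toEquiv.subsingleton_congr, subsingleton_tensor_atPrime_iff p (Dual.HD A K i)]
  constructor
  · intro h t
    obtain ⟨s, hs, hst⟩ := h t
    exact ⟨s, hs, hst⟩
  · intro h t
    obtain ⟨s, hs, hst⟩ := h t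
    exact ⟨s, hs, hst⟩

variable [IsNoetherianRing A]

/-- S1762. -/
theorem existsUnique_nontrivial_HD_minimalPrime (ω : Dual.D A) (hω : Dual.IsDualizing A ω)
    (p : Ideal A) (hp : p ∈ minimalPrimes A) :
    ∃! i : ℤ, Nontrivial (LocalizedModule (Ideal.primeCompl p (hp := hp.1.1))
      (Dual.HD A ω i)) := by
  haveI hpp : p.IsPrime := hp.1.1
  have hK := isDualizing_EE_atPrime ω hω p
  haveI : IsNoetherianRing (Localization.AtPrime p) := hK.isNoetherianRing
  obtain ⟨n, h1, -⟩ := DualD.ext_residue_single_degree _ hK
    (IsLocalRing.maximalIdeal (Localization.AtPrime p))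
  -- the maximal ideal is the only prime of `A_p`
  have honly : ∀ p' : Ideal (Localization.AtPrime p), p'.IsPrime →
      p' = IsLocalRing.maximalIdeal (Localization.AtPrime p) := by
    intro p' hp'
    have hmc : (p'.comap (algebraMap A (Localization.AtPrime p))).map
        (algebraMap A (Localization.AtPrime p)) = p' :=
      IsLocalization.map_under p.primeCompl (Localization.AtPrime p) p'
    have h3 : p'.comap (algebraMap A (Localization.AtPrime p)) ≤ p :=
      le_of_le_of_eq
        (Ideal.comap_mono (IsLocalRing.le_maximalIdeal (Ideal.IsPrime.ne_top hp')))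
        (IsLocalization.AtPrime.under_maximalIdeal (Localization.AtPrime p) p)
    have h4 : p'.comap (algebraMap A (Localization.AtPrime p)) = p :=
      le_antisymm h3 (hp.2 ⟨Ideal.comap_isPrime _ p', bot_le⟩ h3)
    rw [← hmc, h4]
    exact Localization.AtPrime.map_eq_maximalIdeal
  -- vanishing of the cohomology outside degree `n`
  have hz : ∀ j : ℤ, j ≠ n → IsZero ((homologyFunctor
      (ModuleCat.{u} (Localization.AtPrime p)) j).obj
        ((EE A (Localization.AtPrime p)).obj ω)) := by
    intro j hj
    have hVZ : VZ ((EE A (Localization.AtPrime p)).obj ω) j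
        (ModuleCat.of (Localization.AtPrime p) (Localization.AtPrime p)) := by
      refine VZ_of_killed (A := Localization.AtPrime p) ⊥ (fun p' hp' _ => ?_)
        (Localization.AtPrime p) (fun y hy m => by
          rw [(Submodule.mem_bot (Localization.AtPrime p)).1 hy, zero_smul])
      rw [honly p' hp']
      intro φ
      haveI := h1 j hj
      exact Subsingleton.elim _ _
    exact isZero_homology_of_subsingleton _ j ⟨fun f g => by rw [hVZ f, hVZ g]⟩
  refine ⟨n, ?_, fun j hj => ?_⟩
  · show Nontrivial (LocalizedModule p.primeCompl (Dual.HD A ω n))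
    rw [← not_subsingleton_iff_nontrivial, subsingleton_localizedModule_HD_iff ω p n]
    intro hzn
    have hall : ∀ j : ℤ, IsZero ((homologyFunctor
        (ModuleCat.{u} (Localization.AtPrime p)) j).obj
          ((EE A (Localization.AtPrime p)).obj ω)) := by
      intro j
      by_cases hj : j = n
      · rw [hj]
        exact hzn
      · exact hz j hj
    haveI : ((EE A (Localization.AtPrime p)).obj ω).IsGE 1 :=
      (DerivedCategory.isGE_iff _ 1).2 (fun j _ => hall j)
    haveI : ((EE A (Localization.AtPrime p)).obj ω).IsLE 0 :=
      (DerivedCategory.isLE_iff _ 0).2 (fun j _ => hall j)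
    haveI := subsingleton_hom_of_isLE_of_isGE ((EE A (Localization.AtPrime p)).obj ω)
      ((EE A (Localization.AtPrime p)).obj ω) 0 1 (by omega)
    have h5 : (1 : Localization.AtPrime p) = 0 := hK.toEnd_bijective.1 (Subsingleton.elim _ _)
    exact one_ne_zero h5
  · by_contra hne
    replace hj : Nontrivial (LocalizedModule p.primeCompl (Dual.HD A ω j)) := hj
    rw [← not_subsingleton_iff_nontrivial, subsingleton_localizedModule_HD_iff ω p j] at hj
    exact hj (hz j hne)

end Groth.Agent.Lib.helper23.DimFn
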