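import Mathlib
import Groth.Prelude.Def_Wider
import Groth.Prelude.Def_DDual2
import Groth.Agent.Lib.Helper23.FBC15
import Groth.Agent.Lib.Helper23.FBC13

/-!
# Flat base change of dualizing complexes: `A/I = B/IB`, `IB ⊆ rad B`; flat local maps with
`m_A B = m_B` (helper23)
-/

set_option autoImplicit false
universe u
open CategoryTheory CategoryTheory.Limits DerivedCategory Pretriangulated TensorProduct

attribute [local instance] HasDerivedCategory.standard

namespace Groth.Agent.Lib.helper23.FBC

attribute [local instance 50] homModuleA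
attribute [local instance] FlatBC.preservesFiniteLimits_extendScalars_algebraMap

variable (A B : Type u) [CommRing A] [CommRing B] [Algebra A B] [IsNoetherianRing A]
  [IsNoetherianRing B] [Module.Flat A B]

lemma hmax_of_map_eq
    (h : ∀ m' : Ideal B, m'.IsMaximal → ∃ m : Ideal A, m.map (algebraMap A B) = m')
    (m' : Ideal B) (hm' : m'.IsMaximal) : ∃ M : ModuleCat.{u} A, Module.Finite A M ∧
      Nonempty (ModuleCat.of B (B ⧸ m') ≅
        (ModuleCat.extendScalars.{u, u, u} (algebraMap A B)).obj M) := by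
  obtain ⟨m, hm⟩ := h m' hm'
  refine ⟨ModuleCat.of A (A ⧸ m), inferInstanceAs (Module.Finite A (A ⧸ m)), ⟨?_⟩⟩
  exact (Submodule.quotEquivOfEq _ _ hm.symm).toModuleIso ≪≫ quotMapIso B m

/-- S1778. -/
theorem isDualizing_LBaseChange_of_iso_mod_ideal (I : Ideal A)
    (hs : Function.Surjective
      ((Ideal.Quotient.mk (I.map (algebraMap A B))).comp (algebraMap A B)))
    (hJ : I.map (algebraMap A B) ≤ (⊥ : Ideal B).jacobson)
    [DRing.HasLBaseChange (algebraMap A B)] (ω : Dual.D A) (hω : Dual.IsDualizing A ω) :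
    Dual.IsDualizing B ((DRing.LBaseChange (algebraMap A B)).obj ω) := by
  refine isDualizing_of_iso ((FlatBC.lbcIso (algebraMap A B)).app ω).symm
    (isDualizing_EE_of_maximal B (hmax_of_map_eq A B (fun m' hm' => ?_)) ω hω)
  have hIm' : I.map (algebraMap A B) ≤ m' :=
    le_trans hJ (sInf_le ⟨bot_le, hm'⟩)
  refine ⟨m'.comap (algebraMap A B), le_antisymm Ideal.map_comap_le (fun y hy => ?_)⟩
  obtain ⟨a, ha⟩ := hs (Ideal.Quotient.mk _ y)
  have h1 : algebraMap A B a - y ∈ I.map (algebraMap A B) := by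
    rw [← Ideal.Quotient.eq]
    exact ha
  have h2 : algebraMap A B a ∈ m' := by
    have : algebraMap A B a = (algebraMap A B a - y) + y := by ring
    rw [this]
    exact m'.add_mem (hIm' h1) hy
  have h3 : I ≤ m'.comap (algebraMap A B) := fun z hz =>
    hIm' (Ideal.mem_map_of_mem _ hz)
  have h4 : y = algebraMap A B a - (algebraMap A B a - y) := by ring
  rw [h4]
  exact Ideal.sub_mem _ (Ideal.mem_map_of_mem _ h2) (Ideal.map_mono h3 h1)

/-- the residue field as a quotient module. -/
noncomputable def residueFieldIso (R : Type u) [CommRing R] [IsLocalRing R] :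
    ModuleCat.of R (IsLocalRing.ResidueField R) ≅
      ModuleCat.of R (R ⧸ IsLocalRing.maximalIdeal R) :=
  (LinearEquiv.refl R (R ⧸ IsLocalRing.maximalIdeal R)).toModuleIso

/-- S1777. -/
theorem isNormalized_LBaseChange_of_map_maximalIdeal [IsLocalRing A] [IsLocalRing B]
    (hm : (IsLocalRing.maximalIdeal A).map (algebraMap A B) = IsLocalRing.maximalIdeal B)
    [DRing.HasLBaseChange (algebraMap A B)] (ω : Dual.D A) (hω : Dual.IsDualizing A ω)
    (hn : Dual.IsNormalized A ω) :
    Dual.IsDualizing B ((DRing.LBaseChange (algebraMap A B)).obj ω) ∧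
      Dual.IsNormalized B ((DRing.LBaseChange (algebraMap A B)).obj ω) := by
  refine ⟨isDualizing_of_iso ((FlatBC.lbcIso (algebraMap A B)).app ω).symm
    (isDualizing_EE_of_maximal B (hmax_of_map_eq A B (fun m' hm' =>
      ⟨IsLocalRing.maximalIdeal A, hm.trans (IsLocalRing.eq_maximalIdeal hm').symm⟩)) ω hω), ?_⟩
  intro i hi
  obtain ⟨a, b, hab, hGE, hLE, hv⟩ := exists_bounds ω hω
  haveI := hGE
  let kA : ModuleCat.{u} A := ModuleCat.of A (A ⧸ IsLocalRing.maximalIdeal A)
  haveI : Module.Finite A kA := inferInstanceAs (Module.Finite A (A ⧸ IsLocalRing.maximalIdeal A))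
  haveI := hn i hi
  haveI : Subsingleton (sg kA ⟶ ω⟦i⟧) :=
    subsingleton_hom_of_iso ((singleFunctor (ModuleCat.{u} A) 0).mapIso (residueFieldIso A))
      (Iso.refl _)
  haveI := subsingleton_of_BS (BB_single_finite' B ω a i kA).2
  let e : ModuleCat.of B (IsLocalRing.ResidueField B) ≅
      (ModuleCat.extendScalars.{u, u, u} (algebraMap A B)).obj kA :=
    residueFieldIso B ≪≫ (Submodule.quotEquivOfEq _ _ hm.symm).toModuleIso ≪≫
      quotMapIso B (IsLocalRing.maximalIdeal A)
  exact subsingleton_hom_of_iso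
    (EEsingleIso B kA ≪≫ (singleFunctor (ModuleCat.{u} B) 0).mapIso e.symm)
    (EEshiftIso B ω i ≪≫ (shiftFunctor (Dual.D B) i).mapIso
      ((FlatBC.lbcIso (algebraMap A B)).app ω).symm)

end Groth.Agent.Lib.helper23.FBC
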