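import Mathlib
import Groth.Prelude.Def_Wider
import Groth.Prelude.Def_DDual2
import Groth.Agent.Lib.Helper23.DimFn5
import Groth.Agent.Lib.Helper23.DimFn6
import Groth.Agent.Lib.Helper23.FBC16

/-!
# The dimension function and `dim A/p`, over a local ring (helper23)
-/

set_option autoImplicit false
universe u
open CategoryTheory CategoryTheory.Limits DerivedCategory Pretriangulated TensorProduct

attribute [local instance] HasDerivedCategory.standard

namespace Groth.Agent.Lib.helper23.DimFn

open Groth.Agent.Lib.helper23.FBC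

attribute [local instance 50] homModuleA
attribute [local instance] FlatBC.preservesFiniteLimits_extendScalars_algebraMap
attribute [local instance] flat_atPrime

section Order

variable {α : Type*} [PartialOrder α]

/-- the Krull dimension of `{x | x₀ ≤ x}` computed by a dimension function, in an order with a
top element `t`. -/
lemma krullDim_Ici_eq (hwf : WellFounded ((· > ·) : α → α → Prop)) (n : α → ℤ)
    (hn : StrictMono n) (hcov : ∀ p q : α, p ⋖ q → n p = n q - 1) (x₀ t : α)
    (htop : ∀ x, x ≤ t) :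
    Order.krullDim ↥{x : α | x₀ ≤ x} = (((n t - n x₀).toNat : ℕ∞) : WithBot ℕ∞) := by
  apply le_antisymm
  · exact krullDim_le_of_strictMono_int (fun x : ↥{x : α | x₀ ≤ x} => n x.1)
      (fun x y hxy => hn hxy) (n x₀) (n t) (fun x => ⟨hn.monotone x.2, hn.monotone (htop x.1)⟩)
  · have hwf' : WellFounded ((· > ·) : ↥{x : α | x₀ ≤ x} → ↥{x : α | x₀ ≤ x} → Prop) :=
      Subrelation.wf (fun {x y} hxy => (show x.1 > y.1 from hxy))
        (InvImage.wf (fun x : ↥{x : α | x₀ ≤ x} => x.1) hwf)
    have hcov' : ∀ c q : ↥{x : α | x₀ ≤ x}, c ⋖ q → n c.1 = n q.1 - 1 := by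
      intro c q hcq
      refine hcov c.1 q.1 ⟨hcq.1, fun d hcd hdq => ?_⟩
      exact hcq.2 (c := ⟨d, le_trans c.2 hcd.le⟩) hcd hdq
    have h1 := sub_le_height hwf' (fun x : ↥{x : α | x₀ ≤ x} => n x.1)
      (fun x y hxy => hn hxy) hcov' _ ⟨x₀, le_refl x₀⟩ ⟨t, htop x₀⟩ (htop x₀) rfl
    have h2 := Order.height_le_krullDim (⟨t, htop x₀⟩ : ↥{x : α | x₀ ≤ x})
    exact le_trans (WithBot.coe_le_coe.2 h1) h2

end Order

variable {A : Type u} [CommRing A] [IsNoetherianRing A]

/-- at a minimal prime, the cohomology of a dualizing complex is concentrated in degree `n_p`. -/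
theorem nontrivial_HD_minimalPrime_iff (ω : Dual.D A) (hω : Dual.IsDualizing A ω) (a : ℤ)
    [ω.IsGE a] (p : Ideal A) [hpp : p.IsPrime] (hp : p ∈ minimalPrimes A) (n : ℤ)
    (hn : ∀ i : ℤ, Zloc ω p (ModuleCat.of A (A ⧸ p)) i ↔ i ≠ n) (i : ℤ) :
    Nontrivial (LocalizedModule p.primeCompl (Dual.HD A ω i)) ↔ i = n := by
  have hK := isDualizing_EE_atPrime ω hω p
  haveI : IsNoetherianRing (Localization.AtPrime p) := hK.isNoetherianRing
  have hmap : p.map (algebraMap A (Localization.AtPrime p)) =
      IsLocalRing.maximalIdeal (Localization.AtPrime p) :=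
    Localization.AtPrime.map_eq_maximalIdeal
  have honly : ∀ p' : Ideal (Localization.AtPrime p), p'.IsPrime →
      p' = IsLocalRing.maximalIdeal (Localization.AtPrime p) := by
    intro p' hp'
    have hmc : (p'.comap (algebraMap A (Localization.AtPrime p))).map
        (algebraMap A (Localization.AtPrime p)) = p' :=
      IsLocalization.map_under p.primeCompl (Localization.AtPrime p) p'
    have h3 : p'.comap (algebraMap A (Localization.AtPrime p)) ≤ p :=
      le_of_le_of_eq
        (Ideal.comap_mono (IsLocalRing.le_maximalIdeal (Ideal.IsPrime.ne_top hp')))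
        (IsLocalization.AtPrime.under_maximalIdeal (Localization.AtPrime p) p)
    have h4 : p'.comap (algebraMap A (Localization.AtPrime p)) = p :=
      le_antisymm h3 (hp.2 ⟨Ideal.comap_isPrime _ p', bot_le⟩ h3)
    rw [← hmc, h4]
    exact hmap
  have hz : ∀ j : ℤ, j ≠ n → IsZero ((homologyFunctor
      (ModuleCat.{u} (Localization.AtPrime p)) j).obj
        ((EE A (Localization.AtPrime p)).obj ω)) := by
    intro j hj
    have h1 := (Zloc_iff_VZ ω a p p j).1 ((hn j).2 hj)
    rw [hmap] at h1
    have hVZ : VZ ((EE A (Localization.AtPrime p)).obj ω) j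
        (ModuleCat.of (Localization.AtPrime p) (Localization.AtPrime p)) := by
      refine VZ_of_killed (A := Localization.AtPrime p) ⊥ (fun p' hp' _ => ?_)
        (Localization.AtPrime p) (fun y hy m => by
          rw [(Submodule.mem_bot (Localization.AtPrime p)).1 hy, zero_smul])
      rw [honly p' hp']
      exact h1
    exact isZero_homology_of_subsingleton _ j ⟨fun f g => by rw [hVZ f, hVZ g]⟩
  rw [← not_subsingleton_iff_nontrivial, subsingleton_localizedModule_HD_iff ω p i]
  constructor
  · intro h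
    by_contra hne
    exact h (hz i hne)
  · rintro rfl hzn
    have hall : ∀ j : ℤ, IsZero ((homologyFunctor
        (ModuleCat.{u} (Localization.AtPrime p)) j).obj
          ((EE A (Localization.AtPrime p)).obj ω)) := by
      intro j
      by_cases hj : j = i
      · rw [hj]
        exact hzn
      · exact hz j hj
    haveI : ((EE A (Localization.AtPrime p)).obj ω).IsGE 1 :=
      (DerivedCategory.isGE_iff _ 1).2 (fun j _ => hall j)
    haveI : ((EE A (Localization.AtPrime p)).obj ω).IsLE 0 :=
      (DerivedCategory.isLE_iff _ 0).2 (fun j _ => hall j)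
    haveI := subsingleton_hom_of_isLE_of_isGE ((EE A (Localization.AtPrime p)).obj ω)
      ((EE A (Localization.AtPrime p)).obj ω) 0 1 (by omega)
    have h5 : (1 : Localization.AtPrime p) = 0 := hK.toEnd_bijective.1 (Subsingleton.elim _ _)
    exact one_ne_zero h5

/-- the dimension function of a dualizing complex, packaged. -/
theorem exists_dimFn (ω : Dual.D A) (hω : Dual.IsDualizing A ω) :
    ∃ (a : ℤ) (_ : ω.IsGE a) (n : PrimeSpectrum A → ℤ),
      (∀ (p : PrimeSpectrum A) (i : ℤ),
        Zloc ω p.asIdeal (ModuleCat.of A (A ⧸ p.asIdeal)) i ↔ i ≠ n p) ∧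
      (∀ p q : PrimeSpectrum A, p ⋖ q → n p = n q - 1) ∧ StrictMono n := by
  obtain ⟨a, b, hab, hGE, hLE, hv⟩ := exists_bounds ω hω
  haveI := hGE
  obtain ⟨n, hn1, hn2⟩ := exists_dimension_function_of_pointwise ω a hω.finite_cohomology
    (fun q _ => isDualizing_EE_atPrime ω hω q)
  have hlow : ∀ p : PrimeSpectrum A, a ≤ n p := by
    intro p
    by_contra hcon
    haveI := hv (A ⧸ p.asIdeal) (n p) (Or.inl (by omega))
    refine (hn1 p (n p)).1 (fun t => ⟨1, ?_, ?_⟩) rfl
    · exact fun h => (Ideal.IsPrime.ne_top p.2) ((Ideal.eq_top_iff_one _).2 h)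
    · rw [one_smul]
      exact Subsingleton.elim _ _
  exact ⟨a, hGE, n, hn1, hn2,
    strictMono_of_covBy wellFounded_gt_primeSpectrum n a hlow hn2⟩

/-- S1719. -/
theorem nontrivial_localized_HD_iff_minimalPrime [IsLocalRing A] (ω : Dual.D A)
    (hω : Dual.IsDualizing A ω) (hnorm : Dual.IsNormalized A ω) (p : Ideal A)
    (hp : p ∈ minimalPrimes A) (e : ℕ) (he : ringKrullDim (A ⧸ p) = e) (i : ℤ) :
    Nontrivial (LocalizedModule (Ideal.primeCompl p (hp := hp.1.1)) (Dual.HD A ω i)) ↔
      i = -(e : ℤ) := by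
  haveI hpp : p.IsPrime := hp.1.1
  obtain ⟨a, hGE, n, hn1, hn2, hsm⟩ := exists_dimFn ω hω
  haveI := hGE
  let P : PrimeSpectrum A := ⟨p, hpp⟩
  let m : PrimeSpectrum A := IsLocalRing.closedPoint A
  have htop : ∀ x : PrimeSpectrum A, x ≤ m := fun x =>
    (PrimeSpectrum.asIdeal_le_asIdeal x m).1 (IsLocalRing.le_maximalIdeal x.2.ne_top)
  -- `n m = 0`
  have hm0 : n m = 0 := by
    by_contra hne
    haveI := hnorm (n m) hne
    haveI : Subsingleton (FBC.sg (ModuleCat.of A (A ⧸ m.asIdeal)) ⟶ ω⟦n m⟧) :=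
      subsingleton_hom_of_iso ((singleFunctor (ModuleCat.{u} A) 0).mapIso (residueFieldIso A))
        (Iso.refl _)
    refine (hn1 m (n m)).1 (fun t => ⟨1, ?_, ?_⟩) rfl
    · exact fun h => (Ideal.IsPrime.ne_top m.2) ((Ideal.eq_top_iff_one _).2 h)
    · rw [one_smul]
      exact Subsingleton.elim _ _
  -- `dim A/p = n m - n p`
  have hset : PrimeSpectrum.zeroLocus (R := A) (p : Set A) = {x : PrimeSpectrum A | P ≤ x} := by
    ext x
    rw [PrimeSpectrum.mem_zeroLocus, Set.mem_ofPred_eq, ← PrimeSpectrum.asIdeal_le_asIdeal]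
    exact SetLike.coe_subset_coe
  have hdim : ringKrullDim (A ⧸ p) = (((n m - n P).toNat : ℕ∞) : WithBot ℕ∞) := by
    rw [ringKrullDim_quotient, hset]
    exact krullDim_Ici_eq wellFounded_gt_primeSpectrum n hsm hn2 P m htop
  have hle : n P ≤ n m := hsm.monotone (htop P)
  have hnP : n P = -(e : ℤ) := by
    rw [he] at hdim
    have h1 : (e : ℕ∞) = ((n m - n P).toNat : ℕ∞) := by exact_mod_cast hdim
    have h2 : e = (n m - n P).toNat := by exact_mod_cast h1
    omega
  rw [← hnP]
  exact nontrivial_HD_minimalPrime_iff ω hω a p hp (n P) (hn1 P) i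

end Groth.Agent.Lib.helper23.DimFn
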