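import Mathlib
import Groth.Prelude.Def_Wider
import Groth.Prelude.Def_DDual2
import Groth.Agent.Lib.Helper23.DimFn7

/-!
# Vanishing range and supports of `Ext^i(M, ω)` over a local ring (helper23)
-/

set_option autoImplicit false
universe u
open CategoryTheory CategoryTheory.Limits DerivedCategory Pretriangulated TensorProduct

attribute [local instance] HasDerivedCategory.standard

namespace Groth.Agent.Lib.helper23.DimFn

open Groth.Agent.Lib.helper23.FBC Groth.Agent.Lib.helper23.BassD

attribute [local instance 50] homModuleA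
attribute [local instance] FlatBC.preservesFiniteLimits_extendScalars_algebraMap
attribute [local instance] flat_atPrime

section Order

variable {α : Type*} [PartialOrder α]

/-- the growth of the dimension function inside an upper set is bounded by its Krull
dimension. -/
lemma sub_le_krullDim_of_isUpperSet (hwf : WellFounded ((· > ·) : α → α → Prop)) (n : α → ℤ)
    (hn : StrictMono n) (hcov : ∀ p q : α, p ⋖ q → n p = n q - 1) (S : Set α)
    (hS : IsUpperSet S) (x₀ t : α) (hx₀ : x₀ ∈ S) (hle : x₀ ≤ t) :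
    (((n t - n x₀).toNat : ℕ∞) : WithBot ℕ∞) ≤ Order.krullDim ↥S := by
  have hwf' : WellFounded ((· > ·) : ↥S → ↥S → Prop) :=
    Subrelation.wf (fun {x y} hxy => (show x.1 > y.1 from hxy))
      (InvImage.wf (fun x : ↥S => x.1) hwf)
  have hcov' : ∀ c q : ↥S, c ⋖ q → n c.1 = n q.1 - 1 := by
    intro c q hcq
    refine hcov c.1 q.1 ⟨hcq.1, fun d hcd hdq => ?_⟩
    exact hcq.2 (c := ⟨d, hS hcd.le c.2⟩) hcd hdq
  have h1 := sub_le_height hwf' (fun x : ↥S => n x.1)
    (fun x y hxy => hn hxy) hcov' _ ⟨x₀, hx₀⟩ ⟨t, hS hle hx₀⟩ hle rfl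
  have h2 := Order.height_le_krullDim (⟨t, hS hle hx₀⟩ : ↥S)
  exact le_trans (WithBot.coe_le_coe.2 h1) h2

end Order

section Local

variable {A : Type u} [CommRing A] [IsNoetherianRing A] [IsLocalRing A] {K : Dual.D A} (a : ℤ)
  (hKa : ∀ j : ℤ, j < a → IsZero ((homologyFunctor (ModuleCat.{u} A) j).obj K))
  (hfin : ∀ j : ℤ, Module.Finite A ((homologyFunctor (ModuleCat.{u} A) j).obj K))

include hKa hfin in
/-- Nakayama step. -/
lemma VZ_of_cok (P : Ideal A) [P.IsPrime] (x : A) (hxm : x ∈ IsLocalRing.maximalIdeal A)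
    (hxP : x ∉ P) (i : ℤ) (hcok : VZ K (i + 1) (cokSC P x).X₃) :
    VZ K i (ModuleCat.of A (A ⧸ P)) := by
  intro φ
  haveI : Module.Finite A (ModuleCat.of A (A ⧸ P)) := inferInstanceAs (Module.Finite A (A ⧸ P))
  haveI : Module.Finite A (BassD.sg (ModuleCat.of A (A ⧸ P)) ⟶ K⟦i⟧) :=
    FinHom.finite_hom_single_of_bddBelow (ModuleCat.of A (A ⧸ P)) K a hKa hfin i
  obtain ⟨r, hr1, hr2⟩ := exists_kill (H := (BassD.sg (ModuleCat.of A (A ⧸ P)) ⟶ K⟦i⟧)) x
    (fun φ => exists_smul_eq_of_VZ (cokSC P x) (cokSC_shortExact P x hxP) x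
      (Iso.refl _) rfl hcok φ)
  have hr : IsUnit r := by
    by_contra hnu
    have h1 : r ∈ IsLocalRing.maximalIdeal A := (IsLocalRing.mem_maximalIdeal r).2 hnu
    have h2 : r - 1 ∈ IsLocalRing.maximalIdeal A :=
      (Ideal.span_singleton_le_iff_mem _).2 hxm hr1
    have h3 : (1 : A) ∈ IsLocalRing.maximalIdeal A := by
      have : (1 : A) = r - (r - 1) := by ring
      rw [this]
      exact Ideal.sub_mem _ h1 h2
    exact (Ideal.IsPrime.ne_top inferInstance) ((Ideal.eq_top_iff_one _).2 h3)
  obtain ⟨r', hr'⟩ := hr.exists_left_inv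
  have h4 : φ = r' • (r • φ) := by rw [smul_smul, hr', one_smul]
  rw [h4, hr2 φ, smul_zero]

include hKa hfin in
/-- **lower vanishing**: `Ext^i(A/q, K) = 0` for `i < n q`. -/
theorem VZ_lower (n : PrimeSpectrum A → ℤ) (hsm : StrictMono n)
    (hm : ∀ i : ℤ, i < n (IsLocalRing.closedPoint A) →
      VZ K i (ModuleCat.of A (A ⧸ IsLocalRing.maximalIdeal A))) :
    ∀ (q : PrimeSpectrum A) (i : ℤ), i < n q → VZ K i (ModuleCat.of A (A ⧸ q.asIdeal)) := by
  intro q
  induction q using (wellFounded_gt_primeSpectrum (A := A)).induction with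
  | _ q IH =>
    intro i hi
    haveI := q.2
    by_cases hq : q.asIdeal = IsLocalRing.maximalIdeal A
    · have hq' : q = IsLocalRing.closedPoint A := PrimeSpectrum.ext hq
      rw [hq]
      exact hm i (by rw [← hq']; exact hi)
    · have hqm : q.asIdeal ≤ IsLocalRing.maximalIdeal A :=
        IsLocalRing.le_maximalIdeal (Ideal.IsPrime.ne_top q.2)
      obtain ⟨x, hxm, hxq⟩ : ∃ x, x ∈ IsLocalRing.maximalIdeal A ∧ x ∉ q.asIdeal := by
        by_contra hcon
        push Not at hcon
        exact hq (le_antisymm hqm hcon)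
      refine VZ_of_cok a hKa hfin q.asIdeal x hxm hxq i ?_
      refine VZ_of_killed (q.asIdeal ⊔ Ideal.span {x}) (fun p' hp' hJ => ?_)
        ((A ⧸ q.asIdeal) ⧸ LinearMap.range (LinearMap.lsmul A (A ⧸ q.asIdeal) x))
        (cokSC_ann q.asIdeal x)
      have hlt : q.asIdeal < p' := by
        refine lt_of_le_of_ne (le_trans le_sup_left hJ) (fun h => hxq ?_)
        rw [h]
        exact hJ (Ideal.mem_sup_right (Ideal.subset_span rfl))
      have hlt' : q < (⟨p', hp'⟩ : PrimeSpectrum A) :=
        (PrimeSpectrum.asIdeal_lt_asIdeal q ⟨p', hp'⟩).1 hlt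
      have h1 := hsm hlt'
      exact IH ⟨p', hp'⟩ hlt' (i + 1) (by omega)

include hKa hfin in
/-- lower vanishing for finite modules. -/
theorem VZ_lower_module (n : PrimeSpectrum A → ℤ) (hsm : StrictMono n)
    (hm : ∀ i : ℤ, i < n (IsLocalRing.closedPoint A) →
      VZ K i (ModuleCat.of A (A ⧸ IsLocalRing.maximalIdeal A)))
    (M : Type u) [AddCommGroup M] [Module A M] [Module.Finite A M] (i : ℤ)
    (hi : ∀ q : PrimeSpectrum A, q ∈ Module.support A M → i < n q) :
    VZ K i (ModuleCat.of A M) := by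
  refine VZ_of_killed (Module.annihilator A M) (fun p' hp' hJ => ?_) M
    (fun y hy m => Module.mem_annihilator.1 hy m)
  exact VZ_lower a hKa hfin n hsm hm ⟨p', hp'⟩ i
    (hi ⟨p', hp'⟩ (Module.mem_support_iff_of_finite.2 hJ))

end Local

section Upper

variable {A : Type u} [CommRing A] [IsNoetherianRing A]

/-- **upper vanishing, localized**: `Ext^i(M, ω)_q = 0` for `i > n_q`. -/
theorem Zloc_of_gt (ω : Dual.D A) (a : ℤ) [ω.IsGE a]
    (hfin : ∀ j : ℤ, Module.Finite A ((homologyFunctor (ModuleCat.{u} A) j).obj ω))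
    (q : Ideal A) [q.IsPrime] (nq : ℤ)
    (hnq : ∀ j : ℤ, nq < j → Zloc ω q (ModuleCat.of A (A ⧸ q)) j)
    (M : ModuleCat.{u} A) [Module.Finite A M] (i : ℤ) (hi : nq < i) : Zloc ω q M i := by
  haveI : IsNoetherianRing (Localization.AtPrime q) :=
    IsLocalization.isNoetherianRing q.primeCompl (Localization.AtPrime q) inferInstance
  have hmap : q.map (algebraMap A (Localization.AtPrime q)) =
      IsLocalRing.maximalIdeal (Localization.AtPrime q) :=
    Localization.AtPrime.map_eq_maximalIdeal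
  rw [Zloc_iff_subsingleton ω a q M i]
  haveI := isGE_EE (Localization.AtPrime q) ω a
  haveI : Module.Finite (Localization.AtPrime q)
      ((ModuleCat.extendScalars.{u, u, u} (algebraMap A (Localization.AtPrime q))).obj M) :=
    FlatBC.finite_extendScalars (algebraMap A (Localization.AtPrime q)) M
  have hPB := PB_of_maximal' (A := Localization.AtPrime q)
    (K := (EE A (Localization.AtPrime q)).obj ω) (n := nq) a
    ((DerivedCategory.isGE_iff _ a).1 inferInstance)
    (fun j => FlatBC.finite_homology_extD (algebraMap A (Localization.AtPrime q)) ω j (hfin j))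
    (fun m' hm' => by
      rw [IsLocalRing.eq_maximalIdeal hm']
      intro j hj φ
      have h1 := (Zloc_iff_VZ ω a q q j).1 (hnq j hj)
      rw [hmap] at h1
      exact h1 φ)
    ((ModuleCat.extendScalars.{u, u, u} (algebraMap A (Localization.AtPrime q))).obj M)
  haveI : Subsingleton (BassD.sg ((ModuleCat.extendScalars.{u, u, u}
      (algebraMap A (Localization.AtPrime q))).obj M) ⟶
      ((EE A (Localization.AtPrime q)).obj ω)⟦i⟧) :=
    ⟨fun f g => by rw [hPB i hi f, hPB i hi g]⟩
  exact subsingleton_hom_of_iso (EEsingleIso (Localization.AtPrime q) M).symm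
    (EEshiftIso (Localization.AtPrime q) ω i).symm

end Upper

end Groth.Agent.Lib.helper23.DimFn
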