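import Mathlib
import Groth.Prelude.Def_Wider
import Groth.Prelude.Def_DDual2
import Groth.Agent.Lib.Helper23.DimFn9

/-!
# `Ext^i(M, ω)` for a normalized dualizing complex: vanishing range and supports (helper23)
-/

set_option autoImplicit false
universe u
open CategoryTheory CategoryTheory.Limits DerivedCategory Pretriangulated TensorProduct

attribute [local instance] HasDerivedCategory.standard

namespace Groth.Agent.Lib.helper23.DimFn

open Groth.Agent.Lib.helper23.FBC Groth.Agent.Lib.helper23.BassD

attribute [local instance 50] homModuleA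
attribute [local instance] FlatBC.preservesFiniteLimits_extendScalars_algebraMap
attribute [local instance] flat_atPrime

variable {A : Type u} [CommRing A] [IsNoetherianRing A] [IsLocalRing A]

/-- the dimension function of a normalized dualizing complex over a local ring. -/
theorem exists_dimFn_normalized (ω : Dual.D A) (hω : Dual.IsDualizing A ω)
    (hnorm : Dual.IsNormalized A ω) :
    ∃ (a : ℤ) (_ : ω.IsGE a) (n : PrimeSpectrum A → ℤ),
      (∀ (p : PrimeSpectrum A) (i : ℤ),
        Zloc ω p.asIdeal (ModuleCat.of A (A ⧸ p.asIdeal)) i ↔ i ≠ n p) ∧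
      (∀ p q : PrimeSpectrum A, p ⋖ q → n p = n q - 1) ∧ StrictMono n ∧
      n (IsLocalRing.closedPoint A) = 0 ∧
      ∀ i : ℤ, i ≠ 0 → VZ ω i (ModuleCat.of A (A ⧸ IsLocalRing.maximalIdeal A)) := by
  obtain ⟨a, hGE, n, hn1, hn2, hsm⟩ := exists_dimFn ω hω
  have hVZ : ∀ i : ℤ, i ≠ 0 → VZ ω i (ModuleCat.of A (A ⧸ IsLocalRing.maximalIdeal A)) := by
    intro i hi φ
    haveI := hnorm i hi
    haveI : Subsingleton (FBC.sg (ModuleCat.of A (A ⧸ IsLocalRing.maximalIdeal A)) ⟶ ω⟦i⟧) :=
      subsingleton_hom_of_iso ((singleFunctor (ModuleCat.{u} A) 0).mapIso (residueFieldIso A))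
        (Iso.refl _)
    exact Subsingleton.elim _ _
  refine ⟨a, hGE, n, hn1, hn2, hsm, ?_, hVZ⟩
  by_contra hne
  refine (hn1 (IsLocalRing.closedPoint A) (n (IsLocalRing.closedPoint A))).1
    (fun t => ⟨1, ?_, ?_⟩) rfl
  · exact fun h => (Ideal.IsPrime.ne_top (IsLocalRing.closedPoint A).2)
      ((Ideal.eq_top_iff_one _).2 h)
  · rw [one_smul]
    exact hVZ _ hne t

/-- S0366. -/
theorem ext_dualizing_vanishing_and_support (ω : Dual.D A) (hω : Dual.IsDualizing A ω)
    (hnorm : Dual.IsNormalized A ω) (M : Type u) [AddCommGroup M] [Module A M]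
    [Module.Finite A M] (d : ℕ) (hd : Module.supportDim A M = d) (i : ℤ) :
    (Nontrivial (Dual.inD A M ⟶ ω⟦i⟧) → (-(d : ℤ) ≤ i ∧ i ≤ 0)) ∧
      Module.supportDim A (Dual.inD A M ⟶ ω⟦i⟧) ≤ ((-i).toNat : WithBot ℕ∞) := by
  obtain ⟨a, hGE, n, hn1, hn2, hsm, hn0, hVZ⟩ := exists_dimFn_normalized ω hω hnorm
  haveI := hGE
  have hKa : ∀ j : ℤ, j < a → IsZero ((homologyFunctor (ModuleCat.{u} A) j).obj ω) :=
    (DerivedCategory.isGE_iff ω a).1 inferInstance
  have hfin := hω.finite_cohomology
  have htop : ∀ x : PrimeSpectrum A, x ≤ IsLocalRing.closedPoint A := fun x =>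
    (PrimeSpectrum.asIdeal_le_asIdeal x _).1 (IsLocalRing.le_maximalIdeal x.2.ne_top)
  have hle0 : ∀ x : PrimeSpectrum A, n x ≤ 0 := fun x => by
    rw [← hn0]
    exact hsm.monotone (htop x)
  constructor
  · intro hnt
    by_contra hcon
    have hcase : i < -(d : ℤ) ∨ 0 < i := by omega
    have hVZM : VZ ω i (ModuleCat.of A M) := by
      rcases hcase with hlow | hup
      · refine VZ_lower_module a hKa hfin n hsm (fun j hj => hVZ j (by omega)) M i
          (fun q hq => ?_)
        have h1 := sub_le_krullDim_of_isUpperSet wellFounded_gt_primeSpectrum n hsm hn2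
          (Module.support A M) (fun x y hxy hx => Module.mem_support_mono hxy hx) q
          (IsLocalRing.closedPoint A) hq (htop q)
        rw [hn0] at h1
        have h2 : (((0 - n q).toNat : ℕ∞) : WithBot ℕ∞) ≤ ((d : ℕ∞) : WithBot ℕ∞) := by
          have h3 : Order.krullDim ↥(Module.support A M) = ((d : ℕ∞) : WithBot ℕ∞) := by
            rw [← Module.supportDim, hd]
            rfl
          rw [← h3]
          exact h1
        have h4 : (0 - n q).toNat ≤ d := by exact_mod_cast h2
        omega
      · haveI : Module.Finite A (ModuleCat.of A M) := inferInstanceAs (Module.Finite A M)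
        have hPB := PB_of_maximal' (K := ω) (n := 0) a hKa hfin (fun m' hm' => by
          rw [IsLocalRing.eq_maximalIdeal hm']
          intro j hj φ
          exact hVZ j (by omega) φ) (ModuleCat.of A M)
        exact hPB i hup
    obtain ⟨x, y, hxy⟩ := hnt
    exact hxy ((hVZM x).trans (hVZM y).symm)
  · rw [Module.supportDim]
    have h1 := krullDim_le_of_strictMono_int
      (fun x : ↥(Module.support A (Dual.inD A M ⟶ ω⟦i⟧)) => n x.1)
      (fun x y hxy => hsm hxy) i 0 (fun x => ⟨?_, hle0 x.1⟩)
    · rw [zero_sub] at h1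
      exact h1
    · by_contra hlt
      have hlt' : n x.1 < i := by omega
      haveI := x.1.2
      haveI : Module.Finite A (ModuleCat.of A M) := inferInstanceAs (Module.Finite A M)
      have hZ := Zloc_of_gt ω a hfin x.1.asIdeal (n x.1)
        (fun j hj => (hn1 x.1 j).2 (by omega)) (ModuleCat.of A M) i hlt'
      have hS := (Zloc_iff_localizedModule ω x.1.asIdeal (ModuleCat.of A M) i).1 hZ
      exact (not_subsingleton_iff_nontrivial.2 (Module.mem_support_iff.1 x.2)) hS

end Groth.Agent.Lib.helper23.DimFn
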