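import Mathlib
import Groth.Prelude.Def_Wider
import Groth.Prelude.Def_DDual2
import Groth.Prelude.Def_CAlg
import Groth.Agent.Lib.Helper23.DimFn10
import Groth.Agent.Lib.Helper26.Depth3
import Groth.Agent.Lib.Helper26.DepthCR

/-!
# Depth and `Ext^{-δ}(M, ω)` for a normalized dualizing complex (helper23)
-/

set_option autoImplicit false
universe u
open CategoryTheory CategoryTheory.Limits DerivedCategory Pretriangulated TensorProduct

attribute [local instance] HasDerivedCategory.standard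

namespace Groth.Agent.Lib.helper23.DimFn

open Groth.Agent.Lib.helper23.FBC Groth.Agent.Lib.helper23.BassD

section Tools

variable {A : Type u} [CommRing A] {K : Dual.D A} {i : ℤ}

/-- if `Hom(X₃[0], K[i+1]) = 0` then maps `X₁[0] → K[i]` extend to `X₂[0]`. -/
lemma exists_extension_of_VZ (S : ShortComplex (ModuleCat.{u} A)) (hS : S.ShortExact)
    (h₃ : VZ K (i + 1) S.X₃) (φ : BassD.sg S.X₁ ⟶ K⟦i⟧) :
    ∃ χ : BassD.sg S.X₂ ⟶ K⟦i⟧, φ = (singleFunctor (ModuleCat.{u} A) 0).map S.f ≫ χ := by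
  have hT := hS.singleTriangle_distinguished
  let δ : BassD.sg S.X₃ ⟶ (BassD.sg S.X₁)⟦(1 : ℤ)⟧ := hS.singleδ
  have h0 : δ ≫ φ⟦(1 : ℤ)⟧' = 0 := by
    let ι : K⟦i + 1⟧ ≅ (K⟦i⟧)⟦(1 : ℤ)⟧ := (shiftFunctorAdd' (Dual.D A) i 1 (i + 1) rfl).app K
    have h1 : (δ ≫ φ⟦(1 : ℤ)⟧') ≫ ι.inv = 0 := h₃ _
    have h2 : δ ≫ φ⟦(1 : ℤ)⟧' = ((δ ≫ φ⟦(1 : ℤ)⟧') ≫ ι.inv) ≫ ι.hom := by
      rw [Category.assoc, Iso.inv_hom_id, Category.comp_id]
    rw [h2, h1, zero_comp]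
  exact DualD.yoneda_exact₁ _ hT φ h0

lemma not_VZ_X₂ (S : ShortComplex (ModuleCat.{u} A)) (hS : S.ShortExact)
    (h₃ : VZ K (i + 1) S.X₃) (h₁ : ¬ VZ K i S.X₁) : ¬ VZ K i S.X₂ := by
  intro h₂
  apply h₁
  intro φ
  obtain ⟨χ, rfl⟩ := exists_extension_of_VZ S hS h₃ φ
  rw [h₂ χ, comp_zero]

/-- `Hom(X₁[0], K[j]) = 0` and `Hom(X₂[0], K[j+1]) = 0` imply `Hom(X₃[0], K[j+1]) = 0`. -/
lemma VZ_X₃ (S : ShortComplex (ModuleCat.{u} A)) (hS : S.ShortExact) (j : ℤ) (hj : j + 1 = i)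
    (h₁ : VZ K j S.X₁) (h₂ : VZ K i S.X₂) : VZ K i S.X₃ := by
  intro φ
  have hT := hS.singleTriangle_distinguished
  have h1 : (singleFunctor (ModuleCat.{u} A) 0).map S.g ≫ φ = 0 := h₂ _
  obtain ⟨θ, hθ⟩ : ∃ θ : (BassD.sg S.X₁)⟦(1 : ℤ)⟧ ⟶ K⟦i⟧, φ = hS.singleδ ≫ θ :=
    Triangle.yoneda_exact₃ _ hT φ h1
  let ι : K⟦i⟧ ≅ (K⟦j⟧)⟦(1 : ℤ)⟧ :=
    (shiftFunctorAdd' (Dual.D A) j 1 i hj).app K
  obtain ⟨θ', hθ'⟩ := (shiftFunctor (Dual.D A) (1 : ℤ)).map_surjective (θ ≫ ι.hom)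
  have h2 : θ' = 0 := h₁ θ'
  have h3 : θ = (θ ≫ ι.hom) ≫ ι.inv := by rw [Category.assoc, Iso.hom_inv_id, Category.comp_id]
  rw [hθ, h3, ← hθ', h2, Functor.map_zero, zero_comp, comp_zero]

variable [IsNoetherianRing A] [IsLocalRing A] (a : ℤ)
  (hKa : ∀ j : ℤ, j < a → IsZero ((homologyFunctor (ModuleCat.{u} A) j).obj K))
  (hfin : ∀ j : ℤ, Module.Finite A ((homologyFunctor (ModuleCat.{u} A) j).obj K))

include hKa hfin in
/-- Nakayama step for a regular element. -/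
lemma VZ_of_regular (M : ModuleCat.{u} A) [Module.Finite A M] (x : A)
    (hxm : x ∈ IsLocalRing.maximalIdeal A) (hreg : IsSMulRegular M x) (i : ℤ)
    (hcok : VZ K (i + 1) (M.smulShortComplex x).X₃) : VZ K i M := by
  intro φ
  haveI : Module.Finite A (BassD.sg M ⟶ K⟦i⟧) :=
    FinHom.finite_hom_single_of_bddBelow M K a hKa hfin i
  obtain ⟨r, hr1, hr2⟩ := exists_kill (H := (BassD.sg M ⟶ K⟦i⟧)) x
    (fun φ => exists_smul_eq_of_VZ (M.smulShortComplex x) hreg.smulShortComplex_shortExact x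
      (Iso.refl _) rfl hcok φ)
  have hr : IsUnit r := by
    by_contra hnu
    have h1 : r ∈ IsLocalRing.maximalIdeal A := (IsLocalRing.mem_maximalIdeal r).2 hnu
    have h2 : r - 1 ∈ IsLocalRing.maximalIdeal A :=
      (Ideal.span_singleton_le_iff_mem _).2 hxm hr1
    have h3 : (1 : A) ∈ IsLocalRing.maximalIdeal A := by
      have : (1 : A) = r - (r - 1) := by ring
      rw [this]
      exact Ideal.sub_mem _ h1 h2
    exact (Ideal.IsPrime.ne_top inferInstance) ((Ideal.eq_top_iff_one _).2 h3)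
  obtain ⟨r', hr'⟩ := hr.exists_left_inv
  have h4 : φ = r' • (r • φ) := by rw [smul_smul, hr', one_smul]
  rw [h4, hr2 φ, smul_zero]

end Tools

end Groth.Agent.Lib.helper23.DimFn
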