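import Mathlib
import Groth.Prelude.Def_Wider
import Groth.Prelude.Def_DDual2
import Groth.Prelude.Def_CAlg
import Groth.Agent.Lib.Helper23.DimFn11

/-!
# Depth and `Ext^{-δ}(M, ω)` for a normalized dualizing complex: the theorem (helper23)
-/

set_option autoImplicit false
universe u
open CategoryTheory CategoryTheory.Limits DerivedCategory Pretriangulated TensorProduct

attribute [local instance] HasDerivedCategory.standard

namespace Groth.Agent.Lib.helper23.DimFn

open Groth.Agent.Lib.helper23.FBC Groth.Agent.Lib.helper23.BassD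
open Groth.Agent.Lib.helper26.Depth
open scoped Pointwise

variable {A : Type u} [CommRing A] [IsNoetherianRing A] [IsLocalRing A]

lemma smul_top_ne_top (M : Type u) [AddCommGroup M] [Module A M] [Module.Finite A M]
    [Nontrivial M] : IsLocalRing.maximalIdeal A • (⊤ : Submodule A M) ≠ ⊤ := by
  intro h
  have h1 : (⊤ : Submodule A M) = ⊥ :=
    Submodule.eq_bot_of_le_smul_of_le_jacobson_bot (IsLocalRing.maximalIdeal A) ⊤
      Module.Finite.fg_top (le_of_eq h.symm)
      (by rw [IsLocalRing.jacobson_eq_maximalIdeal ⊥ bot_ne_top])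
  exact top_ne_bot h1

/-- the residue field embeds into a module of depth zero. -/
lemma exists_shortExact_of_depth_zero (M : Type u) [AddCommGroup M] [Module A M]
    [Module.Finite A M] (h0 : LocCoh.depth A M = 0) :
    ∃ S : ShortComplex (ModuleCat.{u} A), S.ShortExact ∧
      S.X₁ = ModuleCat.of A (A ⧸ IsLocalRing.maximalIdeal A) ∧ S.X₂ = ModuleCat.of A M ∧
      Module.Finite A S.X₃ := by
  obtain ⟨m₀, hm₀, hann⟩ :=
    exists_ne_zero_annihilated_of_idealDepth_eq_zero (IsLocalRing.maximalIdeal A) M h0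
  let f : (A ⧸ IsLocalRing.maximalIdeal A) →ₗ[A] M :=
    Submodule.liftQ _ (LinearMap.toSpanSingleton A M m₀) (fun r hr => by
      rw [LinearMap.mem_ker, LinearMap.toSpanSingleton_apply]
      exact hann r hr)
  have hf : Function.Injective f := by
    refine (injective_iff_map_eq_zero f).2 (fun z hz => ?_)
    obtain ⟨r, rfl⟩ := Submodule.mkQ_surjective _ z
    have h1 : r • m₀ = 0 := hz
    rw [Submodule.mkQ_apply, Submodule.Quotient.mk_eq_zero]
    by_contra hr
    have hu : IsUnit r := by
      by_contra hnu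
      exact hr ((IsLocalRing.mem_maximalIdeal r).2 hnu)
    obtain ⟨r', hr'⟩ := hu.exists_left_inv
    apply hm₀
    rw [← one_smul A m₀, ← hr', mul_smul, h1, smul_zero]
  let S : ShortComplex (ModuleCat.{u} A) :=
    ShortComplex.mk (ModuleCat.ofHom f) (ModuleCat.ofHom (LinearMap.range f).mkQ) (by
      rw [← ModuleCat.ofHom_comp, LinearMap.range_mkQ_comp]
      rfl)
  refine ⟨S, ?_, rfl, rfl, ?_⟩
  · exact
      { exact := (ShortComplex.ShortExact.moduleCat_exact_iff_function_exact S).2
          (LinearMap.exact_map_mkQ_range f)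
        mono_f := (ModuleCat.mono_iff_injective _).2 hf
        epi_g := (ModuleCat.epi_iff_surjective _).2 (Submodule.mkQ_surjective _) }
  · exact inferInstanceAs (Module.Finite A (M ⧸ LinearMap.range f))

/-- **depth via the dualizing complex**. -/
theorem depth_char (ω : Dual.D A) (hω : Dual.IsDualizing A ω) (hnorm : Dual.IsNormalized A ω) :
    ∀ (n : ℕ) (M : Type u) [AddCommGroup M] [Module A M] [Module.Finite A M] [Nontrivial M],
      LocCoh.depth A M = n →
        (∀ δ : ℕ, δ < n → VZ ω (-(δ : ℤ)) (ModuleCat.of A M)) ∧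
          ¬ VZ ω (-(n : ℤ)) (ModuleCat.of A M) := by
  obtain ⟨a, hGE, nf, hn1, hn2, hsm, hn0, hVZ⟩ := exists_dimFn_normalized ω hω hnorm
  haveI := hGE
  have hKa : ∀ j : ℤ, j < a → IsZero ((homologyFunctor (ModuleCat.{u} A) j).obj ω) :=
    (DerivedCategory.isGE_iff ω a).1 inferInstance
  have hfin := hω.finite_cohomology
  have hup : ∀ (N : ModuleCat.{u} A) [Module.Finite A N] (i : ℤ), 0 < i → VZ ω i N := by
    intro N _ i hi
    exact PB_of_maximal' (K := ω) (n := 0) a hKa hfin (fun m' hm' => by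
      rw [IsLocalRing.eq_maximalIdeal hm']
      intro j hj φ
      exact hVZ j (by omega) φ) N i hi
  have hκ : ¬ VZ ω 0 (ModuleCat.of A (A ⧸ IsLocalRing.maximalIdeal A)) := by
    intro h
    refine (hn1 (IsLocalRing.closedPoint A) 0).1 (fun t => ⟨1, ?_, ?_⟩) hn0.symm
    · exact fun h' => (Ideal.IsPrime.ne_top (IsLocalRing.closedPoint A).2)
        ((Ideal.eq_top_iff_one _).2 h')
    · rw [one_smul]
      exact h t
  intro n
  induction n with
  | zero =>
    intro M _ _ _ _ hM
    refine ⟨fun δ hδ => absurd hδ (Nat.not_lt_zero δ), ?_⟩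
    obtain ⟨S, hS, h1, h2, h3⟩ := exists_shortExact_of_depth_zero M (by exact_mod_cast hM)
    haveI := h3
    have h4 := not_VZ_X₂ (K := ω) (i := 0) S hS (hup S.X₃ (0 + 1) (by omega)) (by rw [h1]; exact hκ)
    rw [h2] at h4
    simpa using h4
  | succ n IH =>
    intro M _ _ _ _ hM
    have hIM := smul_top_ne_top (A := A) M
    have h1 : ((1 : ℕ) : ℕ∞) ≤ LocCoh.idealDepth (IsLocalRing.maximalIdeal A) M := by
      have : LocCoh.idealDepth (IsLocalRing.maximalIdeal A) M = ((n + 1 : ℕ) : ℕ∞) := hM
      rw [this]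
      exact_mod_cast Nat.succ_le_succ (Nat.zero_le n)
    obtain ⟨rs, hlen, hmem, hreg⟩ := exists_isWeaklyRegular_of_le hIM h1
    obtain ⟨x, rfl⟩ : ∃ x, rs = [x] := List.length_eq_one_iff.1 hlen
    rw [RingTheory.Sequence.isWeaklyRegular_singleton_iff] at hreg
    have hxm : x ∈ IsLocalRing.maximalIdeal A := hmem x (by simp)
    have hdepthN : LocCoh.depth A (QuotSMulTop x M) = n := by
      have h2 := idealDepth_quotSMulTop_add_one (IsLocalRing.maximalIdeal A) M x hxm hreg
      have h3 : LocCoh.idealDepth (IsLocalRing.maximalIdeal A) (QuotSMulTop x M) + 1 =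
          ((n + 1 : ℕ) : ℕ∞) := by
        rw [h2]
        exact hM
      exact enat_add_one_cancel h3
    haveI : Nontrivial (QuotSMulTop x M) := by
      refine Submodule.Quotient.nontrivial_iff.2 (fun h => hIM ?_)
      refine top_le_iff.1 (fun z _ => ?_)
      have hz : z ∈ x • (⊤ : Submodule A M) := by
        rw [h]
        trivial
      obtain ⟨w, -, rfl⟩ := (Submodule.mem_smul_pointwise_iff_exists _ _ _).1 hz
      exact Submodule.smul_mem_smul hxm (Submodule.mem_top (x := w))
    obtain ⟨IH1, IH2⟩ := IH (QuotSMulTop x M) hdepthN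
    haveI : Module.Finite A (ModuleCat.of A M) := inferInstanceAs (Module.Finite A M)
    have hlow : ∀ δ : ℕ, δ < n + 1 → VZ ω (-(δ : ℤ)) (ModuleCat.of A M) := by
      intro δ hδ
      refine VZ_of_regular a hKa hfin (ModuleCat.of A M) x hxm hreg (-(δ : ℤ)) ?_
      show VZ ω (-(δ : ℤ) + 1) (ModuleCat.of A (QuotSMulTop x M))
      cases δ with
      | zero => exact hup _ _ (by simp)
      | succ δ' =>
        have : (-((δ' + 1 : ℕ) : ℤ) + 1) = -(δ' : ℤ) := by push_cast; ring
        rw [this]
        exact IH1 δ' (by omega)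
    refine ⟨hlow, fun hcon => IH2 ?_⟩
    have h5 := VZ_X₃ (K := ω) (i := -(n : ℤ)) ((ModuleCat.of A M).smulShortComplex x)
      hreg.smulShortComplex_shortExact (-((n + 1 : ℕ) : ℤ)) (by push_cast; ring) hcon
      (hlow n (Nat.lt_succ_self n))
    exact h5

end Groth.Agent.Lib.helper23.DimFn
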