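import Mathlib
import Groth.Prelude.Def_Wider
import Groth.Prelude.Def_DDual2
import Groth.Prelude.Def_CAlg
import Groth.Agent.Lib.Helper23.DimFn12

/-!
# Depth, Cohen–Macaulayness and the normalized dualizing complex (helper23)
-/

set_option autoImplicit false
universe u
open CategoryTheory CategoryTheory.Limits DerivedCategory Pretriangulated TensorProduct

attribute [local instance] HasDerivedCategory.standard

namespace Groth.Agent.Lib.helper23.DimFn

open Groth.Agent.Lib.helper23.FBC Groth.Agent.Lib.helper23.BassD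
open Groth.Agent.Lib.helper26.Depth

section General

variable {A : Type u} [CommRing A]

lemma VZ_iff_subsingleton (K : Dual.D A) (i : ℤ) (M : ModuleCat.{u} A) :
    VZ K i M ↔ Subsingleton (BassD.sg M ⟶ K⟦i⟧) :=
  ⟨fun h => ⟨fun f g => by rw [h f, h g]⟩, fun _ _ => Subsingleton.elim _ _⟩

/-- `H^i(K) = 0` iff `Hom(A[0], K[i]) = 0`. -/
lemma subsingleton_HD_iff (K : Dual.D A) (i : ℤ) :
    Subsingleton (Dual.HD A K i) ↔ VZ K i (ModuleCat.of A A) := by
  constructor
  · intro h φ
    haveI : Projective (ModuleCat.of A A) :=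
      (IsProjective.iff_projective (R := A) (P := A)).1 inferInstance
    have hb := ProjCorep.ν_bijective (ModuleCat.of A A) (K⟦i⟧)
    have hz : IsZero ((homologyFunctor (ModuleCat.{u} A) 0).obj (K⟦i⟧)) :=
      ((ModuleCat.isZero_iff_subsingleton).2 h).of_iso (FlatBC.homologyShiftIso K i 0 i (by omega))
    apply hb.1
    exact hz.eq_of_tgt _ _
  · intro h
    exact (ModuleCat.isZero_iff_subsingleton).1
      (isZero_homology_of_subsingleton K i ((VZ_iff_subsingleton K i _).1 h))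

end General

variable {A : Type u} [CommRing A] [IsNoetherianRing A] [IsLocalRing A]

/-- S0367. -/
theorem depth_eq_iff_ext_dualizing (ω : Dual.D A) (hω : Dual.IsDualizing A ω)
    (hnorm : Dual.IsNormalized A ω) (M : Type u) [AddCommGroup M] [Module A M]
    [Module.Finite A M] [Nontrivial M] (n : ℕ) :
    LocCoh.depth A M = n ↔
      ((∀ δ : ℕ, δ < n → Subsingleton (Dual.inD A M ⟶ ω⟦(-(δ : ℤ))⟧)) ∧
        Nontrivial (Dual.inD A M ⟶ ω⟦(-(n : ℤ))⟧)) := by
  constructor
  · intro h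
    obtain ⟨h1, h2⟩ := depth_char ω hω hnorm n M h
    refine ⟨fun δ hδ => (VZ_iff_subsingleton ω _ _).1 (h1 δ hδ), ?_⟩
    rw [← not_subsingleton_iff_nontrivial]
    exact fun hs => h2 ((VZ_iff_subsingleton ω _ (ModuleCat.of A M)).2 hs)
  · rintro ⟨h1, h2⟩
    have hne : LocCoh.depth A M ≠ ⊤ := idealDepth_ne_top _ _ (smul_top_ne_top (A := A) M)
    obtain ⟨n', hn'⟩ := ENat.ne_top_iff_exists.1 hne
    obtain ⟨h3, h4⟩ := depth_char ω hω hnorm n' M hn'.symm
    rw [← hn']
    congr 1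
    by_contra hnn
    rcases Nat.lt_or_gt_of_ne hnn with hlt | hgt
    · -- n' < n
      exact h4 ((VZ_iff_subsingleton ω _ (ModuleCat.of A M)).2 (h1 n' hlt))
    · rw [← not_subsingleton_iff_nontrivial] at h2
      exact h2 ((VZ_iff_subsingleton ω _ (ModuleCat.of A M)).1 (h3 n hgt))

/-- S0365. -/
theorem depth_eq_iff_HD_dualizing (ω : Dual.D A) (hω : Dual.IsDualizing A ω)
    (hnorm : Dual.IsNormalized A ω) (n : ℕ) :
    LocCoh.depth A A = n ↔
      ((∀ δ : ℕ, δ < n → Subsingleton (Dual.HD A ω (-(δ : ℤ)))) ∧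
        Nontrivial (Dual.HD A ω (-(n : ℤ)))) := by
  rw [depth_eq_iff_ext_dualizing ω hω hnorm A n]
  constructor
  · rintro ⟨h1, h2⟩
    refine ⟨fun δ hδ => (subsingleton_HD_iff ω _).2
      ((VZ_iff_subsingleton ω _ (ModuleCat.of A A)).2 (h1 δ hδ)), ?_⟩
    rw [← not_subsingleton_iff_nontrivial] at h2 ⊢
    exact fun hs => h2 ((VZ_iff_subsingleton ω _ (ModuleCat.of A A)).1
      ((subsingleton_HD_iff ω _).1 hs))
  · rintro ⟨h1, h2⟩
    refine ⟨fun δ hδ => (VZ_iff_subsingleton ω _ (ModuleCat.of A A)).1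
      ((subsingleton_HD_iff ω _).1 (h1 δ hδ)), ?_⟩
    rw [← not_subsingleton_iff_nontrivial] at h2 ⊢
    exact fun hs => h2 ((subsingleton_HD_iff ω _).2
      ((VZ_iff_subsingleton ω _ (ModuleCat.of A A)).2 hs))

/-- S0368. -/
theorem cohenMacaulay_iff_ext_dualizing_single (ω : Dual.D A) (hω : Dual.IsDualizing A ω)
    (hnorm : Dual.IsNormalized A ω) (M : Type u) [AddCommGroup M] [Module A M]
    [Module.Finite A M] [Nontrivial M] (d : ℕ) (hd : Module.supportDim A M = d) :
    LocCoh.IsCohenMacaulayModule A M ↔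
      ∀ i : ℤ, i ≠ d → Subsingleton (Dual.inD A M ⟶ ω⟦(-i)⟧) := by
  have hne : LocCoh.depth A M ≠ ⊤ := idealDepth_ne_top _ _ (smul_top_ne_top (A := A) M)
  obtain ⟨n', hn'⟩ := ENat.ne_top_iff_exists.1 hne
  obtain ⟨h3, h4⟩ := depth_char ω hω hnorm n' M hn'.symm
  have hCM : LocCoh.IsCohenMacaulayModule A M ↔ n' = d := by
    rw [LocCoh.IsCohenMacaulayModule, hd, ← hn']
    constructor
    · intro h
      have h1 : (d : ℕ∞) = (n' : ℕ∞) := by exact_mod_cast h
      have h2 : d = n' := by exact_mod_cast h1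
      exact h2.symm
    · intro h
      rw [h]
      rfl
  rw [hCM]
  constructor
  · intro h i hi
    subst h
    by_cases hrange : 0 ≤ i ∧ i ≤ (n' : ℤ)
    · obtain ⟨δ, rfl⟩ := Int.eq_ofNat_of_zero_le hrange.1
      have hδ : δ < n' := by
        have := hrange.2
        have hne' : (δ : ℤ) ≠ (n' : ℤ) := hi
        omega
      exact (VZ_iff_subsingleton ω _ (ModuleCat.of A M)).1 (h3 δ hδ)
    · have h5 := (ext_dualizing_vanishing_and_support ω hω hnorm M n' hd (-i)).1
      rw [← not_nontrivial_iff_subsingleton]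
      intro hnt
      have h6 := h5 hnt
      omega
  · intro h
    by_contra hnd
    exact h4 ((VZ_iff_subsingleton ω _ (ModuleCat.of A M)).2 (h (n' : ℤ) (by exact_mod_cast hnd)))

end Groth.Agent.Lib.helper23.DimFn
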