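import Mathlib
import Groth.Prelude.Def_Wider
import Groth.Prelude.Def_DDual2
import Groth.Prelude.Def_CAlg
import Groth.Agent.Lib.Helper23.DimFn13
import Groth.Agent.Lib.Helper23.BaerD
import Groth.Agent.S0302

/-!
# Over an Artinian local ring a normalized dualizing complex is the injective hull of the residue
field (helper23)
-/

set_option autoImplicit false
universe u
open CategoryTheory CategoryTheory.Limits DerivedCategory Pretriangulated TensorProduct

attribute [local instance] HasDerivedCategory.standard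

namespace Groth.Agent.Lib.helper23.DimFn

open Groth.Agent.Lib.helper23.FBC Groth.Agent.Lib.helper23.BassD
open scoped Pointwise

variable {A : Type u} [CommRing A] [IsNoetherianRing A] [IsLocalRing A]

/-- step 1: `ω ≅ W[0]` with `W` injective. -/
theorem exists_iso_single_injective (h0 : ringKrullDim A = 0) (ω : Dual.D A)
    (hω : Dual.IsDualizing A ω) (hn : Dual.IsNormalized A ω) :
    ∃ W : ModuleCat.{u} A, Injective W ∧
      Nonempty (ω ≅ (singleFunctor (ModuleCat.{u} A) 0).obj W) := by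
  have hsd : Module.supportDim A A = ((0 : ℕ) : WithBot ℕ∞) := by
    rw [Module.supportDim_self_eq_ringKrullDim, h0]
    rfl
  -- vanishing of `Ext^i(N, ω)` for `i ≠ 0`, for finite modules of dimension `0`
  have hvan : ∀ (N : Type u) [AddCommGroup N] [Module A N] [Module.Finite A N] (i : ℤ), i ≠ 0 →
      Subsingleton (Dual.inD A N ⟶ ω⟦i⟧) := by
    intro N _ _ _ i hi
    by_cases hN : Nontrivial N
    · have h1 : Module.supportDim A N ≤ ((0 : ℕ) : WithBot ℕ∞) := by
        refine le_trans (Module.supportDim_le_ringKrullDim A N) ?_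
        rw [h0]
        rfl
      have h2 : Module.supportDim A N = ((0 : ℕ) : WithBot ℕ∞) := by
        refine le_antisymm h1 ?_
        have h3 : Module.supportDim A N ≠ ⊥ := Module.supportDim_ne_bot_of_nontrivial A N
        obtain ⟨x, hx⟩ := WithBot.ne_bot_iff_exists.1 h3
        rw [← hx]
        exact_mod_cast (zero_le (a := x))
      by_contra hns
      rw [not_subsingleton_iff_nontrivial] at hns
      have h3 := (ext_dualizing_vanishing_and_support ω hω hn N 0 h2 i).1 hns
      omega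
    · rw [not_nontrivial_iff_subsingleton] at hN
      have hz : IsZero (Dual.inD A N) :=
        Functor.map_isZero _ (ModuleCat.isZero_of_subsingleton (ModuleCat.of A N))
      exact ⟨fun f g => hz.eq_of_src _ _⟩
  have hHD : ∀ i : ℤ, i ≠ 0 → IsZero ((homologyFunctor (ModuleCat.{u} A) i).obj ω) := by
    intro i hi
    rw [ModuleCat.isZero_iff_subsingleton]
    exact (subsingleton_HD_iff ω i).2 ((VZ_iff_subsingleton ω i _).2 (hvan A i hi))
  haveI : ω.IsGE 0 := (DerivedCategory.isGE_iff ω 0).2 (fun i hi => hHD i (by omega))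
  haveI : ω.IsLE 0 := (DerivedCategory.isLE_iff ω 0).2 (fun i hi => hHD i (by omega))
  obtain ⟨I, hI1, hI2, ⟨e⟩⟩ := BaerD.exists_injective_model_of_cyclic ω 0 0 le_rfl
    (fun J φ => by
      haveI := hvan (A ⧸ J) (0 + 1) (by omega)
      exact Subsingleton.elim _ _)
  haveI : I.IsStrictlyGE 0 := (I.isStrictlyGE_iff 0).2 (fun i hi => hI2 i (Or.inl hi))
  haveI : I.IsStrictlyLE 0 := (I.isStrictlyLE_iff 0).2 (fun i hi => hI2 i (Or.inr hi))
  obtain ⟨W, ⟨e2⟩⟩ := CochainComplex.exists_iso_single I 0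
  refine ⟨W, ?_, ⟨e.symm ≪≫ Q.mapIso e2 ≪≫ ((singleFunctorIsoCompQ (ModuleCat.{u} A) 0).app W).symm⟩⟩
  have e3 : I.X 0 ≅ W :=
    (show I.X 0 ≅ ((HomologicalComplex.single (ModuleCat.{u} A) (ComplexShape.up ℤ) 0).obj W).X 0
      from (HomologicalComplex.eval _ _ 0).mapIso e2) ≪≫
    HomologicalComplex.singleObjXSelf (ComplexShape.up ℤ) 0 W
  exact Injective.of_iso e3 (hI1 0)

/-- socle elements: in a nonzero submodule of a module over an Artinian local ring there is a
nonzero element killed by the maximal ideal. -/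
lemma exists_socle_element (h0 : ringKrullDim A = 0) {W : Type u} [AddCommGroup W] [Module A W]
    (N : Submodule A W) (hN : N ≠ ⊥) :
    ∃ y ∈ N, y ≠ 0 ∧ ∀ a ∈ IsLocalRing.maximalIdeal A, a • y = 0 := by
  have hart : IsArtinianRing A :=
    isArtinianRing_iff_krullDimLE_zero.2 (ringKrullDimZero_iff_ringKrullDim_eq_zero.2 h0)
  obtain ⟨k, hk⟩ := (isArtinianRing_iff_isNilpotent_maximalIdeal A).1 hart
  have key : ∀ (k : ℕ) (x : W), x ∈ N → x ≠ 0 →
      (∀ a ∈ (IsLocalRing.maximalIdeal A) ^ k, a • x = 0) →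
      ∃ y ∈ N, y ≠ 0 ∧ ∀ a ∈ IsLocalRing.maximalIdeal A, a • y = 0 := by
    intro k
    induction k with
    | zero =>
      intro x _ hx hk
      exfalso
      apply hx
      have h1 : (1 : A) • x = 0 := hk 1 (by rw [pow_zero, Ideal.one_eq_top]; trivial)
      rwa [one_smul] at h1
    | succ k IH =>
      intro x hxN hx hk
      by_cases hall : ∀ a ∈ IsLocalRing.maximalIdeal A, a • x = 0
      · exact ⟨x, hxN, hx, hall⟩
      · push Not at hall
        obtain ⟨a, ha, hax⟩ := hall
        refine IH (a • x) (N.smul_mem a hxN) hax (fun b hb => ?_)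
        rw [smul_smul]
        exact hk (b * a) (by rw [pow_succ]; exact Ideal.mul_mem_mul hb ha)
  obtain ⟨x, hxN, hx⟩ := (Submodule.ne_bot_iff N).1 hN
  refine key k x hxN hx (fun a ha => ?_)
  rw [hk] at ha
  have ha0 : a = 0 := ha
  rw [ha0, zero_smul]

/-- step 2: `W` is an injective hull of the residue field. -/
theorem exists_isInjectiveHull_of_iso_single (h0 : ringKrullDim A = 0) (ω : Dual.D A)
    (hω : Dual.IsDualizing A ω) (hn : Dual.IsNormalized A ω) (W : ModuleCat.{u} A)
    (hW : Injective W) (ψ : ω ≅ (singleFunctor (ModuleCat.{u} A) 0).obj W) :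
    ∃ g : IsLocalRing.ResidueField A →ₗ[A] W, InjHull.IsInjectiveHull g := by
  obtain ⟨n, hvan, ⟨θ⟩⟩ := DualD.ext_residue_single_degree ω hω (IsLocalRing.maximalIdeal A)
  have hn0 : n = 0 := by
    by_contra hne
    haveI : Subsingleton (Dual.inD A (A ⧸ IsLocalRing.maximalIdeal A) ⟶ ω⟦n⟧) := hn n hne
    have h1 : θ.symm 1 = θ.symm 0 := Subsingleton.elim _ _
    exact one_ne_zero (θ.symm.injective h1)
  subst hn0
  let κ : ModuleCat.{u} A := ModuleCat.of A (A ⧸ IsLocalRing.maximalIdeal A)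
  -- the comparison map
  let Φ : (κ ⟶ W) → (A ⧸ IsLocalRing.maximalIdeal A) := fun f =>
    θ ((singleFunctor (ModuleCat.{u} A) 0).map f ≫ ψ.inv ≫ (shiftFunctorZero (Dual.D A) ℤ).inv.app ω)
  have hΦsmul : ∀ (c : A) (f : κ ⟶ W), Φ (c • f) = c • Φ f := by
    intro c f
    show θ _ = c • θ _
    rw [← map_smul]
    congr 1
    rw [Functor.map_smul, Linear.smul_comp]
  have hΦ0 : Φ 0 = 0 := by
    show θ _ = 0
    rw [Functor.map_zero, zero_comp, map_zero]
  have hΦinj : Function.Injective Φ := by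
    intro f₁ f₂ h
    have h1 := θ.injective h
    have h2 : (singleFunctor (ModuleCat.{u} A) 0).map f₁ = (singleFunctor (ModuleCat.{u} A) 0).map f₂ := by
      have h3 := congrArg (fun t => t ≫ (shiftFunctorZero (Dual.D A) ℤ).hom.app ω ≫ ψ.hom) h1
      simpa using h3
    exact (singleFunctor (ModuleCat.{u} A) 0).map_injective h2
  have hΦsurj : Function.Surjective Φ := by
    intro y
    let t : (singleFunctor (ModuleCat.{u} A) 0).obj κ ⟶ (singleFunctor (ModuleCat.{u} A) 0).obj W :=
      θ.symm y ≫ (shiftFunctorZero (Dual.D A) ℤ).hom.app ω ≫ ψ.hom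
    obtain ⟨f, hf⟩ := (singleFunctor (ModuleCat.{u} A) 0).map_surjective t
    refine ⟨f, ?_⟩
    show θ _ = y
    rw [hf]
    simp [t]
  obtain ⟨f₀, hf₀⟩ := hΦsurj 1
  haveI : IsSimpleModule A (A ⧸ IsLocalRing.maximalIdeal A) :=
    isSimpleModule_iff_isCoatom.2 (Ideal.isMaximal_def.1 inferInstance)
  have hf₀ne : f₀ ≠ 0 := by
    intro h
    rw [h, hΦ0] at hf₀
    exact zero_ne_one hf₀
  refine ⟨f₀.hom, ⟨?_, ?_⟩, ?_⟩
  · refine (LinearMap.injective_or_eq_zero f₀.hom).resolve_right (fun h => hf₀ne ?_)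
    apply ModuleCat.hom_ext
    exact h
  · intro N hN
    obtain ⟨y, hyN, hy, hmy⟩ := exists_socle_element h0 N hN
    let l : (A ⧸ IsLocalRing.maximalIdeal A) →ₗ[A] W :=
      Submodule.liftQ (IsLocalRing.maximalIdeal A) (LinearMap.toSpanSingleton A W y)
        (fun a ha => by
          rw [LinearMap.mem_ker, LinearMap.toSpanSingleton_apply]
          exact hmy a ha)
    have hl1 : l 1 = y := by
      show l (Submodule.Quotient.mk 1) = y
      rw [Submodule.liftQ_apply, LinearMap.toSpanSingleton_apply, one_smul]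
    let f₁ : κ ⟶ W := ModuleCat.ofHom l
    obtain ⟨c, hc⟩ := Ideal.Quotient.mk_surjective (Φ f₁)
    have h1 : Φ (c • f₀) = Φ f₁ := by
      rw [hΦsmul, hf₀, ← hc]
      show c • (1 : A ⧸ IsLocalRing.maximalIdeal A) = _
      rw [Algebra.smul_def, mul_one]
      rfl
    have h2 : c • f₀ = f₁ := hΦinj h1
    have h3 : y = f₀.hom (c • (1 : A ⧸ IsLocalRing.maximalIdeal A)) := by
      rw [map_smul, ← hl1]
      have h4 := congrArg (fun t : κ ⟶ W => t.hom (1 : A ⧸ IsLocalRing.maximalIdeal A)) h2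
      exact h4.symm
    intro hbot
    apply hy
    have h5 : y ∈ N ⊓ LinearMap.range f₀.hom := ⟨hyN, ⟨_, h3.symm⟩⟩
    have h6 : y ∈ (⊥ : Submodule A W) := hbot ▸ h5
    exact (Submodule.mem_bot A).1 h6
  · haveI : Injective (ModuleCat.of A W) := hW
    exact Module.injective_module_of_injective_object A W

/-- S0375. -/
theorem dualizing_iso_injectiveHull_of_dim_zero (h0 : ringKrullDim A = 0) (ω : Dual.D A)
    (hω : Dual.IsDualizing A ω) (hn : Dual.IsNormalized A ω) (E : Type u) [AddCommGroup E]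
    [Module A E] (f : IsLocalRing.ResidueField A →ₗ[A] E) (hf : InjHull.IsInjectiveHull f) :
    Nonempty (ω ≅ Dual.inD A E) := by
  obtain ⟨W, hW, ⟨ψ⟩⟩ := exists_iso_single_injective h0 ω hω hn
  obtain ⟨g, hg⟩ := exists_isInjectiveHull_of_iso_single h0 ω hω hn W hW ψ
  obtain ⟨e, -⟩ := Groth.Agent.S0302.result A (IsLocalRing.ResidueField A) W E g hg f hf
  exact ⟨ψ ≪≫ (singleFunctor (ModuleCat.{u} A) 0).mapIso e.toModuleIso⟩

end Groth.Agent.Lib.helper23.DimFn
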