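import Mathlib
import Groth.Prelude.Def_Wider
import Groth.Agent.S5156

/-!
# helper23: `Hom_B(N, Hom_A(B, E)) ≃ Hom_A(N, E)` (semilinear over `A → B`)
-/

set_option autoImplicit false
universe u
open CategoryTheory

namespace Groth.Agent.Lib.helper23.FinLenDual

open Groth.Agent.S5156

variable (A B : Type u) [CommRing A] [CommRing B] [Algebra A B]
  (E : Type u) [AddCommGroup E] [Module A E]
  (N : Type u) [AddCommGroup N] [Module A N] [Module B N] [IsScalarTower A B N]

/-- `g ↦ (x ↦ (b ↦ g (b • x)))`. -/
noncomputable def toCoext (g : N →ₗ[A] E) : N →ₗ[B] (C A B E) where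
  toFun x := toC A B E
    { toFun := fun b => g (b • x)
      map_add' := fun b b' => by rw [add_smul, map_add]
      map_smul' := fun a b => by
        rw [RingHom.id_apply, smul_assoc, map_smul] }
  map_add' x y := by
    refine C_ext A B E _ _ (fun b => ?_)
    rw [C_add_apply, toC_apply, toC_apply, toC_apply]
    show g (b • (x + y)) = g (b • x) + g (b • y)
    rw [smul_add, map_add]
  map_smul' b' x := by
    refine C_ext A B E _ _ (fun b => ?_)
    rw [RingHom.id_apply, smul_apply, toC_apply, toC_apply]
    show g (b • b' • x) = g ((b * b') • x)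
    rw [mul_smul]

lemma toCoext_apply (g : N →ₗ[A] E) (x : N) (b : B) : (toCoext A B E N g x) b = g (b • x) := rfl

/-- `h ↦ (x ↦ h x 1)`. -/
noncomputable def ofCoext (h : N →ₗ[B] (C A B E)) : N →ₗ[A] E where
  toFun x := (h x) (1 : B)
  map_add' x y := by rw [map_add, C_add_apply]
  map_smul' a x := by
    rw [RingHom.id_apply]
    have h1 : a • x = (algebraMap A B a) • x := (algebraMap_smul B a x).symm
    rw [h1, map_smul, smul_apply, one_mul]
    have h2 : algebraMap A B a = a • (1 : B) := by rw [Algebra.smul_def, mul_one]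
    rw [h2, C_map_smul]

lemma ofCoext_apply (h : N →ₗ[B] (C A B E)) (x : N) : ofCoext A B E N h x = (h x) (1 : B) := rfl

/-- the coextension adjunction on Hom-modules. -/
noncomputable def coextEquiv : (N →ₗ[B] (C A B E)) ≃ (N →ₗ[A] E) where
  toFun := ofCoext A B E N
  invFun := toCoext A B E N
  left_inv h := by
    refine LinearMap.ext (fun x => C_ext A B E _ _ (fun b => ?_))
    rw [toCoext_apply, ofCoext_apply, map_smul, smul_apply, one_mul]
  right_inv g := by
    refine LinearMap.ext (fun x => ?_)
    rw [ofCoext_apply, toCoext_apply, one_smul]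

lemma coextEquiv_add (h h' : N →ₗ[B] (C A B E)) :
    coextEquiv A B E N (h + h') = coextEquiv A B E N h + coextEquiv A B E N h' := by
  refine LinearMap.ext (fun x => ?_)
  show ((h + h') x) (1 : B) = (h x) (1 : B) + (h' x) (1 : B)
  rw [LinearMap.add_apply, C_add_apply]

lemma coextEquiv_smul (a : A) (h : N →ₗ[B] (C A B E)) :
    coextEquiv A B E N ((algebraMap A B a) • h) = a • coextEquiv A B E N h := by
  refine LinearMap.ext (fun x => ?_)
  show (((algebraMap A B a) • h) x) (1 : B) = a • (h x) (1 : B)
  rw [LinearMap.smul_apply, smul_apply, one_mul]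
  have h2 : algebraMap A B a = a • (1 : B) := by rw [Algebra.smul_def, mul_one]
  rw [h2, C_map_smul]

end Groth.Agent.Lib.helper23.FinLenDual
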