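import Mathlib
import Groth.Prelude.Def_DDual2

/-!
# Adjunctions and shifts; semilinearity of restriction of scalars on `D(B)` (helper23)

* `shiftEquiv adj X Y i : (X ⟶ (G Y)⟦i⟧) ≃ (F X ⟶ Y⟦i⟧)` for `adj : F ⊣ G`, `F` commuting with shifts,
  natural in `X`;
* `restrictD_map_smul`: `restrictD φ` sends `φ a • f` to `a • restrictD f`;
* `shiftEquiv_smul`: the resulting semilinearity of `shiftEquiv` for a right adjoint of `restrictD φ`.
-/

set_option autoImplicit false
universe u
open CategoryTheory CategoryTheory.Limits DerivedCategory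

attribute [local instance] HasDerivedCategory.standard

namespace Groth.Agent.Lib.helper23.RAdj

section Generic

variable {C D : Type*} [Category C] [Category D] [HasShift C ℤ] [HasShift D ℤ]
  {F : C ⥤ D} {G : D ⥤ C} (adj : F ⊣ G) [F.CommShift ℤ]

/-- `G(Y⟦i⟧) ≅ (G Y)⟦i⟧` for a right adjoint `G` of a functor commuting with shifts. -/
noncomputable def rightShiftIso (Y : D) (i : ℤ) : G.obj (Y⟦i⟧) ≅ (G.obj Y)⟦i⟧ :=
  (Adjunction.RightAdjointCommShift.iso adj i).app Y

/-- `Hom(X, (G Y)[i]) ≃ Hom(F X, Y[i])`. -/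
noncomputable def shiftEquiv (X : C) (Y : D) (i : ℤ) : (X ⟶ (G.obj Y)⟦i⟧) ≃ (F.obj X ⟶ Y⟦i⟧) :=
  (Iso.homCongr (Iso.refl X) (rightShiftIso adj Y i).symm).trans (adj.homEquiv X (Y⟦i⟧)).symm

lemma shiftEquiv_apply (X : C) (Y : D) (i : ℤ) (f : X ⟶ (G.obj Y)⟦i⟧) :
    shiftEquiv adj X Y i f = F.map (f ≫ (rightShiftIso adj Y i).inv) ≫ adj.counit.app (Y⟦i⟧) := by
  show (adj.homEquiv X (Y⟦i⟧)).symm (𝟙 X ≫ f ≫ (rightShiftIso adj Y i).inv) = _
  rw [Category.id_comp, Adjunction.homEquiv_counit]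

lemma shiftEquiv_comp {X' X : C} (Y : D) (i : ℤ) (g : X' ⟶ X) (f : X ⟶ (G.obj Y)⟦i⟧) :
    shiftEquiv adj X' Y i (g ≫ f) = F.map g ≫ shiftEquiv adj X Y i f := by
  rw [shiftEquiv_apply, shiftEquiv_apply, Category.assoc, Functor.map_comp, Category.assoc]

include adj in
lemma subsingleton_of_shiftEquiv (X : C) (Y : D) (i : ℤ) [Subsingleton (F.obj X ⟶ Y⟦i⟧)] :
    Subsingleton (X ⟶ (G.obj Y)⟦i⟧) :=
  (shiftEquiv adj X Y i).subsingleton

end Generic

section Modules

variable {A B : Type u} [CommRing A] [CommRing B] (φ : A →+* B)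

lemma restrictScalars_map_smul_id (M : ModuleCat.{u} B) (a : A) :
    (ModuleCat.restrictScalars.{u} φ).map (φ a • 𝟙 M) =
      a • 𝟙 ((ModuleCat.restrictScalars.{u} φ).obj M) := by
  ext x
  rfl

lemma restrictCx_map_smul_id (K : CochainComplex (ModuleCat.{u} B) ℤ) (a : A) :
    ((ModuleCat.restrictScalars.{u} φ).mapHomologicalComplex (ComplexShape.up ℤ)).map
      (φ a • 𝟙 K) = a • 𝟙 _ := by
  ext n : 1
  exact restrictScalars_map_smul_id φ (K.X n) a

lemma restrictD_map_Q_map {K L : CochainComplex (ModuleCat.{u} B) ℤ} (g : K ⟶ L) :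
    (DRing.restrictD φ).map (Q.map g) =
      (ModuleCat.restrictScalars.{u} φ).mapDerivedCategoryFactors.hom.app K ≫
        Q.map (((ModuleCat.restrictScalars.{u} φ).mapHomologicalComplex
          (ComplexShape.up ℤ)).map g) ≫
        (ModuleCat.restrictScalars.{u} φ).mapDerivedCategoryFactors.inv.app L := by
  have h := (ModuleCat.restrictScalars.{u} φ).mapDerivedCategoryFactors_hom_naturality g
  rw [← Category.assoc, ← h, Category.assoc, Iso.hom_inv_id_app]
  exact (Category.comp_id _).symm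

lemma restrictD_map_smul_id (X : DerivedCategory (ModuleCat.{u} B)) (a : A) :
    (DRing.restrictD φ).map (φ a • 𝟙 X) = a • 𝟙 ((DRing.restrictD φ).obj X) := by
  let e : Q.obj (Q.objPreimage X) ≅ X := Q.objObjPreimageIso X
  have h1 : φ a • 𝟙 X = e.inv ≫ Q.map (φ a • 𝟙 (Q.objPreimage X)) ≫ e.hom := by
    rw [Functor.map_smul, CategoryTheory.Functor.map_id, Linear.smul_comp, Linear.comp_smul,
      Category.id_comp, Iso.inv_hom_id]
  rw [h1, Functor.map_comp, Functor.map_comp, restrictD_map_Q_map, restrictCx_map_smul_id,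
    Functor.map_smul, CategoryTheory.Functor.map_id]
  have h2 : (ModuleCat.restrictScalars.{u} φ).mapDerivedCategoryFactors.hom.app (Q.objPreimage X) ≫
      𝟙 _ ≫ (ModuleCat.restrictScalars.{u} φ).mapDerivedCategoryFactors.inv.app (Q.objPreimage X) =
      𝟙 _ := by
    rw [Category.id_comp, Iso.hom_inv_id_app]
  simp only [Linear.smul_comp, Linear.comp_smul]
  erw [h2]
  erw [Category.id_comp]
  rw [← Functor.map_comp, Iso.inv_hom_id, CategoryTheory.Functor.map_id]

lemma restrictD_map_smul {X Y : DerivedCategory (ModuleCat.{u} B)} (f : X ⟶ Y) (a : A) :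
    (DRing.restrictD φ).map (φ a • f) = a • (DRing.restrictD φ).map f := by
  have h : φ a • f = (φ a • 𝟙 X) ≫ f := by rw [Linear.smul_comp, Category.id_comp]
  rw [h, Functor.map_comp, restrictD_map_smul_id, Linear.smul_comp, Category.id_comp]

variable (R : DerivedCategory (ModuleCat.{u} A) ⥤ DerivedCategory (ModuleCat.{u} B))
  (adj : DRing.restrictD φ ⊣ R)

lemma shiftEquiv_smul (X : DerivedCategory (ModuleCat.{u} B))
    (Y : DerivedCategory (ModuleCat.{u} A)) (i : ℤ) (f : X ⟶ (R.obj Y)⟦i⟧) (a : A) :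
    shiftEquiv adj X Y i (φ a • f) = a • shiftEquiv adj X Y i f := by
  have h : φ a • f = (φ a • 𝟙 X) ≫ f := by rw [Linear.smul_comp, Category.id_comp]
  rw [h, shiftEquiv_comp, restrictD_map_smul_id, Linear.smul_comp, Category.id_comp]

lemma shiftEquiv_zero (X : DerivedCategory (ModuleCat.{u} B))
    (Y : DerivedCategory (ModuleCat.{u} A)) (i : ℤ) :
    shiftEquiv adj X Y i 0 = 0 := by
  rw [shiftEquiv_apply, zero_comp, Functor.map_zero, zero_comp]

lemma shiftEquiv_add (X : DerivedCategory (ModuleCat.{u} B))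
    (Y : DerivedCategory (ModuleCat.{u} A)) (i : ℤ) (f g : X ⟶ (R.obj Y)⟦i⟧) :
    shiftEquiv adj X Y i (f + g) = shiftEquiv adj X Y i f + shiftEquiv adj X Y i g := by
  rw [shiftEquiv_apply, shiftEquiv_apply, shiftEquiv_apply, Preadditive.add_comp,
    Functor.map_add, Preadditive.add_comp]

end Modules

end Groth.Agent.Lib.helper23.RAdj
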