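import Mathlib
import Groth.Prelude.Def_Wider
import Groth.Prelude.Def_DDual2
import Groth.Agent.Lib.Helper23.RAdj2

/-!
# helper23: `Hom_{D(A)}(N, ω) ≃ₗ[A] Hom_A(N, E)` from a right adjoint with `R ω ≅ E_B[0]`
-/

set_option autoImplicit false
universe u
open CategoryTheory CategoryTheory.Limits DerivedCategory

attribute [local instance] HasDerivedCategory.standard

namespace Groth.Agent.Lib.helper23.FinLenDual

open Groth.Agent.Lib.helper23.RAdj

variable {A B : Type u} [CommRing A] [CommRing B] [Algebra A B]
  (N : Type u) [AddCommGroup N] [Module A N] [Module B N] [IsScalarTower A B N]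

/-- the identity of `N`, `A`-linearly. -/
noncomputable def resLinearEquiv : N ≃ₗ[A]
    ((ModuleCat.restrictScalars.{u} (algebraMap A B)).obj (ModuleCat.of B N)) :=
  { toFun := fun x => x
    invFun := fun x => x
    left_inv := fun _ => rfl
    right_inv := fun _ => rfl
    map_add' := fun _ _ => rfl
    map_smul' := fun a x => (algebraMap_smul B a x).symm }

/-- `N` as an `A`-module is the restriction of `N` as a `B`-module. -/
noncomputable def resIso : ModuleCat.of A N ≅
    (ModuleCat.restrictScalars.{u} (algebraMap A B)).obj (ModuleCat.of B N) :=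
  (resLinearEquiv (A := A) (B := B) N).toModuleIso

/-- `N[0]` over `A` is the restriction of `N[0]` over `B`. -/
noncomputable def isoN : Dual.inD A N ≅
    (DRing.restrictD (algebraMap A B)).obj (Dual.inD B N) :=
  (singleFunctor (ModuleCat.{u} A) 0).mapIso (resIso (A := A) (B := B) N) ≪≫
    (((ModuleCat.restrictScalars.{u} (algebraMap A B)).mapDerivedCategorySingleFunctor 0).app
      (ModuleCat.of B N)).symm

variable (R : Dual.D A ⥤ Dual.D B) (adj : DRing.restrictD (algebraMap A B) ⊣ R)

lemma homEquiv_symm_smul (X : Dual.D B) (K : Dual.D A) (g : X ⟶ R.obj K) (a : A) :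
    (adj.homEquiv X K).symm (algebraMap A B a • g) = a • (adj.homEquiv X K).symm g := by
  rw [Adjunction.homEquiv_counit, Adjunction.homEquiv_counit, restrictD_map_smul,
    Linear.smul_comp]

lemma homEquiv_symm_add (X : Dual.D B) (K : Dual.D A) (g g' : X ⟶ R.obj K) :
    (adj.homEquiv X K).symm (g + g') =
      (adj.homEquiv X K).symm g + (adj.homEquiv X K).symm g' := by
  rw [Adjunction.homEquiv_counit, Adjunction.homEquiv_counit, Adjunction.homEquiv_counit,
    Functor.map_add, Preadditive.add_comp]

variable (ω : Dual.D A) (EB : ModuleCat.{u} B)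
  (ψ : R.obj ω ≅ (singleFunctor (ModuleCat.{u} B) 0).obj EB)
  (E : Type u) [AddCommGroup E] [Module A E]
  (c : (N →ₗ[B] EB) ≃ (N →ₗ[A] E))

/-- the underlying bijection. -/
noncomputable def homEquivAux : (Dual.inD A N ⟶ ω) ≃ (N →ₗ[A] E) :=
  (Iso.homCongr (isoN (A := A) (B := B) N) (Iso.refl ω)).trans
    ((adj.homEquiv (Dual.inD B N) ω).trans
      ((Iso.homCongr (Iso.refl (Dual.inD B N)) ψ).trans
        (((Functor.FullyFaithful.ofFullyFaithful
          (singleFunctor (ModuleCat.{u} B) 0)).homEquiv (X := ModuleCat.of B N) (Y := EB)).symm.trans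
          ((ModuleCat.homLinearEquiv (S := B) (M := ModuleCat.of B N) (N := EB)).toEquiv.trans c))))

lemma homEquivAux_symm_apply (g : N →ₗ[A] E) :
    (homEquivAux N R adj ω EB ψ E c).symm g =
      (isoN (A := A) (B := B) N).hom ≫ (adj.homEquiv (Dual.inD B N) ω).symm
        ((singleFunctor (ModuleCat.{u} B) 0).map (ModuleCat.ofHom (c.symm g)) ≫ ψ.inv) := by
  simp [homEquivAux, Iso.homCongr, Functor.FullyFaithful.homEquiv]
  rfl


variable (hc_add : ∀ h h' : N →ₗ[B] EB, c (h + h') = c h + c h')
  (hc_smul : ∀ (a : A) (h : N →ₗ[B] EB), c (algebraMap A B a • h) = a • c h)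

include hc_add in
omit [IsScalarTower A B N] in
lemma c_symm_add (g g' : N →ₗ[A] E) : c.symm (g + g') = c.symm g + c.symm g' := by
  apply c.injective
  rw [hc_add, Equiv.apply_symm_apply, Equiv.apply_symm_apply, Equiv.apply_symm_apply]

include hc_smul in
omit [IsScalarTower A B N] in
lemma c_symm_smul (a : A) (g : N →ₗ[A] E) :
    c.symm (a • g) = algebraMap A B a • c.symm g := by
  apply c.injective
  rw [hc_smul, Equiv.apply_symm_apply, Equiv.apply_symm_apply]

include hc_add hc_smul adj ψ in
/-- **the `A`-linear isomorphism `Hom_{D(A)}(N, ω) ≃ Hom_A(N, E)`.** -/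
theorem nonempty_homLinearEquiv : Nonempty ((Dual.inD A N ⟶ ω) ≃ₗ[A] (N →ₗ[A] E)) := by
  let e := homEquivAux N R adj ω EB ψ E c
  let L : (N →ₗ[A] E) ≃ₗ[A] (Dual.inD A N ⟶ ω) :=
    { toFun := e.symm
      invFun := e
      left_inv := e.right_inv
      right_inv := e.left_inv
      map_add' := fun g g' => by
        show e.symm (g + g') = e.symm g + e.symm g'
        rw [homEquivAux_symm_apply, homEquivAux_symm_apply, homEquivAux_symm_apply,
          c_symm_add N EB E c hc_add]
        have h1 : ModuleCat.ofHom (c.symm g + c.symm g') =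
            ModuleCat.ofHom (c.symm g) + ModuleCat.ofHom (c.symm g') := rfl
        rw [h1, Functor.map_add, Preadditive.add_comp, homEquiv_symm_add, Preadditive.comp_add]
      map_smul' := fun a g => by
        show e.symm (a • g) = a • e.symm g
        rw [homEquivAux_symm_apply, homEquivAux_symm_apply, c_symm_smul N EB E c hc_smul]
        have h1 : ModuleCat.ofHom (algebraMap A B a • c.symm g) =
            algebraMap A B a • ModuleCat.ofHom (c.symm g) := rfl
        rw [h1, Functor.Linear.map_smul, Linear.smul_comp, homEquiv_symm_smul, Linear.comp_smul] }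
  exact ⟨L.symm⟩

end Groth.Agent.Lib.helper23.FinLenDual
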