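import Mathlib

/-!
# The right adjoint of `Φ.mapDerivedCategory` on K-injective complexes (helper23)

`Φ : C₁ ⥤ C₂` exact with right adjoint `G`; `R` any right adjoint of `Φ.mapDerivedCategory`.
If `I` is a K-injective complex of `C₂` such that `G(I)` is K-injective, then `R(Q I) ≅ Q(G I)`.
-/

set_option autoImplicit false
universe w₁ w₂ v₁ v₂ u₁ u₂
open CategoryTheory CategoryTheory.Limits DerivedCategory

namespace Groth.Agent.Lib.helper23.RAdj

variable {C₁ : Type u₁} [Category.{v₁} C₁] [Abelian C₁] [HasDerivedCategory.{w₁} C₁]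
  {C₂ : Type u₂} [Category.{v₂} C₂] [Abelian C₂] [HasDerivedCategory.{w₂} C₂]
  {Φ : C₁ ⥤ C₂} [Φ.Additive] [PreservesFiniteLimits Φ] [PreservesFiniteColimits Φ]
  {G : C₂ ⥤ C₁} [G.Additive] (adj : Φ ⊣ G)

/-- the counit on complexes. -/
noncomputable def counitCx (I : CochainComplex C₂ ℤ) :
    (Φ.mapHomologicalComplex (ComplexShape.up ℤ)).obj
      ((G.mapHomologicalComplex (ComplexShape.up ℤ)).obj I) ⟶ I where
  f n := adj.counit.app (I.X n)
  comm' i j _ := (adj.counit.naturality (I.d i j)).symm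

/-- the unit on complexes. -/
noncomputable def unitCx (L : CochainComplex C₁ ℤ) :
    L ⟶ (G.mapHomologicalComplex (ComplexShape.up ℤ)).obj
      ((Φ.mapHomologicalComplex (ComplexShape.up ℤ)).obj L) where
  f n := adj.unit.app (L.X n)
  comm' i j _ := (adj.unit.naturality (L.d i j)).symm

/-- transpose of a chain map. -/
noncomputable def adjChain {L : CochainComplex C₁ ℤ} {I : CochainComplex C₂ ℤ}
    (g : L ⟶ (G.mapHomologicalComplex (ComplexShape.up ℤ)).obj I) :
    (Φ.mapHomologicalComplex (ComplexShape.up ℤ)).obj L ⟶ I :=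
  (Φ.mapHomologicalComplex (ComplexShape.up ℤ)).map g ≫ counitCx adj I

/-- transpose of a chain map. -/
noncomputable def adjChain' {L : CochainComplex C₁ ℤ} {I : CochainComplex C₂ ℤ}
    (h : (Φ.mapHomologicalComplex (ComplexShape.up ℤ)).obj L ⟶ I) :
    L ⟶ (G.mapHomologicalComplex (ComplexShape.up ℤ)).obj I :=
  unitCx adj L ≫ (G.mapHomologicalComplex (ComplexShape.up ℤ)).map h

lemma adjChain_adjChain' {L : CochainComplex C₁ ℤ} {I : CochainComplex C₂ ℤ}
    (h : (Φ.mapHomologicalComplex (ComplexShape.up ℤ)).obj L ⟶ I) :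
    adjChain adj (adjChain' adj h) = h := by
  ext n
  have key : ∀ {X : C₁} {Y : C₂} (h : Φ.obj X ⟶ Y),
      Φ.map (adj.unit.app X ≫ G.map h) ≫ adj.counit.app Y = h := by
    intro X Y h
    simp
  exact key (h.f n)

lemma adjChain'_adjChain {L : CochainComplex C₁ ℤ} {I : CochainComplex C₂ ℤ}
    (g : L ⟶ (G.mapHomologicalComplex (ComplexShape.up ℤ)).obj I) :
    adjChain' adj (adjChain adj g) = g := by
  ext n
  have key : ∀ {X : C₁} {Y : C₂} (g : X ⟶ G.obj Y),
      adj.unit.app X ≫ G.map (Φ.map g ≫ adj.counit.app Y) = g := by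
    intro X Y g
    simp
  exact key (g.f n)

lemma adjChain_sub {L : CochainComplex C₁ ℤ} {I : CochainComplex C₂ ℤ}
    (g g' : L ⟶ (G.mapHomologicalComplex (ComplexShape.up ℤ)).obj I) :
    adjChain adj (g - g') = adjChain adj g - adjChain adj g' := by
  simp [adjChain, Preadditive.sub_comp]

lemma Q_map_eq_zero_iff {K L : CochainComplex C₂ ℤ} [L.IsKInjective] (h : K ⟶ L) :
    Q.map h = 0 ↔ Nonempty (Homotopy h 0) := by
  rw [← HomotopyCategory.quotient_map_eq_zero_iff]
  constructor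
  · intro hh
    apply (CochainComplex.IsKInjective.Qh_map_bijective
      ((HomotopyCategory.quotient _ _).obj K) L).1
    rw [Functor.map_zero]
    exact hh
  · intro hh
    show Qh.map ((HomotopyCategory.quotient _ _).map h) = 0
    rw [hh, Functor.map_zero]

lemma exists_Q_map_eq {K L : CochainComplex C₂ ℤ} [L.IsKInjective] (f : Q.obj K ⟶ Q.obj L) :
    ∃ h : K ⟶ L, Q.map h = f := by
  obtain ⟨h', hh'⟩ := (CochainComplex.IsKInjective.Qh_map_bijective
    ((HomotopyCategory.quotient _ _).obj K) L).2 f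
  obtain ⟨h, rfl⟩ := (HomotopyCategory.quotient _ _).map_surjective h'
  exact ⟨h, hh'⟩

lemma Q_map_adjChain'_eq_zero {L : CochainComplex C₁ ℤ} {I : CochainComplex C₂ ℤ}
    [I.IsKInjective] (h : (Φ.mapHomologicalComplex (ComplexShape.up ℤ)).obj L ⟶ I)
    (hh : Q.map h = 0) : Q.map (adjChain' adj h) = 0 := by
  obtain ⟨H⟩ := (Q_map_eq_zero_iff h).1 hh
  have H1 : Homotopy ((G.mapHomologicalComplex (ComplexShape.up ℤ)).map h)
      ((G.mapHomologicalComplex (ComplexShape.up ℤ)).map 0) := G.mapHomotopy H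
  have H2 : Homotopy (adjChain' adj h) (unitCx adj L ≫
      (G.mapHomologicalComplex (ComplexShape.up ℤ)).map 0) := H1.compLeft (unitCx adj L)
  have h3 : unitCx adj L ≫ (G.mapHomologicalComplex (ComplexShape.up ℤ)).map
      (0 : (Φ.mapHomologicalComplex (ComplexShape.up ℤ)).obj L ⟶ I) = 0 := by
    rw [Functor.map_zero, comp_zero]
  rw [DerivedCategory.Q_map_eq_of_homotopy _ H2, h3, Functor.map_zero]

/-- the counit in the derived category. -/
noncomputable def εD (I : CochainComplex C₂ ℤ) :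
    Φ.mapDerivedCategory.obj (Q.obj ((G.mapHomologicalComplex (ComplexShape.up ℤ)).obj I)) ⟶
      Q.obj I :=
  Φ.mapDerivedCategoryFactors.hom.app ((G.mapHomologicalComplex (ComplexShape.up ℤ)).obj I) ≫
    Q.map (counitCx adj I)

lemma map_Q_map_comp_εD {L : CochainComplex C₁ ℤ} {I : CochainComplex C₂ ℤ}
    (g : L ⟶ (G.mapHomologicalComplex (ComplexShape.up ℤ)).obj I) :
    Φ.mapDerivedCategory.map (Q.map g) ≫ εD adj I =
      Φ.mapDerivedCategoryFactors.hom.app L ≫ Q.map (adjChain adj g) := by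
  dsimp only [εD, adjChain]
  rw [Φ.mapDerivedCategoryFactors_hom_naturality_assoc, Functor.map_comp]

theorem bijective_comp_εD (I : CochainComplex C₂ ℤ) [I.IsKInjective]
    [CochainComplex.IsKInjective ((G.mapHomologicalComplex (ComplexShape.up ℤ)).obj I)]
    (L₀ : CochainComplex C₁ ℤ) :
    Function.Bijective (fun f : Q.obj L₀ ⟶
        Q.obj ((G.mapHomologicalComplex (ComplexShape.up ℤ)).obj I) =>
      Φ.mapDerivedCategory.map f ≫ εD adj I) := by
  constructor
  · intro f₁ f₂ h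
    obtain ⟨g₁, rfl⟩ := exists_Q_map_eq f₁
    obtain ⟨g₂, rfl⟩ := exists_Q_map_eq f₂
    have h' : Φ.mapDerivedCategory.map (Q.map g₁) ≫ εD adj I =
        Φ.mapDerivedCategory.map (Q.map g₂) ≫ εD adj I := h
    rw [map_Q_map_comp_εD, map_Q_map_comp_εD] at h'
    have h1 : Q.map (adjChain adj g₁) = Q.map (adjChain adj g₂) := (cancel_epi _).1 h'
    have h2 : Q.map (adjChain adj (g₁ - g₂)) = 0 := by
      rw [adjChain_sub, Functor.map_sub, h1, sub_self]
    have h3 := Q_map_adjChain'_eq_zero adj _ h2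
    rw [adjChain'_adjChain, Functor.map_sub, sub_eq_zero] at h3
    exact h3
  · intro h
    obtain ⟨h₀, hh₀⟩ := exists_Q_map_eq (Φ.mapDerivedCategoryFactors.inv.app L₀ ≫ h)
    refine ⟨Q.map (adjChain' adj h₀), ?_⟩
    show Φ.mapDerivedCategory.map (Q.map (adjChain' adj h₀)) ≫ εD adj I = h
    rw [map_Q_map_comp_εD, adjChain_adjChain', hh₀, Iso.hom_inv_id_app_assoc]

/-- **the right adjoint on K-injective complexes.** -/
theorem isIso_homEquiv_εD (R : DerivedCategory C₂ ⥤ DerivedCategory C₁)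
    (adjD : Φ.mapDerivedCategory ⊣ R) (I : CochainComplex C₂ ℤ) [I.IsKInjective]
    [CochainComplex.IsKInjective ((G.mapHomologicalComplex (ComplexShape.up ℤ)).obj I)] :
    IsIso (adjD.homEquiv _ _ (εD adj I)) := by
  apply isIso_of_yoneda_map_bijective
  intro T
  obtain ⟨T₀, ⟨e⟩⟩ : ∃ T₀ : CochainComplex C₁ ℤ, Nonempty (Q.obj T₀ ≅ T) :=
    ⟨_, ⟨Q.objObjPreimageIso T⟩⟩
  have hb := bijective_comp_εD adj I T₀
  have key : ∀ x : T ⟶ Q.obj ((G.mapHomologicalComplex (ComplexShape.up ℤ)).obj I),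
      x ≫ adjD.homEquiv _ _ (εD adj I) =
        e.inv ≫ adjD.homEquiv _ _ (Φ.mapDerivedCategory.map (e.hom ≫ x) ≫ εD adj I) := by
    intro x
    rw [Adjunction.homEquiv_naturality_left, Category.assoc, Iso.inv_hom_id_assoc]
  constructor
  · intro x y hxy
    have hxy' : x ≫ adjD.homEquiv _ _ (εD adj I) = y ≫ adjD.homEquiv _ _ (εD adj I) := hxy
    rw [key, key] at hxy'
    have h1 := (adjD.homEquiv _ _).injective ((cancel_epi e.inv).1 hxy')
    have h2 := hb.1 h1
    exact (cancel_epi e.hom).1 h2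
  · intro y
    obtain ⟨f, hf⟩ := hb.2 ((adjD.homEquiv _ _).symm (e.hom ≫ y))
    refine ⟨e.inv ≫ f, ?_⟩
    show (e.inv ≫ f) ≫ adjD.homEquiv _ _ (εD adj I) = y
    have hf' : Φ.mapDerivedCategory.map f ≫ εD adj I =
        (adjD.homEquiv _ _).symm (e.hom ≫ y) := hf
    rw [key, Iso.hom_inv_id_assoc, hf', Equiv.apply_symm_apply, Iso.inv_hom_id_assoc]

/-- the comparison isomorphism `Q(G I) ≅ R(Q I)`. -/
noncomputable def compIso (R : DerivedCategory C₂ ⥤ DerivedCategory C₁)
    (adjD : Φ.mapDerivedCategory ⊣ R) (I : CochainComplex C₂ ℤ) [I.IsKInjective]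
    [CochainComplex.IsKInjective ((G.mapHomologicalComplex (ComplexShape.up ℤ)).obj I)] :
    Q.obj ((G.mapHomologicalComplex (ComplexShape.up ℤ)).obj I) ≅ R.obj (Q.obj I) :=
  haveI := isIso_homEquiv_εD adj R adjD I
  asIso (adjD.homEquiv _ _ (εD adj I))

lemma map_compIso_hom_counit (R : DerivedCategory C₂ ⥤ DerivedCategory C₁)
    (adjD : Φ.mapDerivedCategory ⊣ R) (I : CochainComplex C₂ ℤ) [I.IsKInjective]
    [CochainComplex.IsKInjective ((G.mapHomologicalComplex (ComplexShape.up ℤ)).obj I)] :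
    Φ.mapDerivedCategory.map (compIso adj R adjD I).hom ≫ adjD.counit.app (Q.obj I) =
      εD adj I := by
  have h : (compIso adj R adjD I).hom = adjD.homEquiv _ _ (εD adj I) := rfl
  rw [h, Adjunction.homEquiv_unit, Functor.map_comp, Category.assoc]
  have h2 := adjD.counit.naturality (εD adj I)
  dsimp only [Functor.comp_obj, Functor.comp_map, Functor.id_obj, Functor.id_map] at h2
  rw [h2, Adjunction.left_triangle_components_assoc]

end Groth.Agent.Lib.helper23.RAdj
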