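import Mathlib
import Groth.Prelude.Def_DDual2
import Groth.Agent.Lib.Helper23.RAdj1
import Groth.Agent.Lib.Helper23.RAdj2
import Groth.Agent.Lib.Helper23.DualD2

/-!
# Coextension of scalars on complexes: `res(Hom_A(B, I)) ≅ Hom_A(B_A, I)` (helper23)
-/

set_option autoImplicit false
universe u
open CategoryTheory CategoryTheory.Limits DerivedCategory Opposite

attribute [local instance] HasDerivedCategory.standard

namespace Groth.Agent.Lib.helper23.RAdj

open Groth.Agent.Lib.helper23.DualD

variable {A B : Type u} [CommRing A] [CommRing B] (φ : A →+* B)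

/-- restriction of scalars. -/
noncomputable abbrev Φm : ModuleCat.{u} B ⥤ ModuleCat.{u} A := ModuleCat.restrictScalars.{u} φ

/-- coextension of scalars. -/
noncomputable abbrev Gm : ModuleCat.{u} A ⥤ ModuleCat.{u} B := ModuleCat.coextendScalars.{u, u, u} φ

/-- the adjunction. -/
noncomputable abbrev adjm : Φm φ ⊣ Gm φ := ModuleCat.restrictCoextendScalarsAdj.{u, u, u} φ

instance : (Gm φ).Additive := (adjm φ).right_adjoint_additive

/-- `B` as an `A`-module. -/
noncomputable abbrev BA : ModuleCat.{u} A := (ModuleCat.restrictScalars.{u} φ).obj (ModuleCat.of B B)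

/-- termwise coextension. -/
noncomputable abbrev Gc (I : CochainComplex (ModuleCat.{u} A) ℤ) :
    CochainComplex (ModuleCat.{u} B) ℤ :=
  ((Gm φ).mapHomologicalComplex (ComplexShape.up ℤ)).obj I

/-- termwise restriction. -/
noncomputable abbrev Φc (K : CochainComplex (ModuleCat.{u} B) ℤ) :
    CochainComplex (ModuleCat.{u} A) ℤ :=
  ((Φm φ).mapHomologicalComplex (ComplexShape.up ℤ)).obj K

/-- the underlying `A`-module of `Hom_A(B, M)` is `Hom_A(B_A, M)`. -/
noncomputable def θlin (M : ModuleCat.{u} A) :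
    (Φm φ).obj ((Gm φ).obj M) ≃ₗ[A] (BA φ ⟶ M) where
  toFun g := (ModuleCat.homEquiv (M := BA φ) (N := M)).symm (ModuleCat.CoextendScalars.equiv φ M g)
  invFun h := (ModuleCat.CoextendScalars.equiv φ M).symm h.hom
  left_inv g := rfl
  right_inv h := rfl
  map_add' g g' := rfl
  map_smul' a g := by
    apply ModuleCat.hom_ext
    apply LinearMap.ext
    intro (s : B)
    show (ModuleCat.CoextendScalars.equiv φ M g) (s * φ a) =
      a • (ModuleCat.CoextendScalars.equiv φ M g) s
    rw [← LinearMap.map_smul]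
    congr 1
    exact mul_comm s (φ a)

/-- the isomorphism of complexes `res(Hom_A(B, I)) ≅ Hom_A(B_A, I)`. -/
noncomputable def θ (I : CochainComplex (ModuleCat.{u} A) ℤ) :
    Φc φ (Gc φ I) ≅ (homCx I).obj (op (BA φ)) :=
  HomologicalComplex.Hom.isoOfComponents (fun n => (θlin φ (I.X n)).toModuleIso) (by
    intro i j _
    ext g
    rfl)

lemma counitCx_eq (I : CochainComplex (ModuleCat.{u} A) ℤ) :
    counitCx (adjm φ) I = (θ φ I).hom ≫ evCx I (BA φ) (1 : B) := by
  ext n g
  rfl

lemma smul_comp_counitCx (I : CochainComplex (ModuleCat.{u} A) ℤ) (b : B) :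
    ((Φm φ).mapHomologicalComplex (ComplexShape.up ℤ)).map (b • 𝟙 (Gc φ I)) ≫
      counitCx (adjm φ) I = (θ φ I).hom ≫ evCx I (BA φ) b := by
  ext n g
  have key : ∀ g' : (Gm φ).obj (I.X n),
      (ModuleCat.CoextendScalars.equiv φ (I.X n) (b • g')) (1 : B) =
        (ModuleCat.CoextendScalars.equiv φ (I.X n) g') b := by
    intro g'
    show (ModuleCat.CoextendScalars.equiv φ (I.X n) g') ((1 : B) * b) = _
    rw [one_mul]
  exact key g

instance injective_Gc (I : CochainComplex (ModuleCat.{u} A) ℤ) [∀ n, Injective (I.X n)] (n : ℤ) :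
    Injective ((Gc φ I).X n) :=
  Injective.injective_of_adjoint (adjm φ) (I.X n)

lemma isStrictlyGE_Gc (I : CochainComplex (ModuleCat.{u} A) ℤ) (a : ℤ) [I.IsStrictlyGE a] :
    (Gc φ I).IsStrictlyGE a := by
  rw [CochainComplex.isStrictlyGE_iff]
  intro i hi
  exact (Gm φ).map_isZero (CochainComplex.isZero_of_isStrictlyGE I a i hi)

lemma isZero_Gc (I : CochainComplex (ModuleCat.{u} A) ℤ) (n : ℤ) (h : IsZero (I.X n)) :
    IsZero ((Gc φ I).X n) := (Gm φ).map_isZero h

lemma isKInjective_Gc (I : CochainComplex (ModuleCat.{u} A) ℤ) [∀ n, Injective (I.X n)] (a : ℤ)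
    [I.IsStrictlyGE a] : CochainComplex.IsKInjective (Gc φ I) := by
  haveI := isStrictlyGE_Gc φ I a
  exact CochainComplex.isKInjective_of_injective (Gc φ I) a

end Groth.Agent.Lib.helper23.RAdj
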