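import Mathlib
import Groth.Prelude.Def_Wider
import Groth.Prelude.Def_DDual2
import Groth.Agent.Lib.Helper23.RAdj3
import Groth.Agent.Lib.Helper23.RAdj4
import Groth.Agent.Lib.Helper23.DualD4
import Groth.Agent.Lib.Helper23.DualD6

/-!
# The right adjoint of restriction of scalars `D(B) ⥤ D(A)` (helper23)

For `I` a K-injective complex of injective `A`-modules with `Hom_A(B, I)` K-injective and
`e : Q I ≅ ω`:
* `cω : Q(Hom_A(B, I)) ≅ R ω`, `σ : res(R ω) ≅ Q(Hom_A(B_A, I))`;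
* `bijective_smul_id`: `B → End(R ω)` is bijective when `B_A → Hom(D(B_A), ω)` is;
* `subsingleton_ext`: `Hom(R ω, R ω[i]) = 0` when `Hom(D(B_A), ω[i]) = 0`;
* `subsingleton_single`: `Hom(M[0], R ω[i]) = 0` when `Hom(M_A[0], ω[i]) = 0`;
* `finite_homology`: `H^i(R K)` is finite over `B` for `K` bounded below with finite cohomology.
-/

set_option autoImplicit false
universe u
open CategoryTheory CategoryTheory.Limits DerivedCategory Opposite

attribute [local instance] HasDerivedCategory.standard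

namespace Groth.Agent.Lib.helper23.RAdj

open Groth.Agent.Lib.helper23.DualD

variable {A B : Type u} [CommRing A] [CommRing B] (φ : A →+* B)

lemma finite_of_restrict (M : ModuleCat.{u} B) (h : Module.Finite A ((Φm φ).obj M)) :
    Module.Finite B M := by
  letI : Module A B := Module.compHom B φ
  letI : Module A M := Module.compHom M φ
  haveI : IsScalarTower A B M := ⟨fun a b m => by
    show (φ a * b) • m = φ a • (b • m)
    rw [mul_smul]⟩
  haveI : Module.Finite A M := h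
  exact Module.Finite.of_restrictScalars_finite A B M

section

variable (I : CochainComplex (ModuleCat.{u} A) ℤ)

/-- `res(Q(Hom_A(B, I))) ≅ Q(Hom_A(B_A, I))`. -/
noncomputable def ρ :
    (DRing.restrictD φ).obj (Q.obj (Gc φ I)) ≅ Q.obj ((homCx I).obj (op (BA φ))) :=
  (Φm φ).mapDerivedCategoryFactors.app (Gc φ I) ≪≫ Q.mapIso (θ φ I)

lemma εD_eq : εD (adjm φ) I = (ρ φ I).hom ≫ Q.map (evCx I (BA φ) (1 : B)) := by
  dsimp only [εD, ρ, Iso.trans_hom, Iso.app_hom, Functor.mapIso_hom]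
  rw [counitCx_eq, Functor.map_comp, Category.assoc]

lemma map_smul_comp_εD (b : B) :
    (DRing.restrictD φ).map (b • 𝟙 (Q.obj (Gc φ I))) ≫ εD (adjm φ) I =
      (ρ φ I).hom ≫ Q.map (evCx I (BA φ) b) := by
  have h1 : b • 𝟙 (Q.obj (Gc φ I)) = Q.map (b • 𝟙 (Gc φ I)) := by
    rw [Functor.map_smul, CategoryTheory.Functor.map_id]
  rw [h1, restrictD_map_Q_map]
  dsimp only [εD, ρ, Iso.trans_hom, Iso.app_hom, Functor.mapIso_hom]
  rw [Category.assoc, Category.assoc, Iso.inv_hom_id_app_assoc, ← Functor.map_comp,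
    smul_comp_counitCx, Functor.map_comp]
  exact (Category.assoc _ _ _).symm

variable (R : Dual.D A ⥤ Dual.D B) (adjD : DRing.restrictD φ ⊣ R)
  [I.IsKInjective] [CochainComplex.IsKInjective (Gc φ I)]
  {ω : Dual.D A} (e : Q.obj I ≅ ω)

/-- `Q(Hom_A(B, I)) ≅ R ω`. -/
noncomputable def cω : Q.obj (Gc φ I) ≅ R.obj ω :=
  compIso (adjm φ) R adjD I ≪≫ R.mapIso e

lemma map_cω_hom_counit :
    (DRing.restrictD φ).map (cω φ I R adjD e).hom ≫ adjD.counit.app ω =
      εD (adjm φ) I ≫ e.hom := by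
  dsimp only [cω, Iso.trans_hom, Functor.mapIso_hom]
  rw [Functor.map_comp, Category.assoc]
  have h2 := adjD.counit.naturality e.hom
  dsimp only [Functor.comp_obj, Functor.comp_map, Functor.id_obj, Functor.id_map] at h2
  rw [h2, ← Category.assoc, map_compIso_hom_counit]

/-- `res(R ω) ≅ Q(Hom_A(B_A, I))`. -/
noncomputable def σ :
    (DRing.restrictD φ).obj (R.obj ω) ≅ Q.obj ((homCx I).obj (op (BA φ))) :=
  (DRing.restrictD φ).mapIso (cω φ I R adjD e).symm ≪≫ ρ φ I

/-- the bijection `End(R ω) ≃ Hom(D(B_A), Q I)`. -/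
noncomputable def Θ :
    (R.obj ω ⟶ R.obj ω) ≃ (Q.obj ((homCx I).obj (op (BA φ))) ⟶ Q.obj I) :=
  ((Iso.homCongr (cω φ I R adjD e).symm (Iso.refl (R.obj ω))).trans
    (adjD.homEquiv (Q.obj (Gc φ I)) ω).symm).trans (Iso.homCongr (ρ φ I) e.symm)

lemma Θ_apply (f : R.obj ω ⟶ R.obj ω) :
    Θ φ I R adjD e f = (ρ φ I).inv ≫ ((DRing.restrictD φ).map ((cω φ I R adjD e).hom ≫ f) ≫
      adjD.counit.app ω) ≫ e.inv := by
  show (ρ φ I).inv ≫ (adjD.homEquiv (Q.obj (Gc φ I)) ω).symm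
    ((cω φ I R adjD e).hom ≫ f ≫ 𝟙 _) ≫ e.inv = _
  rw [Category.comp_id, Adjunction.homEquiv_counit]

lemma Θ_smul_id (b : B) :
    Θ φ I R adjD e (b • 𝟙 (R.obj ω)) = Q.map (evCx I (BA φ) b) := by
  rw [Θ_apply]
  have h1 : (cω φ I R adjD e).hom ≫ (b • 𝟙 (R.obj ω)) =
      (b • 𝟙 (Q.obj (Gc φ I))) ≫ (cω φ I R adjD e).hom := by
    rw [Linear.comp_smul, Linear.smul_comp, Category.comp_id, Category.id_comp]
  rw [h1, Functor.map_comp]
  have h2 : ((DRing.restrictD φ).map (b • 𝟙 (Q.obj (Gc φ I))) ≫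
      (DRing.restrictD φ).map (cω φ I R adjD e).hom) ≫ adjD.counit.app ω =
      (ρ φ I).hom ≫ Q.map (evCx I (BA φ) b) ≫ e.hom := by
    rw [Category.assoc, map_cω_hom_counit, ← Category.assoc, map_smul_comp_εD, Category.assoc]
  rw [h2, Category.assoc, Category.assoc, Iso.hom_inv_id, Category.comp_id,
    Iso.inv_hom_id_assoc]

include adjD e in
theorem bijective_smul_id [∀ j, Injective (I.X j)]
    (hgood : Function.Bijective ((setup I).η (BA φ))) :
    Function.Bijective (fun b : B => b • 𝟙 (R.obj ω)) := by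
  have h1 : Function.Bijective ((Θ φ I R adjD e) ∘ fun b : B => b • 𝟙 (R.obj ω)) := by
    have h2 : ((Θ φ I R adjD e) ∘ fun b : B => b • 𝟙 (R.obj ω)) =
        fun b : B => (setup I).η (BA φ) b := by
      funext b
      exact Θ_smul_id φ I R adjD e b
    rw [h2]
    exact hgood
  exact (Function.Bijective.of_comp_iff' (Θ φ I R adjD e).bijective _).1 h1

include adjD e in
theorem subsingleton_ext [∀ j, Injective (I.X j)] (i : ℤ) (hvan : (setup I).Van (BA φ) i) :
    Subsingleton (R.obj ω ⟶ (R.obj ω)⟦i⟧) := by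
  haveI : Subsingleton ((DRing.restrictD φ).obj (R.obj ω) ⟶ ω⟦i⟧) := by
    refine ⟨fun h h' => ?_⟩
    have key : ∀ h : (DRing.restrictD φ).obj (R.obj ω) ⟶ ω⟦i⟧, h = 0 := by
      intro h
      have h0 : (σ φ I R adjD e).inv ≫ h ≫ e.inv⟦i⟧' = 0 := hvan _
      have h1 : h = (σ φ I R adjD e).hom ≫ ((σ φ I R adjD e).inv ≫ h ≫ e.inv⟦i⟧') ≫
          e.hom⟦i⟧' := by
        simp only [Category.assoc, Iso.hom_inv_id_assoc, ← Functor.map_comp, Iso.inv_hom_id,
          CategoryTheory.Functor.map_id, Category.comp_id]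
      rw [h1, h0, zero_comp, comp_zero]
    rw [key h, key h']
  exact subsingleton_of_shiftEquiv adjD (R.obj ω) ω i

end

section Single

variable (R : Dual.D A ⥤ Dual.D B) (adjD : DRing.restrictD φ ⊣ R)

include adjD in
theorem subsingleton_single (M : ModuleCat.{u} B) (ω : Dual.D A) (i : ℤ)
    (h : Subsingleton ((singleFunctor (ModuleCat.{u} A) 0).obj ((Φm φ).obj M) ⟶ ω⟦i⟧)) :
    Subsingleton ((singleFunctor (ModuleCat.{u} B) 0).obj M ⟶ (R.obj ω)⟦i⟧) := by
  haveI : Subsingleton ((Φm φ ⋙ singleFunctor (ModuleCat.{u} A) 0).obj M ⟶ ω⟦i⟧) := h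
  haveI : Subsingleton ((DRing.restrictD φ).obj ((singleFunctor (ModuleCat.{u} B) 0).obj M) ⟶
      ω⟦i⟧) :=
    (Iso.homCongr (((Φm φ).mapDerivedCategorySingleFunctor 0).app M)
      (Iso.refl (ω⟦i⟧))).subsingleton
  exact subsingleton_of_shiftEquiv adjD _ ω i

end Single

section Finite

variable (R : Dual.D A ⥤ Dual.D B) (adjD : DRing.restrictD φ ⊣ R)

include adjD in
theorem finite_homology_of_model [IsNoetherianRing A] [Module.Finite A (BA φ)]
    (I : CochainComplex (ModuleCat.{u} A) ℤ) [I.IsKInjective]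
    [CochainComplex.IsKInjective (Gc φ I)] {K : Dual.D A} (e : Q.obj I ≅ K) (a : ℤ)
    (hKa : ∀ j : ℤ, j < a → IsZero ((homologyFunctor (ModuleCat.{u} A) j).obj K))
    (hK : ∀ j : ℤ, Module.Finite A ((homologyFunctor (ModuleCat.{u} A) j).obj K)) (i : ℤ) :
    Module.Finite B ((homologyFunctor (ModuleCat.{u} B) i).obj (R.obj K)) := by
  have e1 : (homologyFunctor (ModuleCat.{u} B) i).obj (R.obj K) ≅ (Gc φ I).homology i :=
    (homologyFunctor (ModuleCat.{u} B) i).mapIso (cω φ I R adjD e).symm ≪≫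
      (homologyFunctorFactors (ModuleCat.{u} B) i).app (Gc φ I)
  suffices h : Module.Finite B ((Gc φ I).homology i) from
    Module.Finite.equiv e1.toLinearEquiv.symm
  apply finite_of_restrict φ
  have e2 : (Φm φ).obj ((Gc φ I).homology i) ≅ (Φc φ (Gc φ I)).homology i :=
    (((Gc φ I).sc i).mapHomologyIso (Φm φ)).symm
  have e3 : (Φc φ (Gc φ I)).homology i ≅ ((homCx I).obj (op (BA φ))).homology i :=
    (HomologicalComplex.homologyFunctor _ _ i).mapIso (θ φ I)
  have e4 := homologyEquiv' I (BA φ) i e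
  haveI := FinHom.finite_hom_single_of_bddBelow (BA φ) K a hKa hK i
  exact Module.Finite.equiv (e2.toLinearEquiv ≪≫ₗ e3.toLinearEquiv ≪≫ₗ e4).symm

end Finite

end Groth.Agent.Lib.helper23.RAdj
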