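import Mathlib
import Groth.Prelude.Def_Wider
import Groth.Prelude.Def_DDual2
import Groth.Agent.Lib.Helper23.RAdj5
import Groth.Agent.Lib.Helper23.DualD7

/-!
# `R = RHom_A(B, -)` for a finite ring map `A → B`: finiteness, dualizing complexes (helper23)

* `finite_HD_rightAdjoint` (S1774), `isDualizing_rightAdjoint` (S1772),
  `isNormalized_rightAdjoint` (S1773).
-/

set_option autoImplicit false
universe u
open CategoryTheory CategoryTheory.Limits DerivedCategory Opposite

attribute [local instance] HasDerivedCategory.standard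

namespace Groth.Agent.Lib.helper23.RAdj

open Groth.Agent.Lib.helper23.DualD

variable {A B : Type u} [CommRing A] [CommRing B] [Algebra A B]

/-- `B ≃ B_A` as `A`-modules. -/
noncomputable def equivBA : B ≃ₗ[A] (BA (algebraMap A B)) where
  toFun b := b
  invFun b := b
  left_inv _ := rfl
  right_inv _ := rfl
  map_add' _ _ := rfl
  map_smul' a b := Algebra.smul_def a b

instance finite_BA [Module.Finite A B] : Module.Finite A (BA (algebraMap A B)) :=
  Module.Finite.equiv (equivBA (A := A) (B := B))

/-- bounded below injective models. -/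
lemma exists_bddBelow_model (K : Dual.D A) (a : ℤ)
    (hKa : ∀ j : ℤ, j < a → IsZero ((homologyFunctor (ModuleCat.{u} A) j).obj K)) :
    ∃ I : CochainComplex (ModuleCat.{u} A) ℤ, (∀ n, Injective (I.X n)) ∧ I.IsStrictlyGE a ∧
      Nonempty (Q.obj I ≅ K) := by
  haveI : K.IsGE a := (DerivedCategory.isGE_iff K a).2 hKa
  obtain ⟨K'', hK'', ⟨e⟩⟩ := DerivedCategory.exists_iso_Q_obj_of_isGE K a
  obtain ⟨L, ι, hι, hLinj, hLge⟩ :=
    CochainComplex.Plus.modelCategoryQuillen.exists_quasiIso_injective K'' a
  haveI := hι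
  exact ⟨L, hLinj, hLge, ⟨(asIso (DerivedCategory.Q.map ι)).symm ≪≫ e.symm⟩⟩

variable (R : Dual.D A ⥤ Dual.D B) (adj : DRing.restrictD (algebraMap A B) ⊣ R)

include adj in
/-- S1774. -/
theorem finite_HD_rightAdjoint [IsNoetherianRing A] [Module.Finite A B] (K : Dual.D A) (a : ℤ)
    (hKa : ∀ j : ℤ, j < a → IsZero ((homologyFunctor (ModuleCat.{u} A) j).obj K))
    (hK : ∀ j : ℤ, Module.Finite A ((homologyFunctor (ModuleCat.{u} A) j).obj K)) (i : ℤ) :
    Module.Finite B ((homologyFunctor (ModuleCat.{u} B) i).obj (R.obj K)) := by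
  obtain ⟨I, hI, hIge, ⟨e⟩⟩ := exists_bddBelow_model K a hKa
  haveI := hI
  haveI := hIge
  haveI : I.IsKInjective := CochainComplex.isKInjective_of_injective I a
  haveI := isKInjective_Gc (algebraMap A B) I a
  exact finite_homology_of_model (algebraMap A B) R adj I e a hKa hK i

include adj in
/-- S1772. -/
theorem isDualizing_rightAdjoint [IsNoetherianRing A] [IsNoetherianRing B] [Module.Finite A B]
    (ω : Dual.D A) (hω : Dual.IsDualizing A ω) : Dual.IsDualizing B (R.obj ω) := by
  obtain ⟨M⟩ := exists_model ω hω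
  haveI := M.isKInjective
  haveI := M.isStrictlyGE
  haveI := isKInjective_Gc (algebraMap A B) M.I M.a
  have hgood := M.good hω (BA (algebraMap A B)) inferInstance
  refine ⟨inferInstance, ?_, ?_, ?_, ?_⟩
  · obtain ⟨a, b, h⟩ := hω.finite_injective_dimension
    refine ⟨a, b, fun N _ _ i hi => ?_⟩
    exact subsingleton_single (algebraMap A B) R adj (ModuleCat.of B N) ω i
      (h ((Φm (algebraMap A B)).obj (ModuleCat.of B N)) i hi)
  · intro i
    have hKa : ∀ j : ℤ, j < M.a → IsZero ((homologyFunctor (ModuleCat.{u} A) j).obj ω) := by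
      intro j hj
      haveI : (Q.obj M.I).IsGE M.a := (DerivedCategory.isGE_Q_obj_iff M.I M.a).2 inferInstance
      haveI : ω.IsGE M.a := DerivedCategory.TStructure.t.isGE_of_iso M.e M.a
      exact DerivedCategory.isZero_of_isGE ω M.a j hj
    exact finite_homology_of_model (algebraMap A B) R adj M.I M.e M.a hKa hω.finite_cohomology i
  · exact bijective_smul_id (algebraMap A B) M.I R adj M.e hgood.1
  · intro i hi
    exact subsingleton_ext (algebraMap A B) M.I R adj M.e i (hgood.2 i hi)

include adj in
/-- S1773 (second half). -/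
theorem isNormalized_rightAdjoint [IsLocalRing A] [IsLocalRing B] [IsLocalHom (algebraMap A B)]
    [Module.Finite A B] (ω : Dual.D A) (hn : Dual.IsNormalized A ω) :
    Dual.IsNormalized B (R.obj ω) := by
  intro i hi
  let m := IsLocalRing.maximalIdeal A
  let N : ModuleCat.{u} A :=
    (Φm (algebraMap A B)).obj (ModuleCat.of B (IsLocalRing.ResidueField B))
  refine subsingleton_single (algebraMap A B) R adj
    (ModuleCat.of B (IsLocalRing.ResidueField B)) ω i ?_
  -- `N` is a finite module killed by `m`
  let eN : IsLocalRing.ResidueField B ≃ₗ[A] N :=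
    { toFun := fun x => x
      invFun := fun x => x
      left_inv := fun _ => rfl
      right_inv := fun _ => rfl
      map_add' := fun _ _ => rfl
      map_smul' := fun a x => (algebraMap_smul B a x).symm }
  haveI : Module.Finite A N := Module.Finite.equiv eN
  have hV : ∀ a ∈ m, ∀ v : N, a • v = 0 := by
    intro a ha v
    obtain ⟨b, hbv⟩ := IsLocalRing.residue_surjective (R := B) (eN.symm v)
    have hb : algebraMap A B a ∈ IsLocalRing.maximalIdeal B := by
      rw [IsLocalRing.mem_maximalIdeal, mem_nonunits_iff] at ha ⊢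
      exact fun h => ha (isUnit_of_map_unit (algebraMap A B) a h)
    have h1 : IsLocalRing.residue B (algebraMap A B a * b) = 0 := by
      rw [IsLocalRing.residue_eq_zero_iff]
      exact Ideal.mul_mem_right _ _ hb
    have h2 : a • v = eN (IsLocalRing.residue B (algebraMap A B a * b)) := by
      have hv : v = eN (IsLocalRing.residue B b) := by rw [hbv, eN.apply_symm_apply]
      rw [hv, ← map_smul]
      congr 1
      rw [map_mul, ← algebraMap_smul B a (IsLocalRing.residue B b), Algebra.smul_def]
      rfl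
    rw [h2, h1, map_zero]
  obtain ⟨n, ⟨eV⟩⟩ := exists_iso_pi m N hV
  haveI := hn i hi
  refine ⟨fun ψ ψ' => ?_⟩
  have key : ∀ ψ : (singleFunctor (ModuleCat.{u} A) 0).obj N ⟶ ω⟦i⟧, ψ = 0 := by
    intro ψ
    have h0 : (singleFunctor (ModuleCat.{u} A) 0).map eV.inv ≫ ψ = 0 := by
      apply hom_pi_eq_zero (ModuleCat.of A (A ⧸ m)) n (singleFunctor (ModuleCat.{u} A) 0)
      intro j
      exact Subsingleton.elim (α := Dual.inD A (IsLocalRing.ResidueField A) ⟶ ω⟦i⟧) _ _
    have h1 : ψ = (singleFunctor (ModuleCat.{u} A) 0).map eV.hom ≫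
        (singleFunctor (ModuleCat.{u} A) 0).map eV.inv ≫ ψ := by
      rw [← Category.assoc, ← Functor.map_comp, eV.hom_inv_id, CategoryTheory.Functor.map_id,
        Category.id_comp]
    rw [h1, h0, comp_zero]
  rw [key ψ, key ψ']

end Groth.Agent.Lib.helper23.RAdj
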