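import Mathlib
import Groth.Prelude.Def_Wider
import Groth.Prelude.Def_DDual2
import Groth.Agent.Lib.Helper23.FinLenDual1
import Groth.Agent.Lib.Helper23.FinLenDual2
import Groth.Agent.Lib.Helper23.DimFn25
import Groth.Agent.Lib.Helper23.RAdj6
import Groth.Agent.Lib.Helper23.RHomEx
import Groth.Agent.S6291

/-!
# helper23: `Ext^i(N, ω)` for a module of finite length and a normalized dualizing complex (S1749)
-/

set_option autoImplicit false
universe u
open CategoryTheory CategoryTheory.Limits DerivedCategory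

attribute [local instance] HasDerivedCategory.standard

namespace Groth.Agent.Lib.helper23.FinLenDual

open Groth.Agent.Lib.helper23.RAdj Groth.Agent.Lib.helper23.DimFn Groth.Agent.S5156

section Inj

variable {B : Type u} [CommRing B]

/-- no maps `M[0] → I[i]`, `i ≠ 0`, for an injective module `I`. -/
lemma subsingleton_hom_single_injective (M I : ModuleCat.{u} B) [Injective I] (i : ℤ)
    (hi : i ≠ 0) :
    Subsingleton ((singleFunctor (ModuleCat.{u} B) 0).obj M ⟶
      ((singleFunctor (ModuleCat.{u} B) 0).obj I)⟦i⟧) := by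
  let : HasExt.{u + 1} (ModuleCat.{u} B) := hasExt_of_hasDerivedCategory _
  rcases lt_or_gt_of_ne hi with h' | h'
  · have h1 : DerivedCategory.TStructure.t.IsGE
        (((DerivedCategory.singleFunctor (ModuleCat.{u} B) 0).obj I)⟦i⟧) (-i) :=
      DerivedCategory.TStructure.t.isGE_shift _ 0 i (-i) (by omega)
    exact ⟨fun f g => by
      rw [DerivedCategory.TStructure.t.zero f 0 (-i) (by omega),
        DerivedCategory.TStructure.t.zero g 0 (-i) (by omega)]⟩
  · obtain ⟨k, rfl⟩ : ∃ k : ℕ, i = ((k + 1 : ℕ) : ℤ) := ⟨(i - 1).toNat, by omega⟩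
    have : Subsingleton (Abelian.Ext M I (k + 1)) :=
      Abelian.Ext.subsingleton_of_injective _ _ k
    exact (Abelian.Ext.homEquiv (X := M) (Y := I) (n := k + 1)).symm.subsingleton

end Inj

section Main

variable {A : Type u} [CommRing A] [IsLocalRing A] [IsNoetherianRing A]

/-- the quotient by an `m`-primary ideal has dimension zero. -/
lemma ringKrullDim_quotient_eq_zero (J : Ideal A) (hJ1 : J ≤ IsLocalRing.maximalIdeal A)
    (k : ℕ) (hJ2 : IsLocalRing.maximalIdeal A ^ k ≤ J) : ringKrullDim (A ⧸ J) = 0 := by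
  haveI : Nontrivial (A ⧸ J) := Ideal.Quotient.nontrivial_iff.2
    (fun h => (IsLocalRing.maximalIdeal.isMaximal A).ne_top (top_le_iff.1 (h ▸ hJ1)))
  rw [← ringKrullDimZero_iff_ringKrullDim_eq_zero,
    Ideal.krullDimLE_zero_quotient_iff_forall_minimalPrimes_isMaximal]
  intro P hP
  have hPprime : P.IsPrime := hP.1.1
  have h1 : IsLocalRing.maximalIdeal A ≤ P :=
    hPprime.le_of_pow_le (le_trans hJ2 hP.1.2)
  have h2 : P ≤ IsLocalRing.maximalIdeal A := IsLocalRing.le_maximalIdeal hPprime.ne_top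
  rw [le_antisymm h2 h1]
  exact IsLocalRing.maximalIdeal.isMaximal A

/-- **S1749**, for a module over `A/J`, `J` an `m`-primary ideal. -/
theorem main_of_quotient (ω : Dual.D A) (hω : Dual.IsDualizing A ω)
    (hn : Dual.IsNormalized A ω) (E : Type u) [AddCommGroup E] [Module A E]
    (f : IsLocalRing.ResidueField A →ₗ[A] E) (hf : InjHull.IsInjectiveHull f)
    (J : Ideal A) (hJ1 : J ≤ IsLocalRing.maximalIdeal A)
    (k : ℕ) (hJ2 : IsLocalRing.maximalIdeal A ^ k ≤ J)
    (N : Type u) [AddCommGroup N] [Module A N] [Module (A ⧸ J) N] [IsScalarTower A (A ⧸ J) N] :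
    (∀ i : ℤ, i ≠ 0 → Subsingleton (Dual.inD A N ⟶ ω⟦i⟧)) ∧
      Nonempty ((Dual.inD A N ⟶ ω) ≃ₗ[A] (N →ₗ[A] E)) := by
  let B := A ⧸ J
  haveI : Nontrivial B := Ideal.Quotient.nontrivial_iff.2
    (fun h => (IsLocalRing.maximalIdeal.isMaximal A).ne_top (top_le_iff.1 (h ▸ hJ1)))
  haveI : IsLocalRing B :=
    IsLocalRing.of_surjective' (Ideal.Quotient.mk J) Ideal.Quotient.mk_surjective
  haveI : IsNoetherianRing B := inferInstance
  haveI : IsLocalHom (algebraMap A B) :=
    IsLocalHom.of_surjective (Ideal.Quotient.mk J) Ideal.Quotient.mk_surjective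
  have h0 : ringKrullDim B = 0 := ringKrullDim_quotient_eq_zero J hJ1 k hJ2
  obtain ⟨R, ⟨adj⟩⟩ := RHomEx.exists_rightAdjoint_restrictD (algebraMap A B)
  have hωB : Dual.IsDualizing B (R.obj ω) := isDualizing_rightAdjoint R adj ω hω
  have hnB : Dual.IsNormalized B (R.obj ω) := isNormalized_rightAdjoint R adj ω hn
  obtain ⟨g, hg⟩ := Groth.Agent.S5156.result A B E f hf
  obtain ⟨ψ⟩ := dualizing_iso_injectiveHull_of_dim_zero h0 (R.obj ω) hωB hnB (C A B E) g hg
  haveI : Module.Injective B (C A B E) := hg.isInjective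
  haveI : Injective (C A B E) := Module.injective_object_of_injective_module B (C A B E)
  constructor
  · intro i hi
    haveI : Subsingleton (Dual.inD B N ⟶ (R.obj ω)⟦i⟧) := by
      haveI := subsingleton_hom_single_injective (ModuleCat.of B N) (C A B E) i hi
      exact (Iso.homCongr (Iso.refl (Dual.inD B N))
        ((shiftFunctor (Dual.D B) i).mapIso ψ)).subsingleton
    haveI : Subsingleton ((DRing.restrictD (algebraMap A B)).obj (Dual.inD B N) ⟶ ω⟦i⟧) :=
      (shiftEquiv adj (Dual.inD B N) ω i).symm.subsingleton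
    exact (Iso.homCongr (isoN (A := A) (B := B) N) (Iso.refl (ω⟦i⟧))).subsingleton
  · exact nonempty_homLinearEquiv N R adj ω (C A B E) ψ E (coextEquiv A B E N)
      (coextEquiv_add A B E N) (fun a h => coextEquiv_smul A B E N a h)

/-- **S1749.** -/
theorem main (ω : Dual.D A) (hω : Dual.IsDualizing A ω)
    (hn : Dual.IsNormalized A ω) (E : Type u) [AddCommGroup E] [Module A E]
    (f : IsLocalRing.ResidueField A →ₗ[A] E) (hf : InjHull.IsInjectiveHull f)
    (N : Type u) [AddCommGroup N] [Module A N] (hN : IsFiniteLength A N) :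
    (∀ i : ℤ, i ≠ 0 → Subsingleton (Dual.inD A N ⟶ ω⟦i⟧)) ∧
      Nonempty ((Dual.inD A N ⟶ ω) ≃ₗ[A] (N →ₗ[A] E)) := by
  obtain ⟨n, hn'⟩ := Groth.Agent.S6291.result N hN
  let J : Ideal A := IsLocalRing.maximalIdeal A ^ (n + 1)
  have hJ1 : J ≤ IsLocalRing.maximalIdeal A := Ideal.pow_le_self (by omega)
  have hJn : J ≤ IsLocalRing.maximalIdeal A ^ n := Ideal.pow_le_pow_right (by omega)
  have htors : Module.IsTorsionBySet A N (J : Set A) := by
    intro y x
    have h1 : (x : A) • y ∈ (IsLocalRing.maximalIdeal A ^ n) • (⊤ : Submodule A N) :=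
      Submodule.smul_mem_smul (hJn x.2) Submodule.mem_top
    rw [hn'] at h1
    exact (Submodule.mem_bot A).1 h1
  letI : Module (A ⧸ J) N := htors.module
  haveI : IsScalarTower A (A ⧸ J) N := htors.isScalarTower
  exact main_of_quotient ω hω hn E f hf J hJ1 (n + 1) le_rfl N

end Main

end Groth.Agent.Lib.helper23.FinLenDual
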