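import Mathlib
import Groth.Prelude.Def_DualLC

/-!
# helper23: element-level API for `Dual2.HDI A I K i = colim_n Hom_{D(A)}(A/I^n, K[i])`

* `stage I K i n`, `toHDI`, `trans`, `trans_toHDI`, `toHDI_surj`, `toHDI_eq_zero_iff`,
  `subsingleton_of_stages`, `toHDI_injective`.
-/

set_option autoImplicit false
universe u
open CategoryTheory CategoryTheory.Limits Opposite

attribute [local instance] HasDerivedCategory.standard

namespace Groth.Agent.Lib.helper23.LDual

variable {A : Type u} [CommRing A] (I : Ideal A) (K : Dual.D A) (i : ℤ)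

noncomputable instance presFilt₂ :
    PreservesFilteredColimitsOfSize.{u + 1, u + 1}
      (forget₂ (ModuleCat.{u + 1} A) AddCommGrpCat.{u + 1}) where
  preserves_filtered_colimits _ _ _ :=
  { preservesColimit := fun {F} =>
      preservesColimit_of_preserves_colimit_cocone
        (ModuleCat.FilteredColimits.colimitCoconeIsColimit F)
        (AddCommGrpCat.FilteredColimits.colimitCoconeIsColimit
          (F ⋙ forget₂ (ModuleCat.{u + 1} A) AddCommGrpCat.{u + 1})) }

noncomputable instance presFilt₁ :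
    PreservesFilteredColimitsOfSize.{u + 1, u + 1} (forget (ModuleCat.{u + 1} A)) :=
  Limits.comp_preservesFilteredColimits (forget₂ (ModuleCat.{u + 1} A) AddCommGrpCat.{u + 1})
    (forget AddCommGrpCat.{u + 1})

noncomputable instance presFilt :
    PreservesColimitsOfShape ℕᵒᵖᵒᵖ (forget (ModuleCat.{u + 1} A)) := by
  have : PreservesFilteredColimitsOfSize.{0,0} (forget (ModuleCat.{u + 1} A)) :=
    preservesFilteredColimitsOfSize_shrink.{0,u+1,0,u+1} _
  exact PreservesFilteredColimitsOfSize.preserves_filtered_colimits _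

/-- the diagram whose colimit is `HDI`. -/
noncomputable abbrev diag : ℕᵒᵖᵒᵖ ⥤ ModuleCat.{u + 1} A :=
  (localCohomology.ringModIdeals (localCohomology.idealPowersDiagram I) ⋙
      DerivedCategory.singleFunctor (ModuleCat.{u} A) 0).op ⋙
    (linearYoneda A (Dual.D A)).obj (K⟦i⟧)

/-- the `n`-th stage `Hom_{D(A)}(A/I^n, K[i])`. -/
noncomputable abbrev stage (n : ℕ) : ModuleCat.{u + 1} A := (diag I K i).obj (op (op n))

example (n : ℕ) : (stage I K i n : Type (u + 1)) = (Dual.inD A (A ⧸ I ^ n) ⟶ K⟦i⟧) := rfl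

/-- the map from the `n`-th stage. -/
noncomputable def toHDI (n : ℕ) : stage I K i n ⟶ Dual2.HDI A I K i :=
  colimit.ι (diag I K i) (op (op n))

/-- transition maps -/
noncomputable def trans {n m : ℕ} (h : n ≤ m) : stage I K i n ⟶ stage I K i m :=
  (diag I K i).map (homOfLE h).op.op

lemma trans_toHDI {n m : ℕ} (h : n ≤ m) : trans I K i h ≫ toHDI I K i m = toHDI I K i n :=
  colimit.w (diag I K i) (homOfLE h).op.op

lemma trans_toHDI_apply {n m : ℕ} (h : n ≤ m) (y : stage I K i n) :
    toHDI I K i m (trans I K i h y) = toHDI I K i n y := by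
  rw [← trans_toHDI I K i h]; rfl

lemma toHDI_surj (x : (Dual2.HDI A I K i : ModuleCat.{u + 1} A)) :
    ∃ (n : ℕ) (y : stage I K i n), toHDI I K i n y = x := by
  obtain ⟨j, y, hy⟩ := Concrete.colimit_exists_rep (diag I K i) x
  exact ⟨j.unop.unop, y, hy⟩

lemma toHDI_eq_zero_iff {n : ℕ} (y : stage I K i n) :
    toHDI I K i n y = 0 ↔ ∃ (m : ℕ) (h : n ≤ m), trans I K i h y = 0 := by
  constructor
  · intro h
    have h2 : colimit.ι (diag I K i) (op (op n)) y =
        colimit.ι (diag I K i) (op (op n)) (0 : stage I K i n) := by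
      change toHDI I K i n y = toHDI I K i n 0
      rw [h, map_zero]
    obtain ⟨k, f, g, hfg⟩ := Concrete.colimit_exists_of_rep_eq _ _ _ h2
    refine ⟨k.unop.unop, f.unop.unop.le, ?_⟩
    have : ((diag I K i).map g) (0 : stage I K i n) = 0 := map_zero _
    rw [this] at hfg
    exact hfg
  · rintro ⟨m, h, hy⟩
    rw [← trans_toHDI_apply I K i h, hy, map_zero]

lemma subsingleton_of_stages (h : ∀ n : ℕ, Subsingleton (stage I K i n)) :
    Subsingleton (Dual2.HDI A I K i : ModuleCat.{u + 1} A) := by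
  refine ⟨fun x y => ?_⟩
  have hz : ∀ z : (Dual2.HDI A I K i : ModuleCat.{u + 1} A), z = 0 := by
    intro z
    obtain ⟨n, w, rfl⟩ := toHDI_surj I K i z
    rw [(h n).elim w 0, map_zero]
  rw [hz x, hz y]

lemma toHDI_injective (hinj : ∀ (n m : ℕ) (h : n ≤ m), Function.Injective (trans I K i h))
    (n : ℕ) : Function.Injective (toHDI I K i n) := by
  intro y y' hyy'
  have h0 : toHDI I K i n (y - y') = 0 := by rw [map_sub, hyy', sub_self]
  obtain ⟨m, h, hm⟩ := (toHDI_eq_zero_iff I K i (y - y')).1 h0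
  have h1 : y - y' = 0 := hinj n m h (by rw [hm, map_zero])
  exact sub_eq_zero.1 h1

lemma trans_apply {n m : ℕ} (h : n ≤ m) (y : stage I K i n) :
    trans I K i h y = (DerivedCategory.singleFunctor (ModuleCat.{u} A) 0).map
      ((localCohomology.ringModIdeals (localCohomology.idealPowersDiagram I)).map
        (homOfLE h).op) ≫ (show Dual.inD A (A ⧸ I ^ n) ⟶ K⟦i⟧ from y) := rfl

lemma smul_stage (n : ℕ) (a : A) (y : stage I K i n) :
    a • y = (show Dual.inD A (A ⧸ I ^ n) ⟶ K⟦i⟧ from a • (show Dual.inD A (A ⧸ I ^ n) ⟶ K⟦i⟧ from y)) :=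
  rfl

end Groth.Agent.Lib.helper23.LDual
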