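import Mathlib
import Groth.Prelude.Def_Wider
import Groth.Agent.S0311
import Groth.Agent.S0314

/-!
# helper23: recognizing the injective hull of the residue field as a union of pieces

`nonempty_linearEquiv_hull`: an `A`-module `E'` (any universe) which is the increasing union of
submodules `S_n ≃ Hom_A(A/m^n, E)` is isomorphic to the injective hull `E` of the residue field.
-/

set_option autoImplicit false
universe u w
open IsLocalRing

namespace Groth.Agent.Lib.helper23.LDual

section

variable {A : Type u} [CommRing A] (J : Ideal A) (E : Type u) [AddCommGroup E] [Module A E]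

/-- `E[J]`. -/
abbrev TJ : Submodule A E := Submodule.torsionBySet A E (J : Set A)

lemma mem_TJ_iff (e : E) : e ∈ TJ J E ↔ ∀ a ∈ J, a • e = 0 := by
  rw [Submodule.mem_torsionBySet_iff]
  exact ⟨fun h a ha => h ⟨a, ha⟩, fun h a => h a.1 a.2⟩

lemma smul_one_quot (a : A) : a • (1 : A ⧸ J) = Ideal.Quotient.mk J a := by
  rw [Algebra.smul_def, mul_one]; rfl

/-- `Hom_A(A/J, E) ≃ E[J]`. -/
noncomputable def homQuotEquivTJ : ((A ⧸ J) →ₗ[A] E) ≃ₗ[A] TJ J E where
  toFun φ := ⟨φ 1, by
    rw [mem_TJ_iff]
    intro a ha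
    rw [← map_smul, smul_one_quot, Ideal.Quotient.eq_zero_iff_mem.2 ha, map_zero]⟩
  map_add' φ ψ := rfl
  map_smul' a φ := rfl
  invFun e := Submodule.liftQ _ (LinearMap.toSpanSingleton A E e.1) (by
    intro a ha
    rw [LinearMap.mem_ker, LinearMap.toSpanSingleton_apply]
    exact (mem_TJ_iff J E e.1).1 e.2 a ha)
  left_inv φ := by
    apply LinearMap.ext
    intro x
    obtain ⟨x, rfl⟩ := Ideal.Quotient.mk_surjective x
    show (LinearMap.toSpanSingleton A E (φ 1)) x = φ (Ideal.Quotient.mk J x)
    rw [LinearMap.toSpanSingleton_apply, ← map_smul, smul_one_quot]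
  right_inv e := by
    apply Subtype.ext
    show (LinearMap.toSpanSingleton A E e.1) (1 : A) = e.1
    rw [LinearMap.toSpanSingleton_apply, one_smul]

end

section Hull

variable {A : Type u} [CommRing A] [IsLocalRing A] [IsNoetherianRing A]
  (E : Type u) [AddCommGroup E] [Module A E] (f : ResidueField A →ₗ[A] E)
  (hf : InjHull.IsInjectiveHull f)

omit [IsNoetherianRing A] in
lemma isSimpleModule_residueField : IsSimpleModule A (ResidueField A) := by
  rw [isSimpleModule_iff_quot_maximal]
  exact ⟨maximalIdeal A, inferInstance, ⟨LinearEquiv.refl A _⟩⟩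

include hf

omit [IsNoetherianRing A] in
lemma isAtom_range : IsAtom (LinearMap.range f) := by
  haveI := isSimpleModule_residueField (A := A)
  haveI : IsSimpleModule A (LinearMap.range f) :=
    IsSimpleModule.congr (LinearEquiv.ofInjective f hf.injective).symm
  exact isSimpleModule_iff_isAtom.1 inferInstance

omit [IsNoetherianRing A] in
/-- every nonzero submodule of `E` contains `range f`. -/
lemma range_le_of_ne_bot (N : Submodule A E) (hN : N ≠ ⊥) : LinearMap.range f ≤ N := by
  have h1 : N ⊓ LinearMap.range f ≠ ⊥ := hf.essential N hN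
  rw [← (isAtom_range E f hf).not_disjoint_iff_le, disjoint_iff, inf_comm]
  exact h1

omit [IsNoetherianRing A] in
lemma f_one_ne_zero : f 1 ≠ 0 := by
  intro h
  have := hf.injective (h.trans (map_zero f).symm)
  exact one_ne_zero this

omit [IsNoetherianRing A] in
/-- for nonzero `e : E` some multiple of `e` is `f 1`. -/
lemma exists_smul_eq_f_one (e : E) (he : e ≠ 0) : ∃ a : A, a • e = f 1 := by
  have h1 : LinearMap.range f ≤ Submodule.span A {e} :=
    range_le_of_ne_bot E f hf _ (by
      rw [Ne, Submodule.span_singleton_eq_bot]; exact he)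
  have h2 : f 1 ∈ Submodule.span A {e} := h1 ⟨1, rfl⟩
  obtain ⟨a, ha⟩ := Submodule.mem_span_singleton.1 h2
  exact ⟨a, ha⟩

omit [IsNoetherianRing A] in
lemma smul_f_one_eq_zero (a : A) (ha : a ∈ maximalIdeal A) : a • f 1 = 0 := by
  rw [← map_smul]
  have : a • (1 : ResidueField A) = 0 := by
    rw [Algebra.smul_def, mul_one]
    exact (IsLocalRing.residue_eq_zero_iff a).2 ha
  rw [this, map_zero]

omit [IsNoetherianRing A] in
/-- the socle of `E` is `range f`. -/
lemma TJ_maximalIdeal_le (e : E) (he : ∀ a ∈ maximalIdeal A, a • e = 0) :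
    e ∈ LinearMap.range f := by
  by_cases h0 : e = 0
  · rw [h0]; exact zero_mem _
  obtain ⟨a, ha⟩ := exists_smul_eq_f_one E f hf e h0
  have hau : IsUnit a := by
    by_contra hna
    have : a ∈ maximalIdeal A := (IsLocalRing.mem_maximalIdeal a).2 hna
    exact f_one_ne_zero E f hf (ha ▸ he a this)
  obtain ⟨b, hb⟩ := hau.exists_left_inv
  have : e = b • f 1 := by rw [← ha, smul_smul, hb, one_smul]
  rw [this]
  exact Submodule.smul_mem _ _ ⟨1, rfl⟩

theorem nonempty_linearEquiv_hull
    (E' : Type w) [AddCommGroup E'] [Module A E']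
    (S : ℕ → Submodule A E') (hmono : ∀ n m, n ≤ m → S n ≤ S m)
    (hS : ∀ x : E', ∃ n, 1 ≤ n ∧ x ∈ S n)
    (χ : ∀ n, S n →ₗ[A] E) (hχ : ∀ n, Function.Injective (χ n))
    (hχr : ∀ n, LinearMap.range (χ n) = TJ (maximalIdeal A ^ n) E) :
    Nonempty (E' ≃ₗ[A] E) := by
  classical
  haveI : Module.Injective A E := hf.isInjective
  -- elements of S n are killed by m^n
  have hkill : ∀ (n : ℕ) (x : S n) (a : A), a ∈ maximalIdeal A ^ n → a • x = 0 := by
    intro n x a ha
    apply hχ n
    rw [map_smul, map_zero]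
    have : χ n x ∈ TJ (maximalIdeal A ^ n) E := by rw [← hχr n]; exact ⟨x, rfl⟩
    exact (mem_TJ_iff _ E _).1 this a ha
  -- the extension
  obtain ⟨g, hg⟩ := Module.Injective.extension_property A E (S 1) E' (S 1).subtype
    (S 1).injective_subtype (χ 1)
  have hg' : ∀ x : S 1, g x.1 = χ 1 x := fun x => LinearMap.congr_fun hg x
  -- key claim
  have key : ∀ x : E', x ≠ 0 → ∃ a : A, a • x ≠ 0 ∧ a • x ∈ S 1 := by
    intro x hx
    obtain ⟨n, hn1, hxn⟩ := hS x
    have he : χ n ⟨x, hxn⟩ ≠ 0 := by
      intro h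
      have := hχ n (h.trans (map_zero _).symm)
      exact hx (congrArg Subtype.val this)
    obtain ⟨a, ha⟩ := exists_smul_eq_f_one E f hf _ he
    -- an element w of S 1 with χ n w = f 1
    obtain ⟨w0, hw0⟩ : ∃ w0 : S 1, w0 ≠ 0 := by
      by_contra hcon
      push Not at hcon
      have h1 : LinearMap.range (χ 1) = ⊥ := by
        rw [LinearMap.range_eq_bot]
        ext w
        rw [hcon w, map_zero, LinearMap.zero_apply]
      have h2 : f 1 ∈ TJ (maximalIdeal A ^ 1) E := by
        rw [mem_TJ_iff]
        intro b hb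
        rw [pow_one] at hb
        exact smul_f_one_eq_zero E f hf b hb
      rw [← hχr 1, h1, Submodule.mem_bot] at h2
      exact f_one_ne_zero E f hf h2
    have hle : S 1 ≤ S n := hmono 1 n hn1
    let w0' : S n := ⟨w0.1, hle w0.2⟩
    have hw0' : χ n w0' ≠ 0 := by
      intro h
      have h9 : w0' = 0 := hχ n (h.trans (map_zero _).symm)
      have h10 : w0.1 = 0 := congrArg Subtype.val h9
      exact hw0 (Subtype.ext h10)
    have hw0s : χ n w0' ∈ LinearMap.range f := by
      apply TJ_maximalIdeal_le E f hf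
      intro b hb
      rw [← map_smul]
      have : b • w0' = 0 := by
        apply Subtype.ext
        show b • w0.1 = 0
        have := hkill 1 w0 b (by rw [pow_one]; exact hb)
        exact congrArg Subtype.val this
      rw [this, map_zero]
    obtain ⟨c, hc⟩ := exists_smul_eq_f_one E f hf _ hw0'
    -- so χ n (c • w0') = f 1 = χ n (a • x)
    have heq : c • w0' = a • (⟨x, hxn⟩ : S n) := by
      apply hχ n
      rw [map_smul, map_smul, hc, ha]
    refine ⟨a, ?_, ?_⟩
    · intro h0
      have : χ n (a • (⟨x, hxn⟩ : S n)) = 0 := by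
        have h00 : a • (⟨x, hxn⟩ : S n) = 0 := Subtype.ext h0
        rw [h00, map_zero]
      rw [map_smul, ha] at this
      exact f_one_ne_zero E f hf this
    · have h3 : a • x = c • w0.1 := by
        have := congrArg Subtype.val heq
        exact this.symm
      rw [h3]
      exact Submodule.smul_mem _ _ w0.2
  have ginj : Function.Injective g := by
    rw [← LinearMap.ker_eq_bot, LinearMap.ker_eq_bot']
    intro x hx
    by_contra hne
    obtain ⟨a, ha0, haS⟩ := key x hne
    have h1 : g (a • x) = χ 1 ⟨a • x, haS⟩ := hg' ⟨a • x, haS⟩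
    rw [map_smul, hx, smul_zero] at h1
    have := hχ 1 (h1.symm.trans (map_zero _).symm)
    exact ha0 (congrArg Subtype.val this)
  have gsurj : Function.Surjective g := by
    intro e
    obtain ⟨n, hn⟩ := Groth.Agent.S0311.result A E f hf e
    haveI : IsArtinian A E := Groth.Agent.S0314.result A E f hf
    have heT : e ∈ TJ (maximalIdeal A ^ n) E := (mem_TJ_iff _ E _).2 hn
    -- g maps S n into T n
    have hgT : ∀ x : S n, g x.1 ∈ TJ (maximalIdeal A ^ n) E := by
      intro x
      rw [mem_TJ_iff]
      intro a ha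
      rw [← map_smul]
      have := hkill n x a ha
      have h2 : a • x.1 = 0 := congrArg Subtype.val this
      rw [h2, map_zero]
    let χe : S n ≃ₗ[A] TJ (maximalIdeal A ^ n) E :=
      (LinearEquiv.ofInjective (χ n) (hχ n)) ≪≫ₗ LinearEquiv.ofEq _ _ (hχr n)
    let gS : S n →ₗ[A] TJ (maximalIdeal A ^ n) E :=
      LinearMap.codRestrict _ (g ∘ₗ (S n).subtype) hgT
    have gSinj : Function.Injective gS := by
      intro x y hxy
      have := congrArg Subtype.val hxy
      exact Subtype.ext (ginj this)
    let h : TJ (maximalIdeal A ^ n) E →ₗ[A] TJ (maximalIdeal A ^ n) E := gS ∘ₗ χe.symm.toLinearMap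
    have hinj : Function.Injective h := gSinj.comp χe.symm.injective
    obtain ⟨t, ht⟩ := IsArtinian.surjective_of_injective_endomorphism h hinj ⟨e, heT⟩
    exact ⟨(χe.symm t).1, congrArg Subtype.val ht⟩
  exact ⟨LinearEquiv.ofBijective g ⟨ginj, gsurj⟩⟩

end Hull

end Groth.Agent.Lib.helper23.LDual
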