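import Mathlib
import Groth.Prelude.Def_DualLC
import Groth.Agent.Lib.Helper23.LDual1
import Groth.Agent.Lib.Helper23.LDual2
import Groth.Agent.Lib.Helper23.FinLenDual3

/-!
# helper23: local cohomology of a normalized dualizing complex (S1718)
-/

set_option autoImplicit false
universe u
open CategoryTheory CategoryTheory.Limits Opposite DerivedCategory Pretriangulated IsLocalRing

attribute [local instance] HasDerivedCategory.standard

namespace Groth.Agent.Lib.helper23.LDual

section Shift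

variable {C : Type*} [Category C] [Preadditive C] [HasShift C ℤ]
  [∀ n : ℤ, (shiftFunctor C n).Additive]

lemma subsingleton_hom_shift_of (X Y : C) (a c b : ℤ) (h : c + a = b)
    (hs : Subsingleton (X ⟶ Y⟦c⟧)) : Subsingleton (X⟦a⟧ ⟶ Y⟦b⟧) := by
  refine ⟨fun φ φ' => ?_⟩
  have key : ∀ φ : X⟦a⟧ ⟶ Y⟦b⟧, φ = 0 := by
    intro φ
    let e : Y⟦c⟧⟦a⟧ ≅ Y⟦b⟧ := ((shiftFunctorAdd' C c a b h).app Y).symm
    have h1 : (shiftFunctor C a).preimage (φ ≫ e.inv) = 0 := hs.elim _ _
    have h2 : φ ≫ e.inv = 0 := by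
      rw [← (shiftFunctor C a).map_preimage (φ ≫ e.inv), h1, Functor.map_zero]
    have h3 : φ = (φ ≫ e.inv) ≫ e.hom := by rw [Category.assoc, e.inv_hom_id, Category.comp_id]
    rw [h3, h2, zero_comp]
  rw [key φ, key φ']

end Shift

section KerSC

variable {A : Type u} [CommRing A] {M N : ModuleCat.{u} A} (g : M ⟶ N)

/-- `0 → ker g → M → N → 0`. -/
noncomputable def kerSC : ShortComplex (ModuleCat.{u} A) :=
  ShortComplex.mk (ModuleCat.ofHom (LinearMap.ker g.hom).subtype) g (by
    apply ModuleCat.hom_ext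
    apply LinearMap.ext
    intro x
    exact x.2)

lemma kerSC_shortExact (hg : Function.Surjective g.hom) : (kerSC g).ShortExact := by
  have hex : (kerSC g).Exact := by
    rw [ShortComplex.moduleCat_exact_iff]
    intro x hx
    exact ⟨⟨x, hx⟩, rfl⟩
  haveI : Mono (kerSC g).f := by
    rw [ModuleCat.mono_iff_injective]
    intro x y hxy
    exact Subtype.ext hxy
  haveI : Epi (kerSC g).g := by
    rw [ModuleCat.epi_iff_surjective]
    exact hg
  exact ⟨hex⟩

lemma comp_injective_of_subsingleton (hg : Function.Surjective g.hom) (Y : Dual.D A)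
    (hs : Subsingleton (((singleFunctor (ModuleCat.{u} A) 0).obj
      (ModuleCat.of A (LinearMap.ker g.hom)))⟦(1 : ℤ)⟧ ⟶ Y)) :
    Function.Injective (fun y : (singleFunctor (ModuleCat.{u} A) 0).obj N ⟶ Y =>
      (singleFunctor (ModuleCat.{u} A) 0).map g ≫ y) := by
  intro y y' hyy'
  have hT := (kerSC_shortExact g hg).singleTriangle_distinguished
  have h0 : (singleFunctor (ModuleCat.{u} A) 0).map g ≫ (y - y') = 0 := by
    rw [Preadditive.comp_sub]; exact sub_eq_zero.2 hyy'
  obtain ⟨h, hh⟩ := Triangle.yoneda_exact₃ _ hT (y - y') h0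
  have : h = 0 := hs.elim _ _
  rw [this, comp_zero] at hh
  exact sub_eq_zero.1 hh

end KerSC

section Main

open Groth.Agent.Lib.helper23.FinLenDual

variable {A : Type u} [CommRing A] [IsLocalRing A] [IsNoetherianRing A]
  (ω : Dual.D A) (hω : Dual.IsDualizing A ω) (hn : Dual.IsNormalized A ω)
  (E : Type u) [AddCommGroup E] [Module A E] (f : ResidueField A →ₗ[A] E)
  (hf : InjHull.IsInjectiveHull f)

include hω hn hf

/-- S1749 for a module killed by a power of the maximal ideal. -/
lemma facts_of_killed (N : Type u) [AddCommGroup N] [Module A N] (n : ℕ)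
    (hN : ∀ a ∈ maximalIdeal A ^ n, ∀ x : N, a • x = 0) :
    (∀ i : ℤ, i ≠ 0 → Subsingleton (Dual.inD A N ⟶ ω⟦i⟧)) ∧
      Nonempty ((Dual.inD A N ⟶ ω) ≃ₗ[A] (N →ₗ[A] E)) := by
  let J : Ideal A := maximalIdeal A ^ (n + 1)
  have hJ1 : J ≤ maximalIdeal A := Ideal.pow_le_self (by omega)
  have hJn : J ≤ maximalIdeal A ^ n := Ideal.pow_le_pow_right (by omega)
  have htors : Module.IsTorsionBySet A N (J : Set A) := by
    intro y x
    exact hN x.1 (hJn x.2) y
  letI : Module (A ⧸ J) N := htors.module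
  haveI : IsScalarTower A (A ⧸ J) N := htors.isScalarTower
  exact main_of_quotient ω hω hn E f hf J hJ1 (n + 1) le_rfl N

omit [IsLocalRing A] [IsNoetherianRing A] in
omit hω hn hf in
lemma quot_killed (J : Ideal A) (a : A) (ha : a ∈ J) (x : A ⧸ J) : a • x = 0 := by
  rw [Algebra.smul_def, Ideal.Quotient.algebraMap_eq, Ideal.Quotient.eq_zero_iff_mem.2 ha,
    zero_mul]

/-- vanishing of the stages in nonzero degrees. -/
lemma subsingleton_stage (i : ℤ) (hi : i ≠ 0) (n : ℕ) :
    Subsingleton (stage (maximalIdeal A) ω i n) :=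
  (facts_of_killed ω hω hn E f hf (A ⧸ maximalIdeal A ^ n) n
    (fun a ha x => quot_killed _ a ha x)).1 i hi

/-- the stages in degree zero. -/
lemma nonempty_stage_equiv (n : ℕ) :
    Nonempty (stage (maximalIdeal A) ω 0 n ≃ₗ[A] ((A ⧸ maximalIdeal A ^ n) →ₗ[A] E)) := by
  obtain ⟨e⟩ := (facts_of_killed ω hω hn E f hf (A ⧸ maximalIdeal A ^ n) n
    (fun a ha x => quot_killed _ a ha x)).2
  exact ⟨(Linear.homCongr A (Iso.refl _) ((shiftFunctorZero (Dual.D A) ℤ).app ω)) ≪≫ₗ e⟩

/-- the transition maps are injective in degree zero. -/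
lemma trans_injective {n m : ℕ} (h : n ≤ m) :
    Function.Injective (trans (maximalIdeal A) ω 0 h) := by
  let g := (localCohomology.ringModIdeals
    (localCohomology.idealPowersDiagram (maximalIdeal A))).map (homOfLE h).op
  have hg : Function.Surjective g.hom := by
    intro y
    obtain ⟨a, rfl⟩ := Submodule.Quotient.mk_surjective _ y
    exact ⟨Submodule.Quotient.mk a, rfl⟩
  have hk : ∀ a ∈ maximalIdeal A ^ m, ∀ x : LinearMap.ker g.hom, a • x = 0 := by
    intro a ha x
    apply Subtype.ext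
    exact quot_killed (maximalIdeal A ^ m) a ha x.1
  have hs : Subsingleton (((singleFunctor (ModuleCat.{u} A) 0).obj
      (ModuleCat.of A (LinearMap.ker g.hom)))⟦(1 : ℤ)⟧ ⟶ ω⟦(0 : ℤ)⟧) :=
    subsingleton_hom_shift_of _ ω 1 (-1) 0 (by norm_num)
      ((facts_of_killed ω hω hn E f hf (LinearMap.ker g.hom) m hk).1 (-1) (by norm_num))
  intro y y' hyy'
  exact comp_injective_of_subsingleton g hg _ hs hyy'

/-- **S1718**: local cohomology of a normalized dualizing complex. -/
theorem localCohomology_normalized_dualizing :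
    Nonempty (Dual2.HDI A (maximalIdeal A) ω 0 ≃ₗ[A] E) ∧
      ∀ i : ℤ, i ≠ 0 → Subsingleton (Dual2.HDI A (maximalIdeal A) ω i) := by
  constructor
  · let ι : ∀ n, stage (maximalIdeal A) ω 0 n →ₗ[A] Dual2.HDI A (maximalIdeal A) ω 0 :=
      fun n => (toHDI (maximalIdeal A) ω 0 n).hom
    have hι : ∀ n, Function.Injective (ι n) :=
      toHDI_injective _ _ _ (fun n m h => trans_injective ω hω hn E f hf h)
    have he := nonempty_stage_equiv ω hω hn E f hf
    let e : ∀ n, stage (maximalIdeal A) ω 0 n ≃ₗ[A] ((A ⧸ maximalIdeal A ^ n) →ₗ[A] E) :=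
      fun n => (he n).some
    let χe : ∀ n, LinearMap.range (ι n) ≃ₗ[A] TJ (maximalIdeal A ^ n) E := fun n =>
      (LinearEquiv.ofInjective (ι n) (hι n)).symm ≪≫ₗ e n ≪≫ₗ homQuotEquivTJ (maximalIdeal A ^ n) E
    refine nonempty_linearEquiv_hull E f hf (Dual2.HDI A (maximalIdeal A) ω 0)
      (fun n => LinearMap.range (ι n)) ?_ ?_
      (fun n => (TJ (maximalIdeal A ^ n) E).subtype ∘ₗ (χe n).toLinearMap) ?_ ?_
    · rintro n m h x ⟨y, rfl⟩
      exact ⟨trans (maximalIdeal A) ω 0 h y, trans_toHDI_apply _ _ _ h y⟩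
    · intro x
      obtain ⟨n, y, rfl⟩ := toHDI_surj (maximalIdeal A) ω 0 x
      exact ⟨n + 1, by omega, trans (maximalIdeal A) ω 0 (Nat.le_succ n) y,
        trans_toHDI_apply _ _ _ (Nat.le_succ n) y⟩
    · intro n
      exact (Submodule.injective_subtype _).comp (χe n).injective
    · intro n
      rw [LinearMap.range_comp, LinearEquiv.range, Submodule.map_top, Submodule.range_subtype]
  · intro i hi
    exact subsingleton_of_stages _ _ _ (fun n => subsingleton_stage ω hω hn E f hf i hi n)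

end Main

end Groth.Agent.Lib.helper23.LDual
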