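import Mathlib
import Groth.Prelude.Def_DRing4
import Groth.Agent.Lib.Helper23.RHomCx1

/-!
# Complex biduality, part 1 (helper23): the evaluation map `K ⟶ Hom•(Hom•(K, I), I)`

* `ev I K : K ⟶ DDc I K` (sign `(-1)^{pq}`), `ev_naturality`, `DDF`, `evNat`;
* `DS I S`: the dual of a short complex of complexes, `DS_shortExact` (terms of `I` injective).
-/

set_option autoImplicit false
universe u
open CategoryTheory CategoryTheory.Limits DerivedCategory
open CochainComplex.HomComplex

attribute [local instance] HasDerivedCategory.standard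

namespace Groth.Agent.Lib.helper23.CxBid

open Groth.Agent.Lib.helper23.RHomCx

variable {A : Type u} [CommRing A] (I : DRing.Cx A)

/-- evaluation: the `A`-linear map `z ↦ (-1)^{pq} z_p(x)` on `Cochain K I q`. -/
noncomputable def evLin (K : DRing.Cx A) (p q q' : ℤ) (h : q + p = q') (x : K.X p) :
    Cochain K I q →ₗ[A] I.X q' where
  toFun z := (p * q).negOnePow • (z.v p q' (by omega)).hom x
  map_add' z z' := by
    simp only [Cochain.add_v, ModuleCat.hom_add, LinearMap.add_apply, smul_add]
  map_smul' a z := by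
    simp only [Cochain.smul_v, ModuleCat.hom_smul, LinearMap.smul_apply, RingHom.id_apply]
    rw [smul_comm]

lemma evLin_apply (K : DRing.Cx A) (p q q' : ℤ) (h : q + p = q') (x : K.X p) (z : Cochain K I q) :
    evLin I K p q q' h x z = (p * q).negOnePow • (z.v p q' (by omega)).hom x := rfl

/-- the cochain `ev(x)` of degree `p` from `Hom•(K, I)` to `I` -/
noncomputable def evCochain (K : DRing.Cx A) (p : ℤ) (x : K.X p) :
    Cochain (DRing.homCx K I) I p :=
  Cochain.mk (fun q q' h => ModuleCat.ofHom (evLin I K p q q' h x))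

lemma evCochain_v_apply (K : DRing.Cx A) (p : ℤ) (x : K.X p) (q q' : ℤ) (h : q + p = q')
    (z : Cochain K I q) :
    ((evCochain I K p x).v q q' h).hom z = (p * q).negOnePow • (z.v p q' (by omega)).hom x := rfl

/-- `x ↦ ev(x)`, linear -/
noncomputable def evF (K : DRing.Cx A) (p : ℤ) : K.X p →ₗ[A] Cochain (DRing.homCx K I) I p where
  toFun x := evCochain I K p x
  map_add' x y := by
    ext q q' h (z : Cochain K I q)
    simp only [Cochain.add_v, ModuleCat.hom_add, LinearMap.add_apply]
    erw [evCochain_v_apply, evCochain_v_apply, evCochain_v_apply]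
    rw [map_add, smul_add]
  map_smul' a x := by
    ext q q' h (z : Cochain K I q)
    simp only [Cochain.smul_v, ModuleCat.hom_smul, LinearMap.smul_apply, RingHom.id_apply]
    erw [evCochain_v_apply, evCochain_v_apply]
    rw [map_smul, smul_comm]


lemma sign1 (p q : ℤ) : (p + 1).negOnePow * (p * (q + 1)).negOnePow = -(p * q).negOnePow := by
  rw [Int.negOnePow_succ, mul_add, mul_one, Int.negOnePow_add, neg_mul, mul_comm (p * q).negOnePow,
    ← mul_assoc, Int.units_mul_self, one_mul]

lemma sign2 (p q : ℤ) : -(p * q).negOnePow * (q + 1).negOnePow = ((p + 1) * q).negOnePow := by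
  rw [Int.negOnePow_succ, add_mul, one_mul, Int.negOnePow_add, neg_mul_neg]

lemma δ_evCochain (K : DRing.Cx A) (p p' : ℤ) (hp : p + 1 = p') (x : K.X p) :
    δ p p' (evCochain I K p x) = evCochain I K p' ((K.d p p').hom x) := by
  subst hp
  ext q q'' hq (z : Cochain K I q)
  rw [δ_v p (p + 1) rfl _ q q'' hq (q'' - 1) (q + 1) rfl rfl]
  simp only [ModuleCat.hom_add, LinearMap.add_apply, ModuleCat.hom_comp, LinearMap.comp_apply,
    ModuleCat.hom_smul, LinearMap.smul_apply]
  erw [evCochain_v_apply, evCochain_v_apply, evCochain_v_apply]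
  rw [homCx_d_apply, δ_v q (q + 1) rfl z p q'' (by omega) (q'' - 1) (p + 1) rfl rfl]
  simp only [ModuleCat.hom_add, LinearMap.add_apply, ModuleCat.hom_comp, LinearMap.comp_apply,
    ModuleCat.hom_smul, LinearMap.smul_apply, smul_add, smul_smul, sign1]
  rw [← mul_assoc, sign1, sign2, Units.smul_def, Units.smul_def, map_zsmul, Units.smul_def]
  simp only [Units.val_neg, neg_smul]
  abel

/-- the double dual `Hom•(Hom•(K, I), I)` -/
noncomputable abbrev DDc (K : DRing.Cx A) : DRing.Cx A := DRing.homCx (DRing.homCx K I) I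

/-- the evaluation map `K ⟶ Hom•(Hom•(K, I), I)` -/
noncomputable def ev (K : DRing.Cx A) : K ⟶ DDc I K where
  f p := ModuleCat.ofHom (evF I K p)
  comm' p p' hp := by
    ext x
    show δ p p' (evCochain I K p x) = evCochain I K p' ((K.d p p').hom x)
    exact δ_evCochain I K p p' hp x

lemma ev_f_apply (K : DRing.Cx A) (p : ℤ) (x : K.X p) :
    ((ev I K).f p).hom x = evCochain I K p x := rfl

/-- functoriality of the double dual -/
noncomputable def DDmap {K K' : DRing.Cx A} (f : K ⟶ K') : DDc I K ⟶ DDc I K' :=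
  homCxMapLeft (homCxMapLeft f I) I

lemma DDmap_id (K : DRing.Cx A) : DDmap I (𝟙 K) = 𝟙 _ := by
  rw [DDmap, homCxMapLeft_id, homCxMapLeft_id]

lemma DDmap_comp {K K' K'' : DRing.Cx A} (f : K ⟶ K') (g : K' ⟶ K'') :
    DDmap I (f ≫ g) = DDmap I f ≫ DDmap I g := by
  rw [DDmap, DDmap, DDmap, homCxMapLeft_comp, homCxMapLeft_comp]

lemma ev_naturality {K K' : DRing.Cx A} (f : K ⟶ K') :
    ev I K ≫ DDmap I f = f ≫ ev I K' := by
  ext p x
  apply Cochain.ext
  intro q q' h
  apply ModuleCat.hom_ext
  apply LinearMap.ext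
  intro (z : Cochain K' I q)
  show (((Cochain.ofHom (homCxMapLeft f I)).comp (evCochain I K p x) (zero_add p)).v q q' h).hom z =
    ((evCochain I K' p ((f.f p).hom x)).v q q' h).hom z
  rw [Cochain.zero_cochain_comp_v, Cochain.ofHom_v]
  erw [evCochain_v_apply]
  show (p * q).negOnePow • ((((homCxMapLeft f I).f q).hom z : Cochain K I q).v p q' _).hom x = _
  rw [homCxMapLeft_f_apply, Cochain.zero_cochain_comp_v, Cochain.ofHom_v]
  · rfl
  · exact h

/-- the double dual functor -/
noncomputable def DDF : DRing.Cx A ⥤ DRing.Cx A where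
  obj K := DDc I K
  map f := DDmap I f
  map_id K := DDmap_id I K
  map_comp f g := DDmap_comp I f g

/-- `ev` as a natural transformation -/
noncomputable def evNat : 𝟭 (DRing.Cx A) ⟶ DDF I where
  app K := ev I K
  naturality _ _ f := (ev_naturality I f).symm


lemma homCxMapLeft_zero (K K' L : DRing.Cx A) : homCxMapLeft (0 : K ⟶ K') L = 0 := by
  refine HomologicalComplex.hom_ext _ _ fun i => ModuleCat.hom_ext (LinearMap.ext fun (z : Cochain K' L i) => ?_)
  show (Cochain.ofHom (0 : K ⟶ K')).comp z (zero_add i) = 0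
  rw [Cochain.ofHom_zero, Cochain.zero_comp]

/-- the dual of a short complex -/
noncomputable def DS (S : ShortComplex (DRing.Cx A)) : ShortComplex (DRing.Cx A) :=
  ShortComplex.mk (homCxMapLeft S.g I) (homCxMapLeft S.f I) (by
    rw [← homCxMapLeft_comp, S.zero, homCxMapLeft_zero])

lemma shortExact_of_functions {X₁ X₂ X₃ : ModuleCat.{u} A} (f : X₁ ⟶ X₂) (g : X₂ ⟶ X₃)
    (w : f ≫ g = 0) (hf : Function.Injective f) (hg : Function.Surjective g)
    (hex : ∀ x, g x = 0 → ∃ y, f y = x) : (ShortComplex.mk f g w).ShortExact :=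
  ShortComplex.ShortExact.mk' ((ShortComplex.moduleCat_exact_iff _).2 hex)
    ((ModuleCat.mono_iff_injective f).2 hf) ((ModuleCat.epi_iff_surjective g).2 hg)

lemma DS_shortExact [∀ j, Injective (I.X j)] (S : ShortComplex (DRing.Cx A)) (hS : S.ShortExact) :
    (DS I S).ShortExact := by
  apply HomologicalComplex.shortExact_of_degreewise_shortExact
  intro n
  have hSp : ∀ p, (S.map (HomologicalComplex.eval _ _ p)).ShortExact := fun p => hS.map_of_exact _
  have hmono : ∀ p, Mono (S.f.f p) := fun p => (hSp p).mono_f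
  have hepi : ∀ p, Epi (S.g.f p) := fun p => (hSp p).epi_g
  refine shortExact_of_functions (A := A) _ _ _ ?_ ?_ ?_
  · intro (z : Cochain S.X₃ I n) (z' : Cochain S.X₃ I n) h
    have h' : (Cochain.ofHom S.g).comp z (zero_add n) = (Cochain.ofHom S.g).comp z' (zero_add n) := h
    refine Cochain.ext _ _ (fun p q hpq => ?_)
    have h2 := congrArg (fun c => c.v p q hpq) h'
    simp only [Cochain.zero_cochain_comp_v, Cochain.ofHom_v] at h2
    exact (cancel_epi (S.g.f p)).1 h2
  · intro (z : Cochain S.X₁ I n)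
    refine ⟨Cochain.mk (fun p q hpq => Injective.factorThru (z.v p q hpq) (S.f.f p)), ?_⟩
    show (Cochain.ofHom S.f).comp _ (zero_add n) = z
    refine Cochain.ext _ _ (fun p q hpq => ?_)
    rw [Cochain.zero_cochain_comp_v, Cochain.ofHom_v, Cochain.mk_v]
    exact Injective.comp_factorThru _ _
  · intro (z : Cochain S.X₂ I n) hz
    have hz' : (Cochain.ofHom S.f).comp z (zero_add n) = 0 := hz
    have h2 : ∀ p q (hpq : p + n = q), S.f.f p ≫ z.v p q hpq = 0 := by
      intro p q hpq
      have := congrArg (fun c => c.v p q hpq) hz'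
      simpa only [Cochain.zero_cochain_comp_v, Cochain.ofHom_v, Cochain.zero_v] using this
    haveI : ∀ p, Epi (S.map (HomologicalComplex.eval _ _ p)).g := fun p => (hSp p).epi_g
    refine ⟨Cochain.mk (fun p q hpq => (hSp p).exact.desc (z.v p q hpq) (h2 p q hpq)), ?_⟩
    show (Cochain.ofHom S.g).comp _ (zero_add n) = z
    refine Cochain.ext _ _ (fun p q hpq => ?_)
    rw [Cochain.zero_cochain_comp_v, Cochain.ofHom_v, Cochain.mk_v]
    exact (hSp p).exact.g_desc _ _

end Groth.Agent.Lib.helper23.CxBid
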