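import Mathlib
import Groth.Prelude.Def_DRing4
import Groth.Agent.Lib.Helper23.RHomCx1
import Groth.Agent.Lib.Helper23.CxBid1

/-!
# Complex biduality, part 2 (helper23): the property `B I K` (`Q(ev_K)` is an isomorphism)

Invariance under quasi-isomorphisms and isomorphisms in `D(A)`, two-out-of-three in short exact
sequences of complexes, zero objects, shifts.
-/

set_option autoImplicit false
universe u
open CategoryTheory CategoryTheory.Limits DerivedCategory Pretriangulated
open CochainComplex.HomComplex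
open scoped ZeroObject

attribute [local instance] HasDerivedCategory.standard

namespace Groth.Agent.Lib.helper23.CxBid

open Groth.Agent.Lib.helper23.RHomCx

variable {A : Type u} [CommRing A] (I : DRing.Cx A)

/-- `B I K`: the evaluation map `K ⟶ Hom•(Hom•(K, I), I)` is a quasi-isomorphism. -/
def B (K : DRing.Cx A) : Prop := IsIso (Q.map (ev I K))

section KInj

variable [I.IsKInjective]

lemma quasiIso_DDmap {K K' : DRing.Cx A} (f : K ⟶ K') [QuasiIso f] : QuasiIso (DDmap I f) := by
  haveI := quasiIso_homCxMapLeft f I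
  exact quasiIso_homCxMapLeft (homCxMapLeft f I) I

lemma B_iff_of_quasiIso {K K' : DRing.Cx A} (f : K ⟶ K') [QuasiIso f] : B I K ↔ B I K' := by
  have h : Q.map (ev I K) ≫ Q.map (DDmap I f) = Q.map f ≫ Q.map (ev I K') := by
    rw [← Functor.map_comp, ← Functor.map_comp, ev_naturality]
  haveI : IsIso (Q.map f) := by
    rw [isIso_Q_map_iff_quasiIso]; infer_instance
  haveI : IsIso (Q.map (DDmap I f)) := by
    rw [isIso_Q_map_iff_quasiIso]; exact quasiIso_DDmap I f
  constructor
  · intro hK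
    haveI : IsIso (Q.map (ev I K)) := hK
    have h2 : Q.map (ev I K') = inv (Q.map f) ≫ Q.map (ev I K) ≫ Q.map (DDmap I f) := by
      rw [h, IsIso.inv_hom_id_assoc]
    show IsIso (Q.map (ev I K'))
    rw [h2]; infer_instance
  · intro hK
    haveI : IsIso (Q.map (ev I K')) := hK
    have h2 : Q.map (ev I K) = (Q.map f ≫ Q.map (ev I K')) ≫ inv (Q.map (DDmap I f)) := by
      rw [← h, Category.assoc, IsIso.hom_inv_id, Category.comp_id]
    show IsIso (Q.map (ev I K))
    rw [h2]; infer_instance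

lemma B_of_iso {K K' : DRing.Cx A} (e : Q.obj K ≅ Q.obj K') (h : B I K) : B I K' := by
  obtain ⟨X', s, hs, g, hfac⟩ := DerivedCategory.right_fac e.hom
  haveI : QuasiIso s := (isIso_Q_map_iff_quasiIso (φ := s)).1 hs
  have hg : IsIso (Q.map g) := by
    have h1 : Q.map g = Q.map s ≫ e.hom := by rw [hfac, IsIso.hom_inv_id_assoc]
    rw [h1]; infer_instance
  haveI : QuasiIso g := (isIso_Q_map_iff_quasiIso (φ := g)).1 hg
  exact (B_iff_of_quasiIso I g).1 ((B_iff_of_quasiIso I s).2 h)

end KInj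

lemma isZero_homCx_of_isZero (K : DRing.Cx A) (hK : IsZero K) : IsZero (DRing.homCx K I) := by
  rw [IsZero.iff_id_eq_zero]
  refine HomologicalComplex.hom_ext _ _ fun n => ModuleCat.hom_ext (LinearMap.ext fun (z : Cochain K I n) => ?_)
  show z = 0
  refine Cochain.ext _ _ (fun p q hpq => ?_)
  have h0 : IsZero (K.X p) := (HomologicalComplex.eval _ _ p).map_isZero hK
  exact h0.eq_of_src _ _

lemma B_of_isZero (K : DRing.Cx A) (hK : IsZero K) : B I K := by
  have h1 : IsZero (Q.obj K) := Q.map_isZero hK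
  have h2 : IsZero (Q.obj (DDc I K)) :=
    Q.map_isZero (isZero_homCx_of_isZero I _ (isZero_homCx_of_isZero I K hK))
  exact ⟨0, h1.eq_of_src _ _, h2.eq_of_src _ _⟩

lemma B_of_isZero_Q [I.IsKInjective] (K : DRing.Cx A) (hK : IsZero (Q.obj K)) : B I K := by
  have h0 : IsZero (Q.obj (0 : CochainComplex (ModuleCat.{u} A) ℤ)) := Q.map_isZero (isZero_zero _)
  exact B_of_iso I (h0.iso hK) (B_of_isZero I (0 : CochainComplex (ModuleCat.{u} A) ℤ) (isZero_zero _))

section SES

variable [∀ j, Injective (I.X j)]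

/-- the morphism of short complexes `S ⟶ DS (DS S)` given by the evaluation maps -/
noncomputable def evS (S : ShortComplex (DRing.Cx A)) : S ⟶ DS I (DS I S) where
  τ₁ := ev I S.X₁
  τ₂ := ev I S.X₂
  τ₃ := ev I S.X₃
  comm₁₂ := ev_naturality I S.f
  comm₂₃ := ev_naturality I S.g

lemma B_of_ses₂ (S : ShortComplex (DRing.Cx A)) (hS : S.ShortExact) (h₁ : B I S.X₁)
    (h₃ : B I S.X₃) : B I S.X₂ := by
  have hDD := DS_shortExact I _ (DS_shortExact I S hS)
  let φ := triangleOfSES.map hS hDD (evS I S)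
  have i₁ : IsIso φ.hom₁ := h₁
  have i₃ : IsIso φ.hom₃ := h₃
  exact isIso₂_of_isIso₁₃ φ (triangleOfSES_distinguished hS) (triangleOfSES_distinguished hDD) i₁ i₃

lemma B_of_ses₃ (S : ShortComplex (DRing.Cx A)) (hS : S.ShortExact) (h₁ : B I S.X₁)
    (h₂ : B I S.X₂) : B I S.X₃ := by
  have hDD := DS_shortExact I _ (DS_shortExact I S hS)
  let φ := triangleOfSES.map hS hDD (evS I S)
  have i₁ : IsIso φ.hom₁ := h₁
  have i₂ : IsIso φ.hom₂ := h₂
  exact isIso₃_of_isIso₁₂ φ (triangleOfSES_distinguished hS) (triangleOfSES_distinguished hDD) i₁ i₂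

lemma B_of_ses₁ (S : ShortComplex (DRing.Cx A)) (hS : S.ShortExact) (h₂ : B I S.X₂)
    (h₃ : B I S.X₃) : B I S.X₁ := by
  have hDD := DS_shortExact I _ (DS_shortExact I S hS)
  let φ := triangleOfSES.map hS hDD (evS I S)
  have i₂ : IsIso φ.hom₂ := h₂
  have i₃ : IsIso φ.hom₃ := h₃
  exact isIso₁_of_isIso₂₃ φ (triangleOfSES_distinguished hS) (triangleOfSES_distinguished hDD) i₂ i₃

end SES

end Groth.Agent.Lib.helper23.CxBid
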