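import Mathlib
import Groth.Prelude.Def_Wider

/-!
# Cyclic nonzero modules; concentrated objects of the derived category (helper23)

* `IsCyc A M`: the `A`-module `M` is nonzero and generated by one element; transport along (semi)linear
  bijections.
* `nonempty_iso_single`: an object of `D(C)` with cohomology only in degree `n`, where it is `N`, is
  isomorphic to `N` placed in degree `n`.
-/

set_option autoImplicit false
universe w v u
open CategoryTheory CategoryTheory.Limits DerivedCategory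

namespace Groth.Agent.Lib.helper23.GorInv

/-- a nonzero cyclic module -/
def IsCyc (A : Type*) [CommRing A] (M : Type*) [AddCommGroup M] [Module A M] : Prop :=
  ∃ m₀ : M, m₀ ≠ 0 ∧ ∀ m : M, ∃ c : A, m = c • m₀

lemma IsCyc.of_linearEquiv {A : Type*} [CommRing A] {M N : Type*} [AddCommGroup M] [Module A M]
    [AddCommGroup N] [Module A N] (e : M ≃ₗ[A] N) (h : IsCyc A M) : IsCyc A N := by
  obtain ⟨m₀, h0, hm⟩ := h
  refine ⟨e m₀, fun h => h0 (e.map_eq_zero_iff.1 h), fun n => ?_⟩
  obtain ⟨c, hc⟩ := hm (e.symm n)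
  exact ⟨c, by rw [← map_smul, ← hc, e.apply_symm_apply]⟩

/-- transport along an additive bijection which is semilinear for a surjective ring map -/
lemma IsCyc.of_semilinear {A B : Type*} [CommRing A] [CommRing B] (θ : A →+* B)
    (hθ : Function.Surjective θ) {M N : Type*} [AddCommGroup M] [Module B M]
    [AddCommGroup N] [Module A N] (e : M ≃+ N) (he : ∀ (a : A) (m : M), e (θ a • m) = a • e m)
    (h : IsCyc B M) : IsCyc A N := by
  obtain ⟨m₀, h0, hm⟩ := h
  refine ⟨e m₀, fun h => h0 ((AddEquiv.map_eq_zero_iff e).1 h), fun n => ?_⟩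
  obtain ⟨b, hb⟩ := hm (e.symm n)
  obtain ⟨c, rfl⟩ := hθ b
  exact ⟨c, by rw [← he, ← hb, e.apply_symm_apply]⟩

lemma isCyc_quotient {A : Type*} [CommRing A] (I : Ideal A) (hI : I ≠ ⊤) : IsCyc A (A ⧸ I) := by
  refine ⟨1, fun h => hI ?_, fun x => ?_⟩
  · rw [Ideal.eq_top_iff_one]
    exact Ideal.Quotient.eq_zero_iff_mem.1 h
  · obtain ⟨c, rfl⟩ := Ideal.Quotient.mk_surjective x
    exact ⟨c, by rw [Algebra.smul_def, mul_one]; rfl⟩

section

variable {C : Type u} [Category.{v} C] [Abelian C] [HasDerivedCategory.{w} C]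

/-- an object with cohomology `N` concentrated in degree `n` is `N` placed in degree `n` -/
lemma nonempty_iso_single (X : DerivedCategory C) (n : ℤ) (N : C)
    (h : ∀ i : ℤ, i ≠ n → IsZero ((homologyFunctor C i).obj X))
    (hn : Nonempty ((homologyFunctor C n).obj X ≅ N)) :
    Nonempty (X ≅ (singleFunctor C n).obj N) := by
  haveI : X.IsGE n := (isGE_iff X n).2 (fun i hi => h i (ne_of_lt hi))
  haveI : X.IsLE n := (isLE_iff X n).2 (fun i hi => h i (ne_of_gt hi))
  obtain ⟨Y, ⟨e⟩⟩ := exists_iso_singleFunctor_obj_of_isGE_of_isLE X n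
  obtain ⟨e'⟩ := hn
  let e1 : Y ≅ N := ((singleFunctorCompHomologyFunctorIso C n).app Y).symm ≪≫
    (homologyFunctor C n).mapIso e.symm ≪≫ e'
  exact ⟨e ≪≫ (singleFunctor C n).mapIso e1⟩

end

end Groth.Agent.Lib.helper23.GorInv
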