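import Mathlib
import Groth.Prelude.Def_DRing4
import Groth.Agent.Lib.Helper23.RHomCx1

/-!
# Cohomology of the Hom complex `DRing.homCx K L`, linear version (helper23)

* `cycCx K L n`: the `n`-cocycles of `homCx K L` as a submodule of `Cochain K L n`;
* `ΨL K L n : cycCx K L n →ₗ[A] (Q K ⟶ Q (L⟦n⟧))`;
* `homologyEquivCx`: `H^n(Hom•(K, L)) ≃ₗ[A] Hom_{D(A)}(Q K, Q (L⟦n⟧))` for `K` K-projective or `L`
  K-injective;
* `isIso_ι₀`: the class of the identity cocycle, `Q L ⟶ Q (L⟦0⟧)`, is an isomorphism.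
-/

set_option autoImplicit false
universe u
open CategoryTheory CategoryTheory.Limits DerivedCategory
open CochainComplex.HomComplex

attribute [local instance] HasDerivedCategory.standard

namespace Groth.Agent.Lib.helper23.GorInv

open Groth.Agent.Lib.helper23.RHomCx

variable {A : Type u} [CommRing A]

section

variable (K L : DRing.Cx A) (n : ℤ)

/-- the `n`-cocycles of `Hom•(K, L)` -/
noncomputable abbrev cycCx : Submodule A (Cochain K L n) :=
  LinearMap.ker ((DRing.homCx K L).d n (n + 1)).hom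

variable {K L n}

/-- a cycle as a Mathlib cocycle -/
noncomputable def toCocycle (z : cycCx K L n) : Cocycle K L n :=
  mkCocycle z.1 (LinearMap.mem_ker.1 z.2)

@[simp] lemma toCocycle_coe (z : cycCx K L n) : (toCocycle z).1 = z.1 := rfl

lemma toCocycle_add (z z' : cycCx K L n) : toCocycle (z + z') = toCocycle z + toCocycle z' := by
  apply Subtype.ext
  rfl

lemma comp_ofHom_smul_id (z : Cochain K L n) (a : A) :
    z.comp (Cochain.ofHom (a • 𝟙 L)) (add_zero n) = a • z := by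
  ext p q hpq
  simp [Cochain.comp_zero_cochain_v, Cochain.ofHom_v, Cochain.smul_v]

lemma toCocycle_smul (a : A) (z : cycCx K L n) :
    toCocycle (a • z) = (toCocycle z).postcomp (a • 𝟙 L) := by
  apply Subtype.ext
  show a • z.1 = z.1.comp (Cochain.ofHom (a • 𝟙 L)) (add_zero n)
  rw [comp_ofHom_smul_id]

/-- every cocycle comes from a cycle -/
noncomputable def ofCocycle (z : Cocycle K L n) : cycCx K L n :=
  ⟨z.1, LinearMap.mem_ker.2 (homCx_d_cocycle z)⟩

lemma toCocycle_ofCocycle (z : Cocycle K L n) : toCocycle (ofCocycle z) = z := by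
  apply Subtype.ext
  rfl

variable (K L n)

/-- the class in `Hom_{D(A)}(K, L⟦n⟧)` of a cycle, as a linear map -/
noncomputable def ΨL : cycCx K L n →ₗ[A] (Q.obj K ⟶ Q.obj (L⟦n⟧)) where
  toFun z := Ψ K L n (toCocycle z)
  map_add' z z' := by rw [toCocycle_add, map_add]
  map_smul' a z := by
    rw [toCocycle_smul, Ψ_postcomp, Functor.map_smul, Functor.map_smul,
      CategoryTheory.Functor.map_id, CategoryTheory.Functor.map_id, Linear.comp_smul,
      Category.comp_id]
    rfl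

variable {K L n}

lemma ΨL_apply (z : cycCx K L n) : ΨL K L n z = Ψ K L n (toCocycle z) := rfl

lemma ΨL_surjective (hs : Function.Surjective (Ψ K L n)) : Function.Surjective (ΨL K L n) := by
  intro f
  obtain ⟨z, rfl⟩ := hs f
  exact ⟨ofCocycle z, by rw [ΨL_apply, toCocycle_ofCocycle]⟩

lemma ΨL_eq_zero_iff (hc : ∀ z : Cocycle K L n, Ψ K L n z = 0 →
      ∃ β : Cochain K L (n - 1), δ (n - 1) n β = z.1) (z : cycCx K L n) :
    ΨL K L n z = 0 ↔ ∃ β : Cochain K L (n - 1), δ (n - 1) n β = z.1 := by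
  constructor
  · intro h
    exact hc (toCocycle z) h
  · rintro ⟨β, hβ⟩
    exact Ψ_eq_zero_of_coboundary (toCocycle z) β hβ

lemma range_toCycles_eq_ker (hc : ∀ z : Cocycle K L n, Ψ K L n z = 0 →
      ∃ β : Cochain K L (n - 1), δ (n - 1) n β = z.1) :
    LinearMap.range ((DRing.homCx K L).sc' (n - 1) n (n + 1)).moduleCatToCycles =
      LinearMap.ker (show ↥(LinearMap.ker
        ((DRing.homCx K L).sc' (n - 1) n (n + 1)).g.hom) →ₗ[A] _ from ΨL K L n) := by
  ext φ
  constructor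
  · rintro ⟨g, hg⟩
    exact LinearMap.mem_ker.2 ((ΨL_eq_zero_iff hc φ).2 ⟨g, congrArg Subtype.val hg⟩)
  · intro h
    obtain ⟨g, hg⟩ := (ΨL_eq_zero_iff hc φ).1 (LinearMap.mem_ker.1 h)
    exact ⟨g, Subtype.ext hg⟩

variable (K L n)

/-- `H^n(Hom•(K, L)) ≃ₗ Hom_{D(A)}(Q K, Q (L⟦n⟧))`, abstract form. -/
noncomputable def homologyEquivCx (hs : Function.Surjective (Ψ K L n))
    (hc : ∀ z : Cocycle K L n, Ψ K L n z = 0 →
      ∃ β : Cochain K L (n - 1), δ (n - 1) n β = z.1) :
    (DRing.homCx K L).homology n ≃ₗ[A] (Q.obj K ⟶ Q.obj (L⟦n⟧)) :=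
  ((DRing.homCx K L).homologyIsoSc' (n - 1) n (n + 1) (by simp) (by simp)).toLinearEquiv ≪≫ₗ
    ((DRing.homCx K L).sc' (n - 1) n (n + 1)).moduleCatHomologyIso.toLinearEquiv ≪≫ₗ
    Submodule.quotEquivOfEq _ _ (range_toCycles_eq_ker hc) ≪≫ₗ
    LinearMap.quotKerEquivOfSurjective (ΨL K L n) (ΨL_surjective hs)

/-- `H^n(Hom•(K, I)) ≃ₗ Hom_{D(A)}(Q K, Q (I⟦n⟧))` for `I` K-injective. -/
noncomputable def homologyEquivCxOfKInjective [L.IsKInjective] :
    (DRing.homCx K L).homology n ≃ₗ[A] (Q.obj K ⟶ Q.obj (L⟦n⟧)) :=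
  homologyEquivCx K L n Ψ_surjective_of_isKInjective
    (fun z h => exists_coboundary_of_isKInjective z h)

/-- `H^n(Hom•(P, L)) ≃ₗ Hom_{D(A)}(Q P, Q (L⟦n⟧))` for `P` K-projective. -/
noncomputable def homologyEquivCxOfKProjective [K.IsKProjective] :
    (DRing.homCx K L).homology n ≃ₗ[A] (Q.obj K ⟶ Q.obj (L⟦n⟧)) :=
  homologyEquivCx K L n Ψ_surjective_of_isKProjective
    (fun z h => exists_coboundary_of_isKProjective z h)

end

section Iota

variable (L : DRing.Cx A)

/-- the morphism of complexes `L ⟶ L⟦0⟧` attached to the identity cocycle -/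
noncomputable def e₀ : L ⟶ L⟦(0 : ℤ)⟧ := Cocycle.equivHomShift.symm (Cocycle.ofHom (𝟙 L))

instance : IsIso (e₀ L) := by
  haveI : ∀ p : ℤ, IsIso ((e₀ L).f p) := by
    intro p
    have h : (e₀ L).f p = (L.shiftFunctorObjXIso 0 p p (by omega)).inv := by
      simp [e₀, Cocycle.equivHomShift_symm_apply, Cochain.rightShift_v _ 0 0 (zero_add 0) p p
        (add_zero p) p (by omega)]
    rw [h]
    infer_instance
  exact HomologicalComplex.Hom.isIso_of_components _

/-- the class of `Cocycle.ofHom g` -/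
lemma Ψ_ofHom {K : DRing.Cx A} (g : K ⟶ L) :
    Ψ K L 0 (Cocycle.ofHom g) = Q.map g ≫ Q.map (e₀ L) := by
  have h : Cocycle.ofHom g = (Cocycle.ofHom (𝟙 L)).precomp g := by
    apply Subtype.ext
    show Cochain.ofHom g = (Cochain.ofHom g).comp (Cochain.ofHom (𝟙 L)) (zero_add 0)
    rw [← Cochain.ofHom_comp, Category.comp_id]
  rw [h, Ψ_precomp]
  rfl

end Iota

end Groth.Agent.Lib.helper23.GorInv
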