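import Mathlib
import Groth.Prelude.Def_Wider
import Groth.Prelude.Def_DRing4
import Groth.Prelude.Def_DTen
import Groth.Agent.Lib.Helper23.GorInv0
import Groth.Agent.Lib.Helper23.GorInv1
import Groth.Agent.Lib.Helper23.TensHom3
import Groth.Agent.Lib.Helper23.DualD8
import Groth.Agent.Lib.Helper13.KFlat9

/-!
# `RHom(ω, κ)` for a dualizing complex `ω` over a Gorenstein local ring (helper23)

* `swapIso K L M : Hom•(K, Hom•(L, M)) ≅ Hom•(L, Hom•(K, M))`;
* `exists_residue_hom_data`: for a Noetherian local ring `B` such that `B[0]` is a dualizing complex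
  (i.e. `B` Gorenstein) and any dualizing complex `ω`, there is an object `Y ≅ κ[0]` and an integer `t₀`
  with `Hom(ω, Y⟦j⟧) = 0` for `j ≠ t₀` and `Hom(ω, Y⟦t₀⟧)` nonzero cyclic.
-/

set_option autoImplicit false
universe u
open CategoryTheory CategoryTheory.Limits DerivedCategory MonoidalCategory
open CochainComplex.HomComplex

attribute [local instance] HasDerivedCategory.standard

namespace Groth.Agent.Lib.helper23.GorInv

open Groth.Agent.Lib.helper23.RHomCx Groth.Agent.Lib.helper23.TensHom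
  Groth.Agent.Lib.helper13.KFlat Groth.Agent.Lib.helper23.DualD

variable {A : Type u} [CommRing A]

/-- the swap isomorphism `Hom•(K, Hom•(L, M)) ≅ Hom•(L, Hom•(K, M))` -/
noncomputable def swapIso (K L M : DRing.Cx A) :
    DRing.homCx K (DRing.homCx L M) ≅ DRing.homCx L (DRing.homCx K M) :=
  homHomIso K L M ≪≫ homCxIsoLeft (DTen.braidCx L K) M ≪≫ (homHomIso L K M).symm

/-- the linear equivalence on cohomology induced by an isomorphism of complexes -/
noncomputable def homologyLinearEquivOfIso {X Y : DRing.Cx A} (e : X ≅ Y) (n : ℤ) :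
    X.homology n ≃ₗ[A] Y.homology n :=
  ((HomologicalComplex.homologyFunctor (ModuleCat.{u} A) (ComplexShape.up ℤ) n).mapIso
    e).toLinearEquiv

/-- `Hom(X, Y) ≃ₗ Hom(X', Y')` -/
noncomputable abbrev hc {X X' Y Y' : Dual.D A} (eX : X ≅ X') (eY : Y ≅ Y') :
    (X ⟶ Y) ≃ₗ[A] (X' ⟶ Y') := Linear.homCongr A eX eY

/-- cohomology of `Q (Hom•(K, L))` -/
noncomputable def homologyQEquiv (X : DRing.Cx A) (n : ℤ) :
    ((homologyFunctor (ModuleCat.{u} A) n).obj (Q.obj X)) ≃ₗ[A] X.homology n :=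
  ((homologyFunctorFactors (ModuleCat.{u} A) n).app X).toLinearEquiv

lemma isZero_of_subsingleton_linearEquiv {M : ModuleCat.{u} A} {N : Type*} [AddCommGroup N]
    [Module A N] (e : M ≃ₗ[A] N) [Subsingleton N] : IsZero M := by
  haveI : Subsingleton M := e.toEquiv.subsingleton
  exact ModuleCat.isZero_of_subsingleton M

/-- a projective resolution of a module as a K-flat complex -/
lemma isKFlatR_cochainComplex {N : ModuleCat.{u} A} (R : ProjectiveResolution N) :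
    IsKFlatR R.cochainComplex := by
  refine isKFlatR_of_bounded_above R.cochainComplex 0 ?_ ?_
  · intro i hi
    exact CochainComplex.isZero_of_isStrictlyLE _ 0 _ hi
  · intro i
    have h0 : Projective (R.cochainComplex.X i) := inferInstance
    haveI : Module.Projective A (R.cochainComplex.X i) :=
      (IsProjective.iff_projective (R := A) (R.cochainComplex.X i)).2 h0
    infer_instance

section Main

variable (B : Type u) [CommRing B] [IsLocalRing B] [IsNoetherianRing B]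

theorem exists_residue_hom_data (ω : Dual.D B) (hω : Dual.IsDualizing B ω)
    (hB : Dual.IsDualizing B (Dual.inD B B)) :
    ∃ (Y : Dual.D B) (t₀ : ℤ),
      Nonempty (Y ≅ Dual.inD B (B ⧸ IsLocalRing.maximalIdeal B)) ∧
      (∀ j : ℤ, j ≠ t₀ → Subsingleton (ω ⟶ Y⟦j⟧)) ∧ IsCyc B (ω ⟶ Y⟦t₀⟧) := by
  let m := IsLocalRing.maximalIdeal B
  let κ : ModuleCat.{u} B := ModuleCat.of B (B ⧸ m)
  obtain ⟨M⟩ := exists_model ω hω
  haveI := M.isKInjective
  let I := M.I
  obtain ⟨e', hv', ⟨ε'⟩⟩ := ext_residue_single_degree ω hω m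
  obtain ⟨d, hvd, ⟨εd⟩⟩ := ext_residue_single_degree (Dual.inD B B) hB m
  let R : ProjectiveResolution κ := projectiveResolution κ
  let F : DRing.Cx B := R.cochainComplex
  haveI : F.IsKProjective := inferInstanceAs (R.cochainComplex.IsKProjective)
  have hF : IsKFlatR F := isKFlatR_cochainComplex R
  let J : DRing.Cx B := DRing.homCx F I
  haveI : J.IsKInjective := isKInjective_homCx F I hF
  -- `Q F ≅ κ[0]`
  haveI : IsIso (Q.map R.π') := by
    rw [isIso_Q_map_iff_quasiIso]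
    infer_instance
  let eF : Q.obj F ≅ Dual.inD B (B ⧸ m) :=
    asIso (Q.map R.π') ≪≫ ((singleFunctorIsoCompQ (ModuleCat.{u} B) 0).app κ).symm
  -- cohomology of `J`
  have hJ : ∀ n : ℤ, Nonempty (((homologyFunctor (ModuleCat.{u} B) n).obj (Q.obj J)) ≃ₗ[B]
      (Dual.inD B (B ⧸ m) ⟶ ω⟦n⟧)) := fun n =>
    ⟨homologyQEquiv J n ≪≫ₗ homologyEquivCxOfKInjective F I n ≪≫ₗ
      hc eF ((Q.commShiftIso n).app I ≪≫ (shiftFunctor (Dual.D B) n).mapIso M.e)⟩
  have hJ0 : ∀ n : ℤ, n ≠ e' → IsZero ((homologyFunctor (ModuleCat.{u} B) n).obj (Q.obj J)) := by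
    intro n hn
    obtain ⟨e⟩ := hJ n
    haveI := hv' n hn
    exact isZero_of_subsingleton_linearEquiv e
  obtain ⟨eJ⟩ : Nonempty (Q.obj J ≅ (singleFunctor (ModuleCat.{u} B) e').obj κ) := by
    obtain ⟨e⟩ := hJ e'
    exact nonempty_iso_single (Q.obj J) e' κ hJ0 ⟨(e ≪≫ₗ ε').toModuleIso⟩
  -- cohomology of `Hom•(I, I)`
  let E : DRing.Cx B := DRing.homCx I I
  have hE : ∀ n : ℤ, Nonempty (((homologyFunctor (ModuleCat.{u} B) n).obj (Q.obj E)) ≃ₗ[B]
      (ω ⟶ ω⟦n⟧)) := fun n =>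
    ⟨homologyQEquiv E n ≪≫ₗ homologyEquivCxOfKInjective I I n ≪≫ₗ
      hc M.e ((Q.commShiftIso n).app I ≪≫ (shiftFunctor (Dual.D B) n).mapIso M.e)⟩
  have hE0 : ∀ n : ℤ, n ≠ 0 → IsZero ((homologyFunctor (ModuleCat.{u} B) n).obj (Q.obj E)) := by
    intro n hn
    obtain ⟨e⟩ := hE n
    haveI := hω.ext_self_subsingleton n hn
    exact isZero_of_subsingleton_linearEquiv e
  let toEnd : B ≃ₗ[B] (ω ⟶ ω) := LinearEquiv.ofBijective
    { toFun := fun a => a • 𝟙 ω
      map_add' := fun a b => add_smul a b _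
      map_smul' := fun a b => by
        show (a • b) • 𝟙 ω = a • (b • 𝟙 ω)
        rw [smul_smul]
        rfl } hω.toEnd_bijective
  obtain ⟨eE⟩ : Nonempty (Q.obj E ≅ Dual.inD B B) := by
    obtain ⟨e⟩ := hE 0
    let e1 : (ω ⟶ ω⟦(0 : ℤ)⟧) ≃ₗ[B] (ω ⟶ ω) :=
      hc (Iso.refl ω) ((shiftFunctorZero (Dual.D B) ℤ).app ω)
    exact nonempty_iso_single (Q.obj E) 0 (ModuleCat.of B B) hE0
      ⟨(e ≪≫ₗ e1 ≪≫ₗ toEnd.symm).toModuleIso⟩
  -- the main chain of isomorphisms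
  have hchain : ∀ n : ℤ, Nonempty ((Q.obj I ⟶ Q.obj (J⟦n⟧)) ≃ₗ[B]
      (Dual.inD B (B ⧸ m) ⟶ (Dual.inD B B)⟦n⟧)) := fun n =>
    ⟨(homologyEquivCxOfKInjective I J n).symm ≪≫ₗ
      homologyLinearEquivOfIso (swapIso I F I) n ≪≫ₗ
      homologyEquivCxOfKProjective F E n ≪≫ₗ
      hc eF ((Q.commShiftIso n).app E ≪≫ (shiftFunctor (Dual.D B) n).mapIso eE)⟩
  -- the object `Y`
  let Y : Dual.D B := (Q.obj J)⟦e'⟧
  let eY : Y ≅ Dual.inD B (B ⧸ m) :=
    (shiftFunctor (Dual.D B) e').mapIso eJ ≪≫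
      ((singleFunctors (ModuleCat.{u} B)).shiftIso e' 0 e' (add_zero e')).app κ
  have hY : ∀ j : ℤ, Nonempty ((ω ⟶ Y⟦j⟧) ≃ₗ[B]
      (Dual.inD B (B ⧸ m) ⟶ (Dual.inD B B)⟦e' + j⟧)) := fun j => by
    obtain ⟨e⟩ := hchain (e' + j)
    exact ⟨hc M.e.symm ((shiftFunctorAdd' (Dual.D B) e' j (e' + j) rfl).symm.app (Q.obj J) ≪≫
      ((Q.commShiftIso (e' + j)).app J).symm) ≪≫ₗ e⟩
  refine ⟨Y, d - e', ⟨eY⟩, fun j hj => ?_, ?_⟩
  · obtain ⟨e⟩ := hY j
    haveI := hvd (e' + j) (by omega)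
    exact e.toEquiv.subsingleton
  · obtain ⟨e⟩ := hY (d - e')
    have h1 : e' + (d - e') = d := by omega
    have hcyc : IsCyc B (Dual.inD B (B ⧸ m) ⟶ (Dual.inD B B)⟦d⟧) :=
      (isCyc_quotient m (Ideal.IsMaximal.ne_top inferInstance)).of_linearEquiv εd.symm
    rw [← h1] at hcyc
    exact hcyc.of_linearEquiv e.symm

end Main

end Groth.Agent.Lib.helper23.GorInv
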