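import Mathlib
import Groth.Prelude.Def_DRing4
import Groth.Agent.Lib.Helper23.RHomCx1
import Groth.Agent.Lib.Helper23.CxBid2
import Groth.Agent.Lib.Helper23.GorInv2
import Groth.Agent.Lib.Helper23.FinHom3

/-!
# Complex biduality, part 3 (helper23): shifts and amplitude

* `B_shift_iff`: `B I (K⟦n⟧) ↔ B I K`;
* `isGE_D_of_isLE`, `isLE_D_of_isGE`, `isLE_DD_of_isLE`, `isGE_DD_of_isGE`: the duality functor
  `Hom•(-, I)` is way-out in both directions when `I` has finite injective amplitude.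
-/

set_option autoImplicit false
universe u
open CategoryTheory CategoryTheory.Limits DerivedCategory Pretriangulated
open CochainComplex.HomComplex
open scoped ZeroObject

attribute [local instance] HasDerivedCategory.standard

namespace Groth.Agent.Lib.helper23.CxBid

open Groth.Agent.Lib.helper23.RHomCx Groth.Agent.Lib.helper23.GorInv Groth.Agent.Lib.helper23.FinHom

variable {A : Type u} [CommRing A] (I : DRing.Cx A)

section Shift

variable [I.IsKInjective] [∀ j, Injective (I.X j)]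

lemma B_shift_one_iff (K : DRing.Cx A) : B I (K⟦(1 : ℤ)⟧) ↔ B I K := by
  let S := CochainComplex.mappingCone.triangleRotateShortComplex (𝟙 K)
  have hS : S.ShortExact := by
    apply HomologicalComplex.shortExact_of_degreewise_shortExact
    intro n
    exact (CochainComplex.mappingCone.triangleRotateShortComplexSplitting (𝟙 K) n).shortExact
  have h2 : B I S.X₂ := B_of_isZero_Q I _ (by
    have h := (HomotopyCategory.isZero_quotient_obj_iff _).2
      ⟨CochainComplex.mappingCone.homotopyToZeroOfId K⟩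
    exact Qh.map_isZero h)
  constructor
  · intro h
    exact B_of_ses₁ I S hS h2 h
  · intro h
    exact B_of_ses₃ I S hS h h2

lemma B_iff_of_iso {K K' : DRing.Cx A} (e : K ≅ K') : B I K ↔ B I K' :=
  B_iff_of_quasiIso I e.hom

lemma B_shift_iff (K : DRing.Cx A) (n : ℤ) : B I (K⟦n⟧) ↔ B I K := by
  induction n using Int.induction_on with
  | zero => exact B_iff_of_iso I ((shiftFunctorZero (DRing.Cx A) ℤ).app K)
  | succ i ih =>
    rw [B_iff_of_iso I ((shiftFunctorAdd' (DRing.Cx A) (i : ℤ) 1 (i + 1) rfl).app K)]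
    exact (B_shift_one_iff I _).trans ih
  | pred i ih =>
    rw [← ih, ← B_shift_one_iff I (K⟦(-(i : ℤ) - 1)⟧)]
    exact (B_iff_of_iso I ((shiftFunctorAdd' (DRing.Cx A) (-(i : ℤ) - 1) 1 (-(i : ℤ))
      (by omega)).app K)).symm

end Shift

section Amp

variable [I.IsKInjective]

/-- `H^j(Hom•(K, I)) ≃ Hom_{D(A)}(K, I[j])` -/
noncomputable def homologyDEquiv (K : DRing.Cx A) (j : ℤ) :
    ((homologyFunctor (ModuleCat.{u} A) j).obj (Q.obj (DRing.homCx K I))) ≃ₗ[A]
      (Q.obj K ⟶ (Q.obj I)⟦j⟧) :=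
  homologyQEquiv _ j ≪≫ₗ homologyEquivCxOfKInjective K I j ≪≫ₗ
    hc (Iso.refl _) ((Q.commShiftIso j).app I)

variable (a b : ℤ) (hI : DRing.HasInjAmplitudeIn A a b (Q.obj I))

include hI

lemma isGE_D_of_isLE (K : DRing.Cx A) (m : ℤ) [(Q.obj K).IsLE m] :
    (Q.obj (DRing.homCx K I)).IsGE (a - m) := by
  rw [isGE_iff]
  intro j hj
  haveI : ((Q.obj I)⟦j⟧).IsGE (a - j) := isGE_of_injAmp _ _ _ (injAmp_shift _ a b j hI)
  haveI : Subsingleton (Q.obj K ⟶ (Q.obj I)⟦j⟧) := ⟨fun f g => by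
    have hf : f = 0 := (TStructure.t (C := ModuleCat.{u} A)).zero f m (a - j) (by omega)
    have hg : g = 0 := (TStructure.t (C := ModuleCat.{u} A)).zero g m (a - j) (by omega)
    rw [hf, hg]⟩
  exact isZero_of_subsingleton_linearEquiv (homologyDEquiv I K j)

lemma isLE_D_of_isGE (K : DRing.Cx A) (m : ℤ) [(Q.obj K).IsGE m] :
    (Q.obj (DRing.homCx K I)).IsLE (b - m) := by
  rw [isLE_iff]
  intro j hj
  haveI : Subsingleton (Q.obj K ⟶ (Q.obj I)⟦j⟧) := ⟨fun f g => by
    rw [hom_eq_zero_of_isGE_of_injAmp _ _ (a - j) (b - j) m (injAmp_shift _ a b j hI) (by omega) f,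
      hom_eq_zero_of_isGE_of_injAmp _ _ (a - j) (b - j) m (injAmp_shift _ a b j hI) (by omega) g]⟩
  exact isZero_of_subsingleton_linearEquiv (homologyDEquiv I K j)

lemma isLE_DD_of_isLE (K : DRing.Cx A) (m : ℤ) [(Q.obj K).IsLE m] :
    (Q.obj (DDc I K)).IsLE (b - a + m) := by
  haveI := isGE_D_of_isLE I a b hI K m
  have := isLE_D_of_isGE I a b hI (DRing.homCx K I) (a - m)
  have h : b - (a - m) = b - a + m := by omega
  rwa [h] at this

lemma isGE_DD_of_isGE (K : DRing.Cx A) (m : ℤ) [(Q.obj K).IsGE m] :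
    (Q.obj (DDc I K)).IsGE (a - b + m) := by
  haveI := isLE_D_of_isGE I a b hI K m
  have := isGE_D_of_isLE I a b hI (DRing.homCx K I) (b - m)
  have h : a - (b - m) = a - b + m := by omega
  rwa [h] at this

end Amp

end Groth.Agent.Lib.helper23.CxBid
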