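import Mathlib
import Groth.Prelude.Def_DRing4
import Groth.Agent.Lib.Helper23.CxBid3

/-!
# Complex biduality, part 4 (helper23): canonical truncations and the dévissage
-/

set_option autoImplicit false
universe u
open CategoryTheory CategoryTheory.Limits DerivedCategory Pretriangulated
open CochainComplex.HomComplex
open scoped ZeroObject

attribute [local instance] HasDerivedCategory.standard

namespace Groth.Agent.Lib.helper23.CxBid

open Groth.Agent.Lib.helper23.RHomCx Groth.Agent.Lib.helper23.GorInv Groth.Agent.Lib.helper23.FinHom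

variable {A : Type u} [CommRing A]

/-- `H^j(Q K)` -/
noncomputable abbrev Hn (K : DRing.Cx A) (j : ℤ) : ModuleCat.{u} A :=
  (homologyFunctor (ModuleCat.{u} A) j).obj (Q.obj K)

/-- `H^j(Q f)` -/
noncomputable abbrev HnMap {K L : DRing.Cx A} (f : K ⟶ L) (j : ℤ) : Hn K j ⟶ Hn L j :=
  (homologyFunctor (ModuleCat.{u} A) j).map (Q.map f)

lemma isIso_HnMap_of_quasiIsoAt {K L : DRing.Cx A} (f : K ⟶ L) (j : ℤ) [QuasiIsoAt f j] :
    IsIso (HnMap f j) := by
  have nat := (homologyFunctorFactors (ModuleCat.{u} A) j).hom.naturality f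
  haveI : IsIso ((HomologicalComplex.homologyFunctor (ModuleCat.{u} A) (ComplexShape.up ℤ) j).map f) :=
    (quasiIsoAt_iff_isIso_homologyMap f j).1 inferInstance
  haveI : IsIso ((Q ⋙ homologyFunctor (ModuleCat.{u} A) j).map f ≫
      (homologyFunctorFactors (ModuleCat.{u} A) j).hom.app L) := by
    rw [nat]; infer_instance
  exact IsIso.of_isIso_comp_right ((Q ⋙ homologyFunctor (ModuleCat.{u} A) j).map f)
    ((homologyFunctorFactors (ModuleCat.{u} A) j).hom.app L)

section Tri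

lemma isIso_homology_mor₁ (T : Triangle (Dual.D A)) (hT : T ∈ distTriang _) (p : ℤ)
    (h1 : IsZero ((homologyFunctor (ModuleCat.{u} A) (p - 1)).obj T.obj₃))
    (h2 : IsZero ((homologyFunctor (ModuleCat.{u} A) p).obj T.obj₃)) :
    IsIso ((homologyFunctor (ModuleCat.{u} A) p).map T.mor₁) := by
  haveI : Mono ((homologyFunctor (ModuleCat.{u} A) p).map T.mor₁) :=
    (DerivedCategory.HomologySequence.mono_homologyMap_mor₁_iff _ hT (p - 1) p (by simp)).2
      (h1.eq_of_src _ _)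
  haveI : Epi ((homologyFunctor (ModuleCat.{u} A) p).map T.mor₁) :=
    (DerivedCategory.HomologySequence.epi_homologyMap_mor₁_iff _ hT p).2 (h2.eq_of_tgt _ _)
  exact isIso_of_mono_of_epi _

lemma isIso_homology_mor₂ (T : Triangle (Dual.D A)) (hT : T ∈ distTriang _) (p : ℤ)
    (h1 : IsZero ((homologyFunctor (ModuleCat.{u} A) p).obj T.obj₁))
    (h2 : IsZero ((homologyFunctor (ModuleCat.{u} A) (p + 1)).obj T.obj₁)) :
    IsIso ((homologyFunctor (ModuleCat.{u} A) p).map T.mor₂) := by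
  haveI : Mono ((homologyFunctor (ModuleCat.{u} A) p).map T.mor₂) :=
    (DerivedCategory.HomologySequence.mono_homologyMap_mor₂_iff _ hT p).2 (h1.eq_of_src _ _)
  haveI : Epi ((homologyFunctor (ModuleCat.{u} A) p).map T.mor₂) :=
    (DerivedCategory.HomologySequence.epi_homologyMap_mor₂_iff _ hT p (p + 1) rfl).2
      (h2.eq_of_tgt _ _)
  exact isIso_of_mono_of_epi _

end Tri

section Trunc

variable (K : DRing.Cx A) (n : ℤ)

lemma isIso_HnMap_truncLE_f (j : ℤ) (hj : j ≤ n) :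
    IsIso (HnMap (K.shortComplexTruncLE n).f j) := by
  haveI : QuasiIsoAt (K.ιTruncLE n) j := K.quasiIsoAt_ιTruncLE n j hj
  exact isIso_HnMap_of_quasiIsoAt (K.ιTruncLE n) j

instance isLE_truncLE_X₁ : (Q.obj (K.shortComplexTruncLE n).X₁).IsLE n :=
  inferInstanceAs ((Q.obj (K.truncLE n)).IsLE n)

lemma isGE_truncLE_X₃ : (Q.obj (K.shortComplexTruncLE n).X₃).IsGE (n + 1) := by
  haveI : IsIso (Q.map (K.shortComplexTruncLEX₃ToTruncGE n (n + 1) rfl)) := by
    rw [isIso_Q_map_iff_quasiIso]; infer_instance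
  exact TStructure.t.isGE_of_iso (asIso (Q.map (K.shortComplexTruncLEX₃ToTruncGE n (n + 1) rfl))).symm _

lemma isIso_HnMap_truncLE_g (j : ℤ) (hj : n + 1 ≤ j) :
    IsIso (HnMap (K.shortComplexTruncLE n).g j) := by
  haveI : IsIso (Q.map (K.shortComplexTruncLEX₃ToTruncGE n (n + 1) rfl)) := by
    rw [isIso_Q_map_iff_quasiIso]; infer_instance
  haveI : QuasiIsoAt (K.πTruncGE (n + 1)) j := K.quasiIsoAt_πTruncGE (n + 1) j hj
  have hπ := isIso_HnMap_of_quasiIsoAt (K.πTruncGE (n + 1)) j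
  have h : HnMap (K.shortComplexTruncLE n).g j ≫ HnMap (K.shortComplexTruncLEX₃ToTruncGE n (n + 1) rfl) j =
      HnMap (K.πTruncGE (n + 1)) j := by
    dsimp only [HnMap]
    rw [← Functor.map_comp, ← Functor.map_comp, K.g_shortComplexTruncLEX₃ToTruncGE n (n + 1) rfl]
    rfl
  haveI : IsIso (HnMap (K.shortComplexTruncLEX₃ToTruncGE n (n + 1) rfl) j) := by
    dsimp only [HnMap]; infer_instance
  haveI : IsIso (HnMap (K.shortComplexTruncLE n).g j ≫
      HnMap (K.shortComplexTruncLEX₃ToTruncGE n (n + 1) rfl) j) := by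
    rw [h]; exact hπ
  exact IsIso.of_isIso_comp_right (HnMap (K.shortComplexTruncLE n).g j)
    (HnMap (K.shortComplexTruncLEX₃ToTruncGE n (n + 1) rfl) j)

end Trunc

section Trunc2

variable (K : DRing.Cx A) (n : ℤ)

lemma isGE_truncLE_X₁ (m : ℤ) [(Q.obj K).IsGE m] : (Q.obj (K.shortComplexTruncLE n).X₁).IsGE m := by
  rw [isGE_iff]
  intro j hj
  by_cases hjn : j ≤ n
  · have i := isIso_HnMap_truncLE_f K n j hjn
    exact (isZero_of_isGE (Q.obj K) m j hj).of_iso (@asIso _ _ _ _ _ i)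
  · exact isZero_of_isLE (Q.obj (K.shortComplexTruncLE n).X₁) n j (by omega)

lemma finite_truncLE_X₁ (hK : ∀ j, Module.Finite A (Hn K j)) (j : ℤ) :
    Module.Finite A (Hn (K.shortComplexTruncLE n).X₁ j) := by
  by_cases hjn : j ≤ n
  · have i := isIso_HnMap_truncLE_f K n j hjn
    exact @finite_of_isIso' _ _ _ _ (HnMap (K.shortComplexTruncLE n).f j) i (hK j)
  · exact finite_of_isZero (isZero_of_isLE (Q.obj (K.shortComplexTruncLE n).X₁) n j (by omega))

lemma isLE_truncLE_X₃ (m : ℤ) [(Q.obj K).IsLE m] : (Q.obj (K.shortComplexTruncLE n).X₃).IsLE m := by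
  rw [isLE_iff]
  intro j hj
  haveI := isGE_truncLE_X₃ K n
  by_cases hjn : n + 1 ≤ j
  · have i := isIso_HnMap_truncLE_g K n j hjn
    exact (isZero_of_isLE (Q.obj K) m j hj).of_iso (@asIso _ _ _ _ _ i).symm
  · exact isZero_of_isGE (Q.obj (K.shortComplexTruncLE n).X₃) (n + 1) j (by omega)

lemma finite_truncLE_X₃ (hK : ∀ j, Module.Finite A (Hn K j)) (j : ℤ) :
    Module.Finite A (Hn (K.shortComplexTruncLE n).X₃ j) := by
  haveI := isGE_truncLE_X₃ K n
  by_cases hjn : n + 1 ≤ j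
  · have i := isIso_HnMap_truncLE_g K n j hjn
    exact @finite_of_isIso _ _ _ _ (HnMap (K.shortComplexTruncLE n).g j) i (hK j)
  · exact finite_of_isZero (isZero_of_isGE (Q.obj (K.shortComplexTruncLE n).X₃) (n + 1) j (by omega))

end Trunc2

section Red

variable (I : DRing.Cx A) [∀ j, Injective (I.X j)]

lemma isIso_HnMap_ev_X₂_of_X₁ (S : ShortComplex (DRing.Cx A)) (hS : S.ShortExact) (p : ℤ)
    (h1 : IsZero (Hn S.X₃ (p - 1))) (h2 : IsZero (Hn S.X₃ p))
    (h3 : IsZero (Hn (DDc I S.X₃) (p - 1))) (h4 : IsZero (Hn (DDc I S.X₃) p))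
    (h : IsIso (HnMap (ev I S.X₁) p)) : IsIso (HnMap (ev I S.X₂) p) := by
  have hDD := DS_shortExact I _ (DS_shortExact I S hS)
  have i1 : IsIso (HnMap S.f p) :=
    isIso_homology_mor₁ (triangleOfSES hS) (triangleOfSES_distinguished hS) p h1 h2
  have i2 : IsIso (HnMap (DDmap I S.f) p) :=
    isIso_homology_mor₁ (triangleOfSES hDD) (triangleOfSES_distinguished hDD) p h3 h4
  have hcomm : HnMap S.f p ≫ HnMap (ev I S.X₂) p = HnMap (ev I S.X₁) p ≫ HnMap (DDmap I S.f) p := by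
    dsimp only [HnMap]
    rw [← Functor.map_comp, ← Functor.map_comp, ← Functor.map_comp, ← Functor.map_comp,
      ev_naturality]
  haveI : IsIso (HnMap S.f p ≫ HnMap (ev I S.X₂) p) := by
    rw [hcomm]; infer_instance
  exact IsIso.of_isIso_comp_left (HnMap S.f p) (HnMap (ev I S.X₂) p)

lemma isIso_HnMap_ev_X₂_of_X₃ (S : ShortComplex (DRing.Cx A)) (hS : S.ShortExact) (p : ℤ)
    (h1 : IsZero (Hn S.X₁ p)) (h2 : IsZero (Hn S.X₁ (p + 1)))
    (h3 : IsZero (Hn (DDc I S.X₁) p)) (h4 : IsZero (Hn (DDc I S.X₁) (p + 1)))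
    (h : IsIso (HnMap (ev I S.X₃) p)) : IsIso (HnMap (ev I S.X₂) p) := by
  have hDD := DS_shortExact I _ (DS_shortExact I S hS)
  have i1 : IsIso (HnMap S.g p) :=
    isIso_homology_mor₂ (triangleOfSES hS) (triangleOfSES_distinguished hS) p h1 h2
  have i2 : IsIso (HnMap (DDmap I S.g) p) :=
    isIso_homology_mor₂ (triangleOfSES hDD) (triangleOfSES_distinguished hDD) p h3 h4
  have hcomm : HnMap (ev I S.X₂) p ≫ HnMap (DDmap I S.g) p = HnMap S.g p ≫ HnMap (ev I S.X₃) p := by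
    dsimp only [HnMap]
    rw [← Functor.map_comp, ← Functor.map_comp, ← Functor.map_comp, ← Functor.map_comp,
      ev_naturality]
  haveI : IsIso (HnMap (ev I S.X₂) p ≫ HnMap (DDmap I S.g) p) := by
    rw [hcomm]; infer_instance
  exact IsIso.of_isIso_comp_right (HnMap (ev I S.X₂) p) (HnMap (DDmap I S.g) p)

end Red

end Groth.Agent.Lib.helper23.CxBid
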