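import Mathlib
import Groth.Prelude.Def_DRing4
import Groth.Agent.Lib.Helper23.CxBid4

/-!
# Complex biduality, part 5 (helper23): the dévissage theorem

If `B I K` holds for all complexes with a single finite cohomology module, then it holds for all
complexes with finite cohomology modules (`I` K-injective with injective terms and finite injective
amplitude).
-/

set_option autoImplicit false
universe u
open CategoryTheory CategoryTheory.Limits DerivedCategory Pretriangulated
open CochainComplex.HomComplex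
open scoped ZeroObject

attribute [local instance] HasDerivedCategory.standard

namespace Groth.Agent.Lib.helper23.CxBid

open Groth.Agent.Lib.helper23.RHomCx Groth.Agent.Lib.helper23.GorInv Groth.Agent.Lib.helper23.FinHom

variable {A : Type u} [CommRing A] (I : DRing.Cx A) [∀ j, Injective (I.X j)] [I.IsKInjective]

variable (hbase : ∀ (K : DRing.Cx A) (n : ℤ), (Q.obj K).IsGE n → (Q.obj K).IsLE n →
  Module.Finite A (Hn K n) → B I K)

include hbase

theorem B_of_bounded : ∀ (d : ℕ) (K : DRing.Cx A) (m : ℤ), (Q.obj K).IsGE m →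
    (Q.obj K).IsLE (m + d) → (∀ j, Module.Finite A (Hn K j)) → B I K
  | 0, K, m, h1, h2, hf => hbase K m h1 (by simpa using h2) (hf m)
  | d + 1, K, m, h1, h2, hf => by
    let S := K.shortComplexTruncLE (m + d)
    have hS := K.shortComplexTruncLE_shortExact (m + d)
    have B1 : B I S.X₁ := B_of_bounded d S.X₁ m (isGE_truncLE_X₁ K (m + d) m)
      (isLE_truncLE_X₁ K (m + d)) (finite_truncLE_X₁ K (m + d) hf)
    haveI : (Q.obj K).IsLE (m + d + 1) := by
      have : m + ((d + 1 : ℕ) : ℤ) = m + d + 1 := by push_cast; ring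
      rwa [this] at h2
    have B3 : B I S.X₃ := hbase S.X₃ (m + d + 1) (isGE_truncLE_X₃ K (m + d))
      (isLE_truncLE_X₃ K (m + d) (m + d + 1)) (finite_truncLE_X₃ K (m + d) hf _)
    exact B_of_ses₂ I S hS B1 B3

variable (a b : ℤ) (hI : DRing.HasInjAmplitudeIn A a b (Q.obj I))

include hI

theorem B_of_isLE (K : DRing.Cx A) (n : ℤ) [(Q.obj K).IsLE n]
    (hf : ∀ j, Module.Finite A (Hn K j)) : B I K := by
  show IsIso (Q.map (ev I K))
  rw [DerivedCategory.isIso_iff]
  intro p
  obtain ⟨m, hm1, hm2⟩ : ∃ m : ℤ, m < p ∧ b - a + m < p := ⟨p - 1 - |b - a|, by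
    have := abs_nonneg (b - a); omega, by
    have := le_abs_self (b - a); omega⟩
  let S := K.shortComplexTruncLE m
  have hS := K.shortComplexTruncLE_shortExact m
  haveI := isLE_DD_of_isLE I a b hI S.X₁ m
  haveI := isGE_truncLE_X₃ K m
  haveI := isLE_truncLE_X₃ K m n
  have B3 : B I S.X₃ := by
    refine B_of_bounded I hbase (n - (m + 1)).toNat S.X₃ (m + 1) inferInstance ?_
      (finite_truncLE_X₃ K m hf)
    exact TStructure.t.isLE_of_le _ n _ (by
      have := Int.self_le_toNat (n - (m + 1)); omega)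
  exact isIso_HnMap_ev_X₂_of_X₃ I S hS p
    (isZero_of_isLE (Q.obj S.X₁) m p hm1) (isZero_of_isLE (Q.obj S.X₁) m (p + 1) (by omega))
    (isZero_of_isLE (Q.obj (DDc I S.X₁)) (b - a + m) p hm2)
    (isZero_of_isLE (Q.obj (DDc I S.X₁)) (b - a + m) (p + 1) (by omega))
    (by
      haveI : IsIso (Q.map (ev I S.X₃)) := B3
      dsimp only [HnMap]; infer_instance)

theorem B_of_finite (K : DRing.Cx A) (hf : ∀ j, Module.Finite A (Hn K j)) : B I K := by
  show IsIso (Q.map (ev I K))
  rw [DerivedCategory.isIso_iff]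
  intro p
  obtain ⟨n, hn1, hn2⟩ : ∃ n : ℤ, p < n + 1 ∧ p < a - b + (n + 1) := ⟨p + |a - b|, by
    have := abs_nonneg (a - b); omega, by
    have := neg_abs_le (a - b); omega⟩
  let S := K.shortComplexTruncLE n
  have hS := K.shortComplexTruncLE_shortExact n
  haveI := isGE_truncLE_X₃ K n
  haveI := isGE_DD_of_isGE I a b hI S.X₃ (n + 1)
  have B1 : B I S.X₁ := B_of_isLE I hbase a b hI S.X₁ n (finite_truncLE_X₁ K n hf)
  exact isIso_HnMap_ev_X₂_of_X₁ I S hS p
    (isZero_of_isGE (Q.obj S.X₃) (n + 1) (p - 1) (by omega))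
    (isZero_of_isGE (Q.obj S.X₃) (n + 1) p hn1)
    (isZero_of_isGE (Q.obj (DDc I S.X₃)) (a - b + (n + 1)) (p - 1) (by omega))
    (isZero_of_isGE (Q.obj (DDc I S.X₃)) (a - b + (n + 1)) p hn2)
    (by
      haveI : IsIso (Q.map (ev I S.X₁)) := B1
      dsimp only [HnMap]; infer_instance)

end Groth.Agent.Lib.helper23.CxBid
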