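import Mathlib
import Groth.Prelude.Def_DRing4
import Groth.Agent.Lib.Helper23.CxBid5
import Groth.Agent.Lib.Helper23.DualD6

/-!
# Complex biduality, part 6 (helper23): the base case (a finite module in degree `0`)
-/

set_option autoImplicit false
universe u
open CategoryTheory CategoryTheory.Limits DerivedCategory Pretriangulated Opposite
open CochainComplex.HomComplex
open scoped ZeroObject

attribute [local instance] HasDerivedCategory.standard

namespace Groth.Agent.Lib.helper23.CxBid

open Groth.Agent.Lib.helper23.RHomCx Groth.Agent.Lib.helper23.GorInv Groth.Agent.Lib.helper23.FinHom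
  Groth.Agent.Lib.helper23.DualD

variable {A : Type u} [CommRing A] (I : DRing.Cx A)

/-- the module `N` in degree `0` -/
noncomputable abbrev S₀ (N : ModuleCat.{u} A) : DRing.Cx A :=
  (CochainComplex.singleFunctor (ModuleCat.{u} A) 0).obj N

lemma fromSingleMk_smul {N : ModuleCat.{u} A} {p q n : ℤ} (a : A) (φ : N ⟶ I.X q) (h : p + n = q) :
    Cochain.fromSingleMk (a • φ) h =
      a • (Cochain.fromSingleMk φ h : Cochain ((CochainComplex.singleFunctor (ModuleCat.{u} A) p).obj N) I n) := by
  apply (Cochain.fromSingleEquiv h).injective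
  simp only [Cochain.fromSingleEquiv, AddEquiv.coe_mk, Equiv.coe_fn_mk, Cochain.fromSingleMk_v,
    Cochain.smul_v, Iso.inv_hom_id_assoc]
  erw [Linear.comp_smul, Iso.inv_hom_id_assoc]

/-- `Hom_A(N, I) ⟶ Hom•(N[0], I)` -/
noncomputable def θ (N : ModuleCat.{u} A) :
    (DualD.homCx I).obj (op N) ⟶ DRing.homCx (S₀ N) I where
  f j := ModuleCat.ofHom
    { toFun := fun (φ : N ⟶ I.X j) => (Cochain.fromSingleMk φ (zero_add j) : Cochain (S₀ N) I j)
      map_add' := fun φ φ' => Cochain.fromSingleMk_add φ φ' (zero_add j)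
      map_smul' := fun a φ => fromSingleMk_smul I a φ (zero_add j) }
  comm' i j hij := by
    ext (φ : N ⟶ I.X i)
    show δ i j (Cochain.fromSingleMk φ (zero_add i)) = Cochain.fromSingleMk (φ ≫ I.d i j) (zero_add j)
    exact Cochain.δ_fromSingleMk φ (zero_add i) j j (zero_add j)

lemma θ_f_apply (N : ModuleCat.{u} A) (j : ℤ) (φ : N ⟶ I.X j) :
    ((θ I N).f j).hom φ = (Cochain.fromSingleMk φ (zero_add j) : Cochain (S₀ N) I j) := rfl

instance (N : ModuleCat.{u} A) : IsIso (θ I N) := by
  haveI : ∀ j, IsIso ((θ I N).f j) := by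
    intro j
    rw [ConcreteCategory.isIso_iff_bijective]
    constructor
    · intro (φ : N ⟶ I.X j) (φ' : N ⟶ I.X j) h
      have h' : (Cochain.fromSingleMk φ (zero_add j) : Cochain (S₀ N) I j) =
        Cochain.fromSingleMk φ' (zero_add j) := h
      have := congrArg (Cochain.fromSingleEquiv (zero_add j)) h'
      rw [Cochain.fromSingleEquiv_fromSingleMk, Cochain.fromSingleEquiv_fromSingleMk] at this
      exact this
    · intro (α : Cochain (S₀ N) I j)
      obtain ⟨f, hf⟩ := Cochain.fromSingleMk_surjective α j (zero_add j)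
      exact ⟨f, hf⟩
  exact HomologicalComplex.Hom.isIso_of_components _

end Groth.Agent.Lib.helper23.CxBid
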