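import Mathlib
import Groth.Prelude.Def_DRing4
import Groth.Agent.Lib.Helper23.CxBid6

/-!
# helper23: morphisms `N[0] ⟶ (Q L)⟦q⟧` in `D(A)` as cycles `N ⟶ L^q` modulo boundaries

For a module `N`, a complex `L` and `q : ℤ`:
* `ZN N L q`: the submodule of `N ⟶ L.X q` of maps killed by the differential;
* `clD N L q : ZN N L q →ₗ[A] (N[0] ⟶ (Q L)⟦q⟧)`; natural in `N` (`clD_precomp`), surjective and with
  kernel the boundaries when `L` is K-injective (`clD_surjective`, `clD_eq_zero_iff`).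
-/

set_option autoImplicit false
universe u
open CategoryTheory CategoryTheory.Limits DerivedCategory Pretriangulated Opposite
open CochainComplex.HomComplex

attribute [local instance] HasDerivedCategory.standard

namespace Groth.Agent.Lib.helper23.LDual

open Groth.Agent.Lib.helper23.RHomCx Groth.Agent.Lib.helper23.GorInv Groth.Agent.Lib.helper23.DualD
  Groth.Agent.Lib.helper23.CxBid

variable {A : Type u} [CommRing A] (N : ModuleCat.{u} A) (L : DRing.Cx A) (q : ℤ)

/-- maps `N ⟶ L^q` killed by the differential. -/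
noncomputable abbrev ZN : Submodule A (((DualD.homCx L).obj (op N)).X q) :=
  LinearMap.ker (((DualD.homCx L).obj (op N)).d q (q + 1)).hom

variable {N L q}

lemma mem_ZN_iff (z : N ⟶ L.X q) :
    (show (((DualD.homCx L).obj (op N)).X q : ModuleCat.{u} A) from z) ∈ ZN N L q ↔
      z ≫ L.d q (q + 1) = 0 := by
  rw [LinearMap.mem_ker]; rfl

variable (N L q)

/-- `ZN → cycCx`. -/
noncomputable def toCyc : ZN N L q →ₗ[A] cycCx (CxBid.S₀ N) L q where
  toFun z := ⟨((θ L N).f q).hom z.1, by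
    show ((DRing.homCx (CxBid.S₀ N) L).d q (q + 1)).hom (((θ L N).f q).hom z.1) = 0
    have hz : (((DualD.homCx L).obj (op N)).d q (q + 1)).hom z.1 = 0 := LinearMap.mem_ker.1 z.2
    have h1 := congrArg (fun t => t.hom z.1) ((θ L N).comm q (q + 1))
    simp only [ModuleCat.hom_comp, LinearMap.comp_apply] at h1
    rw [h1, hz, map_zero]⟩
  map_add' z z' := by
    apply Subtype.ext
    exact map_add ((θ L N).f q).hom z.1 z'.1
  map_smul' a z := by
    apply Subtype.ext
    exact map_smul ((θ L N).f q).hom a z.1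

lemma toCyc_coe (z : ZN N L q) :
    (toCyc N L q z).1 = (Cochain.fromSingleMk z.1 (zero_add q) : Cochain (CxBid.S₀ N) L q) := rfl

/-- the class of a cycle in `Hom(Q N[0], Q (L⟦q⟧))`. -/
noncomputable def clL : ZN N L q →ₗ[A] (Q.obj (CxBid.S₀ N) ⟶ Q.obj (L⟦q⟧)) :=
  ΨL (CxBid.S₀ N) L q ∘ₗ toCyc N L q

lemma clL_apply (z : ZN N L q) : clL N L q z = Ψ (CxBid.S₀ N) L q (toCocycle (toCyc N L q z)) := rfl

variable {N L q}

lemma clL_precomp {N' : ModuleCat.{u} A} (g : N' ⟶ N) (z : ZN N L q) (z' : ZN N' L q)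
    (h : z'.1 = g ≫ (show N ⟶ L.X q from z.1)) :
    clL N' L q z' = Q.map ((CochainComplex.singleFunctor (ModuleCat.{u} A) 0).map g) ≫
      clL N L q z := by
  rw [clL_apply, clL_apply, ← Ψ_precomp]
  congr 1
  apply Subtype.ext
  show (Cochain.fromSingleMk (show N' ⟶ L.X q from z'.1) (zero_add q) :
    Cochain (CxBid.S₀ N') L q) = _
  rw [h, Cochain.fromSingleMk_precomp]
  rfl

lemma clL_surjective [L.IsKInjective] : Function.Surjective (clL N L q) := by
  intro φ
  obtain ⟨c, rfl⟩ := Ψ_surjective_of_isKInjective (K := CxBid.S₀ N) (L := L) (n := q) φ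
  obtain ⟨f, hf, rfl⟩ := Cocycle.fromSingleMk_surjective c q (zero_add q) (q + 1) rfl
  refine ⟨⟨f, (mem_ZN_iff f).2 hf⟩, ?_⟩
  rw [clL_apply]
  congr 1

lemma clL_eq_zero_iff [L.IsKInjective] (z : ZN N L q) :
    clL N L q z = 0 ↔ ∃ y : N ⟶ L.X (q - 1), y ≫ L.d (q - 1) q = (show N ⟶ L.X q from z.1) := by
  have hz : (show N ⟶ L.X q from z.1) ≫ L.d q (q + 1) = 0 := (mem_ZN_iff _).1 z.2
  have hc : toCocycle (toCyc N L q z) =
      Cocycle.fromSingleMk (show N ⟶ L.X q from z.1) (zero_add q) (q + 1) rfl hz := by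
    apply Subtype.ext
    rfl
  rw [clL_apply, hc]
  constructor
  · intro h0
    obtain ⟨β, hβ⟩ := exists_coboundary_of_isKInjective _ h0
    have hmem : Cocycle.fromSingleMk (show N ⟶ L.X q from z.1) (zero_add q) (q + 1) rfl hz ∈
        coboundaries _ _ _ := by
      rw [mem_coboundaries_iff _ (q - 1) (by simp)]
      exact ⟨β, hβ⟩
    exact (Cocycle.fromSingleMk_mem_coboundaries_iff _ _ _ _ hz (q - 1) (by omega)).1 hmem
  · intro hy
    have hmem := (Cocycle.fromSingleMk_mem_coboundaries_iff (show N ⟶ L.X q from z.1)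
      (zero_add q) (q + 1) rfl hz (q - 1) (by omega)).2 hy
    rw [mem_coboundaries_iff _ (q - 1) (by simp)] at hmem
    obtain ⟨β, hβ⟩ := hmem
    exact Ψ_eq_zero_of_coboundary _ β hβ

variable (N L q)

/-- the class of a cycle in `Hom(N[0], (Q L)⟦q⟧)`. -/
noncomputable def clD : ZN N L q →ₗ[A]
    ((DerivedCategory.singleFunctor (ModuleCat.{u} A) 0).obj N ⟶ (Q.obj L)⟦q⟧) :=
  (Linear.homCongr A ((singleFunctorIsoCompQ (ModuleCat.{u} A) 0).app N).symm
    ((Q.commShiftIso q).app L)).toLinearMap ∘ₗ clL N L q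

lemma clD_apply (z : ZN N L q) :
    clD N L q z = ((singleFunctorIsoCompQ (ModuleCat.{u} A) 0).hom.app N ≫ clL N L q z) ≫
      (Q.commShiftIso q).hom.app L := rfl

variable {N L q}

lemma clD_precomp {N' : ModuleCat.{u} A} (g : N' ⟶ N) (z : ZN N L q) (z' : ZN N' L q)
    (h : z'.1 = g ≫ (show N ⟶ L.X q from z.1)) :
    clD N' L q z' = (DerivedCategory.singleFunctor (ModuleCat.{u} A) 0).map g ≫ clD N L q z := by
  rw [clD_apply, clD_apply, clL_precomp g z z' h]
  have hnat := (singleFunctorIsoCompQ (ModuleCat.{u} A) 0).hom.naturality g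
  simp only [Functor.comp_map] at hnat
  simp only [Category.assoc]
  rw [← reassoc_of% hnat]

lemma clD_surjective [L.IsKInjective] : Function.Surjective (clD N L q) := by
  intro φ
  obtain ⟨z, hz⟩ := clL_surjective (N := N) (L := L) (q := q)
    (((singleFunctorIsoCompQ (ModuleCat.{u} A) 0).inv.app N ≫ φ) ≫ (Q.commShiftIso q).inv.app L)
  refine ⟨z, ?_⟩
  rw [clD_apply, hz]
  simp

lemma clD_eq_zero_iff [L.IsKInjective] (z : ZN N L q) :
    clD N L q z = 0 ↔ ∃ y : N ⟶ L.X (q - 1), y ≫ L.d (q - 1) q = (show N ⟶ L.X q from z.1) := by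
  rw [← clL_eq_zero_iff]
  constructor
  · intro h
    exact (Linear.homCongr A ((singleFunctorIsoCompQ (ModuleCat.{u} A) 0).app N).symm
      ((Q.commShiftIso q).app L)).injective (h.trans (map_zero _).symm)
  · intro h
    rw [clD_apply, h, comp_zero, zero_comp]

end Groth.Agent.Lib.helper23.LDual
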