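import Mathlib
import Groth.Prelude.Def_DRing3
import Groth.Prelude.Def_DualLC
import Groth.Agent.Lib.Helper23.LDual1
import Groth.Agent.Lib.Helper23.LDual4

/-!
# helper23: `H^q(Γ_I(L)) ≃ HDI A I (Q L) q` for a K-injective complex `L`
-/

set_option autoImplicit false
universe u w
open CategoryTheory CategoryTheory.Limits DerivedCategory Pretriangulated Opposite

attribute [local instance] HasDerivedCategory.standard

namespace Groth.Agent.Lib.helper23.LDual

section General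

variable {A : Type u} [CommRing A] (X : CochainComplex (ModuleCat.{u} A) ℤ) (q : ℤ)

/-- homology of a complex of modules from a surjective linear map on cycles whose kernel is the
boundaries. -/
noncomputable def homologyEquivOfCycles (T : Type w) [AddCommGroup T] [Module A T]
    (Φ : LinearMap.ker (X.sc' (q - 1) q (q + 1)).g.hom →ₗ[A] T) (hs : Function.Surjective Φ)
    (hk : LinearMap.range (X.sc' (q - 1) q (q + 1)).moduleCatToCycles = LinearMap.ker Φ) :
    X.homology q ≃ₗ[A] T :=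
  (X.homologyIsoSc' (q - 1) q (q + 1) (by simp) (by simp)).toLinearEquiv ≪≫ₗ
    (X.sc' (q - 1) q (q + 1)).moduleCatHomologyIso.toLinearEquiv ≪≫ₗ
    Submodule.quotEquivOfEq _ _ hk ≪≫ₗ
    LinearMap.quotKerEquivOfSurjective Φ hs

end General

section Gamma

variable {A : Type u} [CommRing A] (I : Ideal A) (L : DRing.Cx A) (q : ℤ)

/-- `Γ_I(L)`. -/
noncomputable abbrev Γ : DRing.Cx A :=
  ((DRing.gammaI I).mapHomologicalComplex (ComplexShape.up ℤ)).obj L

/-- `A/I^n`. -/
abbrev Qn (n : ℕ) : ModuleCat.{u} A := ModuleCat.of A (A ⧸ I ^ n)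

/-- the map `A/I^n → L^q`, `1 ↦ e`. -/
noncomputable def zmap (n : ℕ) (e : L.X q) (h : ∀ a ∈ I ^ n, a • e = 0) : Qn I n ⟶ L.X q :=
  ModuleCat.ofHom (Submodule.liftQ (I ^ n) (LinearMap.toSpanSingleton A (L.X q) e) (by
    intro a ha
    rw [LinearMap.mem_ker, LinearMap.toSpanSingleton_apply]
    exact h a ha))

lemma zmap_mk (n : ℕ) (e : L.X q) (h : ∀ a ∈ I ^ n, a • e = 0) (a : A) :
    (zmap I L q n e h).hom (Ideal.Quotient.mk (I ^ n) a) = a • e := rfl

lemma zmap_ext {n : ℕ} {Y : ModuleCat.{u} A} (f g : Qn I n ⟶ Y)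
    (h : f.hom (1 : A ⧸ I ^ n) = g.hom (1 : A ⧸ I ^ n)) : f = g := by
  apply ModuleCat.hom_ext
  apply LinearMap.ext
  intro x
  obtain ⟨a, rfl⟩ := Ideal.Quotient.mk_surjective x
  have : (Ideal.Quotient.mk (I ^ n) a) = a • (1 : A ⧸ I ^ n) := by
    rw [Algebra.smul_def, mul_one]; rfl
  rw [this, map_smul, map_smul, h]

lemma zmap_one (n : ℕ) (e : L.X q) (h : ∀ a ∈ I ^ n, a • e = 0) :
    (zmap I L q n e h).hom (1 : A ⧸ I ^ n) = e := by
  have := zmap_mk I L q n e h 1
  rw [one_smul] at this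
  exact this

/-- cycles of `Γ_I(L)` in degree `q`. -/
noncomputable abbrev Zc :=
  LinearMap.ker ((Γ I L).sc' (q - 1) q (q + 1)).g.hom

/-- the underlying element of `L^q`. -/
def cval (e : Zc I L q) : L.X q :=
  Subtype.val (p := fun m => m ∈ DRing.torsionSub I (L.X q)) e.1

lemma cval_add (e e' : Zc I L q) : cval I L q (e + e') = cval I L q e + cval I L q e' := rfl

lemma cval_smul (a : A) (e : Zc I L q) : cval I L q (a • e) = a • cval I L q e := rfl

lemma cval_torsion (e : Zc I L q) : ∃ n : ℕ, ∀ a ∈ I ^ n, a • cval I L q e = 0 :=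
  Subtype.property (p := fun m => m ∈ DRing.torsionSub I (L.X q)) e.1

lemma d_cval_eq_zero (e : Zc I L q) : (L.d q (q + 1)).hom (cval I L q e) = 0 := by
  have h := LinearMap.mem_ker.1 e.2
  exact congrArg Subtype.val h

/-- the element of `ZN (A/I^n) L q` attached to a cycle killed by `I^n`. -/
noncomputable def zN (n : ℕ) (e : Zc I L q) (h : ∀ a ∈ I ^ n, a • cval I L q e = 0) :
    ZN (Qn I n) L q :=
  ⟨zmap I L q n (cval I L q e) h, (mem_ZN_iff _).2 (by
    apply zmap_ext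
    rw [ModuleCat.hom_comp, LinearMap.comp_apply, zmap_one, d_cval_eq_zero]
    rfl)⟩

lemma zN_coe (n : ℕ) (e : Zc I L q) (h : ∀ a ∈ I ^ n, a • cval I L q e = 0) :
    (zN I L q n e h).1 = zmap I L q n (cval I L q e) h := rfl

/-- its class in the `n`-th stage. -/
noncomputable def stageOf (n : ℕ) (e : Zc I L q) (h : ∀ a ∈ I ^ n, a • cval I L q e = 0) :
    stage I (Q.obj L) q n :=
  clD (Qn I n) L q (zN I L q n e h)

lemma killed_of_le {n m : ℕ} (hnm : n ≤ m) (e : L.X q) (h : ∀ a ∈ I ^ n, a • e = 0) :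
    ∀ a ∈ I ^ m, a • e = 0 := fun a ha => h a (Ideal.pow_le_pow_right hnm ha)

lemma trans_stageOf {n m : ℕ} (hnm : n ≤ m) (e : Zc I L q)
    (h : ∀ a ∈ I ^ n, a • cval I L q e = 0) :
    trans I (Q.obj L) q hnm (stageOf I L q n e h) =
      stageOf I L q m e (killed_of_le I L q hnm _ h) := by
  rw [trans_apply]
  symm
  refine clD_precomp _ _ _ ?_
  apply zmap_ext
  rw [zN_coe, zmap_one, ModuleCat.hom_comp, LinearMap.comp_apply]
  have h3 : ((localCohomology.ringModIdeals (localCohomology.idealPowersDiagram I)).map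
      (homOfLE hnm).op).hom (1 : A ⧸ I ^ m) = (1 : A ⧸ I ^ n) := rfl
  erw [h3, zN_coe, zmap_one]

lemma zN_add (n : ℕ) (e e' : Zc I L q) (h : ∀ a ∈ I ^ n, a • cval I L q e = 0)
    (h' : ∀ a ∈ I ^ n, a • cval I L q e' = 0) (h'' : ∀ a ∈ I ^ n, a • cval I L q (e + e') = 0) :
    zN I L q n (e + e') h'' = zN I L q n e h + zN I L q n e' h' := by
  apply Subtype.ext
  apply zmap_ext
  show (zmap I L q n _ h'').hom 1 = ((zmap I L q n _ h) + (zmap I L q n _ h')).hom 1
  rw [ModuleCat.hom_add, LinearMap.add_apply, zmap_one, zmap_one, zmap_one, cval_add]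

lemma zN_smul (n : ℕ) (c : A) (e : Zc I L q) (h : ∀ a ∈ I ^ n, a • cval I L q e = 0)
    (h' : ∀ a ∈ I ^ n, a • cval I L q (c • e) = 0) :
    zN I L q n (c • e) h' = c • zN I L q n e h := by
  apply Subtype.ext
  apply zmap_ext
  show (zmap I L q n _ h').hom 1 = (c • (zmap I L q n _ h)).hom 1
  rw [ModuleCat.hom_smul, LinearMap.smul_apply, zmap_one, zmap_one, cval_smul]

lemma stageOf_add (n : ℕ) (e e' : Zc I L q) (h : ∀ a ∈ I ^ n, a • cval I L q e = 0)
    (h' : ∀ a ∈ I ^ n, a • cval I L q e' = 0) (h'' : ∀ a ∈ I ^ n, a • cval I L q (e + e') = 0) :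
    stageOf I L q n (e + e') h'' = stageOf I L q n e h + stageOf I L q n e' h' := by
  unfold stageOf
  rw [zN_add I L q n e e' h h' h'']
  exact map_add (clD (Qn I n) L q) _ _

lemma stageOf_smul (n : ℕ) (c : A) (e : Zc I L q) (h : ∀ a ∈ I ^ n, a • cval I L q e = 0)
    (h' : ∀ a ∈ I ^ n, a • cval I L q (c • e) = 0) :
    stageOf I L q n (c • e) h' = c • stageOf I L q n e h := by
  unfold stageOf
  rw [zN_smul I L q n c e h h']
  exact map_smul (clD (Qn I n) L q) _ _

/-- the class in `HDI` of a cycle of `Γ_I(L)`. -/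
noncomputable def Φfun (e : Zc I L q) : (Dual2.HDI A I (Q.obj L) q : ModuleCat.{u + 1} A) :=
  toHDI I (Q.obj L) q (cval_torsion I L q e).choose
    (stageOf I L q _ e (cval_torsion I L q e).choose_spec)

lemma Φfun_eq (e : Zc I L q) (n : ℕ) (h : ∀ a ∈ I ^ n, a • cval I L q e = 0) :
    Φfun I L q e = toHDI I (Q.obj L) q n (stageOf I L q n e h) := by
  unfold Φfun
  rw [← trans_toHDI_apply _ _ _ (le_max_right n (cval_torsion I L q e).choose), trans_stageOf,
    ← trans_toHDI_apply _ _ _ (le_max_left n (cval_torsion I L q e).choose)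
      (stageOf I L q n e h), trans_stageOf]

/-- the linear map from cycles of `Γ_I(L)` to `HDI`. -/
noncomputable def Φ : Zc I L q →ₗ[A] (Dual2.HDI A I (Q.obj L) q : ModuleCat.{u + 1} A) where
  toFun := Φfun I L q
  map_add' e e' := by
    obtain ⟨n, hn⟩ := cval_torsion I L q e
    obtain ⟨n', hn'⟩ := cval_torsion I L q e'
    have h := killed_of_le I L q (le_max_left n n') _ hn
    have h' := killed_of_le I L q (le_max_right n n') _ hn'
    have h'' : ∀ a ∈ I ^ (max n n'), a • cval I L q (e + e') = 0 := by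
      intro a ha
      rw [cval_add, smul_add, h a ha, h' a ha, add_zero]
    rw [Φfun_eq I L q (e + e') _ h'', Φfun_eq I L q e _ h, Φfun_eq I L q e' _ h',
      stageOf_add I L q _ e e' h h' h'', map_add]
  map_smul' c e := by
    obtain ⟨n, hn⟩ := cval_torsion I L q e
    have h' : ∀ a ∈ I ^ n, a • cval I L q (c • e) = 0 := by
      intro a ha
      rw [cval_smul, smul_comm, hn a ha, smul_zero]
    rw [Φfun_eq I L q (c • e) _ h', Φfun_eq I L q e _ hn, stageOf_smul I L q _ c e hn h', map_smul]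
    rfl

lemma Φ_apply (e : Zc I L q) : Φ I L q e = Φfun I L q e := rfl

omit [CommRing A] in
lemma quot_smul_one {R : Type u} [CommRing R] (J : Ideal R) (a : R) (ha : a ∈ J) :
    a • (1 : R ⧸ J) = 0 := by
  rw [Algebra.smul_def, mul_one]
  exact Ideal.Quotient.eq_zero_iff_mem.2 ha

lemma Φ_surjective [L.IsKInjective] : Function.Surjective (Φ I L q) := by
  intro x
  obtain ⟨n, φ, rfl⟩ := toHDI_surj I (Q.obj L) q x
  obtain ⟨z, hz⟩ := clD_surjective (N := Qn I n) (L := L) (q := q) φ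
  let z1 : Qn I n ⟶ L.X q := z.1
  let e0 : L.X q := z1.hom (1 : A ⧸ I ^ n)
  have hkill : ∀ a ∈ I ^ n, a • e0 = 0 := by
    intro a ha
    show a • z1.hom (1 : A ⧸ I ^ n) = 0
    rw [← map_smul, quot_smul_one _ a ha, map_zero]
  have hd : (L.d q (q + 1)).hom e0 = 0 := by
    have h1 : z1 ≫ L.d q (q + 1) = 0 := (mem_ZN_iff z1).1 z.2
    have h2 := congrArg (fun t => t.hom (1 : A ⧸ I ^ n)) h1
    exact h2
  let e : Zc I L q := ⟨(⟨e0, ⟨n, hkill⟩⟩ : DRing.torsionSub I (L.X q)),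
    LinearMap.mem_ker.2 (Subtype.ext hd)⟩
  refine ⟨e, ?_⟩
  rw [Φ_apply, Φfun_eq I L q e n hkill]
  congr 1
  rw [← hz]
  unfold stageOf
  congr 1
  apply Subtype.ext
  apply zmap_ext
  rw [zN_coe, zmap_one]
  rfl

lemma range_eq_ker [L.IsKInjective] :
    LinearMap.range ((Γ I L).sc' (q - 1) q (q + 1)).moduleCatToCycles =
      LinearMap.ker (Φ I L q) := by
  ext e
  constructor
  · rintro ⟨y, rfl⟩
    rw [LinearMap.mem_ker, Φ_apply]
    let y0 : L.X (q - 1) := Subtype.val (p := fun m => m ∈ DRing.torsionSub I (L.X (q - 1))) y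
    obtain ⟨m, hm⟩ : ∃ m : ℕ, ∀ a ∈ I ^ m, a • y0 = 0 :=
      Subtype.property (p := fun m => m ∈ DRing.torsionSub I (L.X (q - 1))) y
    have hc : cval I L q (((Γ I L).sc' (q - 1) q (q + 1)).moduleCatToCycles y) =
        (L.d (q - 1) q).hom y0 := rfl
    have hk : ∀ a ∈ I ^ m,
        a • cval I L q (((Γ I L).sc' (q - 1) q (q + 1)).moduleCatToCycles y) = 0 := by
      intro a ha
      rw [hc, ← map_smul, hm a ha, map_zero]
    rw [Φfun_eq I L q _ m hk]
    have h0 : stageOf I L q m _ hk = 0 := by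
      refine (clD_eq_zero_iff (zN I L q m _ hk)).2 ⟨zmap I L (q - 1) m y0 hm, ?_⟩
      apply zmap_ext
      rw [ModuleCat.hom_comp, LinearMap.comp_apply, zmap_one, zN_coe, zmap_one, hc]
    rw [h0, map_zero]
  · intro he
    rw [LinearMap.mem_ker, Φ_apply] at he
    obtain ⟨n, hn⟩ := cval_torsion I L q e
    have h0 : toHDI I (Q.obj L) q n (stageOf I L q n e hn) = 0 := by
      rw [← Φfun_eq]; exact he
    obtain ⟨m, hnm, hm⟩ := (toHDI_eq_zero_iff I (Q.obj L) q _).1 h0
    rw [trans_stageOf] at hm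
    unfold stageOf at hm
    obtain ⟨y, hy⟩ := (clD_eq_zero_iff _).1 hm
    rw [zN_coe] at hy
    have hy1 : (L.d (q - 1) q).hom (y.hom (1 : A ⧸ I ^ m)) = cval I L q e := by
      have h2 := congrArg (fun t => t.hom (1 : A ⧸ I ^ m)) hy
      simp only [ModuleCat.hom_comp, LinearMap.comp_apply] at h2
      rw [h2, zmap_one]
    have hky : ∀ a ∈ I ^ m, a • y.hom (1 : A ⧸ I ^ m) = 0 := by
      intro a ha
      rw [← map_smul, quot_smul_one _ a ha, map_zero]
    refine ⟨(⟨y.hom (1 : A ⧸ I ^ m), ⟨m, hky⟩⟩ : DRing.torsionSub I (L.X (q - 1))), ?_⟩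
    apply Subtype.ext
    apply Subtype.ext
    exact hy1

/-- **`H^q(Γ_I(L)) ≃ HDI A I (Q L) q`** for `L` K-injective. -/
noncomputable def homologyGammaEquiv [L.IsKInjective] :
    (Γ I L).homology q ≃ₗ[A] (Dual2.HDI A I (Q.obj L) q : ModuleCat.{u + 1} A) :=
  homologyEquivOfCycles (Γ I L) q _ (Φ I L q) (Φ_surjective I L q) (range_eq_ker I L q)

end Gamma

end Groth.Agent.Lib.helper23.LDual
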