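import Mathlib
import Groth.Prelude.Def_DRing3
import Groth.Prelude.Def_DualLC
import Groth.Agent.Lib.Helper23.LDual5
import Groth.Agent.Lib.Helper23.RHomEx
import Groth.Agent.Lib.Helper25.DerBC

/-!
# helper23: `H^q(RΓ_I K) ≃ HDI A I K q` (S1812)
-/

set_option autoImplicit false
universe u
open CategoryTheory CategoryTheory.Limits DerivedCategory Pretriangulated Opposite

attribute [local instance] HasDerivedCategory.standard

namespace Groth.Agent.Lib.helper23.LDual

variable {A : Type u} [CommRing A] (I : Ideal A)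

/-- `HDI` is invariant under isomorphisms. -/
noncomputable def HDIIso {K K' : Dual.D A} (e : K ≅ K') (q : ℤ) :
    Dual2.HDI A I K q ≅ Dual2.HDI A I K' q :=
  HasColimit.isoOfNatIso (Functor.isoWhiskerLeft _
    ((linearYoneda A (Dual.D A)).mapIso ((shiftFunctor (Dual.D A) q).mapIso e)))

/-- `RΓ_I` is computed by K-injective complexes. -/
theorem nonempty_RgammaI_iso [DRing.HasRgammaI I] (J : DRing.Cx A) [J.IsKInjective] :
    Nonempty ((DRing.RgammaI I).obj (Q.obj J) ≅ Q.obj (Γ I J)) := by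
  haveI : (DRing.RgammaI I).IsLeftKanExtension
      ((DRing.gammaIKh I).totalRightDerivedUnit DerivedCategory.Qh
        (HomotopyCategory.quasiIso (ModuleCat.{u} A) (ComplexShape.up ℤ))) :=
    Functor.IsRightDerivedFunctor.isLeftKanExtension _ _
      (HomotopyCategory.quasiIso (ModuleCat.{u} A) (ComplexShape.up ℤ))
  haveI := Groth.Agent.Lib.Helper25.DerBC.isIso_unit_app_of_isKInjective (RHomEx.hKinj A)
    (DRing.gammaIKh I) (DRing.RgammaI I)
    ((DRing.gammaIKh I).totalRightDerivedUnit DerivedCategory.Qh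
      (HomotopyCategory.quasiIso (ModuleCat.{u} A) (ComplexShape.up ℤ))) J
  exact ⟨(DRing.RgammaI I).mapIso ((DerivedCategory.quotientCompQhIso _).app J).symm ≪≫
    (asIso (((DRing.gammaIKh I).totalRightDerivedUnit DerivedCategory.Qh
      (HomotopyCategory.quasiIso (ModuleCat.{u} A) (ComplexShape.up ℤ))).app
        ((HomotopyCategory.quotient _ (ComplexShape.up ℤ)).obj J))).symm ≪≫
    DerivedCategory.Qh.mapIso
      (((DRing.gammaI I).mapHomotopyCategoryFactors (ComplexShape.up ℤ)).app J) ≪≫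
    (DerivedCategory.quotientCompQhIso _).app _⟩

/-- **S1812.** -/
theorem HD_RgammaI_equiv_HDI [DRing.HasRgammaI I] (K : Dual.D A) (q : ℤ) :
    Nonempty (Dual.HD A ((DRing.RgammaI I).obj K) q ≃ₗ[A] Dual2.HDI A I K q) := by
  obtain ⟨J, f, hJ, hf⟩ := RHomEx.hKinj A (Q.objPreimage K)
  haveI := hJ
  haveI : IsIso (Q.map f) := by rw [isIso_Q_map_iff_quasiIso]; exact hf
  let eK : K ≅ Q.obj J := (Q.objObjPreimageIso K).symm ≪≫ asIso (Q.map f)
  obtain ⟨e1⟩ := nonempty_RgammaI_iso I J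
  exact ⟨((homologyFunctor (ModuleCat.{u} A) q).mapIso
      ((DRing.RgammaI I).mapIso eK ≪≫ e1)).toLinearEquiv ≪≫ₗ
    ((homologyFunctorFactors (ModuleCat.{u} A) q).app (Γ I J)).toLinearEquiv ≪≫ₗ
    homologyGammaEquiv I J q ≪≫ₗ (HDIIso I eK q).symm.toLinearEquiv⟩

end Groth.Agent.Lib.helper23.LDual
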