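import Mathlib
import Groth.Prelude.Def_DRing2
import Groth.Prelude.Def_DDual2
import Groth.Agent.Lib.Helper23.TA6
import Groth.Agent.Lib.Helper23.SplitTrunc

/-!
# helper23: projective amplitude
-/

set_option autoImplicit false
universe u
open CategoryTheory CategoryTheory.Limits Pretriangulated ZeroObject

attribute [local instance] HasDerivedCategory.standard

namespace Groth.Agent.Lib.helper23.ProjAmp

open Groth.Agent.Lib.helper23.TA Groth.Agent.Lib.helper23.PCohAmp

variable {R : Type u} [CommRing R]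

/-- the property of being a projective module. -/
def ProjP (R : Type u) [CommRing R] : ObjectProperty (ModuleCat.{u} R) :=
  fun M => Module.Projective R M

instance : (ProjP R).IsClosedUnderIsomorphisms :=
  ⟨fun {X Y} e (h : Module.Projective R X) => by
    haveI := h
    exact (Module.Projective.of_equiv e.toLinearEquiv : Module.Projective R Y)⟩

instance : (ProjP R).ContainsZero :=
  ⟨⟨0, Limits.isZero_zero _, by
    haveI : Subsingleton ((0 : ModuleCat.{u} R) : Type u) :=
      ModuleCat.subsingleton_of_isZero (Limits.isZero_zero _)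
    exact (inferInstance : Module.Projective R ((0 : ModuleCat.{u} R) : Type u))⟩⟩

/-- no maps from a complex of projectives living in degrees `≥ a` to an object living in degrees
`< a`. -/
lemma subsingleton_hom_of_projective_of_isLE (P : DRing.Cx R) (a b : ℤ)
    (hP : ∀ i, Projective (P.X i)) (hb : DRing.VanishesAbove P b)
    (ha : ∀ i : ℤ, i < a → IsZero (P.X i)) (K : Dual.D R) (hK : K.IsLE (a - 1)) :
    Subsingleton (DerivedCategory.Q.obj P ⟶ K) := by
  obtain ⟨K', hK', ⟨e⟩⟩ := DerivedCategory.exists_iso_Q_obj_of_isLE K (a - 1)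
  have key : ∀ g : DerivedCategory.Q.obj P ⟶ DerivedCategory.Q.obj K', g = 0 := by
    intro g
    obtain ⟨u, rfl⟩ := TA.exists_lift_of_projective P b hP hb K' g
    have hu : u = 0 := by
      refine HomologicalComplex.hom_ext _ _ (fun i => ?_)
      by_cases hi : i < a
      · exact (ha i hi).eq_of_src _ _
      · exact (CochainComplex.isZero_of_isStrictlyLE K' (a - 1) i (by omega)).eq_of_tgt _ _
    rw [hu, Functor.map_zero]
  have hf : ∀ f : DerivedCategory.Q.obj P ⟶ K, f = 0 := by
    intro f
    have := key (f ≫ e.hom)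
    rw [← cancel_mono e.hom]
    simpa using this
  exact ⟨fun f g => by rw [hf f, hf g]⟩

/-- S6990. -/
theorem hom_subsingleton_and_triangle_splits (a b : ℤ) (L : Dual.D R)
    (hL : ∃ P : DRing.Cx R, DRing.VanishesOutside P a b ∧ (∀ i : ℤ, Module.Projective R (P.X i)) ∧
      Nonempty (DRing.toD P ≅ L)) (K : Dual.D R) :
    ((∀ i : ℤ, a ≤ i → Subsingleton (Dual.HD R K i)) → Subsingleton (L ⟶ K)) ∧
      ((∀ i : ℤ, a + 1 ≤ i → Subsingleton (Dual.HD R K i)) → ∀ (T : Triangle (Dual.D R)),
        T ∈ distinguishedTriangles → T.obj₁ = K → T.obj₃ = L →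
        ∀ [HasBinaryBiproduct T.obj₁ T.obj₃],
          ∃ e : T.obj₂ ≅ T.obj₁ ⊞ T.obj₃, T.mor₁ ≫ e.hom = biprod.inl ∧
            e.hom ≫ biprod.snd = T.mor₂) := by
  obtain ⟨P, hz, hP, ⟨e⟩⟩ := hL
  have hproj : ∀ i, Projective (P.X i) := fun i =>
    (IsProjective.iff_projective (R := R) (P.X i)).1 (hP i)
  have key : ∀ K' : Dual.D R, K'.IsLE (a - 1) → Subsingleton (L ⟶ K') := by
    intro K' hK'
    have h1 := subsingleton_hom_of_projective_of_isLE P a b hproj
      (fun i hi => hz i (Or.inr hi)) (fun i hi => hz i (Or.inl hi)) K' hK'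
    exact ⟨fun f g => by
      rw [← cancel_epi e.hom]
      exact h1.elim _ _⟩
  refine ⟨fun h => key K ((DerivedCategory.isLE_iff K (a - 1)).2 (fun i hi => by
    haveI := h i (by omega)
    exact ModuleCat.isZero_of_subsingleton _)), ?_⟩
  rintro h T hT rfl rfl _
  haveI hLE : T.obj₁.IsLE a := (DerivedCategory.isLE_iff T.obj₁ a).2 (fun i hi => by
    haveI := h i (by omega)
    exact ModuleCat.isZero_of_subsingleton _)
  have hLE' : (T.obj₁⟦(1 : ℤ)⟧).IsLE (a - 1) :=
    DerivedCategory.TStructure.t.isLE_shift T.obj₁ a 1 (a - 1) (by omega)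
  have h3 : T.mor₃ = 0 := (key _ hLE').elim _ _
  obtain ⟨e', he1, he2⟩ := exists_iso_binaryBiproduct_of_distTriang T hT h3
  exact ⟨e', he1, he2.symm⟩

end Groth.Agent.Lib.helper23.ProjAmp
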