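import Mathlib
import Groth.Prelude.Def_DRing2
import Groth.Prelude.Def_DDual2
import Groth.Agent.Lib.Helper23.ProjAmp

/-!
# helper23: projective amplitude, part 2 (Ext characterisations)
-/

set_option autoImplicit false
universe u
open CategoryTheory CategoryTheory.Limits Pretriangulated ZeroObject

attribute [local instance] HasDerivedCategory.standard

namespace Groth.Agent.Lib.helper23.ProjAmp

open Groth.Agent.Lib.helper23.TA Groth.Agent.Lib.helper23.PCohAmp

variable {R : Type u} [CommRing R]

section InjDetect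

/-- the canonical map to an injective module placed in degree `n`. -/
noncomputable def toInj (K : DRing.Cx R) (n : ℤ) :
    K ⟶ (HomologicalComplex.single (ModuleCat.{u} R) (ComplexShape.up ℤ) n).obj
      (Injective.under (K.opcycles n)) :=
  HomologicalComplex.mkHomToSingle (K.pOpcycles n ≫ Injective.ι _) (by simp)

lemma mono_homologyMap_toInj (K : DRing.Cx R) (n : ℤ) :
    Mono (HomologicalComplex.homologyMap (toInj K n) n) := by
  rw [HomologicalComplex.mono_homologyMap_iff_up_to_refinements _ (n - 1) n (n + 1)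
    (by simp) (by simp)]
  intro A x₂ hx₂ y₁ hy₁
  have hy : y₁ = 0 :=
    (HomologicalComplex.isZero_single_obj_X (ComplexShape.up ℤ) n _ (n - 1) (by omega)).eq_of_tgt
      _ _
  have h0 : x₂ ≫ (toInj K n).f n = 0 := by rw [hy₁, hy, zero_comp]
  have h1 : x₂ ≫ K.pOpcycles n = 0 := by
    rw [← cancel_mono (Injective.ι _)]
    simpa [toInj, ← cancel_mono (HomologicalComplex.singleObjXSelf (ComplexShape.up ℤ) n _).hom]
      using h0
  exact (K.comp_pOpcycles_eq_zero_iff_up_to_refinements x₂ (n - 1) (by simp)).1 h1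

/-- cohomology is detected by maps to shifted (injective) modules. -/
theorem subsingleton_HD_of_hom_vanish (K : Dual.D R) (n : ℤ)
    (h : ∀ (N : Type u) [AddCommGroup N] [Module R N],
      Subsingleton (K ⟶ (Dual.inD R N)⟦-n⟧)) : Subsingleton (Dual.HD R K n) := by
  let K' := DerivedCategory.Q.objPreimage K
  let e : DerivedCategory.Q.obj K' ≅ K := DerivedCategory.Q.objObjPreimageIso K
  let I : ModuleCat.{u} R := Injective.under (K'.opcycles n)
  have e1 : DerivedCategory.Q.obj
      ((HomologicalComplex.single (ModuleCat.{u} R) (ComplexShape.up ℤ) n).obj I) ≅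
      ((DerivedCategory.singleFunctor (ModuleCat.{u} R) 0).obj I)⟦-n⟧ :=
    ((DerivedCategory.singleFunctorIsoCompQ _ n).app I).symm ≪≫
      (((DerivedCategory.singleFunctors (ModuleCat.{u} R)).shiftIso (-n) n 0 (by omega)).app
        I).symm
  have hI := h I
  have hQ : DerivedCategory.Q.map (toInj K' n) = 0 := by
    have h2 : e.inv ≫ DerivedCategory.Q.map (toInj K' n) ≫ e1.hom = 0 := hI.elim _ _
    calc DerivedCategory.Q.map (toInj K' n)
        = e.hom ≫ (e.inv ≫ DerivedCategory.Q.map (toInj K' n) ≫ e1.hom) ≫ e1.inv := by simp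
      _ = 0 := by rw [h2, zero_comp, comp_zero]
  have hH : HomologicalComplex.homologyMap (toInj K' n) n = 0 := by
    have nat := (DerivedCategory.homologyFunctorFactors (ModuleCat.{u} R) n).hom.naturality
      (toInj K' n)
    simp only [Functor.comp_map, hQ, Functor.map_zero, zero_comp] at nat
    have h3 : (HomologicalComplex.homologyFunctor (ModuleCat.{u} R) (ComplexShape.up ℤ) n).map
        (toInj K' n) = 0 := by
      rw [← cancel_epi ((DerivedCategory.homologyFunctorFactors (ModuleCat.{u} R) n).hom.app K')]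
      rw [← nat, comp_zero]
    exact h3
  haveI := mono_homologyMap_toInj K' n
  have hz : IsZero (K'.homology n) := IsZero.of_mono_eq_zero _ hH
  exact ModuleCat.subsingleton_of_isZero
    ((hz.of_iso ((DerivedCategory.homologyFunctorFactors _ n).app K')).of_iso
      ((DerivedCategory.homologyFunctor _ n).mapIso e.symm))

end InjDetect

/-- (1) ⇒ (2). -/
theorem extD_subsingleton_of_projAmp (K : Dual.D R) (a b : ℤ)
    (hK : ∃ P : DRing.Cx R, DRing.VanishesOutside P a b ∧
      (∀ i : ℤ, Module.Projective R (P.X i)) ∧ Nonempty (DRing.toD P ≅ K))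
    (N : Type u) [AddCommGroup N] [Module R N] (i : ℤ) (hi : i < -b ∨ -a < i) :
    Subsingleton (K ⟶ (Dual.inD R N)⟦i⟧) := by
  obtain ⟨P, hz, hP, ⟨e⟩⟩ := hK
  have hproj : ∀ i, Projective (P.X i) := fun i =>
    (IsProjective.iff_projective (R := R) (P.X i)).1 (hP i)
  suffices h1 : Subsingleton (DerivedCategory.Q.obj P ⟶ (Dual.inD R N)⟦i⟧) from
    ⟨fun f g => by
      rw [← cancel_epi e.hom]
      exact h1.elim _ _⟩
  rcases hi with hi | hi
  · haveI : P.IsStrictlyLE b :=
      (CochainComplex.isStrictlyLE_iff _ _).2 (fun j hj => hz j (Or.inr hj))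
    haveI : (DerivedCategory.Q.obj P).IsLE b := (DerivedCategory.isLE_Q_obj_iff P b).2 inferInstance
    haveI : ((Dual.inD R N)⟦i⟧).IsGE (-i) :=
      DerivedCategory.TStructure.t.isGE_shift (Dual.inD R N) 0 i (-i) (by omega)
    exact ⟨fun f g => by
      rw [DerivedCategory.TStructure.t.zero f b (-i) (by omega),
        DerivedCategory.TStructure.t.zero g b (-i) (by omega)]⟩
  · haveI : ((Dual.inD R N)⟦i⟧).IsLE (-i) :=
      DerivedCategory.TStructure.t.isLE_shift (Dual.inD R N) 0 i (-i) (by omega)
    have hLE : ((Dual.inD R N)⟦i⟧).IsLE (a - 1) :=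
      DerivedCategory.TStructure.t.isLE_of_le _ (-i) (a - 1) (by omega)
    exact subsingleton_hom_of_projective_of_isLE P a b hproj (fun j hj => hz j (Or.inr hj))
      (fun j hj => hz j (Or.inl hj)) _ hLE

section ModuleLevel

/-- module-level: a retraction up to the differential gives exactness and a projective cokernel. -/
lemma exact_and_projective_of_retraction {X₁ X₂ X₃ : Type u} [AddCommGroup X₁] [Module R X₁]
    [AddCommGroup X₂] [Module R X₂] [AddCommGroup X₃] [Module R X₃] [Module.Projective R X₃]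
    (d₁ : X₁ →ₗ[R] X₂) (d₂ : X₂ →ₗ[R] X₃) (h0 : d₂ ∘ₗ d₁ = 0)
    (g : X₃ →ₗ[R] X₂ ⧸ LinearMap.range d₁) (hg : g ∘ₗ d₂ = (LinearMap.range d₁).mkQ) :
    Function.Exact d₁ d₂ ∧ Module.Projective R (X₃ ⧸ LinearMap.range d₂) := by
  have hle : LinearMap.range d₁ ≤ LinearMap.ker d₂ := by
    rintro _ ⟨x, rfl⟩
    exact LinearMap.congr_fun h0 x
  let l : (X₂ ⧸ LinearMap.range d₁) →ₗ[R] X₃ := (LinearMap.range d₁).liftQ d₂ hle
  have hl : l ∘ₗ (LinearMap.range d₁).mkQ = d₂ := Submodule.liftQ_mkQ _ _ _
  have hgl : ∀ z, g (l z) = z := by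
    intro z
    obtain ⟨x, rfl⟩ := Submodule.mkQ_surjective _ z
    have h1 : l ((LinearMap.range d₁).mkQ x) = d₂ x := LinearMap.congr_fun hl x
    rw [h1]
    exact LinearMap.congr_fun hg x
  have hlinj : Function.Injective l := Function.LeftInverse.injective hgl
  have hrange : LinearMap.range l = LinearMap.range d₂ := Submodule.range_liftQ _ _ _
  refine ⟨?_, ?_⟩
  · intro y
    constructor
    · intro hy
      have h1 : l ((LinearMap.range d₁).mkQ y) = 0 := by
        rw [← LinearMap.comp_apply, hl, hy]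
      have h2 := hlinj (h1.trans (map_zero l).symm)
      rwa [Submodule.mkQ_apply, Submodule.Quotient.mk_eq_zero] at h2
    · rintro ⟨x, rfl⟩
      exact LinearMap.congr_fun h0 x
  · rw [← hrange]
    let i : (X₃ ⧸ LinearMap.range l) →ₗ[R] X₃ :=
      (LinearMap.range l).liftQ (LinearMap.id - l ∘ₗ g) (by
        rintro _ ⟨z, rfl⟩
        simp [hgl z])
    refine Module.Projective.of_split i (LinearMap.range l).mkQ ?_
    apply Submodule.linearMap_qext
    ext x
    simp only [LinearMap.comp_apply, Submodule.mkQ_apply, LinearMap.id_comp, i,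
      Submodule.liftQ_apply, LinearMap.sub_apply, LinearMap.id_apply,
      Submodule.Quotient.mk_sub]
    rw [sub_eq_self, Submodule.Quotient.mk_eq_zero]
    exact ⟨g x, rfl⟩

end ModuleLevel

/-- (4) ⇒ (1), with `a = j + 1`. -/
theorem projAmp_of_ext_vanish_aux (K : Dual.D R) (j b : ℤ)
    (hH : ∀ n : ℤ, (n < j ∨ b < n) → Subsingleton (Dual.HD R K n))
    (hE : ∀ (N : Type u) [AddCommGroup N] [Module R N],
      Subsingleton (K ⟶ (Dual.inD R N)⟦-j⟧)) :
    Amp (ProjP R) (j + 1) b K := by
  obtain ⟨P, hP, hPb, ⟨e⟩⟩ := LDer.exists_projective_resolution K b (fun i hi => by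
    haveI := hH i (Or.inr hi)
    exact ModuleCat.isZero_of_subsingleton _)
  have hexlow : ∀ i : ℤ, i < j → P.ExactAt i := by
    intro i hi
    rw [HomologicalComplex.exactAt_iff_isZero_homology]
    haveI := hH i (Or.inl hi)
    have hz : IsZero ((DerivedCategory.homologyFunctor (ModuleCat.{u} R) i).obj K) :=
      ModuleCat.isZero_of_subsingleton _
    exact (hz.of_iso ((DerivedCategory.homologyFunctor _ i).mapIso e)).of_iso
      ((DerivedCategory.homologyFunctorFactors _ i).app P).symm
  let C : ModuleCat.{u} R :=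
    ModuleCat.of R ((P.X j) ⧸ LinearMap.range (P.d (j - 1) j).hom)
  let π : P.X j ⟶ C := ModuleCat.ofHom (LinearMap.range (P.d (j - 1) j).hom).mkQ
  have hπ : P.d (j - 1) j ≫ π = 0 := by
    ext x
    simp only [ModuleCat.hom_comp, LinearMap.comp_apply, π, ModuleCat.hom_ofHom,
      ModuleCat.hom_zero, LinearMap.zero_apply]
    rw [Submodule.mkQ_apply, Submodule.Quotient.mk_eq_zero]
    exact ⟨x, rfl⟩
  let πt : P ⟶ (HomologicalComplex.single (ModuleCat.{u} R) (ComplexShape.up ℤ) j).obj C :=
    HomologicalComplex.mkHomToSingle π (fun i hi => by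
      simp only [ComplexShape.up_Rel] at hi
      obtain rfl : i = j - 1 := by omega
      exact hπ)
  have e1 : DerivedCategory.Q.obj
      ((HomologicalComplex.single (ModuleCat.{u} R) (ComplexShape.up ℤ) j).obj C) ≅
      ((DerivedCategory.singleFunctor (ModuleCat.{u} R) 0).obj C)⟦-j⟧ :=
    ((DerivedCategory.singleFunctorIsoCompQ _ j).app C).symm ≪≫
      (((DerivedCategory.singleFunctors (ModuleCat.{u} R)).shiftIso (-j) j 0 (by omega)).app
        C).symm
  have hC := hE C
  have hQ : DerivedCategory.Q.map πt = 0 := by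
    have h2 : e.inv ≫ DerivedCategory.Q.map πt ≫ e1.hom = 0 := hC.elim _ _
    calc DerivedCategory.Q.map πt
        = e.hom ≫ (e.inv ≫ DerivedCategory.Q.map πt ≫ e1.hom) ≫ e1.inv := by simp
      _ = 0 := by rw [h2, zero_comp, comp_zero]
  haveI : ∀ n, Projective (P.X n) := hP
  haveI : P.IsStrictlyLE b := (CochainComplex.isStrictlyLE_iff _ _).2 hPb
  haveI : P.IsKProjective := CochainComplex.isKProjective_of_projective P b
  have hq : (HomotopyCategory.quotient _ _).map πt =
      (HomotopyCategory.quotient _ _).map (0 : P ⟶ _) := by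
    apply (CochainComplex.IsKProjective.Qh_map_bijective P _).1
    show DerivedCategory.Q.map πt = DerivedCategory.Q.map 0
    rw [hQ, Functor.map_zero]
  have H : Homotopy πt 0 := HomotopyCategory.homotopyOfEq _ _ hq
  have hcomm := H.comm j
  rw [dNext_eq H.hom (show (ComplexShape.up ℤ).Rel j (j + 1) by simp),
    prevD_eq H.hom (show (ComplexShape.up ℤ).Rel (j - 1) j by simp)] at hcomm
  simp only [HomologicalComplex.single_obj_d, comp_zero, add_zero,
    HomologicalComplex.zero_f] at hcomm
  let g : P.X (j + 1) ⟶ C :=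
    H.hom (j + 1) j ≫ (HomologicalComplex.singleObjXSelf (ComplexShape.up ℤ) j C).hom
  have hg : P.d j (j + 1) ≫ g = π := by
    dsimp only [g]
    rw [← Category.assoc, ← hcomm, HomologicalComplex.mkHomToSingle_f, Category.assoc,
      Iso.inv_hom_id, Category.comp_id]
  haveI : Module.Projective R (P.X (j + 1)) :=
    (IsProjective.iff_projective (R := R) (P.X (j + 1))).2 (hP (j + 1))
  have key := exact_and_projective_of_retraction (P.d (j - 1) j).hom (P.d j (j + 1)).hom
    (by rw [← ModuleCat.hom_comp, P.d_comp_d]; rfl) g.hom (by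
      rw [← ModuleCat.hom_comp, hg]
      rfl)
  have hamp : Amp (ProjP R) (j + 1) b (DerivedCategory.Q.obj P) := by
    refine amp_truncGE (ProjP R) P b hPb (j + 1) (fun i hi => ?_) (fun i _ => ?_) ?_
    · rcases lt_or_eq_of_le (show i ≤ j by omega) with h | rfl
      · exact hexlow i h
      · rw [HomologicalComplex.exactAt_iff' _ (i - 1) i (i + 1) (by simp) (by simp)]
        exact (ShortComplex.ShortExact.moduleCat_exact_iff_function_exact _).2 key.1
    · exact (IsProjective.iff_projective (R := R) (P.X i)).2 (hP i)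
    · have hj : j + 1 - 1 = j := by omega
      rw [hj]
      exact key.2
  exact hamp.of_iso e

end Groth.Agent.Lib.helper23.ProjAmp
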