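import Mathlib
import Groth.Agent.Lib.Helper23.FBC1

/-!
# Base change of `BCBij` across a pushout square (helper23)

* `bcBij_of_pushout`: for a pushout square `P → B`, `P → P'`, `B → B'`, `P' → B'`, a `B`-linear map `M → N` into a
  `B'`-module which induces a bijection `B' ⊗_B M → N` also induces a bijection `P' ⊗_P M → N`.
* `bijective_of_bcBij`: a `P'`-linear map `Φ : N₁ → N₂` with `Φ ∘ λ₁ = λ₂`, where `λ₁`, `λ₂` induce bijections
  after base change, is bijective.
-/

set_option autoImplicit false
open TensorProduct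

namespace Groth.Agent.Lib.helper23.FBCR

open Groth.Agent.Lib.helper23.FBC

section Pushout

variable {P P' B B' : Type*} [CommRing P] [CommRing P'] [CommRing B] [CommRing B']
  [Algebra P P'] [Algebra P B] [Algebra B B'] [Algebra P' B'] [Algebra P B']
  [IsScalarTower P B B'] [IsScalarTower P P' B'] [Algebra.IsPushout P P' B B']
  {M : Type*} [AddCommGroup M] [Module B M] [Module P M] [IsScalarTower P B M]
  {N : Type*} [AddCommGroup N] [Module B' N] [Module B N] [IsScalarTower B B' N]
  [Module P' N] [IsScalarTower P' B' N] [Module P N] [IsScalarTower P P' N]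

lemma bcBij_of_pushout (l : M →ₗ[B] N) (l' : M →ₗ[P] N) (h : ∀ m, l' m = l m)
    (h1 : BCBij B' l) : BCBij P' l' := by
  let e := Algebra.IsPushout.cancelBaseChange P P' B B' M
  have key : ∀ z : P' ⊗[P] M, l'.liftBaseChange P' z = l.liftBaseChange B' (e.symm z) := by
    intro z
    induction z using TensorProduct.induction_on with
    | zero => simp
    | tmul s m =>
      rw [LinearMap.liftBaseChange_tmul, Algebra.IsPushout.cancelBaseChange_symm_tmul,
        LinearMap.liftBaseChange_tmul, h, algebraMap_smul]
    | add x y hx hy => rw [map_add, hx, hy, map_add, map_add]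
  have h2 : (l'.liftBaseChange P' : P' ⊗[P] M → N) = (l.liftBaseChange B') ∘ e.symm := by
    funext z
    exact key z
  show Function.Bijective (l'.liftBaseChange P')
  rw [h2]
  exact h1.comp e.symm.bijective

end Pushout

section Comp

variable {P P' : Type*} [CommRing P] [CommRing P'] [Algebra P P']
  {M : Type*} [AddCommGroup M] [Module P M]
  {N₁ : Type*} [AddCommGroup N₁] [Module P N₁] [Module P' N₁] [IsScalarTower P P' N₁]
  {N₂ : Type*} [AddCommGroup N₂] [Module P N₂] [Module P' N₂] [IsScalarTower P P' N₂]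

lemma bijective_of_bcBij (l₁ : M →ₗ[P] N₁) (l₂ : M →ₗ[P] N₂) (Φ : N₁ → N₂)
    (hadd : ∀ x y, Φ (x + y) = Φ x + Φ y) (hsmul : ∀ (s : P') x, Φ (s • x) = s • Φ x)
    (h : ∀ m, Φ (l₁ m) = l₂ m) (h1 : BCBij P' l₁) (h2 : BCBij P' l₂) : Function.Bijective Φ := by
  have hzero : Φ 0 = 0 := by
    have := hadd 0 0
    rw [add_zero] at this
    exact left_eq_add.mp this
  have key : ∀ z : P' ⊗[P] M, Φ (l₁.liftBaseChange P' z) = l₂.liftBaseChange P' z := by
    intro z
    induction z using TensorProduct.induction_on with
    | zero => rw [map_zero, map_zero, hzero]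
    | tmul s m => rw [LinearMap.liftBaseChange_tmul, LinearMap.liftBaseChange_tmul, hsmul, h]
    | add x y hx hy => rw [map_add, hadd, hx, hy, map_add]
  have h3 : Φ ∘ (l₁.liftBaseChange P') = (l₂.liftBaseChange P' : P' ⊗[P] M → N₂) := by
    funext z
    exact key z
  have h4 : Function.Bijective (Φ ∘ (l₁.liftBaseChange P')) := by
    rw [h3]
    exact h2
  exact (Function.Bijective.of_comp_iff Φ h1).1 h4

end Comp

end Groth.Agent.Lib.helper23.FBCR
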