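import Mathlib
import Groth.Prelude.Def_Wider
import Groth.Prelude.Def_DDual2
import Groth.Agent.Lib.Helper23.FBCR1
import Groth.Agent.Lib.Helper23.FBCR2
import Groth.Agent.Lib.Helper23.FBC5
import Groth.Agent.Lib.Helper23.RAdj2

/-!
# Flat base change for a universal arrow of restriction of scalars: the key bijection (helper23)

Pushout square `P → B`, `P → P'`, `B → B'`, `P' → B'` with `P → P'`, `B → B'` flat.  Given
`ε : X|_P ⟶ L` (`X : D(B)`, `L : D(P)`) put `ε' : (X ⊗_B B')|_{P'} ≅ (X|_P) ⊗_P P' ⟶ L ⊗_P P'`.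
`bijective_Ψ'`: if `f ↦ f|_P ≫ ε` is bijective on `Hom(N, X)` and `Hom` commutes with the two flat base changes
at `(N, X)` and `(N|_P, L)`, then `g ↦ g|_{P'} ≫ ε'` is bijective on `Hom(N ⊗_B B', X ⊗_B B')`.
-/

set_option autoImplicit false
universe u
open CategoryTheory CategoryTheory.Limits DerivedCategory TensorProduct

attribute [local instance] HasDerivedCategory.standard

namespace Groth.Agent.Lib.helper23.FBCR

open Groth.Agent.Lib.helper23.FBC Groth.Agent.Lib.helper23.RAdj

attribute [local instance 50] homModuleA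
attribute [local instance] FlatBC.preservesFiniteLimits_extendScalars_algebraMap

section Tower

variable {P P' B' : Type u} [CommRing P] [CommRing P'] [CommRing B']
  [Algebra P P'] [Algebra P' B'] [Algebra P B'] [IsScalarTower P P' B']

lemma isScalarTower_hom_tower (X Y : Dual.D B') : IsScalarTower P P' (X ⟶ Y) :=
  ⟨fun p s g => by
    show algebraMap P' B' (p • s) • g = algebraMap P B' p • (algebraMap P' B' s • g)
    rw [Algebra.smul_def, map_mul, ← IsScalarTower.algebraMap_apply, mul_smul]⟩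

end Tower

variable {P P' B B' : Type u} [CommRing P] [CommRing P'] [CommRing B] [CommRing B']
  [Algebra P P'] [Algebra P B] [Algebra B B'] [Algebra P' B'] [Algebra P B']
  [IsScalarTower P B B'] [IsScalarTower P P' B'] [Algebra.IsPushout P P' B B']
  [Module.Flat P P'] [Module.Flat B B']

variable (P') (B') in
/-- the base change of `ε : X|_P ⟶ L`. -/
noncomputable def ε' {X : Dual.D B} {L : Dual.D P}
    (ε : (DRing.restrictD (algebraMap P B)).obj X ⟶ L) :
    (DRing.restrictD (algebraMap P' B')).obj ((EE B B').obj X) ⟶ (EE P P').obj L :=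
  (γ P P' B B').inv.app X ≫ (EE P P').map ε

variable (N X : Dual.D B) (L : Dual.D P) (ε : (DRing.restrictD (algebraMap P B)).obj X ⟶ L)

/-- `f ↦ (f ⊗ B')`, as a `P`-linear map. -/
noncomputable def l₁' : (N ⟶ X) →ₗ[P] ((EE B B').obj N ⟶ (EE B B').obj X) where
  toFun f := (EE B B').map f
  map_add' f g := Functor.map_add _
  map_smul' p f := by
    show (EE B B').map (algebraMap P B p • f) = algebraMap P B' p • (EE B B').map f
    rw [EE_map_smul, ← IsScalarTower.algebraMap_apply]

/-- `f ↦ (f|_P ≫ ε) ⊗ P'`, as a `P`-linear map. -/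
noncomputable def l₂ : (N ⟶ X) →ₗ[P]
    ((EE P P').obj ((DRing.restrictD (algebraMap P B)).obj N) ⟶ (EE P P').obj L) where
  toFun f := (EE P P').map ((DRing.restrictD (algebraMap P B)).map f ≫ ε)
  map_add' f g := by
    rw [Functor.map_add, Preadditive.add_comp, Functor.map_add]
  map_smul' p f := by
    show (EE P P').map ((DRing.restrictD (algebraMap P B)).map (algebraMap P B p • f) ≫ ε) =
      algebraMap P P' p • (EE P P').map ((DRing.restrictD (algebraMap P B)).map f ≫ ε)
    rw [restrictD_map_smul, Linear.smul_comp, EE_map_smul]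

/-- `g ↦ g|_{P'} ≫ ε'`, transported along `γ`. -/
noncomputable def Φ (g : (EE B B').obj N ⟶ (EE B B').obj X) :
    (EE P P').obj ((DRing.restrictD (algebraMap P B)).obj N) ⟶ (EE P P').obj L :=
  (γ P P' B B').hom.app N ≫ (DRing.restrictD (algebraMap P' B')).map g ≫ ε' P' B' ε

lemma Φ_l₁' (f : N ⟶ X) : Φ N X L ε (l₁' (P := P) (B' := B') N X f) = l₂ (P' := P') N X L ε f := by
  show (γ P P' B B').hom.app N ≫ (DRing.restrictD (algebraMap P' B')).map ((EE B B').map f) ≫
    (γ P P' B B').inv.app X ≫ (EE P P').map ε =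
    (EE P P').map ((DRing.restrictD (algebraMap P B)).map f ≫ ε)
  have h := (γ P P' B B').hom.naturality f
  dsimp only [Functor.comp_map] at h
  rw [← Category.assoc, ← h, Category.assoc, Iso.hom_inv_id_app_assoc, ← Functor.map_comp]

lemma Φ_add (g g' : (EE B B').obj N ⟶ (EE B B').obj X) :
    Φ (P := P) (P' := P') N X L ε (g + g') = Φ N X L ε g + Φ N X L ε g' := by
  dsimp only [Φ]
  rw [Functor.map_add, Preadditive.add_comp, Preadditive.comp_add]

lemma Φ_smul (s : P') (g : (EE B B').obj N ⟶ (EE B B').obj X) :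
    Φ (P := P) (P' := P') N X L ε (s • g) = s • Φ N X L ε g := by
  show (γ P P' B B').hom.app N ≫ (DRing.restrictD (algebraMap P' B')).map (algebraMap P' B' s • g) ≫
    ε' P' B' ε = s • ((γ P P' B B').hom.app N ≫ (DRing.restrictD (algebraMap P' B')).map g ≫
    ε' P' B' ε)
  rw [restrictD_map_smul, Linear.smul_comp, Linear.comp_smul]

/-- **key bijection**. -/
theorem bijective_Ψ'
    (hΨ : Function.Bijective (fun f : N ⟶ X => (DRing.restrictD (algebraMap P B)).map f ≫ ε))
    (h1 : BB B' N X) (h2 : BB P' ((DRing.restrictD (algebraMap P B)).obj N) L) :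
    Function.Bijective (fun g : (EE B B').obj N ⟶ (EE B B').obj X =>
      (DRing.restrictD (algebraMap P' B')).map g ≫ ε' P' B' ε) := by
  let Ψl : (N ⟶ X) →ₗ[P] ((DRing.restrictD (algebraMap P B)).obj N ⟶ L) :=
    { toFun := fun f => (DRing.restrictD (algebraMap P B)).map f ≫ ε
      map_add' := fun f g => by rw [Functor.map_add, Preadditive.add_comp]
      map_smul' := fun p f => by
        show (DRing.restrictD (algebraMap P B)).map (algebraMap P B p • f) ≫ ε =
          p • ((DRing.restrictD (algebraMap P B)).map f ≫ ε)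
        rw [restrictD_map_smul, Linear.smul_comp] }
  let Ψe : (N ⟶ X) ≃ₗ[P] ((DRing.restrictD (algebraMap P B)).obj N ⟶ L) :=
    LinearEquiv.ofBijective Ψl hΨ
  have hl2 : BCBij P' (l₂ (P' := P') N X L ε) :=
    bcBij_of_equiv' Ψe (LinearEquiv.refl P' _) _ (ℓ (B := P') _ L) (fun f => rfl) h2
  haveI := isScalarTower_hom_tower (P := P) (P' := P') (B' := B')
    ((EE B B').obj N) ((EE B B').obj X)
  have hl1 : BCBij P' (l₁' (P := P) (B' := B') N X) :=
    bcBij_of_pushout (ℓ (B := B') N X) (l₁' N X) (fun f => rfl) h1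
  have hΦ : Function.Bijective (Φ (P := P) (P' := P') N X L ε) :=
    bijective_of_bcBij (l₁' (P := P) (B' := B') N X) (l₂ (P' := P') N X L ε) _
      (Φ_add N X L ε) (Φ_smul N X L ε) (Φ_l₁' N X L ε) hl1 hl2
  have h3 : (fun g : (EE B B').obj N ⟶ (EE B B').obj X =>
      (DRing.restrictD (algebraMap P' B')).map g ≫ ε' P' B' ε) =
      (fun k => (γ P P' B B').inv.app N ≫ k) ∘ (Φ (P := P) (P' := P') N X L ε) := by
    funext g
    show _ = (γ P P' B B').inv.app N ≫ (γ P P' B B').hom.app N ≫ _
    rw [Iso.inv_hom_id_app_assoc]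
  rw [h3]
  refine Function.Bijective.comp ?_ hΦ
  exact ⟨fun x y hxy => (cancel_epi _).1 hxy,
    fun y => ⟨(γ P P' B B').hom.app N ≫ y, by simp⟩⟩

end Groth.Agent.Lib.helper23.FBCR
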