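import Mathlib
import Groth.Prelude.Def_Wider
import Groth.Prelude.Def_DDual2
import Groth.Agent.Lib.Helper23.ProjCorep

/-!
# The shifts of `R[0]` detect isomorphisms in `D(R)` (helper23)

`isIso_of_bijective_comp`: a morphism `c : U ⟶ V` of `D(R)` such that `g ↦ g ≫ c` is bijective on
`Hom(T j, U)` for objects `T j ≅ R[0]⟦j⟧` (all `j : ℤ`) is an isomorphism.
-/

set_option autoImplicit false
universe u
open CategoryTheory CategoryTheory.Limits DerivedCategory

attribute [local instance] HasDerivedCategory.standard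

namespace Groth.Agent.Lib.helper23.FBCR

open Groth.Agent.Lib.helper23.ProjCorep

variable {R : Type u} [CommRing R]

/-- `R` is a generator of `R`-modules, in the form: `Hom(R, -)` detects isomorphisms. -/
lemma isIso_of_bijective_comp_self {M M' : ModuleCat.{u} R} (h : M ⟶ M')
    (hb : Function.Bijective (fun x : ModuleCat.of R R ⟶ M => x ≫ h)) : IsIso h := by
  rw [ConcreteCategory.isIso_iff_bijective]
  let sp : ∀ {L : ModuleCat.{u} R} (m : L), ModuleCat.of R R ⟶ L :=
    fun {L} m => ModuleCat.ofHom (LinearMap.toSpanSingleton R L m)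
  have hsp : ∀ {L : ModuleCat.{u} R} (m : L), (sp m) (1 : R) = m := by
    intro L m
    show LinearMap.toSpanSingleton R L m 1 = m
    rw [LinearMap.toSpanSingleton_apply, one_smul]
  have hcomp : ∀ m : M, sp m ≫ h = sp (h m) := by
    intro m
    apply ModuleCat.hom_ext
    apply LinearMap.ext
    intro r
    show h (LinearMap.toSpanSingleton R M m r) = LinearMap.toSpanSingleton R M' (h m) r
    rw [LinearMap.toSpanSingleton_apply, LinearMap.toSpanSingleton_apply, map_smul]
  constructor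
  · intro m m' hmm'
    have h1 : sp m ≫ h = sp m' ≫ h := by rw [hcomp, hcomp, hmm']
    have h2 : sp m = sp m' := hb.1 h1
    rw [← hsp m, ← hsp m', h2]
  · intro m'
    obtain ⟨x, hx⟩ := hb.2 (sp m')
    refine ⟨x (1 : R), ?_⟩
    have h3 : (x ≫ h) (1 : R) = (sp m') (1 : R) := by
      dsimp only at hx
      rw [hx]
    rw [hsp] at h3
    exact h3

/-- `R[0]`. -/
noncomputable abbrev sgR : Dual.D R := (singleFunctor (ModuleCat.{u} R) 0).obj (ModuleCat.of R R)

lemma isIso_homology_zero_of_bijective {U V : Dual.D R} (c : U ⟶ V)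
    (h : Function.Bijective (fun g : sgR (R := R) ⟶ U => g ≫ c)) :
    IsIso ((homologyFunctor (ModuleCat.{u} R) 0).map c) := by
  haveI : Projective (ModuleCat.of R R) :=
    (IsProjective.iff_projective (R := R) (P := R)).1 inferInstance
  apply isIso_of_bijective_comp_self
  have h1 := ν_bijective (ModuleCat.of R R) U
  have h2 := ν_bijective (ModuleCat.of R R) V
  have h3 : (fun x : ModuleCat.of R R ⟶ (homologyFunctor (ModuleCat.{u} R) 0).obj U =>
      x ≫ (homologyFunctor (ModuleCat.{u} R) 0).map c) ∘ (ν (ModuleCat.of R R) U) =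
      (ν (ModuleCat.of R R) V) ∘ (fun g : sgR (R := R) ⟶ U => g ≫ c) := by
    funext g
    exact (ν_comp (ModuleCat.of R R) g c).symm
  have h4 : Function.Bijective ((fun x : ModuleCat.of R R ⟶
      (homologyFunctor (ModuleCat.{u} R) 0).obj U =>
      x ≫ (homologyFunctor (ModuleCat.{u} R) 0).map c) ∘ (ν (ModuleCat.of R R) U)) := by
    rw [h3]
    exact h2.comp h
  exact (Function.Bijective.of_comp_iff _ h1).1 h4

/-- **the shifts of `R[0]` detect isomorphisms**. -/
theorem isIso_of_bijective_comp {U V : Dual.D R} (c : U ⟶ V) (T : ℤ → Dual.D R)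
    (eT : ∀ j : ℤ, T j ≅ (sgR (R := R))⟦j⟧)
    (h : ∀ j : ℤ, Function.Bijective (fun g : T j ⟶ U => g ≫ c)) : IsIso c := by
  rw [DerivedCategory.isIso_iff]
  intro n
  -- reduce to `H^0` of the shifted morphism
  have key : IsIso ((homologyFunctor (ModuleCat.{u} R) 0).map (c⟦n⟧')) := by
    apply isIso_homology_zero_of_bijective
    -- `sgR ≅ (T (-n))⟦n⟧`
    let a : sgR (R := R) ≅ (T (-n))⟦n⟧ :=
      ((shiftFunctorCompIsoId (Dual.D R) (-n) n (by omega)).app sgR).symm ≪≫
        (shiftFunctor (Dual.D R) n).mapIso (eT (-n)).symm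
    have hs : Function.Bijective (fun g : T (-n) ⟶ U => g⟦n⟧') :=
      ⟨fun x y hxy => (shiftFunctor (Dual.D R) n).map_injective hxy,
        fun y => (shiftFunctor (Dual.D R) n).map_surjective y⟩
    have hs' : Function.Bijective (fun g : T (-n) ⟶ V => g⟦n⟧') :=
      ⟨fun x y hxy => (shiftFunctor (Dual.D R) n).map_injective hxy,
        fun y => (shiftFunctor (Dual.D R) n).map_surjective y⟩
    have ha : ∀ W : Dual.D R, Function.Bijective (fun k : (T (-n))⟦n⟧ ⟶ W => a.hom ≫ k) :=
      fun W => ⟨fun x y hxy => (cancel_epi a.hom).1 hxy, fun y => ⟨a.inv ≫ y, by simp⟩⟩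
    have h5 : (fun g : sgR (R := R) ⟶ U⟦n⟧ => g ≫ c⟦n⟧') ∘
        ((fun k : (T (-n))⟦n⟧ ⟶ U⟦n⟧ => a.hom ≫ k) ∘ (fun g : T (-n) ⟶ U => g⟦n⟧')) =
        ((fun k : (T (-n))⟦n⟧ ⟶ V⟦n⟧ => a.hom ≫ k) ∘ (fun g : T (-n) ⟶ V => g⟦n⟧')) ∘
          (fun g : T (-n) ⟶ U => g ≫ c) := by
      funext g
      simp only [Function.comp_apply, Functor.map_comp, Category.assoc]
    have h6 : Function.Bijective ((fun g : sgR (R := R) ⟶ U⟦n⟧ => g ≫ c⟦n⟧') ∘
        ((fun k : (T (-n))⟦n⟧ ⟶ U⟦n⟧ => a.hom ≫ k) ∘ (fun g : T (-n) ⟶ U => g⟦n⟧'))) := by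
      rw [h5]
      exact ((ha _).comp hs').comp (h (-n))
    exact (Function.Bijective.of_comp_iff _ ((ha _).comp hs)).1 h6
  exact (NatIso.isIso_map_iff ((homologyFunctor (ModuleCat.{u} R) 0).shiftIso n 0 n (by omega)) c).1 key

end Groth.Agent.Lib.helper23.FBCR
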