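import Mathlib

/-!
# Universal arrows and an abstract Koszul lemma (helper23)

* `IsUniv F L X ε`: `ε : F X ⟶ L` is a universal arrow from `F` to `L` (i.e. `X` is "the value at `L`
  of a right adjoint of `F`"), with the formal calculus (`of_adj`, `iso`, `comp`, `of_natIso`, …).
* `koszul_bijective`: for functors `E, Rπ : 𝒟B ⥤ 𝒟C`, `RC : 𝒟C ⥤ 𝒟B` between pretriangulated categories
  with `E ⊣ RC`, `RC ∘ Rπ ≅ id`, and functorial distinguished triangles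
  `E N --μ--> E N --p--> Rπ N --δ--> (E N)⟦1⟧` with `μ` central, the arrow `δ_L : Rπ L ⟶ (E L)⟦1⟧` is universal.
-/

set_option autoImplicit false
open CategoryTheory CategoryTheory.Limits Pretriangulated

namespace Groth.Agent.Lib.helper23.Kz

section Univ

variable {𝒜 ℬ 𝒞 : Type*} [Category 𝒜] [Category ℬ] [Category 𝒞]

/-- `ε : F X ⟶ L` is a universal arrow from `F` to `L`. -/
def IsUniv (F : 𝒜 ⥤ ℬ) (L : ℬ) (X : 𝒜) (ε : F.obj X ⟶ L) : Prop :=
  ∀ M : 𝒜, Function.Bijective (fun f : M ⟶ X => F.map f ≫ ε)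

variable {F : 𝒜 ⥤ ℬ} {L : ℬ} {X : 𝒜} {ε : F.obj X ⟶ L}

lemma IsUniv.of_adj {G : ℬ ⥤ 𝒜} (adj : F ⊣ G) (L : ℬ) :
    IsUniv F L (G.obj L) (adj.counit.app L) := by
  intro M
  have : (fun f : M ⟶ G.obj L => F.map f ≫ adj.counit.app L) = (adj.homEquiv M L).symm := by
    funext f
    exact (adj.homEquiv_counit _ _ _).symm
  rw [this]
  exact (adj.homEquiv M L).symm.bijective

lemma IsUniv.iso (h : IsUniv F L X ε) {X' : 𝒜} {ε' : F.obj X' ⟶ L} (h' : IsUniv F L X' ε') :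
    Nonempty (X ≅ X') := by
  obtain ⟨a, ha⟩ := (h' X).2 ε
  obtain ⟨b, hb⟩ := (h X').2 ε'
  dsimp only at ha hb
  refine ⟨⟨a, b, ?_, ?_⟩⟩
  · apply (h X).1
    dsimp only
    rw [F.map_comp, Category.assoc, hb, ha, F.map_id, Category.id_comp]
  · apply (h' X').1
    dsimp only
    rw [F.map_comp, Category.assoc, ha, hb, F.map_id, Category.id_comp]

lemma IsUniv.comp (h : IsUniv F L X ε) {F' : ℬ ⥤ 𝒞} {L' : 𝒞} {ε' : F'.obj L ⟶ L'}
    (h' : IsUniv F' L' L ε') : IsUniv (F ⋙ F') L' X (F'.map ε ≫ ε') := by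
  intro M
  have : (fun f : M ⟶ X => (F ⋙ F').map f ≫ F'.map ε ≫ ε') =
      (fun g : F.obj M ⟶ L => F'.map g ≫ ε') ∘ (fun f : M ⟶ X => F.map f ≫ ε) := by
    funext f
    simp only [Function.comp_apply, Functor.comp_map, Functor.map_comp, Category.assoc]
  rw [this]
  exact (h' (F.obj M)).comp (h M)

lemma IsUniv.of_natIso {F' : 𝒜 ⥤ ℬ} (e : F ≅ F') (h : IsUniv F L X ε) :
    IsUniv F' L X (e.inv.app X ≫ ε) := by
  intro M
  have : (fun f : M ⟶ X => F'.map f ≫ e.inv.app X ≫ ε) =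
      (fun g : F.obj M ⟶ L => e.inv.app M ≫ g) ∘ (fun f : M ⟶ X => F.map f ≫ ε) := by
    funext f
    simp only [Function.comp_apply]
    rw [← Category.assoc, e.inv.naturality f, Category.assoc]
  rw [this]
  refine Function.Bijective.comp ?_ (h M)
  exact ⟨fun a b hab => (cancel_epi (e.inv.app M)).1 hab,
    fun g => ⟨e.hom.app M ≫ g, by simp⟩⟩

lemma IsUniv.of_iso_target {L' : ℬ} (e : L ≅ L') (h : IsUniv F L X ε) :
    IsUniv F L' X (ε ≫ e.hom) := by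
  intro M
  have : (fun f : M ⟶ X => F.map f ≫ ε ≫ e.hom) =
      (fun g : F.obj M ⟶ L => g ≫ e.hom) ∘ (fun f : M ⟶ X => F.map f ≫ ε) := by
    funext f
    simp only [Function.comp_apply, Category.assoc]
  rw [this]
  refine Function.Bijective.comp ?_ (h M)
  exact ⟨fun a b hab => (cancel_mono e.hom).1 hab,
    fun g => ⟨g ≫ e.inv, by simp⟩⟩

lemma IsUniv.of_iso_source {X' : 𝒜} (e : X' ≅ X) (h : IsUniv F L X ε) :
    IsUniv F L X' (F.map e.hom ≫ ε) := by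
  intro M
  have : (fun f : M ⟶ X' => F.map f ≫ F.map e.hom ≫ ε) =
      (fun f : M ⟶ X => F.map f ≫ ε) ∘ (fun f : M ⟶ X' => f ≫ e.hom) := by
    funext f
    simp only [Function.comp_apply, Functor.map_comp, Category.assoc]
  rw [this]
  refine Function.Bijective.comp (h M) ?_
  exact ⟨fun a b hab => (cancel_mono e.hom).1 hab,
    fun g => ⟨g ≫ e.inv, by simp⟩⟩

lemma IsUniv.postcomp (G : ℬ ⥤ 𝒞) [G.Full] [G.Faithful] (h : IsUniv F L X ε) :
    IsUniv (F ⋙ G) (G.obj L) X (G.map ε) := by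
  intro M
  have : (fun f : M ⟶ X => (F ⋙ G).map f ≫ G.map ε) =
      (fun g : F.obj M ⟶ L => G.map g) ∘ (fun f : M ⟶ X => F.map f ≫ ε) := by
    funext f
    simp only [Function.comp_apply, Functor.comp_map, Functor.map_comp]
  rw [this]
  refine Function.Bijective.comp ?_ (h M)
  exact ⟨fun a b hab => G.map_injective hab, fun g => G.map_surjective g⟩

end Univ

section Abstract

variable {𝒟B 𝒟C : Type*} [Category 𝒟B] [Category 𝒟C] [Preadditive 𝒟B] [Preadditive 𝒟C]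
  [HasZeroObject 𝒟B] [HasZeroObject 𝒟C] [HasShift 𝒟B ℤ] [HasShift 𝒟C ℤ]
  [∀ n : ℤ, (shiftFunctor 𝒟B n).Additive] [∀ n : ℤ, (shiftFunctor 𝒟C n).Additive]
  [Pretriangulated 𝒟B] [Pretriangulated 𝒟C]
  {E Rπ : 𝒟B ⥤ 𝒟C} {RC : 𝒟C ⥤ 𝒟B} [E.Additive] [Rπ.Additive] [RC.Additive]
  [RC.CommShift ℤ] [RC.IsTriangulated] (adj : E ⊣ RC)

/-- the unit of the adjunction, with its type unfolded. -/
abbrev unit' (L : 𝒟B) : L ⟶ RC.obj (E.obj L) := adj.unit.app L

lemma unit'_naturality {N L : 𝒟B} (f : N ⟶ L) :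
    unit' adj N ≫ RC.map (E.map f) = f ≫ unit' adj L :=
  (adj.unit.naturality f).symm

lemma bijective_unit'_comp (N : 𝒟B) (Y : 𝒟C) :
    Function.Bijective (fun x : E.obj N ⟶ Y => unit' adj N ≫ RC.map x) := by
  have : (fun x : E.obj N ⟶ Y => unit' adj N ≫ RC.map x) = adj.homEquiv N Y := by
    funext x
    exact (adj.homEquiv_unit _ _ _).symm
  rw [this]
  exact (adj.homEquiv N Y).bijective

variable (c : ∀ L, RC.obj (Rπ.obj L) ≅ L)
  (μ : E ⟶ E) (p : E ⟶ Rπ) (δ : Rπ ⟶ E ⋙ shiftFunctor 𝒟C (1 : ℤ))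
  (hT : ∀ N, Triangle.mk (μ.app N) (p.app N) (δ.app N) ∈ distTriang 𝒟C)
  (hp : ∀ L, unit' adj L ≫ RC.map (p.app L) ≫ (c L).hom = 𝟙 L)
  (hc : ∀ (N L : 𝒟B) (h : E.obj N ⟶ E.obj L), μ.app N ≫ h = h ≫ μ.app L)
  (hc' : ∀ (N L : 𝒟B) (h : E.obj N ⟶ (E.obj L)⟦(1 : ℤ)⟧),
    μ.app N ≫ h = h ≫ (μ.app L)⟦(1 : ℤ)⟧')

include hT in
lemma μ_p (L : 𝒟B) : μ.app L ≫ p.app L = 0 :=
  comp_distTriang_mor_zero₁₂ _ (hT L)

include hT in
lemma p_δ (L : 𝒟B) : p.app L ≫ δ.app L = 0 :=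
  comp_distTriang_mor_zero₂₃ _ (hT L)

include hT in
lemma δ_μ (L : 𝒟B) : δ.app L ≫ (μ.app L)⟦(1 : ℤ)⟧' = 0 := by
  have h : δ.app L ≫ (-(μ.app L)⟦(1 : ℤ)⟧') = 0 :=
    comp_distTriang_mor_zero₂₃ _ (rot_of_distTriang _ (hT L))
  rw [Preadditive.comp_neg, neg_eq_zero] at h
  exact h

include hT hp in
lemma exists_split (L : 𝒟B) :
    ∃ ρ : RC.obj (E.obj L) ⟶ RC.obj (E.obj L), RC.map (μ.app L) ≫ ρ = 𝟙 _ ∧
      ρ ≫ RC.map (μ.app L) + (RC.map (p.app L) ≫ (c L).hom) ≫ unit' adj L = 𝟙 _ := by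
  have hT' : RC.mapTriangle.obj (Triangle.mk (μ.app L) (p.app L) (δ.app L)) ∈ distTriang 𝒟B :=
    RC.map_distinguished _ (hT L)
  set T' := RC.mapTriangle.obj (Triangle.mk (μ.app L) (p.app L) (δ.app L)) with hT'def
  have e : unit' adj L ≫ RC.map (p.app L) = (c L).inv := by
    rw [← cancel_mono (c L).hom, Category.assoc, Iso.inv_hom_id]
    exact hp L
  have h3 : T'.mor₃ = 0 := by
    have h23 : RC.map (p.app L) ≫ T'.mor₃ = 0 := comp_distTriang_mor_zero₂₃ _ hT'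
    have : (c L).inv ≫ T'.mor₃ = 0 := by rw [← e, Category.assoc, h23, comp_zero]
    exact (cancel_epi (c L).inv).1 (this.trans comp_zero.symm)
  haveI : Mono (RC.map (μ.app L)) := (Triangle.mor₃_eq_zero_iff_mono₁ T' hT').1 h3
  haveI : IsSplitMono (RC.map (μ.app L)) := isSplitMono_of_mono _
  let f : RC.obj (E.obj L) ⟶ RC.obj (E.obj L) := RC.map (μ.app L)
  let g : RC.obj (E.obj L) ⟶ L := RC.map (p.app L) ≫ (c L).hom
  let s : L ⟶ RC.obj (E.obj L) := unit' adj L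
  have hsg : s ≫ g = 𝟙 L := hp L
  have hfg : f ≫ g = 0 := by
    show RC.map (μ.app L) ≫ RC.map (p.app L) ≫ (c L).hom = 0
    rw [← Category.assoc, ← RC.map_comp, μ_p μ p δ hT L, RC.map_zero, zero_comp]
  let ρ' : RC.obj (E.obj L) ⟶ RC.obj (E.obj L) := retraction f
  have hρ' : f ≫ ρ' = 𝟙 _ := IsSplitMono.id f
  obtain ⟨w, hw⟩ := Triangle.yoneda_exact₂ T' hT' (𝟙 _ - ρ' ≫ f) (by
    show f ≫ (𝟙 _ - ρ' ≫ f) = 0
    rw [Preadditive.comp_sub, Category.comp_id, ← Category.assoc, hρ', Category.id_comp, sub_self])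
  replace hw : 𝟙 _ - ρ' ≫ f = RC.map (p.app L) ≫ w := hw
  let w' : L ⟶ RC.obj (E.obj L) := (c L).inv ≫ w
  have hw' : 𝟙 _ - ρ' ≫ f = g ≫ w' := by
    show _ = (RC.map (p.app L) ≫ (c L).hom) ≫ (c L).inv ≫ w
    rw [hw, Category.assoc, Iso.hom_inv_id_assoc]
  have hw'g : w' ≫ g = 𝟙 L := by
    haveI : IsSplitEpi g := IsSplitEpi.mk' ⟨s, hsg⟩
    rw [← cancel_epi g, ← Category.assoc, ← hw', Preadditive.sub_comp, Category.id_comp,
      Category.assoc, hfg, comp_zero, sub_zero, Category.comp_id]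
  obtain ⟨v, hv⟩ : ∃ v : L ⟶ RC.obj (E.obj L), w' - s = v ≫ f :=
      Triangle.coyoneda_exact₂ T' hT' (w' - s) (by
    show (w' - s) ≫ RC.map (p.app L) = 0
    rw [← cancel_mono (c L).hom, zero_comp, Category.assoc]
    show (w' - s) ≫ g = 0
    rw [Preadditive.sub_comp, hw'g, hsg, sub_self])
  refine ⟨ρ' + g ≫ v, ?_, ?_⟩
  · show f ≫ (ρ' + g ≫ v) = 𝟙 _
    rw [Preadditive.comp_add, hρ', ← Category.assoc, hfg, zero_comp, add_zero]
  · show (ρ' + g ≫ v) ≫ f + g ≫ s = 𝟙 _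
    have h1 : g ≫ v ≫ f = g ≫ w' - g ≫ s := by rw [← hv, Preadditive.comp_sub]
    rw [Preadditive.add_comp, Category.assoc, h1, ← hw']
    abel

include hT hp hc hc' in
theorem koszul_bijective (N L : 𝒟B) :
    Function.Bijective (fun f : N ⟶ L => Rπ.map f ≫ δ.app L) := by
  have ha := bijective_unit'_comp adj N
  have hnat : ∀ f : N ⟶ L, Rπ.map f ≫ δ.app L = δ.app N ≫ (E.map f)⟦(1 : ℤ)⟧' :=
    fun f => δ.naturality f
  have hzero : ∀ f : N ⟶ L, Rπ.map f ≫ δ.app L = 0 → f = 0 := by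
    intro f hf
    rw [hnat] at hf
    obtain ⟨k', hk'⟩ := Triangle.yoneda_exact₂ _
      (rot_of_distTriang _ (rot_of_distTriang _ (hT N))) ((E.map f)⟦(1 : ℤ)⟧') hf
    obtain ⟨k, rfl⟩ := (shiftFunctor 𝒟C (1 : ℤ)).map_surjective (X := E.obj N) (Y := E.obj L) k'
    replace hk' : (E.map f)⟦(1 : ℤ)⟧' = (-(μ.app N)⟦(1 : ℤ)⟧') ≫ k⟦(1 : ℤ)⟧' := hk'
    have hk : E.map f = -(k ≫ μ.app L) := by
      apply (shiftFunctor 𝒟C (1 : ℤ)).map_injective
      rw [hk', ← hc N L k, Functor.map_neg, Functor.map_comp, Preadditive.neg_comp]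
    have h1 : f ≫ unit' adj L = -((unit' adj N ≫ RC.map k) ≫ RC.map (μ.app L)) := by
      rw [← unit'_naturality, hk, Functor.map_neg, Functor.map_comp, Preadditive.comp_neg,
        Category.assoc]
    have h2 : (f ≫ unit' adj L) ≫ RC.map (p.app L) ≫ (c L).hom =
        (-((unit' adj N ≫ RC.map k) ≫ RC.map (μ.app L))) ≫ RC.map (p.app L) ≫ (c L).hom := by
      rw [h1]
    rw [Category.assoc, hp L, Category.comp_id, Preadditive.neg_comp, Category.assoc,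
      ← Category.assoc (RC.map (μ.app L)), ← RC.map_comp, μ_p μ p δ hT L, RC.map_zero,
      zero_comp, comp_zero, neg_zero] at h2
    exact h2
  constructor
  · intro f f' hff'
    have : Rπ.map (f - f') ≫ δ.app L = 0 := by
      rw [Functor.map_sub, Preadditive.sub_comp]
      exact sub_eq_zero.2 hff'
    exact sub_eq_zero.1 (hzero _ this)
  · intro (φ : Rπ.obj N ⟶ (E.obj L)⟦(1 : ℤ)⟧)
    -- Step 1
    have h1 : p.app N ≫ φ = 0 := by
      have hμψ : μ.app N ≫ (p.app N ≫ φ) = 0 := by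
        rw [← Category.assoc, μ_p μ p δ hT N, zero_comp]
      rw [hc' N L (p.app N ≫ φ)] at hμψ
      obtain ⟨ρ, hρ1, -⟩ := exists_split adj c μ p δ hT hp L
      apply (ha _).1
      show unit' adj N ≫ RC.map (p.app N ≫ φ) = unit' adj N ≫ RC.map 0
      rw [RC.map_zero, comp_zero]
      have h : unit' adj N ≫ RC.map (p.app N ≫ φ) ≫ RC.map ((μ.app L)⟦(1 : ℤ)⟧') = 0 := by
        rw [← RC.map_comp, hμψ, RC.map_zero, comp_zero]
      have hsplit : RC.map ((μ.app L)⟦(1 : ℤ)⟧') ≫ ((RC.commShiftIso (1 : ℤ)).hom.app (E.obj L) ≫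
          ρ⟦(1 : ℤ)⟧' ≫ (RC.commShiftIso (1 : ℤ)).inv.app (E.obj L)) = 𝟙 _ := by
        have hn := (RC.commShiftIso (1 : ℤ)).hom.naturality (μ.app L)
        dsimp at hn
        rw [← Category.assoc, hn, Category.assoc, ← Functor.map_comp_assoc, hρ1,
          CategoryTheory.Functor.map_id, Category.id_comp, Iso.hom_inv_id_app]
        rfl
      calc unit' adj N ≫ RC.map (p.app N ≫ φ)
          = unit' adj N ≫ RC.map (p.app N ≫ φ) ≫ (RC.map ((μ.app L)⟦(1 : ℤ)⟧') ≫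
            ((RC.commShiftIso (1 : ℤ)).hom.app (E.obj L) ≫
            ρ⟦(1 : ℤ)⟧' ≫ (RC.commShiftIso (1 : ℤ)).inv.app (E.obj L))) := by
              rw [hsplit, Category.comp_id]
        _ = (unit' adj N ≫ RC.map (p.app N ≫ φ) ≫ RC.map ((μ.app L)⟦(1 : ℤ)⟧')) ≫
            ((RC.commShiftIso (1 : ℤ)).hom.app (E.obj L) ≫
            ρ⟦(1 : ℤ)⟧' ≫ (RC.commShiftIso (1 : ℤ)).inv.app (E.obj L)) := by
              simp only [Category.assoc]
        _ = 0 := by rw [h, zero_comp]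
    -- Step 2
    obtain ⟨h', hh'⟩ := Triangle.yoneda_exact₃ _ (hT N) φ h1
    obtain ⟨h, rfl⟩ := (shiftFunctor 𝒟C (1 : ℤ)).map_surjective (X := E.obj N) (Y := E.obj L) h'
    replace hh' : φ = δ.app N ≫ h⟦(1 : ℤ)⟧' := hh'
    -- Step 3
    obtain ⟨ρ, hρ1, hρ2⟩ := exists_split adj c μ p δ hT hp L
    let g : RC.obj (E.obj L) ⟶ L := RC.map (p.app L) ≫ (c L).hom
    let ah : N ⟶ RC.obj (E.obj L) := unit' adj N ≫ RC.map h
    obtain ⟨k, hk⟩ := (ha (E.obj L)).2 (-(ah ≫ ρ))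
    replace hk : unit' adj N ≫ RC.map k = -(ah ≫ ρ) := hk
    refine ⟨ah ≫ g, ?_⟩
    show Rπ.map (ah ≫ g) ≫ δ.app L = φ
    rw [hnat, hh']
    have hgu : g ≫ unit' adj L = 𝟙 _ - ρ ≫ RC.map (μ.app L) := by
      rw [eq_sub_iff_add_eq, add_comm]; exact hρ2
    have hdiff : E.map (ah ≫ g) - h = μ.app N ≫ k := by
      apply (ha (E.obj L)).1
      show unit' adj N ≫ RC.map (E.map (ah ≫ g) - h) = unit' adj N ≫ RC.map (μ.app N ≫ k)
      have hah : unit' adj N ≫ RC.map h = ah := rfl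
      rw [hc N L k, RC.map_comp, ← Category.assoc (unit' adj N), hk, Functor.map_sub,
        Preadditive.comp_sub, unit'_naturality, Category.assoc ah g, hgu, Preadditive.comp_sub,
        Category.comp_id, Preadditive.neg_comp, Category.assoc]
      simp only [ah, Category.assoc]
      abel
    have : (E.map (ah ≫ g))⟦(1 : ℤ)⟧' = h⟦(1 : ℤ)⟧' + (μ.app N)⟦(1 : ℤ)⟧' ≫ k⟦(1 : ℤ)⟧' := by
      rw [← Functor.map_comp, ← Functor.map_add, ← hdiff]
      congr 1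
      abel
    rw [this, Preadditive.comp_add, ← Category.assoc, δ_μ μ p δ hT N, zero_comp, add_zero]

end Abstract

end Groth.Agent.Lib.helper23.Kz
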