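import Mathlib
import Groth.Prelude.Def_Wider
import Groth.Prelude.Def_DDual2
import Groth.Agent.Lib.Helper23.FBCR3
import Groth.Agent.Lib.Helper23.FBCR4
import Groth.Agent.Lib.Helper23.FBC9
import Groth.Agent.Lib.Helper23.RHomEx
import Groth.Agent.Lib.Helper23.Kz1

/-!
# Flat base change for `RHom_P(B, -)`, `B` finite over the Noetherian ring `P` (helper23)

Pushout square `P → B`, `P → P'`, `B → B'`, `P' → B'` with `P → P'` (hence `B → B'`) flat, `P` Noetherian and `B`
finite over `P`.

* `isUniv_baseChange`: if `ε : X|_P ⟶ L` is a universal arrow from restriction of scalars `D(B) ⥤ D(P)` to the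
  bounded below object `L` (i.e. `X = RHom_P(B, L)`), then its base change `ε' : (X ⊗_B B')|_{P'} ⟶ L ⊗_P P'` is a
  universal arrow from restriction of scalars `D(B') ⥤ D(P')`.
* `nonempty_iso_baseChange`: for right adjoints `Rψ`, `Rψ'` of the two restrictions of scalars,
  `Rψ(L) ⊗_B B' ≅ Rψ'(L ⊗_P P')`.
-/

set_option autoImplicit false
universe u
open CategoryTheory CategoryTheory.Limits DerivedCategory TensorProduct

attribute [local instance] HasDerivedCategory.standard

namespace Groth.Agent.Lib.helper23.FBCR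

open Groth.Agent.Lib.helper23.FBC Groth.Agent.Lib.helper23.RAdj Groth.Agent.Lib.helper23.Kz

attribute [local instance 50] homModuleA
attribute [local instance] FlatBC.preservesFiniteLimits_extendScalars_algebraMap

section Gen

variable {B B' : Type u} [CommRing B] [CommRing B'] [Algebra B B'] [Module.Flat B B']

/-- `R[0]⟦j⟧`. -/
noncomputable abbrev Nj (B : Type u) [CommRing B] (j : ℤ) : Dual.D B := (sgR (R := B))⟦j⟧

variable (B') in
lemma BB_Nj (X : Dual.D B) (j : ℤ) : BB B' (Nj B j) X := by
  haveI : Projective (ModuleCat.of B B) :=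
    (IsProjective.iff_projective (R := B) (P := B)).1 inferInstance
  haveI : Module.FinitePresentation B (ModuleCat.of B B) :=
    inferInstanceAs (Module.FinitePresentation B B)
  have h0 : BB B' (sg (ModuleCat.of B B)) (X⟦-j⟧) := BB_single_projective (ModuleCat.of B B) _
  exact BB.of_iso (Iso.refl _) ((shiftFunctorCompIsoId (Dual.D B) (-j) j (by omega)).app X)
    (BB.shift j h0)

variable (B B') in
/-- `B[0]⟦j⟧ ⊗_B B' ≅ B'[0]⟦j⟧`. -/
noncomputable def eT (j : ℤ) : (EE B B').obj (Nj B j) ≅ (sgR (R := B'))⟦j⟧ :=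
  EEshiftIso B' (sgR (R := B)) j ≪≫
    (shiftFunctor (Dual.D B') j).mapIso (EEsingleIso B' (ModuleCat.of B B) ≪≫
      (singleFunctor (ModuleCat.{u} B') 0).mapIso
        (((ExtSc.extendObjEquiv (B := B') (ModuleCat.of B B)).trans
          (TensorProduct.AlgebraTensorModule.rid B B' B')).toModuleIso))

end Gen

variable {P P' B B' : Type u} [CommRing P] [CommRing P'] [CommRing B] [CommRing B']
  [Algebra P P'] [Algebra P B] [Algebra B B'] [Algebra P' B'] [Algebra P B']
  [IsScalarTower P B B'] [IsScalarTower P P' B'] [Algebra.IsPushout P P' B B']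
  [Module.Flat P P'] [Module.Flat B B']

variable (P') in
lemma BB_res_Nj [IsNoetherianRing P] [Module.Finite P B] (L : Dual.D P) (c : ℤ) [L.IsGE c]
    (j : ℤ) : BB P' ((DRing.restrictD (algebraMap P B)).obj (Nj B j)) L := by
  let M : ModuleCat.{u} P := (ModuleCat.restrictScalars.{u} (algebraMap P B)).obj (ModuleCat.of B B)
  haveI : Module.Finite P M := Module.Finite.equiv (ExtSc.e₀ (A := P) (B := B)).symm
  have h0 : BB P' (sg M) (L⟦-j⟧) := BB_single_finite' P' L c (-j) M
  let eX : (sg M)⟦j⟧ ≅ (DRing.restrictD (algebraMap P B)).obj (Nj B j) :=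
    (shiftFunctor (Dual.D P) j).mapIso
      (((ModuleCat.restrictScalars.{u} (algebraMap P B)).mapDerivedCategorySingleFunctor 0).app
        (ModuleCat.of B B)).symm ≪≫
      (((DRing.restrictD (algebraMap P B)).commShiftIso j).app (sgR (R := B))).symm
  exact BB.of_iso eX ((shiftFunctorCompIsoId (Dual.D P) (-j) j (by omega)).app L)
    (BB.shift j h0)

/-- **flat base change of universal arrows of restriction of scalars**. -/
theorem isUniv_baseChange [IsNoetherianRing P] [Module.Finite P B]
    (X : Dual.D B) (L : Dual.D P) (c : ℤ) [L.IsGE c]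
    (ε : (DRing.restrictD (algebraMap P B)).obj X ⟶ L)
    (h : IsUniv (DRing.restrictD (algebraMap P B)) L X ε) :
    IsUniv (DRing.restrictD (algebraMap P' B')) ((EE P P').obj L) ((EE B B').obj X)
      (ε' P' B' ε) := by
  obtain ⟨R', ⟨adj'⟩⟩ := RHomEx.exists_rightAdjoint_restrictD (algebraMap P' B')
  let cc : (EE B B').obj X ⟶ R'.obj ((EE P P').obj L) := adj'.homEquiv _ _ (ε' P' B' ε)
  have hcc : IsIso cc := by
    refine isIso_of_bijective_comp cc (fun j => (EE B B').obj (Nj B j)) (eT B B') (fun j => ?_)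
    have h1 := bijective_Ψ' (P' := P') (B' := B') (Nj B j) X L ε (h (Nj B j)) (BB_Nj B' X j)
      (BB_res_Nj P' L c j)
    have h2 : (fun g : (EE B B').obj (Nj B j) ⟶ (EE B B').obj X => g ≫ cc) =
        (adj'.homEquiv _ _) ∘ (fun g : (EE B B').obj (Nj B j) ⟶ (EE B B').obj X =>
          (DRing.restrictD (algebraMap P' B')).map g ≫ ε' P' B' ε) := by
      funext g
      exact (adj'.homEquiv_naturality_left g (ε' P' B' ε)).symm
    rw [h2]
    exact (adj'.homEquiv _ _).bijective.comp h1
  have h3 := (IsUniv.of_adj adj' ((EE P P').obj L)).of_iso_source (asIso cc)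
  have h4 : (DRing.restrictD (algebraMap P' B')).map (asIso cc).hom ≫
      adj'.counit.app ((EE P P').obj L) = ε' P' B' ε := by
    rw [asIso_hom]
    exact (adj'.homEquiv_counit _ _ cc).symm.trans ((adj'.homEquiv _ _).symm_apply_apply _)
  rw [h4] at h3
  exact h3

/-- **flat base change for `RHom_P(B, -)`** (`B` finite over the Noetherian ring `P`, `L` bounded below). -/
theorem nonempty_iso_baseChange [IsNoetherianRing P] [Module.Finite P B]
    (Rψ : Dual.D P ⥤ Dual.D B) (adj : DRing.restrictD (algebraMap P B) ⊣ Rψ)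
    (Rψ' : Dual.D P' ⥤ Dual.D B') (adj' : DRing.restrictD (algebraMap P' B') ⊣ Rψ')
    (L : Dual.D P) (c : ℤ) [L.IsGE c] :
    Nonempty ((EE B B').obj (Rψ.obj L) ≅ Rψ'.obj ((EE P P').obj L)) :=
  (isUniv_baseChange (P' := P') (B' := B') (Rψ.obj L) L c (adj.counit.app L)
    (IsUniv.of_adj adj L)).iso (IsUniv.of_adj adj' _)

end Groth.Agent.Lib.helper23.FBCR
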