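import Mathlib
import Groth.Prelude.Def_Wider
import Groth.Prelude.Def_DDual2
import Groth.Agent.Lib.Helper23.DimFn13
import Groth.Agent.Lib.Helper23.DualD8
import Groth.Agent.Lib.Helper23.FBC5

/-!
# Dualizing complexes over a field (helper23)

`exists_iso_shift_of_isDualizing_field`: a dualizing complex over a ring `k` whose zero ideal is maximal (a field) is
isomorphic to a shift of `k[0]`.
-/

set_option autoImplicit false
universe u
open CategoryTheory CategoryTheory.Limits DerivedCategory Pretriangulated TensorProduct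

attribute [local instance] HasDerivedCategory.standard

namespace Groth.Agent.Lib.helper23.GFA

open Groth.Agent.Lib.helper23.FBC Groth.Agent.Lib.helper23.BassD Groth.Agent.Lib.helper23.DimFn

variable {k : Type u} [CommRing k]

/-- `Hom(k[0], Y) ≃ H^0(Y)`, `k`-linearly. -/
noncomputable def homSelfEquiv (Y : Dual.D k) :
    (BassD.sg (ModuleCat.of k k) ⟶ Y) ≃ₗ[k] (homologyFunctor (ModuleCat.{u} k) 0).obj Y :=
  haveI : Projective (ModuleCat.of k k) :=
    (IsProjective.iff_projective (R := k) (P := k)).1 inferInstance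
  haveI : Module.FinitePresentation k (ModuleCat.of k k) :=
    inferInstanceAs (Module.FinitePresentation k k)
  (eMbase (ModuleCat.of k k) Y) ≪≫ₗ
    (Linear.homCongr k ((singleFunctorCompHomologyFunctorIso (ModuleCat.{u} k) 0).app
      (ModuleCat.of k k)) (Iso.refl _)) ≪≫ₗ
    (ModuleCat.homLinearEquiv (S := k)) ≪≫ₗ
    (LinearMap.ringLmapEquivSelf k k _)

theorem exists_iso_shift_of_isDualizing_field (hk : (⊥ : Ideal k).IsMaximal) (V : Dual.D k)
    (hV : Dual.IsDualizing k V) :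
    ∃ n : ℤ, Nonempty (V ≅ (Dual.inD k k)⟦n⟧) := by
  haveI : IsNoetherianRing k := hV.isNoetherianRing
  obtain ⟨n, h1, ⟨e⟩⟩ := DualD.ext_residue_single_degree V hV ⊥
  let q : ModuleCat.of k (k ⧸ (⊥ : Ideal k)) ≅ ModuleCat.of k k :=
    (Submodule.quotEquivOfEqBot (⊥ : Ideal k) rfl).toModuleIso
  let sq : Dual.inD k (k ⧸ (⊥ : Ideal k)) ≅ BassD.sg (ModuleCat.of k k) :=
    (singleFunctor (ModuleCat.{u} k) 0).mapIso q
  -- vanishing of cohomology outside degree `n`
  have hvan : ∀ i : ℤ, i ≠ n → IsZero ((homologyFunctor (ModuleCat.{u} k) i).obj V) := by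
    intro i hi
    haveI := h1 i hi
    haveI : Subsingleton (BassD.sg (ModuleCat.of k k) ⟶ V⟦i⟧) :=
      subsingleton_hom_of_iso sq (Iso.refl (V⟦i⟧))
    exact (ModuleCat.isZero_iff_subsingleton).2 ((subsingleton_HD_iff V i).2
      ((VZ_iff_subsingleton V i _).2 inferInstance))
  haveI : V.IsGE n := (DerivedCategory.isGE_iff V n).2 (fun i hi => hvan i (by omega))
  haveI : V.IsLE n := (DerivedCategory.isLE_iff V n).2 (fun i hi => hvan i (by omega))
  obtain ⟨e1⟩ := DualD.exists_iso_single_homology V n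
  -- `H^n(V) ≅ k`
  let e2 : (homologyFunctor (ModuleCat.{u} k) n).obj V ≃ₗ[k] k :=
    (FlatBC.homologyShiftIso V n 0 n (by omega)).toLinearEquiv.symm ≪≫ₗ
      (homSelfEquiv (V⟦n⟧)).symm ≪≫ₗ
      (Linear.homCongr k sq.symm (Iso.refl (V⟦n⟧))) ≪≫ₗ e ≪≫ₗ
      (Submodule.quotEquivOfEqBot (⊥ : Ideal k) rfl)
  let e3 : (homologyFunctor (ModuleCat.{u} k) n).obj V ≅ ModuleCat.of k k := e2.toModuleIso
  refine ⟨-n, ⟨e1 ≪≫ (singleFunctor (ModuleCat.{u} k) n).mapIso e3 ≪≫ ?_⟩⟩
  exact (((singleFunctors (ModuleCat.{u} k)).shiftIso (-n) n 0 (by omega)).app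
    (ModuleCat.of k k)).symm

end Groth.Agent.Lib.helper23.GFA
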