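import Mathlib
import Groth.Prelude.Def_Wider
import Groth.Prelude.Def_DDual2
import Groth.Agent.Lib.Helper23.RAdj2

/-!
# `Hom_{D(B)}(B/q, R ω[i])` versus `Hom_{D(A)}(A/p, ω[i])` for `A → B` surjective (helper23, S8970)
-/

set_option autoImplicit false
universe u
open CategoryTheory CategoryTheory.Limits DerivedCategory Opposite

attribute [local instance] HasDerivedCategory.standard

namespace Groth.Agent.Lib.helper23.RAdj

variable {A B : Type u} [CommRing A] [CommRing B] [Algebra A B]

/-- `A/φ⁻¹(q) → B/q` as a map of `A`-modules. -/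
noncomputable def quotMapLin (q : Ideal B) :
    (A ⧸ q.comap (algebraMap A B)) →ₗ[A]
      ((ModuleCat.restrictScalars.{u} (algebraMap A B)).obj (ModuleCat.of B (B ⧸ q))) :=
  Submodule.liftQ (q.comap (algebraMap A B))
    ({ toFun := fun a => Ideal.Quotient.mk q (algebraMap A B a)
       map_add' := fun a b => by
        rw [map_add, map_add]
        rfl
       map_smul' := fun a b => by
        show Ideal.Quotient.mk q (algebraMap A B (a * b)) = _
        rw [map_mul, map_mul]
        rfl } : A →ₗ[A]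
      ((ModuleCat.restrictScalars.{u} (algebraMap A B)).obj (ModuleCat.of B (B ⧸ q))))
    (by
      intro a ha
      rw [LinearMap.mem_ker]
      show Ideal.Quotient.mk q (algebraMap A B a) = 0
      rw [Ideal.Quotient.eq_zero_iff_mem]
      exact ha)

lemma quotMapLin_mk (q : Ideal B) (a : A) :
    quotMapLin q (Ideal.Quotient.mk _ a) = Ideal.Quotient.mk q (algebraMap A B a) := rfl

lemma quotMapLin_bijective (hs : Function.Surjective (algebraMap A B)) (q : Ideal B) :
    Function.Bijective (quotMapLin (A := A) q) := by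
  constructor
  · rw [← LinearMap.ker_eq_bot, eq_bot_iff]
    intro x hx
    obtain ⟨a, rfl⟩ := Ideal.Quotient.mk_surjective x
    rw [LinearMap.mem_ker, quotMapLin_mk] at hx
    have hx' : (Ideal.Quotient.mk q (algebraMap A B a) : B ⧸ q) = 0 := hx
    rw [Ideal.Quotient.eq_zero_iff_mem] at hx'
    rw [Submodule.mem_bot, Ideal.Quotient.eq_zero_iff_mem]
    exact hx'
  · intro y
    obtain ⟨b, rfl⟩ := Ideal.Quotient.mk_surjective (I := q) y
    obtain ⟨a, rfl⟩ := hs b
    exact ⟨Ideal.Quotient.mk _ a, rfl⟩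

/-- `A/p ≅ (B/q)_A`. -/
noncomputable def quotIso (hs : Function.Surjective (algebraMap A B)) (q : Ideal B) :
    ModuleCat.of A (A ⧸ q.comap (algebraMap A B)) ≅
      (ModuleCat.restrictScalars.{u} (algebraMap A B)).obj (ModuleCat.of B (B ⧸ q)) :=
  (LinearEquiv.ofBijective (quotMapLin q) (quotMapLin_bijective hs q)).toModuleIso

variable (R : Dual.D A ⥤ Dual.D B) (adj : DRing.restrictD (algebraMap A B) ⊣ R)

/-- the semilinear bijection. -/
noncomputable def quotEquiv (hs : Function.Surjective (algebraMap A B)) (q : Ideal B)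
    (ω : Dual.D A) (i : ℤ) :
    (Dual.inD B (B ⧸ q) ⟶ (R.obj ω)⟦i⟧) ≃
      (Dual.inD A (A ⧸ q.comap (algebraMap A B)) ⟶ ω⟦i⟧) :=
  (shiftEquiv adj (Dual.inD B (B ⧸ q)) ω i).trans
    (Iso.homCongr
      ((((ModuleCat.restrictScalars.{u} (algebraMap A B)).mapDerivedCategorySingleFunctor 0).app
        (ModuleCat.of B (B ⧸ q))) ≪≫
        ((singleFunctor (ModuleCat.{u} A) 0).mapIso (quotIso hs q)).symm) (Iso.refl (ω⟦i⟧)))

lemma quotEquiv_smul (hs : Function.Surjective (algebraMap A B)) (q : Ideal B)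
    (ω : Dual.D A) (i : ℤ) (x : Dual.inD B (B ⧸ q) ⟶ (R.obj ω)⟦i⟧) (a : A) :
    quotEquiv R adj hs q ω i (algebraMap A B a • x) = a • quotEquiv R adj hs q ω i x := by
  dsimp only [quotEquiv, Equiv.trans_apply]
  rw [shiftEquiv_smul, Iso.homCongr_apply, Iso.homCongr_apply, Linear.smul_comp, Linear.comp_smul]

lemma quotEquiv_zero (hs : Function.Surjective (algebraMap A B)) (q : Ideal B)
    (ω : Dual.D A) (i : ℤ) : quotEquiv R adj hs q ω i 0 = 0 := by
  dsimp only [quotEquiv, Equiv.trans_apply]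
  rw [shiftEquiv_zero, Iso.homCongr_apply, zero_comp, comp_zero]

include adj in
/-- S8970. -/
theorem nontrivial_localized_iff (hs : Function.Surjective (algebraMap A B))
    (ω : Dual.D A) (q : PrimeSpectrum B) (i : ℤ) :
    Nontrivial (LocalizedModule q.asIdeal.primeCompl
      (Dual.inD B (B ⧸ q.asIdeal) ⟶ (R.obj ω)⟦i⟧)) ↔
    Nontrivial (LocalizedModule (q.asIdeal.comap (algebraMap A B)).primeCompl
      (Dual.inD A (A ⧸ q.asIdeal.comap (algebraMap A B)) ⟶ ω⟦i⟧)) := by
  rw [← not_subsingleton_iff_nontrivial, ← not_subsingleton_iff_nontrivial, not_iff_not,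
    LocalizedModule.subsingleton_iff, LocalizedModule.subsingleton_iff]
  let E := quotEquiv R adj hs q.asIdeal ω i
  constructor
  · intro H y
    obtain ⟨r, hr, hrx⟩ := H (E.symm y)
    obtain ⟨a, rfl⟩ := hs r
    refine ⟨a, hr, ?_⟩
    have h1 : a • y = E (algebraMap A B a • E.symm y) := by
      rw [quotEquiv_smul, Equiv.apply_symm_apply]
    rw [h1, hrx]
    exact quotEquiv_zero R adj hs q.asIdeal ω i
  · intro H x
    obtain ⟨a, ha, hax⟩ := H (E x)
    refine ⟨algebraMap A B a, ha, ?_⟩
    apply E.injective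
    rw [quotEquiv_smul, hax]
    exact (quotEquiv_zero R adj hs q.asIdeal ω i).symm

end Groth.Agent.Lib.helper23.RAdj
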