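import Mathlib
import Groth.Prelude.Def_Wider
import Groth.Prelude.Def_DDual2
import Groth.Prelude.Def_CAlg
import Groth.Agent.Lib.Helper23.GFA1
import Groth.Agent.Lib.Helper23.FBCR5
import Groth.Agent.Lib.Helper23.RAdj8
import Groth.Agent.Lib.Helper23.RAdj6
import Groth.Agent.Lib.Helper23.BaerD
import Groth.Agent.S11179

/-!
# Flat local homomorphisms with Gorenstein closed fibre preserve dualizing complexes (helper23)

`isDualizing_EE_of_gorenstein_closedFibre`: `(A, m) → (B, n)` a flat local homomorphism of Noetherian local rings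
such that `B/mB` is a Gorenstein local ring; if `ω` is a dualizing complex for `A` then `ω ⊗_A B` is a dualizing
complex for `B`.
-/

set_option autoImplicit false
universe u
open CategoryTheory CategoryTheory.Limits DerivedCategory Pretriangulated TensorProduct

attribute [local instance] HasDerivedCategory.standard

namespace Groth.Agent.Lib.helper23.GFA

open Groth.Agent.Lib.helper23.FBC Groth.Agent.Lib.helper23.BassD Groth.Agent.Lib.helper23.DimFn
  Groth.Agent.Lib.helper23.RAdj Groth.Agent.Lib.helper23.FBCR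

attribute [local instance 50] homModuleA
attribute [local instance] FlatBC.preservesFiniteLimits_extendScalars_algebraMap

section Pushout

variable {A B : Type u} [CommRing A] [CommRing B] [Algebra A B] (I : Ideal A)
  (J : Ideal B) [J.LiesOver I]

/-- `B/IB = B ⊗_A A/I` as a pushout square. -/
lemma isPushout_quotient (hJ : J = I.map (algebraMap A B)) :
    Algebra.IsPushout A B (A ⧸ I) (B ⧸ J) := by
  subst hJ
  refine ⟨IsBaseChange.of_equiv
    (Algebra.TensorProduct.quotIdealMapEquivTensorQuot B I).symm.toLinearEquiv (fun x => ?_)⟩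
  obtain ⟨a, rfl⟩ := Ideal.Quotient.mk_surjective x
  show (Algebra.TensorProduct.quotIdealMapEquivTensorQuot B I).symm
    ((1 : B) ⊗ₜ[A] (Ideal.Quotient.mk I a)) = algebraMap (A ⧸ I) (B ⧸ I.map (algebraMap A B))
      (Ideal.Quotient.mk I a)
  rw [Ideal.Quotient.algebraMap_mk_of_liesOver]
  have h : (Algebra.TensorProduct.quotIdealMapEquivTensorQuot B I).symm
      ((1 : B) ⊗ₜ[A] (Ideal.Quotient.mk I a)) =
      Submodule.Quotient.mk (a • (1 : B)) :=
    Algebra.TensorProduct.quotIdealMapEquivTensorQuot_symm_tmul B I 1 a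
  rw [h, Algebra.smul_def, mul_one]
  rfl

end Pushout

section Local

variable {A B : Type u} [CommRing A] [CommRing B] [IsLocalRing A] [IsLocalRing B]
  [IsNoetherianRing A] [IsNoetherianRing B] [Algebra A B] [Module.Flat A B]
  [IsLocalHom (algebraMap A B)]

/-- **flat local homomorphisms with Gorenstein closed fibre preserve dualizing complexes**. -/
theorem isDualizing_EE_of_gorenstein_closedFibre
    (hG : LocCoh.IsGorensteinLocalRing
      (B ⧸ (IsLocalRing.maximalIdeal A).map (algebraMap A B)))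
    (ω : Dual.D A) (hω : Dual.IsDualizing A ω) : Dual.IsDualizing B ((EE A B).obj ω) := by
  let m := IsLocalRing.maximalIdeal A
  let J : Ideal B := m.map (algebraMap A B)
  let k := A ⧸ m
  let Bb := B ⧸ J
  haveI : IsLocalRing Bb := hG.toIsLocalRing
  haveI : IsNoetherianRing Bb := inferInstance
  have hJle : J ≤ IsLocalRing.maximalIdeal B :=
    ((IsLocalRing.local_hom_TFAE (algebraMap A B)).out 0 2).1 ‹_›
  haveI hlo : J.LiesOver m := by
    refine ⟨le_antisymm Ideal.le_comap_map ?_⟩
    have h1 : J.comap (algebraMap A B) ≤ (IsLocalRing.maximalIdeal B).comap (algebraMap A B) :=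
      Ideal.comap_mono hJle
    rw [IsLocalRing.maximalIdeal_comap] at h1
    exact h1
  haveI hpo : Algebra.IsPushout A B k Bb := isPushout_quotient m J rfl
  haveI : Module.Flat k Bb := Module.Flat.isBaseChange A k B Bb
    (Algebra.IsPushout.out (R := A) (S := k) (R' := B) (S' := Bb) (self := hpo.symm))
  -- bounds for `ω`
  obtain ⟨a, b, hab, hGE, hLE, hv⟩ := exists_bounds ω hω
  haveI := hGE
  haveI := hLE
  have hfin := hω.finite_cohomology
  have hc : ∀ i : ℤ, i < a → IsZero ((homologyFunctor (ModuleCat.{u} A) i).obj ω) :=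
    (DerivedCategory.isGE_iff ω a).1 inferInstance
  have hd : ∀ i : ℤ, b < i → IsZero ((homologyFunctor (ModuleCat.{u} A) i).obj ω) :=
    (DerivedCategory.isLE_iff ω b).1 inferInstance
  let L : Dual.D B := (EE A B).obj ω
  haveI : L.IsGE a := isGE_EE B ω a
  haveI : L.IsLE b := isLE_EE B ω b
  have hLfin : ∀ i : ℤ, Module.Finite B ((homologyFunctor (ModuleCat.{u} B) i).obj L) :=
    fun i => FlatBC.finite_homology_extD (algebraMap A B) ω i (hfin i)
  -- the right adjoints
  obtain ⟨Rk, ⟨adjk⟩⟩ := RHomEx.exists_rightAdjoint_restrictD (algebraMap A k)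
  obtain ⟨Rb, ⟨adjb⟩⟩ := RHomEx.exists_rightAdjoint_restrictD (algebraMap B Bb)
  have hV : Dual.IsDualizing k (Rk.obj ω) := RAdj.isDualizing_rightAdjoint Rk adjk ω hω
  have hk : (⊥ : Ideal k).IsMaximal := (Ideal.bot_quotient_isMaximal_iff m).2 inferInstance
  obtain ⟨s, ⟨eV⟩⟩ := exists_iso_shift_of_isDualizing_field hk (Rk.obj ω) hV
  obtain ⟨e1⟩ := nonempty_iso_baseChange (P := A) (P' := B) (B := k) (B' := Bb) Rk adjk Rb adjb
    ω a
  -- `Rb L ≅ Bb[0]⟦s⟧`
  let e2 : Rb.obj L ≅ (Dual.inD Bb Bb)⟦s⟧ := e1.symm ≪≫ (EE k Bb).mapIso eV ≪≫ eT k Bb s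
  have hGd : Dual.IsDualizing Bb (Dual.inD Bb Bb) := (Groth.Agent.S11179.result Bb).1 hG
  obtain ⟨a', b', hfid⟩ := hGd.finite_injective_dimension
  -- the bound
  let N : ℤ := max b (b' - s)
  have hbN : b ≤ N := le_max_left _ _
  have hb'N : b' - s ≤ N := le_max_right _ _
  haveI : L.IsLE N := (TStructure.t (C := ModuleCat.{u} B)).isLE_of_le L b N hbN
  -- vanishing on the residue field
  have hs : Function.Surjective (algebraMap B Bb) := Ideal.Quotient.mk_surjective
  let q : Ideal Bb := IsLocalRing.maximalIdeal Bb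
  have hq : q.comap (algebraMap B Bb) = IsLocalRing.maximalIdeal B := by
    haveI : (q.comap (algebraMap B Bb)).IsMaximal :=
      Ideal.comap_isMaximal_of_surjective (algebraMap B Bb) hs
    exact IsLocalRing.eq_maximalIdeal inferInstance
  have hres : PB L N (ModuleCat.of B (B ⧸ IsLocalRing.maximalIdeal B)) := by
    intro i hi φ
    haveI h0 : Subsingleton (Dual.inD Bb (Bb ⧸ q) ⟶ (Dual.inD Bb Bb)⟦s + i⟧) :=
      hfid (Bb ⧸ q) (s + i) (Or.inr (by omega))
    haveI h1 : Subsingleton (Dual.inD Bb (Bb ⧸ q) ⟶ (Rb.obj L)⟦i⟧) :=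
      subsingleton_hom_of_iso (Iso.refl _)
        ((shiftFunctorAdd' (Dual.D Bb) s i (s + i) rfl).app (Dual.inD Bb Bb) ≪≫
          ((shiftFunctor (Dual.D Bb) i).mapIso e2).symm)
    haveI h2 : Subsingleton (Dual.inD B (B ⧸ q.comap (algebraMap B Bb)) ⟶ L⟦i⟧) :=
      (quotEquiv Rb adjb hs q L i).symm.subsingleton
    have h3 : ∀ (I' : Ideal B), I' = q.comap (algebraMap B Bb) →
        ∀ ψ : BassD.sg (ModuleCat.of B (B ⧸ I')) ⟶ L⟦i⟧, ψ = 0 := by
      intro I' hI'
      subst hI'
      intro ψ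
      exact Subsingleton.elim _ _
    exact h3 _ hq.symm φ
  -- Bass
  have hKa : ∀ j : ℤ, j < a → IsZero ((homologyFunctor (ModuleCat.{u} B) j).obj L) :=
    (DerivedCategory.isGE_iff L a).1 inferInstance
  have hmax : ∀ m' : Ideal B, m'.IsMaximal → PB L N (ModuleCat.of B (B ⧸ m')) := by
    intro m' hm'
    have : m' = IsLocalRing.maximalIdeal B := IsLocalRing.eq_maximalIdeal hm'
    subst this
    exact hres
  have hcyc : ∀ (J' : Ideal B) (φ : (singleFunctor (ModuleCat.{u} B) 0).obj
      (ModuleCat.of B (B ⧸ J')) ⟶ L⟦N + 1⟧), φ = 0 := by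
    intro J' φ
    exact PB_of_maximal' a hKa hLfin hmax (ModuleCat.of B (B ⧸ J')) (N + 1) (by omega) φ
  have haN : a ≤ N := le_trans hab hbN
  refine ⟨inferInstance, ⟨a, N, fun M _ _ i hi => ⟨fun f g => ?_⟩⟩, hLfin, ?_, ?_⟩
  · rw [BaerD.hom_eq_zero_of_cyclic L a N haN hcyc (ModuleCat.of B M) i hi f,
      BaerD.hom_eq_zero_of_cyclic L a N haN hcyc (ModuleCat.of B M) i hi g]
  · exact toEnd_bijective_EE B ω (BB_of_bounded_finite B ω ω a a b hc hd hfin)
      hω.toEnd_bijective
  · intro i hi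
    haveI : (ω⟦i⟧).IsGE (a - i) :=
      (TStructure.t (C := ModuleCat.{u} A)).isGE_shift ω a i (a - i) (by omega)
    haveI := hω.ext_self_subsingleton i hi
    haveI := subsingleton_of_BS (BB_of_bounded_finite B ω (ω⟦i⟧) (a - i) a b hc hd hfin).2
    exact subsingleton_hom_of_iso (Iso.refl _) (EEshiftIso B ω i)

end Local

end Groth.Agent.Lib.helper23.GFA
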