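import Mathlib
import Groth.Prelude.Def_DRing2
import Groth.Prelude.Def_DDual2
import Groth.Prelude.Def_DualSh
import Groth.Agent.Lib.Helper23.TA7
import Groth.Agent.Lib.Helper23.DRingPC
import Groth.Agent.Lib.Helper23.PCohCore6
import Groth.Agent.Lib.Helper23.PCohCore7

/-!
# helper23: `R`-perfect objects of `D(A)` form a thick triangulated subcategory (S7093)
-/

set_option autoImplicit false
universe u
open CategoryTheory CategoryTheory.Limits Pretriangulated ZeroObject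

attribute [local instance] HasDerivedCategory.standard

namespace Groth.Agent.Lib.helper23.RelPerf

open Groth.Agent.Lib.helper23.PCohCore Groth.Agent.Lib.helper23.DRingPC
  Groth.Agent.Lib.helper23.TA

section PC

variable {A : Type u} [CommRing A]

lemma pc_of_iso {K L : Dual.D A} (e : K ≅ L) (h : DRing.IsPseudoCoherent' A K) :
    DRing.IsPseudoCoherent' A L := by
  obtain ⟨E, b, hb, hE, ⟨e'⟩⟩ := h
  exact ⟨E, b, hb, hE, ⟨e' ≪≫ e⟩⟩

lemma pc_of_isZero {K : Dual.D A} (h : IsZero K) : DRing.IsPseudoCoherent' A K := by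
  rw [isPseudoCoherent'_iff_npc]
  intro m
  exact NPC.of_isZero (FF A) m h

lemma pc_shift {K : Dual.D A} (h : DRing.IsPseudoCoherent' A K) (n : ℤ) :
    DRing.IsPseudoCoherent' A (K⟦n⟧) := by
  rw [isPseudoCoherent'_iff_npc] at h ⊢
  intro m
  have := (h (m + n)).shift n
  rwa [add_sub_cancel_right] at this

lemma pc_ext (T : Triangle (Dual.D A)) (hT : T ∈ distTriang _)
    (h₁ : DRing.IsPseudoCoherent' A T.obj₁) (h₃ : DRing.IsPseudoCoherent' A T.obj₃) :
    DRing.IsPseudoCoherent' A T.obj₂ := by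
  rw [isPseudoCoherent'_iff_npc] at h₁ h₃ ⊢
  intro m
  exact (NPC.two_of_three (FF A) (FF_sum A) (FF_hqs A) (FF_hql A) m T hT).2.1 (h₁ m) (h₃ m)

lemma pc_summand {K L : Dual.D A} [HasBinaryBiproduct K L]
    (h : DRing.IsPseudoCoherent' A (K ⊞ L)) :
    DRing.IsPseudoCoherent' A K ∧ DRing.IsPseudoCoherent' A L := by
  rw [isPseudoCoherent'_iff_npc] at h
  rw [isPseudoCoherent'_iff_npc, isPseudoCoherent'_iff_npc]
  have := fun m => (NPC.biprod_iff (FF A) (FF_sum A) (FF_hqs A) (FF_hql A) m K L).1 (h m)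
  exact ⟨fun m => (this m).1, fun m => (this m).2⟩

end PC

section Tor

variable {A : Type u} [CommRing A]

lemma ftd_of_iso {K L : Dual.D A} (e : K ≅ L) (h : DRing.HasFiniteTorDimCx A K) :
    DRing.HasFiniteTorDimCx A L := by
  obtain ⟨a, b, h⟩ := h
  exact ⟨a, b, hasTorAmplitudeIn_of_iso e h⟩

lemma ftd_of_isZero {K : Dual.D A} (h : IsZero K) : DRing.HasFiniteTorDimCx A K :=
  ⟨0, 0, hasTorAmplitudeIn_of_isZero 0 0 h⟩

lemma ftd_shift {K : Dual.D A} (h : DRing.HasFiniteTorDimCx A K) (n : ℤ) :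
    DRing.HasFiniteTorDimCx A (K⟦n⟧) := by
  obtain ⟨a, b, h⟩ := h
  exact ⟨a - n, b - n, hasTorAmplitudeIn_shift h n⟩

lemma ftd_ext (T : Triangle (Dual.D A)) (hT : T ∈ distTriang _)
    (h₁ : DRing.HasFiniteTorDimCx A T.obj₁) (h₃ : DRing.HasFiniteTorDimCx A T.obj₃) :
    DRing.HasFiniteTorDimCx A T.obj₂ := by
  obtain ⟨a₁, b₁, h₁⟩ := h₁
  obtain ⟨a₃, b₃, h₃⟩ := h₃
  exact ⟨min a₁ a₃, max b₁ b₃, hasTorAmplitudeIn_ext T hT
    (hasTorAmplitudeIn_mono h₁ (min_le_left _ _) (le_max_left _ _))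
    (hasTorAmplitudeIn_mono h₃ (min_le_right _ _) (le_max_right _ _))⟩

lemma ftd_summand {K L : Dual.D A} [HasBinaryBiproduct K L]
    (h : DRing.HasFiniteTorDimCx A (K ⊞ L)) :
    DRing.HasFiniteTorDimCx A K ∧ DRing.HasFiniteTorDimCx A L := by
  obtain ⟨a, b, h⟩ := h
  refine ⟨⟨a, b, hasTorAmplitudeIn_of_biprod h⟩, ⟨a, b, ?_⟩⟩
  haveI : HasBinaryBiproduct L K := HasBinaryBiproducts.has_binary_biproduct _ _
  exact hasTorAmplitudeIn_of_biprod (K := L) (L := K)
    (hasTorAmplitudeIn_of_iso (biprod.braiding K L) h)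

end Tor

section Rel

variable (R A : Type u) [CommRing R] [CommRing A] [Algebra R A]

lemma rel_of_iso {K L : Dual.D A} (e : K ≅ L) (h : Dual2.IsRelPerfect R A K) :
    Dual2.IsRelPerfect R A L :=
  ⟨pc_of_iso e h.1, ftd_of_iso ((DRing.restrictD (algebraMap R A)).mapIso e) h.2⟩

lemma rel_of_isZero {K : Dual.D A} (h : IsZero K) : Dual2.IsRelPerfect R A K :=
  ⟨pc_of_isZero h, ftd_of_isZero ((DRing.restrictD (algebraMap R A)).map_isZero h)⟩

lemma rel_shift {K : Dual.D A} (h : Dual2.IsRelPerfect R A K) (n : ℤ) :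
    Dual2.IsRelPerfect R A (K⟦n⟧) :=
  ⟨pc_shift h.1 n, ftd_of_iso (((DRing.restrictD (algebraMap R A)).commShiftIso n).app K).symm
    (ftd_shift h.2 n)⟩

lemma rel_ext (T : Triangle (Dual.D A)) (hT : T ∈ distTriang _)
    (h₁ : Dual2.IsRelPerfect R A T.obj₁) (h₃ : Dual2.IsRelPerfect R A T.obj₃) :
    Dual2.IsRelPerfect R A T.obj₂ :=
  ⟨pc_ext T hT h₁.1 h₃.1,
    ftd_ext _ ((DRing.restrictD (algebraMap R A)).map_distinguished T hT) h₁.2 h₃.2⟩

lemma rel_summand {K L : Dual.D A} [HasBinaryBiproduct K L]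
    (h : Dual2.IsRelPerfect R A (K ⊞ L)) :
    Dual2.IsRelPerfect R A K ∧ Dual2.IsRelPerfect R A L := by
  have h1 := pc_summand h.1
  haveI : HasBinaryBiproduct ((DRing.restrictD (algebraMap R A)).obj K)
      ((DRing.restrictD (algebraMap R A)).obj L) := HasBinaryBiproducts.has_binary_biproduct _ _
  haveI : PreservesBinaryBiproducts (DRing.restrictD (algebraMap R A)) :=
    preservesBinaryBiproducts_of_preservesBiproducts _
  have h2 := ftd_summand (ftd_of_iso ((DRing.restrictD (algebraMap R A)).mapBiprod K L) h.2)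
  exact ⟨⟨h1.1, h2.1⟩, ⟨h1.2, h2.2⟩⟩

/-- S7093. -/
theorem isTriangulated :
    ObjectProperty.IsTriangulated (C := Dual.D A) (fun K => Dual2.IsRelPerfect R A K) ∧
      ObjectProperty.IsClosedUnderIsomorphisms (C := Dual.D A)
        (fun K => Dual2.IsRelPerfect R A K) := by
  haveI hiso : ObjectProperty.IsClosedUnderIsomorphisms (C := Dual.D A)
      (fun K => Dual2.IsRelPerfect R A K) := ⟨fun e h => rel_of_iso R A e h⟩
  refine ⟨?_, hiso⟩
  haveI : ObjectProperty.ContainsZero (C := Dual.D A) (fun K => Dual2.IsRelPerfect R A K) :=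
    ⟨⟨0, isZero_zero _, rel_of_isZero R A (isZero_zero _)⟩⟩
  haveI : ObjectProperty.IsStableUnderShift (C := Dual.D A)
      (fun K => Dual2.IsRelPerfect R A K) ℤ :=
    { isStableUnderShiftBy := fun n => ⟨fun K hK => rel_shift R A hK n⟩ }
  haveI : ObjectProperty.IsTriangulatedClosed₂ (C := Dual.D A)
      (fun K => Dual2.IsRelPerfect R A K) :=
    ObjectProperty.IsTriangulatedClosed₂.mk' (fun T hT h₁ h₃ => rel_ext R A T hT h₁ h₃)
  exact {}

end Rel

end Groth.Agent.Lib.helper23.RelPerf
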