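import Mathlib
import Groth.Prelude.Def_DRing2
import Groth.Prelude.Def_DDual2
import Groth.Prelude.Def_DualSh
import Groth.Agent.Lib.Helper23.RelPerf1
import Groth.Agent.Lib.Helper23.TA3
import Groth.Agent.Lib.Helper23.TA11
import Groth.Agent.Lib.Helper23.TA12
import Groth.Agent.Lib.Helper23.LDer4
import Groth.Agent.Lib.Helper23.FBCR1

/-!
# helper23: base change of `R`-perfect objects (S7075)
-/

set_option autoImplicit false
universe u
open CategoryTheory CategoryTheory.Limits Pretriangulated TensorProduct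

attribute [local instance] HasDerivedCategory.standard

namespace Groth.Agent.Lib.helper23.RelPerf

open Groth.Agent.Lib.helper23.PCohCore Groth.Agent.Lib.helper23.DRingPC
  Groth.Agent.Lib.helper23.TA Groth.Agent.Lib.helper23.FBCR

section BC

variable (R A R' : Type u) [CommRing R] [CommRing A] [Algebra R A] [CommRing R'] [Algebra R R']

attribute [local instance] Algebra.TensorProduct.rightAlgebra

/-- finite free `A`-modules are flat over `R` when `A` is. -/
lemma flat_restrict_of_ff [Module.Flat R A] (M : ModuleCat.{u} A) (h : FF A M) :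
    Module.Flat R ((ModuleCat.restrictScalars.{u} (algebraMap R A)).obj M) := by
  obtain ⟨h1, h2⟩ := h
  letI : Module R M := Module.compHom M (algebraMap R A)
  haveI : IsScalarTower R A M := IsScalarTower.of_algebraMap_smul (fun _ _ => rfl)
  exact Module.Flat.trans R A M

/-- S7075. -/
theorem isRelPerfect_LBaseChange [Module.Flat R A]
    [DRing.HasLBaseChange (Algebra.TensorProduct.includeRight.toRingHom : A →+* R' ⊗[R] A)]
    (K : Dual.D A) (hK : Dual2.IsRelPerfect R A K) :
    Dual2.IsRelPerfect R' (R' ⊗[R] A)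
      ((DRing.LBaseChange
        (Algebra.TensorProduct.includeRight.toRingHom : A →+* R' ⊗[R] A)).obj K) := by
  have hφ : (Algebra.TensorProduct.includeRight.toRingHom : A →+* R' ⊗[R] A) =
    algebraMap A (R' ⊗[R] A) := rfl
  haveI : DRing.HasLBaseChange (algebraMap A (R' ⊗[R] A)) := by rw [← hφ]; infer_instance
  show Dual2.IsRelPerfect R' (R' ⊗[R] A)
      ((DRing.LBaseChange (algebraMap A (R' ⊗[R] A))).obj K)
  set φ : A →+* R' ⊗[R] A := algebraMap A (R' ⊗[R] A)
  haveI : (DRing.LBaseChange φ).IsRightKanExtension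
      ((DRing.baseChangeKh φ).totalLeftDerivedCounit DerivedCategory.Qh
        (HomotopyCategory.quasiIso (ModuleCat.{u} A) (ComplexShape.up ℤ))) :=
    CategoryTheory.Functor.IsLeftDerivedFunctor.isRightKanExtension _ _
      (HomotopyCategory.quasiIso (ModuleCat.{u} A) (ComplexShape.up ℤ))
  constructor
  · have h1 := (isPseudoCoherent'_iff_npc A K).1 hK.1
    rw [isPseudoCoherent'_iff_npc]
    intro m
    exact LDer.npc_leftDerived_baseChange φ (DRing.LBaseChange φ)
      ((DRing.baseChangeKh φ).totalLeftDerivedCounit DerivedCategory.Qh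
        (HomotopyCategory.quasiIso (ModuleCat.{u} A) (ComplexShape.up ℤ))) K m (h1 m)
  · obtain ⟨P, b, hPb, hPff, ⟨eP⟩⟩ := hK.1
    obtain ⟨a', b', F, hFv, hFfl, ⟨eF⟩⟩ := hK.2
    have hPfl : DRing.TermwiseFlat P := fun i => by
      haveI := (hPff i).1
      haveI := (hPff i).2
      infer_instance
    obtain ⟨eL⟩ := TA.nonempty_iso_of_flat
      (ModuleCat.extendScalars.{u, u, u} φ) (DRing.LBaseChange φ)
      ((DRing.baseChangeKh φ).totalLeftDerivedCounit DerivedCategory.Qh
        (HomotopyCategory.quasiIso (ModuleCat.{u} A) (ComplexShape.up ℤ)))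
      (TA.tensorLike_extendScalars φ) P b hPb hPfl
    haveI hpo : Algebra.IsPushout R R' A (R' ⊗[R] A) := by
      have h0 : Algebra.IsPushout R A R' (R' ⊗[R] A) := inferInstance
      exact h0.symm
    -- the complexes
    let P₁ : DRing.Cx (R' ⊗[R] A) :=
      ((ModuleCat.extendScalars.{u, u, u} φ).mapHomologicalComplex (ComplexShape.up ℤ)).obj P
    let P₂ : DRing.Cx R :=
      ((ModuleCat.restrictScalars.{u} (algebraMap R A)).mapHomologicalComplex
        (ComplexShape.up ℤ)).obj P
    let e1 : (DRing.LBaseChange φ).obj K ≅ DerivedCategory.Q.obj P₁ :=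
      (DRing.LBaseChange φ).mapIso eP.symm ≪≫ eL
    let e2 : (DRing.restrictD (algebraMap R' (R' ⊗[R] A))).obj ((DRing.LBaseChange φ).obj K) ≅
        DerivedCategory.Q.obj (((ModuleCat.restrictScalars.{u}
          (algebraMap R' (R' ⊗[R] A))).mapHomologicalComplex (ComplexShape.up ℤ)).obj P₁) :=
      (DRing.restrictD (algebraMap R' (R' ⊗[R] A))).mapIso e1 ≪≫
        TA.restrictDQIso (A := R') (B := R' ⊗[R] A) P₁
    let e3 : ((ModuleCat.extendScalars.{u, u, u} (algebraMap R R')).mapHomologicalComplex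
          (ComplexShape.up ℤ)).obj P₂ ≅
        ((ModuleCat.restrictScalars.{u}
          (algebraMap R' (R' ⊗[R] A))).mapHomologicalComplex (ComplexShape.up ℤ)).obj P₁ :=
      (NatIso.mapHomologicalComplex (γ₀ R R' A (R' ⊗[R] A)) (ComplexShape.up ℤ)).app P
    have hP₂b : DRing.VanishesAbove P₂ b := fun i hi =>
      (ModuleCat.restrictScalars.{u} (algebraMap R A)).map_isZero (hPb i hi)
    have hP₂fl : DRing.TermwiseFlat P₂ := fun i => flat_restrict_of_ff R A (P.X i) (hPff i)
    have e4 : DerivedCategory.Q.obj P₂ ≅ DerivedCategory.Q.obj F :=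
      (TA.restrictDQIso (A := R) (B := A) P).symm ≪≫
        (DRing.restrictD (algebraMap R A)).mapIso eP ≪≫ eF.symm
    obtain ⟨e5⟩ := TA.nonempty_iso_map_of_flat (ModuleCat.extendScalars.{u, u, u} (algebraMap R R'))
      (TA.tensorLike_extendScalars (algebraMap R R')) P₂ F b b' hP₂b
      (fun i hi => hFv i (Or.inr hi)) hP₂fl hFfl e4
    refine ⟨a', b', ((ModuleCat.extendScalars.{u, u, u} (algebraMap R R')).mapHomologicalComplex
      (ComplexShape.up ℤ)).obj F, fun i hi => ?_, fun i => ?_,
      ⟨e5.symm ≪≫ DerivedCategory.Q.mapIso e3 ≪≫ e2.symm⟩⟩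
    · exact (ModuleCat.extendScalars.{u, u, u} (algebraMap R R')).map_isZero (hFv i hi)
    · exact TA.termwiseFlat_extend (algebraMap R R') F hFfl i

end BC

end Groth.Agent.Lib.helper23.RelPerf
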