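import Mathlib
import Groth.Prelude.Def_DRing2
import Groth.Prelude.Def_DDual2
import Groth.Agent.Lib.Helper23.LBCComp
import Groth.Agent.Lib.Helper23.RelPerf2
import Groth.Agent.Lib.Helper23.GFA2
import Groth.Agent.Lib.Helper23.TA9
import Groth.Agent.Lib.Helper23.DRingPC7
import Groth.Agent.S0563

/-!
# helper23: perfectness over a flat local homomorphism with regular closed fibre (S6977)
-/

set_option autoImplicit false
universe u
open CategoryTheory CategoryTheory.Limits TensorProduct

attribute [local instance] HasDerivedCategory.standard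

namespace Groth.Agent.Lib.helper23.RegFibre

open Groth.Agent.Lib.helper23.TA Groth.Agent.Lib.helper23.FibVan Groth.Agent.Lib.helper23.LBCComp
  Groth.Agent.Lib.helper23.FBCR Groth.Agent.Lib.helper23.GFA Groth.Agent.Lib.helper23.RelPerf
  Groth.Agent.Lib.helper23.DRingPC

variable {A B : Type u} [CommRing A] [CommRing B] [IsLocalRing A] [IsLocalRing B] [Algebra A B]
  [IsLocalHom (algebraMap A B)] [Module.Flat A B]

/-- S6977. -/
theorem isPerfect_of_regular_fibre (d : ℕ)
    [IsRegularLocalRing (B ⧸ (IsLocalRing.maximalIdeal A).map (algebraMap A B))]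
    (hd : ringKrullDim (B ⧸ (IsLocalRing.maximalIdeal A).map (algebraMap A B)) = d)
    [DRing.HasLBaseChange (IsLocalRing.residue A)] (a b : ℤ) (K : Dual.D B)
    (hK : DRing.IsPseudoCoherent' B K)
    (h : ∀ i : ℤ, (i < a ∨ b < i) → Subsingleton (Dual.HD (IsLocalRing.ResidueField A)
      ((DRing.LBaseChange (IsLocalRing.residue A)).obj
        ((DRing.restrictD (algebraMap A B)).obj K)) i)) :
    DRing.IsPerfect B K ∧ DRing.HasTorAmplitudeIn B (a - d) b K := by
  let m := IsLocalRing.maximalIdeal A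
  let J : Ideal B := m.map (algebraMap A B)
  let k := A ⧸ m
  let Bb := B ⧸ J
  have hJle : J ≤ IsLocalRing.maximalIdeal B :=
    ((IsLocalRing.local_hom_TFAE (algebraMap A B)).out 0 2).1 ‹_›
  haveI hlo : J.LiesOver m := by
    refine ⟨le_antisymm Ideal.le_comap_map ?_⟩
    have h1 : J.comap (algebraMap A B) ≤ (IsLocalRing.maximalIdeal B).comap (algebraMap A B) :=
      Ideal.comap_mono hJle
    rw [IsLocalRing.maximalIdeal_comap] at h1
    exact h1
  haveI hpo : Algebra.IsPushout A B k Bb := isPushout_quotient m J rfl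
  haveI hpo' : Algebra.IsPushout A k B Bb := hpo.symm
  haveI : DRing.HasLBaseChange (algebraMap A k) := ‹DRing.HasLBaseChange (IsLocalRing.residue A)›
  have h' : ∀ i : ℤ, (i < a ∨ b < i) → Subsingleton (Dual.HD k
      ((DRing.LBaseChange (algebraMap A k)).obj ((DRing.restrictD (algebraMap A B)).obj K)) i) := h
  haveI : DRing.HasLBaseChange (algebraMap B Bb) :=
    Groth.Agent.Lib.helper13.RKF.hasLBaseChange _
  have hnpc : ∀ n, PCohCore.NPC (DRingPC.FF B) n K := (isPseudoCoherent'_iff_npc B K).1 hK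
  obtain ⟨F, c, hc, hF, ⟨e⟩⟩ := hK
  have hfl : DRing.TermwiseFlat F := fun j => by
    haveI := (hF j).1
    haveI := (hF j).2
    infer_instance
  -- the complexes
  let F₁ : DRing.Cx A := ((ModuleCat.restrictScalars.{u} (algebraMap A B)).mapHomologicalComplex
    (ComplexShape.up ℤ)).obj F
  let F₂ : DRing.Cx Bb := ((ModuleCat.extendScalars.{u, u, u}
    (algebraMap B Bb)).mapHomologicalComplex (ComplexShape.up ℤ)).obj F
  have hF₁b : DRing.VanishesAbove F₁ c := fun i hi =>
    (ModuleCat.restrictScalars.{u} (algebraMap A B)).map_isZero (hc i hi)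
  have hF₁fl : DRing.TermwiseFlat F₁ := fun i => flat_restrict_of_ff A B (F.X i) (hF i)
  obtain ⟨e1⟩ := lbc_iso (algebraMap A k) F₁ c hF₁b hF₁fl
  obtain ⟨e2⟩ := lbc_iso (algebraMap B Bb) F c hc hfl
  let e3 : ((ModuleCat.extendScalars.{u, u, u} (algebraMap A k)).mapHomologicalComplex
        (ComplexShape.up ℤ)).obj F₁ ≅
      ((ModuleCat.restrictScalars.{u} (algebraMap k Bb)).mapHomologicalComplex
        (ComplexShape.up ℤ)).obj F₂ :=
    (NatIso.mapHomologicalComplex (γ₀ A k B Bb) (ComplexShape.up ℤ)).app F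
  -- the comparison in `D(k)`
  have e4 : (DRing.LBaseChange (algebraMap A k)).obj ((DRing.restrictD (algebraMap A B)).obj K) ≅
      (DRing.restrictD (algebraMap k Bb)).obj ((DRing.LBaseChange (algebraMap B Bb)).obj K) :=
    (DRing.LBaseChange (algebraMap A k)).mapIso
        ((DRing.restrictD (algebraMap A B)).mapIso e.symm ≪≫ TA.restrictDQIso (A := A) (B := B) F) ≪≫
      e1 ≪≫ DerivedCategory.Q.mapIso e3 ≪≫ (TA.restrictDQIso (A := k) (B := Bb) F₂).symm ≪≫
      (DRing.restrictD (algebraMap k Bb)).mapIso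
        (e2.symm ≪≫ (DRing.LBaseChange (algebraMap B Bb)).mapIso e)
  have hvan : ∀ i : ℤ, (i < a ∨ b < i) → IsZero ((DerivedCategory.homologyFunctor _ i).obj
      ((DRing.LBaseChange (algebraMap B Bb)).obj K)) := by
    intro i hi
    haveI := h' i hi
    have h1 : Subsingleton ((DerivedCategory.homologyFunctor (ModuleCat.{u} k) i).obj
        ((DRing.restrictD (algebraMap k Bb)).obj ((DRing.LBaseChange (algebraMap B Bb)).obj K))) :=
      (((DerivedCategory.homologyFunctor (ModuleCat.{u} k) i).mapIso e4).toLinearEquiv).symm.toEquiv.subsingleton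
    rw [ModuleCat.isZero_iff_subsingleton]
    exact (subsingleton_homology_restrict_iff (algebraMap k Bb) _ i).1 h1
  have hTA : DRing.HasTorAmplitudeIn Bb (a - d) b ((DRing.LBaseChange (algebraMap B Bb)).obj K) :=
    hasTorAmplitudeIn_of_globalDimension d
      (fun M => Groth.Agent.S0563.result Bb d hd M) _ a b hvan
  have hJjac : J ≤ Ideal.jacobson (⊥ : Ideal B) := by
    rw [IsLocalRing.jacobson_eq_maximalIdeal ⊥ bot_ne_top]
    exact hJle
  have hTA' : DRing.HasTorAmplitudeIn B (a - d) b K :=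
    hasTorAmplitudeIn_of_quotient_le_jacobson B J hJjac K ⟨F, c, hc, hF, ⟨e⟩⟩ (a - d) b hTA
  exact ⟨isPerfect_of_npc_of_hasTorAmplitudeIn K (a - d) b hnpc hTA', hTA'⟩

end Groth.Agent.Lib.helper23.RegFibre
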