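import Mathlib
import Groth.Prelude.Def_DRing2
import Groth.Prelude.Def_DDual2
import Groth.Agent.Lib.Helper23.RegFibre

/-!
# helper23: perfectness over a flat ring map whose fibres have finite global dimension (S7035)
-/

set_option autoImplicit false
universe u
open CategoryTheory CategoryTheory.Limits TensorProduct

attribute [local instance] HasDerivedCategory.standard

namespace Groth.Agent.Lib.helper23.RegFibre

open Groth.Agent.Lib.helper23.TA Groth.Agent.Lib.helper23.FibVan Groth.Agent.Lib.helper23.LBCComp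
  Groth.Agent.Lib.helper23.FBCR Groth.Agent.Lib.helper23.RelPerf
  Groth.Agent.Lib.helper23.DRingPC

attribute [local instance] Algebra.TensorProduct.rightAlgebra

variable {A B : Type u} [CommRing A] [CommRing B] [Algebra A B] [Module.Flat A B]

/-- the fibre of `K` over a prime `p` of `A`, as an object of `D(κ(p) ⊗_A B)`, has cohomology in
`[a, b]` if `K|_A` has tor amplitude in `[a, b]`. -/
theorem isZero_homology_fibre (p : Ideal A) [p.IsPrime] (a b : ℤ) (K : Dual.D B)
    (F : DRing.Cx B) (c : ℤ) (hc : DRing.VanishesAbove F c) (hF : DRing.TermwiseFiniteFree F)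
    (e : DRing.toD F ≅ K)
    (hKa : DRing.HasTorAmplitudeIn A a b ((DRing.restrictD (algebraMap A B)).obj K))
    (i : ℤ) (hi : i < a ∨ b < i) :
    IsZero ((DerivedCategory.homologyFunctor (ModuleCat.{u} (TensorProduct A p.ResidueField B)) i).obj
      (DerivedCategory.Q.obj (((ModuleCat.extendScalars.{u, u, u}
        (algebraMap B (TensorProduct A p.ResidueField B))).mapHomologicalComplex
          (ComplexShape.up ℤ)).obj F))) := by
  let k := p.ResidueField
  let C := TensorProduct A k B
  haveI : DRing.HasLBaseChange (algebraMap A k) := Groth.Agent.Lib.helper13.RKF.hasLBaseChange _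
  haveI hpo : Algebra.IsPushout A k B C := inferInstance
  let F₁ : DRing.Cx A := ((ModuleCat.restrictScalars.{u} (algebraMap A B)).mapHomologicalComplex
    (ComplexShape.up ℤ)).obj F
  let F₂ : DRing.Cx C := ((ModuleCat.extendScalars.{u, u, u}
    (algebraMap B C)).mapHomologicalComplex (ComplexShape.up ℤ)).obj F
  have hF₁b : DRing.VanishesAbove F₁ c := fun i hi =>
    (ModuleCat.restrictScalars.{u} (algebraMap A B)).map_isZero (hc i hi)
  have hF₁fl : DRing.TermwiseFlat F₁ := fun i => flat_restrict_of_ff A B (F.X i) (hF i)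
  obtain ⟨e1⟩ := lbc_iso (algebraMap A k) F₁ c hF₁b hF₁fl
  let e3 : ((ModuleCat.extendScalars.{u, u, u} (algebraMap A k)).mapHomologicalComplex
        (ComplexShape.up ℤ)).obj F₁ ≅
      ((ModuleCat.restrictScalars.{u} (algebraMap k C)).mapHomologicalComplex
        (ComplexShape.up ℤ)).obj F₂ :=
    (NatIso.mapHomologicalComplex (γ₀ A k B C) (ComplexShape.up ℤ)).app F
  have e4 : (DRing.LBaseChange (algebraMap A k)).obj ((DRing.restrictD (algebraMap A B)).obj K) ≅
      (DRing.restrictD (algebraMap k C)).obj (DerivedCategory.Q.obj F₂) :=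
    (DRing.LBaseChange (algebraMap A k)).mapIso
        ((DRing.restrictD (algebraMap A B)).mapIso e.symm ≪≫ TA.restrictDQIso (A := A) (B := B) F) ≪≫
      e1 ≪≫ DerivedCategory.Q.mapIso e3 ≪≫ (TA.restrictDQIso (A := k) (B := C) F₂).symm
  have h1 : DRing.HasTorAmplitudeIn k a b
      ((DRing.LBaseChange (algebraMap A k)).obj ((DRing.restrictD (algebraMap A B)).obj K)) :=
    Groth.Agent.S6948.result _ _ a b hKa
  have h2 := isZero_homology_of_hasTorAmplitudeIn (hasTorAmplitudeIn_of_iso e4 h1) i hi
  rw [ModuleCat.isZero_iff_subsingleton] at h2 ⊢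
  exact (subsingleton_homology_restrict_iff (algebraMap k C) _ i).1 h2

/-- S7035. -/
theorem isPerfect_of_fibres_globalDimension (d : ℕ)
    (hgl : ∀ (p : PrimeSpectrum A) (M : Type u) [AddCommGroup M]
      [Module (TensorProduct A p.asIdeal.ResidueField B) M],
      HasProjectiveDimensionLT (ModuleCat.of (TensorProduct A p.asIdeal.ResidueField B) M) (d + 1))
    (a b : ℤ) (K : Dual.D B) (hK : DRing.IsPseudoCoherent' B K)
    (hKa : DRing.HasTorAmplitudeIn A a b ((DRing.restrictD (algebraMap A B)).obj K)) :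
    DRing.IsPerfect B K ∧ DRing.HasTorAmplitudeIn B (a - d) b K := by
  haveI : ∀ m : Ideal B, DRing.HasLBaseChange (Ideal.Quotient.mk m) :=
    fun m => Groth.Agent.Lib.helper13.RKF.hasLBaseChange _
  refine isPerfect_and_hasTorAmplitudeIn_of_fibres B K hK (a - d) b ?_
  intro n hn i hi
  haveI := hn
  let p : Ideal A := n.comap (algebraMap A B)
  haveI : p.IsPrime := Ideal.comap_isPrime (algebraMap A B) n
  let k := p.ResidueField
  let C := TensorProduct A k B
  letI : Field (B ⧸ n) := Ideal.Quotient.field n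
  let g : A ⧸ p →ₐ[A] B ⧸ n := Ideal.quotientMapₐ n (Algebra.ofId A B) le_rfl
  have hg : Function.Injective g := Ideal.quotientMap_injective
  let f : k →ₐ[A] B ⧸ n := IsFractionRing.liftAlgHom (A := A ⧸ p) (K := k) hg
  let σₐ : C →ₐ[A] B ⧸ n :=
    Algebra.TensorProduct.lift f (IsScalarTower.toAlgHom A B (B ⧸ n)) (fun _ _ => Commute.all _ _)
  let σ : C →+* B ⧸ n := σₐ.toRingHom
  have hσ : Ideal.Quotient.mk n = σ.comp (algebraMap B C) := by
    ext x
    show Ideal.Quotient.mk n x = σₐ ((1 : k) ⊗ₜ[A] x)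
    rw [Algebra.TensorProduct.lift_tmul, map_one, one_mul]
    rfl
  haveI : DRing.HasLBaseChange σ := Groth.Agent.Lib.helper13.RKF.hasLBaseChange _
  haveI : DRing.HasLBaseChange (algebraMap B C) := Groth.Agent.Lib.helper13.RKF.hasLBaseChange _
  obtain ⟨F, c, hc, hF, ⟨e⟩⟩ := hK
  have hfl : DRing.TermwiseFlat F := fun j => by
    haveI := (hF j).1
    haveI := (hF j).2
    infer_instance
  obtain ⟨e1⟩ := lbc_comp (algebraMap B C) σ (Ideal.Quotient.mk n) hσ F c hc hfl
  obtain ⟨e2⟩ := lbc_iso (algebraMap B C) F c hc hfl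
  have hTA : DRing.HasTorAmplitudeIn C (a - d) b (DerivedCategory.Q.obj
      (((ModuleCat.extendScalars.{u, u, u} (algebraMap B C)).mapHomologicalComplex
        (ComplexShape.up ℤ)).obj F)) :=
    hasTorAmplitudeIn_of_globalDimension d (fun M => hgl ⟨p, inferInstance⟩ M) _ a b
      (fun j hj => isZero_homology_fibre p a b K F c hc hF e hKa j hj)
  have h1 : DRing.HasTorAmplitudeIn (B ⧸ n) (a - d) b ((DRing.LBaseChange σ).obj
      ((DRing.LBaseChange (algebraMap B C)).obj (DerivedCategory.Q.obj F))) :=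
    Groth.Agent.S6948.result _ _ _ _ (hasTorAmplitudeIn_of_iso e2.symm hTA)
  have h2 : DRing.HasTorAmplitudeIn (B ⧸ n) (a - d) b
      ((DRing.LBaseChange (Ideal.Quotient.mk n)).obj K) :=
    hasTorAmplitudeIn_of_iso (e1.symm ≪≫ (DRing.LBaseChange (Ideal.Quotient.mk n)).mapIso e) h1
  exact ModuleCat.subsingleton_of_isZero (isZero_homology_of_hasTorAmplitudeIn h2 i hi)

end Groth.Agent.Lib.helper23.RegFibre
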