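import Mathlib
import Groth.Prelude.Def_DRing2
import Groth.Prelude.Def_DDual2
import Groth.Agent.Lib.Helper23.RegPD
import Groth.Agent.Lib.Helper23.TA3
import Groth.Agent.Lib.Helper23.Devissage2

/-!
# helper23: vanishing of morphisms across a cohomological gap (finite global dimension)
-/

set_option autoImplicit false
universe u
open CategoryTheory CategoryTheory.Limits Pretriangulated

attribute [local instance] HasDerivedCategory.standard

namespace Groth.Agent.Lib.helper23.RegGap

section GlDim

variable {R : Type u} [CommRing R] [IsNoetherianRing R]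

/-- a regular Noetherian ring of Krull dimension `d` has global dimension at most `d`. -/
theorem hasProjectiveDimensionLT_of_regular
    (hreg : ∀ p : PrimeSpectrum R, IsRegularLocalRing (Localization.AtPrime p.asIdeal)) (d : ℕ)
    (hd : ringKrullDim R = d) (M : ModuleCat.{u} R) : HasProjectiveDimensionLT M (d + 1) := by
  refine Groth.Agent.Lib.helper26.GlobalDim.hasProjectiveDimensionLT_of_forall_cyclic d
    (fun I => ?_) M
  change HasProjectiveDimensionLE (ModuleCat.of R (R ⧸ I)) d
  rw [ModuleCat.hasProjectiveDimensionLE_iff_forall_primeSpectrum]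
  intro p
  haveI := hreg p
  have h1 := IsRegularLocalRing.spanFinrank_maximalIdeal (R := Localization.AtPrime p.asIdeal)
  have h2 : ringKrullDim (Localization.AtPrime p.asIdeal) ≤ d := by
    rw [IsLocalization.AtPrime.ringKrullDim_eq_height p.asIdeal, ← hd]
    exact Ideal.height_le_ringKrullDim_of_ne_top p.2.ne_top
  have h3 : (IsLocalRing.maximalIdeal (Localization.AtPrime p.asIdeal)).spanFinrank ≤ d := by
    rw [← h1] at h2
    exact_mod_cast h2
  have h4 := Groth.Agent.S0563.result (Localization.AtPrime p.asIdeal) _ h1.symm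
    (((ModuleCat.of R (R ⧸ I)).localizedModule p.asIdeal.primeCompl))
  haveI h5 : HasProjectiveDimensionLT
      ((ModuleCat.of R (R ⧸ I)).localizedModule p.asIdeal.primeCompl)
      ((IsLocalRing.maximalIdeal (Localization.AtPrime p.asIdeal)).spanFinrank + 1) := h4
  exact hasProjectiveDimensionLT_of_ge _
    ((IsLocalRing.maximalIdeal (Localization.AtPrime p.asIdeal)).spanFinrank + 1) (d + 1)
    (by omega)

end GlDim

variable {R : Type u} [CommRing R]

/-- no maps from a projective module in degree `0` to an object concentrated in negative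
degrees. -/
lemma subsingleton_hom_single_projective (P : ModuleCat.{u} R) (hP : Projective P)
    (L : Dual.D R) (hL : L.IsLE (-1)) :
    Subsingleton ((DerivedCategory.singleFunctor (ModuleCat.{u} R) 0).obj P ⟶ L) := by
  obtain ⟨L', hL', ⟨e⟩⟩ := DerivedCategory.exists_iso_Q_obj_of_isLE L (-1)
  let S := (HomologicalComplex.single (ModuleCat.{u} R) (ComplexShape.up ℤ) 0).obj P
  let eS : (DerivedCategory.singleFunctor (ModuleCat.{u} R) 0).obj P ≅ DerivedCategory.Q.obj S :=
    (DerivedCategory.singleFunctorIsoCompQ _ 0).app P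
  have hSz : ∀ i : ℤ, i ≠ 0 → IsZero (S.X i) := fun i hi =>
    HomologicalComplex.isZero_single_obj_X (ComplexShape.up ℤ) 0 _ i hi
  have hSP : ∀ i, Projective (S.X i) := by
    intro i
    by_cases hi : i = 0
    · subst hi
      exact Projective.of_iso (HomologicalComplex.singleObjXSelf (ComplexShape.up ℤ) 0 P).symm hP
    · exact (hSz i hi).projective
  have key : ∀ g : DerivedCategory.Q.obj S ⟶ DerivedCategory.Q.obj L', g = 0 := by
    intro g
    obtain ⟨u, rfl⟩ := TA.exists_lift_of_projective S 0 hSP (fun i hi => hSz i (by omega)) L' g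
    have hu : u = 0 := by
      refine HomologicalComplex.hom_ext _ _ (fun i => ?_)
      by_cases hi : i = 0
      · subst hi
        exact (CochainComplex.isZero_of_isStrictlyLE L' (-1) 0 (by omega)).eq_of_tgt _ _
      · exact (hSz i hi).eq_of_src _ _
    rw [hu, Functor.map_zero]
  refine ⟨fun f g => ?_⟩
  have hf : ∀ f : (DerivedCategory.singleFunctor (ModuleCat.{u} R) 0).obj P ⟶ L, f = 0 := by
    intro f
    have := key (eS.inv ≫ f ≫ e.hom)
    rw [← cancel_epi eS.inv, ← cancel_mono e.hom]
    simpa using this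
  rw [hf f, hf g]

/-- no maps from a module of projective dimension `≤ d` to an object concentrated in degrees
`< -d`. -/
theorem subsingleton_hom_single_of_hasProjectiveDimensionLT : ∀ (d : ℕ) (M : ModuleCat.{u} R),
    HasProjectiveDimensionLT M (d + 1) → ∀ (L : Dual.D R), L.IsLE (-(d : ℤ) - 1) →
    Subsingleton ((DerivedCategory.singleFunctor (ModuleCat.{u} R) 0).obj M ⟶ L) := by
  intro d
  induction d with
  | zero =>
    intro M hM L hL
    have hP : Projective M := (projective_iff_hasProjectiveDimensionLT_one (X := M)).2 hM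
    exact subsingleton_hom_single_projective M hP L (by simpa using hL)
  | succ d ih =>
    intro M hM L hL
    let π := Projective.π M
    let S : ShortComplex (ModuleCat.{u} R) := ShortComplex.mk (kernel.ι π) π (kernel.condition π)
    have hS : S.ShortExact := { exact := ShortComplex.exact_kernel π }
    have proj : Projective S.X₂ := by dsimp [S]; infer_instance
    have hM' : HasProjectiveDimensionLT S.X₁ (d + 1) :=
      (hS.hasProjectiveDimensionLT_X₃_iff d proj).1 hM
    have hT := hS.singleTriangle_distinguished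
    haveI := hL
    have hL1 : L.IsLE (-1) :=
      DerivedCategory.TStructure.t.isLE_of_le L (-((d + 1 : ℕ) : ℤ) - 1) (-1) (by push_cast; omega)
    have hL2 : (L⟦(-1 : ℤ)⟧).IsLE (-(d : ℤ) - 1) :=
      DerivedCategory.TStructure.t.isLE_shift L (-((d + 1 : ℕ) : ℤ) - 1) (-1) (-(d : ℤ) - 1)
        (by push_cast; omega)
    have h2 := subsingleton_hom_single_projective S.X₂ proj L hL1
    have h1 := ih S.X₁ hM' (L⟦(-1 : ℤ)⟧) hL2
    refine ⟨fun f g => ?_⟩
    have hf : ∀ f : (DerivedCategory.singleFunctor (ModuleCat.{u} R) 0).obj M ⟶ L, f = 0 := by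
      intro f
      obtain ⟨g, hg⟩ := Triangle.yoneda_exact₃ _ hT f (h2.elim _ _)
      have hg0 : g = 0 := by
        apply (shiftFunctor (Dual.D R) (-1 : ℤ)).map_injective
        rw [Functor.map_zero]
        have e : ((DerivedCategory.singleFunctor (ModuleCat.{u} R) 0).obj S.X₁)⟦(1 : ℤ)⟧⟦(-1 : ℤ)⟧ ≅
            (DerivedCategory.singleFunctor (ModuleCat.{u} R) 0).obj S.X₁ :=
          (shiftEquiv (Dual.D R) (1 : ℤ)).unitIso.symm.app _
        refine (cancel_epi e.inv).1 ?_
        exact h1.elim _ _
      rw [hg, hg0]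
      exact comp_zero
    rw [hf f, hf g]

/-- the vanishing across a gap. -/
theorem subsingleton_hom_of_gap (d : ℕ)
    (hgl : ∀ M : ModuleCat.{u} R, HasProjectiveDimensionLT M (d + 1)) (K L : Dual.D R) (b k : ℤ)
    (hKb : ∀ i : ℤ, b < i → IsZero ((DerivedCategory.homologyFunctor (ModuleCat.{u} R) i).obj K))
    (hK : ∀ i : ℤ, i ≤ k → IsZero ((DerivedCategory.homologyFunctor (ModuleCat.{u} R) i).obj K))
    (hL : L.IsLE (k - d)) : Subsingleton (K ⟶ L) := by
  refine Devissage2.devissage_homology' (fun X => Subsingleton (X ⟶ L))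
    (fun X Y e h => ⟨fun f g => by
      rw [← cancel_epi e.hom]
      exact h.elim _ _⟩)
    (fun X hX => ⟨fun f g => hX.eq_of_src _ _⟩)
    (fun T hT h1 h3 => ⟨fun f g => by
      have hf : ∀ f : T.obj₂ ⟶ L, f = 0 := by
        intro f
        obtain ⟨g, hg⟩ := Triangle.yoneda_exact₂ _ hT f (h1.elim _ _)
        rw [hg, h3.elim g 0, comp_zero]
      rw [hf f, hf g]⟩)
    (b - k).toNat b K hKb (fun i hi => hK i (by
      have := Int.self_le_toNat (b - k)
      omega)) (fun i => ?_)
  by_cases hi : i ≤ k
  · exact ⟨fun f g => ((DerivedCategory.singleFunctor (ModuleCat.{u} R) i).map_isZero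
      (hK i hi)).eq_of_src _ _⟩
  · haveI := hL
    haveI hLi0 : (L⟦i⟧).IsLE (k - d - i) :=
      DerivedCategory.TStructure.t.isLE_shift L (k - d) i (k - d - i) (by omega)
    have hLi : (L⟦i⟧).IsLE (-(d : ℤ) - 1) :=
      DerivedCategory.TStructure.t.isLE_of_le (L⟦i⟧) (k - d - i) _ (by omega)
    have h1 := subsingleton_hom_single_of_hasProjectiveDimensionLT d
      ((DerivedCategory.homologyFunctor (ModuleCat.{u} R) i).obj K) (hgl _) (L⟦i⟧) hLi
    have e : ((DerivedCategory.singleFunctor (ModuleCat.{u} R) i).obj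
        ((DerivedCategory.homologyFunctor (ModuleCat.{u} R) i).obj K))⟦i⟧ ≅
        (DerivedCategory.singleFunctor (ModuleCat.{u} R) 0).obj
          ((DerivedCategory.homologyFunctor (ModuleCat.{u} R) i).obj K) :=
      ((DerivedCategory.singleFunctors (ModuleCat.{u} R)).shiftIso i 0 i (by omega)).app _
    refine ⟨fun f g => ?_⟩
    apply (shiftFunctor (Dual.D R) i).map_injective
    refine (cancel_epi e.inv).1 ?_
    exact h1.elim _ _

end Groth.Agent.Lib.helper23.RegGap
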