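import Mathlib
import Groth.Prelude.Def_DRing4
import Groth.Agent.Lib.Helper23.RegGap
import Groth.Agent.Lib.Helper23.ProjAmp2
import Groth.Agent.Lib.Helper23.RegFibre2
import Groth.Agent.Lib.Helper23.TA9
import Groth.Agent.Lib.Helper23.TA5
import Groth.Agent.Lib.Helper23.DRingPC8
import Groth.Agent.Lib.Helper23.RAdj3

/-!
# A flat quotient of a polynomial ring has finite projective dimension (helper23)

* `hgl_mvPolynomial`: Hilbert's syzygy theorem for `κ(p) ⊗_R R[x₁, …, xₙ]`.
* `exists_hasProjectiveDimensionLT_of_isPerfect_single`: a module which is perfect as a complex has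
  finite projective dimension.
* `exists_hasProjectiveDimensionLT_of_flat`: for `R` Noetherian, `A` a flat `R`-algebra and
  `ψ : R[x₁, …, xₙ] → A` surjective, `A` is a finite `R[x]`-module of finite projective dimension.
-/

set_option autoImplicit false
universe u
open CategoryTheory CategoryTheory.Limits TensorProduct

attribute [local instance] HasDerivedCategory.standard

namespace Groth.Agent.Lib.helper23.PerfT

open Groth.Agent.Lib.helper23.RAdj Groth.Agent.Lib.helper23.TA
  Groth.Agent.Lib.helper23.PCohCore Groth.Agent.Lib.helper23.DRingPC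

/-- Hilbert's syzygy theorem for the fibres of a polynomial ring -/
theorem hgl_mvPolynomial (R : Type u) [CommRing R] (n : ℕ) (p : PrimeSpectrum R)
    (M : Type u) [AddCommGroup M]
    [Module (TensorProduct R p.asIdeal.ResidueField (MvPolynomial (Fin n) R)) M] :
    HasProjectiveDimensionLT
      (ModuleCat.of (TensorProduct R p.asIdeal.ResidueField (MvPolynomial (Fin n) R)) M) (n + 1) := by
  let k := p.asIdeal.ResidueField
  let S := TensorProduct R k (MvPolynomial (Fin n) R)
  let e : S ≃+* MvPolynomial (Fin n) k := (MvPolynomial.algebraTensorAlgEquiv R k).toRingEquiv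
  haveI : IsNoetherianRing S := isNoetherianRing_of_ringEquiv _ e.symm
  haveI : IsRegularRing k := inferInstance
  haveI : IsRegularRing S := IsRegularRing.of_ringEquiv e.symm
  have hreg : ∀ q : PrimeSpectrum S, IsRegularLocalRing (Localization.AtPrime q.asIdeal) :=
    fun q => IsRegularRing.isRegularLocalRing_localization q.asIdeal
  have hd : ringKrullDim S = n := by
    rw [ringKrullDim_eq_of_ringEquiv e, MvPolynomial.ringKrullDim_of_isNoetherianRing,
      ringKrullDim_eq_zero_of_field]
    simp
  exact RegGap.hasProjectiveDimensionLT_of_regular hreg n hd _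

/-- a module which is perfect as a complex has finite projective dimension -/
theorem exists_hasProjectiveDimensionLT_of_isPerfect_single {S : Type u} [CommRing S]
    (M : ModuleCat.{u} S)
    (h : DRing.IsPerfect S ((DerivedCategory.singleFunctor (ModuleCat.{u} S) 0).obj M)) :
    ∃ d : ℕ, HasProjectiveDimensionLT M (d + 1) := by
  obtain ⟨E, a, b, hz, hE, ⟨e⟩⟩ := h
  refine ⟨(-a).toNat, ?_⟩
  apply HasProjectiveDimensionLT.mk
  intro i hi Y x
  apply (Abelian.Ext.homEquiv (C := ModuleCat.{u} S)).injective
  have hsub : Subsingleton ((DerivedCategory.singleFunctor (ModuleCat.{u} S) 0).obj M ⟶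
      (Dual.inD S Y)⟦(i : ℤ)⟧) :=
    Groth.Agent.Lib.helper23.ProjAmp.extD_subsingleton_of_projAmp _ a b
      ⟨E, hz, fun j => (hE j).2, ⟨e⟩⟩ Y (i : ℤ) (Or.inr (by omega))
  exact hsub.elim _ _

/-- a flat quotient of a polynomial ring over a Noetherian ring has finite projective dimension
over the polynomial ring -/
theorem exists_hasProjectiveDimensionLT_of_flat (R A : Type u) [CommRing R] [CommRing A]
    [IsNoetherianRing R] [Algebra R A] [Module.Flat R A] (n : ℕ)
    (ψ : MvPolynomial (Fin n) R →ₐ[R] A) (hψ : Function.Surjective ψ) :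
    Module.Finite (MvPolynomial (Fin n) R) (BA ψ.toRingHom) ∧
      ∃ d : ℕ, HasProjectiveDimensionLT (BA ψ.toRingHom) (d + 1) := by
  let P := MvPolynomial (Fin n) R
  have hfin : Module.Finite P (BA ψ.toRingHom) := by
    letI := ψ.toRingHom.toAlgebra
    exact Module.Finite.of_surjective (Algebra.linearMap P A) hψ
  refine ⟨hfin, ?_⟩
  let K : Dual.D P := (DerivedCategory.singleFunctor (ModuleCat.{u} P) 0).obj (BA ψ.toRingHom)
  have hK : DRing.IsPseudoCoherent' P K := by
    rw [isPseudoCoherent'_iff_npc]
    exact (forall_npc_single_iff_of_noetherian P (BA ψ.toRingHom)).2 hfin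
  have hflat : Module.Flat R ((ModuleCat.restrictScalars.{u} (algebraMap R P)).obj
      (BA ψ.toRingHom)) := by
    let l : A ≃ₗ[R] ((ModuleCat.restrictScalars.{u} (algebraMap R P)).obj (BA ψ.toRingHom)) :=
      { toFun := fun a => a
        invFun := fun a => a
        left_inv := fun _ => rfl
        right_inv := fun _ => rfl
        map_add' := fun _ _ => rfl
        map_smul' := fun r a => by
          show r • a = (ψ (algebraMap R P r)) * a
          rw [AlgHom.commutes, Algebra.smul_def] }
    exact Module.Flat.of_linearEquiv l.symm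
  have hKa : DRing.HasTorAmplitudeIn R 0 0 ((DRing.restrictD (algebraMap R P)).obj K) := by
    refine hasTorAmplitudeIn_of_iso
      (((ModuleCat.restrictScalars.{u} (algebraMap R P)).mapDerivedCategorySingleFunctor 0).app
        (BA ψ.toRingHom)).symm ?_
    exact hasTorAmplitudeIn_single_flat _ hflat 0
  have hperf := (RegFibre.isPerfect_of_fibres_globalDimension (A := R) (B := P) n
    (fun p M _ _ => hgl_mvPolynomial R n p M) 0 0 K hK hKa).1
  exact exists_hasProjectiveDimensionLT_of_isPerfect_single _ hperf

end Groth.Agent.Lib.helper23.PerfT
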