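import Mathlib
import Groth.Prelude.Def_DRing2
import Groth.Agent.Lib.Helper23.BaseChg
import Groth.Agent.Lib.Helper23.ExtSc3
import Groth.Agent.Lib.Helper23.DRingPC10

set_option autoImplicit false
universe u
open CategoryTheory CategoryTheory.Limits TensorProduct

attribute [local instance] HasDerivedCategory.standard

namespace Groth.Agent.Lib.helper23.BaseChg

open Groth.Agent.Lib.helper23.ExtSc Groth.Agent.Lib.helper23.PCohCore
  Groth.Agent.Lib.helper23.DRingPC

section General

variable {A : Type u} [CommRing A]

/-- `npc_of_localization_away` for a general finite index type. -/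
theorem npc_of_localization_away' {ι : Type} [Finite ι] (f : ι → A)
    (hf : Ideal.span (Set.range f) = ⊤)
    (K : DRing.Cx A) (m : ℤ)
    (h : ∀ i, NPC (FF (Localization.Away (f i))) m (DRing.toD (((ModuleCat.extendScalars.{u, u, u}
      (algebraMap A (Localization.Away (f i)))).mapHomologicalComplex
        (ComplexShape.up ℤ)).obj K))) :
    NPC (FF A) m (DRing.toD K) := by
  refine npc_of_npc_extend_family (B := fun i => Localization.Away (f i))
    (fun i => algebraMap A (Localization.Away (f i))) (fun i => ?_) ?_ ?_ K m h
  · rw [RingHom.flat_algebraMap_iff]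
    exact IsLocalization.flat (Localization.Away (f i)) (Submonoid.powers (f i))
  · intro M hM
    refine subsingleton_of_localization_span M (Set.range f) hf ?_
    rintro ⟨_, i, rfl⟩
    exact (subsingleton_extend_iff M).1 (hM i)
  · intro M hM
    refine finite_of_localization_span M (Set.range f) hf ?_
    rintro ⟨_, i, rfl⟩
    exact (finite_extend_iff M).1 (hM i)

/-- flat base change of `NPC`, on complexes. -/
theorem npc_extend_complex {B : Type u} [CommRing B] [Algebra A B] [Module.Flat A B]
    (K : DRing.Cx A) (m : ℤ) (h : NPC (FF A) m (DRing.toD K)) :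
    NPC (FF B) m (DRing.toD (((ModuleCat.extendScalars.{u, u, u}
      (algebraMap A B)).mapHomologicalComplex (ComplexShape.up ℤ)).obj K)) := by
  haveI : PreservesFiniteLimits (ModuleCat.extendScalars.{u, u, u} (algebraMap A B)) :=
    preservesFiniteLimits_extendScalars _ (by rw [RingHom.flat_algebraMap_iff]; infer_instance)
  haveI : PreservesFiniteColimits (ModuleCat.extendScalars.{u, u, u} (algebraMap A B)) :=
    preservesFiniteColimits_extendScalars _
  exact (npc_extend (algebraMap A B) m _ h).of_iso (extendComplexIso (algebraMap A B) K)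

/-- a complex with vanishing terms is pseudo-coherent. -/
lemma npc_of_terms_isZero (K : DRing.Cx A) (m : ℤ) (h : ∀ i, IsZero (K.X i)) :
    NPC (FF A) m (DRing.toD K) := by
  refine NPC.of_isZero (FF A) m (DerivedCategory.Q.map_isZero ?_)
  rw [IsZero.iff_id_eq_zero]
  apply HomologicalComplex.hom_ext
  intro i
  exact (h i).eq_of_src _ _

end General

section Core

variable {P A : Type u} [CommRing P] [CommRing A] (α : P →+* A) (F : P)
  (P' A' : Type u) [CommRing P'] [CommRing A'] [Algebra P P'] [Algebra A A']
  [IsLocalization.Away F P'] [IsLocalization.Away (α F) A']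

/-- the induced map on localizations. -/
noncomputable def locMap : P' →+* A' := IsLocalization.Away.map P' A' α F

lemma locMap_algebraMap (p : P) :
    locMap α F P' A' (algebraMap P P' p) = algebraMap A A' (α p) := by
  unfold locMap IsLocalization.Away.map
  exact IsLocalization.map_eq _ p

lemma locMap_surjective (hα : Function.Surjective α) :
    Function.Surjective (locMap α F P' A') := by
  rw [locMap, IsLocalization.Away.map_surjective_iff]
  intro a
  obtain ⟨b, rfl⟩ := hα a
  exact ⟨b, 0, by simp⟩

/-- the presentation `P[X] → A'`. -/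
noncomputable def polyToLoc : Polynomial P →+* A' :=
  (locMap α F P' A').comp (polyToAway F P')

lemma polyToLoc_C (p : P) :
    polyToLoc α F P' A' (Polynomial.C p) = algebraMap A A' (α p) := by
  show locMap α F P' A' (polyToAway F P' (Polynomial.C p)) = _
  rw [polyToAway_C, locMap_algebraMap]

lemma polyToLoc_surjective (hα : Function.Surjective α) :
    Function.Surjective (polyToLoc α F P' A') :=
  (locMap_surjective α F P' A' hα).comp (polyToAway_surjective F P')

omit [IsLocalization.Away (α F) A'] in
lemma pcMod_polyToAway : PCMod (Polynomial P)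
    ((ModuleCat.restrictScalars.{u} (polyToAway F P')).obj (ModuleCat.of P' P')) :=
  pcMod_of_regular_quotient (polyToAway F P') _ (isRegular_CX_sub_one F)
    (polyToAway_surjective F P') (polyToAway_eq_zero_iff F P')

/-- the core comparison. -/
theorem npc_polyToLoc_iff (K : DRing.Cx A) (m : ℤ) :
    NPC (FF (Polynomial P)) m
      ((ModuleCat.restrictScalars.{u} (polyToLoc α F P' A')).mapDerivedCategory.obj
        (DRing.toD (((ModuleCat.extendScalars.{u, u, u} (algebraMap A A')).mapHomologicalComplex
          (ComplexShape.up ℤ)).obj K))) ↔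
    NPC (FF P') m (DRing.toD (((ModuleCat.extendScalars.{u, u, u}
      (algebraMap P P')).mapHomologicalComplex (ComplexShape.up ℤ)).obj
        (((ModuleCat.restrictScalars.{u} α).mapHomologicalComplex (ComplexShape.up ℤ)).obj K))) := by
  rw [npc_restrict_comp_iff (polyToAway F P') (pcMod_polyToAway F P') (locMap α F P' A')
    (polyToLoc α F P' A') rfl]
  obtain ⟨e⟩ := nonempty_complex_iso α (locMap α F P' A') (locMap_algebraMap α F P' A') F K
  have e' : (ModuleCat.restrictScalars.{u} (locMap α F P' A')).mapDerivedCategory.obj
      (DRing.toD (((ModuleCat.extendScalars.{u, u, u} (algebraMap A A')).mapHomologicalComplex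
          (ComplexShape.up ℤ)).obj K)) ≅
      DRing.toD (((ModuleCat.extendScalars.{u, u, u}
      (algebraMap P P')).mapHomologicalComplex (ComplexShape.up ℤ)).obj
        (((ModuleCat.restrictScalars.{u} α).mapHomologicalComplex (ComplexShape.up ℤ)).obj K)) :=
    (ModuleCat.restrictScalars.{u} (locMap α F P' A')).mapDerivedCategoryFactors.app _ ≪≫
      DerivedCategory.Q.mapIso e.symm
  exact ⟨fun h => h.of_iso e', fun h => h.of_iso e'.symm⟩

end Core

end Groth.Agent.Lib.helper23.BaseChg
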