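import Mathlib
import Groth.Agent.Lib.Helper23.ExtSc3

set_option autoImplicit false
universe u
open CategoryTheory CategoryTheory.Limits Pretriangulated TensorProduct

attribute [local instance] HasDerivedCategory.standard

namespace Groth.Agent.Lib.helper23.ExtSc

open Groth.Agent.Lib.helper23.PCohCore Groth.Agent.Lib.helper23.DRingPC

variable {A B : Type u} [CommRing A] [CommRing B] [Algebra A B] [Module.Flat A B]

/-- flat base change of an `m`-pseudo-coherent module. -/
theorem npc_single_baseChange (m : ℤ) (M : ModuleCat.{u} A)
    (h : NPC (FF A) m ((DerivedCategory.singleFunctor (ModuleCat.{u} A) 0).obj M)) :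
    NPC (FF B) m ((DerivedCategory.singleFunctor (ModuleCat.{u} B) 0).obj
      (ModuleCat.of B (B ⊗[A] M))) := by
  have hflat : (algebraMap A B).Flat := by
    rw [RingHom.flat_algebraMap_iff]
    infer_instance
  haveI := preservesFiniteLimits_extendScalars (algebraMap A B) hflat
  haveI := preservesFiniteColimits_extendScalars (algebraMap A B)
  have h1 := npc_extend (algebraMap A B) m _ h
  have e1 := ((ModuleCat.extendScalars.{u, u, u} (algebraMap A B)).mapDerivedCategorySingleFunctor
    0).app M
  have e2 : (ModuleCat.extendScalars.{u, u, u} (algebraMap A B)).obj M ≅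
      ModuleCat.of B (B ⊗[A] M) := (extendObjEquiv (B := B) M).toModuleIso
  exact h1.of_iso (e1 ≪≫ (DerivedCategory.singleFunctor (ModuleCat.{u} B) 0).mapIso e2)

end Groth.Agent.Lib.helper23.ExtSc
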