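import Mathlib
import Groth.Prelude.Def_DRing2
import Groth.Prelude.Def_DerCA
import Groth.Agent.Lib.Helper23.DRingPC11
import Groth.Agent.Lib.Helper23.ExtSc4

set_option autoImplicit false
universe u
open CategoryTheory CategoryTheory.Limits Pretriangulated TensorProduct

attribute [local instance] HasDerivedCategory.standard

namespace Groth.Agent.Lib.helper23.DRingPC

open Groth.Agent.Lib.helper23.PCohCore Groth.Agent.Lib.helper23.PerfThick

/-- `A` is a pseudo-coherent `P`-module through `α`. -/
def PCHom {P A : Type u} [CommRing P] [CommRing A] (α : P →+* A) : Prop :=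
  PCMod P ((ModuleCat.restrictScalars.{u} α).obj (ModuleCat.of A A))

section Transport

variable {P P' A A' : Type u} [CommRing P] [CommRing P'] [CommRing A] [CommRing A']

/-- transport of `PCHom` along ring isomorphisms. -/
lemma PCHom.transport (e₁ : P' ≃+* P) (e₂ : A' ≃+* A) (α' : P' →+* A') (α : P →+* A)
    (h : ∀ p, e₂ (α' p) = α (e₁ p)) (hα : PCHom α) : PCHom α' := by
  intro m
  have h1 := (npc_restrict_iff e₁.toRingHom (pcMod_of_ringEquiv e₁)
    ((DerivedCategory.singleFunctor (ModuleCat.{u} P) 0).obj
      ((ModuleCat.restrictScalars.{u} α).obj (ModuleCat.of A A))) m).1 (hα m)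
  have h2 := (npc_restrict_single_iff e₁.toRingHom _ m).1 h1
  refine h2.of_iso ((DerivedCategory.singleFunctor (ModuleCat.{u} P') 0).mapIso
    (LinearEquiv.toModuleIso
    ({ toFun := fun x => e₂.symm x
       invFun := fun x => e₂ x
       map_add' := fun x y => map_add e₂.symm x y
       map_smul' := fun p (x : A) => by
        show e₂.symm (α (e₁ p) * x) = α' p * e₂.symm x
        rw [map_mul, ← h p, e₂.symm_apply_apply]
       left_inv := fun x => e₂.apply_symm_apply x
       right_inv := fun x => e₂.symm_apply_apply x } :
      ((ModuleCat.restrictScalars.{u} e₁.toRingHom).obj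
        ((ModuleCat.restrictScalars.{u} α).obj (ModuleCat.of A A))) ≃ₗ[P']
        ((ModuleCat.restrictScalars.{u} α').obj (ModuleCat.of A' A')))))

end Transport

section OneVar

variable {P A : Type u} [CommRing P] [CommRing A]

/-- `P[X] ⊗ A ≃ A[X]`, linearly over `P[X]`. -/
noncomputable def polyTensorEquiv [Algebra P A] :
    (ModuleCat.of (Polynomial P) ((Polynomial P) ⊗[P] A)) ≃ₗ[Polynomial P]
      ((ModuleCat.restrictScalars.{u} (Polynomial.mapRingHom (algebraMap P A))).obj
        (ModuleCat.of (Polynomial A) (Polynomial A))) :=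
  { toFun := fun z => (polyEquivTensor P A).symm (TensorProduct.comm P (Polynomial P) A z)
    invFun := fun w => (TensorProduct.comm P (Polynomial P) A).symm (polyEquivTensor P A w)
    map_add' := fun x y => by
      show (polyEquivTensor P A).symm (TensorProduct.comm P (Polynomial P) A (x + y)) =
        ((polyEquivTensor P A).symm (TensorProduct.comm P (Polynomial P) A x) +
          (polyEquivTensor P A).symm (TensorProduct.comm P (Polynomial P) A y) : Polynomial A)
      rw [map_add, map_add]
    map_smul' := fun q z => by
      show (polyEquivTensor P A).symm (TensorProduct.comm P (Polynomial P) A (q • z)) =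
        (Polynomial.map (algebraMap P A) q *
          (polyEquivTensor P A).symm (TensorProduct.comm P (Polynomial P) A z) : Polynomial A)
      induction z using TensorProduct.induction_on with
      | zero => simp
      | tmul p a =>
        rw [TensorProduct.smul_tmul', TensorProduct.comm_tmul, TensorProduct.comm_tmul,
          polyEquivTensor_symm_apply_tmul_eq_smul, polyEquivTensor_symm_apply_tmul_eq_smul,
          smul_eq_mul, Polynomial.map_mul, mul_smul_comm]
      | add x y hx hy =>
        rw [smul_add, map_add, map_add, hx, hy, map_add, map_add, mul_add]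
    left_inv := fun z => by
      show (TensorProduct.comm P (Polynomial P) A).symm (polyEquivTensor P A
        ((polyEquivTensor P A).symm (TensorProduct.comm P (Polynomial P) A z))) = z
      rw [AlgEquiv.apply_symm_apply, LinearEquiv.symm_apply_apply]
    right_inv := fun w => by
      show (polyEquivTensor P A).symm (TensorProduct.comm P (Polynomial P) A
        ((TensorProduct.comm P (Polynomial P) A).symm (polyEquivTensor P A w))) = w
      rw [LinearEquiv.apply_symm_apply, AlgEquiv.symm_apply_apply] }

/-- polynomial base change of a pseudo-coherent algebra. -/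
lemma PCHom.polynomial (α : P →+* A) (hα : PCHom α) : PCHom (Polynomial.mapRingHom α) := by
  letI : Algebra P A := α.toAlgebra
  intro m
  have h1 : NPC (FF P) m ((DerivedCategory.singleFunctor (ModuleCat.{u} P) 0).obj
      (ModuleCat.of P A)) := (hα m).of_iso
    ((DerivedCategory.singleFunctor (ModuleCat.{u} P) 0).mapIso (LinearEquiv.toModuleIso
      ({ toFun := fun x => x
         invFun := fun x => x
         map_add' := fun _ _ => rfl
         map_smul' := fun _ _ => rfl
         left_inv := fun _ => rfl
         right_inv := fun _ => rfl } :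
        ((ModuleCat.restrictScalars.{u} α).obj (ModuleCat.of A A)) ≃ₗ[P] (ModuleCat.of P A))))
  have h2 := ExtSc.npc_single_baseChange (B := Polynomial P) m (ModuleCat.of P A) h1
  exact h2.of_iso ((DerivedCategory.singleFunctor (ModuleCat.{u} (Polynomial P)) 0).mapIso
    (polyTensorEquiv (P := P) (A := A)).toModuleIso)

end OneVar

end Groth.Agent.Lib.helper23.DRingPC

namespace Groth.Agent.Lib.helper23.DRingPC

open Groth.Agent.Lib.helper23.PCohCore Groth.Agent.Lib.helper23.PerfThick

section MvPoly

variable {P A : Type u} [CommRing P] [CommRing A]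

lemma finSuccEquiv_map (α : P →+* A) (k : ℕ) (p : MvPolynomial (Fin (k + 1)) P) :
    MvPolynomial.finSuccEquiv A k (MvPolynomial.map α p) =
      Polynomial.map (MvPolynomial.map α) (MvPolynomial.finSuccEquiv P k p) := by
  have : ((MvPolynomial.finSuccEquiv A k : MvPolynomial (Fin (k + 1)) A →+*
      Polynomial (MvPolynomial (Fin k) A)).comp (MvPolynomial.map α)) =
      (Polynomial.mapRingHom (MvPolynomial.map α)).comp
        (MvPolynomial.finSuccEquiv P k : MvPolynomial (Fin (k + 1)) P →+*
          Polynomial (MvPolynomial (Fin k) P)) := by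
    apply MvPolynomial.ringHom_ext
    · intro r
      simp [MvPolynomial.finSuccEquiv_apply]
    · intro i
      refine Fin.cases ?_ (fun j => ?_) i
      · simp [MvPolynomial.finSuccEquiv_apply]
      · simp [MvPolynomial.finSuccEquiv_apply]
  exact DFunLike.congr_fun this p

/-- multivariate polynomial base change of a pseudo-coherent algebra. -/
theorem PCHom.mvPolynomial (α : P →+* A) (hα : PCHom α) :
    ∀ k : ℕ, PCHom (MvPolynomial.map α : MvPolynomial (Fin k) P →+* MvPolynomial (Fin k) A) := by
  intro k
  induction k with
  | zero =>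
    refine PCHom.transport (MvPolynomial.isEmptyRingEquiv P (Fin 0))
      (MvPolynomial.isEmptyRingEquiv A (Fin 0)) _ α (fun p => ?_) hα
    rw [MvPolynomial.isEmptyRingEquiv_eq_coeff_zero, MvPolynomial.isEmptyRingEquiv_eq_coeff_zero,
      MvPolynomial.coeff_map]
  | succ k ih =>
    refine PCHom.transport (MvPolynomial.finSuccEquiv P k).toRingEquiv
      (MvPolynomial.finSuccEquiv A k).toRingEquiv _ _ (fun p => ?_) (PCHom.polynomial _ ih)
    exact finSuccEquiv_map α k p

end MvPoly

section Glue

variable {R B : Type u} [CommRing R] [CommRing B] [Algebra R B]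

/-- relative pseudo-coherence through a surjection from an iterated polynomial ring. -/
theorem isRelPseudoCoherent_iff_npc_iterated {n k : ℕ}
    (γ : MvPolynomial (Fin k) (MvPolynomial (Fin n) R) →+* B) (hγs : Function.Surjective γ)
    (hγC : ∀ r : R, γ (MvPolynomial.C (MvPolynomial.C r)) = algebraMap R B r)
    (K : Dual.D B) (m : ℤ) :
    DerCA.IsRelPseudoCoherent R B m K ↔ NPC (FF (MvPolynomial (Fin k) (MvPolynomial (Fin n) R))) m
      ((ModuleCat.restrictScalars.{u} γ).mapDerivedCategory.obj K) := by
  let ε : MvPolynomial (Fin (k + n)) R ≃ₐ[R] MvPolynomial (Fin k) (MvPolynomial (Fin n) R) :=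
    (MvPolynomial.renameEquiv R finSumFinEquiv.symm).trans
      (MvPolynomial.sumAlgEquiv R (Fin k) (Fin n))
  let β : MvPolynomial (Fin (k + n)) R →ₐ[R] B :=
    MvPolynomial.aeval (fun i => γ (ε (MvPolynomial.X i)))
  have hβ : (β : MvPolynomial (Fin (k + n)) R →+* B) = γ.comp ε.toRingEquiv.toRingHom := by
    apply MvPolynomial.ringHom_ext
    · intro r
      have h1 : ε (MvPolynomial.C r) = MvPolynomial.C (MvPolynomial.C r) := by
        have := ε.commutes r
        rw [MvPolynomial.algebraMap_eq] at this
        rw [this, MvPolynomial.algebraMap_apply, MvPolynomial.algebraMap_eq]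
      show β (MvPolynomial.C r) = γ (ε (MvPolynomial.C r))
      rw [h1, hγC, ← MvPolynomial.algebraMap_eq]
      exact β.commutes r
    · intro i
      show β (MvPolynomial.X i) = γ (ε (MvPolynomial.X i))
      simp [β]
  have hβs : Function.Surjective β := by
    intro b
    obtain ⟨y, rfl⟩ := hγs b
    refine ⟨ε.symm y, ?_⟩
    have := DFunLike.congr_fun hβ (ε.symm y)
    simp only [RingHom.comp_apply] at this
    show (β : MvPolynomial (Fin (k + n)) R →+* B) (ε.symm y) = γ y
    rw [this]
    congr 1
    exact ε.apply_symm_apply y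
  rw [isRelPseudoCoherent_iff_npc β hβs, npc_restrict_ringEquiv_iff ε.toRingEquiv γ _ hβ K m]

end Glue

end Groth.Agent.Lib.helper23.DRingPC

namespace Groth.Agent.Lib.helper23.DRingPC

open Groth.Agent.Lib.helper23.PCohCore Groth.Agent.Lib.helper23.PerfThick

/-- S6985 (one degree). -/
theorem isRelPseudoCoherent_iff_of_intermediate {R A B : Type u} [CommRing R] [CommRing A]
    [CommRing B] [Algebra R A] [Algebra A B] [Algebra R B] [IsScalarTower R A B]
    [Algebra.FiniteType R A] [Algebra.FiniteType A B]
    (hA : DerCA.IsRelPseudoCoherentModuleAll R A A) (K : Dual.D B) (m : ℤ) :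
    DerCA.IsRelPseudoCoherent A B m K ↔ DerCA.IsRelPseudoCoherent R B m K := by
  obtain ⟨n, α, hα⟩ := exists_presentation (R := R) (A := A)
  obtain ⟨k, β, hβ⟩ := exists_presentation (R := A) (A := B)
  have hPC : PCHom (α : MvPolynomial (Fin n) R →+* A) := fun m' =>
    (npc_restrict_single_iff _ (ModuleCat.of A A) m').1
      ((isRelPseudoCoherent_iff_npc α hα m' _).1 (hA m'))
  let φ : MvPolynomial (Fin k) (MvPolynomial (Fin n) R) →+* MvPolynomial (Fin k) A :=
    MvPolynomial.map (α : MvPolynomial (Fin n) R →+* A)
  have hφ : PCHom φ := PCHom.mvPolynomial _ hPC k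
  let γ : MvPolynomial (Fin k) (MvPolynomial (Fin n) R) →+* B :=
    (β : MvPolynomial (Fin k) A →+* B).comp φ
  have hγs : Function.Surjective γ :=
    hβ.comp (MvPolynomial.map_surjective _ hα)
  have hγC : ∀ r : R, γ (MvPolynomial.C (MvPolynomial.C r)) = algebraMap R B r := by
    intro r
    show β (MvPolynomial.map (α : MvPolynomial (Fin n) R →+* A)
      (MvPolynomial.C (MvPolynomial.C r))) = _
    rw [MvPolynomial.map_C]
    have h3 : α (MvPolynomial.C r) = algebraMap R A r := by
      rw [← MvPolynomial.algebraMap_eq]
      exact α.commutes r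
    show β (MvPolynomial.C (α (MvPolynomial.C r))) = _
    rw [h3, ← MvPolynomial.algebraMap_eq, β.commutes, ← IsScalarTower.algebraMap_apply]
  rw [isRelPseudoCoherent_iff_npc β hβ, isRelPseudoCoherent_iff_npc_iterated γ hγs hγC K m]
  exact (npc_restrict_comp_iff φ hφ (β : MvPolynomial (Fin k) A →+* B) γ rfl K m).symm

end Groth.Agent.Lib.helper23.DRingPC
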