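import Mathlib
import Groth.Prelude.Def_DRing2
import Groth.Prelude.Def_DerCA
import Groth.Agent.Lib.Helper23.BaseChg2
import Groth.Agent.Lib.Helper23.DRingPC12

set_option autoImplicit false
universe u
open CategoryTheory CategoryTheory.Limits TensorProduct

attribute [local instance] HasDerivedCategory.standard

namespace Groth.Agent.Lib.helper23.BaseChg

open Groth.Agent.Lib.helper23.ExtSc Groth.Agent.Lib.helper23.PCohCore
  Groth.Agent.Lib.helper23.DRingPC

section Rel

variable {R A : Type u} [CommRing R] [CommRing A] [Algebra R A] {n : ℕ}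
  (α : MvPolynomial (Fin n) R →ₐ[R] A) (hα : Function.Surjective α)
  (F : MvPolynomial (Fin n) R)
  (A' : Type u) [CommRing A'] [Algebra A A'] [Algebra R A'] [IsScalarTower R A A']
  [IsLocalization.Away ((α : MvPolynomial (Fin n) R →+* A) F) A']

include hα in
/-- relative pseudo-coherence over the localization, tested on the standard presentation. -/
theorem isRelPseudoCoherent_loc_iff (X : Dual.D A') (m : ℤ) :
    DerCA.IsRelPseudoCoherent R A' m X ↔
      NPC (FF (Polynomial (MvPolynomial (Fin n) R))) m
        ((ModuleCat.restrictScalars.{u} (polyToLoc (α : MvPolynomial (Fin n) R →+* A) F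
          (Localization.Away F) A')).mapDerivedCategory.obj X) := by
  set δ := polyToLoc (α : MvPolynomial (Fin n) R →+* A) F (Localization.Away F) A' with hδ
  have hδs : Function.Surjective δ := polyToLoc_surjective _ F _ A' hα
  have hδC : ∀ r : R, δ (Polynomial.C (MvPolynomial.C r)) = algebraMap R A' r := by
    intro r
    rw [hδ, polyToLoc_C]
    have h3 : α (MvPolynomial.C r) = algebraMap R A r := by
      rw [← MvPolynomial.algebraMap_eq]
      exact α.commutes r
    show algebraMap A A' (α (MvPolynomial.C r)) = _
    rw [h3, ← IsScalarTower.algebraMap_apply]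
  let ε : MvPolynomial (Fin (n + 1)) R ≃ₐ[R] Polynomial (MvPolynomial (Fin n) R) :=
    MvPolynomial.finSuccEquiv R n
  let γ₀ : MvPolynomial (Fin (n + 1)) R →ₐ[R] A' :=
    MvPolynomial.aeval (fun i => δ (ε (MvPolynomial.X i)))
  have hγ₀ : (γ₀ : MvPolynomial (Fin (n + 1)) R →+* A') = δ.comp ε.toRingEquiv.toRingHom := by
    apply MvPolynomial.ringHom_ext
    · intro r
      have h1 : ε (MvPolynomial.C r) = Polynomial.C (MvPolynomial.C r) := by
        have := ε.commutes r
        rw [MvPolynomial.algebraMap_eq] at this
        rw [this]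
        rfl
      show γ₀ (MvPolynomial.C r) = δ (ε (MvPolynomial.C r))
      rw [h1, hδC, ← MvPolynomial.algebraMap_eq]
      exact γ₀.commutes r
    · intro i
      show γ₀ (MvPolynomial.X i) = δ (ε (MvPolynomial.X i))
      simp [γ₀]
  have hγ₀s : Function.Surjective γ₀ := by
    intro b
    obtain ⟨y, rfl⟩ := hδs b
    refine ⟨ε.symm y, ?_⟩
    have := DFunLike.congr_fun hγ₀ (ε.symm y)
    simp only [RingHom.comp_apply] at this
    show (γ₀ : MvPolynomial (Fin (n + 1)) R →+* A') (ε.symm y) = δ y
    rw [this]
    congr 1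
    exact ε.apply_symm_apply y
  rw [isRelPseudoCoherent_iff_npc γ₀ hγ₀s,
    npc_restrict_ringEquiv_iff ε.toRingEquiv δ _ hγ₀ X m]

include hα F in
/-- relative pseudo-coherence localizes. -/
theorem isRelPseudoCoherent_extend (K : DRing.Cx A) (m : ℤ)
    (h : DerCA.IsRelPseudoCoherent R A m (DRing.toD K)) :
    DerCA.IsRelPseudoCoherent R A' m
      (DRing.toD (((ModuleCat.extendScalars.{u, u, u} (algebraMap A A')).mapHomologicalComplex
        (ComplexShape.up ℤ)).obj K)) := by
  rw [isRelPseudoCoherent_loc_iff α hα F A', npc_polyToLoc_iff]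
  have h1 := (isRelPseudoCoherent_iff_npc α hα m _).1 h
  have h2 : NPC (FF (MvPolynomial (Fin n) R)) m (DRing.toD
      (((ModuleCat.restrictScalars.{u} (α : MvPolynomial (Fin n) R →+* A)).mapHomologicalComplex
        (ComplexShape.up ℤ)).obj K)) :=
    h1.of_iso ((ModuleCat.restrictScalars.{u}
      (α : MvPolynomial (Fin n) R →+* A)).mapDerivedCategoryFactors.app K)
  haveI : Module.Flat (MvPolynomial (Fin n) R) (Localization.Away F) :=
    IsLocalization.flat (Localization.Away F) (Submonoid.powers F)
  exact npc_extend_complex _ m h2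

end Rel

section Cover

/-- a module on which `h` acts by zero dies after inverting `h`. -/
lemma subsingleton_extend_of_smul_zero {P : Type u} [CommRing P] (h : P) (M : ModuleCat.{u} P)
    (hM : ∀ m : M, h • m = 0) :
    Subsingleton ((ModuleCat.extendScalars.{u, u, u}
      (algebraMap P (Localization.Away h))).obj M) := by
  rw [subsingleton_extend_iff]
  have key : ∀ z : Localization.Away h ⊗[P] M, z = 0 := by
    intro z
    induction z using TensorProduct.induction_on with
    | zero => rfl
    | tmul p m =>
      obtain ⟨u, hu⟩ : IsUnit (algebraMap P (Localization.Away h) h) :=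
        IsLocalization.Away.algebraMap_isUnit h
      have h1 : p = h • (p * ↑u⁻¹) := by
        rw [Algebra.smul_def, ← hu, mul_comm p, ← mul_assoc, Units.mul_inv, one_mul]
      rw [h1, TensorProduct.smul_tmul, hM, TensorProduct.tmul_zero]
    | add x y hx hy => rw [hx, hy, add_zero]
  exact ⟨fun x y => by rw [key x, key y]⟩

variable {R A : Type u} [CommRing R] [CommRing A] [Algebra R A] {n : ℕ}
  (α : MvPolynomial (Fin n) R →ₐ[R] A) (hα : Function.Surjective α)

include hα in
/-- relative pseudo-coherence is local on the source. -/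
theorem isRelPseudoCoherent_of_cover {ι : Type} [Finite ι] (f : ι → A)
    (hf : Ideal.span (Set.range f) = ⊤) (K : DRing.Cx A) (m : ℤ)
    (h : ∀ i, DerCA.IsRelPseudoCoherent R (Localization.Away (f i)) m
      (DRing.toD (((ModuleCat.extendScalars.{u, u, u}
        (algebraMap A (Localization.Away (f i)))).mapHomologicalComplex
          (ComplexShape.up ℤ)).obj K))) :
    DerCA.IsRelPseudoCoherent R A m (DRing.toD K) := by
  cases nonempty_fintype ι
  choose F hF using fun i => hα (f i)
  have h1 : (1 : A) ∈ Ideal.span (Set.range f) := by rw [hf]; trivial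
  obtain ⟨c, hc⟩ := Ideal.mem_span_range_iff_exists_fun.1 h1
  choose C hC using fun i => hα (c i)
  let h₀ : MvPolynomial (Fin n) R := 1 - ∑ i, C i * F i
  have hh₀ : α h₀ = 0 := by
    simp only [h₀, map_sub, map_one, map_sum, map_mul, hC, hF, hc, sub_self]
  let g : Option ι → MvPolynomial (Fin n) R := fun o => o.elim h₀ F
  have hg : Ideal.span (Set.range g) = ⊤ := by
    rw [Ideal.eq_top_iff_one]
    have h2 : (1 : MvPolynomial (Fin n) R) = h₀ + ∑ i, C i * F i := by simp [h₀]
    rw [h2]
    exact Ideal.add_mem _ (Ideal.subset_span ⟨none, rfl⟩)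
      (Ideal.sum_mem _ fun i _ => Ideal.mul_mem_left _ _ (Ideal.subset_span ⟨some i, rfl⟩))
  rw [isRelPseudoCoherent_iff_npc α hα]
  refine NPC.of_iso (?_ : NPC (FF (MvPolynomial (Fin n) R)) m (DRing.toD
      (((ModuleCat.restrictScalars.{u} (α : MvPolynomial (Fin n) R →+* A)).mapHomologicalComplex
        (ComplexShape.up ℤ)).obj K)))
    ((ModuleCat.restrictScalars.{u}
      (α : MvPolynomial (Fin n) R →+* A)).mapDerivedCategoryFactors.app K).symm
  refine npc_of_localization_away' g hg _ m ?_
  rintro (_ | i)
  · refine npc_of_terms_isZero _ m (fun j => ?_)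
    haveI := subsingleton_extend_of_smul_zero h₀
      ((ModuleCat.restrictScalars.{u} (α : MvPolynomial (Fin n) R →+* A)).obj (K.X j))
      (fun x => by
        show α h₀ • (x : K.X j) = 0
        rw [hh₀, zero_smul])
    show IsZero ((ModuleCat.extendScalars.{u, u, u}
      (algebraMap (MvPolynomial (Fin n) R) (Localization.Away h₀))).obj
        ((ModuleCat.restrictScalars.{u} (α : MvPolynomial (Fin n) R →+* A)).obj (K.X j)))
    exact ModuleCat.isZero_of_subsingleton _
  · haveI : IsLocalization.Away ((α : MvPolynomial (Fin n) R →+* A) (F i))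
        (Localization.Away (f i)) := by
      show IsLocalization.Away (α (F i)) _
      rw [hF i]
      infer_instance
    exact (npc_polyToLoc_iff _ (F i) (Localization.Away (F i)) (Localization.Away (f i)) K m).1
      ((isRelPseudoCoherent_loc_iff α hα (F i) _ _ m).1 (h i))

end Cover

end Groth.Agent.Lib.helper23.BaseChg
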