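import Mathlib
import Groth.Prelude.Def_DRing2
import Groth.Prelude.Def_DerCA
import Groth.Agent.Lib.Helper23.BaseChg3

set_option autoImplicit false
universe u
open CategoryTheory CategoryTheory.Limits TensorProduct

attribute [local instance] HasDerivedCategory.standard

namespace Groth.Agent.Lib.helper23.BaseChg

open Groth.Agent.Lib.helper23.ExtSc Groth.Agent.Lib.helper23.PCohCore
  Groth.Agent.Lib.helper23.DRingPC

section Away

variable {R : Type u} [CommRing R] (f : R)

/-- `R_f` is pseudo-coherent relative to `R`. -/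
theorem isRelPseudoCoherentModuleAll_away :
    DerCA.IsRelPseudoCoherentModuleAll R (Localization.Away f) (Localization.Away f) := by
  intro m
  let α₀ : MvPolynomial (Fin 0) R →ₐ[R] R := (MvPolynomial.isEmptyAlgEquiv R (Fin 0)).toAlgHom
  have hα₀ : Function.Surjective α₀ := (MvPolynomial.isEmptyAlgEquiv R (Fin 0)).surjective
  have hα₀i : Function.Injective α₀ := (MvPolynomial.isEmptyAlgEquiv R (Fin 0)).injective
  obtain ⟨F₀, hF₀⟩ : ∃ F₀ : MvPolynomial (Fin 0) R, F₀ = MvPolynomial.C f := ⟨_, rfl⟩
  have hF : α₀ (MvPolynomial.C f) = f := by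
    show MvPolynomial.isEmptyAlgEquiv R (Fin 0) (MvPolynomial.C f) = f
    rw [← MvPolynomial.algebraMap_eq, AlgEquiv.commutes]
    rfl
  rw [← hF₀] at hF
  haveI : IsLocalization.Away ((α₀ : MvPolynomial (Fin 0) R →+* R) F₀)
      (Localization.Away f) := by
    show IsLocalization.Away (α₀ F₀) _
    rw [hF]
    infer_instance
  show DerCA.IsRelPseudoCoherent R (Localization.Away f) m _
  rw [isRelPseudoCoherent_loc_iff α₀ hα₀ F₀ (Localization.Away f),
    npc_restrict_comp_iff (polyToAway F₀ (Localization.Away F₀))
      (pcMod_polyToAway _ _)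
      (locMap (α₀ : MvPolynomial (Fin 0) R →+* R) F₀
        (Localization.Away F₀) (Localization.Away f))
      (polyToLoc (α₀ : MvPolynomial (Fin 0) R →+* R) F₀
        (Localization.Away F₀) (Localization.Away f)) rfl,
    npc_restrict_single_iff]
  have hinj : Function.Injective (locMap (α₀ : MvPolynomial (Fin 0) R →+* R) F₀
      (Localization.Away F₀) (Localization.Away f)) := by
    rw [locMap, IsLocalization.Away.map_injective_iff]
    intro a ha
    have : a = 0 := hα₀i (by rw [map_zero]; exact ha)
    exact ⟨0, by rw [this, mul_zero]⟩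
  have hsurj := locMap_surjective (α₀ : MvPolynomial (Fin 0) R →+* R) F₀
      (Localization.Away F₀) (Localization.Away f) hα₀
  let e : Localization.Away F₀ ≃+* Localization.Away f :=
    RingEquiv.ofBijective _ ⟨hinj, hsurj⟩
  exact pcMod_of_ringEquiv e m

end Away

end Groth.Agent.Lib.helper23.BaseChg
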