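import Mathlib
import Groth.Prelude.Def_DRing4
import Groth.Agent.Lib.Helper23.DualD2
import Groth.Agent.Lib.Helper23.TensHom2

/-!
# The evaluation map `Hom(X, I) ⊗ N ⟶ Hom(X, J)` (helper23)

For complexes `I`, `N`, `J` of `R`-modules, a morphism `α : I ⊗ N ⟶ J` and an `R`-module `X`:
`Θ α X : Hom_R(X, I) ⊗ N ⟶ Hom_R(X, J)`, `f ⊗ y ↦ (x ↦ α (f x ⊗ y))`, natural in `X`.
-/

set_option autoImplicit false
universe u
open CategoryTheory CategoryTheory.Limits MonoidalCategory Opposite
open HomologicalComplex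

namespace Groth.Agent.Lib.helper23.PerfT

open Groth.Agent.Lib.helper23.DualD Groth.Agent.Lib.helper23.TensHom

variable {R : Type u} [CommRing R] {I N J : DRing.Cx R} (α : I ⊗ N ⟶ J)

/-- `z ↦ z ⊗ y` -/
noncomputable def tmulR {M M' : ModuleCat.{u} R} (y : M') : M ⟶ M ⊗ M' :=
  ModuleCat.ofHom ((TensorProduct.mk R M M').flip y)

lemma tmulR_apply {M M' : ModuleCat.{u} R} (y : M') (z : M) :
    (tmulR (M := M) y).hom z = z ⊗ₜ[R] y := rfl

/-- the bilinear map `(f, y) ↦ (x ↦ α (f x ⊗ y))` -/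
noncomputable def θBil (X : ModuleCat.{u} R) (p q n : ℤ) (h : p + q = n) :
    (X ⟶ I.X p) →ₗ[R] N.X q →ₗ[R] (X ⟶ J.X n) :=
  LinearMap.mk₂ R (fun f y => f ≫ tmulR y ≫ ιTensorObj I N p q n h ≫ α.f n)
    (by
      intro f f' y
      rw [Preadditive.add_comp])
    (by
      intro c f y
      rw [Linear.smul_comp])
    (by
      intro f y y'
      apply ModuleCat.hom_ext
      apply LinearMap.ext
      intro x
      simp only [ModuleCat.hom_comp, ModuleCat.hom_add, LinearMap.comp_apply, LinearMap.add_apply,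
        tmulR_apply, TensorProduct.tmul_add, map_add])
    (by
      intro c f y
      apply ModuleCat.hom_ext
      apply LinearMap.ext
      intro x
      simp only [ModuleCat.hom_comp, ModuleCat.hom_smul, LinearMap.comp_apply,
        LinearMap.smul_apply, tmulR_apply, TensorProduct.tmul_smul, map_smul])

lemma θBil_apply (X : ModuleCat.{u} R) (p q n : ℤ) (h : p + q = n) (f : X ⟶ I.X p) (y : N.X q)
    (x : X) :
    (θBil α X p q n h f y).hom x =
      (α.f n).hom ((ιTensorObj I N p q n h).hom (f.hom x ⊗ₜ[R] y)) := rfl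

/-- the component of `Θ` on a summand -/
noncomputable def θComp (X : ModuleCat.{u} R) (p q n : ℤ) (h : p + q = n) :
    ((homCx I).obj (op X)).X p ⊗ N.X q ⟶ ((homCx J).obj (op X)).X n :=
  ModuleCat.ofHom (TensorProduct.lift (θBil α X p q n h))

lemma θComp_tmul (X : ModuleCat.{u} R) (p q n : ℤ) (h : p + q = n) (f : X ⟶ I.X p) (y : N.X q) :
    (θComp α X p q n h).hom (f ⊗ₜ[R] y) = θBil α X p q n h f y := by
  show TensorProduct.lift (θBil α X p q n h) (f ⊗ₜ[R] y) = _
  rw [TensorProduct.lift.tmul]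

/-- `Θ` in degree `n` -/
noncomputable def θf (X : ModuleCat.{u} R) (n : ℤ) :
    ((homCx I).obj (op X) ⊗ N).X n ⟶ ((homCx J).obj (op X)).X n :=
  mapBifunctorDesc (K₁ := (homCx I).obj (op X)) (K₂ := N)
    (F := curriedTensor (ModuleCat.{u} R)) (c := ComplexShape.up ℤ)
    (fun p q (hpq : p + q = n) => θComp α X p q n hpq)

lemma ι_θf (X : ModuleCat.{u} R) (p q n : ℤ) (h : p + q = n) :
    ιTensorObj ((homCx I).obj (op X)) N p q n h ≫ θf α X n = θComp α X p q n h := by
  simp [θf]

lemma ι_d_apply (p q : ℤ) (a : I.X p) (y : N.X q) :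
    ((I ⊗ N).d (p + q) (p + q + 1)).hom ((ιTensorObj I N p q (p + q) rfl).hom (a ⊗ₜ[R] y)) =
      (ιTensorObj I N (p + 1) q (p + q + 1) (by omega)).hom ((I.d p (p + 1)).hom a ⊗ₜ[R] y) +
      p.negOnePow •
        (ιTensorObj I N p (q + 1) (p + q + 1) (by omega)).hom (a ⊗ₜ[R] (N.d q (q + 1)).hom y) := by
  have h := congrArg (fun φ => φ.hom (a ⊗ₜ[R] y)) (ι_d_tensor (K := I) (L := N) p q)
  simp only [ModuleCat.hom_comp, LinearMap.comp_apply, ModuleCat.hom_add, LinearMap.add_apply,
    units_smul_hom_apply] at h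
  rw [h, ModuleCat.MonoidalCategory.whiskerRight_apply, ModuleCat.MonoidalCategory.whiskerLeft_apply]

/-- the evaluation morphism `Hom(X, I) ⊗ N ⟶ Hom(X, J)` -/
noncomputable def Θ (X : ModuleCat.{u} R) : (homCx I).obj (op X) ⊗ N ⟶ (homCx J).obj (op X) where
  f n := θf α X n
  comm' i j hij := by
    have hij' : i + 1 = j := hij
    subst hij'
    apply mapBifunctor.hom_ext
    intro p q hpq
    have hpq' : p + q = i := hpq
    subst hpq'
    change ιTensorObj _ N p q (p + q) rfl ≫ _ = ιTensorObj _ N p q (p + q) rfl ≫ _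
    rw [← Category.assoc, ι_θf, ← Category.assoc, ι_d_tensor, Preadditive.add_comp,
      Linear.units_smul_comp, Category.assoc, Category.assoc, ι_θf, ι_θf]
    apply ModuleCat.hom_ext
    apply TensorProduct.ext'
    intro f y
    rw [ModuleCat.hom_comp, LinearMap.comp_apply, θComp_tmul, ModuleCat.hom_add,
      LinearMap.add_apply, units_smul_hom_apply, ModuleCat.hom_comp, LinearMap.comp_apply,
      ModuleCat.hom_comp, LinearMap.comp_apply, ModuleCat.MonoidalCategory.whiskerRight_apply,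
      ModuleCat.MonoidalCategory.whiskerLeft_apply, θComp_tmul, θComp_tmul]
    apply ModuleCat.hom_ext
    apply LinearMap.ext
    intro x
    have e1 : ((((homCx J).obj (op X)).d (p + q) (p + q + 1)).hom
        (θBil α X p q (p + q) rfl f y)) = θBil α X p q (p + q) rfl f y ≫ J.d (p + q) (p + q + 1) :=
      rfl
    have e2 : (((homCx I).obj (op X)).d p (p + 1)).hom f = f ≫ I.d p (p + 1) := rfl
    rw [e1, e2]
    have e3 : ((θBil α X (p + 1) q (p + q + 1) (by omega)) (f ≫ I.d p (p + 1)) y +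
        p.negOnePow • (θBil α X p (q + 1) (p + q + 1) (by omega)) f ((N.d q (q + 1)).hom y) :
        X ⟶ J.X (p + q + 1)).hom x =
        ((θBil α X (p + 1) q (p + q + 1) (by omega)) (f ≫ I.d p (p + 1)) y).hom x +
        p.negOnePow • ((θBil α X p (q + 1) (p + q + 1) (by omega)) f
          ((N.d q (q + 1)).hom y)).hom x := by
      rw [ModuleCat.hom_add, LinearMap.add_apply, units_smul_hom_apply]
    refine Eq.trans ?_ e3.symm
    rw [ModuleCat.hom_comp, LinearMap.comp_apply, θBil_apply, θBil_apply, θBil_apply]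
    have hα := congrArg (fun φ => φ.hom ((ιTensorObj I N p q (p + q) rfl).hom (f.hom x ⊗ₜ[R] y)))
      (α.comm (p + q) (p + q + 1))
    simp only [ModuleCat.hom_comp, LinearMap.comp_apply] at hα
    rw [hα, ι_d_apply, map_add, map_zsmul_unit]
    rfl

lemma Θ_f (X : ModuleCat.{u} R) (n : ℤ) : (Θ α X).f n = θf α X n := rfl

end Groth.Agent.Lib.helper23.PerfT
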