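import Mathlib
import Groth.Prelude.Def_DRing4
import Groth.Agent.Lib.Helper23.PerfT1

/-!
# The evaluation map `Hom(X, I) ⊗ N ⟶ Hom(X, J)`, part 2 (helper23): naturality, `X = R`
-/

set_option autoImplicit false
universe u
open CategoryTheory CategoryTheory.Limits MonoidalCategory Opposite
open HomologicalComplex

namespace Groth.Agent.Lib.helper23.PerfT

open Groth.Agent.Lib.helper23.DualD Groth.Agent.Lib.helper23.TensHom

variable {R : Type u} [CommRing R] {I N J : DRing.Cx R} (α : I ⊗ N ⟶ J)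

lemma ι_whiskerRight {K K' : DRing.Cx R} (f : K ⟶ K') (N : DRing.Cx R) (p q n : ℤ)
    (h : p + q = n) :
    ιTensorObj K N p q n h ≫ (f ▷ N).f n = (f.f p ▷ N.X q) ≫ ιTensorObj K' N p q n h := by
  change ιMapBifunctor K N (curriedTensor (ModuleCat.{u} R)) (ComplexShape.up ℤ) p q n h ≫
    (mapBifunctorMap f (𝟙 N) (curriedTensor (ModuleCat.{u} R)) (ComplexShape.up ℤ)).f n = _
  rw [ι_mapBifunctorMap]
  simp

/-- naturality of `Θ` in the module -/
theorem Θ_naturality {X X' : ModuleCat.{u} R} (g : X ⟶ X') :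
    ((homCx I).map g.op ▷ N) ≫ Θ α X = Θ α X' ≫ (homCx J).map g.op := by
  ext n : 1
  apply mapBifunctor.hom_ext
  intro p q hpq
  have hpq' : p + q = n := hpq
  subst hpq'
  change ιTensorObj _ N p q (p + q) rfl ≫ _ = ιTensorObj _ N p q (p + q) rfl ≫ _
  rw [HomologicalComplex.comp_f, HomologicalComplex.comp_f, ← Category.assoc, ι_whiskerRight,
    Category.assoc, Θ_f, Θ_f, ι_θf, ← Category.assoc, ι_θf]
  apply ModuleCat.hom_ext
  apply TensorProduct.ext'
  intro f y
  rw [ModuleCat.hom_comp, LinearMap.comp_apply, ModuleCat.MonoidalCategory.whiskerRight_apply,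
    θComp_tmul, ModuleCat.hom_comp, LinearMap.comp_apply, θComp_tmul]
  rfl

/-- `Θ` for `X = R` is `α`, up to the evaluation isomorphisms -/
theorem Θ_self_comp_evCx :
    Θ α (ModuleCat.of R R) ≫ evCx J (ModuleCat.of R R) (1 : R) =
      (evCx I (ModuleCat.of R R) (1 : R) ▷ N) ≫ α := by
  ext n : 1
  apply mapBifunctor.hom_ext
  intro p q hpq
  have hpq' : p + q = n := hpq
  subst hpq'
  change ιTensorObj _ N p q (p + q) rfl ≫ _ = ιTensorObj _ N p q (p + q) rfl ≫ _
  rw [HomologicalComplex.comp_f, HomologicalComplex.comp_f, ← Category.assoc, Θ_f, ι_θf,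
    ← Category.assoc, ι_whiskerRight, Category.assoc]
  apply ModuleCat.hom_ext
  apply TensorProduct.ext'
  intro f y
  rw [ModuleCat.hom_comp, LinearMap.comp_apply, θComp_tmul, evCx_f_apply, θBil_apply,
    ModuleCat.hom_comp, LinearMap.comp_apply, ModuleCat.MonoidalCategory.whiskerRight_apply,
    evCx_f_apply, ModuleCat.hom_comp, LinearMap.comp_apply]

theorem quasiIso_Θ_self [QuasiIso α] : QuasiIso (Θ α (ModuleCat.of R R)) := by
  haveI : IsIso (evCx I (ModuleCat.of R R) (1 : R) ▷ N) := inferInstance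
  haveI : QuasiIso ((evCx I (ModuleCat.of R R) (1 : R) ▷ N) ≫ α) := inferInstance
  haveI : QuasiIso (Θ α (ModuleCat.of R R) ≫ evCx J (ModuleCat.of R R) (1 : R)) := by
    rw [Θ_self_comp_evCx]
    infer_instance
  exact quasiIso_of_comp_right (Θ α (ModuleCat.of R R)) (evCx J (ModuleCat.of R R) (1 : R))

end Groth.Agent.Lib.helper23.PerfT
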