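import Mathlib
import Groth.Prelude.Def_DRing4
import Groth.Prelude.Def_DTen
import Groth.Agent.Lib.Helper23.PerfT2
import Groth.Agent.Lib.Helper13.KFlat3

/-!
# The evaluation map `Hom(X, I) ⊗ N ⟶ Hom(X, J)`, part 3 (helper23): short exact sequences

* `quasiIso_τ₁`: two-out-of-three for morphisms of short exact sequences of complexes (first term);
* `shortExact_whiskerRight`: `- ⊗ N` preserves short exact sequences for `N` termwise flat;
* `quasiIso_Θ_X₃`: if `0 → X₁ → X₂ → X₃ → 0` is exact and `Θ_{X₁}`, `Θ_{X₂}` are quasi-isomorphisms,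
  then so is `Θ_{X₃}` (`I`, `J` with injective terms, `N` termwise flat).
-/

set_option autoImplicit false
universe u
open CategoryTheory CategoryTheory.Limits MonoidalCategory Opposite
open HomologicalComplex

namespace Groth.Agent.Lib.helper23.PerfT

open Groth.Agent.Lib.helper23.DualD Groth.Agent.Lib.helper23.TensHom

section TwoOfThree

open ComposableArrows Abelian HomologicalComplex.HomologySequence

variable {C : Type*} [Category C] [Abelian C]
  {S₁ S₂ : ShortComplex (CochainComplex C ℤ)} (φ : S₁ ⟶ S₂)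
  (hS₁ : S₁.ShortExact) (hS₂ : S₂.ShortExact)

include hS₁ hS₂ in
lemma quasiIso_τ₁ (h₂ : QuasiIso φ.τ₂) (h₃ : QuasiIso φ.τ₃) : QuasiIso φ.τ₁ := by
  rw [quasiIso_iff]
  intro j
  rw [quasiIsoAt_iff_isIso_homologyMap]
  have hrel : (ComplexShape.up ℤ).Rel (j - 1) j := by simp
  have a1 : IsIso (homologyMap φ.τ₂ (j - 1)) := inferInstance
  have a2 : IsIso (homologyMap φ.τ₃ (j - 1)) := inferInstance
  have a3 : IsIso (homologyMap φ.τ₂ j) := inferInstance
  have a4 : IsIso (homologyMap φ.τ₃ j) := inferInstance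
  have := Abelian.isIso_of_epi_of_isIso_of_isIso_of_mono' (n := 5) (k := 1) (by omega)
    (composableArrows₅_exact hS₁ (j - 1) j hrel) (composableArrows₅_exact hS₂ (j - 1) j hrel)
    (mapComposableArrows₅ φ hS₁ hS₂ (j - 1) j hrel) 1 2 3 4 5 rfl rfl rfl rfl rfl ?_ ?_ ?_ ?_
  · exact this
  · exact (inferInstance : Epi (homologyMap φ.τ₂ (j - 1)))
  · exact a2
  · exact a3
  · exact (inferInstance : Mono (homologyMap φ.τ₃ j))

end TwoOfThree

variable {R : Type u} [CommRing R]

lemma zero_whiskerRight_cx (K K' N : DRing.Cx R) : (0 : K ⟶ K') ▷ N = 0 := by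
  ext n : 1
  apply mapBifunctor.hom_ext
  intro p q hpq
  have hpq' : p + q = n := hpq
  subst hpq'
  change ιTensorObj _ N p q (p + q) rfl ≫ _ = ιTensorObj _ N p q (p + q) rfl ≫ _
  rw [ι_whiskerRight]
  simp

/-- `M ⊗ -` preserves short exact sequences of modules for `M` flat -/
lemma shortExact_map_tensorLeft_of_flat (S : ShortComplex (ModuleCat.{u} R)) (hS : S.ShortExact)
    (M : ModuleCat.{u} R) [Module.Flat R M] :
    (S.map ((curriedTensor (ModuleCat.{u} R)).obj M)).ShortExact := by
  have hex : Function.Exact S.f.hom S.g.hom :=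
    (ShortComplex.ShortExact.moduleCat_exact_iff_function_exact S).1 hS.exact
  have hinj : Function.Injective S.f.hom := (ModuleCat.mono_iff_injective S.f).1 hS.mono_f
  have hsurj : Function.Surjective S.g.hom := (ModuleCat.epi_iff_surjective S.g).1 hS.epi_g
  have h1 : Function.Exact (LinearMap.lTensor M S.f.hom) (LinearMap.lTensor M S.g.hom) :=
    lTensor_exact M hex hsurj
  have h2 : Function.Injective (LinearMap.lTensor M S.f.hom) :=
    Module.Flat.lTensor_preserves_injective_linearMap S.f.hom hinj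
  have h3 : Function.Surjective (LinearMap.lTensor M S.g.hom) :=
    LinearMap.lTensor_surjective M hsurj
  haveI : Mono (S.map ((curriedTensor (ModuleCat.{u} R)).obj M)).f :=
    (ModuleCat.mono_iff_injective _).2 h2
  haveI : Epi (S.map ((curriedTensor (ModuleCat.{u} R)).obj M)).g :=
    (ModuleCat.epi_iff_surjective _).2 h3
  exact { exact := (ShortComplex.ShortExact.moduleCat_exact_iff_function_exact _).2 h1 }

lemma braid_inv_whiskerRight {K K' : DRing.Cx R} (f : K ⟶ K') (N : DRing.Cx R) :
    (DTen.braidCx K N).inv ≫ (f ▷ N) = (𝟙 N ⊗ₘ f) ≫ (DTen.braidCx K' N).inv := by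
  have h := DTen.braidCx_naturality f (𝟙 N)
  rw [tensorHom_id] at h
  rw [← cancel_mono (DTen.braidCx K' N).hom, Category.assoc, Category.assoc, Iso.inv_hom_id,
    Category.comp_id, h, Iso.inv_hom_id_assoc]

/-- the short complex `X₁ ⊗ N → X₂ ⊗ N → X₃ ⊗ N` -/
noncomputable def whiskerRightSC (T : ShortComplex (DRing.Cx R)) (N : DRing.Cx R) :
    ShortComplex (DRing.Cx R) :=
  ShortComplex.mk (T.f ▷ N) (T.g ▷ N) (by
    rw [← comp_whiskerRight, T.zero, zero_whiskerRight_cx])

open Groth.Agent.Lib.helper13.KFlat in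
/-- `- ⊗ N` preserves short exact sequences of complexes for `N` termwise flat -/
theorem shortExact_whiskerRight (T : ShortComplex (DRing.Cx R)) (hT : T.ShortExact)
    (N : DRing.Cx R) (hN : DRing.TermwiseFlat N) : (whiskerRightSC T N).ShortExact := by
  have key : (T.map (Φ (curriedTensor (ModuleCat.{u} R)) N)).ShortExact := by
    refine shortExact_map_Φ T (fun p q => ?_) (fun n => monoCoprod_moduleCat R _)
    have hq : (T.map (eval _ _ q)).ShortExact := hT.map_of_exact (eval _ _ q)
    haveI := hN p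
    exact shortExact_map_tensorLeft_of_flat _ hq (N.X p)
  refine ShortComplex.shortExact_of_iso (ShortComplex.isoMk (DTen.braidCx T.X₁ N).symm
    (DTen.braidCx T.X₂ N).symm (DTen.braidCx T.X₃ N).symm ?_ ?_) key
  · exact braid_inv_whiskerRight T.f N
  · exact braid_inv_whiskerRight T.g N

section SES

variable {I N J : DRing.Cx R} (α : I ⊗ N ⟶ J)

/-- the short complex `Hom(X₃, I) → Hom(X₂, I) → Hom(X₁, I)` -/
noncomputable def homSC (I : DRing.Cx R) (S : ShortComplex (ModuleCat.{u} R)) :
    ShortComplex (DRing.Cx R) :=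
  ShortComplex.mk ((homCx I).map S.g.op) ((homCx I).map S.f.op) (by
    rw [← Functor.map_comp, ← op_comp, S.zero]
    ext j φ
    show (0 : S.X₁ ⟶ S.X₃) ≫ φ = 0
    rw [zero_comp])

lemma homSC_shortExact (I : DRing.Cx R) [∀ j, Injective (I.X j)]
    (S : ShortComplex (ModuleCat.{u} R)) (hS : S.ShortExact) : (homSC I S).ShortExact :=
  homCx_shortExact I S hS

/-- the morphism of short complexes given by `Θ` -/
noncomputable def ΘSC (S : ShortComplex (ModuleCat.{u} R)) :
    whiskerRightSC (homSC I S) N ⟶ homSC J S where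
  τ₁ := Θ α S.X₃
  τ₂ := Θ α S.X₂
  τ₃ := Θ α S.X₁
  comm₁₂ := (Θ_naturality α S.g).symm
  comm₂₃ := (Θ_naturality α S.f).symm

/-- two-out-of-three for `Θ` along short exact sequences of modules (third term) -/
theorem quasiIso_Θ_X₃ (hN : DRing.TermwiseFlat N) [∀ j, Injective (I.X j)]
    [∀ j, Injective (J.X j)] (S : ShortComplex (ModuleCat.{u} R)) (hS : S.ShortExact)
    (h₁ : QuasiIso (Θ α S.X₁)) (h₂ : QuasiIso (Θ α S.X₂)) : QuasiIso (Θ α S.X₃) :=
  quasiIso_τ₁ (ΘSC α S) (shortExact_whiskerRight _ (homSC_shortExact I S hS) N hN)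
    (homSC_shortExact J S hS) h₂ h₁

end SES

end Groth.Agent.Lib.helper23.PerfT
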