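import Mathlib
import Groth.Prelude.Def_DRing4
import Groth.Agent.Lib.Helper23.PerfT3
import Groth.Agent.Lib.Helper23.TA8
import Groth.Agent.Lib.Helper23.TA7
import Groth.Agent.Lib.Helper23.PosVan
import Groth.Agent.Lib.Helper23.PCohAmp3

/-!
# Tor amplitude of `Hom(X, I)` for `X` finite of finite projective dimension (helper23)

* `hasTorAmplitudeIn_of_retract`: tor amplitude passes to retracts.
* `hasTorAmplitudeIn_homCx`: over a Noetherian ring `P`, for `I` a complex of injectives with
  tor amplitude in `[0, 0]` (e.g. an injective resolution of `P`) and `X` finite with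
  projective dimension `≤ d`, `Hom(X, I)` has tor amplitude in `[0, d]`.
-/

set_option autoImplicit false
universe u
open CategoryTheory CategoryTheory.Limits Opposite DerivedCategory

attribute [local instance] HasDerivedCategory.standard

namespace Groth.Agent.Lib.helper23.RelDual

open Groth.Agent.Lib.helper23.DualD Groth.Agent.Lib.helper23.TA Groth.Agent.Lib.helper23.PerfT

variable {P : Type u} [CommRing P]

/-- tor amplitude passes to retracts -/
theorem hasTorAmplitudeIn_of_retract {K L : Dual.D P} (i : K ⟶ L) (r : L ⟶ K) (h : i ≫ r = 𝟙 K)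
    {a b : ℤ} (hL : DRing.HasTorAmplitudeIn P a b L) : DRing.HasTorAmplitudeIn P a b K := by
  haveI : ∀ M : ModuleCat.{u} P, DRing.HasLTensor P M := fun M => PosVan.hasLTensor M
  rw [hasTorAmplitudeIn_iff_LTensor] at hL ⊢
  intro M j hj
  exact PCohAmp.isZero_obj_of_retract
    (DRing.LTensor P M ⋙ DerivedCategory.homologyFunctor (ModuleCat.{u} P) j) i r h (hL M j hj)

variable (I : DRing.Cx P) [∀ j, Injective (I.X j)]

/-- two out of three: the first term of a short exact sequence -/
lemma hasTorAmplitudeIn_homCx_X₃ (S : ShortComplex (ModuleCat.{u} P)) (hS : S.ShortExact)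
    {a b : ℤ} (h₁ : DRing.HasTorAmplitudeIn P a b (Q.obj ((homCx I).obj (op S.X₁))))
    (h₂ : DRing.HasTorAmplitudeIn P a (b + 1) (Q.obj ((homCx I).obj (op S.X₂)))) :
    DRing.HasTorAmplitudeIn P a (b + 1) (Q.obj ((homCx I).obj (op S.X₃))) := by
  have hT := DerivedCategory.triangleOfSES_distinguished (homSC_shortExact I S hS)
  -- rotate: X₂-term → X₁-term → X₃-term[1]
  have hT' := Pretriangulated.rot_of_distTriang _ hT
  have h3 := hasTorAmplitudeIn_cone _ hT' (a₁ := a) (b₁ := b + 1) (a₂ := a) (b₂ := b)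
    (a := a - 1) (b := b) h₂ h₁ (by omega) (by omega) (by omega) le_rfl
  have h4 := hasTorAmplitudeIn_shift h3 (-1)
  have e1 : a - 1 - -1 = a := by ring
  have e2 : b - -1 = b + 1 := by ring
  rw [e1, e2] at h4
  exact hasTorAmplitudeIn_of_iso
    ((shiftEquiv (Dual.D P) (1 : ℤ)).unitIso.app _).symm h4

/-- extensions -/
lemma hasTorAmplitudeIn_homCx_X₂ (S : ShortComplex (ModuleCat.{u} P)) (hS : S.ShortExact)
    {a b : ℤ} (h₁ : DRing.HasTorAmplitudeIn P a b (Q.obj ((homCx I).obj (op S.X₁))))
    (h₃ : DRing.HasTorAmplitudeIn P a b (Q.obj ((homCx I).obj (op S.X₃)))) :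
    DRing.HasTorAmplitudeIn P a b (Q.obj ((homCx I).obj (op S.X₂))) :=
  hasTorAmplitudeIn_ext _
    (DerivedCategory.triangleOfSES_distinguished (homSC_shortExact I S hS)) h₃ h₁

/-- retracts -/
lemma hasTorAmplitudeIn_homCx_of_retract {X X' : ModuleCat.{u} P} (i : X ⟶ X') (r : X' ⟶ X)
    (hir : i ≫ r = 𝟙 X) {a b : ℤ}
    (h : DRing.HasTorAmplitudeIn P a b (Q.obj ((homCx I).obj (op X')))) :
    DRing.HasTorAmplitudeIn P a b (Q.obj ((homCx I).obj (op X))) := by
  refine hasTorAmplitudeIn_of_retract (Q.map ((homCx I).map r.op)) (Q.map ((homCx I).map i.op)) ?_ h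
  rw [← Functor.map_comp, ← Functor.map_comp, ← op_comp, hir, op_id,
    CategoryTheory.Functor.map_id, CategoryTheory.Functor.map_id]

variable (hI : DRing.HasTorAmplitudeIn P 0 0 (Q.obj I))

include hI

lemma hasTorAmplitudeIn_homCx_self :
    DRing.HasTorAmplitudeIn P 0 0 (Q.obj ((homCx I).obj (op (ModuleCat.of P P)))) :=
  hasTorAmplitudeIn_of_iso (Q.mapIso (asIso (evCx I (ModuleCat.of P P) (1 : P)))).symm hI

omit hI in
lemma hasTorAmplitudeIn_homCx_prod (X Y : ModuleCat.{u} P) {a b : ℤ}
    (hX : DRing.HasTorAmplitudeIn P a b (Q.obj ((homCx I).obj (op X))))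
    (hY : DRing.HasTorAmplitudeIn P a b (Q.obj ((homCx I).obj (op Y)))) :
    DRing.HasTorAmplitudeIn P a b (Q.obj ((homCx I).obj (op (ModuleCat.of P (X × Y))))) := by
  let S : ShortComplex (ModuleCat.{u} P) :=
    ShortComplex.mk (X₁ := X) (X₂ := ModuleCat.of P (X × Y)) (X₃ := Y)
      (ModuleCat.ofHom (LinearMap.inl P X Y)) (ModuleCat.ofHom (LinearMap.snd P X Y)) (by
        ext x
        rfl)
  have hS : S.ShortExact := by
    refine ModuleCat.shortComplex_shortExact S ?_ ?_ ?_
    · exact Function.Exact.inl_snd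
    · exact LinearMap.inl_injective
    · exact LinearMap.snd_surjective
  exact hasTorAmplitudeIn_homCx_X₂ I S hS hX hY

omit hI in
lemma hasTorAmplitudeIn_homCx_zero (X : ModuleCat.{u} P) (hX : IsZero X) (a b : ℤ) :
    DRing.HasTorAmplitudeIn P a b (Q.obj ((homCx I).obj (op X))) := by
  refine hasTorAmplitudeIn_of_isZero a b (Q.map_isZero ?_)
  rw [IsZero.iff_id_eq_zero]
  ext j φ
  exact hX.eq_of_src _ _

lemma hasTorAmplitudeIn_homCx_free (m : ℕ) :
    DRing.HasTorAmplitudeIn P 0 0 (Q.obj ((homCx I).obj (op (ModuleCat.of P (Fin m → P))))) := by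
  induction m with
  | zero =>
    exact hasTorAmplitudeIn_homCx_zero I _ (ModuleCat.isZero_of_subsingleton _) 0 0
  | succ m ih =>
    have h1 := hasTorAmplitudeIn_homCx_prod I (ModuleCat.of P P) (ModuleCat.of P (Fin m → P))
      (hasTorAmplitudeIn_homCx_self I hI) ih
    let e : ModuleCat.of P (P × (Fin m → P)) ≅ ModuleCat.of P (Fin (m + 1) → P) :=
      (Fin.consLinearEquiv P (fun _ : Fin (m + 1) => P)).toModuleIso
    exact hasTorAmplitudeIn_homCx_of_retract I e.inv e.hom e.inv_hom_id h1

lemma hasTorAmplitudeIn_homCx_of_finite_projective (X : ModuleCat.{u} P) [Module.Finite P X]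
    [Module.Projective P X] :
    DRing.HasTorAmplitudeIn P 0 0 (Q.obj ((homCx I).obj (op X))) := by
  obtain ⟨m, f, g, -, -, hfg⟩ := Module.Finite.exists_comp_eq_id_of_projective P X
  refine hasTorAmplitudeIn_homCx_of_retract I (X' := ModuleCat.of P (Fin m → P)) (ModuleCat.ofHom g)
    (ModuleCat.ofHom f) ?_ (hasTorAmplitudeIn_homCx_free I hI m)
  rw [← ModuleCat.ofHom_comp, hfg]
  rfl

/-- `Hom(X, I)` has tor amplitude in `[0, d]` when `X` is finite of projective dimension `≤ d`
and `I` is a complex of injectives of tor amplitude `[0, 0]`. -/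
theorem hasTorAmplitudeIn_homCx [IsNoetherianRing P] (d : ℕ) :
    ∀ (X : ModuleCat.{u} P) [Module.Finite P X] [HasProjectiveDimensionLT X (d + 1)],
      DRing.HasTorAmplitudeIn P 0 d (Q.obj ((homCx I).obj (op X))) := by
  induction d with
  | zero =>
    intro X _ hpd
    haveI : Projective X := by
      rw [projective_iff_hasProjectiveDimensionLT_one]
      exact hpd
    haveI : Module.Projective P X := (IsProjective.iff_projective X).2 inferInstance
    exact hasTorAmplitudeIn_homCx_of_finite_projective I hI X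
  | succ d ih =>
    intro X _ _
    obtain ⟨m, f, hf⟩ := Module.Finite.exists_fin' P X
    let S : ShortComplex (ModuleCat.{u} P) :=
      ShortComplex.mk (X₁ := ModuleCat.of P (LinearMap.ker f)) (X₂ := ModuleCat.of P (Fin m → P))
        (X₃ := X) (ModuleCat.ofHom (LinearMap.ker f).subtype) (ModuleCat.ofHom f) (by
          ext x
          exact x.2)
    have hS : S.ShortExact := by
      refine ModuleCat.shortComplex_shortExact S ?_ ?_ hf
      · exact LinearMap.exact_subtype_ker_map f
      · exact Subtype.val_injective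
    haveI : Projective S.X₂ := by
      show Projective (ModuleCat.of P (Fin m → P))
      exact (IsProjective.iff_projective _).1 inferInstance
    haveI : HasProjectiveDimensionLT S.X₃ (d + 2) := by
      show HasProjectiveDimensionLT X (d + 1 + 1)
      infer_instance
    haveI : HasProjectiveDimensionLT (ModuleCat.of P (LinearMap.ker f)) (d + 1) :=
      (hS.hasProjectiveDimensionLT_X₃_iff d inferInstance).1 inferInstance
    haveI : Module.Finite P (ModuleCat.of P (LinearMap.ker f)) := by
      show Module.Finite P (LinearMap.ker f)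
      infer_instance
    have h1 : DRing.HasTorAmplitudeIn P 0 d
        (Q.obj ((homCx I).obj (op (ModuleCat.of P (LinearMap.ker f))))) := ih _
    have h2 : DRing.HasTorAmplitudeIn P 0 ((d : ℤ) + 1)
        (Q.obj ((homCx I).obj (op (ModuleCat.of P (Fin m → P))))) :=
      hasTorAmplitudeIn_mono (hasTorAmplitudeIn_homCx_free I hI m) le_rfl (by omega)
    have h3 := hasTorAmplitudeIn_homCx_X₃ I S hS h1 h2
    have e : ((d + 1 : ℕ) : ℤ) = (d : ℤ) + 1 := by push_cast; ring
    rw [e]
    exact h3

end Groth.Agent.Lib.helper23.RelDual
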