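import Mathlib
import Groth.Prelude.Def_DRing2
import Groth.Prelude.Def_DDual2

/-!
# helper23: injective amplitude (S6965)
-/

set_option autoImplicit false
universe u
open CategoryTheory CategoryTheory.Limits Pretriangulated ZeroObject

attribute [local instance] HasDerivedCategory.standard

namespace Groth.Agent.Lib.helper23.InjAmp

variable {R : Type u} [CommRing R]

section ShiftSingle

/-- `Hom(N[0], K[i])` versus `Hom(N[-i], K)`. -/
lemma subsingleton_extD_iff (N : ModuleCat.{u} R) (K : Dual.D R) (i : ℤ) :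
    Subsingleton ((DerivedCategory.singleFunctor (ModuleCat.{u} R) 0).obj N ⟶ K⟦i⟧) ↔
      Subsingleton ((DerivedCategory.singleFunctor (ModuleCat.{u} R) i).obj N ⟶ K) := by
  have e1 : ((DerivedCategory.singleFunctor (ModuleCat.{u} R) i).obj N)⟦i⟧ ≅
      (DerivedCategory.singleFunctor (ModuleCat.{u} R) 0).obj N :=
    ((DerivedCategory.singleFunctors (ModuleCat.{u} R)).shiftIso i 0 i (by omega)).app N
  constructor
  · intro h
    refine ⟨fun f g => ?_⟩
    apply (shiftFunctor (Dual.D R) i).map_injective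
    refine (cancel_epi e1.inv).1 ?_
    exact h.elim _ _
  · intro h
    have key : ∀ f : (DerivedCategory.singleFunctor (ModuleCat.{u} R) 0).obj N ⟶ K⟦i⟧,
        f = 0 := by
      intro f
      have h1 : e1.hom ≫ f = ((shiftFunctor (Dual.D R) i).map
          (0 : (DerivedCategory.singleFunctor (ModuleCat.{u} R) i).obj N ⟶ K)) := by
        obtain ⟨g, hg⟩ := (shiftFunctor (Dual.D R) i).map_surjective (e1.hom ≫ f)
        rw [← hg, h.elim g 0]
      rw [Functor.map_zero] at h1
      calc f = e1.inv ≫ e1.hom ≫ f := by simp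
        _ = 0 := by rw [h1, comp_zero]
    exact ⟨fun f g => by rw [key f, key g]⟩

end ShiftSingle

section Homotopy

/-- maps from a module in degree `j` to a K-injective complex which vanish in the derived category
are null-homotopic. -/
lemma exists_factor_of_subsingleton (L : DRing.Cx R) [L.IsKInjective] (N : ModuleCat.{u} R) (j : ℤ)
    (h : Subsingleton ((DerivedCategory.singleFunctor (ModuleCat.{u} R) j).obj N ⟶
      DerivedCategory.Q.obj L))
    (φ : N ⟶ L.X j) (hφ : φ ≫ L.d j (j + 1) = 0) :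
    ∃ h' : N ⟶ L.X (j - 1), φ = h' ≫ L.d (j - 1) j := by
  let f : (HomologicalComplex.single (ModuleCat.{u} R) (ComplexShape.up ℤ) j).obj N ⟶ L :=
    HomologicalComplex.mkHomFromSingle φ (fun k hk => by
      simp only [ComplexShape.up_Rel] at hk
      subst hk
      exact hφ)
  have hQ : DerivedCategory.Q.map f = 0 := by
    have h2 : ((DerivedCategory.singleFunctorIsoCompQ _ j).app N).hom ≫
        DerivedCategory.Q.map f = 0 := h.elim _ _
    calc DerivedCategory.Q.map f
        = ((DerivedCategory.singleFunctorIsoCompQ _ j).app N).inv ≫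
          ((DerivedCategory.singleFunctorIsoCompQ _ j).app N).hom ≫
            DerivedCategory.Q.map f := (Iso.inv_hom_id_assoc _ _).symm
      _ = 0 := by rw [h2, comp_zero]
  have hq : (HomotopyCategory.quotient _ _).map f =
      (HomotopyCategory.quotient _ _).map (0 : _ ⟶ L) := by
    apply (CochainComplex.IsKInjective.Qh_map_bijective _ L).1
    show DerivedCategory.Q.map f = DerivedCategory.Q.map 0
    rw [hQ, Functor.map_zero]
  have H : Homotopy f 0 := HomotopyCategory.homotopyOfEq _ _ hq
  have hcomm := H.comm j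
  rw [dNext_eq H.hom (show (ComplexShape.up ℤ).Rel j (j + 1) by simp),
    prevD_eq H.hom (show (ComplexShape.up ℤ).Rel (j - 1) j by simp)] at hcomm
  simp only [HomologicalComplex.single_obj_d, zero_comp, zero_add, add_zero,
    HomologicalComplex.zero_f] at hcomm
  refine ⟨(HomologicalComplex.singleObjXSelf (ComplexShape.up ℤ) j N).inv ≫ H.hom j (j - 1), ?_⟩
  rw [Category.assoc, ← hcomm, HomologicalComplex.mkHomFromSingle_f, Iso.inv_hom_id_assoc]

end Homotopy

section Baer

/-- Baer-type criterion for the injectivity of a kernel. -/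
lemma injective_ker_of_lifts {X Y Z : Type u} [AddCommGroup X] [Module R X] [AddCommGroup Y]
    [Module R Y] [AddCommGroup Z] [Module R Z] (hX : Module.Baer R X)
    (d : X →ₗ[R] Y) (d' : Y →ₗ[R] Z) (hd : d' ∘ₗ d = 0)
    (h : ∀ (I : Ideal R) (φ : (R ⧸ I) →ₗ[R] Y), d' ∘ₗ φ = 0 →
      ∃ h' : (R ⧸ I) →ₗ[R] X, φ = d ∘ₗ h') :
    Module.Baer R (LinearMap.ker d) := by
  intro I g
  obtain ⟨g₁, hg₁⟩ := hX I ((LinearMap.ker d).subtype ∘ₗ g)
  obtain ⟨x, hx⟩ : ∃ x, x = g₁ 1 := ⟨_, rfl⟩
  have hix : ∀ (i : R) (hi : i ∈ I), i • x = (g ⟨i, hi⟩ : X) := by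
    intro i hi
    rw [hx, ← map_smul, smul_eq_mul, mul_one, hg₁ i hi]
    rfl
  have hdx : ∀ i ∈ I, i • d x = 0 := by
    intro i hi
    rw [← map_smul, hix i hi]
    exact (g ⟨i, hi⟩).2
  let φ : (R ⧸ I) →ₗ[R] Y := Submodule.liftQ I (LinearMap.toSpanSingleton R Y (d x)) (by
    intro i hi
    simp only [LinearMap.mem_ker, LinearMap.toSpanSingleton_apply]
    exact hdx i hi)
  have hφ1 : φ (Submodule.Quotient.mk 1) = d x := by
    show Submodule.liftQ I (LinearMap.toSpanSingleton R Y (d x)) _ (Submodule.Quotient.mk 1) = _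
    rw [Submodule.liftQ_apply, LinearMap.toSpanSingleton_apply, one_smul]
  obtain ⟨h', hh'⟩ := h I φ (by
    apply Submodule.linearMap_qext
    ext
    simp only [LinearMap.comp_apply, Submodule.mkQ_apply, φ, Submodule.liftQ_apply,
      LinearMap.toSpanSingleton_apply, one_smul, LinearMap.zero_apply]
    exact LinearMap.congr_fun hd x)
  let y : X := x - h' (Submodule.Quotient.mk 1)
  have hy : y ∈ LinearMap.ker d := by
    have h1 : d (h' (Submodule.Quotient.mk 1)) = φ (Submodule.Quotient.mk 1) := by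
      rw [hh']; rfl
    rw [LinearMap.mem_ker, map_sub, h1, hφ1, sub_self]
  refine ⟨LinearMap.toSpanSingleton R _ ⟨y, hy⟩, fun i hi => ?_⟩
  apply Subtype.ext
  simp only [LinearMap.toSpanSingleton_apply, Submodule.coe_smul, y, smul_sub]
  rw [hix i hi, ← map_smul, ← Submodule.Quotient.mk_smul, smul_eq_mul, mul_one,
    (Submodule.Quotient.mk_eq_zero I).2 hi, map_zero, sub_zero]

end Baer

end Groth.Agent.Lib.helper23.InjAmp
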