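import Mathlib
import Groth.Prelude.Def_DRing2
import Groth.Prelude.Def_DDual2
import Groth.Agent.Lib.Helper23.InjAmp

/-!
# helper23: injective amplitude (S6965), part 2
-/

set_option autoImplicit false
universe u
open CategoryTheory CategoryTheory.Limits Pretriangulated ZeroObject

attribute [local instance] HasDerivedCategory.standard

namespace Groth.Agent.Lib.helper23.InjAmp

variable {R : Type u} [CommRing R]

/-- no maps in `D(R)` from a module placed in degree `i` to a complex of injectives vanishing
outside `[a, b] ∌ i`. -/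
lemma subsingleton_hom_single_of_injective (E : DRing.Cx R) (a b : ℤ)
    (hz : DRing.VanishesOutside E a b) (hinj : DRing.TermwiseInjective E)
    (N : ModuleCat.{u} R) (i : ℤ) (hi : i < a ∨ b < i) :
    Subsingleton ((DerivedCategory.singleFunctor (ModuleCat.{u} R) i).obj N ⟶
      DerivedCategory.Q.obj E) := by
  haveI : ∀ n, Injective (E.X n) := fun n =>
    (Module.injective_iff_injective_object R (E.X n)).1 (hinj n)
  haveI : E.IsStrictlyGE a := by
    rw [CochainComplex.isStrictlyGE_iff]
    intro j hj
    exact hz j (Or.inl hj)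
  haveI : E.IsKInjective := CochainComplex.isKInjective_of_injective E a
  let S : DRing.Cx R := (HomologicalComplex.single (ModuleCat.{u} R) (ComplexShape.up ℤ) i).obj N
  let eS : (DerivedCategory.singleFunctor (ModuleCat.{u} R) i).obj N ≅ DerivedCategory.Q.obj S :=
    (DerivedCategory.singleFunctorIsoCompQ (ModuleCat.{u} R) i).app N
  have key : ∀ g : DerivedCategory.Q.obj S ⟶ DerivedCategory.Q.obj E, g = 0 := by
    intro g
    obtain ⟨h, hh⟩ := (CochainComplex.IsKInjective.Qh_map_bijective
      ((HomotopyCategory.quotient _ _).obj S) E).2 g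
    obtain ⟨f, rfl⟩ := (HomotopyCategory.quotient _ _).map_surjective h
    have hf : f = 0 := by
      refine HomologicalComplex.hom_ext _ _ (fun k => ?_)
      by_cases hk : k = i
      · subst hk
        exact (hz k hi).eq_of_tgt _ _
      · exact (HomologicalComplex.isZero_single_obj_X (ComplexShape.up ℤ) i _ k hk).eq_of_src _ _
    rw [← hh, hf, Functor.map_zero, Functor.map_zero]
    rfl
  have hf : ∀ f : (DerivedCategory.singleFunctor (ModuleCat.{u} R) i).obj N ⟶
      DerivedCategory.Q.obj E, f = 0 := by
    intro f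
    have h1 := key (eS.inv ≫ f)
    calc f = eS.hom ≫ eS.inv ≫ f := (Iso.hom_inv_id_assoc _ _).symm
      _ = 0 := by rw [h1, comp_zero]
  exact ⟨fun f g => by rw [hf f, hf g]⟩

/-- If there are no nonzero maps `R[-i] ⟶ K'` in `D(R)` then `K'` is exact in degree `i`. -/
lemma exactAt_of_subsingleton_hom (K' : DRing.Cx R) (i : ℤ)
    (h : Subsingleton ((DerivedCategory.singleFunctor (ModuleCat.{u} R) i).obj
      (ModuleCat.of R (R ⧸ (⊥ : Ideal R))) ⟶ DerivedCategory.Q.obj K')) :
    K'.ExactAt i := by
  rw [HomologicalComplex.exactAt_iff' K' (i - 1) i (i + 1) (by simp) (by simp),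
    ShortComplex.moduleCat_exact_iff]
  intro x hx
  let N : ModuleCat.{u} R := ModuleCat.of R (R ⧸ (⊥ : Ideal R))
  have hNproj : Projective N := by
    haveI : Module.Projective R (R ⧸ (⊥ : Ideal R)) :=
      Module.Projective.of_equiv (Submodule.quotEquivOfEqBot (⊥ : Ideal R) rfl).symm
    exact (IsProjective.iff_projective (R := R) (R ⧸ (⊥ : Ideal R))).1 inferInstance
  let φ : N ⟶ K'.X i := ModuleCat.ofHom
    (Submodule.liftQ (⊥ : Ideal R) (LinearMap.toSpanSingleton R (K'.X i) x) (by simp))
  have hφ1 : φ (Submodule.Quotient.mk 1) = x := by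
    show Submodule.liftQ (⊥ : Ideal R) (LinearMap.toSpanSingleton R (K'.X i) x) _
      (Submodule.Quotient.mk 1) = _
    rw [Submodule.liftQ_apply, LinearMap.toSpanSingleton_apply, one_smul]
  have hφ : φ ≫ K'.d i (i + 1) = 0 := by
    apply ModuleCat.hom_ext
    apply Submodule.linearMap_qext
    ext
    simp only [ModuleCat.hom_comp, LinearMap.comp_apply, Submodule.mkQ_apply, ModuleCat.hom_zero,
      LinearMap.zero_apply]
    erw [hφ1]
    exact hx
  let S : DRing.Cx R := (HomologicalComplex.single (ModuleCat.{u} R) (ComplexShape.up ℤ) i).obj N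
  have hSz : ∀ k : ℤ, k ≠ i → IsZero (S.X k) := fun k hk =>
    HomologicalComplex.isZero_single_obj_X (ComplexShape.up ℤ) i _ k hk
  haveI hSP : ∀ k, Projective (S.X k) := by
    intro k
    by_cases hk : k = i
    · subst hk
      exact Projective.of_iso (HomologicalComplex.singleObjXSelf (ComplexShape.up ℤ) k N).symm
        hNproj
    · exact (hSz k hk).projective
  haveI : S.IsStrictlyLE i := by
    rw [CochainComplex.isStrictlyLE_iff]
    intro k hk
    exact hSz k (by omega)
  haveI : S.IsKProjective := CochainComplex.isKProjective_of_projective S i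
  let f : S ⟶ K' :=
    HomologicalComplex.mkHomFromSingle φ (fun k hk => by
      simp only [ComplexShape.up_Rel] at hk
      subst hk
      exact hφ)
  have hQ : DerivedCategory.Q.map f = 0 := by
    have h2 : ((DerivedCategory.singleFunctorIsoCompQ _ i).app N).hom ≫
        DerivedCategory.Q.map f = 0 := h.elim _ _
    calc DerivedCategory.Q.map f
        = ((DerivedCategory.singleFunctorIsoCompQ _ i).app N).inv ≫
          ((DerivedCategory.singleFunctorIsoCompQ _ i).app N).hom ≫
            DerivedCategory.Q.map f := (Iso.inv_hom_id_assoc _ _).symm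
      _ = 0 := by rw [h2, comp_zero]
  have hq : (HomotopyCategory.quotient _ _).map f =
      (HomotopyCategory.quotient _ _).map (0 : S ⟶ K') := by
    apply (CochainComplex.IsKProjective.Qh_map_bijective S _).1
    show DerivedCategory.Q.map f = DerivedCategory.Q.map 0
    rw [hQ, Functor.map_zero]
  have H : Homotopy f 0 := HomotopyCategory.homotopyOfEq _ _ hq
  have hcomm := H.comm i
  rw [dNext_eq H.hom (show (ComplexShape.up ℤ).Rel i (i + 1) by simp),
    prevD_eq H.hom (show (ComplexShape.up ℤ).Rel (i - 1) i by simp)] at hcomm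
  have hSd : S.d i (i + 1) = 0 := HomologicalComplex.single_obj_d _ _ _ _ _
  rw [hSd, zero_comp, zero_add, HomologicalComplex.zero_f, add_zero] at hcomm
  have hφ2 : φ = ((HomologicalComplex.singleObjXSelf (ComplexShape.up ℤ) i N).inv ≫
      H.hom i (i - 1)) ≫ K'.d (i - 1) i := by
    rw [Category.assoc, ← hcomm, HomologicalComplex.mkHomFromSingle_f, Iso.inv_hom_id_assoc]
  refine ⟨((HomologicalComplex.singleObjXSelf (ComplexShape.up ℤ) i N).inv ≫
      H.hom i (i - 1)) (Submodule.Quotient.mk 1), ?_⟩
  rw [← hφ1]
  conv_rhs => rw [hφ2]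
  rfl

end Groth.Agent.Lib.helper23.InjAmp
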