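import Groth.Prelude.Def_SGA4c
import Mathlib.CategoryTheory.Limits.Shapes.Pullback.Mono
import Mathlib.CategoryTheory.Limits.Shapes.Pullback.IsPullback.Basic
import Mathlib.CategoryTheory.Limits.Shapes.Diagonal

/-!
Formal (purely categorical) properties of quasi-compact objects / morphisms of `ToposFin`
(helper23).
-/

universe u

open CategoryTheory CategoryTheory.Limits Opposite

namespace Groth.Agent.Lib.helper23
namespace QCHom

variable {C : Type u} [SmallCategory C] {J : GrothendieckTopology C}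

open ToposFin

theorem isQC_of_iso {X Y : Sh J} (e : X ≅ Y) (hX : IsQC X) : IsQC Y := by
  intro ι F π hπ
  have h1 : Limits.Sigma.desc (fun i => (π i ≫ e.inv : F i ⟶ X)) = Limits.Sigma.desc π ≫ e.inv := by
    apply Limits.Sigma.hom_ext
    intro i
    simp
  have : Epi (Limits.Sigma.desc (fun i => (π i ≫ e.inv : F i ⟶ X))) := by rw [h1]; infer_instance
  obtain ⟨s, hs⟩ := hX ι F (fun i => π i ≫ e.inv) this
  refine ⟨s, ?_⟩
  have h2 : Limits.Sigma.desc (fun i : s => π i) =
      Limits.Sigma.desc (fun i : s => (π i ≫ e.inv : F i ⟶ X)) ≫ e.hom := by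
    apply Limits.Sigma.hom_ext
    intro i
    simp
  rw [h2]; infer_instance

theorem isQCHom_iff_isPullback {X Y : Sh J} (f : X ⟶ Y) :
    IsQCHom f ↔ ∀ {P Y' : Sh J} (fst : P ⟶ X) (snd : P ⟶ Y') (g : Y' ⟶ Y),
      IsPullback fst snd f g → IsQC Y' → IsQC P := by
  constructor
  · intro h P Y' fst snd g hp hY'
    exact isQC_of_iso hp.isoPullback.symm (h Y' g hY')
  · intro h Y' g hY'
    exact h _ _ g (IsPullback.of_hasPullback f g) hY'

theorem isQC_of_isPullback {X Y : Sh J} {f : X ⟶ Y} (hf : IsQCHom f) {P Y' : Sh J} {fst : P ⟶ X}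
    {snd : P ⟶ Y'} {g : Y' ⟶ Y} (hp : IsPullback fst snd f g) (hY' : IsQC Y') : IsQC P :=
  (isQCHom_iff_isPullback f).mp hf fst snd g hp hY'

/-- quasi-compact morphisms are stable under base change -/
theorem isQCHom_of_isPullback {X Y X' Y' : Sh J} {f : X ⟶ Y} {f' : X' ⟶ Y'} {a : X' ⟶ X}
    {b : Y' ⟶ Y} (hp : IsPullback a f' f b) (hf : IsQCHom f) : IsQCHom f' := by
  rw [isQCHom_iff_isPullback] at hf ⊢
  intro P T fst snd g hp' hT
  exact hf (fst ≫ a) snd (g ≫ b) (hp'.paste_horiz hp) hT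

/-- quasi-compact morphisms are stable under composition -/
theorem isQCHom_comp {X Y Z : Sh J} {f : X ⟶ Y} {g : Y ⟶ Z} (hf : IsQCHom f) (hg : IsQCHom g) :
    IsQCHom (f ≫ g) := by
  intro T t hT
  have h1 : IsQC (pullback g t) := hg T t hT
  have h2 : IsQC (pullback f (pullback.fst g t)) := hf _ _ h1
  have hp : IsPullback (pullback.fst f (pullback.fst g t))
      (pullback.snd f (pullback.fst g t) ≫ pullback.snd g t) (f ≫ g) t :=
    (IsPullback.of_hasPullback f (pullback.fst g t)).paste_vert (IsPullback.of_hasPullback g t)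
  exact isQC_of_iso hp.isoPullback h2

/-- if `d ≫ j` is quasi-compact and `j` is a monomorphism then `d` is quasi-compact -/
theorem isQCHom_of_comp_mono {A B D : Sh J} (d : A ⟶ B) (j : B ⟶ D) [Mono j]
    (h : IsQCHom (d ≫ j)) : IsQCHom d := by
  intro T t hT
  have hp : IsPullback (pullback.fst d t) (pullback.snd d t) (d ≫ j) (t ≫ j) :=
    IsPullback.of_isLimit' ⟨by simp [pullback.condition_assoc]⟩ (pullbackIsPullbackOfCompMono d t j)
  exact isQC_of_isPullback h hp hT

/-- if `f ≫ g` is quasi-separated then `f` is quasi-separated -/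
theorem isQSHom_of_comp {X Y Z : Sh J} (f : X ⟶ Y) (g : Y ⟶ Z) (h : IsQSHom (f ≫ g)) :
    IsQSHom f := by
  unfold IsQSHom at h ⊢
  rw [pullback.diagonal_comp] at h
  exact isQCHom_of_comp_mono _ _ h

/-- if `g` is quasi-separated and `f ≫ g` is quasi-compact then `f` is quasi-compact -/
theorem isQCHom_of_comp_of_isQSHom {X Y Z : Sh J} (f : X ⟶ Y) (g : Y ⟶ Z) (hg : IsQSHom g)
    (h : IsQCHom (f ≫ g)) : IsQCHom f := by
  intro T t hT
  have h1 : IsQC (pullback (f ≫ g) (t ≫ g)) := h T (t ≫ g) hT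
  exact isQC_of_isPullback hg (pullback_map_diagonal_isPullback f t g) h1

/-- source of a quasi-separated morphism to a quasi-separated object is quasi-separated -/
theorem isQS_of_isQSHom {X Y : Sh J} (f : X ⟶ Y) (hf : IsQSHom f) (hY : IsQS Y) : IsQS X := by
  intro A B a b hA hB
  have h1 : IsQC (pullback (a ≫ f) (b ≫ f)) := hY A B (a ≫ f) (b ≫ f) hA hB
  exact isQC_of_isPullback hf (pullback_map_diagonal_isPullback a b f) h1

/-- a subobject of a quasi-separated object is quasi-separated -/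
theorem isQS_of_mono {X Y : Sh J} (i : X ⟶ Y) [Mono i] (hY : IsQS Y) : IsQS X := by
  intro A B a b hA hB
  have h1 : IsQC (pullback (a ≫ i) (b ≫ i)) := hY A B (a ≫ i) (b ≫ i) hA hB
  have hp : IsPullback (pullback.fst a b) (pullback.snd a b) (a ≫ i) (b ≫ i) :=
    IsPullback.of_isLimit' ⟨by simp [pullback.condition_assoc]⟩ (pullbackIsPullbackOfCompMono a b i)
  exact isQC_of_iso hp.isoPullback.symm h1

end QCHom
end Groth.Agent.Lib.helper23
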