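import Mathlib
import Groth.Prelude.Def_Wider
import Groth.Agent.Lib.Helper23.FBC10

/-!
# Shifts of dualizing complexes are dualizing (helper23)
-/

set_option autoImplicit false
universe u
open CategoryTheory CategoryTheory.Limits DerivedCategory Pretriangulated

attribute [local instance] HasDerivedCategory.standard

namespace Groth.Agent.Lib.helper23.FBC

/-- a shift of a dualizing complex is dualizing. -/
theorem isDualizing_shift {R : Type u} [CommRing R] (ω : Dual.D R) (n : ℤ)
    (hω : Dual.IsDualizing R ω) : Dual.IsDualizing R (ω⟦n⟧) := by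
  obtain ⟨a, b, hv⟩ := hω.finite_injective_dimension
  refine ⟨hω.isNoetherianRing, ⟨a - n, b - n, fun M _ _ i hi => ?_⟩, fun i => ?_, ?_,
    fun i hi => ?_⟩
  · haveI := hv M (n + i) (by omega)
    exact subsingleton_hom_of_iso (Iso.refl _)
      ((shiftFunctorAdd' (Dual.D R) n i (n + i) rfl).app ω)
  · haveI := hω.finite_cohomology (n + i)
    have e : (homologyFunctor (ModuleCat.{u} R) i).obj (ω⟦n⟧) ≅
        (homologyFunctor (ModuleCat.{u} R) (n + i)).obj ω :=
      ((homologyFunctor (ModuleCat.{u} R) 0).shiftIso n i (n + i) rfl).app ω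
    exact Module.Finite.equiv e.symm.toLinearEquiv
  · have h1 : (fun r : R => r • 𝟙 (ω⟦n⟧)) =
        (fun f : ω ⟶ ω => f⟦n⟧') ∘ (fun r : R => r • 𝟙 ω) := by
      funext r
      show r • 𝟙 (ω⟦n⟧) = (shiftFunctor (Dual.D R) n).map (r • 𝟙 ω)
      rw [Functor.map_smul, CategoryTheory.Functor.map_id]
    rw [h1]
    refine Function.Bijective.comp ?_ hω.toEnd_bijective
    exact ⟨fun f g hfg => (shiftFunctor (Dual.D R) n).map_injective hfg,
      fun f => (shiftFunctor (Dual.D R) n).map_surjective f⟩
  · haveI := hω.ext_self_subsingleton i hi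
    refine ⟨fun f g => ?_⟩
    have key : ∀ f : ω⟦n⟧ ⟶ (ω⟦n⟧)⟦i⟧, f = 0 := by
      intro f
      obtain ⟨f', hf'⟩ := (shiftFunctor (Dual.D R) n).map_surjective
        (f ≫ ((shiftFunctorComm (Dual.D R) n i).app ω).hom)
      have h0 : f' = 0 := Subsingleton.elim _ _
      rw [h0, Functor.map_zero] at hf'
      have h2 : f = (f ≫ ((shiftFunctorComm (Dual.D R) n i).app ω).hom) ≫
          ((shiftFunctorComm (Dual.D R) n i).app ω).inv := by
        simp
      rw [h2, ← hf', zero_comp]
    rw [key f, key g]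

end Groth.Agent.Lib.helper23.FBC
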