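import Mathlib
import Groth.Prelude.Def_Wider
import Groth.Prelude.Def_DDual2
import Groth.Agent.Lib.Helper23.FBC2

/-!
# Transitivity of (exact) extension of scalars on derived categories (helper23)
-/

set_option autoImplicit false
universe u
open CategoryTheory CategoryTheory.Limits DerivedCategory Pretriangulated TensorProduct

attribute [local instance] HasDerivedCategory.standard

namespace Groth.Agent.Lib.helper23.FBC

section

variable {A C : Type u} [CommRing A] [CommRing C]

/-- extension of scalars along equal ring maps. -/
noncomputable def extendScalarsCongr {φ ψ : A →+* C} (h : φ = ψ) :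
    ModuleCat.extendScalars.{u, u, u} φ ≅ ModuleCat.extendScalars.{u, u, u} ψ :=
  eqToIso (by rw [h])

end

variable (A B C : Type u) [CommRing A] [CommRing B] [CommRing C] [Algebra A B] [Algebra B C]
  [Algebra A C] [IsScalarTower A B C]

/-- `C ⊗_A - ≅ C ⊗_B (B ⊗_A -)`. -/
noncomputable def extendScalarsTowerIso :
    ModuleCat.extendScalars.{u, u, u} (algebraMap A C) ≅
      ModuleCat.extendScalars.{u, u, u} (algebraMap A B) ⋙
        ModuleCat.extendScalars.{u, u, u} (algebraMap B C) :=
  extendScalarsCongr (IsScalarTower.algebraMap_eq A B C) ≪≫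
    ModuleCat.extendScalarsComp (algebraMap A B) (algebraMap B C)

variable [PreservesFiniteLimits (ModuleCat.extendScalars.{u, u, u} (algebraMap A B))]
  [PreservesFiniteLimits (ModuleCat.extendScalars.{u, u, u} (algebraMap B C))]
  [PreservesFiniteLimits (ModuleCat.extendScalars.{u, u, u} (algebraMap A C))]

/-- the auxiliary isomorphism at the level of complexes. -/
noncomputable def EEcompAux :
    (ModuleCat.extendScalars.{u, u, u} (algebraMap A C)).mapHomologicalComplex
        (ComplexShape.up ℤ) ⋙ DerivedCategory.Q ≅
      ((ModuleCat.extendScalars.{u, u, u} (algebraMap A B)).mapHomologicalComplex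
        (ComplexShape.up ℤ) ⋙ DerivedCategory.Q) ⋙ EE B C :=
  Functor.isoWhiskerRight
      ((Functor.mapHomologicalComplexCompIso (extendScalarsTowerIso A B C).symm
        (ComplexShape.up ℤ)).symm) DerivedCategory.Q ≪≫
    Functor.associator _ _ _ ≪≫
    Functor.isoWhiskerLeft _
      (ModuleCat.extendScalars.{u, u, u} (algebraMap B C)).mapDerivedCategoryFactors.symm ≪≫
    (Functor.associator _ _ _).symm

/-- **transitivity** of extension of scalars on derived categories. -/
noncomputable def EEcompIso : EE A C ≅ EE A B ⋙ EE B C :=
  Localization.liftNatIso DerivedCategory.Q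
    (HomologicalComplex.quasiIso (ModuleCat.{u} A) (ComplexShape.up ℤ))
    ((ModuleCat.extendScalars.{u, u, u} (algebraMap A C)).mapHomologicalComplex
        (ComplexShape.up ℤ) ⋙ DerivedCategory.Q)
    (((ModuleCat.extendScalars.{u, u, u} (algebraMap A B)).mapHomologicalComplex
        (ComplexShape.up ℤ) ⋙ DerivedCategory.Q) ⋙ EE B C)
    (EE A C) (EE A B ⋙ EE B C) (EEcompAux A B C)

end Groth.Agent.Lib.helper23.FBC
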