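import Mathlib

/-!
# Primes of `A[X]` over a prime of `A`: pseudo-division (helper23)

For a prime `q` of `A[X]` with `p = q ∩ A` and `q ≠ p A[X]`, there are `f ∈ q ∖ p A[X]` and
`c ∈ A ∖ p` with `c • q ⊆ p A[X] + (f)`.
-/

set_option autoImplicit false
universe u
open Polynomial

namespace Groth.Agent.Lib.helper23.PolyDiv

variable {A : Type u} [CommRing A]

/-- the pseudo-division step lowers the degree. -/
lemma coeff_step (f g : A[X]) (hfg : f.natDegree ≤ g.natDegree) (j : ℕ) (hj : g.natDegree ≤ j) :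
    (C f.leadingCoeff * g - C g.leadingCoeff * X ^ (g.natDegree - f.natDegree) * f).coeff j = 0 := by
  rw [coeff_sub, coeff_C_mul, mul_assoc, coeff_C_mul, coeff_X_pow_mul']
  have h1 : g.natDegree - f.natDegree ≤ j := le_trans (Nat.sub_le _ _) hj
  rw [if_pos h1]
  rcases hj.lt_or_eq with hlt | heq
  · rw [coeff_eq_zero_of_natDegree_lt hlt, coeff_eq_zero_of_natDegree_lt (by omega), mul_zero,
      mul_zero, sub_zero]
  · subst heq
    have h2 : g.natDegree - (g.natDegree - f.natDegree) = f.natDegree := by omega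
    rw [h2]
    show f.leadingCoeff * g.leadingCoeff - g.leadingCoeff * f.leadingCoeff = 0
    ring

variable (q : Ideal A[X]) [hq : q.IsPrime]

/-- pseudo-division by an element `f ∈ q` of minimal degree outside `P`. -/
lemma exists_pow_mul_mem (P : Ideal A[X]) (hPq : P ≤ q) (f : A[X]) (hfq : f ∈ q)
    (hmin : ∀ g ∈ q, g ∉ P → f.natDegree ≤ g.natDegree) :
    ∀ (k : ℕ) (g : A[X]), g ∈ q → g.natDegree ≤ k →
      ∃ e : ℕ, C f.leadingCoeff ^ e * g ∈ P ⊔ Ideal.span {f} := by
  intro k
  induction k with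
  | zero =>
    intro g hg hk
    by_cases hgP : g ∈ P
    · exact ⟨0, by rw [pow_zero, one_mul]; exact Ideal.mem_sup_left hgP⟩
    · have hfg := hmin g hg hgP
      refine ⟨1, ?_⟩
      have h0 : C f.leadingCoeff * g - C g.leadingCoeff * X ^ (g.natDegree - f.natDegree) * f
          = 0 := by
        ext j
        rw [coeff_step f g hfg j (by omega), coeff_zero]
      rw [pow_one, sub_eq_zero.1 h0]
      exact Ideal.mem_sup_right (Ideal.mul_mem_left _ _ (Ideal.subset_span rfl))
  | succ k ih =>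
    intro g hg hk
    by_cases hgP : g ∈ P
    · exact ⟨0, by rw [pow_zero, one_mul]; exact Ideal.mem_sup_left hgP⟩
    · have hfg := hmin g hg hgP
      let g' := C f.leadingCoeff * g - C g.leadingCoeff * X ^ (g.natDegree - f.natDegree) * f
      have hg'q : g' ∈ q :=
        Ideal.sub_mem _ (Ideal.mul_mem_left _ _ hg) (Ideal.mul_mem_left _ _ hfq)
      have hg'k : g'.natDegree ≤ k := by
        rw [natDegree_le_iff_coeff_eq_zero]
        intro N hN
        exact coeff_step f g hfg N (by omega)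
      obtain ⟨e, he⟩ := ih g' hg'q hg'k
      refine ⟨e + 1, ?_⟩
      have h1 : C f.leadingCoeff ^ (e + 1) * g = C f.leadingCoeff ^ e * g' +
          C f.leadingCoeff ^ e * (C g.leadingCoeff * X ^ (g.natDegree - f.natDegree)) * f := by
        simp only [g']
        ring
      rw [h1]
      exact Ideal.add_mem _ he
        (Ideal.mem_sup_right (Ideal.mul_mem_left _ _ (Ideal.subset_span rfl)))

/-- **the key lemma**. -/
theorem exists_kill [IsNoetherianRing A] (p : Ideal A) [hp : p.IsPrime]
    (hpq : q.comap (C : A →+* A[X]) = p) (hne : q ≠ p.map (C : A →+* A[X])) :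
    ∃ f ∈ q, f ∉ p.map (C : A →+* A[X]) ∧ ∃ c : A, c ∉ p ∧
      ∀ g ∈ q, C c * g ∈ p.map (C : A →+* A[X]) ⊔ Ideal.span {f} := by
  have hPq : p.map (C : A →+* A[X]) ≤ q := by
    rw [Ideal.map_le_iff_le_comap, hpq]
  -- an element of minimal degree in `q ∖ P`
  have hne' : {g : A[X] | g ∈ q ∧ g ∉ p.map (C : A →+* A[X])}.Nonempty := by
    by_contra h
    rw [Set.not_nonempty_iff_eq_empty] at h
    refine hne (le_antisymm (fun g hg => ?_) hPq)
    by_contra hgP
    have : g ∈ {g : A[X] | g ∈ q ∧ g ∉ p.map (C : A →+* A[X])} := ⟨hg, hgP⟩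
    rw [h] at this
    exact this
  obtain ⟨f, ⟨hfq, hfP⟩, hmin'⟩ := WellFounded.has_min
    (InvImage.wf (fun g : A[X] => g.natDegree) Nat.lt_wfRel.wf) _ hne'
  have hmin : ∀ g ∈ q, g ∉ p.map (C : A →+* A[X]) → f.natDegree ≤ g.natDegree := by
    intro g hg hgP
    exact not_lt.1 (hmin' g ⟨hg, hgP⟩)
  -- the leading coefficient of `f` is not in `p`
  have ha : f.leadingCoeff ∉ p := by
    intro hap
    have h1 : C f.leadingCoeff * X ^ f.natDegree ∈ p.map (C : A →+* A[X]) :=
      Ideal.mul_mem_right _ _ (Ideal.mem_map_of_mem _ hap)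
    have h2 : f.eraseLead ∈ q := by
      have : f.eraseLead = f - C f.leadingCoeff * X ^ f.natDegree := by
        rw [eq_sub_iff_add_eq, eraseLead_add_C_mul_X_pow]
      rw [this]
      exact Ideal.sub_mem _ hfq (hPq h1)
    have h3 : f.eraseLead ∉ p.map (C : A →+* A[X]) := by
      intro h
      apply hfP
      rw [← eraseLead_add_C_mul_X_pow f]
      exact Ideal.add_mem _ h h1
    rcases eraseLead_natDegree_lt_or_eraseLead_eq_zero f with h4 | h4
    · exact absurd (hmin _ h2 h3) (not_le.2 h4)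
    · apply h3
      rw [h4]
      exact Ideal.zero_mem _
  refine ⟨f, hfq, hfP, ?_⟩
  -- uniform exponent on a finite generating set
  have hdiv : ∀ g ∈ q, ∃ e : ℕ, C f.leadingCoeff ^ e * g ∈
      p.map (C : A →+* A[X]) ⊔ Ideal.span {f} := fun g hg =>
    exists_pow_mul_mem q _ hPq f hfq hmin g.natDegree g hg le_rfl
  obtain ⟨s, hs⟩ := (IsNoetherian.noetherian q : q.FG)
  classical
  let e : A[X] → ℕ := fun g => if h : g ∈ q then Classical.choose (hdiv g h) else 0
  have he : ∀ g ∈ q, C f.leadingCoeff ^ e g * g ∈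
      p.map (C : A →+* A[X]) ⊔ Ideal.span {f} := by
    intro g hg
    simp only [e, dif_pos hg]
    exact Classical.choose_spec (hdiv g hg)
  let E := s.sup e
  refine ⟨f.leadingCoeff ^ E, fun h => ha (hp.mem_of_pow_mem _ h), ?_⟩
  intro g hg
  rw [← hs] at hg
  refine Submodule.span_induction (p := fun g _ => C (f.leadingCoeff ^ E) * g ∈
    p.map (C : A →+* A[X]) ⊔ Ideal.span {f}) ?_ ?_ ?_ ?_ hg
  · intro x hx
    have hxq : x ∈ q := by
      rw [← hs]
      exact Submodule.subset_span hx
    have hle : e x ≤ E := Finset.le_sup (f := e) hx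
    have h1 : C (f.leadingCoeff ^ E) * x =
        C f.leadingCoeff ^ (E - e x) * (C f.leadingCoeff ^ e x * x) := by
      rw [← mul_assoc, ← pow_add, Nat.sub_add_cancel hle, C_pow]
    rw [h1]
    exact Ideal.mul_mem_left _ _ (he x hxq)
  · rw [mul_zero]
    exact Ideal.zero_mem _
  · intro x y _ _ hx hy
    rw [mul_add]
    exact Ideal.add_mem _ hx hy
  · intro r x _ hx
    rw [smul_eq_mul, mul_left_comm]
    exact Ideal.mul_mem_left _ _ hx

end Groth.Agent.Lib.helper23.PolyDiv
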