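import Mathlib
import Groth.Prelude.Def_Wider
import Groth.Prelude.Def_DDual2
import Groth.Agent.Lib.Helper23.FBC18
import Groth.Agent.Lib.Helper23.PolyDiv

/-!
# Injective dimension and the polynomial ring (helper23)

If `Hom(M[0], K[i]) = 0` for all finite `A`-modules `M` and `i > n`, then
`Hom(N[0], (K ⊗_A A[X])[i]) = 0` for all finite `A[X]`-modules `N` and `i > n + 1`.
-/

set_option autoImplicit false
universe u
open CategoryTheory CategoryTheory.Limits DerivedCategory Pretriangulated TensorProduct Polynomial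

attribute [local instance] HasDerivedCategory.standard

namespace Groth.Agent.Lib.helper23.FBC

attribute [local instance 50] homModuleA
attribute [local instance] FlatBC.preservesFiniteLimits_extendScalars_algebraMap

section SES

variable {B : Type u} [CommRing B]

/-- `(B/P)/f → B/q`. -/
noncomputable def πq (P q : Ideal B) (hPq : P ≤ q) (f : B) (hf : f ∈ q) :
    ((B ⧸ P) ⧸ LinearMap.range (LinearMap.lsmul B (B ⧸ P) f)) →ₗ[B] (B ⧸ q) :=
  Submodule.liftQ _ (Submodule.mapQ P q LinearMap.id hPq) (by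
    rintro _ ⟨x, rfl⟩
    rw [LinearMap.mem_ker]
    obtain ⟨b, rfl⟩ := Submodule.mkQ_surjective _ x
    show (Submodule.mapQ P q LinearMap.id hPq) (f • Submodule.Quotient.mk b) = 0
    rw [map_smul]
    show f • (Submodule.Quotient.mk b : B ⧸ q) = 0
    rw [← Submodule.Quotient.mk_smul, Submodule.Quotient.mk_eq_zero]
    exact Ideal.mul_mem_right _ _ hf)

variable (P q : Ideal B) (hPq : P ≤ q) (f : B) (hf : f ∈ q)

lemma πq_mk (b : B) :
    πq P q hPq f hf (Submodule.Quotient.mk (Submodule.Quotient.mk b)) =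
      Submodule.Quotient.mk b := rfl

lemma πq_surjective : Function.Surjective (πq P q hPq f hf) := by
  intro z
  obtain ⟨b, rfl⟩ := Submodule.mkQ_surjective _ z
  exact ⟨Submodule.Quotient.mk (Submodule.Quotient.mk b), rfl⟩

/-- the short exact sequence `0 → ker → (B/P)/f → B/q → 0`. -/
noncomputable def πSC : ShortComplex (ModuleCat.{u} B) :=
  ShortComplex.mk (ModuleCat.ofHom (LinearMap.ker (πq P q hPq f hf)).subtype)
    (ModuleCat.ofHom (πq P q hPq f hf)) (by
      ext x
      exact x.2)

lemma πSC_shortExact : (πSC P q hPq f hf).ShortExact where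
  exact := (ShortComplex.ShortExact.moduleCat_exact_iff_function_exact _).2
    (LinearMap.exact_subtype_ker_map _)
  mono_f := (ModuleCat.mono_iff_injective _).2 Subtype.val_injective
  epi_g := (ModuleCat.epi_iff_surjective _).2 (πq_surjective P q hPq f hf)

lemma πSC_kill (c : B) (hc : ∀ g ∈ q, c * g ∈ P ⊔ Ideal.span {f}) :
    c • 𝟙 (πSC P q hPq f hf).X₁ = 0 := by
  apply ModuleCat.hom_ext
  apply LinearMap.ext
  rintro ⟨z, hz⟩
  apply Subtype.ext
  show c • z = 0
  obtain ⟨z', rfl⟩ := Submodule.mkQ_surjective _ z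
  obtain ⟨b, rfl⟩ := Submodule.mkQ_surjective P z'
  have hb : b ∈ q := by
    have h1 : πq P q hPq f hf (Submodule.Quotient.mk (Submodule.Quotient.mk b)) = 0 := hz
    rw [πq_mk] at h1
    exact (Submodule.Quotient.mk_eq_zero q).1 h1
  obtain ⟨y₁, hy₁, y₂, hy₂, hsum⟩ := Submodule.mem_sup.1 (hc b hb)
  obtain ⟨t, rfl⟩ := Ideal.mem_span_singleton'.1 hy₂
  rw [← map_smul, ← map_smul, Submodule.mkQ_apply, Submodule.mkQ_apply,
    Submodule.Quotient.mk_eq_zero]
  refine ⟨Submodule.Quotient.mk t, ?_⟩
  show f • (Submodule.Quotient.mk t : B ⧸ P) = (Submodule.Quotient.mk (c • b) : B ⧸ P)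
  rw [← Submodule.Quotient.mk_smul, smul_eq_mul, smul_eq_mul, ← hsum, Submodule.Quotient.mk_add,
    (Submodule.Quotient.mk_eq_zero P).2 hy₁, zero_add, mul_comm]

end SES

section Poly

variable {A : Type u} [CommRing A] [IsNoetherianRing A]

/-- **the polynomial step**: the injective dimension grows at most by one under `A → A[X]`. -/
theorem PB_polynomial (K : Dual.D A) (a n : ℤ) [K.IsGE a]
    (hPB : ∀ (M : ModuleCat.{u} A) [Module.Finite A M], BassD.PB K n M)
    (N : ModuleCat.{u} A[X]) [Module.Finite A[X] N] :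
    BassD.PB ((EE A A[X]).obj K) (n + 1) N := by
  refine BassD.PB_of_prime_step' (fun q hq hsurj => ?_) N
  haveI := hq
  let p : Ideal A := q.comap (algebraMap A A[X])
  haveI hp : p.IsPrime := Ideal.comap_isPrime _ _
  let P : Ideal A[X] := p.map (algebraMap A A[X])
  have hPq : P ≤ q := Ideal.map_comap_le
  haveI : Module.Finite A (ModuleCat.of A (A ⧸ p)) := inferInstanceAs (Module.Finite A (A ⧸ p))
  have hBP : BassD.PB ((EE A A[X]).obj K) n (ModuleCat.of A[X] (A[X] ⧸ P)) :=
    PB_EE_extend A[X] K a n (ModuleCat.of A (A ⧸ p)) (hPB _) _ (quotMapIso A[X] p)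
  have hmono : ∀ M : ModuleCat.{u} A[X], BassD.PB ((EE A A[X]).obj K) n M →
      BassD.PB ((EE A A[X]).obj K) (n + 1) M := fun M h i hi φ => h i (by omega) φ
  by_cases hqP : q = P
  · exact hmono _ (BassD.PB.of_iso (Submodule.quotEquivOfEq _ _ hqP.symm).toModuleIso hBP)
  · have hPC : P = p.map (C : A →+* A[X]) := by
      show p.map (algebraMap A A[X]) = _
      rw [Polynomial.algebraMap_eq]
    haveI hPprime : P.IsPrime := by
      rw [hPC]
      exact Ideal.isPrime_map_C_of_isPrime
    obtain ⟨f, hfq, hfP, c, hcp, hc⟩ := PolyDiv.exists_kill q p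
      (by
        show q.comap (C : A →+* A[X]) = q.comap (algebraMap A A[X])
        rw [Polynomial.algebraMap_eq])
      (by rwa [← hPC])
    rw [← hPC] at hfP hc
    have h1 : BassD.PB ((EE A A[X]).obj K) (n + 1) (BassD.cokSC P f).X₃ :=
      BassD.PB.succ (BassD.cokSC P f) (BassD.cokSC_shortExact P f hfP) hBP hBP
    have hCc : C c ∉ q := by
      intro h
      apply hcp
      show algebraMap A A[X] c ∈ q
      rw [Polynomial.algebraMap_eq]
      exact h
    intro i hi φ
    exact BassD.eq_zero_of_kill (πSC P q hPq f hfq) (πSC_shortExact P q hPq f hfq) (C c)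
      (πSC_kill P q hPq f hfq (C c) hc) h1 i hi (fun φ => hsurj (C c) hCc i hi φ) φ

end Poly

end Groth.Agent.Lib.helper23.FBC
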