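import Mathlib
import Groth.Prelude.Def_Wider
import Groth.Prelude.Def_DDual2
import Groth.Agent.Lib.Helper23.Poly1
import Groth.Agent.Lib.Helper23.FBC16

/-!
# Base change of dualizing complexes to a polynomial ring (helper23)
-/

set_option autoImplicit false
universe u
open CategoryTheory CategoryTheory.Limits DerivedCategory Pretriangulated TensorProduct
open scoped Polynomial

attribute [local instance] HasDerivedCategory.standard

namespace Groth.Agent.Lib.helper23.FBC

attribute [local instance 50] homModuleA
attribute [local instance] FlatBC.preservesFiniteLimits_extendScalars_algebraMap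

/-- the flat base change `E ω` of a dualizing complex to `A[X]` is dualizing. -/
theorem isDualizing_EE_polynomial (A : Type u) [CommRing A] [IsNoetherianRing A]
    (ω : Dual.D A) (hω : Dual.IsDualizing A ω) :
    Dual.IsDualizing A[X] ((EE A A[X]).obj ω) := by
  obtain ⟨a, b, hab, hGE, hLE, hv⟩ := exists_bounds ω hω
  haveI := hGE
  haveI := hLE
  haveI := isGE_EE A[X] ω a
  have hPB_A : ∀ (M : ModuleCat.{u} A) [Module.Finite A M], BassD.PB ω b M := by
    intro M _ i hi φ
    haveI := hv M i (Or.inr hi)
    exact Subsingleton.elim _ _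
  have hPB : ∀ (N : ModuleCat.{u} A[X]) [Module.Finite A[X] N],
      BassD.PB ((EE A A[X]).obj ω) (b + 1) N := fun N _ => PB_polynomial ω a b hPB_A N
  refine isDualizing_EE_of_hinj A[X] ω hω ⟨a, max a (b + 1), fun N _ _ i hi => ?_⟩
  exact hinj_of_PB ((EE A A[X]).obj ω) a (b + 1) hPB N i hi

/-- S1776. -/
theorem isDualizing_LBaseChange_polynomial (A : Type u) [CommRing A] [IsNoetherianRing A]
    [DRing.HasLBaseChange (algebraMap A A[X])] (ω : Dual.D A) (hω : Dual.IsDualizing A ω) :
    Dual.IsDualizing A[X] ((DRing.LBaseChange (algebraMap A A[X])).obj ω) :=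
  isDualizing_of_iso ((FlatBC.lbcIso (algebraMap A A[X])).app ω).symm
    (isDualizing_EE_polynomial A ω hω)

end Groth.Agent.Lib.helper23.FBC
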