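import Mathlib
import Groth.Prelude.Def_Wider
import Groth.Prelude.Def_DDual2
import Groth.Agent.Lib.Helper23.Poly2
import Groth.Agent.Lib.Helper23.EEComp

/-!
# Base change of dualizing complexes to polynomial rings in several variables (helper23)
-/

set_option autoImplicit false
universe u
open CategoryTheory CategoryTheory.Limits DerivedCategory Pretriangulated TensorProduct
open scoped Polynomial

attribute [local instance] HasDerivedCategory.standard

namespace Groth.Agent.Lib.helper23.FBC

attribute [local instance 50] homModuleA
attribute [local instance] FlatBC.preservesFiniteLimits_extendScalars_algebraMap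

/-- transitivity for dualizing complexes: if `E_{A→B} ω` is dualizing and base change along
`B → C` preserves dualizing complexes then `E_{A→C} ω` is dualizing. -/
theorem isDualizing_EE_trans (A B C : Type u) [CommRing A] [CommRing B] [CommRing C]
    [Algebra A B] [Algebra B C] [Algebra A C] [IsScalarTower A B C]
    [Module.Flat A B] [Module.Flat B C] [Module.Flat A C] (ω : Dual.D A)
    (h : Dual.IsDualizing C ((EE B C).obj ((EE A B).obj ω))) :
    Dual.IsDualizing C ((EE A C).obj ω) :=
  isDualizing_of_iso ((EEcompIso A B C).app ω).symm h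

/-- base change along a surjective flat map (e.g. an isomorphism). -/
theorem isDualizing_EE_of_surjective (B C : Type u) [CommRing B] [CommRing C] [Algebra B C]
    [Module.Flat B C] [IsNoetherianRing B] [IsNoetherianRing C]
    (hs : Function.Surjective (algebraMap B C)) (ω : Dual.D B) (hω : Dual.IsDualizing B ω) :
    Dual.IsDualizing C ((EE B C).obj ω) :=
  isDualizing_EE C
    (hcyc_of_map_comap C (fun J' => Ideal.map_comap_of_surjective _ hs J')) ω hω

/-- transport along an isomorphism of `A`-algebras. -/
theorem isDualizing_EE_of_algEquiv (A B B' : Type u) [CommRing A] [CommRing B] [CommRing B']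
    [Algebra A B] [Algebra A B'] [Module.Flat A B] [Module.Flat A B'] [IsNoetherianRing B]
    (e : B ≃ₐ[A] B') (ω : Dual.D A)
    (h : Dual.IsDualizing B ((EE A B).obj ω)) :
    Dual.IsDualizing B' ((EE A B').obj ω) := by
  letI : Algebra B B' := e.toAlgHom.toRingHom.toAlgebra
  haveI : IsScalarTower A B B' := IsScalarTower.of_algebraMap_eq (fun x => (e.commutes x).symm)
  haveI : IsNoetherianRing B' := isNoetherianRing_of_ringEquiv B e.toRingEquiv
  haveI : Module.Flat B B' := by
    let l : B ≃ₗ[B] B' :=
      { e.toLinearEquiv with
        map_smul' := fun b x => by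
          show e (b * x) = e b * e x
          exact map_mul e b x }
    exact Module.Flat.of_linearEquiv l.symm
  exact isDualizing_EE_trans A B B' ω
    (isDualizing_EE_of_surjective B B' e.surjective _ h)

/-- **several variables**. -/
theorem isDualizing_EE_mvPolynomial (A : Type u) [CommRing A] [IsNoetherianRing A]
    (ω : Dual.D A) (hω : Dual.IsDualizing A ω) (n : ℕ) :
    Dual.IsDualizing (MvPolynomial (Fin n) A) ((EE A (MvPolynomial (Fin n) A)).obj ω) := by
  induction n with
  | zero =>
    refine isDualizing_EE_of_surjective A (MvPolynomial (Fin 0) A) ?_ ω hω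
    intro x
    exact ⟨MvPolynomial.isEmptyAlgEquiv A (Fin 0) x,
      (MvPolynomial.isEmptyAlgEquiv A (Fin 0)).symm_apply_apply x⟩
  | succ n ih =>
    haveI : Module.Flat A (MvPolynomial (Fin n) A)[X] :=
      Module.Flat.trans A (MvPolynomial (Fin n) A) (MvPolynomial (Fin n) A)[X]
    have h1 : Dual.IsDualizing (MvPolynomial (Fin n) A)[X]
        ((EE A (MvPolynomial (Fin n) A)[X]).obj ω) :=
      isDualizing_EE_trans A (MvPolynomial (Fin n) A) (MvPolynomial (Fin n) A)[X] ω
        (isDualizing_EE_polynomial (MvPolynomial (Fin n) A) _ ih)
    exact isDualizing_EE_of_algEquiv A (MvPolynomial (Fin n) A)[X] (MvPolynomial (Fin (n + 1)) A)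
      (MvPolynomial.finSuccEquiv A n).symm ω h1

end Groth.Agent.Lib.helper23.FBC
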