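import Mathlib
import Groth.Prelude.Def_Wider
import Groth.Prelude.Def_DDual2
import Groth.Prelude.Def_Found
import Groth.Agent.Lib.Helper23.DimFn7
import Groth.Agent.Lib.Helper23.MvPoly

/-!
# Rings with a dualizing complex are universally catenary (helper23)
-/

set_option autoImplicit false
universe u
open CategoryTheory CategoryTheory.Limits DerivedCategory Pretriangulated TensorProduct

attribute [local instance] HasDerivedCategory.standard

namespace Groth.Agent.Lib.helper23.DimFn

open Groth.Agent.Lib.helper23.FBC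

attribute [local instance 50] homModuleA
attribute [local instance] FlatBC.preservesFiniteLimits_extendScalars_algebraMap

section Order

variable {α : Type*} [PartialOrder α]

/-- along a saturated chain the dimension function grows by the length. -/
lemma length_eq_of_saturated (n : α → ℤ) (hcov : ∀ p q : α, p ⋖ q → n p = n q - 1)
    (s : LTSeries α) (hs : ∀ i : Fin s.length, s (Fin.castSucc i) ⋖ s (Fin.succ i)) :
    (s.length : ℤ) = n s.last - n s.head := by
  have key : ∀ (k : ℕ) (hk : k < s.length + 1), n (s ⟨k, hk⟩) = n (s 0) + k := by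
    intro k
    induction k with
    | zero =>
      intro hk
      simp
    | succ k ih =>
      intro hk
      have h1 := ih (by omega)
      have h2 := hcov _ _ (hs ⟨k, by omega⟩)
      have h3 : s (Fin.castSucc (⟨k, by omega⟩ : Fin s.length)) = s ⟨k, by omega⟩ := rfl
      have h4 : s (Fin.succ (⟨k, by omega⟩ : Fin s.length)) = s ⟨k + 1, hk⟩ := rfl
      rw [h3, h4] at h2
      push_cast
      omega
  have h5 := key s.length (Nat.lt_succ_self _)
  have h6 : s.last = s ⟨s.length, Nat.lt_succ_self _⟩ := rfl
  have h7 : s.head = s 0 := rfl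
  rw [h6, h7, h5]
  ring

/-- a chain has length at most the growth of a strictly monotone function. -/
lemma length_le_of_strictMono (n : α → ℤ) (hn : StrictMono n) (s : LTSeries α) :
    (s.length : ℤ) ≤ n s.last - n s.head := by
  have key : ∀ (k : ℕ) (hk : k < s.length + 1), n (s 0) + k ≤ n (s ⟨k, hk⟩) := by
    intro k
    induction k with
    | zero =>
      intro hk
      simp
    | succ k ih =>
      intro hk
      have h1 := ih (by omega)
      have h2 : s ⟨k, by omega⟩ < s ⟨k + 1, hk⟩ :=
        s.strictMono (Fin.mk_lt_mk.2 (Nat.lt_succ_self k))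
      have h3 := hn h2
      push_cast
      omega
  have h5 := key s.length (Nat.lt_succ_self _)
  have h6 : s.last = s ⟨s.length, Nat.lt_succ_self _⟩ := rfl
  have h7 : s.head = s 0 := rfl
  rw [h6, h7]
  omega

end Order

/-- a ring whose spectrum has a dimension function is catenary. -/
theorem isCatenary_of_dimFn (S : Type u) [CommRing S] (n : PrimeSpectrum S → ℤ)
    (hn : StrictMono n) (hcov : ∀ p q : PrimeSpectrum S, p ⋖ q → n p = n q - 1) :
    CAlg.IsCatenary S := by
  refine ⟨fun p q _ => ⟨(n q - n p).toNat, fun s hs1 hs2 => ?_⟩, fun s t h1 h2 hs ht => ?_⟩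
  · have h := length_le_of_strictMono n hn s
    rw [hs1, hs2] at h
    omega
  · have h3 := length_eq_of_saturated n hcov s hs
    have h4 := length_eq_of_saturated n hcov t ht
    rw [h1, h2] at h3
    omega

/-- dimension functions pass to quotients. -/
theorem exists_dimFn_of_surjective {P S : Type u} [CommRing P] [CommRing S] (f : P →+* S)
    (hf : Function.Surjective f) (n : PrimeSpectrum P → ℤ) (hn : StrictMono n)
    (hcov : ∀ p q : PrimeSpectrum P, p ⋖ q → n p = n q - 1) :
    ∃ n' : PrimeSpectrum S → ℤ, StrictMono n' ∧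
      ∀ p q : PrimeSpectrum S, p ⋖ q → n' p = n' q - 1 := by
  have hinj : ∀ I J : Ideal S, I.comap f ≤ J.comap f → I ≤ J := by
    intro I J h
    rw [← Ideal.map_comap_of_surjective f hf I, ← Ideal.map_comap_of_surjective f hf J]
    exact Ideal.map_mono h
  have hsm : StrictMono (PrimeSpectrum.comap f) := by
    intro p q hpq
    rw [← PrimeSpectrum.asIdeal_lt_asIdeal] at hpq ⊢
    refine lt_of_le_of_ne (Ideal.comap_mono hpq.le) (fun h => hpq.ne ?_)
    exact le_antisymm hpq.le (hinj _ _ (le_of_eq h.symm))
  refine ⟨fun q => n (PrimeSpectrum.comap f q), hn.comp hsm, fun p q hpq => ?_⟩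
  refine hcov _ _ ⟨hsm hpq.lt, fun d hd1 hd2 => ?_⟩
  have hker : RingHom.ker f ≤ d.asIdeal := by
    refine le_trans ?_ ((PrimeSpectrum.asIdeal_lt_asIdeal _ _).2 hd1).le
    intro x hx
    show f x ∈ p.asIdeal
    rw [(RingHom.mem_ker).1 hx]
    exact Ideal.zero_mem _
  haveI := d.2
  have hprime : (d.asIdeal.map f).IsPrime := Ideal.map_isPrime_of_surjective hf hker
  have hcm : (d.asIdeal.map f).comap f = d.asIdeal := by
    rw [Ideal.comap_map_of_surjective f hf]
    exact sup_eq_left.2 hker
  let d' : PrimeSpectrum S := ⟨d.asIdeal.map f, hprime⟩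
  have hd' : PrimeSpectrum.comap f d' = d := PrimeSpectrum.ext hcm
  have h1 : p < d' := by
    rw [← PrimeSpectrum.asIdeal_lt_asIdeal]
    refine lt_of_le_of_ne (hinj _ _ ?_) (fun h => ?_)
    · rw [hcm]
      exact ((PrimeSpectrum.asIdeal_lt_asIdeal _ _).2 hd1).le
    · have : p = d' := PrimeSpectrum.ext h
      rw [this, hd'] at hd1
      exact lt_irrefl _ hd1
  have h2 : d' < q := by
    rw [← PrimeSpectrum.asIdeal_lt_asIdeal]
    refine lt_of_le_of_ne (hinj _ _ ?_) (fun h => ?_)
    · rw [hcm]
      exact ((PrimeSpectrum.asIdeal_lt_asIdeal _ _).2 hd2).le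
    · have : d' = q := PrimeSpectrum.ext h
      rw [← this, hd'] at hd2
      exact lt_irrefl _ hd2
  exact hpq.2 h1 h2

/-- S1721. -/
theorem isUniversallyCatenary_of_dualizing (A : Type u) [CommRing A] [IsNoetherianRing A]
    (ω : Dual.D A) (hω : Dual.IsDualizing A ω) : CAlg.IsUniversallyCatenary A := by
  refine ⟨inferInstance, fun S _ _ hS => ?_⟩
  obtain ⟨k, f, hf⟩ := Algebra.FiniteType.iff_quotient_mvPolynomial''.1 hS
  have hP := isDualizing_EE_mvPolynomial A ω hω k
  obtain ⟨a, hGE, n, hn1, hn2, hsm⟩ := exists_dimFn _ hP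
  obtain ⟨n', hn', hcov'⟩ := exists_dimFn_of_surjective f.toRingHom hf n hsm hn2
  exact isCatenary_of_dimFn S n' hn' hcov'

end Groth.Agent.Lib.helper23.DimFn
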