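import Mathlib
import Groth.Prelude.Def_Wider
import Groth.Prelude.Def_DDual2
import Groth.Agent.Lib.Helper23.DimFn11
import Groth.Agent.Lib.Helper23.DimFn8

/-!
# Non-vanishing of `Ext^{-dim M}(M, ω)` (helper23)
-/

set_option autoImplicit false
universe u
open CategoryTheory CategoryTheory.Limits DerivedCategory Pretriangulated TensorProduct

attribute [local instance] HasDerivedCategory.standard

namespace Groth.Agent.Lib.helper23.DimFn

open Groth.Agent.Lib.helper23.FBC Groth.Agent.Lib.helper23.BassD

attribute [local instance 50] homModuleA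
attribute [local instance] FlatBC.preservesFiniteLimits_extendScalars_algebraMap
attribute [local instance] flat_atPrime

section Local

variable {B : Type u} [CommRing B] [IsNoetherianRing B] [IsLocalRing B] {K : Dual.D B}

/-- non-vanishing in the top degree for nonzero modules supported at the closed point. -/
theorem not_VZ_of_support_closedPoint (n : ℤ)
    (hκ : ¬ VZ K n (ModuleCat.of B (B ⧸ IsLocalRing.maximalIdeal B)))
    (hup : ∀ (N : ModuleCat.{u} B) [Module.Finite B N], VZ K (n + 1) N)
    (J : Ideal B)
    (hJ : ∀ p' : Ideal B, p'.IsPrime → J ≤ p' → p' = IsLocalRing.maximalIdeal B)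
    (N : Type u) [AddCommGroup N] [Module B N] [hNfin : Module.Finite B N] [hNnt : Nontrivial N]
    (hN : ∀ y ∈ J, ∀ m : N, y • m = 0) : ¬ VZ K n (ModuleCat.of B N) := by
  refine IsNoetherianRing.induction_on_isQuotientEquivQuotientPrime B hNfin
    (motive := fun N _ _ _ => (∀ y ∈ J, ∀ m : N, y • m = 0) → Nontrivial N →
      ¬ VZ K n (ModuleCat.of B N)) ?_ ?_ ?_ hN hNnt
  · intro N _ _ _ hsub _ hnt
    exact absurd hsub (not_subsingleton_iff_nontrivial.2 hnt)
  · intro N _ _ _ p e hN _ hVZ
    have hJp : J ≤ p.asIdeal := by
      intro y hy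
      have h1 := hN y hy (e.symm 1)
      have h2 : y • (1 : B ⧸ p.asIdeal) = 0 := by
        have := congrArg e h1
        rwa [map_smul, LinearEquiv.apply_symm_apply, map_zero] at this
      have h3 : Ideal.Quotient.mk p.asIdeal y = 0 := by
        rw [← h2]
        show Ideal.Quotient.mk p.asIdeal y = Ideal.Quotient.mk p.asIdeal (y * 1)
        rw [mul_one]
      exact Ideal.Quotient.eq_zero_iff_mem.1 h3
    have hp := hJ p.asIdeal p.2 hJp
    apply hκ
    rw [← hp]
    exact VZ.of_iso e.toModuleIso hVZ
  · intro N₁ _ _ _ N₂ _ _ _ N₃ _ _ _ f g hf hg hfg h1 h3 hN2 hnt2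
    have hN1 : ∀ y ∈ J, ∀ m : N₁, y • m = 0 := fun y hy m => hf (by
      rw [map_smul, hN2 y hy, map_zero])
    have hN3 : ∀ y ∈ J, ∀ m : N₃, y • m = 0 := fun y hy m => by
      obtain ⟨m', rfl⟩ := hg m
      rw [← map_smul, hN2 y hy, map_zero]
    let S : ShortComplex (ModuleCat.{u} B) :=
      ShortComplex.mk (ModuleCat.ofHom f) (ModuleCat.ofHom g) (by
        ext x
        exact hfg.apply_apply_eq_zero x)
    have hS : S.ShortExact :=
      { exact := (ShortComplex.ShortExact.moduleCat_exact_iff_function_exact S).2 hfg
        mono_f := (ModuleCat.mono_iff_injective _).2 hf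
        epi_g := (ModuleCat.epi_iff_surjective _).2 hg }
    by_cases hnt1 : Nontrivial N₁
    · exact not_VZ_X₂ (K := K) (i := n) S hS (hup S.X₃) (h1 hN1 hnt1)
    · rw [not_nontrivial_iff_subsingleton] at hnt1
      -- then `g` is injective, so `N₃` is nontrivial
      have hginj : Function.Injective g := by
        refine (injective_iff_map_eq_zero g).2 (fun z hz => ?_)
        obtain ⟨w, rfl⟩ := (hfg z).1 hz
        rw [Subsingleton.elim w 0, map_zero]
      have hnt3 : Nontrivial N₃ := by
        obtain ⟨x, y, hxy⟩ := hnt2
        exact ⟨g x, g y, fun h => hxy (hginj h)⟩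
      intro hVZ2
      refine h3 hN3 hnt3 ?_
      exact VZ_X₃ (K := K) (i := n) S hS (n - 1) (by ring)
        (VZ.of_isZero (ModuleCat.isZero_of_subsingleton _)) hVZ2

end Local

section Main

variable {A : Type u} [CommRing A] [IsNoetherianRing A]

/-- **non-vanishing, localized**: if `q` is minimal in the support of the finite module `M`, then
`Ext^{n_q}(M, ω)_q ≠ 0`. -/
theorem not_Zloc_of_minimal_support (ω : Dual.D A) (a : ℤ) [ω.IsGE a]
    (hfin : ∀ j : ℤ, Module.Finite A ((homologyFunctor (ModuleCat.{u} A) j).obj ω))
    (q : Ideal A) [hqp : q.IsPrime] (nq : ℤ)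
    (hnq : ∀ j : ℤ, Zloc ω q (ModuleCat.of A (A ⧸ q)) j ↔ j ≠ nq)
    (M : Type u) [AddCommGroup M] [Module A M] [Module.Finite A M]
    (hq : (⟨q, hqp⟩ : PrimeSpectrum A) ∈ Module.support A M)
    (hmin : ∀ q' : PrimeSpectrum A, q' ∈ Module.support A M → q'.asIdeal ≤ q → q'.asIdeal = q) :
    ¬ Zloc ω q (ModuleCat.of A M) nq := by
  haveI : IsNoetherianRing (Localization.AtPrime q) :=
    IsLocalization.isNoetherianRing q.primeCompl (Localization.AtPrime q) inferInstance
  have hmap : q.map (algebraMap A (Localization.AtPrime q)) =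
      IsLocalRing.maximalIdeal (Localization.AtPrime q) :=
    Localization.AtPrime.map_eq_maximalIdeal
  haveI : Module.Finite A (ModuleCat.of A M) := inferInstanceAs (Module.Finite A M)
  rw [Zloc_iff_subsingleton ω a q (ModuleCat.of A M) nq]
  intro hsub
  haveI := isGE_EE (Localization.AtPrime q) ω a
  let N : ModuleCat.{u} (Localization.AtPrime q) :=
    (ModuleCat.extendScalars.{u, u, u} (algebraMap A (Localization.AtPrime q))).obj
      (ModuleCat.of A M)
  haveI hNfin : Module.Finite (Localization.AtPrime q) N :=
    FlatBC.finite_extendScalars (algebraMap A (Localization.AtPrime q)) (ModuleCat.of A M)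
  -- `N` is nontrivial
  haveI hNnt : Nontrivial N := by
    rw [← not_subsingleton_iff_nontrivial]
    intro hs
    have hs' : Subsingleton (Localization.AtPrime q ⊗[A] M) :=
      (ExtSc.extendObjEquiv (B := Localization.AtPrime q)
        (ModuleCat.of A M)).toEquiv.subsingleton_congr.1 hs
    have h1 := (subsingleton_tensor_atPrime_iff q M).1 hs'
    exact (Module.notMem_support_iff'.2 h1) hq
  -- the vanishing to be contradicted
  have hVZN : VZ ((EE A (Localization.AtPrime q)).obj ω) nq (ModuleCat.of _ N) := by
    intro φ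
    haveI := subsingleton_hom_of_iso (EEsingleIso (Localization.AtPrime q) (ModuleCat.of A M))
      (EEshiftIso (Localization.AtPrime q) ω nq)
    exact Subsingleton.elim _ _
  refine not_VZ_of_support_closedPoint (B := Localization.AtPrime q)
    (K := (EE A (Localization.AtPrime q)).obj ω) nq ?_ ?_
    (Module.annihilator (Localization.AtPrime q) N) ?_ N
    (fun y hy m => Module.mem_annihilator.1 hy m) hVZN
  · intro h
    have h1 := (Zloc_iff_VZ ω a q q nq).2 (by rw [hmap]; exact h)
    exact (hnq nq).1 h1 rfl
  · intro N' _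
    have hPB := PB_of_maximal' (A := Localization.AtPrime q)
      (K := (EE A (Localization.AtPrime q)).obj ω) (n := nq) a
      ((DerivedCategory.isGE_iff _ a).1 inferInstance)
      (fun j => FlatBC.finite_homology_extD (algebraMap A (Localization.AtPrime q)) ω j (hfin j))
      (fun m' hm' => by
        rw [IsLocalRing.eq_maximalIdeal hm']
        intro j hj φ
        have h1 := (Zloc_iff_VZ ω a q q j).1 ((hnq j).2 (by omega))
        rw [hmap] at h1
        exact h1 φ) N'
    exact hPB (nq + 1) (by omega)
  · intro p' hp' hle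
    have hmc : (p'.comap (algebraMap A (Localization.AtPrime q))).map
        (algebraMap A (Localization.AtPrime q)) = p' :=
      IsLocalization.map_under q.primeCompl (Localization.AtPrime q) p'
    have h3 : p'.comap (algebraMap A (Localization.AtPrime q)) ≤ q :=
      le_of_le_of_eq
        (Ideal.comap_mono (IsLocalRing.le_maximalIdeal (Ideal.IsPrime.ne_top hp')))
        (IsLocalization.AtPrime.under_maximalIdeal (Localization.AtPrime q) q)
    have h4 : Module.annihilator A M ≤ p'.comap (algebraMap A (Localization.AtPrime q)) := by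
      intro r hr
      apply hle
      rw [Module.mem_annihilator]
      intro z
      have h5 : r • 𝟙 (ModuleCat.of A M) = 0 := by
        apply ModuleCat.hom_ext
        apply LinearMap.ext
        intro m
        exact Module.mem_annihilator.1 hr m
      have h6 := extendScalars_map_smul_id (B := Localization.AtPrime q) (ModuleCat.of A M) r
      rw [h5, Functor.map_zero] at h6
      have h7 : (algebraMap A (Localization.AtPrime q) r • 𝟙 N).hom z = 0 := by
        rw [← h6]
        rfl
      rw [ModuleCat.hom_smul, LinearMap.smul_apply, ModuleCat.hom_id, LinearMap.id_apply] at h7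
      exact h7
    have h5 := hmin ⟨p'.comap (algebraMap A (Localization.AtPrime q)), Ideal.comap_isPrime _ p'⟩
      (Module.mem_support_iff_of_finite.2 h4) h3
    have h5' : p'.comap (algebraMap A (Localization.AtPrime q)) = q := h5
    rw [← hmc, h5', hmap]

end Main

end Groth.Agent.Lib.helper23.DimFn
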