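import Mathlib
import Groth.Prelude.Def_Wider
import Groth.Prelude.Def_DDual2
import Groth.Agent.Lib.Helper23.DimFn14
import Groth.Agent.Lib.Helper23.DimFn10

/-!
# Non-vanishing of `Ext^{-dim M}(M, ω)` over a local ring (helper23)
-/

set_option autoImplicit false
universe u
open CategoryTheory CategoryTheory.Limits DerivedCategory Pretriangulated TensorProduct

attribute [local instance] HasDerivedCategory.standard

namespace Groth.Agent.Lib.helper23.DimFn

open Groth.Agent.Lib.helper23.FBC Groth.Agent.Lib.helper23.BassD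

variable {A : Type u} [CommRing A] [IsNoetherianRing A] [IsLocalRing A]

/-- for a module of dimension `d` over a local ring with normalized dualizing complex: there is a
prime `q`, minimal in the support, with `n q = -d`; all primes of the support have `n ≥ -d`. -/
theorem exists_minimal_support_dim (n : PrimeSpectrum A → ℤ) (hsm : StrictMono n)
    (hcov : ∀ p q : PrimeSpectrum A, p ⋖ q → n p = n q - 1)
    (hn0 : n (IsLocalRing.closedPoint A) = 0)
    (M : Type u) [AddCommGroup M] [Module A M] (d : ℕ) (hd : Module.supportDim A M = d) :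
    (∀ q ∈ Module.support A M, -(d : ℤ) ≤ n q) ∧
      ∃ q ∈ Module.support A M, n q = -(d : ℤ) ∧
        ∀ q' ∈ Module.support A M, q' ≤ q → q' = q := by
  have htop : ∀ x : PrimeSpectrum A, x ≤ IsLocalRing.closedPoint A := fun x =>
    (PrimeSpectrum.asIdeal_le_asIdeal x _).1 (IsLocalRing.le_maximalIdeal x.2.ne_top)
  have hle0 : ∀ x : PrimeSpectrum A, n x ≤ 0 := fun x => by
    rw [← hn0]
    exact hsm.monotone (htop x)
  have hkd : Order.krullDim ↥(Module.support A M) = ((d : ℕ∞) : WithBot ℕ∞) := by
    rw [← Module.supportDim, hd]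
    rfl
  have hlow : ∀ q ∈ Module.support A M, -(d : ℤ) ≤ n q := by
    intro q hq
    have h1 := sub_le_krullDim_of_isUpperSet wellFounded_gt_primeSpectrum n hsm hcov
      (Module.support A M) (fun x y hxy hx => Module.mem_support_mono hxy hx) q
      (IsLocalRing.closedPoint A) hq (htop q)
    rw [hn0, hkd] at h1
    have h4 : (0 - n q).toNat ≤ d := by exact_mod_cast h1
    omega
  refine ⟨hlow, ?_⟩
  obtain ⟨l, hl⟩ := (Order.le_krullDim_iff (α := ↥(Module.support A M)) (n := d)).1
    (by rw [hkd]; rfl)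
  have h2 := length_le_of_strictMono (fun x : ↥(Module.support A M) => n x.1)
    (fun x y hxy => hsm hxy) l
  have h3 := hle0 l.last.1
  have h4 := hlow l.head.1 l.head.2
  have h5 : n l.head.1 = -(d : ℤ) := by
    rw [hl] at h2
    have : n l.head.1 ≤ -(d : ℤ) := by
      have h2' : (d : ℤ) ≤ n l.last.1 - n l.head.1 := h2
      omega
    omega
  refine ⟨l.head.1, l.head.2, h5, fun q' hq' hle => ?_⟩
  by_contra hne
  have hlt : q' < l.head.1 := lt_of_le_of_ne hle hne
  have h6 := hsm hlt
  have h7 := hlow q' hq'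
  omega

/-- S19859. -/
theorem nontrivial_ext_neg_supportDim (ω : Dual.D A) (hω : Dual.IsDualizing A ω)
    (hnorm : Dual.IsNormalized A ω) (M : Type u) [AddCommGroup M] [Module A M]
    [Module.Finite A M] [Nontrivial M] (d : ℕ) (hd : Module.supportDim A M = d) :
    Nontrivial (Dual.inD A M ⟶ ω⟦(-(d : ℤ))⟧) := by
  obtain ⟨a, hGE, n, hn1, hn2, hsm, hn0, hVZ⟩ := exists_dimFn_normalized ω hω hnorm
  haveI := hGE
  obtain ⟨-, q, hq, hnq, hmin⟩ := exists_minimal_support_dim n hsm hn2 hn0 M d hd
  haveI := q.2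
  have h1 := not_Zloc_of_minimal_support ω a hω.finite_cohomology q.asIdeal (n q) (hn1 q) M hq
    (fun q' hq' hle => congrArg PrimeSpectrum.asIdeal
      (hmin q' hq' ((PrimeSpectrum.asIdeal_le_asIdeal q' q).1 hle)))
  rw [hnq] at h1
  rw [← not_subsingleton_iff_nontrivial]
  intro hs
  apply h1
  intro t
  refine ⟨1, fun h => (Ideal.IsPrime.ne_top q.2) ((Ideal.eq_top_iff_one _).2 h), ?_⟩
  rw [one_smul]
  exact Subsingleton.elim _ _

end Groth.Agent.Lib.helper23.DimFn
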