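import Mathlib
import Groth.Prelude.Def_Wider
import Groth.Prelude.Def_DDual2
import Groth.Prelude.Def_CAlg
import Groth.Agent.Lib.Helper23.DimFn13
import Groth.Agent.Lib.Helper23.DimFn15
import Groth.Agent.Lib.Helper23.DShift

/-!
# Cohen–Macaulay local rings via the dualizing complex (helper23)
-/

set_option autoImplicit false
universe u
open CategoryTheory CategoryTheory.Limits DerivedCategory Pretriangulated TensorProduct

attribute [local instance] HasDerivedCategory.standard

namespace Groth.Agent.Lib.helper23.DimFn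

open Groth.Agent.Lib.helper23.FBC Groth.Agent.Lib.helper23.BassD
open Groth.Agent.Lib.helper26.Depth

variable {B : Type u} [CommRing B] [IsNoetherianRing B] [IsLocalRing B]

/-- a dualizing complex over a local ring has a normalized shift. -/
theorem exists_normalized_shift (K : Dual.D B) (hK : Dual.IsDualizing B K) :
    ∃ n : ℤ, Dual.IsDualizing B (K⟦n⟧) ∧ Dual.IsNormalized B (K⟦n⟧) := by
  obtain ⟨n, h1, -⟩ := DualD.ext_residue_single_degree K hK (IsLocalRing.maximalIdeal B)
  refine ⟨n, isDualizing_shift K n hK, fun i hi => ?_⟩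
  haveI := h1 (n + i) (by omega)
  exact subsingleton_hom_of_iso
    ((singleFunctor (ModuleCat.{u} B) 0).mapIso (residueFieldIso B).symm)
    ((shiftFunctorAdd' (Dual.D B) n i (n + i) rfl).app K)

lemma nontrivial_HD_shift_iff (K : Dual.D B) (n j : ℤ) :
    Nontrivial (Dual.HD B (K⟦n⟧) j) ↔ Nontrivial (Dual.HD B K (n + j)) :=
  (FlatBC.homologyShiftIso K n j (n + j) rfl).toLinearEquiv.toEquiv.nontrivial_congr

/-- the depth and the dimension of a local ring with a dualizing complex are natural numbers. -/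
lemma exists_depth_dim (K : Dual.D B) (hK : Dual.IsDualizing B K) :
    ∃ δ d : ℕ, LocCoh.depth B B = δ ∧ Module.supportDim B B = d := by
  have hne : LocCoh.depth B B ≠ ⊤ := idealDepth_ne_top _ _ (smul_top_ne_top (A := B) B)
  obtain ⟨δ, hδ⟩ := ENat.ne_top_iff_exists.1 hne
  have h1 : ringKrullDim B < ⊤ := ringKrullDim_lt_top_of_dualizing K hK
  have h2 : ringKrullDim B ≠ ⊥ := ringKrullDim_ne_bot
  obtain ⟨x, hx⟩ := WithBot.ne_bot_iff_exists.1 h2
  have h3 : x ≠ ⊤ := by
    intro h
    rw [← hx, h] at h1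
    exact lt_irrefl _ h1
  obtain ⟨d, hd⟩ := ENat.ne_top_iff_exists.1 h3
  refine ⟨δ, d, hδ.symm, ?_⟩
  rw [Module.supportDim_self_eq_ringKrullDim, ← hx, ← hd]
  rfl

/-- **Cohen–Macaulay iff the dualizing complex has only one cohomology module**. -/
theorem isCM_iff_unique_HD (K : Dual.D B) (hK : Dual.IsDualizing B K) :
    LocCoh.IsCohenMacaulayLocalRing B ↔
      ∀ i j : ℤ, Nontrivial (Dual.HD B K i) → Nontrivial (Dual.HD B K j) → i = j := by
  obtain ⟨n, hω, hnorm⟩ := exists_normalized_shift K hK
  obtain ⟨δ, d, hδ, hd⟩ := exists_depth_dim K hK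
  -- the two extreme non-vanishing degrees
  have h1 : Nontrivial (Dual.HD B K (n + -(δ : ℤ))) :=
    (nontrivial_HD_shift_iff K n _).1 ((depth_eq_iff_HD_dualizing _ hω hnorm δ).1 hδ).2
  have h2 : Nontrivial (Dual.HD B K (n + -(d : ℤ))) := by
    refine (nontrivial_HD_shift_iff K n _).1 ?_
    have h3 := nontrivial_ext_neg_supportDim _ hω hnorm B d hd
    rw [← not_subsingleton_iff_nontrivial] at h3 ⊢
    exact fun hs => h3 ((VZ_iff_subsingleton _ _ (ModuleCat.of B B)).1
      ((subsingleton_HD_iff _ _).1 hs))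
  constructor
  · intro hCM i j hi hj
    have hdδ : d = δ := by
      have h3 := hCM.supportDim_eq_depth
      rw [hd, hδ] at h3
      have h4 : (d : ℕ∞) = (δ : ℕ∞) := by exact_mod_cast h3
      exact_mod_cast h4
    subst hdδ
    have key : ∀ i : ℤ, Nontrivial (Dual.HD B K i) → i = n + -(d : ℤ) := by
      intro i hi
      have hi' : Nontrivial (Dual.HD B (K⟦n⟧) (i - n)) :=
        (nontrivial_HD_shift_iff K n _).2 (by rwa [add_sub_cancel])
      have h5 : ¬ VZ (K⟦n⟧) (i - n) (ModuleCat.of B B) := by
        intro h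
        rw [← not_subsingleton_iff_nontrivial] at hi'
        exact hi' ((subsingleton_HD_iff _ _).2 h)
      have h6 := (ext_dualizing_vanishing_and_support _ hω hnorm B d hd (i - n)).1
        (by
          rw [← not_subsingleton_iff_nontrivial]
          exact fun hs => h5 ((VZ_iff_subsingleton _ _ (ModuleCat.of B B)).2 hs))
      obtain ⟨h7, -⟩ := depth_char _ hω hnorm d B hδ
      by_contra hne
      obtain ⟨δ', hδ'⟩ := Int.eq_ofNat_of_zero_le (show 0 ≤ -(i - n) by omega)
      have hlt : δ' < d := by omega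
      have h8 := h7 δ' hlt
      rw [← hδ', neg_neg] at h8
      exact h5 h8
    rw [key i hi, key j hj]
  · intro h
    have h3 := h _ _ h1 h2
    have hdδ : δ = d := by omega
    haveI : IsNoetherianRing B := inferInstance
    exact { supportDim_eq_depth := by rw [hd, hδ, hdδ]; rfl }

end Groth.Agent.Lib.helper23.DimFn
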