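import Mathlib
import Groth.Prelude.Def_Wider
import Groth.Prelude.Def_DDual2
import Groth.Prelude.Def_CAlg
import Groth.Agent.Lib.Helper23.DimFn16

/-!
# The Cohen–Macaulay locus of a ring with a dualizing complex (helper23)
-/

set_option autoImplicit false
universe u
open CategoryTheory CategoryTheory.Limits DerivedCategory Pretriangulated TensorProduct

attribute [local instance] HasDerivedCategory.standard

namespace Groth.Agent.Lib.helper23.DimFn

open Groth.Agent.Lib.helper23.FBC Groth.Agent.Lib.helper23.BassD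

attribute [local instance 50] homModuleA
attribute [local instance] FlatBC.preservesFiniteLimits_extendScalars_algebraMap
attribute [local instance] flat_atPrime

variable {A : Type u} [CommRing A] [IsNoetherianRing A]

lemma mem_support_HD_iff (K : Dual.D A) (p : PrimeSpectrum A) (i : ℤ) :
    p ∈ Module.support A (Dual.HD A K i) ↔
      Nontrivial (Dual.HD (Localization.AtPrime p.asIdeal)
        ((EE A (Localization.AtPrime p.asIdeal)).obj K) i) := by
  rw [Module.mem_support_iff, ← not_subsingleton_iff_nontrivial,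
    subsingleton_localizedModule_HD_iff K p.asIdeal i, ModuleCat.isZero_iff_subsingleton,
    not_subsingleton_iff_nontrivial]

/-- `A_p` is Cohen–Macaulay iff at most one cohomology module of `ω` is supported at `p`. -/
theorem isCM_atPrime_iff (ω : Dual.D A) (hω : Dual.IsDualizing A ω) (p : PrimeSpectrum A) :
    LocCoh.IsCohenMacaulayLocalRing (Localization.AtPrime p.asIdeal) ↔
      ∀ i j : ℤ, p ∈ Module.support A (Dual.HD A ω i) →
        p ∈ Module.support A (Dual.HD A ω j) → i = j := by
  have hK := isDualizing_EE_atPrime ω hω p.asIdeal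
  haveI : IsNoetherianRing (Localization.AtPrime p.asIdeal) := hK.isNoetherianRing
  rw [isCM_iff_unique_HD _ hK]
  constructor
  · intro h i j hi hj
    exact h i j ((mem_support_HD_iff ω p i).1 hi) ((mem_support_HD_iff ω p j).1 hj)
  · intro h i j hi hj
    exact h i j ((mem_support_HD_iff ω p i).2 hi) ((mem_support_HD_iff ω p j).2 hj)

/-- S0372. -/
theorem cohenMacaulay_locus_open_dense (ω : Dual.D A) (hω : Dual.IsDualizing A ω) :
    IsOpen {p : PrimeSpectrum A |
        LocCoh.IsCohenMacaulayLocalRing (Localization.AtPrime p.asIdeal)} ∧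
      Dense {p : PrimeSpectrum A |
        LocCoh.IsCohenMacaulayLocalRing (Localization.AtPrime p.asIdeal)} := by
  obtain ⟨a, b, hab, hGE, hLE, hv⟩ := exists_bounds ω hω
  haveI := hGE
  haveI := hLE
  have hfin := hω.finite_cohomology
  have hsupp : ∀ (i : ℤ) (p : PrimeSpectrum A), p ∈ Module.support A (Dual.HD A ω i) →
      i ∈ Set.Icc a b := by
    intro i p hp
    by_contra hi
    have hz : IsZero ((homologyFunctor (ModuleCat.{u} A) i).obj ω) := by
      rw [Set.mem_Icc, not_and_or, not_le, not_le] at hi
      rcases hi with hi | hi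
      · exact DerivedCategory.isZero_of_isGE ω a i hi
      · exact DerivedCategory.isZero_of_isLE ω b i hi
    haveI : Subsingleton (Dual.HD A ω i) := (ModuleCat.isZero_iff_subsingleton).1 hz
    have : Module.support A (Dual.HD A ω i) = ∅ := Module.support_eq_empty
    rw [this] at hp
    exact hp
  constructor
  · rw [← isClosed_compl_iff]
    let S : Set (ℤ × ℤ) := {x | x.1 ∈ Set.Icc a b ∧ x.2 ∈ Set.Icc a b ∧ x.1 ≠ x.2}
    have hS : S.Finite :=
      ((Set.finite_Icc a b).prod (Set.finite_Icc a b)).subset (fun x hx => ⟨hx.1, hx.2.1⟩)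
    have heq : {p : PrimeSpectrum A |
        LocCoh.IsCohenMacaulayLocalRing (Localization.AtPrime p.asIdeal)}ᶜ =
        ⋃ x ∈ S, (Module.support A (Dual.HD A ω x.1) ∩ Module.support A (Dual.HD A ω x.2)) := by
      ext p
      simp only [Set.mem_compl_iff, Set.mem_iUnion, Set.mem_inter_iff, exists_prop]
      rw [show (p ∈ {p : PrimeSpectrum A |
        LocCoh.IsCohenMacaulayLocalRing (Localization.AtPrime p.asIdeal)}) ↔ _ from
          isCM_atPrime_iff ω hω p]
      constructor
      · intro h
        push Not at h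
        obtain ⟨i, j, hi, hj, hij⟩ := h
        exact ⟨(i, j), ⟨hsupp i p hi, hsupp j p hj, hij⟩, hi, hj⟩
      · rintro ⟨x, ⟨-, -, hne⟩, hi, hj⟩ h
        exact hne (h _ _ hi hj)
    rw [heq]
    exact hS.isClosed_biUnion (fun x _ =>
      (Module.isClosed_support (R := A) (M := Dual.HD A ω x.1)).inter
        (Module.isClosed_support (R := A) (M := Dual.HD A ω x.2)))
  · intro p
    obtain ⟨p₀, hp₀, hp₀p⟩ := Ideal.exists_minimalPrimes_le (bot_le : (⊥ : Ideal A) ≤ p.asIdeal)
    let P₀ : PrimeSpectrum A := ⟨p₀, hp₀.1.1⟩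
    have hle : P₀ ≤ p := (PrimeSpectrum.asIdeal_le_asIdeal P₀ p).1 hp₀p
    haveI : P₀.asIdeal.IsPrime := hp₀.1.1
    have hmem : P₀ ∈ {p : PrimeSpectrum A |
        LocCoh.IsCohenMacaulayLocalRing (Localization.AtPrime p.asIdeal)} := by
      show LocCoh.IsCohenMacaulayLocalRing (Localization.AtPrime P₀.asIdeal)
      rw [isCM_atPrime_iff ω hω P₀]
      intro i j hi hj
      obtain ⟨k, -, hk⟩ := existsUnique_nontrivial_HD_minimalPrime ω hω p₀ hp₀
      rw [hk i (Module.mem_support_iff.1 hi), hk j (Module.mem_support_iff.1 hj)]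
    have hspec : P₀ ⤳ p := (PrimeSpectrum.le_iff_specializes P₀ p).1 hle
    exact closure_mono (Set.singleton_subset_iff.2 hmem) (specializes_iff_mem_closure.1 hspec)

/-- S0370. -/
theorem isCohenMacaulayRing_of_dualizing_module (W : Type u) [AddCommGroup W] [Module A W]
    [Module.Finite A W] (h : Dual.IsDualizing A (Dual.inD A W)) :
    LocCoh.IsCohenMacaulayRing A := by
  refine { isCohenMacaulayLocalRing_localization := fun p hp => ?_ }
  have h1 := (isCM_atPrime_iff (Dual.inD A W) h ⟨p, hp⟩).2
  refine h1 (fun i j hi hj => ?_)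
  have key : ∀ k : ℤ, (⟨p, hp⟩ : PrimeSpectrum A) ∈
      Module.support A (Dual.HD A (Dual.inD A W) k) → k = 0 := by
    intro k hk
    by_contra hne
    have hz : IsZero ((homologyFunctor (ModuleCat.{u} A) k).obj (Dual.inD A W)) := by
      rcases lt_or_gt_of_ne hne with hlt | hgt
      · exact DerivedCategory.isZero_of_isGE (Dual.inD A W) 0 k hlt
      · exact DerivedCategory.isZero_of_isLE (Dual.inD A W) 0 k hgt
    haveI : Subsingleton (Dual.HD A (Dual.inD A W) k) := (ModuleCat.isZero_iff_subsingleton).1 hz
    have : Module.support A (Dual.HD A (Dual.inD A W) k) = ∅ := Module.support_eq_empty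
    rw [this] at hk
    exact hk
  rw [key i hi, key j hj]

end Groth.Agent.Lib.helper23.DimFn
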