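import Mathlib
import Groth.Prelude.Def_Wider
import Groth.Prelude.Def_DDual2
import Groth.Prelude.Def_CAlg
import Groth.Agent.Lib.Helper23.DimFn17

/-!
# Supports of `Ext^{-j}(M, ω)` and `depth M_p + dim A/p` (helper23)
-/

set_option autoImplicit false
universe u
open CategoryTheory CategoryTheory.Limits DerivedCategory Pretriangulated TensorProduct

attribute [local instance] HasDerivedCategory.standard

namespace Groth.Agent.Lib.helper23.DimFn

open Groth.Agent.Lib.helper23.FBC Groth.Agent.Lib.helper23.BassD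
open Groth.Agent.Lib.helper26.Depth
open scoped Pointwise

attribute [local instance 50] homModuleA
attribute [local instance] FlatBC.preservesFiniteLimits_extendScalars_algebraMap
attribute [local instance] flat_atPrime

section NonLocal

variable {A : Type u} [CommRing A] [IsNoetherianRing A]

/-- `Hom(M[0], K[i])_q = 0` iff `Hom((M_q)[0], K_q[i]) = 0`, for a finite module `M`. -/
lemma Zloc_iff_VZ_module (K : Dual.D A) (a : ℤ) [K.IsGE a] (q : Ideal A) [q.IsPrime]
    (M : ModuleCat.{u} A) [Module.Finite A M] (i : ℤ) :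
    Zloc K q M i ↔
      VZ ((EE A (Localization.AtPrime q)).obj K) i
        ((ModuleCat.extendScalars.{u, u, u} (algebraMap A (Localization.AtPrime q))).obj M) := by
  rw [Zloc_iff_subsingleton K a q M i]
  let eX := EEsingleIso (Localization.AtPrime q) M
  let eY := EEshiftIso (Localization.AtPrime q) K i
  constructor
  · intro h φ
    haveI := subsingleton_hom_of_iso eX eY
    exact Subsingleton.elim _ _
  · intro h
    haveI : Subsingleton (BassD.sg
        ((ModuleCat.extendScalars.{u, u, u} (algebraMap A (Localization.AtPrime q))).obj M) ⟶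
        ((EE A (Localization.AtPrime q)).obj K)⟦i⟧) := ⟨fun f g => by rw [h f, h g]⟩
    exact subsingleton_hom_of_iso eX.symm eY.symm

lemma mem_support_hom_iff (K : Dual.D A) (p : PrimeSpectrum A) (M : Type u) [AddCommGroup M]
    [Module A M] (i : ℤ) :
    p ∈ Module.support A (Dual.inD A M ⟶ K⟦i⟧) ↔ ¬ Zloc K p.asIdeal (ModuleCat.of A M) i := by
  rw [Module.mem_support_iff, Zloc_iff_localizedModule, not_subsingleton_iff_nontrivial]

lemma VZ_shift_iff {B : Type u} [CommRing B] (K : Dual.D B) (s j k : ℤ) (h : s + j = k)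
    (N : ModuleCat.{u} B) : VZ (K⟦s⟧) j N ↔ VZ K k N := by
  rw [VZ_iff_subsingleton, VZ_iff_subsingleton]
  constructor
  · intro hs
    haveI : Subsingleton (BassD.sg N ⟶
        (shiftFunctor (Dual.D B) s ⋙ shiftFunctor (Dual.D B) j).obj K) := hs
    exact subsingleton_hom_of_iso (Iso.refl _) ((shiftFunctorAdd' (Dual.D B) s j k h).app K).symm
  · intro hs
    exact subsingleton_hom_of_iso (Iso.refl _) ((shiftFunctorAdd' (Dual.D B) s j k h).app K)

end NonLocal

section Local

variable {A : Type u} [CommRing A] [IsNoetherianRing A] [IsLocalRing A]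

/-- S1712. -/
theorem support_ext_dualizing_iff_depth_add_dim (ω : Dual.D A) (hω : Dual.IsDualizing A ω)
    (hnorm : Dual.IsNormalized A ω) (M : Type u) [AddCommGroup M] [Module A M]
    [Module.Finite A M] (i : ℕ) (p : PrimeSpectrum A) :
    (∃ j : ℕ, j ≤ i ∧ p ∈ Module.support A (Dual.inD A M ⟶ ω⟦(-(j : ℤ))⟧)) ↔
      ((LocCoh.depth (Localization.AtPrime p.asIdeal)
        (LocalizedModule p.asIdeal.primeCompl M) : ℕ∞) : WithBot ℕ∞) +
        ringKrullDim (A ⧸ p.asIdeal) ≤ (i : WithBot ℕ∞) := by
  obtain ⟨a, hGE, n, hn1, hn2, hsm, hn0, hVZ⟩ := exists_dimFn_normalized ω hω hnorm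
  haveI := hGE
  have hfin := hω.finite_cohomology
  haveI hpp : p.asIdeal.IsPrime := p.2
  have hK := isDualizing_EE_atPrime ω hω p.asIdeal
  haveI : IsNoetherianRing (Localization.AtPrime p.asIdeal) := hK.isNoetherianRing
  have hmap : p.asIdeal.map (algebraMap A (Localization.AtPrime p.asIdeal)) =
      IsLocalRing.maximalIdeal (Localization.AtPrime p.asIdeal) :=
    Localization.AtPrime.map_eq_maximalIdeal
  let m : PrimeSpectrum A := IsLocalRing.closedPoint A
  have hm0 : n m = 0 := hn0
  have htop : ∀ x : PrimeSpectrum A, x ≤ m := fun x =>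
    (PrimeSpectrum.asIdeal_le_asIdeal x m).1 (IsLocalRing.le_maximalIdeal x.2.ne_top)
  -- `dim A/p = - n p`
  have hset : PrimeSpectrum.zeroLocus (R := A) (p.asIdeal : Set A) =
      {x : PrimeSpectrum A | p ≤ x} := by
    ext x
    rw [PrimeSpectrum.mem_zeroLocus, Set.mem_ofPred_eq, ← PrimeSpectrum.asIdeal_le_asIdeal]
    exact SetLike.coe_subset_coe
  have hdim : ringKrullDim (A ⧸ p.asIdeal) = (((n m - n p).toNat : ℕ∞) : WithBot ℕ∞) := by
    rw [ringKrullDim_quotient, hset]
    exact krullDim_Ici_eq wellFounded_gt_primeSpectrum n hsm hn2 p m htop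
  have hle : n p ≤ n m := hsm.monotone (htop p)
  obtain ⟨d, hd⟩ : ∃ d : ℕ, (n m - n p).toNat = d := ⟨_, rfl⟩
  have hs : n p = -(d : ℤ) := by omega
  -- the localized dualizing complex, normalized
  have hK' : Dual.IsDualizing (Localization.AtPrime p.asIdeal)
      (((EE A (Localization.AtPrime p.asIdeal)).obj ω)⟦n p⟧) := isDualizing_shift _ (n p) hK
  have hnorm' : Dual.IsNormalized (Localization.AtPrime p.asIdeal)
      (((EE A (Localization.AtPrime p.asIdeal)).obj ω)⟦n p⟧) := by
    intro k hk
    have h1 : VZ ((EE A (Localization.AtPrime p.asIdeal)).obj ω) (n p + k)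
        (ModuleCat.of (Localization.AtPrime p.asIdeal) (Localization.AtPrime p.asIdeal ⧸
          IsLocalRing.maximalIdeal (Localization.AtPrime p.asIdeal))) := by
      have h2 := (Zloc_iff_VZ ω a p.asIdeal p.asIdeal (n p + k)).1
        ((hn1 p (n p + k)).2 (by omega))
      rw [hmap] at h2
      exact h2
    haveI := (VZ_iff_subsingleton _ (n p + k) _).1 h1
    exact subsingleton_hom_of_iso
      ((singleFunctor (ModuleCat.{u} (Localization.AtPrime p.asIdeal)) 0).mapIso
        (residueFieldIso (Localization.AtPrime p.asIdeal)).symm)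
      ((shiftFunctorAdd' (Dual.D (Localization.AtPrime p.asIdeal)) (n p) k (n p + k) rfl).app _)
  haveI : Module.Finite A (ModuleCat.of A M) := inferInstanceAs (Module.Finite A M)
  let N : ModuleCat.{u} (Localization.AtPrime p.asIdeal) :=
    (ModuleCat.extendScalars.{u, u, u} (algebraMap A (Localization.AtPrime p.asIdeal))).obj
      (ModuleCat.of A M)
  haveI hNfin : Module.Finite (Localization.AtPrime p.asIdeal) N :=
    FlatBC.finite_extendScalars (algebraMap A (Localization.AtPrime p.asIdeal))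
      (ModuleCat.of A M)
  have hsupp : ∀ k : ℤ, p ∈ Module.support A (Dual.inD A M ⟶ ω⟦k⟧) ↔
      ¬ VZ ((EE A (Localization.AtPrime p.asIdeal)).obj ω) k N := by
    intro k
    rw [mem_support_hom_iff, Zloc_iff_VZ_module ω a p.asIdeal (ModuleCat.of A M) k]
  let e : N ≃ₗ[Localization.AtPrime p.asIdeal] LocalizedModule p.asIdeal.primeCompl M :=
    (ExtSc.extendObjEquiv (B := Localization.AtPrime p.asIdeal) (ModuleCat.of A M)).trans
      (LocalizedModule.equivTensorProduct p.asIdeal.primeCompl M).symm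
  have hdepth : LocCoh.depth (Localization.AtPrime p.asIdeal)
      (LocalizedModule p.asIdeal.primeCompl M) =
      LocCoh.depth (Localization.AtPrime p.asIdeal) N := (idealDepth_congr e).symm
  rw [hdepth, hdim, hd]
  have hgt : ∀ k : ℤ, n p < k → VZ ((EE A (Localization.AtPrime p.asIdeal)).obj ω) k N := by
    intro k hk
    exact (Zloc_iff_VZ_module ω a p.asIdeal (ModuleCat.of A M) k).1
      (Zloc_of_gt ω a hfin p.asIdeal (n p) (fun j hj => (hn1 p j).2 (by omega))
        (ModuleCat.of A M) k hk)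
  by_cases hNt : Nontrivial N
  · have hne : LocCoh.depth (Localization.AtPrime p.asIdeal) N ≠ ⊤ :=
      idealDepth_ne_top _ _ (smul_top_ne_top (A := Localization.AtPrime p.asIdeal) N)
    obtain ⟨δ, hδ⟩ := ENat.ne_top_iff_exists.1 hne
    obtain ⟨h3, h4⟩ := depth_char _ hK' hnorm' δ N hδ.symm
    rw [← hδ]
    have hgoal : (((δ : ℕ∞) : WithBot ℕ∞) + ((d : ℕ∞) : WithBot ℕ∞) ≤ (i : WithBot ℕ∞)) ↔
        δ + d ≤ i := by
      rw [← WithBot.coe_add]
      constructor
      · intro h
        have h' : ((δ : ℕ∞) + (d : ℕ∞)) ≤ ((i : ℕ∞)) := by exact_mod_cast h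
        exact_mod_cast h'
      · intro h
        have h' : ((δ : ℕ∞) + (d : ℕ∞)) ≤ ((i : ℕ∞)) := by exact_mod_cast h
        exact_mod_cast h'
    rw [hgoal]
    constructor
    · rintro ⟨j, hji, hj⟩
      have h5 := (hsupp _).1 hj
      have h6 : ¬ (n p < -(j : ℤ)) := fun h => h5 (hgt _ h)
      have h7 : d ≤ j := by omega
      have h8 : ¬ VZ (((EE A (Localization.AtPrime p.asIdeal)).obj ω)⟦n p⟧)
          (-((j - d : ℕ) : ℤ)) N := by
        rw [VZ_shift_iff _ (n p) _ (-(j : ℤ)) (by rw [Nat.cast_sub h7]; omega)]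
        exact h5
      have h9 : ¬ ((j - d) < δ) := fun h => h8 (h3 _ h)
      omega
    · intro h
      refine ⟨δ + d, h, (hsupp _).2 ?_⟩
      intro h5
      apply h4
      rw [VZ_shift_iff _ (n p) (-(δ : ℤ)) (-((δ + d : ℕ) : ℤ)) (by push_cast; omega)]
      exact h5
  · rw [not_nontrivial_iff_subsingleton] at hNt
    have hz : IsZero (BassD.sg N) :=
      Functor.map_isZero _ (ModuleCat.isZero_of_subsingleton N)
    have htopd : LocCoh.depth (Localization.AtPrime p.asIdeal) N = ⊤ := by
      refine idealDepth_eq_top_of_smul_top_eq_top _ _ (eq_top_iff.2 (fun x _ => ?_))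
      rw [Subsingleton.elim x 0]
      exact zero_mem _
    rw [htopd]
    constructor
    · rintro ⟨j, hji, hj⟩
      exact absurd (fun φ => hz.eq_of_src _ _) ((hsupp _).1 hj)
    · intro h
      exfalso
      rw [← WithBot.coe_add, top_add] at h
      have h' : (⊤ : ℕ∞) ≤ (i : ℕ∞) := by exact_mod_cast h
      exact (ENat.natCast_ne_top i) (top_le_iff.1 h')

end Local

end Groth.Agent.Lib.helper23.DimFn
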