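import Mathlib
import Groth.Prelude.Def_Wider
import Groth.Prelude.Def_DDual2
import Groth.Prelude.Def_CAlg
import Groth.Agent.Lib.Helper23.DimFn18

/-!
# The degrees `i` with `p ∈ Supp Ext^i(M, ω)` (helper23)

For a Noetherian ring `A` with dualizing complex `ω` and dimension function `n`, a finite module `M`
and `p ∈ Supp M`: `p ∈ Supp Ext^i(M, ω)` forces `n p - dim M_p ≤ i ≤ n p - depth M_p`, and both ends
are attained.
-/

set_option autoImplicit false
universe u
open CategoryTheory CategoryTheory.Limits DerivedCategory Pretriangulated TensorProduct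

attribute [local instance] HasDerivedCategory.standard

namespace Groth.Agent.Lib.helper23.DimFn

open Groth.Agent.Lib.helper23.FBC Groth.Agent.Lib.helper23.BassD
open Groth.Agent.Lib.helper26.Depth
open scoped Pointwise

attribute [local instance 50] homModuleA
attribute [local instance] FlatBC.preservesFiniteLimits_extendScalars_algebraMap
attribute [local instance] flat_atPrime

variable {A : Type u} [CommRing A] [IsNoetherianRing A]

/-- the localization of `ω` at `p`, shifted by `n p`, is normalized. -/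
lemma isNormalized_EE_shift (ω : Dual.D A) (a : ℤ) [ω.IsGE a] (p : Ideal A) [p.IsPrime] (np : ℤ)
    (hnp : ∀ i : ℤ, Zloc ω p (ModuleCat.of A (A ⧸ p)) i ↔ i ≠ np) :
    Dual.IsNormalized (Localization.AtPrime p)
      (((EE A (Localization.AtPrime p)).obj ω)⟦np⟧) := by
  have hmap : p.map (algebraMap A (Localization.AtPrime p)) =
      IsLocalRing.maximalIdeal (Localization.AtPrime p) :=
    Localization.AtPrime.map_eq_maximalIdeal
  intro k hk
  have h1 : VZ ((EE A (Localization.AtPrime p)).obj ω) (np + k)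
      (ModuleCat.of (Localization.AtPrime p) (Localization.AtPrime p ⧸
        IsLocalRing.maximalIdeal (Localization.AtPrime p))) := by
    have h2 := (Zloc_iff_VZ ω a p p (np + k)).1 ((hnp (np + k)).2 (by omega))
    rw [hmap] at h2
    exact h2
  haveI := (VZ_iff_subsingleton _ (np + k) _).1 h1
  exact subsingleton_hom_of_iso
    ((singleFunctor (ModuleCat.{u} (Localization.AtPrime p)) 0).mapIso
      (residueFieldIso (Localization.AtPrime p)).symm)
    ((shiftFunctorAdd' (Dual.D (Localization.AtPrime p)) np k (np + k) rfl).app _)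

/-- `A_p ⊗ M ≃ M_p`. -/
noncomputable def locEquiv (p : Ideal A) [p.IsPrime] (M : Type u) [AddCommGroup M] [Module A M] :
    ((ModuleCat.extendScalars.{u, u, u} (algebraMap A (Localization.AtPrime p))).obj
      (ModuleCat.of A M)) ≃ₗ[Localization.AtPrime p] LocalizedModule p.primeCompl M :=
  (ExtSc.extendObjEquiv (B := Localization.AtPrime p) (ModuleCat.of A M)).trans
    (LocalizedModule.equivTensorProduct p.primeCompl M).symm

/-- **Key lemma**. -/
theorem support_ext_bounds (ω : Dual.D A) (hω : Dual.IsDualizing A ω) (a : ℤ) [ω.IsGE a]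
    (p : PrimeSpectrum A) (np : ℤ)
    (hnp : ∀ i : ℤ, Zloc ω p.asIdeal (ModuleCat.of A (A ⧸ p.asIdeal)) i ↔ i ≠ np)
    (M : Type u) [AddCommGroup M] [Module A M] [Module.Finite A M]
    (hp : p ∈ Module.support A M) :
    ∃ δ e : ℕ,
      LocCoh.depth (Localization.AtPrime p.asIdeal) (LocalizedModule p.asIdeal.primeCompl M) = δ ∧
      Module.supportDim (Localization.AtPrime p.asIdeal)
        (LocalizedModule p.asIdeal.primeCompl M) = e ∧ δ ≤ e ∧
      (∀ i : ℤ, p ∈ Module.support A (Dual.inD A M ⟶ ω⟦i⟧) → np - e ≤ i ∧ i ≤ np - δ) ∧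
      p ∈ Module.support A (Dual.inD A M ⟶ ω⟦np - (δ : ℤ)⟧) ∧
      p ∈ Module.support A (Dual.inD A M ⟶ ω⟦np - (e : ℤ)⟧) := by
  have hfin := hω.finite_cohomology
  haveI hpp : p.asIdeal.IsPrime := p.2
  have hK := isDualizing_EE_atPrime ω hω p.asIdeal
  haveI : IsNoetherianRing (Localization.AtPrime p.asIdeal) := hK.isNoetherianRing
  have hK' : Dual.IsDualizing (Localization.AtPrime p.asIdeal)
      (((EE A (Localization.AtPrime p.asIdeal)).obj ω)⟦np⟧) := isDualizing_shift _ np hK
  have hnorm' := isNormalized_EE_shift ω a p.asIdeal np hnp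
  haveI : Module.Finite A (ModuleCat.of A M) := inferInstanceAs (Module.Finite A M)
  let N : ModuleCat.{u} (Localization.AtPrime p.asIdeal) :=
    (ModuleCat.extendScalars.{u, u, u} (algebraMap A (Localization.AtPrime p.asIdeal))).obj
      (ModuleCat.of A M)
  haveI hNfin : Module.Finite (Localization.AtPrime p.asIdeal) N :=
    FlatBC.finite_extendScalars (algebraMap A (Localization.AtPrime p.asIdeal))
      (ModuleCat.of A M)
  have hsupp : ∀ k : ℤ, p ∈ Module.support A (Dual.inD A M ⟶ ω⟦k⟧) ↔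
      ¬ VZ ((EE A (Localization.AtPrime p.asIdeal)).obj ω) k N := by
    intro k
    rw [mem_support_hom_iff, Zloc_iff_VZ_module ω a p.asIdeal (ModuleCat.of A M) k]
  have hsupp' : ∀ k j : ℤ, np + j = k → (p ∈ Module.support A (Dual.inD A M ⟶ ω⟦k⟧) ↔
      ¬ VZ (((EE A (Localization.AtPrime p.asIdeal)).obj ω)⟦np⟧) j N) := by
    intro k j hkj
    rw [hsupp, VZ_shift_iff _ np j k hkj]
  have hdepth : LocCoh.depth (Localization.AtPrime p.asIdeal)
      (LocalizedModule p.asIdeal.primeCompl M) =
      LocCoh.depth (Localization.AtPrime p.asIdeal) N :=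
    (idealDepth_congr (locEquiv p.asIdeal M)).symm
  have hsd : Module.supportDim (Localization.AtPrime p.asIdeal)
      (LocalizedModule p.asIdeal.primeCompl M) =
      Module.supportDim (Localization.AtPrime p.asIdeal) N :=
    (Module.supportDim_eq_of_equiv (locEquiv p.asIdeal M)).symm
  haveI hNt : Nontrivial N := by
    rw [(locEquiv p.asIdeal M).toEquiv.nontrivial_congr]
    exact Module.mem_support_iff.1 hp
  have hne : LocCoh.depth (Localization.AtPrime p.asIdeal) N ≠ ⊤ :=
    idealDepth_ne_top _ _ (smul_top_ne_top (A := Localization.AtPrime p.asIdeal) N)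
  obtain ⟨δ, hδ⟩ := ENat.ne_top_iff_exists.1 hne
  obtain ⟨e, he⟩ : ∃ e : ℕ, Module.supportDim (Localization.AtPrime p.asIdeal) N = e := by
    have h1 : Module.supportDim (Localization.AtPrime p.asIdeal) N < ⊤ :=
      lt_of_le_of_lt (Module.supportDim_le_ringKrullDim _ _)
        (ringKrullDim_lt_top_of_dualizing _ hK)
    have h2 : Module.supportDim (Localization.AtPrime p.asIdeal) N ≠ ⊥ :=
      Module.supportDim_ne_bot_of_nontrivial _ _
    obtain ⟨x, hx⟩ := WithBot.ne_bot_iff_exists.1 h2
    have h3 : x ≠ ⊤ := by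
      intro h
      rw [← hx, h] at h1
      exact lt_irrefl _ h1
    obtain ⟨e, he⟩ := ENat.ne_top_iff_exists.1 h3
    exact ⟨e, by rw [← hx, ← he]; rfl⟩
  obtain ⟨h3, h4⟩ := depth_char _ hK' hnorm' δ N hδ.symm
  have h5 := nontrivial_ext_neg_supportDim _ hK' hnorm' N e he
  have h6 : ∀ j : ℤ, ¬ VZ (((EE A (Localization.AtPrime p.asIdeal)).obj ω)⟦np⟧) j N →
      -(e : ℤ) ≤ j ∧ j ≤ 0 := by
    intro j hj
    refine (ext_dualizing_vanishing_and_support _ hK' hnorm' N e he j).1 ?_
    rw [← not_subsingleton_iff_nontrivial]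
    exact fun hs => hj ((VZ_iff_subsingleton _ j N).2 hs)
  have h7 : ¬ VZ (((EE A (Localization.AtPrime p.asIdeal)).obj ω)⟦np⟧) (-(e : ℤ)) N := by
    rw [← not_subsingleton_iff_nontrivial] at h5
    exact fun h => h5 ((VZ_iff_subsingleton _ _ N).1 h)
  have hδe : δ ≤ e := by
    by_contra hlt
    exact h7 (h3 e (by omega))
  refine ⟨δ, e, by rw [hdepth, ← hδ], by rw [hsd, he], hδe, fun i hi => ?_, ?_, ?_⟩
  · have h8 := (hsupp' i (i - np) (by omega)).1 hi
    obtain ⟨h9, h10⟩ := h6 _ h8
    refine ⟨by omega, ?_⟩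
    by_contra hlt
    obtain ⟨m, hm⟩ : ∃ m : ℕ, (i - np) = -(m : ℤ) := ⟨(np - i).toNat, by omega⟩
    rw [hm] at h8
    exact h8 (h3 m (by omega))
  · exact (hsupp' _ (-(δ : ℤ)) (by omega)).2 h4
  · exact (hsupp' _ (-(e : ℤ)) (by omega)).2 h7

end Groth.Agent.Lib.helper23.DimFn
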