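import Mathlib
import Groth.Prelude.Def_Wider
import Groth.Prelude.Def_DDual2
import Groth.Prelude.Def_CAlg
import Groth.Agent.Lib.Helper23.DimFn19

/-!
# Serre's condition `(S_k)` via the supports of `Ext^i(M, ω)` (helper23)
-/

set_option autoImplicit false
universe u
open CategoryTheory CategoryTheory.Limits DerivedCategory Pretriangulated TensorProduct

attribute [local instance] HasDerivedCategory.standard

namespace Groth.Agent.Lib.helper23.DimFn

open Groth.Agent.Lib.helper23.FBC Groth.Agent.Lib.helper23.BassD
open Groth.Agent.Lib.helper26.Depth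
open scoped Pointwise

attribute [local instance 50] homModuleA
attribute [local instance] FlatBC.preservesFiniteLimits_extendScalars_algebraMap
attribute [local instance] flat_atPrime

variable {A : Type u} [CommRing A] [IsNoetherianRing A]

/-- `Supp Ext^i(M, K) ⊆ Supp M`. -/
lemma mem_support_of_mem_support_hom (K : Dual.D A) (a : ℤ) [K.IsGE a] (p : PrimeSpectrum A)
    (M : Type u) [AddCommGroup M] [Module A M] [Module.Finite A M] (i : ℤ)
    (h : p ∈ Module.support A (Dual.inD A M ⟶ K⟦i⟧)) : p ∈ Module.support A M := by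
  haveI hpp : p.asIdeal.IsPrime := p.2
  haveI : Module.Finite A (ModuleCat.of A M) := inferInstanceAs (Module.Finite A M)
  rw [mem_support_hom_iff, Zloc_iff_VZ_module K a p.asIdeal (ModuleCat.of A M) i] at h
  rw [Module.mem_support_iff]
  by_contra hnt
  rw [not_nontrivial_iff_subsingleton] at hnt
  haveI : Subsingleton ((ModuleCat.extendScalars.{u, u, u}
      (algebraMap A (Localization.AtPrime p.asIdeal))).obj (ModuleCat.of A M)) :=
    (locEquiv p.asIdeal M).toEquiv.subsingleton_congr.2 hnt
  have hz : IsZero (BassD.sg ((ModuleCat.extendScalars.{u, u, u}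
      (algebraMap A (Localization.AtPrime p.asIdeal))).obj (ModuleCat.of A M))) :=
    Functor.map_isZero _ (ModuleCat.isZero_of_subsingleton _)
  exact h (fun φ => hz.eq_of_src _ _)

/-- S18716. -/
theorem hasSk_iff_codim_support_ext (ω : Dual.D A) (hω : Dual.IsDualizing A ω) (M : Type u)
    [AddCommGroup M] [Module A M] [Module.Finite A M] (k : ℕ) :
    LocCoh.HasSk k A M ↔
      ∀ (i j : ℤ), j < i → ∀ p : PrimeSpectrum A,
        p ∈ Module.support A (Dual.inD A M ⟶ ω⟦i⟧) →
        p ∈ Module.support A (Dual.inD A M ⟶ ω⟦j⟧) →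
          (((k : ℤ) + i - j).toNat : WithBot ℕ∞) ≤
            Module.supportDim (Localization.AtPrime p.asIdeal)
              (LocalizedModule p.asIdeal.primeCompl M) := by
  obtain ⟨a, hGE, n, hn1, hn2, hsm⟩ := exists_dimFn ω hω
  haveI := hGE
  constructor
  · intro hS i j hji p hi hj
    haveI hpp : p.asIdeal.IsPrime := p.2
    have hp := mem_support_of_mem_support_hom ω a p M i hi
    obtain ⟨δ, e, hδ, he, hδe, hb, -, -⟩ := support_ext_bounds ω hω a p (n p) (hn1 p) M hp
    have h1 := hS p.asIdeal
    rw [he, hδ] at h1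
    rw [he]
    have h2 := (hb i hi).2
    have h3 := (hb j hj).1
    have h6 : k ≤ δ := by
      rcases le_total k e with hke | hke
      · have hke' : (k : WithBot ℕ∞) ≤ (e : WithBot ℕ∞) := by exact_mod_cast hke
        rw [min_eq_left hke'] at h1
        exact_mod_cast h1
      · have hke' : (e : WithBot ℕ∞) ≤ (k : WithBot ℕ∞) := by exact_mod_cast hke
        rw [min_eq_right hke'] at h1
        have h4 : e ≤ δ := by exact_mod_cast h1
        omega
    have h7 : ((k : ℤ) + i - j).toNat ≤ e := by omega
    exact_mod_cast h7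
  · intro h p hpp
    by_cases hp : (⟨p, hpp⟩ : PrimeSpectrum A) ∈ Module.support A M
    · obtain ⟨δ, e, hδ, he, hδe, hb, h1, h2⟩ :=
        support_ext_bounds ω hω a ⟨p, hpp⟩ (n ⟨p, hpp⟩) (hn1 ⟨p, hpp⟩) M hp
      show min (k : WithBot ℕ∞) (Module.supportDim (Localization.AtPrime p)
        (LocalizedModule p.primeCompl M)) ≤ ((LocCoh.depth (Localization.AtPrime p)
          (LocalizedModule p.primeCompl M) : ℕ∞) : WithBot ℕ∞)
      have he' : Module.supportDim (Localization.AtPrime p)
        (LocalizedModule p.primeCompl M) = e := he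
      have hδ' : LocCoh.depth (Localization.AtPrime p)
          (LocalizedModule p.primeCompl M) = δ := hδ
      rw [he', hδ']
      rcases Nat.lt_or_ge δ e with hlt | hge
      · have h3 := h (n ⟨p, hpp⟩ - δ) (n ⟨p, hpp⟩ - e) (by omega) ⟨p, hpp⟩ h1 h2
        rw [he] at h3
        have h5 : ((k : ℤ) + (n ⟨p, hpp⟩ - δ) - (n ⟨p, hpp⟩ - e)).toNat ≤ e := by
          exact_mod_cast h3
        have h6 : k ≤ δ := by omega
        exact le_trans (min_le_left _ _) (by exact_mod_cast h6)
      · exact le_trans (min_le_right _ _) (by exact_mod_cast hge)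
    · rw [Module.mem_support_iff, not_nontrivial_iff_subsingleton] at hp
      haveI : Subsingleton (LocalizedModule p.primeCompl M) := hp
      rw [Module.supportDim_eq_bot_of_subsingleton]
      simp

end Groth.Agent.Lib.helper23.DimFn
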