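import Mathlib
import Groth.Prelude.Def_Wider
import Groth.Prelude.Def_DDual2
import Groth.Prelude.Def_CAlg
import Groth.Agent.Lib.Helper23.DimFn20
import Groth.Agent.Lib.Helper26.FinRestr2

/-!
# The Cohen–Macaulay locus of a finite module over a ring with a dualizing complex (helper23)
-/

set_option autoImplicit false
universe u
open CategoryTheory CategoryTheory.Limits DerivedCategory Pretriangulated TensorProduct

attribute [local instance] HasDerivedCategory.standard

namespace Groth.Agent.Lib.helper23.DimFn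

open Groth.Agent.Lib.helper23.FBC Groth.Agent.Lib.helper23.BassD
open Groth.Agent.Lib.helper26.Depth
open scoped Pointwise

attribute [local instance 50] homModuleA
attribute [local instance] FlatBC.preservesFiniteLimits_extendScalars_algebraMap
attribute [local instance] flat_atPrime

variable {A : Type u} [CommRing A] [IsNoetherianRing A]

/-- `M_p` is Cohen–Macaulay iff `p` lies in the support of exactly one `Ext^i(M, ω)`. -/
theorem isCM_module_atPrime_iff (ω : Dual.D A) (hω : Dual.IsDualizing A ω) (a : ℤ) [ω.IsGE a]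
    (p : PrimeSpectrum A) (np : ℤ)
    (hnp : ∀ i : ℤ, Zloc ω p.asIdeal (ModuleCat.of A (A ⧸ p.asIdeal)) i ↔ i ≠ np)
    (M : Type u) [AddCommGroup M] [Module A M] [Module.Finite A M]
    (hp : p ∈ Module.support A M) :
    LocCoh.IsCohenMacaulayModule (Localization.AtPrime p.asIdeal)
        (LocalizedModule p.asIdeal.primeCompl M) ↔
      ∀ i j : ℤ, p ∈ Module.support A (Dual.inD A M ⟶ ω⟦i⟧) →
        p ∈ Module.support A (Dual.inD A M ⟶ ω⟦j⟧) → i = j := by
  obtain ⟨δ, e, hδ, he, hδe, hb, h1, h2⟩ := support_ext_bounds ω hω a p np hnp M hp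
  unfold LocCoh.IsCohenMacaulayModule
  rw [he, hδ]
  constructor
  · intro h i j hi hj
    have h3 : e = δ := by exact_mod_cast h
    have := hb i hi
    have := hb j hj
    omega
  · intro h
    have h3 := h _ _ h1 h2
    have h4 : e = δ := by omega
    rw [h4]
    rfl

/-- S1716. -/
theorem cohenMacaulay_locus_module (ω : Dual.D A) (hω : Dual.IsDualizing A ω) (M : Type u)
    [AddCommGroup M] [Module A M] [Module.Finite A M] :
    IsOpen {p : PrimeSpectrum A | Subsingleton (LocalizedModule p.asIdeal.primeCompl M) ∨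
        LocCoh.IsCohenMacaulayModule (Localization.AtPrime p.asIdeal)
          (LocalizedModule p.asIdeal.primeCompl M)} ∧
      Module.support A M ⊆ closure ({p : PrimeSpectrum A |
        LocCoh.IsCohenMacaulayModule (Localization.AtPrime p.asIdeal)
          (LocalizedModule p.asIdeal.primeCompl M)} ∩ Module.support A M) := by
  obtain ⟨a, hGE, n, hn1, hn2, hsm⟩ := exists_dimFn ω hω
  haveI := hGE
  obtain ⟨a', b, hab, hGE', hLE, hv⟩ := exists_bounds ω hω
  have hKa : ∀ j : ℤ, j < a → IsZero ((homologyFunctor (ModuleCat.{u} A) j).obj ω) :=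
    (DerivedCategory.isGE_iff ω a).1 inferInstance
  have hfin := hω.finite_cohomology
  haveI hMfin : Module.Finite A (ModuleCat.of A M) := inferInstanceAs (Module.Finite A M)
  have hsupp : ∀ (i : ℤ) (p : PrimeSpectrum A),
      p ∈ Module.support A (Dual.inD A M ⟶ ω⟦i⟧) → i ∈ Set.Icc a' b := by
    intro i p hp
    by_contra hi
    rw [Set.mem_Icc, not_and_or, not_le, not_le] at hi
    haveI := hv M i hi
    have : Module.support A (Dual.inD A M ⟶ ω⟦i⟧) = ∅ := Module.support_eq_empty
    rw [this] at hp
    exact hp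
  have hclosed : ∀ i : ℤ, IsClosed (Module.support A (Dual.inD A M ⟶ ω⟦i⟧)) := by
    intro i
    haveI : Module.Finite A (Dual.inD A M ⟶ ω⟦i⟧) :=
      FinHom.finite_hom_single_of_bddBelow (ModuleCat.of A M) ω a hKa hfin i
    exact Module.isClosed_support
  constructor
  · rw [← isClosed_compl_iff]
    let S : Set (ℤ × ℤ) := {x | x.1 ∈ Set.Icc a' b ∧ x.2 ∈ Set.Icc a' b ∧ x.1 ≠ x.2}
    have hS : S.Finite :=
      ((Set.finite_Icc a' b).prod (Set.finite_Icc a' b)).subset (fun x hx => ⟨hx.1, hx.2.1⟩)
    have heq : {p : PrimeSpectrum A | Subsingleton (LocalizedModule p.asIdeal.primeCompl M) ∨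
        LocCoh.IsCohenMacaulayModule (Localization.AtPrime p.asIdeal)
          (LocalizedModule p.asIdeal.primeCompl M)}ᶜ =
        ⋃ x ∈ S, (Module.support A (Dual.inD A M ⟶ ω⟦x.1⟧) ∩
          Module.support A (Dual.inD A M ⟶ ω⟦x.2⟧)) := by
      ext p
      simp only [Set.mem_compl_iff, Set.mem_iUnion, Set.mem_inter_iff, exists_prop,
        Set.mem_ofPred_eq]
      constructor
      · intro h
        rw [not_or, not_subsingleton_iff_nontrivial] at h
        have hp : p ∈ Module.support A M := Module.mem_support_iff.2 h.1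
        have h2 := h.2
        rw [isCM_module_atPrime_iff ω hω a p (n p) (hn1 p) M hp] at h2
        push Not at h2
        obtain ⟨i, j, hi, hj, hij⟩ := h2
        exact ⟨(i, j), ⟨hsupp i p hi, hsupp j p hj, hij⟩, hi, hj⟩
      · rintro ⟨x, ⟨-, -, hne⟩, hi, hj⟩ h
        have hp := mem_support_of_mem_support_hom ω a p M x.1 hi
        rcases h with h | h
        · exact (not_subsingleton_iff_nontrivial.2 (Module.mem_support_iff.1 hp)) h
        · exact hne (((isCM_module_atPrime_iff ω hω a p (n p) (hn1 p) M hp).1 h) _ _ hi hj)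
    rw [heq]
    exact hS.isClosed_biUnion (fun x _ => (hclosed x.1).inter (hclosed x.2))
  · intro p hp
    have hann : Module.annihilator A M ≤ p.asIdeal := Module.mem_support_iff_of_finite.1 hp
    obtain ⟨p₀, hp₀, hp₀p⟩ := Ideal.exists_minimalPrimes_le hann
    let P₀ : PrimeSpectrum A := ⟨p₀, hp₀.1.1⟩
    have hle : P₀ ≤ p := (PrimeSpectrum.asIdeal_le_asIdeal P₀ p).1 hp₀p
    haveI : P₀.asIdeal.IsPrime := hp₀.1.1
    have hP₀ : P₀ ∈ Module.support A M := Module.mem_support_iff_of_finite.2 hp₀.1.2
    have hmem : P₀ ∈ {p : PrimeSpectrum A |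
        LocCoh.IsCohenMacaulayModule (Localization.AtPrime p.asIdeal)
          (LocalizedModule p.asIdeal.primeCompl M)} ∩ Module.support A M := by
      refine ⟨?_, hP₀⟩
      show LocCoh.IsCohenMacaulayModule (Localization.AtPrime P₀.asIdeal)
          (LocalizedModule P₀.asIdeal.primeCompl M)
      obtain ⟨δ, e, hδ, he, hδe, hb, h1, h2⟩ :=
        support_ext_bounds ω hω a P₀ (n P₀) (hn1 P₀) M hP₀
      have hht := Groth.Agent.Lib.helper26.FinRestr.supportDim_localization_eq_height M
        P₀.asIdeal hP₀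
      have hmin : IsMin (⟨P₀, hP₀⟩ : Module.support A M) := by
        intro b hb'
        have h3 : b.1.asIdeal ≤ p₀ := (PrimeSpectrum.asIdeal_le_asIdeal b.1 P₀).2 hb'
        have h4 : Module.annihilator A M ≤ b.1.asIdeal := Module.mem_support_iff_of_finite.1 b.2
        have h5 : p₀ ≤ b.1.asIdeal := hp₀.2 ⟨b.1.2, h4⟩ h3
        exact (PrimeSpectrum.asIdeal_le_asIdeal P₀ b.1).1 h5
      rw [Order.height_eq_zero.2 hmin, he] at hht
      have he0 : e = 0 := by exact_mod_cast hht
      unfold LocCoh.IsCohenMacaulayModule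
      rw [he, hδ]
      have hδ0 : δ = 0 := by omega
      rw [he0, hδ0]
      rfl
    have hspec : P₀ ⤳ p := (PrimeSpectrum.le_iff_specializes P₀ p).1 hle
    exact closure_mono (Set.singleton_subset_iff.2 hmem) (specializes_iff_mem_closure.1 hspec)

end Groth.Agent.Lib.helper23.DimFn
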