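import Mathlib
import Groth.Prelude.Def_Wider
import Groth.Prelude.Def_DDual2
import Groth.Prelude.Def_DRing4
import Groth.Agent.Lib.Helper23.FBC7
import Groth.Agent.Lib.Helper23.FBC9
import Groth.Agent.Lib.Helper23.FinHom3

/-!
# helper23: flat base change for `Hom(K, Y[i])`, `K ∈ D^+_{coh}(A)`, `Y` of finite injective
amplitude over `A` and after base change
-/

set_option autoImplicit false
universe u
open CategoryTheory CategoryTheory.Limits DerivedCategory Pretriangulated TensorProduct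

attribute [local instance] HasDerivedCategory.standard

namespace Groth.Agent.Lib.helper23.FBC

open Groth.Agent.Lib.helper23.FinHom

variable {A B : Type u} [CommRing A] [CommRing B] [Algebra A B] [Module.Flat A B]

attribute [local instance 50] homModuleA
attribute [local instance] FlatBC.preservesFiniteLimits_extendScalars_algebraMap

/-- injective amplitude is invariant under isomorphism -/
lemma injAmp_of_iso {R : Type u} [CommRing R] {Y Y' : Dual.D R} (e : Y ≅ Y') (a b : ℤ)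
    (h : DRing.HasInjAmplitudeIn R a b Y) : DRing.HasInjAmplitudeIn R a b Y' := by
  obtain ⟨E, h1, h2, ⟨e'⟩⟩ := h
  exact ⟨E, h1, h2, ⟨e' ≪≫ e⟩⟩

variable (B) in
/-- both `Hom` groups vanish: source in `D^{≥ m}`, target of injective amplitude `≤ b`, `≤ b'` -/
lemma BB_of_isGE_injAmp (X Y : Dual.D A) (m : ℤ) [X.IsGE m] (a b : ℤ)
    (hY : DRing.HasInjAmplitudeIn A a b Y) (a' b' : ℤ)
    (hY' : DRing.HasInjAmplitudeIn B a' b' ((EE A B).obj Y)) (j : ℤ) (h1 : b - j < m)
    (h2 : b' - j < m) : BB B X (Y⟦j⟧) := by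
  haveI : Subsingleton (X ⟶ Y⟦j⟧) := ⟨fun f g => by
    rw [hom_eq_zero_of_isGE_of_injAmp X (Y⟦j⟧) (a - j) (b - j) m (injAmp_shift Y a b j hY) h1 f,
      hom_eq_zero_of_isGE_of_injAmp X (Y⟦j⟧) (a - j) (b - j) m (injAmp_shift Y a b j hY) h1 g]⟩
  haveI := isGE_EE B X m
  have hYj : DRing.HasInjAmplitudeIn B (a' - j) (b' - j) ((EE A B).obj (Y⟦j⟧)) :=
    injAmp_of_iso (EEshiftIso B Y j).symm _ _ (injAmp_shift _ a' b' j hY')
  haveI : Subsingleton ((EE A B).obj X ⟶ (EE A B).obj (Y⟦j⟧)) := ⟨fun f g => by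
    rw [hom_eq_zero_of_isGE_of_injAmp _ _ (a' - j) (b' - j) m hYj h2 f,
      hom_eq_zero_of_isGE_of_injAmp _ _ (a' - j) (b' - j) m hYj h2 g]⟩
  exact bcBij_of_subsingleton _

variable (B) in
/-- **flat base change for `Hom(K, Y[i])`**, `K` bounded below with finite cohomology, `Y` of finite
injective amplitude over `A` and over `B` after base change. -/
theorem BB_of_isGE_finite [IsNoetherianRing A] (K Y : Dual.D A) (c : ℤ) [K.IsGE c]
    (hK : ∀ j : ℤ, Module.Finite A ((homologyFunctor (ModuleCat.{u} A) j).obj K))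
    (a b : ℤ) (hY : DRing.HasInjAmplitudeIn A a b Y) (a' b' : ℤ)
    (hY' : DRing.HasInjAmplitudeIn B a' b' ((EE A B).obj Y)) (i : ℤ) :
    BB B K (Y⟦i⟧) := by
  let t := DerivedCategory.TStructure.t (C := ModuleCat.{u} A)
  obtain ⟨n, hn⟩ : ∃ n : ℤ, n = max b b' - i + 2 := ⟨_, rfl⟩
  have hb : b ≤ max b b' := le_max_left _ _
  have hb' : b' ≤ max b b' := le_max_right _ _
  let T₁ := (t.triangleLTGE n).obj K
  have hT₁ : T₁ ∈ distTriang _ := t.triangleLTGE_distinguished n K
  have hT' := inv_rot_of_distTriang T₁ hT₁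
  let K' := (t.truncLT n).obj K
  -- the bounded piece
  have hK'fin : ∀ j : ℤ, Module.Finite A ((homologyFunctor (ModuleCat.{u} A) j).obj K') := by
    intro j
    by_cases hj : j < n
    · haveI := SplitTrunc.isIso_homologyMap_truncLTι K n j hj
      exact finite_of_isIso' ((homologyFunctor (ModuleCat.{u} A) j).map ((t.truncLTι n).app K))
        (hK j)
    · haveI : K'.IsLE (n - 1) := by dsimp [K']; infer_instance
      exact finite_of_isZero (DerivedCategory.isZero_of_isLE K' (n - 1) j (by omega))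
  have hK'lo : ∀ j : ℤ, j < c → IsZero ((homologyFunctor (ModuleCat.{u} A) j).obj K') := by
    intro j hj
    by_cases hjn : j < n
    · haveI := SplitTrunc.isIso_homologyMap_truncLTι K n j hjn
      exact (DerivedCategory.isZero_of_isGE K c j hj).of_iso
        (asIso ((homologyFunctor (ModuleCat.{u} A) j).map ((t.truncLTι n).app K)))
    · haveI : K'.IsLE (n - 1) := by dsimp [K']; infer_instance
      exact DerivedCategory.isZero_of_isLE K' (n - 1) j (by omega)
  have hK'hi : ∀ j : ℤ, n - 1 < j → IsZero ((homologyFunctor (ModuleCat.{u} A) j).obj K') := by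
    intro j hj
    haveI : K'.IsLE (n - 1) := by dsimp [K']; infer_instance
    exact DerivedCategory.isZero_of_isLE K' (n - 1) j hj
  have hBB' : ∀ j : ℤ, BB B K' (Y⟦j⟧) := by
    intro j
    haveI : (Y⟦j⟧).IsGE (a - j) := isGE_of_injAmp _ _ _ (injAmp_shift Y a b j hY)
    exact BB_of_bounded_finite B K' (Y⟦j⟧) (a - j) c (n - 1) hK'lo hK'hi hK'fin
  -- the unbounded piece
  haveI : T₁.obj₃.IsGE n := by dsimp [T₁]; infer_instance
  haveI : (T₁.obj₃⟦(-1 : ℤ)⟧).IsGE (n + 1) :=
    (TStructure.t (C := ModuleCat.{u} A)).isGE_shift T₁.obj₃ n (-1) (n + 1) (by omega)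
  have hBB'' : ∀ j : ℤ, i - 1 ≤ j → BB B (T₁.obj₃⟦(-1 : ℤ)⟧) (Y⟦j⟧) := by
    intro j hj
    exact BB_of_isGE_injAmp B (T₁.obj₃⟦(-1 : ℤ)⟧) Y (n + 1) a b hY a' b' hY' j (by omega) (by omega)
  have hij : i - 1 + 1 = i := by omega
  exact ⟨BI_step Y T₁.invRotate hT' hij (hBB' (i - 1)).2 (hBB'' (i - 1) le_rfl).1 (hBB' i).1,
    BS_step Y T₁.invRotate hT' hij (hBB'' (i - 1) le_rfl).2 (hBB' i).2 (hBB'' i (by omega)).1⟩

end Groth.Agent.Lib.helper23.FBC
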