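import Mathlib
import Groth.Prelude.Def_DRing3
import Groth.Prelude.Def_DerCA
import Groth.Agent.Lib.Helper13.GM2
import Groth.Agent.Lib.Helper13.RGam4

/-!
# The extended Čech complex of a complex computes `RΓ_I` (helper23)

* `cechCx K fs`: the extended (alternating) Čech complex of a cochain complex `K` of `A`-modules with
  respect to a list `fs` of elements: `K` for the empty list, and the mapping cocone of
  `Č(K, fs) ⟶ Č(K, fs)_f` for `f :: fs`.  `cechAug K fs : cechCx K fs ⟶ K`.
* `isIso_RgammaI_map_cechAug`: `RΓ_I` inverts the augmentation when `fs ⊆ I`.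
* `acyclic_locCx_cechCx`: `Č(K, fs)_g` is acyclic for `g ∈ fs`.
* `torsD_Q_cechCx`: `Č(K, fs)` has `(fs)`-power torsion cohomology.
* `nonempty_RgammaI_iso_cechCx`: `RΓ_I (Q K) ≅ Q (Č(K, fs))` for `A` Noetherian, `I = (fs)`.
-/

set_option autoImplicit false
universe u
open CategoryTheory CategoryTheory.Limits DerivedCategory Pretriangulated

attribute [local instance] HasDerivedCategory.standard

namespace Groth.Agent.Lib.helper23.CechD

open Groth.Agent.Lib.helper13.RGam Groth.Agent.Lib.helper13.DComp Groth.Agent.Lib.helper13.GM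

variable {A : Type u} [CommRing A]

/-- the extended Čech complex of a complex -/
noncomputable def cechCx (K : DRing.Cx A) : List A → DRing.Cx A
  | [] => K
  | f :: fs => CochainComplex.mappingCocone (DerCA.locCxUnit (Submonoid.powers f) (cechCx K fs))

/-- the augmentation `Č(K, fs) ⟶ K` -/
noncomputable def cechAug (K : DRing.Cx A) : ∀ fs : List A, cechCx K fs ⟶ K
  | [] => 𝟙 K
  | f :: fs => CochainComplex.mappingCocone.fst
      (DerCA.locCxUnit (Submonoid.powers f) (cechCx K fs)) ≫ cechAug K fs

lemma bijective_smul_locFunctor (f : A) (N : ModuleCat.{u} A) :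
    Function.Bijective (fun x : (DerCA.locFunctor (Submonoid.powers f)).obj N => f • x) := by
  have h := IsLocalizedModule.map_units (LocalizedModule.mkLinearMap (Submonoid.powers f) N)
    (⟨f, Submonoid.mem_powers f⟩ : Submonoid.powers f)
  rw [Module.End.isUnit_iff] at h
  exact h

section A

variable (I : Ideal A) [DRing.HasRgammaI I]

/-- `RΓ_I` inverts the augmentation of the Čech complex when `fs ⊆ I` -/
theorem isIso_RgammaI_map_cechAug (K : DRing.Cx A) : ∀ fs : List A, (∀ g ∈ fs, g ∈ I) →
    IsIso ((DRing.RgammaI I).map (Q.map (cechAug K fs)))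
  | [], _ => by
    show IsIso ((DRing.RgammaI I).map (Q.map (𝟙 K)))
    rw [CategoryTheory.Functor.map_id, CategoryTheory.Functor.map_id]
    infer_instance
  | f :: fs, h => by
    haveI ih := isIso_RgammaI_map_cechAug K fs (fun g hg => h g (List.mem_cons_of_mem _ hg))
    have hT := DerivedCategory.mappingCocone_triangle_distinguished
      (DerCA.locCxUnit (Submonoid.powers f) (cechCx K fs))
    have hz : IsZero ((DRing.RgammaI I).obj
        (Q.obj ((DerCA.locCx (Submonoid.powers f)).obj (cechCx K fs)))) :=
      Groth.Agent.Lib.Helper25.RGammaSmul.isZero_RgammaI I _ f (h f List.mem_cons_self)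
        (fun n => bijective_smul_locFunctor f _)
    haveI h1 : IsIso ((DRing.RgammaI I).map (Q.map (CochainComplex.mappingCocone.fst
        (DerCA.locCxUnit (Submonoid.powers f) (cechCx K fs))))) :=
      isIso_RgammaI_map_mor₁ I _ hT hz
    show IsIso ((DRing.RgammaI I).map (Q.map (CochainComplex.mappingCocone.fst
        (DerCA.locCxUnit (Submonoid.powers f) (cechCx K fs)) ≫ cechAug K fs)))
    rw [Functor.map_comp, Functor.map_comp]
    infer_instance

end A

section B

/-- `g`-power torsion cohomology passes to localisations -/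
lemma torsH_locCx (g : A) (S : Submonoid A) (Y : DRing.Cx A) (h : TorsH g Y) :
    TorsH g ((DerCA.locCx S).obj Y) := by
  intro n w hw
  change LocalizedModule S (Y.X n) at w
  induction w using LocalizedModule.induction_on with
  | h y s =>
    have hw' : (IsLocalizedModule.map S (LocalizedModule.mkLinearMap _ _)
      (LocalizedModule.mkLinearMap _ _) (Y.d n (n + 1)).hom) (LocalizedModule.mk y s) = 0 := hw
    rw [IsLocalizedModule.map_LocalizedModules, ← LocalizedModule.zero_mk s,
      LocalizedModule.mk_eq] at hw'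
    obtain ⟨u, hu⟩ := hw'
    have hu' : (u : A) • (s : A) • (Y.d n (n + 1)).hom y = 0 := by
      have : u • s • (Y.d n (n + 1)).hom y = u • s • (0 : Y.X (n + 1)) := hu
      rw [smul_zero, smul_zero] at this
      exact this
    have hcyc : Y.d n (n + 1) (((u : A) * (s : A)) • y) = 0 := by
      show (Y.d n (n + 1)).hom (((u : A) * (s : A)) • y) = 0
      rw [map_smul, mul_smul]
      exact hu'
    obtain ⟨k, b, hb⟩ := h n _ hcyc
    refine ⟨k, LocalizedModule.mk b (u * s * s), ?_⟩
    show g ^ k • LocalizedModule.mk y s =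
      (IsLocalizedModule.map S (LocalizedModule.mkLinearMap _ _)
        (LocalizedModule.mkLinearMap _ _) (Y.d (n - 1) n).hom) (LocalizedModule.mk b (u * s * s))
    rw [IsLocalizedModule.map_LocalizedModules, LocalizedModule.smul'_mk]
    have hb' : (Y.d (n - 1) n).hom b = g ^ k • ((u : A) * (s : A)) • y := hb.symm
    rw [hb', ← LocalizedModule.mk_cancel_common_left (u * s) s (g ^ k • y)]
    congr 1
    show ((u : A) * (s : A)) • g ^ k • y = _
    rw [smul_comm]

/-- if the cohomology of `Z` is `g`-power torsion then `Z_g` is acyclic -/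
lemma acyclic_locCx_of_torsH (g : A) (Z : DRing.Cx A) (h : TorsH g Z) :
    ((DerCA.locCx (Submonoid.powers g)).obj Z).Acyclic := by
  intro n
  rw [HomologicalComplex.exactAt_iff' _ (n - 1) n (n + 1) (by simp) (by simp),
    ShortComplex.moduleCat_exact_iff]
  intro w hw
  change LocalizedModule (Submonoid.powers g) (Z.X n) at w
  induction w using LocalizedModule.induction_on with
  | h y s =>
    have hw' : (IsLocalizedModule.map (Submonoid.powers g) (LocalizedModule.mkLinearMap _ _)
      (LocalizedModule.mkLinearMap _ _) (Z.d n (n + 1)).hom) (LocalizedModule.mk y s) = 0 := hw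
    rw [IsLocalizedModule.map_LocalizedModules, ← LocalizedModule.zero_mk s,
      LocalizedModule.mk_eq] at hw'
    obtain ⟨u, hu⟩ := hw'
    have hu' : (u : A) • (s : A) • (Z.d n (n + 1)).hom y = 0 := by
      have : u • s • (Z.d n (n + 1)).hom y = u • s • (0 : Z.X (n + 1)) := hu
      rw [smul_zero, smul_zero] at this
      exact this
    have hcyc : Z.d n (n + 1) (((u : A) * (s : A)) • y) = 0 := by
      show (Z.d n (n + 1)).hom (((u : A) * (s : A)) • y) = 0
      rw [map_smul, mul_smul]
      exact hu'
    obtain ⟨k, b, hb⟩ := h n _ hcyc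
    let t : Submonoid.powers g := ⟨g ^ k, k, rfl⟩
    refine ⟨LocalizedModule.mk b (t * (u * s) * s), ?_⟩
    show (IsLocalizedModule.map (Submonoid.powers g) (LocalizedModule.mkLinearMap _ _)
        (LocalizedModule.mkLinearMap _ _) (Z.d (n - 1) n).hom)
          (LocalizedModule.mk b (t * (u * s) * s)) = LocalizedModule.mk y s
    rw [IsLocalizedModule.map_LocalizedModules]
    have hb' : (Z.d (n - 1) n).hom b = g ^ k • ((u : A) * (s : A)) • y := hb.symm
    rw [hb', ← LocalizedModule.mk_cancel_common_left (t * (u * s)) s y]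
    congr 1
    show g ^ k • ((u : A) * (s : A)) • y = ((g ^ k) * ((u : A) * (s : A))) • y
    rw [mul_smul (g ^ k)]

/-- `M_f ⟶ (M_f)_f` is an isomorphism -/
lemma isIso_locFunctor_map_locUnit (S : Submonoid A) (N : ModuleCat.{u} A) :
    IsIso ((DerCA.locFunctor S).map ((DerCA.locUnit S).app N)) := by
  rw [ConcreteCategory.isIso_iff_bijective]
  have key : IsLocalizedModule.map S (LocalizedModule.mkLinearMap S N)
      (LocalizedModule.mkLinearMap S (LocalizedModule S N)) (LocalizedModule.mkLinearMap S N) =
      LocalizedModule.mkLinearMap S (LocalizedModule S N) := by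
    apply IsLocalizedModule.linearMap_ext S (LocalizedModule.mkLinearMap S N)
      (LocalizedModule.mkLinearMap S (LocalizedModule S N))
    ext x
    simp only [LinearMap.coe_comp, Function.comp_apply]
    rw [IsLocalizedModule.map_apply]
  show Function.Bijective (IsLocalizedModule.map S (LocalizedModule.mkLinearMap S N)
      (LocalizedModule.mkLinearMap S (LocalizedModule S N)) (LocalizedModule.mkLinearMap S N))
  rw [key]
  apply bijective_of_isLocalizedModule S
  intro s
  have h := IsLocalizedModule.map_units (LocalizedModule.mkLinearMap S N) s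
  rw [Module.End.isUnit_iff] at h
  exact h

/-- `Č(K, fs)_g` is acyclic for `g ∈ fs` -/
theorem acyclic_locCx_cechCx (K : DRing.Cx A) : ∀ (fs : List A) (g : A), g ∈ fs →
    ((DerCA.locCx (Submonoid.powers g)).obj (cechCx K fs)).Acyclic
  | [], g, hg => by simp at hg
  | f :: fs, g, hg => by
    show ((DerCA.locCx (Submonoid.powers g)).obj (CochainComplex.mappingCocone
      (DerCA.locCxUnit (Submonoid.powers f) (cechCx K fs)))).Acyclic
    apply acyclic_map_mappingCocone
    rcases List.mem_cons.1 hg with rfl | hg'
    · haveI : IsIso ((DerCA.locCx (Submonoid.powers g)).map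
          (DerCA.locCxUnit (Submonoid.powers g) (cechCx K fs))) := by
        haveI : ∀ n, IsIso (((DerCA.locCx (Submonoid.powers g)).map
            (DerCA.locCxUnit (Submonoid.powers g) (cechCx K fs))).f n) :=
          fun n => isIso_locFunctor_map_locUnit _ _
        exact HomologicalComplex.Hom.isIso_of_components _
      exact Functor.map_isIso _ _
    · have h1 := acyclic_locCx_cechCx K fs g hg'
      have h2 : ((DerCA.locCx (Submonoid.powers g)).obj
          ((DerCA.locCx (Submonoid.powers f)).obj (cechCx K fs))).Acyclic :=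
        acyclic_locCx_of_torsH g _ (torsH_locCx g _ _ (torsH_of_acyclic_locCx g _ h1))
      exact ⟨⟨0, (isZero_Q_obj_of_acyclic _ h1).eq_of_src _ _,
        (isZero_Q_obj_of_acyclic _ h2).eq_of_src _ _⟩⟩

/-- the Čech complex has `(fs)`-power torsion cohomology -/
theorem torsD_Q_cechCx (K : DRing.Cx A) (fs : List A) :
    TorsD (Ideal.span {x : A | x ∈ fs}) (Q.obj (cechCx K fs)) :=
  torsD_of_torsH fs _ (fun g hg => torsH_of_acyclic_locCx g _ (acyclic_locCx_cechCx K fs g hg))

end B

section C

variable [IsNoetherianRing A] (I : Ideal A) [DRing.HasRgammaI I]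

/-- **the Čech complex computes `RΓ_I`**: `RΓ_I (Q K) ≅ Q (Č(K, fs))` for `I = (fs)` -/
theorem nonempty_RgammaI_iso_cechCx (fs : List A) (hI : Ideal.span {x : A | x ∈ fs} = I)
    (K : DRing.Cx A) :
    Nonempty ((DRing.RgammaI I).obj (Q.obj K) ≅ Q.obj (cechCx K fs)) := by
  subst hI
  haveI h1 := isIso_RgammaI_map_cechAug (Ideal.span {x : A | x ∈ fs}) K fs
    (fun g hg => Ideal.subset_span hg)
  haveI h2 : IsIso ((DRing.RgammaIε (Ideal.span {x : A | x ∈ fs})).app (Q.obj (cechCx K fs))) :=
    isIso_RgammaIε_app _ _ (torsD_Q_cechCx K fs)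
  exact ⟨(asIso ((DRing.RgammaI (Ideal.span {x : A | x ∈ fs})).map (Q.map (cechAug K fs)))).symm ≪≫
    asIso ((DRing.RgammaIε (Ideal.span {x : A | x ∈ fs})).app (Q.obj (cechCx K fs)))⟩

end C

end Groth.Agent.Lib.helper23.CechD
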