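import Mathlib
import Groth.Prelude.Def_DRing3
import Groth.Prelude.Def_DerCA
import Groth.Agent.Lib.Helper23.CechD1

/-!
# Functoriality of the extended Čech complex of a complex (helper23)

* `coconeCongr`: mapping cocones of isomorphic morphisms are isomorphic.
* `mapCoconeIso`: additive functors commute with mapping cocones.
* `LocCompat G s s'`: `G (M_s) ≅ (G M)_{s'}` naturally, compatibly with the localisation maps.
* `nonempty_map_cechCx_iso`: `G (Č(K, fs)) ≅ Č(G K, fs')`.
-/

set_option autoImplicit false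
universe u
open CategoryTheory CategoryTheory.Limits

namespace Groth.Agent.Lib.helper23.CechD

section Cocone

open CochainComplex

variable {C : Type*} [Category C] [Preadditive C] [HasBinaryBiproducts C]

/-- mapping cones of isomorphic morphisms are isomorphic -/
noncomputable def coneCongr {K₁ L₁ K₂ L₂ : CochainComplex C ℤ} (φ₁ : K₁ ⟶ L₁) (φ₂ : K₂ ⟶ L₂)
    (a : K₁ ≅ K₂) (b : L₁ ≅ L₂) (comm : φ₁ ≫ b.hom = a.hom ≫ φ₂) :
    mappingCone φ₁ ≅ mappingCone φ₂ where
  hom := mappingCone.map φ₁ φ₂ a.hom b.hom comm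
  inv := mappingCone.map φ₂ φ₁ a.inv b.inv (by
    rw [← cancel_mono b.hom, Category.assoc, Category.assoc, b.inv_hom_id, Category.comp_id,
      comm, a.inv_hom_id_assoc])
  hom_inv_id := by
    rw [← mappingCone.map_comp]
    simp only [Iso.hom_inv_id]
    exact mappingCone.map_id φ₁
  inv_hom_id := by
    rw [← mappingCone.map_comp]
    simp only [Iso.inv_hom_id]
    exact mappingCone.map_id φ₂

/-- mapping cocones of isomorphic morphisms are isomorphic -/
noncomputable def coconeCongr {K₁ L₁ K₂ L₂ : CochainComplex C ℤ} (φ₁ : K₁ ⟶ L₁) (φ₂ : K₂ ⟶ L₂)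
    (a : K₁ ≅ K₂) (b : L₁ ≅ L₂) (comm : φ₁ ≫ b.hom = a.hom ≫ φ₂) :
    mappingCocone φ₁ ≅ mappingCocone φ₂ :=
  (CategoryTheory.shiftFunctor (CochainComplex C ℤ) (-1 : ℤ)).mapIso (coneCongr φ₁ φ₂ a b comm)

variable {D : Type*} [Category D] [Preadditive D] [HasBinaryBiproducts D]

/-- additive functors commute with mapping cocones -/
noncomputable def mapCoconeIso (G : C ⥤ D) [G.Additive] {K L : CochainComplex C ℤ} (φ : K ⟶ L) :
    (G.mapHomologicalComplex (ComplexShape.up ℤ)).obj (mappingCocone φ) ≅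
      mappingCocone ((G.mapHomologicalComplex (ComplexShape.up ℤ)).map φ) :=
  ((G.mapHomologicalComplex (ComplexShape.up ℤ)).commShiftIso (-1 : ℤ)).app (mappingCone φ) ≪≫
    (CategoryTheory.shiftFunctor (CochainComplex D ℤ) (-1 : ℤ)).mapIso (mappingCone.mapHomologicalComplexIso φ G)

end Cocone

variable {R R' : Type u} [CommRing R] [CommRing R']

/-- compatibility of a functor with localisation at `s`, resp. `s'` -/
structure LocCompat (G : ModuleCat.{u} R ⥤ ModuleCat.{u} R') (s : R) (s' : R') where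
  ν : DerCA.locFunctor (Submonoid.powers s) ⋙ G ≅ G ⋙ DerCA.locFunctor (Submonoid.powers s')
  hν : ∀ M, G.map ((DerCA.locUnit (Submonoid.powers s)).app M) ≫ ν.hom.app M =
    (DerCA.locUnit (Submonoid.powers s')).app (G.obj M)

variable (G : ModuleCat.{u} R ⥤ ModuleCat.{u} R') [G.Additive]

/-- `G (C_s) ≅ (G C)_{s'}` for complexes -/
noncomputable def LocCompat.cxIso {s : R} {s' : R'} (c : LocCompat G s s') (C : DRing.Cx R) :
    (G.mapHomologicalComplex (ComplexShape.up ℤ)).obj
        ((DerCA.locCx (Submonoid.powers s)).obj C) ≅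
      (DerCA.locCx (Submonoid.powers s')).obj
        ((G.mapHomologicalComplex (ComplexShape.up ℤ)).obj C) :=
  HomologicalComplex.Hom.isoOfComponents (fun n => c.ν.app (C.X n))
    (fun i j _ => (c.ν.hom.naturality (C.d i j)).symm)

lemma LocCompat.map_locCxUnit_cxIso {s : R} {s' : R'} (c : LocCompat G s s') (C : DRing.Cx R) :
    (G.mapHomologicalComplex (ComplexShape.up ℤ)).map (DerCA.locCxUnit (Submonoid.powers s) C) ≫
      (c.cxIso G C).hom =
    DerCA.locCxUnit (Submonoid.powers s') ((G.mapHomologicalComplex (ComplexShape.up ℤ)).obj C) := by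
  ext n : 1
  exact c.hν (C.X n)

lemma locCxUnit_naturality (S : Submonoid R') {C C' : DRing.Cx R'} (e : C ⟶ C') :
    DerCA.locCxUnit S C ≫ (DerCA.locCx S).map e = e ≫ DerCA.locCxUnit S C' := by
  ext n : 1
  exact ((DerCA.locUnit S).naturality (e.f n)).symm

/-- `G (Č(K, fs)) ≅ Č(G K, fs')` when `G` is compatible with the localisations -/
theorem nonempty_map_cechCx_iso (K : DRing.Cx R) (fs : List R) (fs' : List R')
    (h : List.Forall₂ (fun s s' => Nonempty (LocCompat G s s')) fs fs') :
    Nonempty ((G.mapHomologicalComplex (ComplexShape.up ℤ)).obj (cechCx K fs) ≅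
      cechCx ((G.mapHomologicalComplex (ComplexShape.up ℤ)).obj K) fs') := by
  induction h with
  | nil => exact ⟨Iso.refl _⟩
  | @cons s s' fs fs' hc _ ih =>
    obtain ⟨c⟩ := hc
    obtain ⟨e⟩ := ih
    refine ⟨mapCoconeIso G (DerCA.locCxUnit (Submonoid.powers s) (cechCx K fs)) ≪≫
      coconeCongr _ (DerCA.locCxUnit (Submonoid.powers s')
        (cechCx ((G.mapHomologicalComplex (ComplexShape.up ℤ)).obj K) fs')) e
        (c.cxIso G (cechCx K fs) ≪≫ (DerCA.locCx (Submonoid.powers s')).mapIso e) ?_⟩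
    show _ ≫ ((c.cxIso G (cechCx K fs)).hom ≫ (DerCA.locCx (Submonoid.powers s')).map e.hom) = _
    rw [← Category.assoc, c.map_locCxUnit_cxIso G, locCxUnit_naturality]

end Groth.Agent.Lib.helper23.CechD
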