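import Mathlib
import Groth.Prelude.Def_DRing3
import Groth.Prelude.Def_DerCA
import Groth.Prelude.Def_DDual2
import Groth.Agent.Lib.Helper23.CechD2

/-!
# Restriction of scalars is compatible with localisation (helper23)

* `locCompatRestrict f : LocCompat (restrictScalars (algebraMap A B)) (algebraMap A B f) f`.
-/

set_option autoImplicit false
universe u
open CategoryTheory CategoryTheory.Limits

namespace Groth.Agent.Lib.helper23.CechD

variable {A B : Type u} [CommRing A] [CommRing B] [Algebra A B]

section Restrict

variable (f : A) (N : ModuleCat.{u} B)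

/-- the localisation map of `N` at `φ f`, as an `A`-linear map -/
noncomputable abbrev ψr : (ModuleCat.restrictScalars (algebraMap A B)).obj N →ₗ[A]
    (ModuleCat.restrictScalars (algebraMap A B)).obj
      ((DerCA.locFunctor (Submonoid.powers (algebraMap A B f))).obj N) :=
  ((ModuleCat.restrictScalars (algebraMap A B)).map
    ((DerCA.locUnit (Submonoid.powers (algebraMap A B f))).app N)).hom

instance isLocalizedModule_ψr : IsLocalizedModule (Submonoid.powers f) (ψr f N) where
  map_units s := by
    obtain ⟨_, k, rfl⟩ := s
    rw [Module.End.isUnit_iff]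
    have h := IsLocalizedModule.map_units
      (LocalizedModule.mkLinearMap (Submonoid.powers (algebraMap A B f)) N)
      (⟨(algebraMap A B f) ^ k, k, rfl⟩ : Submonoid.powers (algebraMap A B f))
    rw [Module.End.isUnit_iff] at h
    have h2 : (fun x : LocalizedModule (Submonoid.powers (algebraMap A B f)) N =>
        (algebraMap A B f) ^ k • x) = fun x => algebraMap A B (f ^ k) • x := by
      funext x
      rw [map_pow]
    have h3 : Function.Bijective (fun x : LocalizedModule (Submonoid.powers (algebraMap A B f)) N =>
        (algebraMap A B f) ^ k • x) := h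
    rw [h2] at h3
    exact h3
  surj y := by
    obtain ⟨⟨x, t⟩, h⟩ := IsLocalizedModule.surj (Submonoid.powers (algebraMap A B f))
      (LocalizedModule.mkLinearMap (Submonoid.powers (algebraMap A B f)) N) y
    obtain ⟨_, k, rfl⟩ := t
    refine ⟨⟨x, ⟨f ^ k, k, rfl⟩⟩, ?_⟩
    show algebraMap A B (f ^ k) • y = LocalizedModule.mkLinearMap _ N x
    rw [map_pow]
    exact h
  exists_of_eq {x₁ x₂} h := by
    obtain ⟨c, hc⟩ := IsLocalizedModule.exists_of_eq
      (S := Submonoid.powers (algebraMap A B f))
      (f := LocalizedModule.mkLinearMap (Submonoid.powers (algebraMap A B f)) N) h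
    obtain ⟨_, k, rfl⟩ := c
    refine ⟨⟨f ^ k, k, rfl⟩, ?_⟩
    show algebraMap A B (f ^ k) • x₁ = algebraMap A B (f ^ k) • x₂
    rw [map_pow]
    exact hc

/-- `(N_{φ f})|_A ≃ (N|_A)_f` -/
noncomputable abbrev νr : (ModuleCat.restrictScalars (algebraMap A B)).obj
      ((DerCA.locFunctor (Submonoid.powers (algebraMap A B f))).obj N) ≃ₗ[A]
    LocalizedModule (Submonoid.powers f) ((ModuleCat.restrictScalars (algebraMap A B)).obj N) :=
  IsLocalizedModule.linearEquiv (Submonoid.powers f) (ψr f N)
    (LocalizedModule.mkLinearMap (Submonoid.powers f)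
      ((ModuleCat.restrictScalars (algebraMap A B)).obj N))

lemma νr_ψr (x : (ModuleCat.restrictScalars (algebraMap A B)).obj N) :
    νr f N (ψr f N x) = LocalizedModule.mkLinearMap (Submonoid.powers f)
      ((ModuleCat.restrictScalars (algebraMap A B)).obj N) x :=
  IsLocalizedModule.linearEquiv_apply _ _ _ x

end Restrict

/-- restriction of scalars commutes with localisation -/
noncomputable def locCompatRestrict (f : A) :
    LocCompat (ModuleCat.restrictScalars (algebraMap A B)) (algebraMap A B f) f where
  ν := NatIso.ofComponents (fun N => (νr f N).toModuleIso) (by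
    intro N P g
    apply ModuleCat.hom_ext
    apply IsLocalizedModule.linearMap_ext (Submonoid.powers f) (ψr f N)
      (LocalizedModule.mkLinearMap (Submonoid.powers f)
        ((ModuleCat.restrictScalars (algebraMap A B)).obj P))
    ext x
    show νr f P ((IsLocalizedModule.map (Submonoid.powers (algebraMap A B f))
        (LocalizedModule.mkLinearMap _ N) (LocalizedModule.mkLinearMap _ P) g.hom)
          (LocalizedModule.mkLinearMap _ N x)) =
      (IsLocalizedModule.map (Submonoid.powers f)
        (LocalizedModule.mkLinearMap _ _) (LocalizedModule.mkLinearMap _ _)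
          ((ModuleCat.restrictScalars (algebraMap A B)).map g).hom) (νr f N (ψr f N x))
    rw [νr_ψr, IsLocalizedModule.map_apply, IsLocalizedModule.map_apply]
    exact νr_ψr f P (g.hom x))
  hν := fun N => by
    apply ModuleCat.hom_ext
    ext x
    exact νr_ψr f N x

end Groth.Agent.Lib.helper23.CechD
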