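import Mathlib
import Groth.Prelude.Def_DRing3
import Groth.Prelude.Def_DerCA
import Groth.Prelude.Def_DDual2
import Groth.Prelude.Def_DualLC
import Groth.Agent.Lib.Helper23.CechD3
import Groth.Agent.Lib.Helper23.LDual6
import Groth.Agent.Lib.Helper23.NCFree
import Groth.Agent.Lib.Helper23.RHomEx
import Groth.Agent.Lib.Helper25.DerBC2

/-!
# Local cohomology commutes with restriction of scalars (helper23, S1804)
-/

set_option autoImplicit false
universe u
open CategoryTheory CategoryTheory.Limits DerivedCategory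

attribute [local instance] HasDerivedCategory.standard

namespace Groth.Agent.Lib.helper23.CechD

open Groth.Agent.Lib.helper23

/-- `RΓ_I` exists -/
theorem hasRgammaI {A : Type u} [CommRing A] (I : Ideal A) : DRing.HasRgammaI I :=
  Groth.Agent.Lib.Helper25.DerBC.hasRightDerivedFunctor (RHomEx.hKinj A) (DRing.gammaIKh I)

/-- ideals of Noetherian rings are spanned by lists -/
lemma exists_list_span {A : Type u} [CommRing A] [IsNoetherianRing A] (I : Ideal A) :
    ∃ fs : List A, Ideal.span {x : A | x ∈ fs} = I := by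
  obtain ⟨s, hs⟩ := (isNoetherianRing_iff_ideal_fg A).1 inferInstance I
  refine ⟨s.toList, ?_⟩
  rw [← hs]
  congr 1
  ext x
  simp

lemma span_map_list {A B : Type u} [CommRing A] [CommRing B] (φ : A →+* B) (fs : List A) :
    Ideal.span {x : B | x ∈ fs.map φ} = (Ideal.span {x : A | x ∈ fs}).map φ := by
  rw [Ideal.map_span]
  congr 1
  ext x
  simp only [Set.mem_ofPred_eq, List.mem_map, Set.mem_image]

/-- restriction of scalars of a linear equivalence (across universes) -/
def restrictEquiv {A B : Type u} [CommRing A] [CommRing B] (φ : A →+* B)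
    {X : Type*} {Y : Type*} [AddCommGroup X] [Module B X] [AddCommGroup Y] [Module B Y]
    (e : X ≃ₗ[B] Y) :
    (ModuleCat.restrictScalars φ).obj (ModuleCat.of B X) ≃ₗ[A]
      (ModuleCat.restrictScalars φ).obj (ModuleCat.of B Y) where
  toFun := e
  invFun := e.symm
  map_add' := e.map_add
  map_smul' := fun a x => e.map_smul (φ a) x
  left_inv := e.left_inv
  right_inv := e.right_inv

variable (A B : Type u) [CommRing A] [CommRing B] [Algebra A B] [IsNoetherianRing A]
  [IsNoetherianRing B]

/-- **S1804**: local cohomology commutes with restriction of scalars -/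
theorem HDI_restrictD (I : Ideal A) (K : Dual.D B) (i : ℤ) :
    Nonempty (Dual2.HDI A I ((DRing.restrictD (algebraMap A B)).obj K) i ≅
      (ModuleCat.restrictScalars (algebraMap A B)).obj
        (Dual2.HDI B (I.map (algebraMap A B)) K i)) := by
  obtain ⟨fs, hfs⟩ := exists_list_span I
  haveI : DRing.HasRgammaI I := hasRgammaI I
  haveI : DRing.HasRgammaI (I.map (algebraMap A B)) := hasRgammaI _
  let K₀ : DRing.Cx B := Q.objPreimage K
  let e : Q.obj K₀ ≅ K := Q.objObjPreimageIso K
  have hspan : Ideal.span {x : B | x ∈ fs.map (algebraMap A B)} = I.map (algebraMap A B) := by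
    rw [span_map_list, hfs]
  -- the `B`-side
  obtain ⟨e1⟩ := LDual.HD_RgammaI_equiv_HDI (I.map (algebraMap A B)) K i
  obtain ⟨e2⟩ := nonempty_RgammaI_iso_cechCx (I.map (algebraMap A B)) (fs.map (algebraMap A B))
    hspan K₀
  -- the `A`-side
  obtain ⟨e3⟩ := LDual.HD_RgammaI_equiv_HDI I ((DRing.restrictD (algebraMap A B)).obj K) i
  let e4 : (DRing.restrictD (algebraMap A B)).obj K ≅
      Q.obj (((ModuleCat.restrictScalars.{u} (algebraMap A B)).mapHomologicalComplex
        (ComplexShape.up ℤ)).obj K₀) :=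
    (DRing.restrictD (algebraMap A B)).mapIso e.symm ≪≫
      ((ModuleCat.restrictScalars.{u} (algebraMap A B)).mapDerivedCategoryFactors).app K₀
  obtain ⟨e5⟩ := nonempty_RgammaI_iso_cechCx I fs hfs
    (((ModuleCat.restrictScalars.{u} (algebraMap A B)).mapHomologicalComplex
        (ComplexShape.up ℤ)).obj K₀)
  have hF : List.Forall₂ (fun s s' => Nonempty
      (LocCompat (ModuleCat.restrictScalars.{u} (algebraMap A B)) s s'))
      (fs.map (algebraMap A B)) fs := by
    rw [List.forall₂_map_left_iff, List.forall₂_same]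
    exact fun x _ => ⟨locCompatRestrict x⟩
  obtain ⟨e6⟩ := nonempty_map_cechCx_iso (ModuleCat.restrictScalars.{u} (algebraMap A B)) K₀
    (fs.map (algebraMap A B)) fs hF
  let C : DRing.Cx B := cechCx K₀ (fs.map (algebraMap A B))
  let e7 : (DRing.RgammaI I).obj ((DRing.restrictD (algebraMap A B)).obj K) ≅
      (DRing.restrictD (algebraMap A B)).obj (Q.obj C) :=
    (DRing.RgammaI I).mapIso e4 ≪≫ e5 ≪≫ Q.mapIso e6.symm ≪≫
      (((ModuleCat.restrictScalars.{u} (algebraMap A B)).mapDerivedCategoryFactors).app C).symm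
  let e8 := NCFree.homologyMapDerivedCategoryIso (ModuleCat.restrictScalars.{u} (algebraMap A B))
    (Q.obj C) i
  let e9 : Dual.HD B (Q.obj C) i ≃ₗ[B] Dual2.HDI B (I.map (algebraMap A B)) K i :=
    ((homologyFunctor (ModuleCat.{u} B) i).mapIso
      ((DRing.RgammaI (I.map (algebraMap A B))).mapIso e.symm ≪≫ e2).symm).toLinearEquiv ≪≫ₗ e1
  exact ⟨(e3.symm ≪≫ₗ ((homologyFunctor (ModuleCat.{u} A) i).mapIso e7).toLinearEquiv ≪≫ₗ
    e8.toLinearEquiv ≪≫ₗ restrictEquiv (algebraMap A B) e9).toModuleIso⟩

end Groth.Agent.Lib.helper23.CechD
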