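import Mathlib
import Groth.Prelude.Def_DRing3
import Groth.Prelude.Def_DerCA
import Groth.Prelude.Def_DDual2
import Groth.Agent.Lib.Helper23.CechD2

/-!
# Extension of scalars is compatible with localisation (helper23)

* `isLocalizedModule_lTensor`, `isLocalizedModule_baseChange`.
* `LocCompat.ofIsLocalizedModule`.
* `locCompatExtend φ f : LocCompat (extendScalars φ) f (φ f)`.
-/

set_option autoImplicit false
universe u
open CategoryTheory CategoryTheory.Limits TensorProduct

namespace Groth.Agent.Lib.helper23.CechD

section General

variable {A : Type*} [CommRing A] (S : Submonoid A) (P : Type*) [AddCommGroup P] [Module A P]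
  {M M' : Type*} [AddCommGroup M] [Module A M] [AddCommGroup M'] [Module A M']
  (g : M →ₗ[A] M') [IsLocalizedModule S g]

/-- tensoring on the left preserves localisation maps -/
lemma isLocalizedModule_lTensor : IsLocalizedModule S (LinearMap.lTensor P g) := by
  have h : LinearMap.lTensor P g = (TensorProduct.comm A M' P).toLinearMap ∘ₗ
      (AlgebraTensorModule.rTensor A P g) ∘ₗ (TensorProduct.comm A P M).toLinearMap := by
    apply TensorProduct.ext'
    intro p m
    simp
  rw [h]
  infer_instance

variable (B : Type*) [CommRing B] [Algebra A B]

/-- base change preserves localisation maps -/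
lemma isLocalizedModule_baseChange :
    IsLocalizedModule (Algebra.algebraMapSubmonoid B S) (g.baseChange B) := by
  haveI : IsLocalizedModule S ((g.baseChange B).restrictScalars A) := by
    have : (g.baseChange B).restrictScalars A = LinearMap.lTensor B g := by
      apply TensorProduct.ext'
      intro b m
      simp
    rw [this]
    exact isLocalizedModule_lTensor S B g
  exact IsLocalizedModule.of_restrictScalars S (g.baseChange B)

end General

section Generic

variable {R R' : Type u} [CommRing R] [CommRing R'] (G : ModuleCat.{u} R ⥤ ModuleCat.{u} R')
  (s : R) (s' : R')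
  (hG : ∀ M : ModuleCat.{u} R, IsLocalizedModule (Submonoid.powers s')
    (G.map ((DerCA.locUnit (Submonoid.powers s)).app M)).hom)

/-- the comparison `G (M_s) ≃ (G M)_{s'}` -/
noncomputable def νG (M : ModuleCat.{u} R) :
    G.obj ((DerCA.locFunctor (Submonoid.powers s)).obj M) ≃ₗ[R']
      LocalizedModule (Submonoid.powers s') (G.obj M) :=
  haveI := hG M
  (IsLocalizedModule.iso (Submonoid.powers s')
    (G.map ((DerCA.locUnit (Submonoid.powers s)).app M)).hom).symm

lemma νG_apply (M : ModuleCat.{u} R) (x : G.obj M) :
    νG G s s' hG M ((G.map ((DerCA.locUnit (Submonoid.powers s)).app M)).hom x) =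
      LocalizedModule.mkLinearMap (Submonoid.powers s') (G.obj M) x :=
  haveI := hG M
  LinearMap.congr_fun (IsLocalizedModule.iso_symm_comp (Submonoid.powers s')
    (G.map ((DerCA.locUnit (Submonoid.powers s)).app M)).hom) x

/-- a functor sending localisation maps at `s` to localisation maps at `s'` is compatible
with localisation -/
noncomputable def LocCompat.ofIsLocalizedModule : LocCompat G s s' where
  ν := NatIso.ofComponents (fun N => (νG G s s' hG N).toModuleIso) (by
    intro N P g
    apply ModuleCat.hom_ext
    haveI := hG N
    apply IsLocalizedModule.linearMap_ext (Submonoid.powers s')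
      (G.map ((DerCA.locUnit (Submonoid.powers s)).app N)).hom
      (LocalizedModule.mkLinearMap (Submonoid.powers s') (G.obj P))
    ext x
    show νG G s s' hG P ((G.map ((DerCA.locFunctor (Submonoid.powers s)).map g)).hom
        ((G.map ((DerCA.locUnit (Submonoid.powers s)).app N)).hom x)) =
      (IsLocalizedModule.map (Submonoid.powers s')
        (LocalizedModule.mkLinearMap _ _) (LocalizedModule.mkLinearMap _ _)
          (G.map g).hom) (νG G s s' hG N ((G.map ((DerCA.locUnit (Submonoid.powers s)).app N)).hom x))
    rw [νG_apply, IsLocalizedModule.map_apply]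
    have h1 : (G.map ((DerCA.locFunctor (Submonoid.powers s)).map g)).hom
        ((G.map ((DerCA.locUnit (Submonoid.powers s)).app N)).hom x) =
        (G.map ((DerCA.locUnit (Submonoid.powers s)).app P)).hom ((G.map g).hom x) := by
      have h2 := congrArg (fun t => (G.map t).hom x)
        ((DerCA.locUnit (Submonoid.powers s)).naturality g)
      simp only [Functor.id_map, Functor.map_comp] at h2
      exact h2.symm
    rw [h1]
    exact νG_apply G s s' hG P ((G.map g).hom x))
  hν := fun N => by
    apply ModuleCat.hom_ext
    ext x
    exact νG_apply G s s' hG N x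

end Generic

section Extend

variable {A B : Type u} [CommRing A] [CommRing B] (φ : A →+* B)

lemma isLocalizedModule_extendScalars_map (f : A) (M : ModuleCat.{u} A) :
    IsLocalizedModule (Submonoid.powers (φ f))
      ((ModuleCat.extendScalars.{u, u, u} φ).map
        ((DerCA.locUnit (Submonoid.powers f)).app M)).hom := by
  letI : Algebra A B := ((algebraMap B B).comp φ).toAlgebra
  have h := isLocalizedModule_baseChange (Submonoid.powers f)
    (LocalizedModule.mkLinearMap (Submonoid.powers f) M) B
  rw [Algebra.algebraMapSubmonoid_powers] at h
  exact h

/-- extension of scalars commutes with localisation -/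
noncomputable def locCompatExtend (f : A) :
    LocCompat (ModuleCat.extendScalars.{u, u, u} φ) f (φ f) :=
  LocCompat.ofIsLocalizedModule _ f (φ f) (isLocalizedModule_extendScalars_map φ f)

end Extend

end Groth.Agent.Lib.helper23.CechD
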