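import Mathlib
import Groth.Prelude.Def_DRing3
import Groth.Prelude.Def_DerCA
import Groth.Prelude.Def_DDual2
import Groth.Prelude.Def_DualLC
import Groth.Agent.Lib.Helper23.CechD4
import Groth.Agent.Lib.Helper23.CechD5
import Groth.Agent.Lib.Helper23.FlatBC2

/-!
# Local cohomology commutes with flat base change (helper23, S1805)
-/

set_option autoImplicit false
universe u v w
open CategoryTheory CategoryTheory.Limits DerivedCategory TensorProduct

attribute [local instance] HasDerivedCategory.standard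

namespace Groth.Agent.Lib.helper23.CechD

open Groth.Agent.Lib.helper23

variable {A B : Type u} [CommRing A] [CommRing B] (φ : A →+* B)

/-- extension of scalars of a linear equivalence (across universes) -/
noncomputable def extendEquiv {X : Type v} {Y : Type w} [AddCommGroup X] [Module A X]
    [AddCommGroup Y] [Module A Y] (e : X ≃ₗ[A] Y) :
    (ModuleCat.extendScalars.{u, u, v} φ).obj (ModuleCat.of A X) ≃ₗ[B]
      (ModuleCat.extendScalars.{u, u, w} φ).obj (ModuleCat.of A Y) :=
  letI : Algebra A B := ((algebraMap B B).comp φ).toAlgebra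
  (TensorProduct.AlgebraTensorModule.congr (LinearEquiv.refl B B) e : B ⊗[A] X ≃ₗ[B] B ⊗[A] Y)

variable [IsNoetherianRing A] [IsNoetherianRing B]
  [PreservesFiniteLimits (ModuleCat.extendScalars.{u, u, u} φ)] [DRing.HasLBaseChange φ]

open FlatBC in
/-- local cohomology commutes with flat base change (general ring map form) -/
theorem HDI_LBaseChange (I : Ideal A) (K : Dual.D A) (i : ℤ) :
    Nonempty (Dual2.HDI B (I.map φ) ((DRing.LBaseChange φ).obj K) i ≅
      (ModuleCat.extendScalars φ).obj (Dual2.HDI A I K i)) := by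
  obtain ⟨fs, hfs⟩ := exists_list_span I
  haveI : DRing.HasRgammaI I := hasRgammaI I
  haveI : DRing.HasRgammaI (I.map φ) := hasRgammaI _
  let K₀ : DRing.Cx A := Q.objPreimage K
  let e : Q.obj K₀ ≅ K := Q.objObjPreimageIso K
  have hspan : Ideal.span {x : B | x ∈ fs.map φ} = I.map φ := by
    rw [span_map_list, hfs]
  -- the `A`-side
  obtain ⟨e1⟩ := LDual.HD_RgammaI_equiv_HDI I K i
  obtain ⟨e2⟩ := nonempty_RgammaI_iso_cechCx I fs hfs K₀
  -- the `B`-side
  obtain ⟨e3⟩ := LDual.HD_RgammaI_equiv_HDI (I.map φ) ((DRing.LBaseChange φ).obj K) i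
  let e4 : (DRing.LBaseChange φ).obj K ≅
      Q.obj (((ModuleCat.extendScalars.{u, u, u} φ).mapHomologicalComplex
        (ComplexShape.up ℤ)).obj K₀) :=
    (lbcIso φ).app K ≪≫ (extD φ).mapIso e.symm ≪≫
      ((ModuleCat.extendScalars.{u, u, u} φ).mapDerivedCategoryFactors).app K₀
  obtain ⟨e5⟩ := nonempty_RgammaI_iso_cechCx (I.map φ) (fs.map φ) hspan
    (((ModuleCat.extendScalars.{u, u, u} φ).mapHomologicalComplex (ComplexShape.up ℤ)).obj K₀)
  have hF : List.Forall₂ (fun s s' => Nonempty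
      (LocCompat (ModuleCat.extendScalars.{u, u, u} φ) s s')) fs (fs.map φ) := by
    rw [List.forall₂_map_right_iff, List.forall₂_same]
    exact fun x _ => ⟨locCompatExtend φ x⟩
  obtain ⟨e6⟩ := nonempty_map_cechCx_iso (ModuleCat.extendScalars.{u, u, u} φ) K₀
    fs (fs.map φ) hF
  let C : DRing.Cx A := cechCx K₀ fs
  let e7 : (DRing.RgammaI (I.map φ)).obj ((DRing.LBaseChange φ).obj K) ≅ (extD φ).obj (Q.obj C) :=
    (DRing.RgammaI (I.map φ)).mapIso e4 ≪≫ e5 ≪≫ Q.mapIso e6.symm ≪≫
      (((ModuleCat.extendScalars.{u, u, u} φ).mapDerivedCategoryFactors).app C).symm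
  let e8 := homologyExtDIso φ (Q.obj C) i
  let e9 : Dual.HD A (Q.obj C) i ≃ₗ[A] Dual2.HDI A I K i :=
    ((homologyFunctor (ModuleCat.{u} A) i).mapIso
      ((DRing.RgammaI I).mapIso e.symm ≪≫ e2).symm).toLinearEquiv ≪≫ₗ e1
  exact ⟨(e3.symm ≪≫ₗ ((homologyFunctor (ModuleCat.{u} B) i).mapIso e7).toLinearEquiv ≪≫ₗ
    e8.toLinearEquiv ≪≫ₗ extendEquiv φ e9).toModuleIso⟩

end Groth.Agent.Lib.helper23.CechD
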