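import Mathlib
import Groth.Prelude.Def_DRing3
import Groth.Prelude.Def_DerCA
import Groth.Prelude.Def_DDual2
import Groth.Prelude.Def_DualLC
import Groth.Agent.Lib.Helper23.CechD4

/-!
# Cohomological dimension of `RΓ_I` via the Čech complex (helper23)

* `isZero_cechCx_X`: the terms of `Č(K, fs)` vanish above `e + fs.length` if those of `K` vanish
  above `e`.
* `isZero_HD_RgammaI_of_isLE`: `H^j(RΓ_I X) = 0` for `X ∈ D^{≤ e}`, `j > e + r`, `I = (f₁, …, f_r)`.
* `subsingleton_HDI_of_isLE`.
* `isIso_homology_map_mor₂`.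
-/

set_option autoImplicit false
universe u
open CategoryTheory CategoryTheory.Limits DerivedCategory Pretriangulated

attribute [local instance] HasDerivedCategory.standard

namespace Groth.Agent.Lib.helper23.CechD

open Groth.Agent.Lib.helper23

variable {A : Type u} [CommRing A]

/-- the terms of `Č(K, fs)` vanish above `e + fs.length` -/
lemma isZero_cechCx_X (K : DRing.Cx A) (e : ℤ) (hK : ∀ n, e < n → IsZero (K.X n)) :
    ∀ (fs : List A) (n : ℤ), e + fs.length < n → IsZero ((cechCx K fs).X n)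
  | [], n, h => hK n (by simpa using h)
  | f :: fs, n, h => by
    refine IsZero.of_iso ?_ (DerCA.mappingCoconeXIso
      (DerCA.locCxUnit (Submonoid.powers f) (cechCx K fs)) n)
    rw [biprod_isZero_iff]
    have h' : e + (fs.length : ℤ) + 1 < n := by
      have : ((f :: fs).length : ℤ) = fs.length + 1 := by simp
      rw [this] at h
      omega
    exact ⟨isZero_cechCx_X K e hK fs n (by omega),
      (DerCA.locFunctor (Submonoid.powers f)).map_isZero
        (isZero_cechCx_X K e hK fs (n - 1) (by omega))⟩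

variable [IsNoetherianRing A] (I : Ideal A)

/-- cohomological dimension of `RΓ_I` -/
theorem isZero_HD_RgammaI_of_isLE [DRing.HasRgammaI I] (fs : List A)
    (hI : Ideal.span {x : A | x ∈ fs} = I) (X : Dual.D A) (e : ℤ) [X.IsLE e] (j : ℤ)
    (hj : e + fs.length < j) :
    IsZero ((homologyFunctor (ModuleCat.{u} A) j).obj ((DRing.RgammaI I).obj X)) := by
  obtain ⟨X₀, hX₀, ⟨eX⟩⟩ := DerivedCategory.exists_iso_Q_obj_of_isLE X e
  obtain ⟨e1⟩ := nonempty_RgammaI_iso_cechCx I fs hI X₀
  refine IsZero.of_iso ?_ ((homologyFunctor (ModuleCat.{u} A) j).mapIso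
    ((DRing.RgammaI I).mapIso eX ≪≫ e1) ≪≫
      (homologyFunctorFactors (ModuleCat.{u} A) j).app (cechCx X₀ fs))
  exact ShortComplex.isZero_homology_of_isZero_X₂ _
    (isZero_cechCx_X X₀ e (fun n hn => X₀.isZero_of_isStrictlyLE e n hn) fs j hj)

/-- cohomological dimension of local cohomology -/
theorem subsingleton_HDI_of_isLE (fs : List A)
    (hI : Ideal.span {x : A | x ∈ fs} = I) (X : Dual.D A) (e : ℤ) [X.IsLE e] (j : ℤ)
    (hj : e + fs.length < j) : Subsingleton (Dual2.HDI A I X j) := by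
  haveI : DRing.HasRgammaI I := hasRgammaI I
  obtain ⟨e1⟩ := LDual.HD_RgammaI_equiv_HDI I X j
  haveI : Subsingleton (Dual.HD A ((DRing.RgammaI I).obj X) j) :=
    ModuleCat.subsingleton_of_isZero (isZero_HD_RgammaI_of_isLE I fs hI X e j hj)
  exact e1.symm.toEquiv.subsingleton

omit [IsNoetherianRing A] in
/-- the homology sequence: `H^n(K) ≅ H^n(Y)` when `H^n(X) = 0 = H^{n+1}(X)` -/
lemma isIso_homology_map_mor₂ (T : Triangle (Dual.D A)) (hT : T ∈ distTriang _) (n : ℤ)
    (h0 : IsZero ((homologyFunctor (ModuleCat.{u} A) n).obj T.obj₁))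
    (h1 : IsZero ((homologyFunctor (ModuleCat.{u} A) (n + 1)).obj T.obj₁)) :
    IsIso ((homologyFunctor (ModuleCat.{u} A) n).map T.mor₂) := by
  haveI : Mono ((homologyFunctor (ModuleCat.{u} A) n).map T.mor₂) :=
    (DerivedCategory.HomologySequence.mono_homologyMap_mor₂_iff T hT n).2 (h0.eq_of_src _ _)
  haveI : Epi ((homologyFunctor (ModuleCat.{u} A) n).map T.mor₂) :=
    (DerivedCategory.HomologySequence.epi_homologyMap_mor₂_iff T hT n (n + 1) rfl).2
      (h1.eq_of_tgt _ _)
  exact isIso_of_mono_of_epi _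

end Groth.Agent.Lib.helper23.CechD
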