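import Mathlib
import Groth.Prelude.Def_DRing4
import Groth.Agent.Lib.Helper23.CxBid6

/-!
# Complex biduality, part 7 (helper23): computation of `ev` on `N[0]`
-/

set_option autoImplicit false
universe u
open CategoryTheory CategoryTheory.Limits DerivedCategory Pretriangulated Opposite
open CochainComplex.HomComplex
open scoped ZeroObject

attribute [local instance] HasDerivedCategory.standard

namespace Groth.Agent.Lib.helper23.CxBid

open Groth.Agent.Lib.helper23.RHomCx Groth.Agent.Lib.helper23.GorInv Groth.Agent.Lib.helper23.FinHom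
  Groth.Agent.Lib.helper23.DualD

variable {A : Type u} [CommRing A] (I : DRing.Cx A)

lemma δ_evCochain_of_cycle (K : DRing.Cx A) (p : ℤ) (x : K.X p)
    (hx : (K.d p (p + 1)).hom x = 0) :
    (DDc I K).d p (p + 1) (evCochain I K p x) = 0 := by
  show δ p (p + 1) (evCochain I K p x) = 0
  rw [δ_evCochain I K p (p + 1) rfl x, hx]
  exact map_zero (evF I K (p + 1))

/-- the identification `N[0]^0 ≅ N` -/
noncomputable abbrev ι₀ (N : ModuleCat.{u} A) : (S₀ N).X 0 ≅ N :=
  HomologicalComplex.singleObjXSelf (ComplexShape.up ℤ) 0 N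

lemma evCochain_comp_θ (N : ModuleCat.{u} A) (x : (S₀ N).X 0) :
    (Cochain.ofHom (θ I N)).comp (evCochain I (S₀ N) 0 x) (zero_add 0) =
      Cochain.ofHom (evCx I N ((ι₀ N).hom x)) := by
  refine Cochain.ext _ _ (fun j j' hj => ?_)
  obtain rfl : j = j' := by omega
  rw [Cochain.zero_cochain_comp_v, Cochain.ofHom_v, Cochain.ofHom_v]
  apply ModuleCat.hom_ext
  apply LinearMap.ext
  intro (φ : N ⟶ I.X j)
  rw [ModuleCat.hom_comp, LinearMap.comp_apply, evCx_f_apply]
  erw [θ_f_apply, evCochain_v_apply]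
  rw [Cochain.fromSingleMk_v, zero_mul, Int.negOnePow_zero, one_smul]
  rfl

end Groth.Agent.Lib.helper23.CxBid
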