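import Mathlib
import Groth.Prelude.Def_DRing4
import Groth.Agent.Lib.Helper23.CxBid7

/-!
# Complex biduality, part 8 (helper23): the base case `B I (N[0])` from module biduality
-/

set_option autoImplicit false
universe u
open CategoryTheory CategoryTheory.Limits DerivedCategory Pretriangulated Opposite
open CochainComplex.HomComplex
open scoped ZeroObject

attribute [local instance] HasDerivedCategory.standard

namespace Groth.Agent.Lib.helper23.CxBid

open Groth.Agent.Lib.helper23.RHomCx Groth.Agent.Lib.helper23.GorInv Groth.Agent.Lib.helper23.FinHom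
  Groth.Agent.Lib.helper23.DualD

variable {A : Type u} [CommRing A] (I : DRing.Cx A) [I.IsKInjective] [∀ j, Injective (I.X j)]

/-- the cocycle `ev(x)` for `x ∈ N[0]^0` -/
noncomputable def evCocycle (N : ModuleCat.{u} A) (x : (S₀ N).X 0) :
    Cocycle (DRing.homCx (S₀ N) I) I 0 :=
  mkCocycle (evCochain I (S₀ N) 0 x) (δ_evCochain_of_cycle I (S₀ N) 0 x (by
    have : (S₀ N).d 0 (0 + 1) = 0 := HomologicalComplex.single_obj_d _ _ _ _ _
    rw [this]; rfl))

lemma evCocycle_precomp_θ (N : ModuleCat.{u} A) (x : (S₀ N).X 0) :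
    (evCocycle I N x).precomp (θ I N) = Cocycle.ofHom (evCx I N ((ι₀ N).hom x)) := by
  apply Subtype.ext
  exact evCochain_comp_θ I N x

lemma Q_θ_comp_Ψ_evCocycle (N : ModuleCat.{u} A) (x : (S₀ N).X 0) :
    Q.map (θ I N) ≫ Ψ _ I 0 (evCocycle I N x) =
      Q.map (evCx I N ((ι₀ N).hom x)) ≫ Q.map (e₀ I) := by
  rw [← Ψ_precomp, evCocycle_precomp_θ, Ψ_ofHom]

theorem B_S₀ (N : ModuleCat.{u} A) (hN : (setup I).Good N) : B I (S₀ N) := by
  show IsIso (Q.map (ev I (S₀ N)))
  haveI : IsIso (e₀ I) := inferInstance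
  haveI : IsIso (Q.map (e₀ I)) := Functor.map_isIso _ _
  rw [isIso_Q_map_iff_quasiIso]
  apply quasiIso_of_elementwise
  · intro n (y : Cochain (DRing.homCx (S₀ N) I) I n) hy
    by_cases hn : n = 0
    · subst hn
      let c : Cocycle (DRing.homCx (S₀ N) I) I 0 := mkCocycle y hy
      let g : Q.obj ((DualD.homCx I).obj (op N)) ⟶ Q.obj I :=
        Q.map (θ I N) ≫ Ψ _ I 0 c ≫ inv (Q.map (e₀ I))
      obtain ⟨n₀, hn₀⟩ := hN.1.2 g
      have hn₀' : Q.map (evCx I N n₀) = Q.map (θ I N) ≫ Ψ _ I 0 c ≫ inv (Q.map (e₀ I)) := hn₀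
      let x : (S₀ N).X 0 := (ι₀ N).inv n₀
      have hx : (ι₀ N).hom x = n₀ := by
        show ((ι₀ N).inv ≫ (ι₀ N).hom) n₀ = n₀
        rw [Iso.inv_hom_id]; rfl
      have h2 : Ψ _ I 0 (evCocycle I N x - c) = 0 := by
        rw [map_sub, sub_eq_zero, ← cancel_epi (Q.map (θ I N)), Q_θ_comp_Ψ_evCocycle, hx, hn₀']
        simp
      obtain ⟨β, hβ⟩ := exists_coboundary_of_isKInjective _ h2
      refine ⟨x, β, ?_, ?_⟩
      · have : (S₀ N).d 0 (0 + 1) = 0 := HomologicalComplex.single_obj_d _ _ _ _ _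
        rw [this]; rfl
      · show evCochain I (S₀ N) 0 x = y + δ (0 - 1) 0 β
        rw [hβ]
        show evCochain I (S₀ N) 0 x = y + (evCochain I (S₀ N) 0 x - y)
        abel
    · let c : Cocycle (DRing.homCx (S₀ N) I) I n := mkCocycle y hy
      have hΨ : Ψ _ I n c = 0 := by
        have h1 : (Q.map (θ I N) ≫ Ψ _ I n c ≫ (Q.commShiftIso n).hom.app I :
            Q.obj ((DualD.homCx I).obj (op N)) ⟶ (Q.obj I)⟦n⟧) = 0 := hN.2 n hn _
        have h2 : Q.map (θ I N) ≫ Ψ _ I n c = 0 := by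
          rw [← cancel_mono ((Q.commShiftIso n).hom.app I), Category.assoc, h1, zero_comp]
        rw [← cancel_epi (Q.map (θ I N)), h2, comp_zero]
      obtain ⟨β, hβ⟩ := exists_coboundary_of_isKInjective c hΨ
      refine ⟨0, -β, map_zero _, ?_⟩
      rw [map_zero]
      show 0 = y + δ (n - 1) n (-β)
      rw [δ_neg, hβ]
      show 0 = y + -y
      abel
  · intro n x hx hb
    by_cases hn : n = 0
    · subst hn
      obtain ⟨b, hb⟩ := hb
      have hb' : δ (0 - 1) 0 b = (evCocycle I N x).1 := hb.symm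
      have h1 : Ψ _ I 0 (evCocycle I N x) = 0 := Ψ_eq_zero_of_coboundary _ b hb'
      have h2 : Q.map (evCx I N ((ι₀ N).hom x)) = 0 := by
        rw [← cancel_mono (Q.map (e₀ I)), ← Q_θ_comp_Ψ_evCocycle, h1, comp_zero, zero_comp]
      have h3 : (setup I).η N ((ι₀ N).hom x) = (setup I).η N 0 := by
        rw [map_zero]; exact h2
      have h4 : (ι₀ N).hom x = 0 := hN.1.1 h3
      have h5 : x = 0 := by
        have : ((ι₀ N).hom ≫ (ι₀ N).inv) x = x := by rw [Iso.hom_inv_id]; rfl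
        rw [← this]
        show (ι₀ N).inv ((ι₀ N).hom x) = 0
        rw [h4, map_zero]
      exact ⟨0, by rw [h5, map_zero]⟩
    · haveI : Subsingleton ((S₀ N).X n) :=
        ModuleCat.subsingleton_of_isZero (HomologicalComplex.isZero_single_obj_X _ _ _ _ hn)
      exact ⟨0, Subsingleton.elim _ _⟩

end Groth.Agent.Lib.helper23.CxBid
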