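import Mathlib
import Groth.Prelude.Def_DRing4
import Groth.Agent.Lib.Helper23.CxBid8

/-!
# Complex biduality, part 9 (helper23): the main theorem

`biduality_cx`: for a bounded complex `I` of injectives representing a dualizing complex over a
Noetherian ring and any complex `K` with finite cohomology modules, the evaluation map
`K ⟶ Hom•(Hom•(K, I), I)` is a quasi-isomorphism.
-/

set_option autoImplicit false
universe u
open CategoryTheory CategoryTheory.Limits DerivedCategory Pretriangulated Opposite
open CochainComplex.HomComplex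
open scoped ZeroObject

attribute [local instance] HasDerivedCategory.standard

namespace Groth.Agent.Lib.helper23.CxBid

open Groth.Agent.Lib.helper23.RHomCx Groth.Agent.Lib.helper23.GorInv Groth.Agent.Lib.helper23.FinHom
  Groth.Agent.Lib.helper23.DualD

variable {A : Type u} [CommRing A] (I : DRing.Cx A) [I.IsKInjective] [∀ j, Injective (I.X j)]

theorem B_of_single (hgood : ∀ N : ModuleCat.{u} A, Module.Finite A N → (setup I).Good N)
    (K : DRing.Cx A) (n : ℤ) (h1 : (Q.obj K).IsGE n) (h2 : (Q.obj K).IsLE n)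
    (hf : Module.Finite A (Hn K n)) : B I K := by
  obtain ⟨Y, ⟨e⟩⟩ := exists_iso_singleFunctor_obj_of_isGE_of_isLE (Q.obj K) n
  have eY : Hn K n ≅ Y := (homologyFunctor (ModuleCat.{u} A) n).mapIso e ≪≫
    (singleFunctorCompHomologyFunctorIso (ModuleCat.{u} A) n).app Y
  haveI : Module.Finite A Y := Module.Finite.equiv eY.toLinearEquiv
  have e2 : Q.obj ((S₀ Y)⟦-n⟧) ≅ Q.obj K :=
    (Q.commShiftIso (-n)).app (S₀ Y) ≪≫
      (shiftFunctor (Dual.D A) (-n)).mapIso ((singleFunctorIsoCompQ (ModuleCat.{u} A) 0).app Y).symm ≪≫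
      ((singleFunctors (ModuleCat.{u} A)).shiftIso (-n) n 0 (by omega)).app Y ≪≫ e.symm
  exact B_of_iso I e2 ((B_shift_iff I (S₀ Y) (-n)).2 (B_S₀ I Y (hgood Y inferInstance)))

theorem B_of_good (a b : ℤ) (hI : DRing.HasInjAmplitudeIn A a b (Q.obj I))
    (hgood : ∀ N : ModuleCat.{u} A, Module.Finite A N → (setup I).Good N)
    (K : DRing.Cx A) (hf : ∀ j, Module.Finite A (Hn K j)) : B I K :=
  B_of_finite I (B_of_single I hgood) a b hI K hf

/-- **Biduality for complexes.** -/
theorem biduality_cx [IsNoetherianRing A] {ω : Dual.D A} (hω : Dual.IsDualizing A ω) (M : Model ω)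
    (K : DRing.Cx A) (hf : ∀ j, Module.Finite A (Hn K j)) :
    haveI := M.isKInjective
    IsIso (Q.map (ev M.I K)) := by
  haveI := M.isKInjective
  exact B_of_good M.I M.a M.b ⟨M.I, M.zero,
    fun j => (Module.injective_iff_injective_object A (M.I.X j)).2 (M.inj j), ⟨Iso.refl _⟩⟩
    (M.good hω) K hf

end Groth.Agent.Lib.helper23.CxBid
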