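import Mathlib
import Groth.Prelude.Def_DRing4
import Groth.Agent.Lib.Helper23.CxBid9
import Groth.Agent.Lib.Helper23.RHomCx2

/-!
# Complex biduality, part 10 (helper23): `RHom(-, ω)` on objects of `D(A)`

* `nonempty_iso_D_of_iso`: `Q E ≅ Q E'` implies `Q (Hom•(E, I)) ≅ Q (Hom•(E', I))`;
* `finite_homology_D`: finiteness of `H^i(Hom•(K, I))`;
* `nonempty_biduality_iso`: `Q E ≅ Q (Hom•(K, I))` implies `Q (Hom•(E, I)) ≅ Q K`.
-/

set_option autoImplicit false
universe u
open CategoryTheory CategoryTheory.Limits DerivedCategory Pretriangulated Opposite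
open CochainComplex.HomComplex
open scoped ZeroObject

attribute [local instance] HasDerivedCategory.standard

namespace Groth.Agent.Lib.helper23.CxBid

open Groth.Agent.Lib.helper23.RHomCx Groth.Agent.Lib.helper23.GorInv Groth.Agent.Lib.helper23.FinHom
  Groth.Agent.Lib.helper23.DualD

variable {A : Type u} [CommRing A]

lemma nonempty_iso_D_of_iso (I : DRing.Cx A) [I.IsKInjective] {E E' : DRing.Cx A}
    (e : Q.obj E ≅ Q.obj E') :
    Nonempty (Q.obj (DRing.homCx E I) ≅ Q.obj (DRing.homCx E' I)) := by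
  obtain ⟨X', s, hs, g, hfac⟩ := DerivedCategory.right_fac e.hom
  haveI : QuasiIso s := (isIso_Q_map_iff_quasiIso (φ := s)).1 hs
  have hg : IsIso (Q.map g) := by
    have h1 : Q.map g = Q.map s ≫ e.hom := by rw [hfac, IsIso.hom_inv_id_assoc]
    rw [h1]; infer_instance
  haveI : QuasiIso g := (isIso_Q_map_iff_quasiIso (φ := g)).1 hg
  haveI := quasiIso_homCxMapLeft s I
  haveI := quasiIso_homCxMapLeft g I
  haveI : IsIso (Q.map (homCxMapLeft s I)) := by
    rw [isIso_Q_map_iff_quasiIso]; infer_instance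
  haveI : IsIso (Q.map (homCxMapLeft g I)) := by
    rw [isIso_Q_map_iff_quasiIso]; infer_instance
  exact ⟨asIso (Q.map (homCxMapLeft s I)) ≪≫ (asIso (Q.map (homCxMapLeft g I))).symm⟩

section

variable [IsNoetherianRing A] {ω : Dual.D A} (hω : Dual.IsDualizing A ω) (M : Model ω)

include hω

lemma finite_homology_D (K : DRing.Cx A) (hf : ∀ j, Module.Finite A (Hn K j)) (i : ℤ) :
    Module.Finite A (Hn (DRing.homCx K M.I) i) := by
  haveI := M.isKInjective
  have hL : ∀ j : ℤ, Module.Finite A ((homologyFunctor (ModuleCat.{u} A) j).obj (Q.obj M.I)) :=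
    fun j => by
      haveI : Module.Finite A ((homologyFunctor (ModuleCat.{u} A) j).obj ω) :=
        hω.finite_cohomology j
      exact Module.Finite.equiv
        ((homologyFunctor (ModuleCat.{u} A) j).mapIso M.e).toLinearEquiv.symm
  have hamp : DRing.HasInjAmplitudeIn A M.a M.b (Q.obj M.I) := ⟨M.I, M.zero,
    fun j => (Module.injective_iff_injective_object A (M.I.X j)).2 (M.inj j), ⟨Iso.refl _⟩⟩
  haveI : Module.Finite A (Q.obj K ⟶ (Q.obj M.I)⟦i⟧) :=
    finite_hom (Q.obj K) (Q.obj M.I) hf hL M.a M.b hamp i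
  exact Module.Finite.equiv (homologyDEquiv M.I K i).symm

lemma nonempty_biduality_iso (K : DRing.Cx A) (hf : ∀ j, Module.Finite A (Hn K j))
    (E : DRing.Cx A) (e : Q.obj E ≅ Q.obj (DRing.homCx K M.I)) :
    Nonempty (Q.obj (DRing.homCx E M.I) ≅ Q.obj K) := by
  haveI := M.isKInjective
  obtain ⟨e1⟩ := nonempty_iso_D_of_iso M.I e
  haveI : IsIso (Q.map (ev M.I K)) := biduality_cx hω M K hf
  exact ⟨e1 ≪≫ (asIso (Q.map (ev M.I K))).symm⟩

end

end Groth.Agent.Lib.helper23.CxBid
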