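import Mathlib
import Groth.Prelude.Def_DRing4
import Groth.Agent.Lib.Helper23.CxBid10

/-!
# Complex biduality, part 11 (helper23): `Hom•(K, L)⟦-a⟧ ≅ Hom•(K⟦a⟧, L)`
-/

set_option autoImplicit false
universe u
open CategoryTheory CategoryTheory.Limits DerivedCategory Pretriangulated Opposite
open CochainComplex.HomComplex
open scoped ZeroObject

attribute [local instance] HasDerivedCategory.standard

namespace Groth.Agent.Lib.helper23.CxBid

open Groth.Agent.Lib.helper23.RHomCx Groth.Agent.Lib.helper23.GorInv Groth.Agent.Lib.helper23.FinHom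
  Groth.Agent.Lib.helper23.DualD

variable {A : Type u} [CommRing A]

/-- `Hom•(K, L)⟦-a⟧ ⟶ Hom•(K⟦a⟧, L)` -/
noncomputable def homCxShiftHom (K L : DRing.Cx A) (a : ℤ) :
    (DRing.homCx K L)⟦-a⟧ ⟶ DRing.homCx (K⟦a⟧) L where
  f n' := ModuleCat.ofHom (Cochain.leftShiftLinearEquiv A K L (n' + -a) a n' (by omega)).toLinearMap
  comm' n' m' h := by
    ext (γ : Cochain K L (n' + -a))
    show δ n' m' (γ.leftShift a n' (by omega)) =
      (((-a).negOnePow • (DRing.homCx K L).d (n' + -a) (m' + -a)).hom γ :
        Cochain K L (m' + -a)).leftShift a m' (by omega)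
    rw [Cochain.δ_leftShift γ a n' m' (by omega) (m' + -a) (by omega)]
    have : ((-a).negOnePow • (DRing.homCx K L).d (n' + -a) (m' + -a)).hom γ =
        a.negOnePow • δ (n' + -a) (m' + -a) γ := by
      rw [Int.negOnePow_neg]
      rfl
    rw [this, Cochain.leftShift_units_smul]

instance (K L : DRing.Cx A) (a : ℤ) : IsIso (homCxShiftHom K L a) := by
  haveI : ∀ n', IsIso ((homCxShiftHom K L a).f n') := fun n' =>
    (Cochain.leftShiftLinearEquiv A K L (n' + -a) a n' (by omega)).toModuleIso.isIso_hom
  exact HomologicalComplex.Hom.isIso_of_components _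

end Groth.Agent.Lib.helper23.CxBid
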