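import Mathlib
import Groth.Prelude.Def_Wider
import Groth.Agent.Lib.Helper23.GorInv0
import Groth.Agent.Lib.Helper23.SplitTrunc
import Groth.Agent.Lib.Helper23.ProjCorep
import Groth.Agent.Lib.Helper23.Conc
import Groth.Agent.Lib.Helper23.FinHom1
import Groth.Agent.Lib.Helper23.FlatBC2
import Groth.Agent.Lib.Helper23.FBC6
import Groth.Agent.Lib.Helper23.DualD6

/-!
# A criterion for an object of `D(A)`, `A` Noetherian local, to be a shift of `A` (helper23)

`nonempty_iso_shift_of_hom_residue`: let `X` be bounded above with finite cohomology and `Y ≅ κ[0]`.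
If `Hom(X, Y⟦j⟧) = 0` for `j ≠ t₀` and `Hom(X, Y⟦t₀⟧)` is nonzero cyclic, then `X ≅ A[0]⟦t₀⟧`.
-/

set_option autoImplicit false
universe u
open CategoryTheory CategoryTheory.Limits DerivedCategory Pretriangulated

attribute [local instance] HasDerivedCategory.standard

namespace Groth.Agent.Lib.helper23.GorInv

variable {A : Type u} [CommRing A]

/-- a module in degree `0` -/
noncomputable abbrev sg0 (N : ModuleCat.{u} A) : Dual.D A :=
  (singleFunctor (ModuleCat.{u} A) 0).obj N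

lemma isZero_of_homology' (X : Dual.D A)
    (h : ∀ n : ℤ, IsZero ((homologyFunctor (ModuleCat.{u} A) n).obj X)) : IsZero X := by
  haveI : X.IsLE 0 := (isLE_iff X 0).2 (fun i _ => h i)
  haveI : X.IsGE 1 := (isGE_iff X 1).2 (fun i _ => h i)
  exact (TStructure.t (C := ModuleCat.{u} A)).isZero X 0 1 (by omega)

/-- `H^0` of a morphism between modules in degree `0` -/
lemma homologyMap_sg0_map {N N' : ModuleCat.{u} A} (g : N ⟶ N') :
    (homologyFunctor (ModuleCat.{u} A) 0).map ((singleFunctor (ModuleCat.{u} A) 0).map g) =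
      (singleFunctorCompHomologyFunctorIso (ModuleCat.{u} A) 0).hom.app N ≫ g ≫
        (singleFunctorCompHomologyFunctorIso (ModuleCat.{u} A) 0).inv.app N' := by
  have h := (singleFunctorCompHomologyFunctorIso (ModuleCat.{u} A) 0).hom.naturality g
  have h' : (homologyFunctor (ModuleCat.{u} A) 0).map ((singleFunctor (ModuleCat.{u} A) 0).map g) ≫
      (singleFunctorCompHomologyFunctorIso (ModuleCat.{u} A) 0).hom.app N' =
      (singleFunctorCompHomologyFunctorIso (ModuleCat.{u} A) 0).hom.app N ≫ g := h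
  rw [← Category.assoc, ← h', Category.assoc, Iso.hom_inv_id_app]
  exact (Category.comp_id _).symm

/-- the projection of an object of `D^{≤ 0}` to its top cohomology -/
lemma exists_top_map (X : Dual.D A) [X.IsLE 0] :
    ∃ (N : ModuleCat.{u} A) (π : X ⟶ sg0 N),
      IsIso ((homologyFunctor (ModuleCat.{u} A) 0).map π) ∧
      Nonempty (N ≅ (homologyFunctor (ModuleCat.{u} A) 0).obj X) := by
  let t := TStructure.t (C := ModuleCat.{u} A)
  let X₁ := (t.truncGE 0).obj X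
  haveI : X₁.IsGE 0 := by dsimp [X₁]; infer_instance
  haveI : X₁.IsLE 0 := by dsimp [X₁]; infer_instance
  obtain ⟨N, ⟨e⟩⟩ := exists_iso_singleFunctor_obj_of_isGE_of_isLE X₁ 0
  haveI := SplitTrunc.isIso_homologyMap_truncGEπ X 0 0 le_rfl
  let π : X ⟶ sg0 N := (t.truncGEπ 0).app X ≫ e.hom
  have hπ : IsIso ((homologyFunctor (ModuleCat.{u} A) 0).map π) := by
    dsimp only [π]
    rw [Functor.map_comp]
    infer_instance
  refine ⟨N, π, hπ, ⟨?_⟩⟩
  haveI := hπ
  exact ((singleFunctorCompHomologyFunctorIso (ModuleCat.{u} A) 0).app N).symm ≪≫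
    (asIso ((homologyFunctor (ModuleCat.{u} A) 0).map π)).symm

section ModuleLemmas

variable [IsLocalRing A]

open IsLocalRing

/-- a nontrivial finite module over a local ring surjects onto the residue field -/
lemma exists_surjective_residue (N : Type u) [AddCommGroup N] [Module A N] [Module.Finite A N]
    [Nontrivial N] : ∃ g : N →ₗ[A] A ⧸ maximalIdeal A, Function.Surjective g := by
  obtain h | ⟨N', hN', -⟩ := eq_top_or_exists_le_coatom (⊥ : Submodule A N)
  · exact absurd h bot_ne_top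
  · haveI : IsSimpleModule A (N ⧸ N') := isSimpleModule_iff_isCoatom.2 hN'
    obtain ⟨I, hI, ⟨e⟩⟩ := isSimpleModule_iff_quot_maximal.1 this
    have hIm : I = maximalIdeal A := IsLocalRing.eq_maximalIdeal hI
    subst hIm
    exact ⟨e.toLinearMap ∘ₗ N'.mkQ, e.surjective.comp N'.mkQ_surjective⟩

lemma smul_residue_eq_zero (c : A) (hc : c ∈ maximalIdeal A) (x : A ⧸ maximalIdeal A) :
    c • x = 0 := by
  obtain ⟨x, rfl⟩ := Ideal.Quotient.mk_surjective x
  rw [← Ideal.Quotient.mk_eq_mk, ← Submodule.Quotient.mk_smul, Submodule.Quotient.mk_eq_zero]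
  exact (maximalIdeal A).mul_mem_right x hc

/-- a finite module whose maps to the residue field form an at most one-dimensional space is cyclic -/
lemma exists_span_singleton_eq_top (N : Type u) [AddCommGroup N] [Module A N] [Module.Finite A N]
    (h : ∀ g₁ g₂ : N →ₗ[A] A ⧸ maximalIdeal A, g₁ ≠ 0 → ∃ c : A, g₂ = c • g₁) :
    ∃ v : N, Submodule.span A {v} = ⊤ := by
  by_cases hN : Nontrivial N
  · obtain ⟨g₁, hg₁⟩ := exists_surjective_residue (A := A) N
    obtain ⟨v, hv⟩ := hg₁ 1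
    refine ⟨v, ?_⟩
    by_contra hne
    let N' := Submodule.span A {v}
    haveI : Nontrivial (N ⧸ N') := Submodule.Quotient.nontrivial_iff.2 hne
    obtain ⟨g', hg'⟩ := exists_surjective_residue (A := A) (N ⧸ N')
    let g₂ : N →ₗ[A] A ⧸ maximalIdeal A := g' ∘ₗ N'.mkQ
    have hg₁0 : g₁ ≠ 0 := by
      intro h0
      have : (1 : A ⧸ maximalIdeal A) = 0 := by rw [← hv, h0]; rfl
      exact one_ne_zero this
    obtain ⟨c, hc⟩ := h g₁ g₂ hg₁0
    have h2 : g₂ v = 0 := by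
      have h0 : N'.mkQ v = 0 :=
        (Submodule.Quotient.mk_eq_zero N').2 (Submodule.mem_span_singleton_self v)
      show g' (N'.mkQ v) = 0
      rw [h0]
      exact map_zero g'
    have h3 : c • (1 : A ⧸ maximalIdeal A) = 0 := by
      rw [← hv, ← LinearMap.smul_apply, ← hc, h2]
    have hcm : c ∈ maximalIdeal A := by
      rw [Algebra.smul_def, mul_one] at h3
      exact Ideal.Quotient.eq_zero_iff_mem.1 h3
    have hg₂0 : g₂ = 0 := by
      rw [hc]
      ext x
      exact smul_residue_eq_zero c hcm _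
    obtain ⟨y, hy⟩ := hg' 1
    obtain ⟨y, rfl⟩ := N'.mkQ_surjective y
    have : (1 : A ⧸ maximalIdeal A) = 0 := by
      rw [← hy]
      exact LinearMap.congr_fun hg₂0 y
    exact one_ne_zero this
  · rw [not_nontrivial_iff_subsingleton] at hN
    exact ⟨0, Subsingleton.elim _ _⟩

/-- maps `A → κ` form a one-dimensional space -/
lemma exists_smul_eq_of_ne_zero (h h' : A →ₗ[A] A ⧸ maximalIdeal A) (hh : h ≠ 0) :
    ∃ c : A, h' = c • h := by
  obtain ⟨b, hb⟩ := Ideal.Quotient.mk_surjective (h 1)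
  have hbu : IsUnit b := by
    by_contra hnu
    have hbm : b ∈ maximalIdeal A := (IsLocalRing.mem_maximalIdeal b).2 hnu
    apply hh
    ext
    rw [← hb]
    simpa using Ideal.Quotient.eq_zero_iff_mem.2 hbm
  obtain ⟨a, ha⟩ := hbu.exists_left_inv
  obtain ⟨c, hc⟩ := Ideal.Quotient.mk_surjective (h' 1)
  refine ⟨c * a, ?_⟩
  ext
  simp only [LinearMap.smul_apply]
  rw [← hb, ← hc]
  show _ = (c * a) • Ideal.Quotient.mk _ b
  rw [Algebra.smul_def]
  show _ = Ideal.Quotient.mk _ (c * a) * Ideal.Quotient.mk _ b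
  rw [← map_mul, mul_assoc, ha, mul_one]

end ModuleLemmas

section Local

variable [IsLocalRing A] [IsNoetherianRing A]

open IsLocalRing

/-- the residue field as a module -/
noncomputable abbrev kk (A : Type u) [CommRing A] [IsLocalRing A] : ModuleCat.{u} A :=
  ModuleCat.of A (A ⧸ maximalIdeal A)

variable (Y : Dual.D A) (eY : Y ≅ sg0 (kk A))

/-- maps out of the top cohomology module give maps to `Y` -/
noncomputable def Λ {X : Dual.D A} {N : ModuleCat.{u} A} (π : X ⟶ sg0 N) (g : N ⟶ kk A) : X ⟶ Y :=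
  π ≫ (singleFunctor (ModuleCat.{u} A) 0).map g ≫ eY.inv

lemma Λ_smul {X : Dual.D A} {N : ModuleCat.{u} A} (π : X ⟶ sg0 N) (c : A) (g : N ⟶ kk A) :
    Λ Y eY π (c • g) = c • Λ Y eY π g := by
  dsimp only [Λ]
  rw [Functor.map_smul, Linear.smul_comp, Linear.comp_smul]

lemma Λ_injective {X : Dual.D A} {N : ModuleCat.{u} A} (π : X ⟶ sg0 N)
    (hπ : IsIso ((homologyFunctor (ModuleCat.{u} A) 0).map π)) :
    Function.Injective (Λ Y eY π (N := N)) := by
  intro g g' h
  dsimp only [Λ] at h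
  have h1 : π ≫ (singleFunctor (ModuleCat.{u} A) 0).map g =
      π ≫ (singleFunctor (ModuleCat.{u} A) 0).map g' := by
    have h' := congrArg (fun z => z ≫ eY.hom) h
    simpa using h'
  have h2 := congrArg (fun z => (homologyFunctor (ModuleCat.{u} A) 0).map z) h1
  simp only [Functor.map_comp] at h2
  have h3 : (homologyFunctor (ModuleCat.{u} A) 0).map ((singleFunctor (ModuleCat.{u} A) 0).map g) =
      (homologyFunctor (ModuleCat.{u} A) 0).map ((singleFunctor (ModuleCat.{u} A) 0).map g') :=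
    (cancel_epi ((homologyFunctor (ModuleCat.{u} A) 0).map π)).1 h2
  rw [homologyMap_sg0_map, homologyMap_sg0_map] at h3
  have h4 := congrArg (fun z =>
    (singleFunctorCompHomologyFunctorIso (ModuleCat.{u} A) 0).inv.app N ≫ z ≫
      (singleFunctorCompHomologyFunctorIso (ModuleCat.{u} A) 0).hom.app (kk A)) h3
  simpa using h4

lemma smul_id_kk_eq_zero (c : A) (hc : c ∈ maximalIdeal A) : c • 𝟙 (kk A) = 0 := by
  apply ModuleCat.hom_ext
  apply LinearMap.ext
  intro x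
  exact smul_residue_eq_zero c hc x

include eY in
lemma smul_hom_eq_zero {X : Dual.D A} (c : A) (hc : c ∈ maximalIdeal A) (φ : X ⟶ Y) :
    c • φ = 0 := by
  have h1 : c • 𝟙 Y = eY.hom ≫ (c • 𝟙 (sg0 (kk A))) ≫ eY.inv := by
    rw [Linear.smul_comp, Linear.comp_smul, Category.id_comp, Iso.hom_inv_id]
  have h2 : c • 𝟙 (sg0 (kk A)) = 0 := by
    have := Functor.map_smul (singleFunctor (ModuleCat.{u} A) 0) c (𝟙 (kk A))
    rw [CategoryTheory.Functor.map_id] at this
    rw [← this, smul_id_kk_eq_zero c hc, Functor.map_zero]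
  have h3 : c • φ = φ ≫ (c • 𝟙 Y) := by
    rw [Linear.comp_smul, Category.comp_id]
  rw [h3, h1, h2, zero_comp, comp_zero, comp_zero]

instance : Projective (ModuleCat.of A A) :=
  (IsProjective.iff_projective (R := A) A).1 inferInstance

lemma isGE_Y (eY : Y ≅ sg0 (kk A)) : Y.IsGE 0 :=
  (TStructure.t (C := ModuleCat.{u} A)).isGE_of_iso eY.symm 0

lemma isLE_Y (eY : Y ≅ sg0 (kk A)) : Y.IsLE 0 :=
  (TStructure.t (C := ModuleCat.{u} A)).isLE_of_iso eY.symm 0

include eY in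
/-- a nonzero map to `Y` from an object of `D^{≤ 0}` with nonzero finite top cohomology -/
lemma exists_hom_ne_zero (X : Dual.D A) [X.IsLE 0]
    (hfin : Module.Finite A ((homologyFunctor (ModuleCat.{u} A) 0).obj X))
    (hne : ¬ IsZero ((homologyFunctor (ModuleCat.{u} A) 0).obj X)) :
    ∃ φ : X ⟶ Y, φ ≠ 0 := by
  obtain ⟨N, π, hπ, ⟨eN⟩⟩ := exists_top_map X
  haveI : Module.Finite A N := Module.Finite.equiv eN.toLinearEquiv.symm
  haveI : Nontrivial N := by
    by_contra hN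
    rw [not_nontrivial_iff_subsingleton] at hN
    exact hne ((ModuleCat.isZero_of_subsingleton N).of_iso eN.symm)
  obtain ⟨g, hg⟩ := exists_surjective_residue (A := A) N
  refine ⟨Λ Y eY π (ModuleCat.ofHom g), fun h0 => ?_⟩
  have h1 : Λ Y eY π (ModuleCat.ofHom g) = Λ Y eY π 0 := by
    rw [h0]
    dsimp only [Λ]
    rw [Functor.map_zero, zero_comp, comp_zero]
  have h2 := Λ_injective Y eY π hπ h1
  obtain ⟨x, hx⟩ := hg 1
  have h3 : g x = 0 := by
    have := congrArg (fun z => z.hom x) h2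
    simpa using this
  rw [hx] at h3
  exact one_ne_zero h3

include eY in
/-- lowering the bound on the cohomology -/
lemma isLE_pred (X : Dual.D A) (s : ℤ) [X.IsLE s]
    (hfin : Module.Finite A ((homologyFunctor (ModuleCat.{u} A) s).obj X))
    (hv : ∀ φ : X ⟶ Y⟦-s⟧, φ = 0) : X.IsLE (s - 1) := by
  rw [isLE_iff]
  intro i hi
  by_cases his : i = s
  · subst his
    by_contra hne
    haveI : (X⟦i⟧).IsLE 0 := (TStructure.t (C := ModuleCat.{u} A)).isLE_shift X i i 0 (by omega)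
    let e0 : (homologyFunctor (ModuleCat.{u} A) 0).obj (X⟦i⟧) ≅
        (homologyFunctor (ModuleCat.{u} A) i).obj X := FlatBC.homologyShiftIso X i 0 i (by omega)
    have hfin' : Module.Finite A ((homologyFunctor (ModuleCat.{u} A) 0).obj (X⟦i⟧)) :=
      Module.Finite.equiv e0.toLinearEquiv.symm
    have hne' : ¬ IsZero ((homologyFunctor (ModuleCat.{u} A) 0).obj (X⟦i⟧)) :=
      fun h => hne (h.of_iso e0.symm)
    obtain ⟨φ', hφ'⟩ := exists_hom_ne_zero Y eY (X⟦i⟧) hfin' hne'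
    have h1 := hv ((shiftShiftNeg X i).inv ≫ φ'⟦-i⟧')
    apply hφ'
    have h2 : φ'⟦-i⟧' = 0 := by
      rw [← cancel_epi (shiftShiftNeg X i).inv, h1, comp_zero]
    exact (shiftFunctor (Dual.D A) (-i)).map_injective (by rw [h2, Functor.map_zero])
  · exact isZero_of_isLE X s i (by omega)

include eY in
/-- an object bounded above with finite cohomology and no maps to the shifts of `κ` is zero -/
lemma isZero_of_forall_hom_eq_zero (X : Dual.D A) (b : ℤ) [X.IsLE b]
    (hfin : ∀ i : ℤ, Module.Finite A ((homologyFunctor (ModuleCat.{u} A) i).obj X))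
    (hv : ∀ (j : ℤ) (φ : X ⟶ Y⟦j⟧), φ = 0) : IsZero X := by
  have hle : ∀ n : ℕ, X.IsLE (b - n) := by
    intro n
    induction n with
    | zero =>
      have h : b - ((0 : ℕ) : ℤ) = b := by simp
      rw [h]
      infer_instance
    | succ n ih =>
      haveI := ih
      have h1 := isLE_pred Y eY X (b - n) (hfin _) (hv _)
      have h : b - (n : ℤ) - 1 = b - ((n + 1 : ℕ) : ℤ) := by push_cast; ring
      rw [← h]
      exact h1
  apply isZero_of_homology'
  intro i
  obtain ⟨n, hn⟩ : ∃ n : ℕ, b - (n : ℤ) < i := ⟨(b - i + 1).toNat, by omega⟩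
  haveI := hle n
  exact isZero_of_isLE X (b - n) i hn

include eY in
/-- no maps to the negative shifts of `κ` bounds the cohomology by `0` -/
lemma isLE_zero_of_forall_hom_eq_zero (X : Dual.D A) (b : ℤ) [X.IsLE b]
    (hfin : ∀ i : ℤ, Module.Finite A ((homologyFunctor (ModuleCat.{u} A) i).obj X))
    (hv : ∀ (j : ℤ), j ≠ 0 → ∀ (φ : X ⟶ Y⟦j⟧), φ = 0) : X.IsLE 0 := by
  let b' : ℤ := max b 0
  haveI : X.IsLE b' := (TStructure.t (C := ModuleCat.{u} A)).isLE_of_le X b b' (le_max_left b 0)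
  have hle : ∀ n : ℕ, (n : ℤ) ≤ b' → X.IsLE (b' - n) := by
    intro n
    induction n with
    | zero =>
      intro _
      have h : b' - ((0 : ℕ) : ℤ) = b' := by simp
      rw [h]
      infer_instance
    | succ n ih =>
      intro hn
      haveI := ih (by push_cast at hn; omega)
      have h1 := isLE_pred Y eY X (b' - n) (hfin _) (hv _ (by push_cast at hn; omega))
      have h : b' - (n : ℤ) - 1 = b' - ((n + 1 : ℕ) : ℤ) := by push_cast; ring
      rw [← h]
      exact h1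
  have h0 : (0 : ℤ) ≤ b' := le_max_right b 0
  have h := hle b'.toNat (by omega)
  have h' : b' - (b'.toNat : ℤ) = 0 := by omega
  rw [h'] at h
  exact h

include eY in
/-- the top cohomology is cyclic when `Hom(X, Y)` is -/
lemma exists_cyclic_top (X : Dual.D A) [X.IsLE 0]
    (hfin : Module.Finite A ((homologyFunctor (ModuleCat.{u} A) 0).obj X))
    (hcyc : IsCyc A (X ⟶ Y)) :
    ∃ (N : ModuleCat.{u} A) (π : X ⟶ sg0 N) (p : ModuleCat.of A A ⟶ N) (g : N ⟶ kk A),
      IsIso ((homologyFunctor (ModuleCat.{u} A) 0).map π) ∧ Function.Surjective p ∧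
        Function.Surjective g := by
  obtain ⟨N, π, hπ, ⟨eN⟩⟩ := exists_top_map X
  haveI : Module.Finite A N := Module.Finite.equiv eN.toLinearEquiv.symm
  obtain ⟨φ₀, hφ₀, hgen⟩ := hcyc
  haveI := isGE_Y Y eY
  haveI : Nontrivial N := by
    by_contra hN
    rw [not_nontrivial_iff_subsingleton] at hN
    have hz : IsZero ((homologyFunctor (ModuleCat.{u} A) 0).obj X) :=
      (ModuleCat.isZero_of_subsingleton N).of_iso eN.symm
    haveI : X.IsLE (-1) := by
      rw [isLE_iff]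
      intro i hi
      by_cases h0 : i = 0
      · subst h0
        exact hz
      · exact isZero_of_isLE X 0 i (by omega)
    haveI := FBC.subsingleton_hom_of_isLE_of_isGE X Y (-1) 0 (by omega)
    exact hφ₀ (Subsingleton.elim _ _)
  have hΛ0 : Λ Y eY π (0 : N ⟶ kk A) = 0 := by
    dsimp only [Λ]
    rw [Functor.map_zero, zero_comp, comp_zero]
  have h : ∀ g₁ g₂ : N →ₗ[A] A ⧸ maximalIdeal A, g₁ ≠ 0 → ∃ c : A, g₂ = c • g₁ := by
    intro g₁ g₂ hg₁
    obtain ⟨c₁, hc₁⟩ := hgen (Λ Y eY π (ModuleCat.ofHom g₁))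
    obtain ⟨c₂, hc₂⟩ := hgen (Λ Y eY π (ModuleCat.ofHom g₂))
    have hc₁u : IsUnit c₁ := by
      by_contra hnu
      have hm : c₁ ∈ maximalIdeal A := (IsLocalRing.mem_maximalIdeal c₁).2 hnu
      rw [smul_hom_eq_zero Y eY c₁ hm φ₀, ← hΛ0] at hc₁
      have := Λ_injective Y eY π hπ hc₁
      apply hg₁
      have h' := congrArg (fun z => z.hom) this
      simpa using h'
    obtain ⟨u, hu⟩ := hc₁u.exists_left_inv
    refine ⟨c₂ * u, ?_⟩
    have h1 : φ₀ = u • Λ Y eY π (ModuleCat.ofHom g₁) := by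
      rw [hc₁, smul_smul, hu, one_smul]
    have h2 : Λ Y eY π (ModuleCat.ofHom g₂) =
        Λ Y eY π ((c₂ * u) • ModuleCat.ofHom g₁) := by
      rw [Λ_smul, hc₂, mul_smul, ← h1]
    have h3 := Λ_injective Y eY π hπ h2
    have h4 := congrArg (fun z => z.hom) h3
    simpa using h4
  obtain ⟨v, hv⟩ := exists_span_singleton_eq_top N h
  obtain ⟨g, hg⟩ := exists_surjective_residue (A := A) N
  refine ⟨N, π, ModuleCat.ofHom (LinearMap.toSpanSingleton A N v), ModuleCat.ofHom g, hπ, ?_, hg⟩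
  intro x
  have hx : x ∈ Submodule.span A {v} := by rw [hv]; trivial
  obtain ⟨a, rfl⟩ := Submodule.mem_span_singleton.1 hx
  exact ⟨a, rfl⟩

include eY in
/-- **Criterion, normalised form.** -/
theorem nonempty_iso_of_hom_residue₀ (X : Dual.D A) (b : ℤ) [X.IsLE b]
    (hfin : ∀ i : ℤ, Module.Finite A ((homologyFunctor (ModuleCat.{u} A) i).obj X))
    (hv : ∀ j : ℤ, j ≠ 0 → ∀ φ : X ⟶ Y⟦j⟧, φ = 0) (hcyc : IsCyc A (X ⟶ Y)) :
    Nonempty (X ≅ Dual.inD A A) := by
  haveI := isLE_zero_of_forall_hom_eq_zero Y eY X b hfin hv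
  obtain ⟨N, π, p, g, hπ, hp, hg⟩ := exists_cyclic_top Y eY X (hfin 0) hcyc
  haveI := hπ
  let P : ModuleCat.{u} A := ModuleCat.of A A
  let τ : sg0 P ⟶ sg0 N := (singleFunctor (ModuleCat.{u} A) 0).map p
  obtain ⟨f, hf⟩ := (ProjCorep.ν_bijective P X).2
    (ProjCorep.ν P (sg0 N) τ ≫ inv ((homologyFunctor (ModuleCat.{u} A) 0).map π))
  have hfπ : f ≫ π = τ := by
    apply (ProjCorep.ν_bijective P (sg0 N)).1
    rw [ProjCorep.ν_comp, hf, Category.assoc, IsIso.inv_hom_id, Category.comp_id]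
  obtain ⟨C, g₂, g₃, hT⟩ := distinguished_cocone_triangle f
  have hepi : Epi ((homologyFunctor (ModuleCat.{u} A) 0).map f) := by
    have h1 : (homologyFunctor (ModuleCat.{u} A) 0).map f ≫
        (homologyFunctor (ModuleCat.{u} A) 0).map π =
        (homologyFunctor (ModuleCat.{u} A) 0).map τ := by
      rw [← Functor.map_comp, hfπ]
    have h2 : Epi ((homologyFunctor (ModuleCat.{u} A) 0).map τ) := by
      dsimp only [τ]
      rw [homologyMap_sg0_map]
      haveI : Epi p := (ModuleCat.epi_iff_surjective p).2 hp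
      infer_instance
    have h3 : (homologyFunctor (ModuleCat.{u} A) 0).map f =
        (homologyFunctor (ModuleCat.{u} A) 0).map τ ≫
          inv ((homologyFunctor (ModuleCat.{u} A) 0).map π) := by
      rw [← h1, Category.assoc, IsIso.hom_inv_id, Category.comp_id]
    rw [h3]
    infer_instance
  haveI : (sg0 P).IsLE 0 := inferInstance
  haveI hCle : C.IsLE (-1) := by
    rw [isLE_iff]
    intro i hi
    by_cases h0 : i = 0
    · subst h0
      exact Conc.isZero_homology₃_of_epi (Triangle.mk f g₂ g₃) hT 0 1 rfl hepi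
        (isZero_of_isLE (sg0 P) 0 1 (by omega))
    · exact Conc.isZero_homology₃ (Triangle.mk f g₂ g₃) hT i (i + 1) rfl
        (isZero_of_isLE X 0 i (by omega)) (isZero_of_isLE (sg0 P) 0 (i + 1) (by omega))
  have hCfin : ∀ i : ℤ, Module.Finite A ((homologyFunctor (ModuleCat.{u} A) i).obj C) := by
    intro i
    have hex := HomologySequence.exact₃ (Triangle.mk f g₂ g₃) hT i (i + 1) rfl
    rw [ShortComplex.moduleCat_exact_iff] at hex
    have hf1 := hfin i
    have hf3 : Module.Finite A ((homologyFunctor (ModuleCat.{u} A) (i + 1)).obj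
        ((singleFunctor (ModuleCat.{u} A) 0).obj P)) :=
      DualD.finite_homology_single P (i + 1)
    exact @FinHom.finite_of_exact A _ _ _ _ _ _ _ _ _ _ _
      ((homologyFunctor (ModuleCat.{u} A) i).map g₂).hom
      (HomologySequence.δ (Triangle.mk f g₂ g₃) i (i + 1) rfl).hom
      (fun x hx => hex x hx) hf1 hf3
  haveI := isGE_Y Y eY
  haveI := isLE_Y Y eY
  have hCv : ∀ (j : ℤ) (ψ : C ⟶ Y⟦j⟧), ψ = 0 := by
    intro j ψ
    rcases lt_trichotomy j 1 with hj | hj | hj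
    · haveI : (Y⟦j⟧).IsGE (-j) :=
        (TStructure.t (C := ModuleCat.{u} A)).isGE_shift Y 0 j (-j) (by omega)
      haveI := FBC.subsingleton_hom_of_isLE_of_isGE C (Y⟦j⟧) (-1) (-j) (by omega)
      exact Subsingleton.elim _ _
    · subst hj
      have h1 : g₂ ≫ ψ = 0 := hv 1 (by omega) _
      obtain ⟨ψ', hψ'⟩ : ∃ ψ' : (sg0 P)⟦(1 : ℤ)⟧ ⟶ Y⟦(1 : ℤ)⟧, ψ = g₃ ≫ ψ' :=
        Triangle.yoneda_exact₃ (Triangle.mk f g₂ g₃) hT ψ h1
      obtain ⟨θ', hθ'⟩ := (shiftFunctor (Dual.D A) (1 : ℤ)).map_surjective ψ'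
      obtain ⟨φ, hφ⟩ : ∃ φ : X ⟶ Y, f ≫ φ = θ' := by
        obtain ⟨h', hh'⟩ := (singleFunctor (ModuleCat.{u} A) 0).map_surjective (θ' ≫ eY.hom)
        have hne : (p ≫ g).hom ≠ 0 := by
          intro h0
          obtain ⟨x, hx⟩ := hg 1
          obtain ⟨y, rfl⟩ := hp x
          have : (p ≫ g).hom y = 0 := by rw [h0]; rfl
          have h2 : (1 : A ⧸ maximalIdeal A) = 0 := by rw [← hx]; exact this
          exact one_ne_zero h2
        obtain ⟨c, hc⟩ := exists_smul_eq_of_ne_zero (p ≫ g).hom h'.hom hne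
        have hc' : h' = c • (p ≫ g) := ModuleCat.hom_ext hc
        refine ⟨c • Λ Y eY π g, ?_⟩
        have h3 : θ' = (singleFunctor (ModuleCat.{u} A) 0).map h' ≫ eY.inv := by
          rw [hh', Category.assoc, Iso.hom_inv_id, Category.comp_id]
        rw [h3, hc', Functor.map_smul, Functor.map_comp, Linear.comp_smul, Linear.smul_comp]
        dsimp only [Λ]
        rw [← Category.assoc f, hfπ, Category.assoc]
      have h4 : g₃ ≫ f⟦(1 : ℤ)⟧' = 0 := comp_distTriang_mor_zero₃₁ _ hT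
      rw [hψ', ← hθ', ← hφ, Functor.map_comp]
      show g₃ ≫ f⟦(1 : ℤ)⟧' ≫ φ⟦(1 : ℤ)⟧' = 0
      rw [← Category.assoc, h4, zero_comp]
    · have h1 : g₂ ≫ ψ = 0 := hv j (by omega) _
      obtain ⟨ψ', hψ'⟩ : ∃ ψ' : (sg0 P)⟦(1 : ℤ)⟧ ⟶ Y⟦j⟧, ψ = g₃ ≫ ψ' :=
        Triangle.yoneda_exact₃ (Triangle.mk f g₂ g₃) hT ψ h1
      let i0 : (Y⟦j - 1⟧)⟦(1 : ℤ)⟧ ≅ Y⟦j⟧ :=
        (shiftFunctorAdd' (Dual.D A) (j - 1) 1 j (by omega)).symm.app Y
      obtain ⟨ρ, hρ⟩ := (shiftFunctor (Dual.D A) (1 : ℤ)).map_surjective (ψ' ≫ i0.inv)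
      haveI : (Y⟦j - 1⟧).IsLE (-(j - 1)) :=
        (TStructure.t (C := ModuleCat.{u} A)).isLE_shift Y 0 (j - 1) (-(j - 1)) (by omega)
      haveI : (Y⟦j - 1⟧).IsLE (-1) :=
        (TStructure.t (C := ModuleCat.{u} A)).isLE_of_le (Y⟦j - 1⟧) (-(j - 1)) (-1) (by omega)
      have hρ0 : ρ = 0 := ProjCorep.hom_eq_zero_of_projective_of_isLE P (Y⟦j - 1⟧) ρ
      have h2 : ψ' ≫ i0.inv = 0 := by rw [← hρ, hρ0, Functor.map_zero]
      have hψ'0 : ψ' = 0 := by rw [← cancel_mono i0.inv, h2, zero_comp]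
      rw [hψ', hψ'0, comp_zero]
  have hC0 : IsZero C := isZero_of_forall_hom_eq_zero Y eY C (-1) hCfin hCv
  haveI : IsIso f := (Triangle.isZero₃_iff_isIso₁ (Triangle.mk f g₂ g₃) hT).1 hC0
  exact ⟨(asIso f).symm⟩

/-- `Hom(X, W) ≃ₗ Hom(X⟦n⟧, W⟦n⟧)` -/
noncomputable def shiftLinearEquiv (X W : Dual.D A) (n : ℤ) : (X ⟶ W) ≃ₗ[A] (X⟦n⟧ ⟶ W⟦n⟧) :=
  LinearEquiv.ofBijective ((shiftFunctor (Dual.D A) n).mapLinearMap A)
    ⟨(shiftFunctor (Dual.D A) n).map_injective, (shiftFunctor (Dual.D A) n).map_surjective⟩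

/-- **Criterion.** Let `X` be bounded above with finite cohomology over the Noetherian local ring `A`
and `Y ≅ κ[0]`. If `Hom(X, Y⟦j⟧) = 0` for `j ≠ t₀` and `Hom(X, Y⟦t₀⟧)` is nonzero cyclic, then
`X ≅ A[0]⟦t₀⟧`. -/
theorem nonempty_iso_shift_of_hom_residue (X : Dual.D A) (b : ℤ) [X.IsLE b]
    (hfin : ∀ i : ℤ, Module.Finite A ((homologyFunctor (ModuleCat.{u} A) i).obj X))
    (Y : Dual.D A) (eY : Y ≅ sg0 (kk A)) (t₀ : ℤ)
    (hv : ∀ j : ℤ, j ≠ t₀ → Subsingleton (X ⟶ Y⟦j⟧)) (hcyc : IsCyc A (X ⟶ Y⟦t₀⟧)) :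
    Nonempty (X ≅ (Dual.inD A A)⟦t₀⟧) := by
  let X' : Dual.D A := X⟦-t₀⟧
  haveI : X'.IsLE (b + t₀) :=
    (TStructure.t (C := ModuleCat.{u} A)).isLE_shift X b (-t₀) (b + t₀) (by omega)
  have hfin' : ∀ i : ℤ, Module.Finite A ((homologyFunctor (ModuleCat.{u} A) i).obj X') := by
    intro i
    haveI := hfin (-t₀ + i)
    exact Module.Finite.equiv (FlatBC.homologyShiftIso X (-t₀) i (-t₀ + i) rfl).toLinearEquiv.symm
  let eX : X'⟦t₀⟧ ≅ X := shiftNegShift X t₀
  have e : ∀ j : ℤ, (X' ⟶ Y⟦j⟧) ≃ₗ[A] (X ⟶ Y⟦j + t₀⟧) := fun j =>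
    shiftLinearEquiv X' (Y⟦j⟧) t₀ ≪≫ₗ
      Linear.homCongr A eX ((shiftFunctorAdd' (Dual.D A) j t₀ (j + t₀) rfl).symm.app Y)
  have e0 : (X' ⟶ Y) ≃ₗ[A] (X ⟶ Y⟦t₀⟧) :=
    shiftLinearEquiv X' Y t₀ ≪≫ₗ Linear.homCongr A eX (Iso.refl _)
  have hv' : ∀ j : ℤ, j ≠ 0 → ∀ φ : X' ⟶ Y⟦j⟧, φ = 0 := by
    intro j hj φ
    haveI := hv (j + t₀) (by omega)
    apply (e j).injective
    exact Subsingleton.elim _ _
  obtain ⟨i⟩ := nonempty_iso_of_hom_residue₀ Y eY X' (b + t₀) hfin' hv' (hcyc.of_linearEquiv e0.symm)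
  exact ⟨eX.symm ≪≫ (shiftFunctor (Dual.D A) t₀).mapIso i⟩

end Local

end Groth.Agent.Lib.helper23.GorInv
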