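import Mathlib
import Groth.Prelude.Def_DRing4
import Groth.Agent.Lib.Helper23.CxBid11
import Groth.Agent.Lib.Helper23.GorInv3

/-!
# Uniqueness of dualizing complexes over a Noetherian local ring (helper23)
-/

set_option autoImplicit false
universe u
open CategoryTheory CategoryTheory.Limits DerivedCategory Pretriangulated Opposite
open CochainComplex.HomComplex
open scoped ZeroObject

attribute [local instance] HasDerivedCategory.standard

namespace Groth.Agent.Lib.helper23.CxBid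

open Groth.Agent.Lib.helper23.RHomCx Groth.Agent.Lib.helper23.GorInv Groth.Agent.Lib.helper23.FinHom
  Groth.Agent.Lib.helper23.DualD Groth.Agent.Lib.helper23.TensHom Groth.Agent.Lib.helper13.KFlat

variable (A : Type u) [CommRing A] [IsLocalRing A] [IsNoetherianRing A]

/-- the linear equivalence on cohomology induced by a quasi-isomorphism -/
noncomputable def homologyLinearEquivOfQuasiIso {X Y : DRing.Cx A} (f : X ⟶ Y) [QuasiIso f] (n : ℤ) :
    X.homology n ≃ₗ[A] Y.homology n :=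
  (asIso (HomologicalComplex.homologyMap f n)).toLinearEquiv

theorem nonempty_homCx_iso_shift (ω ω' : Dual.D A) (hω : Dual.IsDualizing A ω)
    (hω' : Dual.IsDualizing A ω') (M : Model ω) (M' : Model ω') :
    ∃ t₀ : ℤ, Nonempty (Q.obj (DRing.homCx M'.I M.I) ≅ (Dual.inD A A)⟦t₀⟧) := by
  let m := IsLocalRing.maximalIdeal A
  let κ : ModuleCat.{u} A := ModuleCat.of A (A ⧸ m)
  haveI := M.isKInjective
  haveI := M'.isKInjective
  let I := M.I
  let I' := M'.I
  obtain ⟨e', hv', ⟨ε'⟩⟩ := ext_residue_single_degree ω hω m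
  obtain ⟨e'', hv'', ⟨ε''⟩⟩ := ext_residue_single_degree ω' hω' m
  let R : ProjectiveResolution κ := projectiveResolution κ
  let F : DRing.Cx A := R.cochainComplex
  haveI : F.IsKProjective := inferInstanceAs (R.cochainComplex.IsKProjective)
  have hF : IsKFlatR F := isKFlatR_cochainComplex R
  let J : DRing.Cx A := DRing.homCx F I
  haveI : J.IsKInjective := isKInjective_homCx F I hF
  haveI : IsIso (Q.map R.π') := by
    rw [isIso_Q_map_iff_quasiIso]
    infer_instance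
  let eF : Q.obj F ≅ Dual.inD A (A ⧸ m) :=
    asIso (Q.map R.π') ≪≫ ((singleFunctorIsoCompQ (ModuleCat.{u} A) 0).app κ).symm
  -- cohomology of `J`
  have hJ : ∀ n : ℤ, Nonempty (((homologyFunctor (ModuleCat.{u} A) n).obj (Q.obj J)) ≃ₗ[A]
      (Dual.inD A (A ⧸ m) ⟶ ω⟦n⟧)) := fun n =>
    ⟨homologyQEquiv J n ≪≫ₗ homologyEquivCxOfKInjective F I n ≪≫ₗ
      hc eF ((Q.commShiftIso n).app I ≪≫ (shiftFunctor (Dual.D A) n).mapIso M.e)⟩
  have hJ0 : ∀ n : ℤ, n ≠ e' → IsZero ((homologyFunctor (ModuleCat.{u} A) n).obj (Q.obj J)) := by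
    intro n hn
    obtain ⟨e⟩ := hJ n
    haveI := hv' n hn
    exact isZero_of_subsingleton_linearEquiv e
  obtain ⟨eJ⟩ : Nonempty (Q.obj J ≅ (singleFunctor (ModuleCat.{u} A) e').obj κ) := by
    obtain ⟨e⟩ := hJ e'
    exact nonempty_iso_single (Q.obj J) e' κ hJ0 ⟨(e ≪≫ₗ ε').toModuleIso⟩
  -- the object `X`
  let DI' : DRing.Cx A := DRing.homCx I' I
  let X : Dual.D A := Q.obj DI'
  have hfI' : ∀ j, Module.Finite A (Hn I' j) := fun j => by
    haveI : Module.Finite A ((homologyFunctor (ModuleCat.{u} A) j).obj ω') :=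
      hω'.finite_cohomology j
    exact Module.Finite.equiv
      ((homologyFunctor (ModuleCat.{u} A) j).mapIso M'.e).toLinearEquiv.symm
  have hXfin : ∀ i : ℤ, Module.Finite A ((homologyFunctor (ModuleCat.{u} A) i).obj X) :=
    fun i => finite_homology_D hω M I' hfI' i
  have hamp : DRing.HasInjAmplitudeIn A M.a M.b (Q.obj I) := ⟨M.I, M.zero,
    fun j => (Module.injective_iff_injective_object A (M.I.X j)).2 (M.inj j), ⟨Iso.refl _⟩⟩
  haveI : I'.IsStrictlyGE M'.a := M'.isStrictlyGE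
  haveI : X.IsLE (M.b - M'.a) := isLE_D_of_isGE I M.a M.b hamp I' M'.a
  -- biduality for `I'`
  haveI : IsIso (Q.map (ev I I')) := biduality_cx hω M I' hfI'
  haveI : QuasiIso (ev I I') := (isIso_Q_map_iff_quasiIso (φ := ev I I')).1 inferInstance
  haveI : QuasiIso (DRing.homCxMap F (ev I I')) := quasiIso_homCxMap_of_isKProjective F (ev I I')
  -- the main chain of isomorphisms
  have hchain : ∀ n : ℤ, Nonempty ((X ⟶ Q.obj (J⟦n⟧)) ≃ₗ[A]
      (Dual.inD A (A ⧸ m) ⟶ ω'⟦n⟧)) := fun n =>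
    ⟨(homologyEquivCxOfKInjective DI' J n).symm ≪≫ₗ
      homologyLinearEquivOfIso (swapIso DI' F I) n ≪≫ₗ
      (homologyLinearEquivOfQuasiIso A (DRing.homCxMap F (ev I I')) n).symm ≪≫ₗ
      homologyEquivCxOfKProjective F I' n ≪≫ₗ
      hc eF ((Q.commShiftIso n).app I' ≪≫ (shiftFunctor (Dual.D A) n).mapIso M'.e)⟩
  -- the object `Y`
  let Y : Dual.D A := (Q.obj J)⟦e'⟧
  let eY : Y ≅ Dual.inD A (A ⧸ m) :=
    (shiftFunctor (Dual.D A) e').mapIso eJ ≪≫
      ((singleFunctors (ModuleCat.{u} A)).shiftIso e' 0 e' (add_zero e')).app κ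
  have hY : ∀ j : ℤ, Nonempty ((X ⟶ Y⟦j⟧) ≃ₗ[A]
      (Dual.inD A (A ⧸ m) ⟶ ω'⟦e' + j⟧)) := fun j => by
    obtain ⟨e⟩ := hchain (e' + j)
    exact ⟨hc (Iso.refl X) ((shiftFunctorAdd' (Dual.D A) e' j (e' + j) rfl).symm.app (Q.obj J) ≪≫
      ((Q.commShiftIso (e' + j)).app J).symm) ≪≫ₗ e⟩
  refine ⟨e'' - e', ?_⟩
  refine nonempty_iso_shift_of_hom_residue X (M.b - M'.a) hXfin Y eY (e'' - e') (fun j hj => ?_) ?_
  · obtain ⟨e⟩ := hY j
    haveI := hv'' (e' + j) (by omega)
    exact e.toEquiv.subsingleton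
  · obtain ⟨e⟩ := hY (e'' - e')
    have h1 : e' + (e'' - e') = e'' := by omega
    have hcyc : IsCyc A (Dual.inD A (A ⧸ m) ⟶ ω'⟦e''⟧) :=
      (isCyc_quotient m (Ideal.IsMaximal.ne_top inferInstance)).of_linearEquiv ε''.symm
    rw [← h1] at hcyc
    exact hcyc.of_linearEquiv e.symm

end Groth.Agent.Lib.helper23.CxBid
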