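import Mathlib

/-!
# Artin–Rees arguments on the Hom complex `Hom(F•, M)` (helper23)

Pure module theory used for S7164.
-/

set_option autoImplicit false
universe u
open Submodule

namespace Groth.Agent.Lib.helper23.ExtAR

variable {A : Type u} [CommRing A]

section Basic

variable {F M : Type u} [AddCommGroup F] [Module A F] [AddCommGroup M] [Module A M]

/-- a map from a finite free module with values in `J • ⊤` lies in `J • ⊤`. -/
lemma mem_smul_top_of_forall_mem [Module.Finite A F] [Module.Free A F] (J : Ideal A)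
    (f : F →ₗ[A] M) (hf : ∀ v, f v ∈ J • (⊤ : Submodule A M)) :
    f ∈ J • (⊤ : Submodule A (F →ₗ[A] M)) := by
  classical
  let b := Module.Free.chooseBasis A F
  have hsum : f = ∑ j, LinearMap.smulRightₗ (b.coord j) (f (b j)) := by
    apply b.ext
    intro k
    rw [LinearMap.sum_apply]
    rw [Finset.sum_eq_single k]
    · simp
    · intro j _ hj
      simp [Finsupp.single_eq_of_ne hj]
    · intro hk
      exact absurd (Finset.mem_univ k) hk
  rw [hsum]
  refine Submodule.sum_mem _ (fun j _ => ?_)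
  have h1 : LinearMap.smulRightₗ (b.coord j) (f (b j)) ∈
      (J • (⊤ : Submodule A M)).map (LinearMap.smulRightₗ (b.coord j) : M →ₗ[A] F →ₗ[A] M) :=
    Submodule.mem_map_of_mem (hf (b j))
  rw [Submodule.map_smul''] at h1
  exact Submodule.smul_mono le_rfl le_top h1

/-- a map in `J • ⊤` has values in `J • ⊤`. -/
lemma apply_mem_of_mem_smul_top (J : Ideal A) (g : F →ₗ[A] M)
    (hg : g ∈ J • (⊤ : Submodule A (F →ₗ[A] M))) (v : F) : g v ∈ J • (⊤ : Submodule A M) := by
  have h1 : LinearMap.applyₗ v g ∈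
      (J • (⊤ : Submodule A (F →ₗ[A] M))).map (LinearMap.applyₗ v : (F →ₗ[A] M) →ₗ[A] M) :=
    Submodule.mem_map_of_mem hg
  rw [Submodule.map_smul''] at h1
  exact Submodule.smul_mono le_rfl le_top h1

end Basic

section AR

variable [IsNoetherianRing A] (I : Ideal A)
  {F' F F'' M : Type u} [AddCommGroup F'] [Module A F'] [AddCommGroup F] [Module A F]
  [AddCommGroup F''] [Module A F''] [AddCommGroup M] [Module A M]
  [Module.Finite A F'] [Module.Free A F'] [Module.Finite A F] [Module.Free A F]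
  [Module.Finite A F''] [Module.Free A F''] [Module.Finite A M]
  (d' : F' →ₗ[A] F) (d : F →ₗ[A] F'')

/-- the quotient map `M → M / Iⁿ M`. -/
abbrev π (M : Type u) [AddCommGroup M] [Module A M] (n : ℕ) :
    M →ₗ[A] M ⧸ (I ^ n • (⊤ : Submodule A M)) := (I ^ n • (⊤ : Submodule A M)).mkQ

include d' in
/-- first Artin–Rees statement: cocycles that become coboundaries modulo `I^m` are
coboundaries, provided `I^t` kills cohomology. -/
theorem exists_pow_coboundary (hdd : d ∘ₗ d' = 0) (t : ℕ)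
    (ht : I ^ t • LinearMap.ker (LinearMap.lcomp A M d') ≤ LinearMap.range (LinearMap.lcomp A M d)) :
    ∃ m : ℕ, ∀ f : F →ₗ[A] M, f ∘ₗ d' = 0 →
      (∃ h : F'' →ₗ[A] M ⧸ (I ^ m • (⊤ : Submodule A M)), h ∘ₗ d = π I M m ∘ₗ f) →
      ∃ g : F'' →ₗ[A] M, g ∘ₗ d = f := by
  obtain ⟨k, hk⟩ := Ideal.exists_pow_inf_eq_pow_smul I (LinearMap.ker (LinearMap.lcomp A M d'))
  refine ⟨k + t, fun f hf ⟨h, hh⟩ => ?_⟩
  obtain ⟨h', hh'⟩ := Module.projective_lifting_property (π I M (k + t)) h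
    (Submodule.mkQ_surjective _)
  let f₁ : F →ₗ[A] M := f - h' ∘ₗ d
  have hf₁Z : f₁ ∈ LinearMap.ker (LinearMap.lcomp A M d') := by
    rw [LinearMap.mem_ker]
    show (f - h' ∘ₗ d) ∘ₗ d' = 0
    rw [LinearMap.sub_comp, hf, LinearMap.comp_assoc, hdd, LinearMap.comp_zero, sub_zero]
  have hf₁v : ∀ v, f₁ v ∈ I ^ (k + t) • (⊤ : Submodule A M) := by
    intro v
    rw [← Submodule.Quotient.mk_eq_zero]
    have h1 : π I M (k + t) (f v) = h (d v) := (LinearMap.congr_fun hh v).symm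
    have h2 : π I M (k + t) (h' (d v)) = h (d v) := LinearMap.congr_fun hh' (d v)
    show π I M (k + t) (f v - h' (d v)) = 0
    rw [map_sub, h1, h2, sub_self]
  have hf₁I := mem_smul_top_of_forall_mem (I ^ (k + t)) f₁ hf₁v
  have hmem : f₁ ∈ I ^ (k + t) • (⊤ : Submodule A (F →ₗ[A] M)) ⊓
      LinearMap.ker (LinearMap.lcomp A M d') := ⟨hf₁I, hf₁Z⟩
  rw [hk (k + t) (Nat.le_add_right k t), Nat.add_sub_cancel_left] at hmem
  have hB : f₁ ∈ LinearMap.range (LinearMap.lcomp A M d) :=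
    ht (Submodule.smul_mono le_rfl inf_le_right hmem)
  obtain ⟨g₁, hg₁⟩ := hB
  refine ⟨g₁ + h', ?_⟩
  have : g₁ ∘ₗ d = f - h' ∘ₗ d := hg₁
  rw [LinearMap.add_comp, this, sub_add_cancel]

include d in
/-- second Artin–Rees statement: cocycles modulo `I^m'` are congruent modulo `I^n` to genuine
cocycles. -/
theorem exists_pow_lift_cocycle (n : ℕ) :
    ∃ m' : ℕ, ∃ hnm : n ≤ m', ∀ fb : F →ₗ[A] M ⧸ (I ^ m' • (⊤ : Submodule A M)), fb ∘ₗ d' = 0 →
      ∃ f₂ : F →ₗ[A] M, f₂ ∘ₗ d' = 0 ∧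
        π I M n ∘ₗ f₂ = (Submodule.mapQ (I ^ m' • (⊤ : Submodule A M)) (I ^ n • ⊤) LinearMap.id
          (Submodule.smul_mono_left (Ideal.pow_le_pow_right hnm))) ∘ₗ fb := by
  obtain ⟨k, hk⟩ := Ideal.exists_pow_inf_eq_pow_smul I
    (LinearMap.range (LinearMap.lcomp A M d'))
  refine ⟨n + k, Nat.le_add_right n k, fun fb hfb => ?_⟩
  obtain ⟨f, hf⟩ := Module.projective_lifting_property (π I M (n + k)) fb
    (Submodule.mkQ_surjective _)
  let w : F' →ₗ[A] M := f ∘ₗ d'
  have hwB : w ∈ LinearMap.range (LinearMap.lcomp A M d') := ⟨f, rfl⟩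
  have hwv : ∀ v, w v ∈ I ^ (n + k) • (⊤ : Submodule A M) := by
    intro v
    rw [← Submodule.Quotient.mk_eq_zero]
    have h1 : π I M (n + k) (f (d' v)) = fb (d' v) := LinearMap.congr_fun hf (d' v)
    have h2 : fb (d' v) = 0 := LinearMap.congr_fun hfb v
    show π I M (n + k) (f (d' v)) = 0
    rw [h1, h2]
  have hwI := mem_smul_top_of_forall_mem (I ^ (n + k)) w hwv
  have hmem : w ∈ I ^ (n + k) • (⊤ : Submodule A (F' →ₗ[A] M)) ⊓
      LinearMap.range (LinearMap.lcomp A M d') := ⟨hwI, hwB⟩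
  rw [hk (n + k) (Nat.le_add_left k n), Nat.add_sub_cancel] at hmem
  have h3 : w ∈ I ^ n • LinearMap.range (LinearMap.lcomp A M d') :=
    Submodule.smul_mono le_rfl inf_le_right hmem
  rw [LinearMap.range_eq_map, ← Submodule.map_smul''] at h3
  obtain ⟨g, hgI, hg⟩ := h3
  have hg' : g ∘ₗ d' = f ∘ₗ d' := hg
  refine ⟨f - g, ?_, ?_⟩
  · rw [LinearMap.sub_comp, hg', sub_self]
  · ext v
    have hgv : π I M n (g v) = 0 := by
      rw [Submodule.mkQ_apply, Submodule.Quotient.mk_eq_zero]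
      exact apply_mem_of_mem_smul_top (I ^ n) g hgI v
    have h4 : fb v = π I M (n + k) (f v) := (LinearMap.congr_fun hf v).symm
    have h5 : π I M n (f v - g v) = π I M n (f v) := by rw [map_sub, hgv, sub_zero]
    refine h5.trans ?_
    show _ = Submodule.mapQ (I ^ (n + k) • (⊤ : Submodule A M)) (I ^ n • ⊤) LinearMap.id
      (Submodule.smul_mono_left (Ideal.pow_le_pow_right (Nat.le_add_right n k))) (fb v)
    rw [h4]
    rfl

end AR

end Groth.Agent.Lib.helper23.ExtAR
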