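import Mathlib

/-!
# Morphisms `Q P ⟶ X[i]` in the derived category, for `P` K-projective, as cocycles modulo
coboundaries (helper23)

For a K-projective cochain complex `P`, an object `X` and `i p : ℤ` with `p + i = 0`, every
`f : P.X p ⟶ X` with `P.d p' p ≫ f = 0` defines `Φ f : Q.obj P ⟶ (Q.obj (single X))⟦i⟧`; every
morphism arises in this way, `Φ f = 0` iff `f` factors through `P.d p p''`, and `Φ` is natural
in `X`.
-/

set_option autoImplicit false
universe w v u
open CategoryTheory CategoryTheory.Limits DerivedCategory CochainComplex HomComplex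

namespace Groth.Agent.Lib.helper23.ExtDict

variable {C : Type u} [Category.{v} C] [Abelian C] [HasDerivedCategory.{w} C]

/-- the single complex. -/
noncomputable abbrev S (X : C) : CochainComplex C ℤ := (CochainComplex.singleFunctor C 0).obj X

variable (P : CochainComplex C ℤ) {X : C} {i p p' p'' : ℤ}

/-- the chain map attached to a cocycle. -/
noncomputable def chainMap (h : p + i = 0) (hp' : p' + 1 = p) (f : P.X p ⟶ X)
    (hf : P.d p' p ≫ f = 0) : P ⟶ (S X)⟦i⟧ :=
  Cocycle.equivHomShift.symm (Cocycle.toSingleMk f h p' hp' hf)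

/-- the morphism in the derived category attached to a cocycle. -/
noncomputable def Φ (h : p + i = 0) (hp' : p' + 1 = p) (f : P.X p ⟶ X)
    (hf : P.d p' p ≫ f = 0) : Q.obj P ⟶ (Q.obj (S X))⟦i⟧ :=
  Q.map (chainMap P h hp' f hf) ≫ (Q.commShiftIso i).hom.app (S X)

lemma chainMap_comp (h : p + i = 0) (hp' : p' + 1 = p) (f : P.X p ⟶ X)
    (hf : P.d p' p ≫ f = 0) {X' : C} (φ : X ⟶ X') :
    chainMap P h hp' f hf ≫ ((CochainComplex.singleFunctor C 0).map φ)⟦i⟧' =
      chainMap P h hp' (f ≫ φ) (by rw [reassoc_of% hf, zero_comp]) := by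
  unfold chainMap
  rw [← Cocycle.equivHomShift_symm_postcomp, ← Cocycle.toSingleMk_postcomp]

lemma Φ_comp (h : p + i = 0) (hp' : p' + 1 = p) (f : P.X p ⟶ X)
    (hf : P.d p' p ≫ f = 0) {X' : C} (φ : X ⟶ X') :
    Φ P h hp' f hf ≫ (Q.map ((CochainComplex.singleFunctor C 0).map φ))⟦i⟧' =
      Φ P h hp' (f ≫ φ) (by rw [reassoc_of% hf, zero_comp]) := by
  unfold Φ
  rw [← chainMap_comp P h hp' f hf φ, Q.map_comp, Category.assoc, Category.assoc]
  congr 1
  exact ((Q.commShiftIso i).hom.naturality ((CochainComplex.singleFunctor C 0).map φ)).symm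

variable [P.IsKProjective]

lemma Q_map_eq_zero_iff {L : CochainComplex C ℤ} (ψ : P ⟶ L) :
    Q.map ψ = 0 ↔ (HomotopyCategory.quotient C (ComplexShape.up ℤ)).map ψ = 0 := by
  constructor
  · intro h0
    apply (CochainComplex.IsKProjective.Qh_map_bijective P
      ((HomotopyCategory.quotient C (ComplexShape.up ℤ)).obj L)).1
    show Qh.map _ = Qh.map 0
    rw [Qh.map_zero]
    exact h0
  · intro h0
    show Qh.map ((HomotopyCategory.quotient C (ComplexShape.up ℤ)).map ψ) = 0
    rw [h0, Qh.map_zero]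

lemma exists_Q_map_eq {L : CochainComplex C ℤ} (e : Q.obj P ⟶ Q.obj L) :
    ∃ ψ : P ⟶ L, Q.map ψ = e := by
  obtain ⟨ψ', hψ'⟩ := (CochainComplex.IsKProjective.Qh_map_bijective P
      ((HomotopyCategory.quotient C (ComplexShape.up ℤ)).obj L)).2 e
  obtain ⟨ψ, rfl⟩ := (HomotopyCategory.quotient C (ComplexShape.up ℤ)).map_surjective ψ'
  exact ⟨ψ, hψ'⟩

/-- every morphism comes from a cocycle. -/
theorem Φ_surjective (h : p + i = 0) (hp' : p' + 1 = p) (e : Q.obj P ⟶ (Q.obj (S X))⟦i⟧) :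
    ∃ (f : P.X p ⟶ X) (hf : P.d p' p ≫ f = 0), Φ P h hp' f hf = e := by
  obtain ⟨ψ, hψ⟩ := exists_Q_map_eq P (e ≫ (Q.commShiftIso i).inv.app (S X))
  obtain ⟨f, hf, hz⟩ := Cocycle.toSingleMk_surjective (Cocycle.equivHomShift ψ) p h p' hp'
  refine ⟨f, hf, ?_⟩
  unfold Φ chainMap
  rw [hz, AddEquiv.symm_apply_apply, hψ, Category.assoc, Iso.inv_hom_id_app]
  exact Category.comp_id e

/-- the morphism attached to a cocycle vanishes iff the cocycle is a coboundary. -/
theorem Φ_eq_zero_iff (h : p + i = 0) (hp' : p' + 1 = p) (hp'' : p + 1 = p'') (f : P.X p ⟶ X)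
    (hf : P.d p' p ≫ f = 0) :
    Φ P h hp' f hf = 0 ↔ ∃ g : P.X p'' ⟶ X, P.d p p'' ≫ g = f := by
  rw [← Cocycle.toSingleMk_mem_coboundaries_iff f h p' hp' hf p'' hp'',
    ← CohomologyClass.toHom_mk_eq_zero_iff, CohomologyClass.toHom_mk]
  unfold Φ
  rw [← Q_map_eq_zero_iff]
  constructor
  · intro h0
    have := congrArg (fun t => t ≫ (Q.commShiftIso i).inv.app (S X)) h0
    simp only [Category.assoc, Iso.hom_inv_id_app, zero_comp] at this
    exact (Category.comp_id _).symm.trans this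
  · intro h0
    unfold chainMap
    rw [h0, zero_comp]

end Groth.Agent.Lib.helper23.ExtDict
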