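import Mathlib
import Groth.Prelude.Def_DRing2
import Groth.Agent.Lib.Helper23.ExtDict
import Groth.Agent.Lib.Helper23.ExtAR1

/-!
# `Hom_{D(A)}(K, M[i])` for `K` represented by a K-projective complex, module version (helper23)
-/

set_option autoImplicit false
universe u
open CategoryTheory CategoryTheory.Limits DerivedCategory

attribute [local instance] HasDerivedCategory.standard

namespace Groth.Agent.Lib.helper23.ExtAR

open Groth.Agent.Lib.helper23.ExtDict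

variable {A : Type u} [CommRing A] (P : DRing.Cx A) [P.IsKProjective] {K : Dual.D A}
  (eK : DRing.toD P ≅ K) {i p p' p'' : ℤ} (h : p + i = 0) (hp' : p' + 1 = p) (hp'' : p + 1 = p'')

section

variable {M : Type u} [AddCommGroup M] [Module A M]

lemma d_comp_ofHom_eq_zero (f : P.X p →ₗ[A] M) (hf : f ∘ₗ (P.d p' p).hom = 0) :
    P.d p' p ≫ ModuleCat.ofHom f = 0 := by
  apply ModuleCat.hom_ext
  rw [ModuleCat.hom_comp, ModuleCat.hom_ofHom, hf]
  rfl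

/-- the morphism attached to a cocycle, before composing with `eK`. -/
noncomputable def Φm (f : P.X p →ₗ[A] M) (hf : f ∘ₗ (P.d p' p).hom = 0) :
    DRing.toD P ⟶ (Dual.inD A M)⟦i⟧ :=
  Φ P h hp' (ModuleCat.ofHom f) (d_comp_ofHom_eq_zero P f hf)

theorem Φm_surjective (e : DRing.toD P ⟶ (Dual.inD A M)⟦i⟧) :
    ∃ (f : P.X p →ₗ[A] M) (hf : f ∘ₗ (P.d p' p).hom = 0), Φm P h hp' f hf = e := by
  obtain ⟨f, hf, hΦ⟩ := Φ_surjective (X := ModuleCat.of A M) P h hp' e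
  have hf' : f.hom ∘ₗ (P.d p' p).hom = 0 := by
    have := congrArg ModuleCat.Hom.hom hf
    rwa [ModuleCat.hom_comp] at this
  exact ⟨f.hom, hf', hΦ⟩

include hp'' in
theorem Φm_eq_zero_iff (f : P.X p →ₗ[A] M) (hf : f ∘ₗ (P.d p' p).hom = 0) :
    Φm P h hp' f hf = 0 ↔ ∃ g : P.X p'' →ₗ[A] M, g ∘ₗ (P.d p p'').hom = f := by
  refine (Φ_eq_zero_iff P h hp' hp'' (ModuleCat.ofHom f) (d_comp_ofHom_eq_zero P f hf)).trans ?_
  constructor
  · rintro ⟨g, hg⟩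
    refine ⟨g.hom, ?_⟩
    have := congrArg ModuleCat.Hom.hom hg
    rwa [ModuleCat.hom_comp, ModuleCat.hom_ofHom] at this
  · rintro ⟨g, hg⟩
    refine ⟨ModuleCat.ofHom g, ?_⟩
    apply ModuleCat.hom_ext
    rw [ModuleCat.hom_comp, ModuleCat.hom_ofHom, ModuleCat.hom_ofHom, hg]

/-- the morphism attached to a cocycle. -/
noncomputable def Ψ (f : P.X p →ₗ[A] M) (hf : f ∘ₗ (P.d p' p).hom = 0) :
    K ⟶ (Dual.inD A M)⟦i⟧ :=
  eK.inv ≫ Φm P h hp' f hf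

lemma Ψ_congr (f f' : P.X p →ₗ[A] M) (hf : f ∘ₗ (P.d p' p).hom = 0) (hff' : f = f') :
    Ψ P eK h hp' f hf = Ψ P eK h hp' f' (hff' ▸ hf) := by
  subst hff'
  rfl

theorem Ψ_surjective (e : K ⟶ (Dual.inD A M)⟦i⟧) :
    ∃ (f : P.X p →ₗ[A] M) (hf : f ∘ₗ (P.d p' p).hom = 0), Ψ P eK h hp' f hf = e := by
  obtain ⟨f, hf, hΦ⟩ := Φm_surjective P h hp' (eK.hom ≫ e)
  refine ⟨f, hf, ?_⟩
  unfold Ψ
  rw [hΦ, Iso.inv_hom_id_assoc]

include hp'' in
theorem Ψ_eq_zero_iff (f : P.X p →ₗ[A] M) (hf : f ∘ₗ (P.d p' p).hom = 0) :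
    Ψ P eK h hp' f hf = 0 ↔ ∃ g : P.X p'' →ₗ[A] M, g ∘ₗ (P.d p p'').hom = f := by
  rw [← Φm_eq_zero_iff P h hp' hp'' f hf]
  unfold Ψ
  constructor
  · intro h0
    have := congrArg (fun t => eK.hom ≫ t) h0
    simpa using this
  · intro h0
    rw [h0, comp_zero]

variable {M' : Type u} [AddCommGroup M'] [Module A M']

theorem Φm_comp (f : P.X p →ₗ[A] M) (hf : f ∘ₗ (P.d p' p).hom = 0) (φ : M →ₗ[A] M') :
    Φm P h hp' f hf ≫
        ((DerivedCategory.singleFunctor (ModuleCat.{u} A) 0).map (ModuleCat.ofHom φ))⟦i⟧' =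
      Φm P h hp' (φ ∘ₗ f) (by rw [LinearMap.comp_assoc, hf, LinearMap.comp_zero]) :=
  Φ_comp P h hp' (ModuleCat.ofHom f) (d_comp_ofHom_eq_zero P f hf) (ModuleCat.ofHom φ)

theorem Ψ_comp (f : P.X p →ₗ[A] M) (hf : f ∘ₗ (P.d p' p).hom = 0) (φ : M →ₗ[A] M') :
    Ψ P eK h hp' f hf ≫
        ((DerivedCategory.singleFunctor (ModuleCat.{u} A) 0).map (ModuleCat.ofHom φ))⟦i⟧' =
      Ψ P eK h hp' (φ ∘ₗ f) (by rw [LinearMap.comp_assoc, hf, LinearMap.comp_zero]) := by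
  unfold Ψ
  rw [Category.assoc, Φm_comp]

theorem smul_Ψ (x : A) (f : P.X p →ₗ[A] M) (hf : f ∘ₗ (P.d p' p).hom = 0) :
    x • Ψ P eK h hp' f hf =
      Ψ P eK h hp' (x • f) (by rw [LinearMap.smul_comp, hf, smul_zero]) := by
  have h1 := Ψ_comp P eK h hp' f hf (x • (LinearMap.id : M →ₗ[A] M))
  have h2 : ModuleCat.ofHom (x • (LinearMap.id : M →ₗ[A] M)) = x • 𝟙 (ModuleCat.of A M) := rfl
  rw [h2, Functor.map_smul, Functor.map_smul, CategoryTheory.Functor.map_id,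
    CategoryTheory.Functor.map_id, Linear.comp_smul, Category.comp_id] at h1
  rw [h1]
  exact Ψ_congr P eK h hp' _ _ _ (by ext v; simp)

end

end Groth.Agent.Lib.helper23.ExtAR
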