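import Mathlib
import Groth.Prelude.Def_DRing2
import Groth.Agent.Lib.Helper23.ExtAR2

/-!
# Additivity of the dictionary and the Artin–Rees statement for `Ext^p(K, IⁿM) → Ext^p(K, M)`
(S7149) (helper23)
-/

set_option autoImplicit false
universe w v u
open CategoryTheory CategoryTheory.Limits DerivedCategory CochainComplex HomComplex

namespace Groth.Agent.Lib.helper23.ExtDict

variable {C : Type u} [Category.{v} C] [Abelian C] [HasDerivedCategory.{w} C]
  (P : CochainComplex C ℤ) {X : C} {i p p' : ℤ}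

lemma Φ_add (h : p + i = 0) (hp' : p' + 1 = p) (f g : P.X p ⟶ X)
    (hf : P.d p' p ≫ f = 0) (hg : P.d p' p ≫ g = 0) :
    Φ P h hp' (f + g) (by rw [Preadditive.comp_add, hf, hg, add_zero]) =
      Φ P h hp' f hf + Φ P h hp' g hg := by
  unfold Φ chainMap
  rw [Cocycle.toSingleMk_add f g h p' hp' hf hg, map_add, Q.map_add, Preadditive.add_comp]

end Groth.Agent.Lib.helper23.ExtDict

namespace Groth.Agent.Lib.helper23.ExtAR

open Groth.Agent.Lib.helper23.ExtDict

attribute [local instance] HasDerivedCategory.standard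

variable {A : Type u} [CommRing A] (P : DRing.Cx A) [P.IsKProjective] {K : Dual.D A}
  (eK : DRing.toD P ≅ K) {i p p' p'' : ℤ} (h : p + i = 0) (hp' : p' + 1 = p) (hp'' : p + 1 = p'')
  {M : Type u} [AddCommGroup M] [Module A M]

theorem Ψ_add (f g : P.X p →ₗ[A] M) (hf : f ∘ₗ (P.d p' p).hom = 0)
    (hg : g ∘ₗ (P.d p' p).hom = 0) :
    Ψ P eK h hp' (f + g) (by rw [LinearMap.add_comp, hf, hg, add_zero]) =
      Ψ P eK h hp' f hf + Ψ P eK h hp' g hg := by
  unfold Ψ Φm
  rw [← Preadditive.comp_add]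
  congr 1
  exact Φ_add P h hp' (ModuleCat.ofHom f) (ModuleCat.ofHom g) (d_comp_ofHom_eq_zero P f hf)
    (d_comp_ofHom_eq_zero P g hg)

variable (M) in
/-- the dictionary as a linear map on cocycles. -/
noncomputable def ΨLin :
    LinearMap.ker (LinearMap.lcomp A M (P.d p' p).hom) →ₗ[A] (K ⟶ (Dual.inD A M)⟦i⟧) where
  toFun z := Ψ P eK h hp' z.1 z.2
  map_add' z w := Ψ_add P eK h hp' z.1 w.1 z.2 w.2
  map_smul' x z := (smul_Ψ P eK h hp' x z.1 z.2).symm

end Groth.Agent.Lib.helper23.ExtAR
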