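import Mathlib
import Groth.Prelude.Def_DRing2
import Groth.Agent.Lib.Helper23.ExtAR4
import Groth.Agent.Lib.Helper23.LDual5

/-!
# helper23: `Hom_{D(A)}(K, E[i]) ≃ Hom_A(H^{-i}(K), E)` for an injective module `E`
-/

set_option autoImplicit false
universe u
open CategoryTheory CategoryTheory.Limits DerivedCategory

attribute [local instance] HasDerivedCategory.standard

namespace Groth.Agent.Lib.helper23.LDual

open Groth.Agent.Lib.helper23.ExtAR

section

variable {A : Type u} [CommRing A] (P : DRing.Cx A) (p : ℤ)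
  (E : Type u) [AddCommGroup E] [Module A E]

/-- explicit homology `ker d / im d`. -/
abbrev Hq : Type u :=
  (LinearMap.ker (P.sc' (p - 1) p (p + 1)).g.hom) ⧸
    (LinearMap.range (P.sc' (p - 1) p (p + 1)).moduleCatToCycles)

/-- `H^p(P) ≃ ker d / im d`. -/
noncomputable def homologyEquivHq : P.homology p ≃ₗ[A] Hq P p :=
  (P.homologyIsoSc' (p - 1) p (p + 1) (by simp) (by simp)).toLinearEquiv ≪≫ₗ
    (P.sc' (p - 1) p (p + 1)).moduleCatHomologyIso.toLinearEquiv

/-- cocycles with values in `E`. -/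
abbrev ZE : Submodule A (P.X p →ₗ[A] E) :=
  LinearMap.ker (LinearMap.lcomp A E (P.d (p - 1) p).hom)

lemma mem_ZE_iff (f : P.X p →ₗ[A] E) : f ∈ ZE P p E ↔ f ∘ₗ (P.d (p - 1) p).hom = 0 := by
  rw [LinearMap.mem_ker]
  rfl

lemma toCycles_coe (x : P.X (p - 1)) :
    ((P.sc' (p - 1) p (p + 1)).moduleCatToCycles x).1 = (P.d (p - 1) p).hom x := rfl

lemma range_le_ker (f : ZE P p E) :
    LinearMap.range (P.sc' (p - 1) p (p + 1)).moduleCatToCycles ≤
      LinearMap.ker (f.1 ∘ₗ (LinearMap.ker (P.sc' (p - 1) p (p + 1)).g.hom).subtype) := by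
  rintro _ ⟨x, rfl⟩
  rw [LinearMap.mem_ker, LinearMap.comp_apply]
  have h := (mem_ZE_iff P p E f.1).1 f.2
  have := LinearMap.congr_fun h x
  rw [LinearMap.comp_apply] at this
  exact this

/-- restriction of a cocycle to homology. -/
noncomputable def Θ : ZE P p E →ₗ[A] (Hq P p →ₗ[A] E) where
  toFun f := Submodule.liftQ _ (f.1 ∘ₗ (LinearMap.ker (P.sc' (p - 1) p (p + 1)).g.hom).subtype)
    (range_le_ker P p E f)
  map_add' f f' := by
    apply Submodule.linearMap_qext
    rfl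
  map_smul' a f := by
    apply Submodule.linearMap_qext
    rfl

lemma Θ_mk (f : ZE P p E) (z : LinearMap.ker (P.sc' (p - 1) p (p + 1)).g.hom) :
    Θ P p E f (Submodule.Quotient.mk z) = f.1 z.1 := rfl

variable [Module.Injective A E]

theorem Θ_surjective : Function.Surjective (Θ P p E) := by
  intro φ
  obtain ⟨f, hf⟩ : ∃ f : P.X p →ₗ[A] E,
      ∀ x : LinearMap.ker (P.sc' (p - 1) p (p + 1)).g.hom, f x.1 = (φ ∘ₗ Submodule.mkQ _) x :=
    Module.Injective.out (R := A) (Q := E)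
      (LinearMap.ker (P.sc' (p - 1) p (p + 1)).g.hom).subtype (Submodule.injective_subtype _)
      (φ ∘ₗ Submodule.mkQ _)
  have hfZ : f ∈ ZE P p E := by
    rw [mem_ZE_iff]
    apply LinearMap.ext
    intro x
    rw [LinearMap.comp_apply, LinearMap.zero_apply]
    have h1 := hf ((P.sc' (p - 1) p (p + 1)).moduleCatToCycles x)
    rw [LinearMap.comp_apply] at h1
    have h2 : (Submodule.mkQ (LinearMap.range (P.sc' (p - 1) p (p + 1)).moduleCatToCycles))
        ((P.sc' (p - 1) p (p + 1)).moduleCatToCycles x) = 0 := by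
      rw [Submodule.mkQ_apply, Submodule.Quotient.mk_eq_zero]
      exact ⟨x, rfl⟩
    rw [h2, map_zero] at h1
    exact h1
  refine ⟨⟨f, hfZ⟩, ?_⟩
  apply Submodule.linearMap_qext
  apply LinearMap.ext
  intro z
  exact hf z

theorem Θ_eq_zero_iff (f : ZE P p E) :
    Θ P p E f = 0 ↔ ∃ g : P.X (p + 1) →ₗ[A] E, g ∘ₗ (P.d p (p + 1)).hom = f.1 := by
  constructor
  · intro h0
    have hle : LinearMap.ker (P.d p (p + 1)).hom ≤ LinearMap.ker f.1 := by
      intro z hz
      have := LinearMap.congr_fun h0 (Submodule.Quotient.mk ⟨z, hz⟩)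
      rw [LinearMap.mem_ker]
      exact this
    have hinj : Function.Injective
        ((LinearMap.ker (P.d p (p + 1)).hom).liftQ (P.d p (p + 1)).hom le_rfl) := by
      rw [← LinearMap.ker_eq_bot]
      exact Submodule.ker_liftQ_eq_bot _ _ _ le_rfl
    obtain ⟨g, hg⟩ := Module.Injective.out (R := A) (Q := E) _ hinj
      ((LinearMap.ker (P.d p (p + 1)).hom).liftQ f.1 hle)
    refine ⟨g, ?_⟩
    apply LinearMap.ext
    intro x
    exact hg (Submodule.Quotient.mk x)
  · rintro ⟨g, hg⟩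
    apply Submodule.linearMap_qext
    apply LinearMap.ext
    intro z
    show f.1 z.1 = 0
    rw [← hg, LinearMap.comp_apply]
    have : (P.d p (p + 1)).hom z.1 = 0 := LinearMap.mem_ker.1 z.2
    rw [this, map_zero]

variable [P.IsKProjective] {K : Dual.D A} (eK : DRing.toD P ≅ K)

/-- **`Hom_{D(A)}(K, E[i]) ≃ Hom_A(H^{-i}(K), E)`** for `E` injective, `K` represented by the
K-projective complex `P`. -/
noncomputable def homInjEquiv (i : ℤ) (h : p + i = 0) :
    (K ⟶ (Dual.inD A E)⟦i⟧) ≃ₗ[A] (P.homology p →ₗ[A] E) :=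
  (LinearMap.quotKerEquivOfSurjective
      (ΨLin P eK h (sub_add_cancel p 1) E) (fun e => by
        obtain ⟨f, hf, hΨ⟩ := Ψ_surjective P eK h (sub_add_cancel p 1) e
        exact ⟨⟨f, hf⟩, hΨ⟩)).symm ≪≫ₗ
    Submodule.quotEquivOfEq _ _ (by
      ext f
      rw [LinearMap.mem_ker, LinearMap.mem_ker]
      exact (Ψ_eq_zero_iff P eK h (sub_add_cancel p 1) rfl f.1 f.2).trans
        (Θ_eq_zero_iff P p E f).symm) ≪≫ₗ
    LinearMap.quotKerEquivOfSurjective (Θ P p E) (Θ_surjective P p E) ≪≫ₗ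
    LinearEquiv.arrowCongr (homologyEquivHq P p).symm (LinearEquiv.refl A E)

end

end Groth.Agent.Lib.helper23.LDual
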