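import Mathlib

/-!
# helper23: sequential colimits of modules, abstractly

`IsSeqColimit D t C ι`: `C` with the maps `ι n : D n → C` "is" the colimit of the sequential system
`(D, t)` (jointly surjective, kernel = eventually zero).  Two such colimits of isomorphic systems are
isomorphic, in arbitrary universes (`IsSeqColimit.congr`).
-/

set_option autoImplicit false
universe u v w v' w'

namespace Groth.Agent.Lib.helper23.LDual

variable {A : Type u} [CommRing A]

structure IsSeqColimit (D : ℕ → Type v) [∀ n, AddCommGroup (D n)] [∀ n, Module A (D n)]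
    (t : ∀ i j, i ≤ j → D i →ₗ[A] D j) (C : Type w) [AddCommGroup C] [Module A C]
    (ι : ∀ n, D n →ₗ[A] C) : Prop where
  refl : ∀ i x, t i i le_rfl x = x
  trans : ∀ i j k (hij : i ≤ j) (hjk : j ≤ k) x, t j k hjk (t i j hij x) = t i k (hij.trans hjk) x
  comp : ∀ i j (h : i ≤ j) x, ι j (t i j h x) = ι i x
  surj : ∀ c, ∃ n x, ι n x = c
  zero : ∀ n x, ι n x = 0 → ∃ m, ∃ h : n ≤ m, t n m h x = 0

namespace IsSeqColimit

variable {D : ℕ → Type v} [∀ n, AddCommGroup (D n)] [∀ n, Module A (D n)]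
  {t : ∀ i j, i ≤ j → D i →ₗ[A] D j} {C : Type w} [AddCommGroup C] [Module A C]
  {ι : ∀ n, D n →ₗ[A] C}

/-- the comparison with Mathlib's direct limit. -/
noncomputable def equivDirectLimit (h : IsSeqColimit D t C ι) :
    Module.DirectLimit D t ≃ₗ[A] C := by
  haveI : DirectedSystem D (fun i j hij => t i j hij) :=
    ⟨fun i x => h.refl i x, fun k j i hij hjk x => h.trans i j k hij hjk x⟩
  refine LinearEquiv.ofBijective (Module.DirectLimit.lift A ℕ D t ι h.comp) ⟨?_, ?_⟩
  · rw [← LinearMap.ker_eq_bot, LinearMap.ker_eq_bot']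
    intro z hz
    obtain ⟨i, x, rfl⟩ := Module.DirectLimit.exists_of z
    rw [Module.DirectLimit.lift_of] at hz
    obtain ⟨m, hm, hx⟩ := h.zero i x hz
    rw [← Module.DirectLimit.of_f (hij := hm), hx, map_zero]
  · intro c
    obtain ⟨n, x, rfl⟩ := h.surj c
    exact ⟨Module.DirectLimit.of A ℕ D t n x, Module.DirectLimit.lift_of _ _ _⟩

/-- colimits of isomorphic sequential systems are isomorphic. -/
noncomputable def congr (h : IsSeqColimit D t C ι)
    {D' : ℕ → Type v'} [∀ n, AddCommGroup (D' n)] [∀ n, Module A (D' n)]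
    {t' : ∀ i j, i ≤ j → D' i →ₗ[A] D' j} {C' : Type w'} [AddCommGroup C'] [Module A C']
    {ι' : ∀ n, D' n →ₗ[A] C'} (h' : IsSeqColimit D' t' C' ι')
    (e : ∀ n, D n ≃ₗ[A] D' n)
    (he : ∀ i j (hij : i ≤ j) x, e j (t i j hij x) = t' i j hij (e i x)) : C ≃ₗ[A] C' :=
  h.equivDirectLimit.symm ≪≫ₗ
    Module.DirectLimit.congr e (fun i j hij => LinearMap.ext (he i j hij)) ≪≫ₗ
    h'.equivDirectLimit

end IsSeqColimit

end Groth.Agent.Lib.helper23.LDual
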