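import Mathlib
import Groth.Prelude.Def_Wider
import Groth.Prelude.Def_DualLC
import Groth.Agent.Lib.Helper23.LDual1
import Groth.Agent.Lib.Helper23.LDual7
import Groth.Agent.Lib.Helper19.LCBridge

/-!
# helper23: `LocCoh.H I i M ≃ₗ HDI A I (M[0]) i`
-/

set_option autoImplicit false
universe u
open CategoryTheory CategoryTheory.Limits Opposite DerivedCategory

attribute [local instance] HasDerivedCategory.standard

namespace Groth.Agent.Lib.helper23.LDual

open Groth.Agent.Lib.helper19.LCBridge

variable {A : Type u} [CommRing A] (I : Ideal A)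

/-- `HDI` is the sequential colimit of its stages. -/
theorem isSeqColimit_HDI (K : Dual.D A) (i : ℤ) :
    IsSeqColimit (A := A) (fun n => stage I K i n) (fun _ _ h => (trans I K i h).hom)
      (Dual2.HDI A I K i : ModuleCat.{u + 1} A) (fun n => (toHDI I K i n).hom) where
  refl n x := by
    show (trans I K i le_rfl) x = x
    have : trans I K i (le_refl n) = 𝟙 _ := by
      unfold trans
      have h1 : (homOfLE (le_refl n)).op.op = 𝟙 (op (op n)) := rfl
      rw [h1, CategoryTheory.Functor.map_id]
    rw [this]; rfl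
  trans n m k hnm hmk x := by
    show (trans I K i hmk) ((trans I K i hnm) x) = (trans I K i (hnm.trans hmk)) x
    have : trans I K i (hnm.trans hmk) = trans I K i hnm ≫ trans I K i hmk := by
      unfold trans
      rw [← Functor.map_comp]
      rfl
    rw [this]; rfl
  comp n m h x := trans_toHDI_apply I K i h x
  surj c := toHDI_surj I K i c
  zero n x hx := (toHDI_eq_zero_iff I K i x).1 hx

variable (i : ℕ) (M : ModuleCat.{u} A)

/-- transition maps on `Ext^i(A/I^n, M)`. -/
noncomputable def tExt {n m : ℕ} (h : n ≤ m) :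
    Abelian.Ext.{u} (Q I n) M i →ₗ[A] Abelian.Ext.{u} (Q I m) M i where
  toFun z := (Abelian.Ext.mk₀ (quotMap I h)).comp z (zero_add i)
  map_add' _ _ := Abelian.Ext.comp_add _ _ _ _
  map_smul' _ _ := Abelian.Ext.comp_smul _ _ _ _

/-- local cohomology is the sequential colimit of `Ext^i(A/I^n, M)`. -/
theorem isSeqColimit_H :
    IsSeqColimit (A := A) (fun n => Abelian.Ext.{u} (Q I n) M i) (fun _ _ h => tExt I i M h)
      ((localCohomology I i).obj M : ModuleCat.{u} A) (fun n => toH' I i M n) where
  refl n x := by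
    show (Abelian.Ext.mk₀ (quotMap I (le_refl n))).comp x (zero_add i) = x
    have : quotMap I (le_refl n) = 𝟙 _ := by
      apply ModuleCat.hom_ext
      apply LinearMap.ext
      intro y
      obtain ⟨a, rfl⟩ := Submodule.Quotient.mk_surjective _ y
      rfl
    rw [this, Abelian.Ext.mk₀_id_comp]
  trans n m k hnm hmk x := by
    show (Abelian.Ext.mk₀ (quotMap I hmk)).comp
      ((Abelian.Ext.mk₀ (quotMap I hnm)).comp x (zero_add i)) (zero_add i) =
      (Abelian.Ext.mk₀ (quotMap I (hnm.trans hmk))).comp x (zero_add i)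
    rw [Abelian.Ext.mk₀_comp_mk₀_assoc]
    have : quotMap I hmk ≫ quotMap I hnm = quotMap I (hnm.trans hmk) := by
      apply ModuleCat.hom_ext
      apply LinearMap.ext
      intro y
      obtain ⟨a, rfl⟩ := Submodule.Quotient.mk_surjective _ y
      rfl
    rw [this]
  comp n m h x := toH'_comp I i M h x
  surj c := toH'_surj I i M c
  zero n x hx := (toH'_eq_zero_iff I i M x).1 hx

/-- **`H^i_I(M) ≃ HDI A I (M[0]) i`.** -/
noncomputable def HEquivHDI :
    ((localCohomology I i).obj M : ModuleCat.{u} A) ≃ₗ[A]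
      (Dual2.HDI A I ((DerivedCategory.singleFunctor (ModuleCat.{u} A) 0).obj M) (i : ℤ) :
        ModuleCat.{u + 1} A) :=
  (isSeqColimit_H I i M).congr (isSeqColimit_HDI I _ (i : ℤ))
    (fun n => Abelian.Ext.homLinearEquiv (R := A) (X := Q I n) (Y := M) (n := i))
    (fun n m h x => by
      show ((Abelian.Ext.mk₀ (quotMap I h)).comp x (zero_add i)).hom = _
      rw [Abelian.Ext.comp_hom, Abelian.Ext.mk₀_hom, ShiftedHom.mk₀_comp]
      rfl)

end Groth.Agent.Lib.helper23.LDual
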