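import Mathlib
import Groth.Prelude.Def_DRing3
import Groth.Prelude.Def_DRing4
import Groth.Agent.Lib.Helper23.LDual5

/-!
# helper23: `Γ_I(Hom•(F, L)) ≅ Hom•(F, Γ_I(L))` for `F` termwise finite and `L` bounded
-/

set_option autoImplicit false
universe u
open CategoryTheory CategoryTheory.Limits
open CochainComplex.HomComplex

namespace Groth.Agent.Lib.helper23.LDual

variable {A : Type u} [CommRing A] (I : Ideal A)

section Mod

/-- a linear map from a finite module to a torsion module is uniformly killed. -/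
lemma exists_pow_smul_map_eq_zero {N T : Type u} [AddCommGroup N] [Module A N] [AddCommGroup T]
    [Module A T] [Module.Finite A N] (f : N →ₗ[A] T)
    (hT : ∀ t : T, ∃ k : ℕ, ∀ x ∈ I ^ k, x • t = 0) :
    ∃ k : ℕ, ∀ x ∈ I ^ k, ∀ y : N, x • f y = 0 := by
  classical
  obtain ⟨s, hs⟩ := (Module.finite_def.1 (inferInstance : Module.Finite A N))
  choose kf hkf using fun g : N => hT (f g)
  refine ⟨s.sup kf, fun x hx y => ?_⟩
  have hy : y ∈ Submodule.span A (s : Set N) := by rw [hs]; exact Submodule.mem_top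
  induction hy using Submodule.span_induction with
  | mem g hg =>
    exact hkf g x (Ideal.pow_le_pow_right (Finset.le_sup (f := kf) hg) hx)
  | zero => rw [map_zero, smul_zero]
  | add y y' _ _ h h' => rw [map_add, smul_add, h, h', add_zero]
  | smul a y _ h => rw [map_smul, smul_comm, h, smul_zero]

end Mod

section Lift

variable {K' L' : DRing.Cx A}

/-- lift a chain map with torsion values to `Γ_I`. -/
noncomputable def liftΓ (g : K' ⟶ L')
    (h : ∀ n (x : K'.X n), (g.f n).hom x ∈ DRing.torsionSub I (L'.X n)) : K' ⟶ Γ I L' where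
  f n := ModuleCat.ofHom (LinearMap.codRestrict (DRing.torsionSub I (L'.X n)) (g.f n).hom (h n))
  comm' i j _ := by
    ext x
    apply Subtype.ext
    have := congrArg (fun t => t.hom x) (g.comm i j)
    exact this

lemma liftΓ_f_apply (g : K' ⟶ L')
    (h : ∀ n (x : K'.X n), (g.f n).hom x ∈ DRing.torsionSub I (L'.X n)) (n : ℤ) (x : K'.X n) :
    Subtype.val (p := fun m => m ∈ DRing.torsionSub I (L'.X n)) (((liftΓ I g h).f n).hom x) =
      (g.f n).hom x := rfl

end Lift

variable (L : DRing.Cx A)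

/-- the inclusion `Γ_I(L) ⟶ L`. -/
noncomputable def ιΓ : Γ I L ⟶ L where
  f j := (DRing.gammaIι I).app (L.X j)
  comm' _ _ _ := rfl

lemma ιΓ_f_apply (j : ℤ) (x : DRing.torsionSub I (L.X j)) :
    ((ιΓ I L).f j).hom x = (x : L.X j) := rfl

variable (F : DRing.Cx A)

/-- (d1) cochains with values in `Γ_I(L)` are torsion, when `F` is termwise finite and `L` is
bounded. -/
lemma comp_ιΓ_mem_torsionSub (hF : ∀ p, Module.Finite A (F.X p)) (a b : ℤ)
    (hL : ∀ j : ℤ, (j < a ∨ b < j) → IsZero (L.X j)) (n : ℤ) (z : Cochain F (Γ I L) n) :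
    z.comp (Cochain.ofHom (ιΓ I L)) (add_zero n) ∈ DRing.torsionSub I (Cochain F L n) := by
  classical
  have hp : ∀ p : ℤ, ∃ k : ℕ, ∀ x ∈ I ^ k, ∀ y : F.X p,
      x • ((z.v p (p + n) rfl).hom y) = 0 := by
    intro p
    haveI := hF p
    exact exists_pow_smul_map_eq_zero I (z.v p (p + n) rfl).hom
      (fun t => Subtype.property (p := fun m => m ∈ DRing.torsionSub I (L.X (p + n))) t |>.imp
        (fun k hk x hx => Subtype.ext (hk x hx)))
  choose kp hkp using hp
  refine ⟨(Finset.Icc (a - n) (b - n)).sup kp, fun x hx => ?_⟩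
  ext p q hpq y
  obtain rfl : q = p + n := by omega
  rw [Cochain.smul_v, Cochain.zero_v, Cochain.comp_zero_cochain_v, Cochain.ofHom_v]
  by_cases hq : p + n < a ∨ b < p + n
  · exact congrArg (fun t => t.hom y) ((hL _ hq).eq_of_tgt _ _)
  · have hmem : p ∈ Finset.Icc (a - n) (b - n) := by
      rw [Finset.mem_Icc]; omega
    have hx' : x ∈ I ^ kp p := Ideal.pow_le_pow_right (Finset.le_sup (f := kp) hmem) hx
    show x • ((ιΓ I L).f (p + n)).hom ((z.v p (p + n) rfl).hom y) = 0
    rw [← map_smul, hkp p x hx' y, map_zero]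

/-- the comparison map `Hom•(F, Γ_I(L)) ⟶ Γ_I(Hom•(F, L))`. -/
noncomputable def homΓ (hF : ∀ p, Module.Finite A (F.X p)) (a b : ℤ)
    (hL : ∀ j : ℤ, (j < a ∨ b < j) → IsZero (L.X j)) :
    DRing.homCx F (Γ I L) ⟶ Γ I (DRing.homCx F L) :=
  liftΓ I (DRing.homCxMap F (ιΓ I L)) (fun n z => comp_ιΓ_mem_torsionSub I L F hF a b hL n z)

lemma homΓ_f_apply (hF : ∀ p, Module.Finite A (F.X p)) (a b : ℤ)
    (hL : ∀ j : ℤ, (j < a ∨ b < j) → IsZero (L.X j)) (n : ℤ) (z : Cochain F (Γ I L) n) :
    Subtype.val (p := fun m => m ∈ DRing.torsionSub I (Cochain F L n))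
      (((homΓ I L F hF a b hL).f n).hom z) = z.comp (Cochain.ofHom (ιΓ I L)) (add_zero n) := rfl

instance isIso_homΓ (hF : ∀ p, Module.Finite A (F.X p)) (a b : ℤ)
    (hL : ∀ j : ℤ, (j < a ∨ b < j) → IsZero (L.X j)) : IsIso (homΓ I L F hF a b hL) := by
  haveI : ∀ n, IsIso ((homΓ I L F hF a b hL).f n) := by
    intro n
    rw [ConcreteCategory.isIso_iff_bijective]
    constructor
    · intro (z : Cochain F (Γ I L) n) (z' : Cochain F (Γ I L) n) h
      have h1 := congrArg (Subtype.val (p := fun m => m ∈ DRing.torsionSub I (Cochain F L n))) h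
      rw [homΓ_f_apply, homΓ_f_apply] at h1
      show z = z'
      ext p q hpq y
      have h2 := congrArg (fun t => (t.v p q hpq).hom y) h1
      simp only [Cochain.comp_zero_cochain_v, Cochain.ofHom_v] at h2
      exact Subtype.ext h2
    · intro w
      obtain ⟨k, hk⟩ := Subtype.property (p := fun m => m ∈ DRing.torsionSub I (Cochain F L n)) w
      let w1 : Cochain F L n := Subtype.val (p := fun m => m ∈ DRing.torsionSub I (Cochain F L n)) w
      let z : Cochain F (Γ I L) n := Cochain.mk (fun p q hpq =>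
        ModuleCat.ofHom (LinearMap.codRestrict (DRing.torsionSub I (L.X q)) (w1.v p q hpq).hom
          (fun y => ⟨k, fun x hx => by
            have h3 := congrArg (fun t => (t.v p q hpq).hom y) (hk x hx)
            exact h3⟩)))
      refine ⟨z, ?_⟩
      apply Subtype.ext
      rw [homΓ_f_apply]
      show z.comp (Cochain.ofHom (ιΓ I L)) (add_zero n) = w1
      ext p q hpq y
      rw [Cochain.comp_zero_cochain_v, Cochain.ofHom_v]
      rfl
  exact HomologicalComplex.Hom.isIso_of_components _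

end Groth.Agent.Lib.helper23.LDual
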