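import Mathlib
import Groth.Prelude.Def_Wider
import Groth.Prelude.Def_DualLC
import Groth.Agent.Lib.Helper23.LDual3
import Groth.Agent.Lib.Helper23.LDual6
import Groth.Agent.Lib.Helper23.LDual8
import Groth.Agent.Lib.Helper23.LDual9
import Groth.Agent.Lib.Helper23.LDual10
import Groth.Agent.Lib.Helper23.CxBid12
import Groth.Agent.Lib.Helper11.GCAlg2

/-!
# helper23: local duality (S11172)
-/

set_option autoImplicit false
universe u
open CategoryTheory CategoryTheory.Limits DerivedCategory Opposite IsLocalRing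

attribute [local instance] HasDerivedCategory.standard

namespace Groth.Agent.Lib.helper23.LDual

open Groth.Agent.Lib.helper23.RHomCx Groth.Agent.Lib.helper23.GorInv
  Groth.Agent.Lib.helper23.DualD Groth.Agent.Lib.helper23.CxBid
  Groth.Agent.Lib.helper23.TensHom Groth.Agent.Lib.helper13.KFlat

variable {A : Type u} [CommRing A] [IsLocalRing A] [IsNoetherianRing A]
  (ω : Dual.D A) (hω : Dual.IsDualizing A ω) (hn : Dual.IsNormalized A ω)
  (E : Type u) [AddCommGroup E] [Module A E] (f : ResidueField A →ₗ[A] E)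
  (hf : InjHull.IsInjectiveHull f)

include hω hn hf in
/-- `Γ_m` of a bounded injective model of a normalized dualizing complex is `E[0]`. -/
theorem nonempty_Q_Gamma_iso (Mω : Model ω) :
    Nonempty (Q.obj (Γ (maximalIdeal A) Mω.I) ≅ Dual.inD A E) := by
  haveI := Mω.isKInjective
  obtain ⟨⟨e0⟩, hz⟩ := localCohomology_normalized_dualizing ω hω hn E f hf
  have key : ∀ q : ℤ, ((homologyFunctor (ModuleCat.{u} A) q).obj
      (Q.obj (Γ (maximalIdeal A) Mω.I))) ≃ₗ[A] Dual2.HDI A (maximalIdeal A) ω q := fun q =>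
    homologyQEquiv _ q ≪≫ₗ homologyGammaEquiv (maximalIdeal A) Mω.I q ≪≫ₗ
      (HDIIso (maximalIdeal A) Mω.e q).toLinearEquiv
  refine nonempty_iso_single _ 0 (ModuleCat.of A E) ?_ ?_
  · intro q hq
    haveI := hz q hq
    exact isZero_of_subsingleton_linearEquiv (key q)
  · exact ⟨((key 0) ≪≫ₗ e0).toModuleIso⟩

omit [IsLocalRing A] [IsNoetherianRing A] in
lemma finite_Hn_S₀ (N : ModuleCat.{u} A) [Module.Finite A N] (j : ℤ) :
    Module.Finite A (Hn (CxBid.S₀ N) j) := by
  let e : (singleFunctor (ModuleCat.{u} A) 0).obj N ≅ Q.obj (CxBid.S₀ N) :=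
    (singleFunctorIsoCompQ (ModuleCat.{u} A) 0).app N
  by_cases hj : j = 0
  · subst hj
    have e2 : Hn (CxBid.S₀ N) 0 ≅ N :=
      (homologyFunctor (ModuleCat.{u} A) 0).mapIso e.symm ≪≫
        (singleFunctorCompHomologyFunctorIso (ModuleCat.{u} A) 0).app N
    exact Module.Finite.equiv e2.toLinearEquiv.symm
  · have hz : IsZero (Hn (CxBid.S₀ N) j) := by
      refine IsZero.of_iso ?_ ((homologyFunctor (ModuleCat.{u} A) j).mapIso e.symm)
      rcases lt_or_gt_of_ne hj with h | h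
      · exact isZero_of_isGE _ 0 j h
      · exact isZero_of_isLE _ 0 j h
    haveI := ModuleCat.subsingleton_of_isZero hz
    infer_instance

omit [IsLocalRing A] [IsNoetherianRing A] in
lemma isZero_homology_homCx_S₀ (I : DRing.Cx A) (N : ModuleCat.{u} A) (j : ℤ)
    (hz : IsZero (I.X j)) : IsZero ((DRing.homCx (CxBid.S₀ N) I).homology j) := by
  have h1 : IsZero (((DualD.homCx I).obj (op N)).X j) := by
    haveI : Subsingleton (N ⟶ I.X j) := ⟨fun a b => hz.eq_of_tgt a b⟩
    exact ModuleCat.isZero_of_subsingleton (ModuleCat.of A (N ⟶ I.X j))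
  have h2 : IsZero ((DRing.homCx (CxBid.S₀ N) I).X j) :=
    IsZero.of_iso h1
      ((HomologicalComplex.eval _ _ j).mapIso (asIso (θ I N))).symm
  rw [← HomologicalComplex.exactAt_iff_isZero_homology]
  exact ShortComplex.exact_of_isZero_X₂ _ h2

include hω hn hf in
/-- **Local duality** (S11172). -/
theorem localDuality (M : Type u) [AddCommGroup M] [Module A M] [Module.Finite A M] (i : ℕ) :
    Nonempty (LocCoh.H (maximalIdeal A) i M ≃ₗ[A]
      ((Dual.inD A M ⟶ ω⟦(-(i : ℤ))⟧) →ₗ[A] E)) := by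
  obtain ⟨Mω⟩ := exists_model ω hω
  haveI := Mω.isKInjective
  let m := maximalIdeal A
  let I : DRing.Cx A := Mω.I
  let N : ModuleCat.{u} A := ModuleCat.of A M
  haveI : Module.Finite A N := inferInstanceAs (Module.Finite A M)
  let X : DRing.Cx A := DRing.homCx (CxBid.S₀ N) I
  have hfN : ∀ j, Module.Finite A (Hn (CxBid.S₀ N) j) := finite_Hn_S₀ N
  have hXfin : ∀ j, Module.Finite A (X.homology j) := fun j => by
    haveI := finite_homology_D hω Mω (CxBid.S₀ N) hfN j
    exact Module.Finite.equiv (homologyQEquiv X j)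
  have hXz : ∀ j : ℤ, Mω.b + 1 ≤ j → IsZero (X.homology j) := fun j hj =>
    isZero_homology_homCx_S₀ I N j (Mω.zero j (Or.inr (by omega)))
  obtain ⟨F, φ, hFff, hFz, hφ⟩ :=
    Groth.Agent.Lib.helper11.GCAlg.exists_finite_free_quasiIso A X hXfin (Mω.b + 1) hXz
  haveI := hφ
  haveI : ∀ n, Projective (F.X n) := fun n => by
    haveI := (hFff n).2
    exact (IsProjective.iff_projective (R := A) (F.X n)).1 inferInstance
  haveI : F.IsStrictlyLE Mω.b :=
    (CochainComplex.isStrictlyLE_iff _ _).2 (fun j hj => hFz j (by omega))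
  haveI : F.IsKProjective := CochainComplex.isKProjective_of_projective F Mω.b
  have hFK : IsKFlatR F := isKFlatR_of_bounded_above F Mω.b (fun j hj => hFz j (by omega))
    (fun j => by
      haveI := (hFff j).2
      infer_instance)
  let J : DRing.Cx A := DRing.homCx F I
  haveI : J.IsKInjective := isKInjective_homCx F I hFK
  haveI : IsIso (Q.map φ) := by rw [isIso_Q_map_iff_quasiIso]; infer_instance
  obtain ⟨eJ0⟩ := nonempty_biduality_iso hω Mω (CxBid.S₀ N) hfN F (asIso (Q.map φ))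
  let eJ : Dual.inD A M ≅ Q.obj J :=
    (singleFunctorIsoCompQ (ModuleCat.{u} A) 0).app N ≪≫ eJ0.symm
  obtain ⟨eΓ⟩ := nonempty_Q_Gamma_iso ω hω hn E f hf Mω
  haveI : Module.Injective A E := hf.isInjective
  have hFfin : ∀ p, Module.Finite A (F.X p) := fun p => (hFff p).1
  have hi : -(i : ℤ) + (i : ℤ) = 0 := by omega
  exact ⟨HEquivHDI m i N ≪≫ₗ (HDIIso m eJ i).toLinearEquiv ≪≫ₗ
    (homologyGammaEquiv m J i).symm ≪≫ₗ
    (homologyLinearEquivOfIso (asIso (homΓ m I F hFfin Mω.a Mω.b Mω.zero)) i).symm ≪≫ₗ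
    homologyEquivCxOfKProjective F (Γ m I) i ≪≫ₗ
    hc (Iso.refl _) ((Q.commShiftIso (i : ℤ)).app (Γ m I) ≪≫
      (shiftFunctor (Dual.D A) (i : ℤ)).mapIso eΓ) ≪≫ₗ
    homInjEquiv F (-(i : ℤ)) E (Iso.refl _) i hi ≪≫ₗ
    LinearEquiv.arrowCongr
      (homologyLinearEquivOfQuasiIso A φ (-(i : ℤ)) ≪≫ₗ (homologyQEquiv X (-(i : ℤ))).symm ≪≫ₗ
        homologyDEquiv I (CxBid.S₀ N) (-(i : ℤ)) ≪≫ₗ
        hc ((singleFunctorIsoCompQ (ModuleCat.{u} A) 0).app N).symm
          ((shiftFunctor (Dual.D A) (-(i : ℤ))).mapIso Mω.e))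
      (LinearEquiv.refl A E)⟩

end Groth.Agent.Lib.helper23.LDual
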