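import Mathlib
import Groth.Prelude.Def_Wider
import Groth.Prelude.Def_DualLC
import Groth.Agent.Lib.Helper23.LDual11
import Groth.Agent.S11681
import Groth.Agent.S0299

/-!
# helper23: local duality for bounded below complexes with finite cohomology
-/

set_option autoImplicit false
universe u
open CategoryTheory CategoryTheory.Limits DerivedCategory Opposite IsLocalRing

attribute [local instance] HasDerivedCategory.standard

namespace Groth.Agent.Lib.helper23.LDual

open Groth.Agent.Lib.helper23.RHomCx Groth.Agent.Lib.helper23.GorInv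
  Groth.Agent.Lib.helper23.DualD Groth.Agent.Lib.helper23.CxBid
  Groth.Agent.Lib.helper23.TensHom Groth.Agent.Lib.helper13.KFlat

variable {A : Type u} [CommRing A] [IsLocalRing A] [IsNoetherianRing A]
  (ω : Dual.D A) (hω : Dual.IsDualizing A ω) (hn : Dual.IsNormalized A ω)
  (E : Type u) [AddCommGroup E] [Module A E] (f : ResidueField A →ₗ[A] E)
  (hf : InjHull.IsInjectiveHull f)

include hω hn hf in
/-- **Local duality for complexes** (representative form). -/
theorem localDualityCx₀ (K₀ : DRing.Cx A) (hK : ∀ j, Module.Finite A (Hn K₀ j)) (c : ℤ)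
    [(Q.obj K₀).IsGE c] (i : ℤ) :
    Nonempty (Dual2.HDI A (maximalIdeal A) (Q.obj K₀) i ≃ₗ[A]
      ((Q.obj K₀ ⟶ ω⟦-i⟧) →ₗ[A] E)) := by
  obtain ⟨Mω⟩ := exists_model ω hω
  haveI := Mω.isKInjective
  let m := maximalIdeal A
  let I : DRing.Cx A := Mω.I
  let X : DRing.Cx A := DRing.homCx K₀ I
  have hamp : DRing.HasInjAmplitudeIn A Mω.a Mω.b (Q.obj Mω.I) := ⟨Mω.I, Mω.zero,
    fun j => (Module.injective_iff_injective_object A (Mω.I.X j)).2 (Mω.inj j), ⟨Iso.refl _⟩⟩
  have hXfin : ∀ j, Module.Finite A (X.homology j) := fun j => by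
    haveI := finite_homology_D hω Mω K₀ hK j
    exact Module.Finite.equiv (homologyQEquiv X j)
  haveI : (Q.obj X).IsLE (Mω.b - c) := isLE_D_of_isGE Mω.I Mω.a Mω.b hamp K₀ c
  have hXz : ∀ j : ℤ, Mω.b - c + 1 ≤ j → IsZero (X.homology j) := fun j hj =>
    IsZero.of_iso (isZero_of_isLE (Q.obj X) (Mω.b - c) j (by omega))
      ((homologyFunctorFactors (ModuleCat.{u} A) j).app X).symm
  obtain ⟨F, φ, hFff, hFz, hφ⟩ :=
    Groth.Agent.Lib.helper11.GCAlg.exists_finite_free_quasiIso A X hXfin (Mω.b - c + 1) hXz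
  haveI := hφ
  haveI : ∀ n, Projective (F.X n) := fun n => by
    haveI := (hFff n).2
    exact (IsProjective.iff_projective (R := A) (F.X n)).1 inferInstance
  haveI : F.IsStrictlyLE (Mω.b - c) :=
    (CochainComplex.isStrictlyLE_iff _ _).2 (fun j hj => hFz j (by omega))
  haveI : F.IsKProjective := CochainComplex.isKProjective_of_projective F (Mω.b - c)
  have hFK : IsKFlatR F := isKFlatR_of_bounded_above F (Mω.b - c) (fun j hj => hFz j (by omega))
    (fun j => by
      haveI := (hFff j).2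
      infer_instance)
  let J : DRing.Cx A := DRing.homCx F I
  haveI : J.IsKInjective := isKInjective_homCx F I hFK
  haveI : IsIso (Q.map φ) := by rw [isIso_Q_map_iff_quasiIso]; infer_instance
  obtain ⟨eJ0⟩ := nonempty_biduality_iso hω Mω K₀ hK F (asIso (Q.map φ))
  let eJ : Q.obj K₀ ≅ Q.obj J := eJ0.symm
  obtain ⟨eΓ⟩ := nonempty_Q_Gamma_iso ω hω hn E f hf Mω
  haveI : Module.Injective A E := hf.isInjective
  have hFfin : ∀ p, Module.Finite A (F.X p) := fun p => (hFff p).1
  have hi : -i + i = 0 := by omega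
  exact ⟨(HDIIso m eJ i).toLinearEquiv ≪≫ₗ
    (homologyGammaEquiv m J i).symm ≪≫ₗ
    (homologyLinearEquivOfIso (asIso (homΓ m I F hFfin Mω.a Mω.b Mω.zero)) i).symm ≪≫ₗ
    homologyEquivCxOfKProjective F (Γ m I) i ≪≫ₗ
    hc (Iso.refl _) ((Q.commShiftIso i).app (Γ m I) ≪≫
      (shiftFunctor (Dual.D A) i).mapIso eΓ) ≪≫ₗ
    homInjEquiv F (-i) E (Iso.refl _) i hi ≪≫ₗ
    LinearEquiv.arrowCongr
      (homologyLinearEquivOfQuasiIso A φ (-i) ≪≫ₗ (homologyQEquiv X (-i)).symm ≪≫ₗ
        homologyDEquiv I K₀ (-i) ≪≫ₗ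
        hc (Iso.refl _) ((shiftFunctor (Dual.D A) (-i)).mapIso Mω.e))
      (LinearEquiv.refl A E)⟩

include hω hn hf in
/-- **Local duality for complexes**: `K` cohomologically bounded below with finite cohomology. -/
theorem localDualityCx (K : Dual.D A) (hK : ∀ j : ℤ, Module.Finite A (Dual.HD A K j)) (c : ℤ)
    (hc' : ∀ j : ℤ, j < c → Subsingleton (Dual.HD A K j)) (i : ℤ) :
    Nonempty (Dual2.HDI A (maximalIdeal A) K i ≃ₗ[A] ((K ⟶ ω⟦-i⟧) →ₗ[A] E)) := by
  let K₀ : DRing.Cx A := Q.objPreimage K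
  let e : Q.obj K₀ ≅ K := Q.objObjPreimageIso K
  have hK₀ : ∀ j, Module.Finite A (Hn K₀ j) := fun j => by
    haveI := hK j
    exact Module.Finite.equiv ((homologyFunctor (ModuleCat.{u} A) j).mapIso e).toLinearEquiv.symm
  haveI : (Q.obj K₀).IsGE c := by
    rw [isGE_iff]
    intro j hj
    haveI := hc' j hj
    exact IsZero.of_iso (ModuleCat.isZero_of_subsingleton _)
      ((homologyFunctor (ModuleCat.{u} A) j).mapIso e)
  obtain ⟨e1⟩ := localDualityCx₀ ω hω hn E f hf K₀ hK₀ c i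
  exact ⟨(HDIIso (maximalIdeal A) e i).symm.toLinearEquiv ≪≫ₗ e1 ≪≫ₗ
    LinearEquiv.arrowCongr (hc e (Iso.refl _)) (LinearEquiv.refl A E)⟩

end Groth.Agent.Lib.helper23.LDual

namespace Groth.Agent.Lib.helper23.LDual

open Groth.Agent.Lib.helper23.RHomCx Groth.Agent.Lib.helper23.GorInv
  Groth.Agent.Lib.helper23.DualD Groth.Agent.Lib.helper23.CxBid

section

variable {A : Type u} [CommRing A] [IsNoetherianRing A]
  (ω : Dual.D A) (hω : Dual.IsDualizing A ω)

omit [IsNoetherianRing A] in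
include hω in
/-- `Hom_{D(A)}(K, ω[j])` has a model in `Type u`. -/
theorem exists_small_homCx (K : Dual.D A) (j : ℤ) :
    ∃ (G : Type u) (_ : AddCommGroup G) (_ : Module A G),
      Nonempty (G ≃ₗ[A] (K ⟶ ω⟦j⟧)) := by
  obtain ⟨Mω⟩ := exists_model ω hω
  haveI := Mω.isKInjective
  exact ⟨Hn (DRing.homCx (Q.objPreimage K) Mω.I) j, inferInstance, inferInstance,
    ⟨homologyDEquiv Mω.I (Q.objPreimage K) j ≪≫ₗ
      hc (Q.objObjPreimageIso K) ((shiftFunctor (Dual.D A) j).mapIso Mω.e)⟩⟩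

end

variable {A : Type u} [CommRing A] [IsLocalRing A] [IsNoetherianRing A]
  (E : Type u) [AddCommGroup E] [Module A E] (f : ResidueField A →ₗ[A] E)
  (hf : InjHull.IsInjectiveHull f)

include hf in
/-- `E` is a cogenerator. -/
lemma subsingleton_dual_iff (G : Type u) [AddCommGroup G] [Module A G] :
    Subsingleton (G →ₗ[A] E) ↔ Subsingleton G := by
  constructor
  · intro h
    have hinj := ((Groth.Agent.S11681.result A E f hf).1 G).1
    exact ⟨fun x y => hinj (Subsingleton.elim _ _)⟩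
  · intro h
    exact ⟨fun l l' => LinearMap.ext fun x => by rw [Subsingleton.elim x 0, map_zero, map_zero]⟩

variable (ω : Dual.D A) (hω : Dual.IsDualizing A ω) (hn : Dual.IsNormalized A ω)

include hω hn in
/-- vanishing of local cohomology vs. vanishing of `Hom(K, ω[-i])`. -/
theorem subsingleton_HDI_iff (K : Dual.D A) (hK : ∀ j : ℤ, Module.Finite A (Dual.HD A K j))
    (c : ℤ) (hc' : ∀ j : ℤ, j < c → Subsingleton (Dual.HD A K j)) (i : ℤ) :
    Subsingleton (Dual2.HDI A (maximalIdeal A) K i) ↔ Subsingleton (K ⟶ ω⟦-i⟧) := by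
  obtain ⟨E, _, _, f, hf⟩ := Groth.Agent.S0299.result A (ResidueField A)
  obtain ⟨e⟩ := localDualityCx ω hω hn E f hf K hK c hc' i
  obtain ⟨G, _, _, ⟨eG⟩⟩ := exists_small_homCx ω hω K (-i)
  rw [e.toEquiv.subsingleton_congr,
    (LinearEquiv.arrowCongr eG (LinearEquiv.refl A E)).toEquiv.symm.subsingleton_congr,
    subsingleton_dual_iff E f hf G, eG.toEquiv.subsingleton_congr]

end Groth.Agent.Lib.helper23.LDual
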