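import Mathlib
import Groth.Prelude.Def_DRing3
import Groth.Prelude.Def_DerCA
import Groth.Prelude.Def_DDual2
import Groth.Prelude.Def_DualLC
import Groth.Agent.Lib.Helper23.CechD7
import Groth.Agent.Lib.Helper23.LDual15
import Groth.Agent.Lib.Helper13.GM1
import Groth.Agent.S0316

/-!
# Local duality for unbounded complexes over a complete local ring (helper23, S1761)
-/

set_option autoImplicit false
universe u
open CategoryTheory CategoryTheory.Limits DerivedCategory Pretriangulated IsLocalRing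

attribute [local instance] HasDerivedCategory.standard

namespace Groth.Agent.Lib.helper23.CechD

open Groth.Agent.Lib.helper23 Groth.Agent.Lib.helper23.DualD Groth.Agent.Lib.helper23.CxBid
  Groth.Agent.Lib.helper23.GorInv Groth.Agent.Lib.helper23.LDual

section Trunc

variable {A : Type u} [CommRing A]

/-- precomposition with `K ⟶ τ≥c K` on maps to an object of `D^{≥ c}` -/
noncomputable def homTruncGEEquiv (K Z : Dual.D A) (c : ℤ) [Z.IsGE c] :
    ((TStructure.t.truncGE c).obj K ⟶ Z) ≃ₗ[A] (K ⟶ Z) :=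
  LinearEquiv.ofBijective (Linear.leftComp A Z ((TStructure.t.truncGEπ c).app K))
    ⟨fun _ _ h => TStructure.t.from_truncGE_obj_ext h,
      fun f => ⟨TStructure.t.descTruncGE f c, TStructure.t.π_descTruncGE f c⟩⟩

/-- the cohomology of `τ≥c K` is finite if that of `K` is -/
lemma finite_HD_truncGE (K : Dual.D A) (hK : ∀ j : ℤ, Module.Finite A (Dual.HD A K j)) (c j : ℤ) :
    Module.Finite A (Dual.HD A ((TStructure.t.truncGE c).obj K) j) := by
  by_cases hj : j < c
  · haveI : Subsingleton (Dual.HD A ((TStructure.t.truncGE c).obj K) j) :=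
      ModuleCat.subsingleton_of_isZero
        (DerivedCategory.isZero_of_isGE ((TStructure.t.truncGE c).obj K) c j hj)
    infer_instance
  · have hT := TStructure.t.triangleLTGE_distinguished c K
    haveI : ((TStructure.t.triangleLTGE c).obj K).obj₁.IsLE (c - 1) := inferInstance
    haveI := isIso_homology_map_mor₂ _ hT j
      (DerivedCategory.isZero_of_isLE _ (c - 1) j (by omega))
      (DerivedCategory.isZero_of_isLE _ (c - 1) (j + 1) (by omega))
    haveI : Module.Finite A ((homologyFunctor (ModuleCat.{u} A) j).obj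
        ((TStructure.t.triangleLTGE c).obj K).obj₂) := hK j
    exact Module.Finite.equiv (asIso ((homologyFunctor (ModuleCat.{u} A) j).map
      ((TStructure.t.triangleLTGE c).obj K).mor₂)).toLinearEquiv

end Trunc

section Main

variable {A : Type u} [CommRing A] [IsLocalRing A] [IsNoetherianRing A]
  (ω : Dual.D A) (hω : Dual.IsDualizing A ω) (hn : Dual.IsNormalized A ω)
  (E : Type u) [AddCommGroup E] [Module A E] (f : ResidueField A →ₗ[A] E)
  (hf : InjHull.IsInjectiveHull f)

include hω hn hf in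
/-- local duality for arbitrary complexes with finite cohomology (non-complete form) -/
theorem localDualityCx_unbounded (K : Dual.D A)
    (hK : ∀ j : ℤ, Module.Finite A (Dual.HD A K j)) (i : ℤ) :
    Nonempty (Dual2.HDI A (maximalIdeal A) K i ≃ₗ[A] ((K ⟶ ω⟦-i⟧) →ₗ[A] E)) := by
  obtain ⟨Mω⟩ := exists_model ω hω
  obtain ⟨fs, hfs⟩ := exists_list_span (maximalIdeal A)
  haveI : DRing.HasRgammaI (maximalIdeal A) := hasRgammaI _
  haveI := Mω.isStrictlyGE
  haveI hωGE : ω.IsGE Mω.a := TStructure.t.isGE_of_iso Mω.e Mω.a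
  let c : ℤ := min (Mω.a + i) (i - fs.length)
  have hc1 : c ≤ Mω.a + i := min_le_left _ _
  have hc2 : c ≤ i - fs.length := min_le_right _ _
  haveI h1 : (ω⟦-i⟧).IsGE (Mω.a + i) := TStructure.t.isGE_shift ω Mω.a (-i) (Mω.a + i) (by omega)
  haveI h2 : (ω⟦-i⟧).IsGE c := TStructure.t.isGE_of_ge (ω⟦-i⟧) c (Mω.a + i) hc1
  have hT := TStructure.t.triangleLTGE_distinguished c K
  haveI : ((TStructure.t.triangleLTGE c).obj K).obj₁.IsLE (c - 1) := inferInstance
  -- the `RΓ`-triangle
  obtain ⟨h', hT'⟩ := Groth.Agent.Lib.helper13.GM.exists_distinguished_RgammaI (maximalIdeal A)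
    _ hT
  have hz0 := isZero_HD_RgammaI_of_isLE (maximalIdeal A) fs hfs
    ((TStructure.t.triangleLTGE c).obj K).obj₁ (c - 1) i (by omega)
  have hz1 := isZero_HD_RgammaI_of_isLE (maximalIdeal A) fs hfs
    ((TStructure.t.triangleLTGE c).obj K).obj₁ (c - 1) (i + 1) (by omega)
  haveI : IsIso ((homologyFunctor (ModuleCat.{u} A) i).map
      ((DRing.RgammaI (maximalIdeal A)).map ((TStructure.t.triangleLTGE c).obj K).mor₂)) :=
    isIso_homology_map_mor₂ _ hT' i hz0 hz1
  obtain ⟨eK⟩ := HD_RgammaI_equiv_HDI (maximalIdeal A) K i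
  obtain ⟨eY⟩ := HD_RgammaI_equiv_HDI (maximalIdeal A) ((TStructure.t.truncGE c).obj K) i
  let e1 : Dual2.HDI A (maximalIdeal A) K i ≃ₗ[A]
      Dual2.HDI A (maximalIdeal A) ((TStructure.t.truncGE c).obj K) i :=
    eK.symm ≪≫ₗ (asIso ((homologyFunctor (ModuleCat.{u} A) i).map
      ((DRing.RgammaI (maximalIdeal A)).map
        ((TStructure.t.triangleLTGE c).obj K).mor₂))).toLinearEquiv ≪≫ₗ eY
  obtain ⟨e2⟩ := localDualityCx ω hω hn E f hf ((TStructure.t.truncGE c).obj K)
    (finite_HD_truncGE K hK c) c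
    (fun j hj => ModuleCat.subsingleton_of_isZero
      (DerivedCategory.isZero_of_isGE ((TStructure.t.truncGE c).obj K) c j hj)) i
  exact ⟨e1 ≪≫ₗ e2 ≪≫ₗ
    LinearEquiv.arrowCongr (homTruncGEEquiv K (ω⟦-i⟧) c) (LinearEquiv.refl A E)⟩

include hω hn hf in
/-- **S1761**: local duality for complexes over a complete local ring -/
theorem localDualityCx_complete [IsAdicComplete (maximalIdeal A) A] (K : Dual.D A)
    (hK : ∀ j : ℤ, Module.Finite A (Dual.HD A K j)) (i : ℤ) :
    Nonempty ((K ⟶ ω⟦-i⟧) ≃ₗ[A] (Dual2.HDI A (maximalIdeal A) K i →ₗ[A] E)) := by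
  obtain ⟨Mω⟩ := exists_model ω hω
  haveI := Mω.isKInjective
  let K₀ : DRing.Cx A := Q.objPreimage K
  have hK₀ : ∀ j, Module.Finite A (Hn K₀ j) := fun j => by
    haveI := hK j
    exact Module.Finite.equiv ((homologyFunctor (ModuleCat.{u} A) j).mapIso
      (Q.objObjPreimageIso K)).toLinearEquiv.symm
  haveI : Module.Finite A (Hn (DRing.homCx K₀ Mω.I) (-i)) :=
    finite_homology_D hω Mω K₀ hK₀ (-i)
  let eG : Hn (DRing.homCx K₀ Mω.I) (-i) ≃ₗ[A] (K ⟶ ω⟦-i⟧) :=
    homologyDEquiv Mω.I K₀ (-i) ≪≫ₗ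
      hc (Q.objObjPreimageIso K) ((shiftFunctor (Dual.D A) (-i)).mapIso Mω.e)
  obtain ⟨eLD⟩ := localDualityCx_unbounded ω hω hn E f hf K hK i
  have hbij := (Groth.Agent.S0316.result A E f hf (Hn (DRing.homCx K₀ Mω.I) (-i))).2
  exact ⟨eG.symm ≪≫ₗ LinearEquiv.ofBijective _ hbij ≪≫ₗ
    LinearEquiv.arrowCongr
      (LinearEquiv.arrowCongr eG (LinearEquiv.refl A E) ≪≫ₗ eLD.symm) (LinearEquiv.refl A E)⟩

end Main

end Groth.Agent.Lib.helper23.CechD
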