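import Mathlib
import Groth.Prelude.Def_Wider
import Groth.Prelude.Def_DDual2
import Groth.Prelude.Def_DRing4
import Groth.Prelude.Def_DualLC
import Groth.Agent.Lib.Helper23.CechD6
import Groth.Agent.Lib.Helper23.CechD8
import Groth.Agent.Lib.Helper23.LDual15
import Groth.Agent.Lib.Helper23.DimFn19
import Groth.Agent.Lib.Helper13.RKF2
import Groth.Agent.S0299
import Groth.Agent.S11681

/-!
# helper23: Faltings' annihilator theorem, part 11 — annihilators, localization and local duality

* `smul_hom_eq_zero_of_kills_HDI`: over a Noetherian local ring with normalized dualizing complex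
  `ω`, an element killing `H^i_m(K)` kills `Hom(K, ω[-i])`.
* `smul_EE_map_eq_zero`: if `x ∈ A` kills `H^i_q(K)`, then its image in `A_q` kills
  `Hom(K_q, ω_q[n_q - i])`.
-/

set_option autoImplicit false
universe u v
open CategoryTheory CategoryTheory.Limits DerivedCategory Pretriangulated TensorProduct IsLocalRing

attribute [local instance] HasDerivedCategory.standard

namespace Groth.Agent.Lib.helper23.Falt

open Groth.Agent.Lib.helper23 Groth.Agent.Lib.helper23.FBC Groth.Agent.Lib.helper23.DimFn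
  Groth.Agent.Lib.helper23.BassD Groth.Agent.Lib.helper23.LDual Groth.Agent.Lib.helper23.DualD

section Ext

variable {A B : Type u} [CommRing A] [CommRing B] (φ : A →+* B)

/-- an element killing `M` kills `B ⊗ M` -/
lemma smul_extendScalars_eq_zero (M : ModuleCat.{v} A) (x : A) (hx : ∀ m : M, x • m = 0)
    (z : (ModuleCat.extendScalars.{u, u, v} φ).obj M) : φ x • z = 0 := by
  letI : Algebra A B := ((algebraMap B B).comp φ).toAlgebra
  have key : ∀ z : B ⊗[A] M, (algebraMap A B x) • z = 0 := by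
    intro z
    induction z using TensorProduct.induction_on with
    | zero => exact smul_zero _
    | tmul b m =>
      rw [TensorProduct.smul_tmul', algebraMap_smul, TensorProduct.smul_tmul, hx m,
        TensorProduct.tmul_zero]
    | add y z hy hz => rw [smul_add, hy, hz, add_zero]
  exact key z

end Ext

section Local

variable {B : Type u} [CommRing B] [IsLocalRing B] [IsNoetherianRing B]
  (ω : Dual.D B) (hω : Dual.IsDualizing B ω) (hn : Dual.IsNormalized B ω)

include hω hn in
/-- an element killing `H^i_m(K)` kills `Hom(K, ω[-i])` -/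
theorem smul_hom_eq_zero_of_kills_HDI (K : Dual.D B)
    (hK : ∀ j : ℤ, Module.Finite B (Dual.HD B K j)) (i : ℤ) (b : B)
    (hb : ∀ z : Dual2.HDI B (maximalIdeal B) K i, b • z = 0) (g : K ⟶ ω⟦-i⟧) : b • g = 0 := by
  obtain ⟨E, _, _, f, hf⟩ := Groth.Agent.S0299.result B (ResidueField B)
  obtain ⟨e⟩ := CechD.localDualityCx_unbounded ω hω hn E f hf K hK i
  obtain ⟨G, _, _, ⟨eG⟩⟩ := exists_small_homCx ω hω K (-i)
  have h1 : b ∈ Module.annihilator B (G →ₗ[B] E) := by
    rw [Module.mem_annihilator]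
    intro l
    let l' : (K ⟶ ω⟦-i⟧) →ₗ[B] E := (LinearEquiv.arrowCongr eG (LinearEquiv.refl B E)) l
    have h2 : b • l' = 0 := by
      have h3 : b • e.symm l' = 0 := hb _
      rw [← map_smul] at h3
      exact e.symm.map_eq_zero_iff.1 h3
    have h4 : b • l = (LinearEquiv.arrowCongr eG (LinearEquiv.refl B E)).symm (b • l') := by
      rw [map_smul, LinearEquiv.symm_apply_apply]
    rw [h4, h2, map_zero]
  rw [← ((Groth.Agent.S11681.result B E f hf).1 G).2, Module.mem_annihilator] at h1
  have h5 : b • eG.symm g = 0 := h1 _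
  rw [← map_smul] at h5
  exact eG.symm.map_eq_zero_iff.1 h5

end Local

section Loc

variable {A : Type u} [CommRing A] [IsNoetherianRing A]

attribute [local instance 50] homModuleA
attribute [local instance] FlatBC.preservesFiniteLimits_extendScalars_algebraMap
attribute [local instance] flat_atPrime

/-- if `x` kills `H^i_q(K)`, then its image in `A_q` kills `Hom(K_q, ω_q[n_q - i])` -/
theorem smul_EE_map_eq_zero (ω : Dual.D A) (hω : Dual.IsDualizing A ω) (a : ℤ) [ω.IsGE a]
    (q : PrimeSpectrum A) (nq : ℤ)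
    (hnq : ∀ i : ℤ, Zloc ω q.asIdeal (ModuleCat.of A (A ⧸ q.asIdeal)) i ↔ i ≠ nq)
    (K : Dual.D A) (hK : ∀ j : ℤ, Module.Finite A (Dual.HD A K j)) (i : ℤ) (x : A)
    (hx : ∀ z : Dual2.HDI A q.asIdeal K i, x • z = 0) (j : ℤ) (hj : j = nq - i)
    (f : K ⟶ ω⟦j⟧) :
    algebraMap A (Localization.AtPrime q.asIdeal) x •
      (EE A (Localization.AtPrime q.asIdeal)).map f = 0 := by
  haveI hqp : q.asIdeal.IsPrime := q.2
  let B := Localization.AtPrime q.asIdeal
  let φ : A →+* B := algebraMap A B
  haveI : DRing.HasLBaseChange φ := Groth.Agent.Lib.helper13.RKF.hasLBaseChange φ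
  have hωq := isDualizing_EE_atPrime ω hω q.asIdeal
  haveI : IsNoetherianRing B := hωq.isNoetherianRing
  have hω' : Dual.IsDualizing B (((EE A B).obj ω)⟦nq⟧) := isDualizing_shift _ nq hωq
  have hn' := isNormalized_EE_shift ω a q.asIdeal nq hnq
  -- `HDI` over `B`
  obtain ⟨e1⟩ := CechD.HDI_LBaseChange φ q.asIdeal K i
  let e2 := HDIIso (q.asIdeal.map φ) ((FlatBC.lbcIso φ).app K) i
  have hmap : q.asIdeal.map φ = maximalIdeal B := Localization.AtPrime.map_eq_maximalIdeal
  have h1 : ∀ z : Dual2.HDI B (q.asIdeal.map φ) ((EE A B).obj K) i, φ x • z = 0 := by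
    intro z
    have h2 : φ x • (e1.hom (e2.inv z)) = 0 := smul_extendScalars_eq_zero φ _ x hx _
    have h3 : z = e2.hom (e1.inv (e1.hom (e2.inv z))) := by
      have h4 : e1.inv (e1.hom (e2.inv z)) = e2.inv z :=
        (e1.toLinearEquiv).symm_apply_apply (e2.inv z)
      rw [h4]
      exact ((e2.toLinearEquiv).apply_symm_apply z).symm
    rw [h3, ← map_smul, ← map_smul, h2, map_zero, map_zero]
  rw [hmap] at h1
  have hK' : ∀ j : ℤ, Module.Finite B (Dual.HD B ((EE A B).obj K) j) := fun j =>
    FlatBC.finite_homology_extD φ K j (hK j)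
  let eω : (EE A B).obj (ω⟦j⟧) ≅ (((EE A B).obj ω)⟦nq⟧)⟦-i⟧ :=
    EEshiftIso B ω j ≪≫ (shiftFunctorAdd' (Dual.D B) nq (-i) j (by omega)).app _
  have h5 := smul_hom_eq_zero_of_kills_HDI _ hω' hn' ((EE A B).obj K) hK' i (φ x) h1
    ((EE A B).map f ≫ eω.hom)
  have h6 : φ x • (EE A B).map f = (φ x • ((EE A B).map f ≫ eω.hom)) ≫ eω.inv := by
    rw [Linear.smul_comp, Category.assoc, Iso.hom_inv_id, Category.comp_id]
  rw [h6, h5, zero_comp]

end Loc

end Groth.Agent.Lib.helper23.Falt
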