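import Mathlib
import Groth.Prelude.Def_Wider
import Groth.Prelude.Def_DDual2
import Groth.Prelude.Def_CAlg
import Groth.Prelude.Def_EGA4b
import Groth.Agent.Lib.Helper23.DimFn21

/-!
# `(S_k)` for an equidimensional module over a local ring with normalized dualizing complex
-/

set_option autoImplicit false
universe u
open CategoryTheory CategoryTheory.Limits DerivedCategory Pretriangulated TensorProduct

attribute [local instance] HasDerivedCategory.standard

namespace Groth.Agent.Lib.helper23.DimFn

open Groth.Agent.Lib.helper23.FBC Groth.Agent.Lib.helper23.BassD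
open Groth.Agent.Lib.helper26.Depth
open scoped Pointwise

attribute [local instance 50] homModuleA
attribute [local instance] FlatBC.preservesFiniteLimits_extendScalars_algebraMap
attribute [local instance] flat_atPrime

section NonLocal

variable {A : Type u} [CommRing A] [IsNoetherianRing A]

/-- at a minimal prime of the support, the localized module has dimension `0`. -/
lemma supportDim_localization_eq_zero_of_minimal (M : Type u) [AddCommGroup M] [Module A M]
    [Module.Finite A M] (P₀ : PrimeSpectrum A)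
    (hP₀ : P₀.asIdeal ∈ (Module.annihilator A M).minimalPrimes) :
    Module.supportDim (Localization.AtPrime P₀.asIdeal)
      (LocalizedModule P₀.asIdeal.primeCompl M) = ((0 : ℕ) : WithBot ℕ∞) := by
  have hmem : P₀ ∈ Module.support A M := Module.mem_support_iff_of_finite.2 hP₀.1.2
  have hht := Groth.Agent.Lib.helper26.FinRestr.supportDim_localization_eq_height M
    P₀.asIdeal hmem
  have hmin : IsMin (⟨P₀, hmem⟩ : Module.support A M) := by
    intro b hb'
    have h3 : b.1.asIdeal ≤ P₀.asIdeal := (PrimeSpectrum.asIdeal_le_asIdeal b.1 P₀).2 hb'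
    have h4 : Module.annihilator A M ≤ b.1.asIdeal := Module.mem_support_iff_of_finite.1 b.2
    have h5 : P₀.asIdeal ≤ b.1.asIdeal := hP₀.2 ⟨b.1.2, h4⟩ h3
    exact (PrimeSpectrum.asIdeal_le_asIdeal P₀ b.1).1 h5
  rw [Order.height_eq_zero.2 hmin] at hht
  rw [hht]
  rfl

lemma ringKrullDim_quotient_le_supportDim' (M : Type*) [AddCommGroup M] [Module A M]
    [Module.Finite A M] (p : PrimeSpectrum A) (hp : p ∈ Module.support A M) :
    ringKrullDim (A ⧸ p.asIdeal) ≤ Module.supportDim A M := by
  rw [Module.supportDim_eq_ringKrullDim_quotient_annihilator]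
  have hle : Module.annihilator A M ≤ p.asIdeal := Module.mem_support_iff_of_finite.mp hp
  exact ringKrullDim_le_of_surjective (Ideal.Quotient.factor hle)
    (Ideal.Quotient.factor_surjective hle)

lemma nontrivial_of_mem_support {R : Type*} [CommRing R] {X : Type*} [AddCommGroup X]
    [Module R X] {p : PrimeSpectrum R} (hp : p ∈ Module.support R X) : Nontrivial X := by
  by_contra h
  rw [not_nontrivial_iff_subsingleton] at h
  have : Module.support R X = ∅ := Module.support_eq_empty
  rw [this] at hp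
  exact hp

end NonLocal

section Local

variable {A : Type u} [CommRing A] [IsNoetherianRing A] [IsLocalRing A]

lemma ringKrullDim_quotient_eq_dimFn (n : PrimeSpectrum A → ℤ) (hsm : StrictMono n)
    (hn2 : ∀ p q : PrimeSpectrum A, p ⋖ q → n p = n q - 1)
    (hn0 : n (IsLocalRing.closedPoint A) = 0) (p : PrimeSpectrum A) :
    ringKrullDim (A ⧸ p.asIdeal) = (((-n p).toNat : ℕ∞) : WithBot ℕ∞) := by
  let m : PrimeSpectrum A := IsLocalRing.closedPoint A
  have htop : ∀ x : PrimeSpectrum A, x ≤ m := fun x =>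
    (PrimeSpectrum.asIdeal_le_asIdeal x m).1 (IsLocalRing.le_maximalIdeal x.2.ne_top)
  have hset : PrimeSpectrum.zeroLocus (R := A) (p.asIdeal : Set A) =
      {x : PrimeSpectrum A | p ≤ x} := by
    ext x
    rw [PrimeSpectrum.mem_zeroLocus, Set.mem_ofPred_eq, ← PrimeSpectrum.asIdeal_le_asIdeal]
    exact SetLike.coe_subset_coe
  rw [ringKrullDim_quotient, hset]
  have h1 := krullDim_Ici_eq wellFounded_gt_primeSpectrum n hsm hn2 p m htop
  rw [h1]
  have hm0 : n m = 0 := hn0
  rw [hm0, zero_sub]

/-- in an equidimensional module of dimension `d`, `n p - dim M_p = -d` for all `p ∈ Supp M`. -/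
theorem dimFn_sub_supportDim_eq (ω : Dual.D A) (hω : Dual.IsDualizing A ω)
    (hnorm : Dual.IsNormalized A ω) (a : ℤ) [ω.IsGE a] (n : PrimeSpectrum A → ℤ)
    (hn1 : ∀ (p : PrimeSpectrum A) (i : ℤ),
        Zloc ω p.asIdeal (ModuleCat.of A (A ⧸ p.asIdeal)) i ↔ i ≠ n p)
    (hn2 : ∀ p q : PrimeSpectrum A, p ⋖ q → n p = n q - 1) (hsm : StrictMono n)
    (hn0 : n (IsLocalRing.closedPoint A) = 0)
    (M : Type u) [AddCommGroup M] [Module A M] [Module.Finite A M]
    (hM : EGA4.IsEquidimModule A M) (d : ℕ) (hd : Module.supportDim A M = d)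
    (p : PrimeSpectrum A) (hp : p ∈ Module.support A M) (e : ℕ)
    (he : Module.supportDim (Localization.AtPrime p.asIdeal)
        (LocalizedModule p.asIdeal.primeCompl M) = e) :
    n p - (e : ℤ) = -(d : ℤ) := by
  obtain ⟨δ, e', hδ, he', hδe, hb, h1, h2⟩ := support_ext_bounds ω hω a p (n p) (hn1 p) M hp
  have hee : e' = e := by
    rw [he] at he'
    exact_mod_cast he'.symm
  subst hee
  have hann : Module.annihilator A M ≤ p.asIdeal := Module.mem_support_iff_of_finite.1 hp
  obtain ⟨p₀, hp₀, hp₀p⟩ := Ideal.exists_minimalPrimes_le hann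
  let P₀ : PrimeSpectrum A := ⟨p₀, hp₀.1.1⟩
  have hle : P₀ ≤ p := (PrimeSpectrum.asIdeal_le_asIdeal P₀ p).1 hp₀p
  have hP₀ : P₀ ∈ Module.support A M := Module.mem_support_iff_of_finite.2 hp₀.1.2
  obtain ⟨δ₀, e₀, hδ₀, he₀, hδe₀, hb₀, h1₀, h2₀⟩ :=
    support_ext_bounds ω hω a P₀ (n P₀) (hn1 P₀) M hP₀
  have he00 : e₀ = 0 := by
    have h3 := supportDim_localization_eq_zero_of_minimal M P₀ hp₀
    rw [he₀] at h3
    exact_mod_cast h3
  have hnP₀ : n P₀ = -(d : ℤ) := by
    have h3 := ringKrullDim_quotient_eq_dimFn n hsm hn2 hn0 P₀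
    have h4 : ringKrullDim (A ⧸ P₀.asIdeal) = Module.supportDim A M := hM p₀ hp₀
    rw [h4, hd] at h3
    have h5 : d = (-n P₀).toNat := by exact_mod_cast h3
    have htop : P₀ ≤ IsLocalRing.closedPoint A :=
      (PrimeSpectrum.asIdeal_le_asIdeal P₀ _).1 (IsLocalRing.le_maximalIdeal P₀.2.ne_top)
    have h6 : n P₀ ≤ 0 := by
      rw [← hn0]
      exact hsm.monotone htop
    omega
  -- upper bound
  have h3 : p ∈ Module.support A (Dual.inD A M ⟶ ω⟦n P₀ - (e₀ : ℤ)⟧) :=
    Module.mem_support_mono hle h2₀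
  have h4 := (hb _ h3).1
  -- lower bound
  have h5 := ((ext_dualizing_vanishing_and_support ω hω hnorm M d hd (n p - (e' : ℤ))).1
    (nontrivial_of_mem_support h2)).1
  rw [he00] at h4
  push_cast at h4
  omega

/-- S18717. -/
theorem hasSk_iff_supportDim_ext_le_of_equidim (ω : Dual.D A) (hω : Dual.IsDualizing A ω)
    (hnorm : Dual.IsNormalized A ω) (M : Type u) [AddCommGroup M] [Module A M]
    [Module.Finite A M] (hM : EGA4.IsEquidimModule A M) (d : ℕ)
    (hd : Module.supportDim A M = d) (k : ℕ) :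
    LocCoh.HasSk k A M ↔
      ∀ j : ℤ, j ≠ -(d : ℤ) →
        (-j - (k : ℤ) < 0 → Subsingleton (Dual.inD A M ⟶ ω⟦j⟧)) ∧
        (0 ≤ -j - (k : ℤ) → Module.supportDim A (Dual.inD A M ⟶ ω⟦j⟧) ≤
          ((-j - (k : ℤ)).toNat : WithBot ℕ∞)) := by
  obtain ⟨a, hGE, n, hn1, hn2, hsm, hn0, hVZ⟩ := exists_dimFn_normalized ω hω hnorm
  haveI := hGE
  have htop : ∀ x : PrimeSpectrum A, x ≤ IsLocalRing.closedPoint A := fun x =>
    (PrimeSpectrum.asIdeal_le_asIdeal x _).1 (IsLocalRing.le_maximalIdeal x.2.ne_top)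
  have hle0 : ∀ x : PrimeSpectrum A, n x ≤ 0 := fun x => by
    rw [← hn0]
    exact hsm.monotone (htop x)
  constructor
  · intro hS j hj
    -- the key bound on points of the support of `E^j`
    have key : ∀ p : PrimeSpectrum A, p ∈ Module.support A (Dual.inD A M ⟶ ω⟦j⟧) →
        j + (k : ℤ) ≤ n p := by
      intro p hpj
      haveI hpp : p.asIdeal.IsPrime := p.2
      have hp := mem_support_of_mem_support_hom ω a p M j hpj
      obtain ⟨δ, e, hδ, he, hδe, hb, h1, h2⟩ :=
        support_ext_bounds ω hω a p (n p) (hn1 p) M hp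
      have h3 := dimFn_sub_supportDim_eq ω hω hnorm a n hn1 hn2 hsm hn0 M hM d hd p hp e he
      have h4 := hb j hpj
      have h5 := hS p.asIdeal
      rw [he, hδ] at h5
      have h6 : δ < e := by omega
      have h7 : k ≤ δ := by
        rcases le_total k e with hke | hke
        · have hke' : (k : WithBot ℕ∞) ≤ (e : WithBot ℕ∞) := by exact_mod_cast hke
          rw [min_eq_left hke'] at h5
          exact_mod_cast h5
        · have hke' : (e : WithBot ℕ∞) ≤ (k : WithBot ℕ∞) := by exact_mod_cast hke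
          rw [min_eq_right hke'] at h5
          have h8 : e ≤ δ := by exact_mod_cast h5
          omega
      omega
    constructor
    · intro hneg
      by_contra hns
      rw [not_subsingleton_iff_nontrivial] at hns
      obtain ⟨p, hp⟩ := Module.nonempty_support_of_nontrivial (R := A)
        (M := (Dual.inD A M ⟶ ω⟦j⟧))
      have := key p hp
      have := hle0 p
      omega
    · intro hpos
      rw [Module.supportDim]
      have h1 := krullDim_le_of_strictMono_int
        (fun x : ↥(Module.support A (Dual.inD A M ⟶ ω⟦j⟧)) => n x.1)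
        (fun x y hxy => hsm hxy) (j + k) 0 (fun x => ⟨key x.1 x.2, hle0 x.1⟩)
      have h2 : (0 - (j + (k : ℤ))) = -j - (k : ℤ) := by ring
      rw [h2] at h1
      exact h1
  · intro h p hpp
    by_cases hp : (⟨p, hpp⟩ : PrimeSpectrum A) ∈ Module.support A M
    · obtain ⟨δ, e, hδ, he, hδe, hb, h1, h2⟩ :=
        support_ext_bounds ω hω a ⟨p, hpp⟩ (n ⟨p, hpp⟩) (hn1 ⟨p, hpp⟩) M hp
      have h3 := dimFn_sub_supportDim_eq ω hω hnorm a n hn1 hn2 hsm hn0 M hM d hd
        ⟨p, hpp⟩ hp e he
      show min (k : WithBot ℕ∞) (Module.supportDim (Localization.AtPrime p)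
        (LocalizedModule p.primeCompl M)) ≤ ((LocCoh.depth (Localization.AtPrime p)
          (LocalizedModule p.primeCompl M) : ℕ∞) : WithBot ℕ∞)
      have he' : Module.supportDim (Localization.AtPrime p)
        (LocalizedModule p.primeCompl M) = e := he
      have hδ' : LocCoh.depth (Localization.AtPrime p)
          (LocalizedModule p.primeCompl M) = δ := hδ
      rw [he', hδ']
      rcases Nat.lt_or_ge δ e with hlt | hge
      · obtain ⟨h4, h5⟩ := h (n ⟨p, hpp⟩ - δ) (by omega)
        have hnt := nontrivial_of_mem_support h1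
        have h6 : 0 ≤ -(n ⟨p, hpp⟩ - (δ : ℤ)) - (k : ℤ) := by
          by_contra hneg
          exact (not_subsingleton_iff_nontrivial.2 hnt) (h4 (by omega))
        have h7 := h5 h6
        haveI : Module.Finite A (Dual.inD A M ⟶ ω⟦n ⟨p, hpp⟩ - (δ : ℤ)⟧) :=
          FinHom.finite_hom_single_of_bddBelow (ModuleCat.of A M) ω a
            ((DerivedCategory.isGE_iff ω a).1 inferInstance) hω.finite_cohomology _
        have h8 := le_trans (ringKrullDim_quotient_le_supportDim' _ ⟨p, hpp⟩ h1) h7
        rw [ringKrullDim_quotient_eq_dimFn n hsm hn2 hn0 ⟨p, hpp⟩] at h8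
        have h9 : (-n ⟨p, hpp⟩).toNat ≤ (-(n ⟨p, hpp⟩ - (δ : ℤ)) - (k : ℤ)).toNat := by
          exact_mod_cast h8
        have := hle0 ⟨p, hpp⟩
        have h10 : k ≤ δ := by omega
        exact le_trans (min_le_left _ _) (by exact_mod_cast h10)
      · exact le_trans (min_le_right _ _) (by exact_mod_cast hge)
    · rw [Module.mem_support_iff, not_nontrivial_iff_subsingleton] at hp
      haveI : Subsingleton (LocalizedModule p.primeCompl M) := hp
      rw [Module.supportDim_eq_bot_of_subsingleton]
      simp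

end Local

end Groth.Agent.Lib.helper23.DimFn
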