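import Mathlib
import Groth.Prelude.Def_Wider
import Groth.Prelude.Def_DDual2
import Groth.Prelude.Def_CAlg
import Groth.Prelude.Def_EGA4b
import Groth.Agent.Lib.Helper23.DimFn22

/-!
# `(S_k)` for an equidimensional ring with a dualizing complex normalized at all maximal ideals
-/

set_option autoImplicit false
universe u
open CategoryTheory CategoryTheory.Limits DerivedCategory Pretriangulated TensorProduct

attribute [local instance] HasDerivedCategory.standard

namespace Groth.Agent.Lib.helper23.DimFn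

open Groth.Agent.Lib.helper23.FBC Groth.Agent.Lib.helper23.BassD
open Groth.Agent.Lib.helper26.Depth
open scoped Pointwise

attribute [local instance 50] homModuleA
attribute [local instance] FlatBC.preservesFiniteLimits_extendScalars_algebraMap
attribute [local instance] flat_atPrime

variable {A : Type u} [CommRing A] [IsNoetherianRing A]

/-- non-local version of `dimFn_sub_supportDim_eq`. -/
theorem dimFn_sub_supportDim_eq' (ω : Dual.D A) (hω : Dual.IsDualizing A ω)
    (a : ℤ) [ω.IsGE a] (n : PrimeSpectrum A → ℤ)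
    (hn1 : ∀ (p : PrimeSpectrum A) (i : ℤ),
        Zloc ω p.asIdeal (ModuleCat.of A (A ⧸ p.asIdeal)) i ↔ i ≠ n p)
    (hsm : StrictMono n)
    (M : Type u) [AddCommGroup M] [Module A M] [Module.Finite A M] (d : ℤ)
    (hM : ∀ q : PrimeSpectrum A, q.asIdeal ∈ (Module.annihilator A M).minimalPrimes → n q = -d)
    (p : PrimeSpectrum A) (hp : p ∈ Module.support A M) (e : ℕ)
    (he : Module.supportDim (Localization.AtPrime p.asIdeal)
        (LocalizedModule p.asIdeal.primeCompl M) = e) :
    n p - (e : ℤ) = -d := by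
  obtain ⟨δ, e', hδ, he', hδe, hb, h1, h2⟩ := support_ext_bounds ω hω a p (n p) (hn1 p) M hp
  have hee : e' = e := by
    rw [he] at he'
    exact_mod_cast he'.symm
  subst hee
  have hann : Module.annihilator A M ≤ p.asIdeal := Module.mem_support_iff_of_finite.1 hp
  obtain ⟨p₀, hp₀, hp₀p⟩ := Ideal.exists_minimalPrimes_le hann
  let P₀ : PrimeSpectrum A := ⟨p₀, hp₀.1.1⟩
  have hle : P₀ ≤ p := (PrimeSpectrum.asIdeal_le_asIdeal P₀ p).1 hp₀p
  have hP₀ : P₀ ∈ Module.support A M := Module.mem_support_iff_of_finite.2 hp₀.1.2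
  obtain ⟨δ₀, e₀, hδ₀, he₀, hδe₀, hb₀, h1₀, h2₀⟩ :=
    support_ext_bounds ω hω a P₀ (n P₀) (hn1 P₀) M hP₀
  have he00 : e₀ = 0 := by
    have h3 := supportDim_localization_eq_zero_of_minimal M P₀ hp₀
    rw [he₀] at h3
    exact_mod_cast h3
  have hnP₀ : n P₀ = -d := hM P₀ hp₀
  -- upper bound
  have h3 : p ∈ Module.support A (Dual.inD A M ⟶ ω⟦n P₀ - (e₀ : ℤ)⟧) :=
    Module.mem_support_mono hle h2₀
  have h4 := (hb _ h3).1
  -- lower bound: `e ≤ n p + d`
  have hht := Groth.Agent.Lib.helper26.FinRestr.supportDim_localization_eq_height M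
    p.asIdeal hp
  rw [he, Order.height_eq_krullDim_Iic] at hht
  have hlow : ∀ x : PrimeSpectrum A, x ∈ Module.support A M → -d ≤ n x := by
    intro x hx
    have hannx : Module.annihilator A M ≤ x.asIdeal := Module.mem_support_iff_of_finite.1 hx
    obtain ⟨q₀, hq₀, hq₀x⟩ := Ideal.exists_minimalPrimes_le hannx
    have h7 : (⟨q₀, hq₀.1.1⟩ : PrimeSpectrum A) ≤ x :=
      (PrimeSpectrum.asIdeal_le_asIdeal _ _).1 hq₀x
    have h8 := hsm.monotone h7
    rw [hM ⟨q₀, hq₀.1.1⟩ hq₀] at h8
    exact h8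
  have h5 := krullDim_le_of_strictMono_int
    (fun x : ↥(Set.Iic (⟨p, hp⟩ : Module.support A M)) => n x.1.1)
    (fun x y hxy => hsm hxy) (-d) (n p) (fun x => ⟨hlow x.1.1 x.1.2, hsm.monotone x.2⟩)
  rw [← hht] at h5
  have h6 : e' ≤ (n p - -d).toNat := by exact_mod_cast h5
  have h9 := hlow p hp
  rw [he00] at h4
  push_cast at h4
  omega

/-- `dim A/p = - n p` when `n` vanishes at all maximal ideals. -/
lemma ringKrullDim_quotient_eq_dimFn' (n : PrimeSpectrum A → ℤ) (hsm : StrictMono n)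
    (hn2 : ∀ p q : PrimeSpectrum A, p ⋖ q → n p = n q - 1)
    (hn0 : ∀ m : PrimeSpectrum A, m.asIdeal.IsMaximal → n m = 0) (p : PrimeSpectrum A) :
    ringKrullDim (A ⧸ p.asIdeal) = (((-n p).toNat : ℕ∞) : WithBot ℕ∞) := by
  have hle0 : ∀ x : PrimeSpectrum A, n x ≤ 0 := by
    intro x
    obtain ⟨m, hm, hxm⟩ := Ideal.exists_le_maximal x.asIdeal x.2.ne_top
    have h1 : x ≤ (⟨m, hm.isPrime⟩ : PrimeSpectrum A) :=
      (PrimeSpectrum.asIdeal_le_asIdeal _ _).1 hxm
    have h2 := hsm.monotone h1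
    rw [hn0 ⟨m, hm.isPrime⟩ hm] at h2
    exact h2
  have hset : PrimeSpectrum.zeroLocus (R := A) (p.asIdeal : Set A) =
      {x : PrimeSpectrum A | p ≤ x} := by
    ext x
    rw [PrimeSpectrum.mem_zeroLocus, Set.mem_ofPred_eq, ← PrimeSpectrum.asIdeal_le_asIdeal]
    exact SetLike.coe_subset_coe
  rw [ringKrullDim_quotient, hset]
  apply le_antisymm
  · have h1 := krullDim_le_of_strictMono_int (fun x : ↥{x : PrimeSpectrum A | p ≤ x} => n x.1)
      (fun x y hxy => hsm hxy) (n p) 0 (fun x => ⟨hsm.monotone x.2, hle0 x.1⟩)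
    rw [zero_sub] at h1
    exact h1
  · obtain ⟨m, hm, hpm⟩ := Ideal.exists_le_maximal p.asIdeal p.2.ne_top
    have h1 : p ≤ (⟨m, hm.isPrime⟩ : PrimeSpectrum A) :=
      (PrimeSpectrum.asIdeal_le_asIdeal _ _).1 hpm
    have h2 := sub_le_krullDim_of_isUpperSet wellFounded_gt_primeSpectrum n hsm hn2
      {x : PrimeSpectrum A | p ≤ x} (fun x y hxy hx => le_trans hx hxy) p ⟨m, hm.isPrime⟩
      (le_refl p) h1
    rw [hn0 ⟨m, hm.isPrime⟩ hm, zero_sub] at h2
    exact h2

/-- `Supp H^j(ω) = Supp Ext^j(A, ω)`. -/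
lemma mem_support_HD_iff_mem_support_hom (K : Dual.D A) (a : ℤ) [K.IsGE a] (p : PrimeSpectrum A)
    (j : ℤ) :
    p ∈ Module.support A (Dual.HD A K j) ↔ p ∈ Module.support A (Dual.inD A A ⟶ K⟦j⟧) := by
  haveI hpp : p.asIdeal.IsPrime := p.2
  haveI : Module.Finite A (ModuleCat.of A A) := inferInstanceAs (Module.Finite A A)
  rw [mem_support_HD_iff, mem_support_hom_iff,
    Zloc_iff_VZ_module K a p.asIdeal (ModuleCat.of A A) j, ← not_subsingleton_iff_nontrivial,
    subsingleton_HD_iff]
  let e : (ModuleCat.extendScalars.{u, u, u}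
      (algebraMap A (Localization.AtPrime p.asIdeal))).obj (ModuleCat.of A A) ≅
      ModuleCat.of (Localization.AtPrime p.asIdeal) (Localization.AtPrime p.asIdeal) :=
    ((ExtSc.extendObjEquiv (B := Localization.AtPrime p.asIdeal) (ModuleCat.of A A)).trans
      (TensorProduct.AlgebraTensorModule.rid A (Localization.AtPrime p.asIdeal)
        (Localization.AtPrime p.asIdeal))).toModuleIso
  constructor
  · exact fun h h' => h (h'.of_iso e)
  · exact fun h h' => h (h'.of_iso e.symm)

/-- S18721. -/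
theorem hasSk_iff_supportDim_HD (hEq : EGA4.IsEquidim A) (N : ℕ) (hd : ringKrullDim A = N)
    (ω : Dual.D A) (hω : Dual.IsDualizing A ω)
    (hnorm : ∀ (m : Ideal A) (_ : m.IsMaximal) (i : ℤ), i ≠ 0 →
      Subsingleton (Dual.inD A (A ⧸ m) ⟶ ω⟦i⟧)) :
    (∀ i : ℕ, N < i → Subsingleton (Dual.HD A ω (-(i : ℤ)))) ∧
    ∀ k' : ℕ, 1 ≤ k' →
      (LocCoh.HasSk k' A A ↔
        ∀ i : ℕ, i ≠ N →
          (i < k' → Subsingleton (Dual.HD A ω (-(i : ℤ)))) ∧
          (k' ≤ i → Module.supportDim A (Dual.HD A ω (-(i : ℤ))) ≤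
            ((i - k' : ℕ) : WithBot ℕ∞))) := by
  obtain ⟨a, hGE, n, hn1, hn2, hsm⟩ := exists_dimFn ω hω
  haveI := hGE
  have hn0 : ∀ m : PrimeSpectrum A, m.asIdeal.IsMaximal → n m = 0 := by
    intro m hm
    by_contra hne
    haveI : Subsingleton (FBC.sg (ModuleCat.of A (A ⧸ m.asIdeal)) ⟶ ω⟦n m⟧) :=
      hnorm m.asIdeal hm (n m) hne
    refine (hn1 m (n m)).1 (fun t => ⟨1, ?_, ?_⟩) rfl
    · exact fun h => (Ideal.IsPrime.ne_top m.2) ((Ideal.eq_top_iff_one _).2 h)
    · rw [one_smul]
      exact Subsingleton.elim _ _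
  have hdim := ringKrullDim_quotient_eq_dimFn' n hsm hn2 hn0
  have hle0 : ∀ x : PrimeSpectrum A, n x ≤ 0 := by
    intro x
    obtain ⟨m, hm, hxm⟩ := Ideal.exists_le_maximal x.asIdeal x.2.ne_top
    have h1 : x ≤ (⟨m, hm.isPrime⟩ : PrimeSpectrum A) :=
      (PrimeSpectrum.asIdeal_le_asIdeal _ _).1 hxm
    have h2 := hsm.monotone h1
    rw [hn0 ⟨m, hm.isPrime⟩ hm] at h2
    exact h2
  have hannA : Module.annihilator A A = ⊥ := Module.annihilator_eq_bot.mpr inferInstance
  have hMq : ∀ q : PrimeSpectrum A, q.asIdeal ∈ (Module.annihilator A A).minimalPrimes →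
      n q = -(N : ℤ) := by
    intro q hq
    rw [hannA] at hq
    have h1 : ringKrullDim (A ⧸ q.asIdeal) = ringKrullDim A := hEq q.asIdeal hq
    rw [hdim q, hd] at h1
    have h2 : (-n q).toNat = N := by exact_mod_cast h1
    have := hle0 q
    omega
  have hsuppA : ∀ p : PrimeSpectrum A, p ∈ Module.support A A := fun p =>
    Module.mem_support_iff_of_finite.2 (by rw [hannA]; exact bot_le)
  -- the key bounds
  have hkey : ∀ p : PrimeSpectrum A, ∃ δ e : ℕ,
      LocCoh.depth (Localization.AtPrime p.asIdeal)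
        (LocalizedModule p.asIdeal.primeCompl A) = δ ∧
      Module.supportDim (Localization.AtPrime p.asIdeal)
        (LocalizedModule p.asIdeal.primeCompl A) = e ∧ δ ≤ e ∧ n p - (e : ℤ) = -(N : ℤ) ∧
      (∀ j : ℤ, p ∈ Module.support A (Dual.HD A ω j) → -(N : ℤ) ≤ j ∧ j ≤ n p - δ) ∧
      p ∈ Module.support A (Dual.HD A ω (n p - (δ : ℤ))) := by
    intro p
    obtain ⟨δ, e, hδ, he, hδe, hb, h1, h2⟩ :=
      support_ext_bounds ω hω a p (n p) (hn1 p) A (hsuppA p)
    have h3 := dimFn_sub_supportDim_eq' ω hω a n hn1 hsm A (N : ℤ) hMq p (hsuppA p) e he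
    refine ⟨δ, e, hδ, he, hδe, h3, fun j hj => ?_, ?_⟩
    · have h4 := hb j ((mem_support_HD_iff_mem_support_hom ω a p j).1 hj)
      omega
    · exact (mem_support_HD_iff_mem_support_hom ω a p _).2 h1
  constructor
  · intro i hi
    by_contra hns
    rw [not_subsingleton_iff_nontrivial] at hns
    obtain ⟨p, hp⟩ := Module.nonempty_support_of_nontrivial (R := A)
      (M := Dual.HD A ω (-(i : ℤ)))
    obtain ⟨δ, e, -, -, -, -, hb, -⟩ := hkey p
    have := (hb _ hp).1
    omega
  · intro k' hk'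
    constructor
    · intro hS i hi
      have key : ∀ p : PrimeSpectrum A, p ∈ Module.support A (Dual.HD A ω (-(i : ℤ))) →
          -(i : ℤ) + (k' : ℤ) ≤ n p := by
        intro p hpj
        haveI hpp : p.asIdeal.IsPrime := p.2
        obtain ⟨δ, e, hδ, he, hδe, h3, hb, -⟩ := hkey p
        have h4 := hb _ hpj
        have h5 := hS p.asIdeal
        rw [he, hδ] at h5
        have h6 : δ < e := by omega
        have h7 : k' ≤ δ := by
          rcases le_total k' e with hke | hke
          · have hke' : (k' : WithBot ℕ∞) ≤ (e : WithBot ℕ∞) := by exact_mod_cast hke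
            rw [min_eq_left hke'] at h5
            exact_mod_cast h5
          · have hke' : (e : WithBot ℕ∞) ≤ (k' : WithBot ℕ∞) := by exact_mod_cast hke
            rw [min_eq_right hke'] at h5
            have h8 : e ≤ δ := by exact_mod_cast h5
            omega
        omega
      constructor
      · intro hlt
        by_contra hns
        rw [not_subsingleton_iff_nontrivial] at hns
        obtain ⟨p, hp⟩ := Module.nonempty_support_of_nontrivial (R := A)
          (M := Dual.HD A ω (-(i : ℤ)))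
        have := key p hp
        have := hle0 p
        omega
      · intro hge
        rw [Module.supportDim]
        have h1 := krullDim_le_of_strictMono_int
          (fun x : ↥(Module.support A (Dual.HD A ω (-(i : ℤ)))) => n x.1)
          (fun x y hxy => hsm hxy) (-(i : ℤ) + k') 0 (fun x => ⟨key x.1 x.2, hle0 x.1⟩)
        have h2 : (0 - (-(i : ℤ) + (k' : ℤ))).toNat = i - k' := by omega
        rw [h2] at h1
        exact h1
    · intro h p hpp
      obtain ⟨δ, e, hδ, he, hδe, h3, hb, h1⟩ := hkey ⟨p, hpp⟩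
      show min (k' : WithBot ℕ∞) (Module.supportDim (Localization.AtPrime p)
        (LocalizedModule p.primeCompl A)) ≤ ((LocCoh.depth (Localization.AtPrime p)
          (LocalizedModule p.primeCompl A) : ℕ∞) : WithBot ℕ∞)
      have he' : Module.supportDim (Localization.AtPrime p)
        (LocalizedModule p.primeCompl A) = e := he
      have hδ' : LocCoh.depth (Localization.AtPrime p)
          (LocalizedModule p.primeCompl A) = δ := hδ
      rw [he', hδ']
      rcases Nat.lt_or_ge δ e with hlt | hge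
      · have hnp := hle0 ⟨p, hpp⟩
        obtain ⟨i, hi⟩ : ∃ i : ℕ, n ⟨p, hpp⟩ - (δ : ℤ) = -(i : ℤ) :=
          ⟨((δ : ℤ) - n ⟨p, hpp⟩).toNat, by omega⟩
        rw [hi] at h1
        obtain ⟨h4, h5⟩ := h i (by omega)
        have hnt := nontrivial_of_mem_support h1
        have h6 : k' ≤ i := by
          by_contra hneg
          exact (not_subsingleton_iff_nontrivial.2 hnt) (h4 (by omega))
        have h7 := h5 h6
        haveI : Module.Finite A (Dual.HD A ω (-(i : ℤ))) := hω.finite_cohomology _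
        have h8 := le_trans (ringKrullDim_quotient_le_supportDim' _ ⟨p, hpp⟩ h1) h7
        rw [hdim ⟨p, hpp⟩] at h8
        obtain ⟨r, hr⟩ : ∃ r : ℕ, i - k' = r := ⟨_, rfl⟩
        rw [hr] at h8
        have h9' : (-n ⟨p, hpp⟩).toNat ≤ r := by exact_mod_cast h8
        have h9 : (-n ⟨p, hpp⟩).toNat ≤ i - k' := by rw [hr]; exact h9'
        have h10 : k' ≤ δ := by omega
        exact le_trans (min_le_left _ _) (by exact_mod_cast h10)
      · exact le_trans (min_le_right _ _) (by exact_mod_cast hge)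

end Groth.Agent.Lib.helper23.DimFn
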