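import Mathlib
import Groth.Prelude.Def_Wider
import Groth.Prelude.Def_DDual2
import Groth.Prelude.Def_CAlg
import Groth.Prelude.Def_EGA4b
import Groth.Agent.Lib.Helper23.DimFn23
import Groth.Agent.Lib.Helper26.LocTrans

/-!
# Openness of the `(S_k)`-locus of a finite module over a ring with a dualizing complex
-/

set_option autoImplicit false
universe u
open CategoryTheory CategoryTheory.Limits DerivedCategory Pretriangulated TensorProduct

attribute [local instance] HasDerivedCategory.standard

namespace Groth.Agent.Lib.helper23.DimFn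

open Groth.Agent.Lib.helper23.FBC Groth.Agent.Lib.helper23.BassD
open Groth.Agent.Lib.helper26.Depth
open scoped Pointwise

attribute [local instance 50] homModuleA
attribute [local instance] FlatBC.preservesFiniteLimits_extendScalars_algebraMap
attribute [local instance] flat_atPrime

variable {A : Type u} [CommRing A] [IsNoetherianRing A]

/-- the pointwise `(S_k)` condition at `q`. -/
def SkCond (k : ℕ) (M : Type u) [AddCommGroup M] [Module A M] (q : PrimeSpectrum A) : Prop :=
  min (k : WithBot ℕ∞) (Module.supportDim (Localization.AtPrime q.asIdeal)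
      (LocalizedModule q.asIdeal.primeCompl M)) ≤
    ((LocCoh.depth (Localization.AtPrime q.asIdeal)
      (LocalizedModule q.asIdeal.primeCompl M) : ℕ∞) : WithBot ℕ∞)

lemma skCond_congr (k : ℕ) (M : Type u) [AddCommGroup M] [Module A M] (I J : Ideal A)
    [hI : I.IsPrime] [hJ : J.IsPrime] (h : I = J)
    (hc : min (k : WithBot ℕ∞) (Module.supportDim (Localization.AtPrime I)
      (LocalizedModule I.primeCompl M)) ≤
      ((LocCoh.depth (Localization.AtPrime I) (LocalizedModule I.primeCompl M) : ℕ∞) :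
        WithBot ℕ∞)) :
    min (k : WithBot ℕ∞) (Module.supportDim (Localization.AtPrime J)
      (LocalizedModule J.primeCompl M)) ≤
      ((LocCoh.depth (Localization.AtPrime J) (LocalizedModule J.primeCompl M) : ℕ∞) :
        WithBot ℕ∞) := by
  subst h
  exact hc

/-- `(S_k)` at `p` is the pointwise condition at all generizations of `p`. -/
lemma hasSkAt_iff_forall_le (k : ℕ) (M : Type u) [AddCommGroup M] [Module A M]
    [Module.Finite A M] (p : PrimeSpectrum A) :
    EGA4.HasSkAt k A M p.asIdeal ↔ ∀ q : PrimeSpectrum A, q ≤ p → SkCond k M q := by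
  haveI hpp : p.asIdeal.IsPrime := p.2
  constructor
  · intro h q hq
    have hdisj : Disjoint (p.asIdeal.primeCompl : Set A) (q.asIdeal : Set A) := by
      rw [Set.disjoint_left]
      intro x hx hxq
      exact hx ((PrimeSpectrum.asIdeal_le_asIdeal q p).2 hq hxq)
    haveI hP : (q.asIdeal.map (algebraMap A (Localization p.asIdeal.primeCompl))).IsPrime :=
      IsLocalization.isPrime_of_isPrime_disjoint p.asIdeal.primeCompl _ _ q.2 hdisj
    have hcm : (q.asIdeal.map (algebraMap A (Localization p.asIdeal.primeCompl))).comap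
        (algebraMap A (Localization p.asIdeal.primeCompl)) = q.asIdeal :=
      IsLocalization.under_map_of_isPrime_disjoint p.asIdeal.primeCompl _ q.2 hdisj
    have h1 := h (q.asIdeal.map (algebraMap A (Localization p.asIdeal.primeCompl)))
    obtain ⟨h2, h3⟩ := depth_supportDim_localization_submonoid p.asIdeal.primeCompl M
      (q.asIdeal.map (algebraMap A (Localization p.asIdeal.primeCompl)))
    rw [h2, h3] at h1
    exact skCond_congr k M _ q.asIdeal hcm h1
  · intro h P hP
    obtain ⟨h2, h3⟩ := depth_supportDim_localization_submonoid p.asIdeal.primeCompl M P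
    show min (k : WithBot ℕ∞) (Module.supportDim (Localization.AtPrime P)
      (LocalizedModule P.primeCompl (LocalizedModule p.asIdeal.primeCompl M))) ≤
      ((LocCoh.depth (Localization.AtPrime P)
        (LocalizedModule P.primeCompl (LocalizedModule p.asIdeal.primeCompl M)) : ℕ∞) :
          WithBot ℕ∞)
    rw [h2, h3]
    exact h ⟨P.comap (algebraMap A (Localization p.asIdeal.primeCompl)), inferInstance⟩
      ((PrimeSpectrum.asIdeal_le_asIdeal _ _).1
        (Groth.Agent.Lib.helper26.SuppLoc.comap_le p.asIdeal ⟨P, hP⟩))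

/-- failure of the pointwise condition in terms of supports of `Ext`. -/
lemma not_skCond_iff (ω : Dual.D A) (hω : Dual.IsDualizing A ω) (a : ℤ) [ω.IsGE a]
    (n : PrimeSpectrum A → ℤ)
    (hn1 : ∀ (p : PrimeSpectrum A) (i : ℤ),
        Zloc ω p.asIdeal (ModuleCat.of A (A ⧸ p.asIdeal)) i ↔ i ≠ n p)
    (k : ℕ) (M : Type u) [AddCommGroup M] [Module A M] [Module.Finite A M]
    (q : PrimeSpectrum A) :
    ¬ SkCond k M q ↔ ∃ i j : ℤ, j < i ∧ q ∈ Module.support A (Dual.inD A M ⟶ ω⟦i⟧) ∧
      q ∈ Module.support A (Dual.inD A M ⟶ ω⟦j⟧) ∧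
      Module.supportDim (Localization.AtPrime q.asIdeal)
        (LocalizedModule q.asIdeal.primeCompl M) < (((k : ℤ) + i - j).toNat : WithBot ℕ∞) := by
  constructor
  · intro h
    have hq : q ∈ Module.support A M := by
      by_contra hq
      rw [Module.mem_support_iff, not_nontrivial_iff_subsingleton] at hq
      haveI : Subsingleton (LocalizedModule q.asIdeal.primeCompl M) := hq
      apply h
      unfold SkCond
      rw [Module.supportDim_eq_bot_of_subsingleton]
      simp
    obtain ⟨δ, e, hδ, he, hδe, hb, h1, h2⟩ := support_ext_bounds ω hω a q (n q) (hn1 q) M hq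
    unfold SkCond at h
    rw [he, hδ] at h
    have h3 : δ < k ∧ δ < e := by
      constructor
      · by_contra hge
        exact h (le_trans (min_le_left _ _) (by exact_mod_cast (not_lt.1 hge)))
      · by_contra hge
        exact h (le_trans (min_le_right _ _) (by exact_mod_cast (not_lt.1 hge)))
    refine ⟨n q - δ, n q - e, by omega, h1, h2, ?_⟩
    rw [he]
    have h4 : e < ((k : ℤ) + (n q - (δ : ℤ)) - (n q - (e : ℤ))).toNat := by omega
    exact_mod_cast h4
  · rintro ⟨i, j, hji, hi, hj, hlt⟩ h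
    have hq := mem_support_of_mem_support_hom ω a q M i hi
    obtain ⟨δ, e, hδ, he, hδe, hb, h1, h2⟩ := support_ext_bounds ω hω a q (n q) (hn1 q) M hq
    unfold SkCond at h
    rw [he, hδ] at h
    rw [he] at hlt
    have h3 : e < ((k : ℤ) + i - j).toNat := by exact_mod_cast hlt
    have h4 := (hb i hi).2
    have h5 := (hb j hj).1
    rcases min_le_iff.1 h with h6 | h6
    · have h7 : k ≤ δ := by exact_mod_cast h6
      omega
    · have h7 : e ≤ δ := by exact_mod_cast h6
      omega

/-- `dim M_w ≤ dim M_q` for `w ≤ q` in the support. -/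
lemma supportDim_localization_mono (M : Type u) [AddCommGroup M] [Module A M]
    (w q : PrimeSpectrum A) (hwq : w ≤ q) (hw : w ∈ Module.support A M) :
    Module.supportDim (Localization.AtPrime w.asIdeal) (LocalizedModule w.asIdeal.primeCompl M) ≤
      Module.supportDim (Localization.AtPrime q.asIdeal)
        (LocalizedModule q.asIdeal.primeCompl M) := by
  have hq : q ∈ Module.support A M := Module.mem_support_mono hwq hw
  rw [Groth.Agent.Lib.helper26.FinRestr.supportDim_localization_eq_height M w.asIdeal hw,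
    Groth.Agent.Lib.helper26.FinRestr.supportDim_localization_eq_height M q.asIdeal hq]
  have h1 : (⟨w, hw⟩ : Module.support A M) ≤ ⟨q, hq⟩ := hwq
  exact_mod_cast Order.height_mono h1

/-- S18715. -/
theorem isOpen_setOf_hasSkAt (ω : Dual.D A) (hω : Dual.IsDualizing A ω) (M : Type u)
    [AddCommGroup M] [Module A M] [Module.Finite A M] (k : ℕ) :
    IsOpen {p : PrimeSpectrum A | EGA4.HasSkAt k A M p.asIdeal} := by
  obtain ⟨a, hGE, n, hn1, hn2, hsm⟩ := exists_dimFn ω hω
  haveI := hGE
  obtain ⟨a', b, hab, hGE', hLE, hv⟩ := exists_bounds ω hω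
  have hKa : ∀ j : ℤ, j < a → IsZero ((homologyFunctor (ModuleCat.{u} A) j).obj ω) :=
    (DerivedCategory.isGE_iff ω a).1 inferInstance
  have hfin := hω.finite_cohomology
  haveI hMfin : Module.Finite A (ModuleCat.of A M) := inferInstanceAs (Module.Finite A M)
  have hsupp : ∀ (i : ℤ) (p : PrimeSpectrum A),
      p ∈ Module.support A (Dual.inD A M ⟶ ω⟦i⟧) → i ∈ Set.Icc a' b := by
    intro i p hp
    by_contra hi
    rw [Set.mem_Icc, not_and_or, not_le, not_le] at hi
    haveI := hv M i hi
    have : Module.support A (Dual.inD A M ⟶ ω⟦i⟧) = ∅ := Module.support_eq_empty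
    rw [this] at hp
    exact hp
  have hclosed : ∀ i : ℤ, IsClosed (Module.support A (Dual.inD A M ⟶ ω⟦i⟧)) := by
    intro i
    haveI : Module.Finite A (Dual.inD A M ⟶ ω⟦i⟧) :=
      FinHom.finite_hom_single_of_bddBelow (ModuleCat.of A M) ω a hKa hfin i
    exact Module.isClosed_support
  rw [← isClosed_compl_iff]
  let S : Set (ℤ × ℤ) := {x | x.1 ∈ Set.Icc a' b ∧ x.2 ∈ Set.Icc a' b ∧ x.2 < x.1}
  have hS : S.Finite :=
    ((Set.finite_Icc a' b).prod (Set.finite_Icc a' b)).subset (fun x hx => ⟨hx.1, hx.2.1⟩)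
  -- the bad set for a pair of degrees
  let T : ℤ × ℤ → Set (PrimeSpectrum A) := fun x =>
    {p | ∃ q : PrimeSpectrum A, q ≤ p ∧ q ∈ Module.support A (Dual.inD A M ⟶ ω⟦x.1⟧) ∧
      q ∈ Module.support A (Dual.inD A M ⟶ ω⟦x.2⟧) ∧
      Module.supportDim (Localization.AtPrime q.asIdeal)
        (LocalizedModule q.asIdeal.primeCompl M) <
          (((k : ℤ) + x.1 - x.2).toNat : WithBot ℕ∞)}
  have heq : {p : PrimeSpectrum A | EGA4.HasSkAt k A M p.asIdeal}ᶜ = ⋃ x ∈ S, T x := by
    ext p
    simp only [Set.mem_compl_iff, Set.mem_iUnion, exists_prop, Set.mem_ofPred_eq]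
    rw [hasSkAt_iff_forall_le]
    constructor
    · intro h
      push Not at h
      obtain ⟨q, hqp, hq⟩ := h
      obtain ⟨i, j, hji, hi, hj, hlt⟩ := (not_skCond_iff ω hω a n hn1 k M q).1 hq
      exact ⟨(i, j), ⟨hsupp i q hi, hsupp j q hj, hji⟩, q, hqp, hi, hj, hlt⟩
    · rintro ⟨x, ⟨-, -, hlt⟩, q, hqp, hi, hj, hd⟩ h
      exact (not_skCond_iff ω hω a n hn1 k M q).2 ⟨x.1, x.2, hlt, hi, hj, hd⟩ (h q hqp)
  rw [heq]
  refine hS.isClosed_biUnion (fun x _ => ?_)
  -- closedness of `T x`
  have hW : IsClosed (Module.support A (Dual.inD A M ⟶ ω⟦x.1⟧) ∩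
      Module.support A (Dual.inD A M ⟶ ω⟦x.2⟧)) := (hclosed x.1).inter (hclosed x.2)
  obtain ⟨I, hI⟩ := (PrimeSpectrum.isClosed_iff_zeroLocus_ideal _).1 hW
  let G : Set (PrimeSpectrum A) := {w | w.asIdeal ∈ I.minimalPrimes ∧
      Module.supportDim (Localization.AtPrime w.asIdeal)
        (LocalizedModule w.asIdeal.primeCompl M) <
          (((k : ℤ) + x.1 - x.2).toNat : WithBot ℕ∞)}
  have hG : G.Finite := by
    have h1 : (PrimeSpectrum.asIdeal ⁻¹' I.minimalPrimes : Set (PrimeSpectrum A)).Finite :=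
      Set.Finite.preimage (fun x _ y _ hxy => PrimeSpectrum.ext hxy)
        (Ideal.finite_minimalPrimes_of_isNoetherianRing A I)
    exact h1.subset (fun w hw => hw.1)
  have hT : T x = ⋃ w ∈ G, PrimeSpectrum.zeroLocus (w.asIdeal : Set A) := by
    ext p
    simp only [Set.mem_iUnion, exists_prop, PrimeSpectrum.mem_zeroLocus, SetLike.coe_subset_coe]
    constructor
    · rintro ⟨q, hqp, hi, hj, hd⟩
      have hqW : q ∈ PrimeSpectrum.zeroLocus (I : Set A) := by
        rw [← hI]
        exact ⟨hi, hj⟩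
      rw [PrimeSpectrum.mem_zeroLocus, SetLike.coe_subset_coe] at hqW
      obtain ⟨w, hw, hwq⟩ := Ideal.exists_minimalPrimes_le hqW
      let W : PrimeSpectrum A := ⟨w, hw.1.1⟩
      have hWq : W ≤ q := (PrimeSpectrum.asIdeal_le_asIdeal W q).1 hwq
      have hWmem : W ∈ Module.support A (Dual.inD A M ⟶ ω⟦x.1⟧) ∩
          Module.support A (Dual.inD A M ⟶ ω⟦x.2⟧) := by
        rw [hI, PrimeSpectrum.mem_zeroLocus, SetLike.coe_subset_coe]
        exact hw.1.2
      have hWM := mem_support_of_mem_support_hom ω a W M x.1 hWmem.1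
      refine ⟨W, ⟨hw, lt_of_le_of_lt (supportDim_localization_mono M W q hWq hWM) hd⟩, ?_⟩
      exact le_trans hwq ((PrimeSpectrum.asIdeal_le_asIdeal q p).2 hqp)
    · rintro ⟨w, ⟨hw, hd⟩, hwp⟩
      have hwW : w ∈ Module.support A (Dual.inD A M ⟶ ω⟦x.1⟧) ∩
          Module.support A (Dual.inD A M ⟶ ω⟦x.2⟧) := by
        rw [hI, PrimeSpectrum.mem_zeroLocus, SetLike.coe_subset_coe]
        exact hw.1.2
      exact ⟨w, (PrimeSpectrum.asIdeal_le_asIdeal w p).1 hwp, hwW.1, hwW.2, hd⟩
  rw [hT]
  exact hG.isClosed_biUnion (fun w _ => PrimeSpectrum.isClosed_zeroLocus _)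

end Groth.Agent.Lib.helper23.DimFn
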