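import Mathlib
import Groth.Agent.Lib.Helper23.DualD5

/-!
# Maps into the bottom cohomology of a bounded below object (helper23)
-/

set_option autoImplicit false
universe w v u
open CategoryTheory CategoryTheory.Limits Pretriangulated DerivedCategory

namespace Groth.Agent.Lib.helper23.DualD

section Bottom

variable {C : Type u} [Category.{v} C] [Abelian C] [HasDerivedCategory.{w} C]

/-- if `Y ≥ c`, `X ≤ c + 1` and `Hom(X, Y) = 0`, then `Hom(X, H^c(Y)[-c]) = 0`. -/
theorem hom_single_bottom_eq_zero (Y X : DerivedCategory C) (c b : ℤ) [Y.IsGE c] [X.IsLE b]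
    (hb : b ≤ c + 1) (h : ∀ f : X ⟶ Y, f = 0) :
    ∀ f : X ⟶ (singleFunctor C c).obj ((homologyFunctor C c).obj Y), f = 0 := by
  intro f
  let t := TStructure.t (C := C)
  let T := (t.triangleLTGE (c + 1)).obj Y
  have hT : T ∈ distTriang _ := t.triangleLTGE_distinguished (c + 1) Y
  let Y' := (t.truncLT (c + 1)).obj Y
  let Y'' := (t.truncGE (c + 1)).obj Y
  haveI hY'LE : Y'.IsLE c := by
    have : Y'.IsLE (c + 1 - 1) := by dsimp [Y']; infer_instance
    simpa using this
  haveI hY'GE : Y'.IsGE c := by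
    rw [isGE_iff]
    intro i hi
    haveI := SplitTrunc.isIso_homologyMap_truncLTι Y (c + 1) i (by omega)
    exact (isZero_of_isGE Y c i hi).of_iso
      (asIso ((homologyFunctor C i).map ((t.truncLTι (c + 1)).app Y)))
  obtain ⟨e⟩ := exists_iso_single_homology Y' c
  haveI := SplitTrunc.isIso_homologyMap_truncLTι Y (c + 1) c (by omega)
  let e' : Y' ≅ (singleFunctor C c).obj ((homologyFunctor C c).obj Y) :=
    e ≪≫ (singleFunctor C c).mapIso
      (asIso ((homologyFunctor C c).map ((t.truncLTι (c + 1)).app Y)))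
  have h1 : (f ≫ e'.inv) ≫ T.mor₁ = 0 := h _
  obtain ⟨g, hg⟩ := Triangle.coyoneda_exact₂ T.invRotate (inv_rot_of_distTriang _ hT)
    (f ≫ e'.inv) h1
  haveI hY''GE : Y''.IsGE (c + 1) := by dsimp [Y'']; infer_instance
  haveI : t.IsGE T.invRotate.obj₁ (c + 2) := by
    show t.IsGE (Y''⟦(-1 : ℤ)⟧) (c + 2)
    exact t.isGE_shift Y'' (c + 1) (-1) (c + 2) (by omega)
  have hg0 : g = 0 := t.zero g b (c + 2) (by omega)
  rw [hg0, zero_comp] at hg
  have hg' : f ≫ e'.inv = (0 : X ⟶ Y') := hg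
  have h5 := congrArg (fun t => t ≫ e'.hom) hg'
  simpa using h5

/-- shifted version. -/
theorem hom_single_bottom_shift_eq_zero (Y X : DerivedCategory C) (c a m : ℤ) [Y.IsGE c]
    [X.IsLE a] (ham : a + m ≤ c + 1) (h : ∀ f : X ⟶ Y⟦m⟧, f = 0) :
    ∀ f : X ⟶ ((singleFunctor C c).obj ((homologyFunctor C c).obj Y))⟦m⟧, f = 0 := by
  intro f
  let t := TStructure.t (C := C)
  haveI : (X⟦-m⟧).IsLE (a + m) := t.isLE_shift X a (-m) (a + m) (by omega)
  have h' : ∀ f' : X⟦-m⟧ ⟶ Y, f' = 0 := by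
    intro f'
    have h1 := h ((shiftFunctorCompIsoId (DerivedCategory C) (-m) m (by omega)).inv.app X ≫ f'⟦m⟧')
    have h2 : f'⟦m⟧' = 0 := by
      have h3 := congrArg (fun t => (shiftFunctorCompIsoId (DerivedCategory C) (-m) m
        (by omega)).hom.app X ≫ t) h1
      simpa using h3
    exact (shiftFunctor (DerivedCategory C) m).map_injective (by rw [h2, Functor.map_zero])
  have h2 := hom_single_bottom_eq_zero Y (X⟦-m⟧) c (a + m) ham h'
    (f⟦-m⟧' ≫ (shiftFunctorCompIsoId (DerivedCategory C) m (-m) (by omega)).hom.app _)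
  have h3 : f⟦-m⟧' = 0 := by
    have h4 := congrArg (fun t => t ≫ (shiftFunctorCompIsoId (DerivedCategory C) m (-m)
      (by omega)).inv.app _) h2
    simpa using h4
  exact (shiftFunctor (DerivedCategory C) (-m)).map_injective (by rw [h3, Functor.map_zero])

end Bottom

end Groth.Agent.Lib.helper23.DualD
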