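import Mathlib
import Groth.Prelude.Def_Wider
import Groth.Prelude.Def_DDual2
import Groth.Prelude.Def_CAlg
import Groth.Agent.Lib.Helper23.DimFn25
import Groth.Agent.Lib.Helper23.DimFn26

/-!
# The dualizing module of a local ring has depth `≥ min(2, dim)` (helper23)
-/

set_option autoImplicit false
universe u
open CategoryTheory CategoryTheory.Limits DerivedCategory Pretriangulated TensorProduct

attribute [local instance] HasDerivedCategory.standard

namespace Groth.Agent.Lib.helper23.DimFn

open Groth.Agent.Lib.helper23.FBC Groth.Agent.Lib.helper23.BassD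
open Groth.Agent.Lib.helper26.Depth
open scoped Pointwise

variable {B : Type u} [CommRing B] [IsNoetherianRing B] [IsLocalRing B]

lemma isGE_of_normalized (K : Dual.D B) (hK : Dual.IsDualizing B K)
    (hnorm : Dual.IsNormalized B K) (e : ℕ) (he : ringKrullDim B = e) : K.IsGE (-(e : ℤ)) := by
  rw [DerivedCategory.isGE_iff]
  intro i hi
  rw [ModuleCat.isZero_iff_subsingleton]
  refine (subsingleton_HD_iff K i).2 ((VZ_iff_subsingleton K i _).2 ?_)
  by_contra hns
  rw [not_subsingleton_iff_nontrivial] at hns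
  have hsd : Module.supportDim B B = (e : WithBot ℕ∞) := by
    rw [Module.supportDim_self_eq_ringKrullDim, he]
  have h1 := (ext_dualizing_vanishing_and_support K hK hnorm B e hsd i).1 hns
  omega

/-- the dualizing module `H^{-e}(K)` of a local ring of dimension `e` has depth `≥ min(2, e)`. -/
theorem le_depth_dualizing_module (K : Dual.D B) (hK : Dual.IsDualizing B K)
    (hnorm : Dual.IsNormalized B K) (e : ℕ) (he : ringKrullDim B = e) (n : ℕ) (hn2 : n ≤ 2)
    (hne : n ≤ e) :
    (n : ℕ∞) ≤ LocCoh.depth B (Dual.HD B K (-(e : ℤ))) := by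
  haveI := isGE_of_normalized K hK hnorm e he
  haveI : Module.Finite B (Dual.HD B K (-(e : ℤ))) := hK.finite_cohomology _
  refine (le_idealDepth_iff_ext (IsLocalRing.maximalIdeal B) (Dual.HD B K (-(e : ℤ))) n).2
    (fun i hi => ?_)
  refine (Abelian.Ext.homEquiv).subsingleton_congr.2 ⟨fun φ₁ φ₂ => ?_⟩
  have key : ∀ φ : (singleFunctor (ModuleCat.{u} B) 0).obj
      (ModuleCat.of B (B ⧸ IsLocalRing.maximalIdeal B)) ⟶
      ((singleFunctor (ModuleCat.{u} B) 0).obj (ModuleCat.of B (Dual.HD B K (-(e : ℤ)))))⟦(i : ℤ)⟧,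
      φ = 0 := by
    intro φ
    let c : ℤ := -(e : ℤ)
    let W' : ModuleCat.{u} B := (homologyFunctor (ModuleCat.{u} B) c).obj K
    let ε : ((singleFunctor (ModuleCat.{u} B) 0).obj W')⟦(i : ℤ)⟧ ≅
        ((singleFunctor (ModuleCat.{u} B) c).obj W')⟦(i : ℤ) + c⟧ :=
      (shiftFunctorAdd' (Dual.D B) (-c) ((i : ℤ) + c) (i : ℤ) (by omega)).app _ ≪≫
        (shiftFunctor (Dual.D B) ((i : ℤ) + c)).mapIso
          (((DerivedCategory.singleFunctors (ModuleCat.{u} B)).shiftIso (-c) c 0
            (by omega)).app W')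
    have h1 := DualD.hom_single_bottom_shift_eq_zero K
      ((singleFunctor (ModuleCat.{u} B) 0).obj (ModuleCat.of B (B ⧸ IsLocalRing.maximalIdeal B)))
      c 0 ((i : ℤ) + c) (by omega) (fun f => by
        haveI : Subsingleton ((singleFunctor (ModuleCat.{u} B) 0).obj
            (ModuleCat.of B (B ⧸ IsLocalRing.maximalIdeal B)) ⟶
            (shiftFunctor (DerivedCategory (ModuleCat.{u} B)) ((i : ℤ) + c)).obj K) :=
          hnorm ((i : ℤ) + c) (by omega)
        exact Subsingleton.elim _ _) (φ ≫ ε.hom)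
    have h2 := congrArg (fun t => t ≫ ε.inv) h1
    simpa using h2
  rw [key φ₁, key φ₂]

end Groth.Agent.Lib.helper23.DimFn
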