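import Mathlib
import Groth.Prelude.Def_Wider
import Groth.Prelude.Def_DDual2
import Groth.Prelude.Def_CAlg
import Groth.Agent.Lib.Helper23.DimFn24
import Groth.Agent.Lib.Helper23.DimFn27

/-!
# Support and `(S_2)` of the dualizing module (helper23)
-/

set_option autoImplicit false
universe u
open CategoryTheory CategoryTheory.Limits DerivedCategory Pretriangulated TensorProduct

attribute [local instance] HasDerivedCategory.standard

namespace Groth.Agent.Lib.helper23.DimFn

open Groth.Agent.Lib.helper23.FBC Groth.Agent.Lib.helper23.BassD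
open Groth.Agent.Lib.helper26.Depth
open scoped Pointwise

attribute [local instance 50] homModuleA
attribute [local instance] FlatBC.preservesFiniteLimits_extendScalars_algebraMap
attribute [local instance] flat_atPrime

section NonLocal

variable {A : Type u} [CommRing A] [IsNoetherianRing A]

/-- `(H^j ω)_p ≃ H^k((E ω)⟦s⟧)` for `s + k = j`. -/
noncomputable def localizedHDEquiv (ω : Dual.D A) (p : Ideal A) [p.IsPrime] (s j k : ℤ)
    (h : s + k = j) :
    LocalizedModule p.primeCompl (Dual.HD A ω j) ≃ₗ[Localization.AtPrime p]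
      Dual.HD (Localization.AtPrime p) (((EE A (Localization.AtPrime p)).obj ω)⟦s⟧) k :=
  (LocalizedModule.equivTensorProduct p.primeCompl (Dual.HD A ω j)) ≪≫ₗ
    ((FlatBC.homologyExtDIso (algebraMap A (Localization.AtPrime p)) ω j).toLinearEquiv ≪≫ₗ
      ExtSc.extendObjEquiv (B := Localization.AtPrime p)
        ((homologyFunctor (ModuleCat.{u} A) j).obj ω)).symm ≪≫ₗ
    (FlatBC.homologyShiftIso ((EE A (Localization.AtPrime p)).obj ω) s k j h).toLinearEquiv.symm

/-- `A_p` as the localized module of `A`. -/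
noncomputable def localizedSelfEquiv (p : Ideal A) [p.IsPrime] :
    LocalizedModule p.primeCompl A ≃ₗ[Localization.AtPrime p] Localization.AtPrime p :=
  (locEquiv p A).symm ≪≫ₗ
    ((ExtSc.extendObjEquiv (B := Localization.AtPrime p) (ModuleCat.of A A)).trans
      (TensorProduct.AlgebraTensorModule.rid A (Localization.AtPrime p)
        (Localization.AtPrime p)))

/-- a chain of length `dim M_p` below `p` in the support. -/
lemma exists_le_of_supportDim_localization (n : PrimeSpectrum A → ℤ) (hsm : StrictMono n)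
    (M : Type u) [AddCommGroup M] [Module A M] (p : PrimeSpectrum A)
    (hp : p ∈ Module.support A M) (e : ℕ)
    (he : Module.supportDim (Localization.AtPrime p.asIdeal)
        (LocalizedModule p.asIdeal.primeCompl M) = e) :
    ∃ q₀ : PrimeSpectrum A, q₀ ∈ Module.support A M ∧ q₀ ≤ p ∧ n q₀ + e ≤ n p := by
  have hht := Groth.Agent.Lib.helper26.FinRestr.supportDim_localization_eq_height M
    p.asIdeal hp
  rw [he] at hht
  have hht' : Order.height (⟨p, hp⟩ : Module.support A M) = (e : ℕ∞) := by
    exact_mod_cast hht.symm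
  obtain ⟨l, hl1, hl2⟩ := Order.exists_series_of_height_eq_coe _ hht'
  have key : ∀ (k : ℕ) (hk : k < l.length + 1), n (l 0).1 + k ≤ n (l ⟨k, hk⟩).1 := by
    intro k
    induction k with
    | zero =>
      intro hk
      simp
    | succ k ih =>
      intro hk
      have h1 := ih (by omega)
      have h2 : l ⟨k, by omega⟩ < l ⟨k + 1, hk⟩ :=
        l.strictMono (Fin.mk_lt_mk.2 (Nat.lt_succ_self k))
      have h3 : n (l ⟨k, by omega⟩).1 < n (l ⟨k + 1, hk⟩).1 := hsm h2
      push_cast
      omega
  have h4 := key l.length (Nat.lt_succ_self _)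
  have h5 : l ⟨l.length, Nat.lt_succ_self _⟩ = ⟨p, hp⟩ := hl1
  rw [h5] at h4
  have h4' : n (l 0).1 + (e : ℤ) ≤ n p := by
    have h7 : (l.length : ℤ) = (e : ℤ) := by exact_mod_cast hl2
    rw [← h7]
    exact h4
  refine ⟨(l 0).1, (l 0).2, ?_, h4'⟩
  have h6 : l 0 ≤ l ⟨l.length, Nat.lt_succ_self _⟩ := l.strictMono.monotone (Fin.zero_le _)
  rw [h5] at h6
  exact h6

end NonLocal

section Local

variable {A : Type u} [CommRing A] [IsNoetherianRing A] [IsLocalRing A]

/-- S0369. -/
theorem dualizing_module_support_and_S2 (ω : Dual.D A) (hω : Dual.IsDualizing A ω)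
    (hn : Dual.IsNormalized A ω) (d : ℕ) (hd : ringKrullDim A = d) :
    Module.support A (Dual.HD A ω (-(d : ℤ))) =
      {p : PrimeSpectrum A | ∃ q ∈ minimalPrimes A, q ≤ p.asIdeal ∧ ringKrullDim (A ⧸ q) = d} ∧
    LocCoh.HasSk 2 A (Dual.HD A ω (-(d : ℤ))) := by
  obtain ⟨a, hGE, n, hn1, hn2, hsm, hn0, hVZ⟩ := exists_dimFn_normalized ω hω hn
  haveI := hGE
  have hdimq := ringKrullDim_quotient_eq_dimFn n hsm hn2 hn0
  have htop : ∀ x : PrimeSpectrum A, x ≤ IsLocalRing.closedPoint A := fun x =>
    (PrimeSpectrum.asIdeal_le_asIdeal x _).1 (IsLocalRing.le_maximalIdeal x.2.ne_top)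
  have hle0 : ∀ x : PrimeSpectrum A, n x ≤ 0 := fun x => by
    rw [← hn0]
    exact hsm.monotone (htop x)
  have hlow : ∀ x : PrimeSpectrum A, -(d : ℤ) ≤ n x := by
    intro x
    have h1 := ringKrullDim_quotient_le x.asIdeal
    rw [hdimq x, hd] at h1
    have h2 : (-n x).toNat ≤ d := by exact_mod_cast h1
    have := hle0 x
    omega
  have hannA : Module.annihilator A A = ⊥ := Module.annihilator_eq_bot.mpr inferInstance
  have hsuppA : ∀ p : PrimeSpectrum A, p ∈ Module.support A A := fun p =>
    Module.mem_support_iff_of_finite.2 (by rw [hannA]; exact bot_le)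
  -- the key facts at a point of the support of `H^{-d}(ω)`
  have hkey : ∀ p : PrimeSpectrum A, p ∈ Module.support A (Dual.HD A ω (-(d : ℤ))) →
      ∃ e : ℕ, Module.supportDim (Localization.AtPrime p.asIdeal)
        (LocalizedModule p.asIdeal.primeCompl A) = e ∧ n p - (e : ℤ) = -(d : ℤ) ∧
        ∃ q₀ : PrimeSpectrum A, q₀ ≤ p ∧ n q₀ = -(d : ℤ) := by
    intro p hp
    obtain ⟨δ, e, hδ, he, hδe, hb, h1, h2⟩ :=
      support_ext_bounds ω hω a p (n p) (hn1 p) A (hsuppA p)
    have h3 := (hb _ ((mem_support_HD_iff_mem_support_hom ω a p _).1 hp)).1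
    obtain ⟨q₀, -, hq₀p, hq₀⟩ :=
      exists_le_of_supportDim_localization n hsm A p (hsuppA p) e he
    have h4 := hlow q₀
    exact ⟨e, he, by omega, q₀, hq₀p, by omega⟩
  constructor
  · ext p
    simp only [Set.mem_ofPred_eq]
    constructor
    · intro hp
      obtain ⟨e, -, -, q₀, hq₀p, hq₀⟩ := hkey p hp
      refine ⟨q₀.asIdeal, ⟨⟨q₀.2, bot_le⟩, fun q' hq' hle => ?_⟩,
        (PrimeSpectrum.asIdeal_le_asIdeal q₀ p).2 hq₀p, ?_⟩
      · by_contra hnle
        have hlt : (⟨q', hq'.1⟩ : PrimeSpectrum A) < q₀ := by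
          refine lt_of_le_of_ne ((PrimeSpectrum.asIdeal_le_asIdeal _ _).1 hle) ?_
          intro heq
          apply hnle
          rw [← heq]
        have h1 := hsm hlt
        have h2 := hlow ⟨q', hq'.1⟩
        omega
      · rw [hdimq q₀, hq₀]
        have : (-(-(d : ℤ))).toNat = d := by omega
        rw [this]
        rfl
    · rintro ⟨q, hq, hqp, hdq⟩
      let Q : PrimeSpectrum A := ⟨q, hq.1.1⟩
      have hnQ : n Q = -(d : ℤ) := by
        have h1 := hdimq Q
        rw [hdq] at h1
        have h2 : d = (-n Q).toNat := by exact_mod_cast h1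
        have := hle0 Q
        omega
      obtain ⟨δ, e, hδ, he, hδe, hb, h1, h2⟩ :=
        support_ext_bounds ω hω a Q (n Q) (hn1 Q) A (hsuppA Q)
      have he0 : e = 0 := by
        have h3 := supportDim_localization_eq_zero_of_minimal A Q (by rw [hannA]; exact hq)
        rw [he] at h3
        exact_mod_cast h3
      have h3 : Q ∈ Module.support A (Dual.HD A ω (-(d : ℤ))) := by
        rw [mem_support_HD_iff_mem_support_hom ω a Q]
        have h4 : n Q - (e : ℤ) = -(d : ℤ) := by rw [he0, hnQ]; simp
        rw [← h4]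
        exact h2
      exact Module.mem_support_mono ((PrimeSpectrum.asIdeal_le_asIdeal Q p).1 hqp) h3
  · intro p hpp
    by_cases hP : (⟨p, hpp⟩ : PrimeSpectrum A) ∈ Module.support A (Dual.HD A ω (-(d : ℤ)))
    · obtain ⟨e, he, hne, -⟩ := hkey ⟨p, hpp⟩ hP
      have hK := isDualizing_EE_atPrime ω hω p
      haveI : IsNoetherianRing (Localization.AtPrime p) := hK.isNoetherianRing
      have hK' : Dual.IsDualizing (Localization.AtPrime p)
          (((EE A (Localization.AtPrime p)).obj ω)⟦n ⟨p, hpp⟩⟧) :=
        isDualizing_shift _ (n ⟨p, hpp⟩) hK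
      have hnorm' := isNormalized_EE_shift ω a p (n ⟨p, hpp⟩) (hn1 ⟨p, hpp⟩)
      have hBdim : ringKrullDim (Localization.AtPrime p) = e := by
        rw [← Module.supportDim_self_eq_ringKrullDim,
          ← Module.supportDim_eq_of_equiv (localizedSelfEquiv p)]
        exact he
      let E := localizedHDEquiv ω p (n ⟨p, hpp⟩) (-(d : ℤ)) (-(e : ℤ)) (by omega)
      show min ((2 : ℕ) : WithBot ℕ∞) (Module.supportDim (Localization.AtPrime p)
        (LocalizedModule p.primeCompl (Dual.HD A ω (-(d : ℤ))))) ≤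
        ((LocCoh.depth (Localization.AtPrime p)
          (LocalizedModule p.primeCompl (Dual.HD A ω (-(d : ℤ)))) : ℕ∞) : WithBot ℕ∞)
      have hdep : LocCoh.depth (Localization.AtPrime p)
          (LocalizedModule p.primeCompl (Dual.HD A ω (-(d : ℤ)))) =
          LocCoh.depth (Localization.AtPrime p) (Dual.HD (Localization.AtPrime p)
            (((EE A (Localization.AtPrime p)).obj ω)⟦n ⟨p, hpp⟩⟧) (-(e : ℤ))) :=
        idealDepth_congr E
      have hsd : Module.supportDim (Localization.AtPrime p)
          (LocalizedModule p.primeCompl (Dual.HD A ω (-(d : ℤ)))) ≤ (e : WithBot ℕ∞) := by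
        rw [← hBdim]
        exact Module.supportDim_le_ringKrullDim _ _
      rw [hdep]
      rcases Nat.lt_or_ge e 2 with hlt | hge
      · have h1 := le_depth_dualizing_module _ hK' hnorm' e hBdim e (by omega) le_rfl
        refine le_trans (min_le_right _ _) (le_trans hsd ?_)
        exact_mod_cast h1
      · have h1 := le_depth_dualizing_module _ hK' hnorm' e hBdim 2 le_rfl hge
        refine le_trans (min_le_left _ _) ?_
        exact WithBot.coe_le_coe.2 h1
    · rw [Module.mem_support_iff, not_nontrivial_iff_subsingleton] at hP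
      haveI : Subsingleton (LocalizedModule p.primeCompl (Dual.HD A ω (-(d : ℤ)))) := hP
      show min ((2 : ℕ) : WithBot ℕ∞) (Module.supportDim (Localization.AtPrime p)
        (LocalizedModule p.primeCompl (Dual.HD A ω (-(d : ℤ))))) ≤ _
      rw [Module.supportDim_eq_bot_of_subsingleton]
      simp

end Local

end Groth.Agent.Lib.helper23.DimFn
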