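import Mathlib
import Groth.Prelude.Def_Wider
import Groth.Prelude.Def_DDual2
import Groth.Prelude.Def_CAlg
import Groth.Agent.Lib.Helper23.DimFn28
import Groth.Agent.Lib.Helper26.Sk1

/-!
# The bottom cohomology of a dualizing complex: `(S_2)` and torsion-freeness (helper23)

`A` Noetherian, `ω` a dualizing complex with `H^i(ω) = 0` for `i < m`.  Then `H^m(ω)` satisfies
`(S_2)`, the minimal primes of its support are minimal primes of `A`, and over a domain it is
torsion-free.
-/

set_option autoImplicit false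
universe u
open CategoryTheory CategoryTheory.Limits DerivedCategory Pretriangulated TensorProduct

attribute [local instance] HasDerivedCategory.standard

namespace Groth.Agent.Lib.helper23.DimFn

open Groth.Agent.Lib.helper23.FBC Groth.Agent.Lib.helper23.BassD
open Groth.Agent.Lib.helper26.Depth
open scoped Pointwise

attribute [local instance 50] homModuleA
attribute [local instance] FlatBC.preservesFiniteLimits_extendScalars_algebraMap
attribute [local instance] flat_atPrime

section Bottom

variable {A : Type u} [CommRing A] [IsNoetherianRing A]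

lemma mem_support_self (p : PrimeSpectrum A) : p ∈ Module.support A A := by
  have hannA : Module.annihilator A A = ⊥ := Module.annihilator_eq_bot.mpr inferInstance
  exact Module.mem_support_iff_of_finite.2 (by rw [hannA]; exact bot_le)

lemma subsingleton_HD_of_lt (ω : Dual.D A) (m : ℤ) [ω.IsGE m] (i : ℤ) (hi : i < m) :
    Subsingleton (Dual.HD A ω i) :=
  ModuleCat.isZero_iff_subsingleton.1 (DerivedCategory.isZero_of_isGE ω m i hi)

/-- at a point `p` of the support of the bottom cohomology `H^m(ω)`: `m = n(p) - dim A_p`. -/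
lemma bottom_key (ω : Dual.D A) (hω : Dual.IsDualizing A ω) (m : ℤ) [ω.IsGE m]
    (n : PrimeSpectrum A → ℤ)
    (hn1 : ∀ (p : PrimeSpectrum A) (i : ℤ),
      Zloc ω p.asIdeal (ModuleCat.of A (A ⧸ p.asIdeal)) i ↔ i ≠ n p)
    (p : PrimeSpectrum A) :
    ∃ e : ℕ, Module.supportDim (Localization.AtPrime p.asIdeal)
        (LocalizedModule p.asIdeal.primeCompl A) = e ∧ m ≤ n p - (e : ℤ) ∧
        p ∈ Module.support A (Dual.HD A ω (n p - (e : ℤ))) ∧
        (p ∈ Module.support A (Dual.HD A ω m) → n p - (e : ℤ) = m) := by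
  obtain ⟨δ, e, hδ, he, hδe, hb, h1, h2⟩ :=
    support_ext_bounds ω hω m p (n p) (hn1 p) A (mem_support_self p)
  have h3 : p ∈ Module.support A (Dual.HD A ω (n p - (e : ℤ))) :=
    (mem_support_HD_iff_mem_support_hom ω m p _).2 h2
  have h4 : m ≤ n p - (e : ℤ) := by
    by_contra hlt
    haveI := subsingleton_HD_of_lt ω m (n p - (e : ℤ)) (by omega)
    have h5 : Module.support A (Dual.HD A ω (n p - (e : ℤ))) = ∅ := Module.support_eq_empty
    rw [h5] at h3
    exact h3
  refine ⟨e, he, h4, h3, fun hp => ?_⟩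
  have h6 := (hb _ ((mem_support_HD_iff_mem_support_hom ω m p _).1 hp)).1
  omega

/-- the bottom cohomology of a dualizing complex satisfies `(S_2)`. -/
theorem hasSk_two_HD_bottom (ω : Dual.D A) (hω : Dual.IsDualizing A ω) (m : ℤ) [ω.IsGE m] :
    LocCoh.HasSk 2 A (Dual.HD A ω m) := by
  obtain ⟨a, hGE, n, hn1, hn2, hsm⟩ := exists_dimFn ω hω
  intro p hpp
  by_cases hP : (⟨p, hpp⟩ : PrimeSpectrum A) ∈ Module.support A (Dual.HD A ω m)
  · obtain ⟨e, he, -, -, hne⟩ := bottom_key ω hω m n hn1 ⟨p, hpp⟩
    have hne := hne hP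
    have hK := isDualizing_EE_atPrime ω hω p
    haveI : IsNoetherianRing (Localization.AtPrime p) := hK.isNoetherianRing
    have hK' : Dual.IsDualizing (Localization.AtPrime p)
        (((EE A (Localization.AtPrime p)).obj ω)⟦n ⟨p, hpp⟩⟧) :=
      isDualizing_shift _ (n ⟨p, hpp⟩) hK
    have hnorm' := isNormalized_EE_shift ω m p (n ⟨p, hpp⟩) (hn1 ⟨p, hpp⟩)
    have hBdim : ringKrullDim (Localization.AtPrime p) = e := by
      rw [← Module.supportDim_self_eq_ringKrullDim,
        ← Module.supportDim_eq_of_equiv (localizedSelfEquiv p)]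
      exact he
    let E := localizedHDEquiv ω p (n ⟨p, hpp⟩) m (-(e : ℤ)) (by omega)
    show min ((2 : ℕ) : WithBot ℕ∞) (Module.supportDim (Localization.AtPrime p)
      (LocalizedModule p.primeCompl (Dual.HD A ω m))) ≤
      ((LocCoh.depth (Localization.AtPrime p)
        (LocalizedModule p.primeCompl (Dual.HD A ω m)) : ℕ∞) : WithBot ℕ∞)
    have hdep : LocCoh.depth (Localization.AtPrime p)
        (LocalizedModule p.primeCompl (Dual.HD A ω m)) =
        LocCoh.depth (Localization.AtPrime p) (Dual.HD (Localization.AtPrime p)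
          (((EE A (Localization.AtPrime p)).obj ω)⟦n ⟨p, hpp⟩⟧) (-(e : ℤ))) :=
      idealDepth_congr E
    have hsd : Module.supportDim (Localization.AtPrime p)
        (LocalizedModule p.primeCompl (Dual.HD A ω m)) ≤ (e : WithBot ℕ∞) := by
      rw [← hBdim]
      exact Module.supportDim_le_ringKrullDim _ _
    rw [hdep]
    rcases Nat.lt_or_ge e 2 with hlt | hge
    · have h1 := le_depth_dualizing_module _ hK' hnorm' e hBdim e (by omega) le_rfl
      refine le_trans (min_le_right _ _) (le_trans hsd ?_)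
      exact_mod_cast h1
    · have h1 := le_depth_dualizing_module _ hK' hnorm' e hBdim 2 le_rfl hge
      refine le_trans (min_le_left _ _) ?_
      exact WithBot.coe_le_coe.2 h1
  · rw [Module.mem_support_iff, not_nontrivial_iff_subsingleton] at hP
    haveI : Subsingleton (LocalizedModule p.primeCompl (Dual.HD A ω m)) := hP
    show min ((2 : ℕ) : WithBot ℕ∞) (Module.supportDim (Localization.AtPrime p)
      (LocalizedModule p.primeCompl (Dual.HD A ω m))) ≤ _
    rw [Module.supportDim_eq_bot_of_subsingleton]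
    simp

/-- the minimal primes of the support of the bottom cohomology are minimal primes of `A`. -/
theorem mem_minimalPrimes_of_HD_bottom (ω : Dual.D A) (hω : Dual.IsDualizing A ω) (m : ℤ)
    [ω.IsGE m] (q : Ideal A)
    (hq : q ∈ (Module.annihilator A (Dual.HD A ω m)).minimalPrimes) :
    q ∈ minimalPrimes A := by
  obtain ⟨a, hGE, n, hn1, hn2, hsm⟩ := exists_dimFn ω hω
  haveI : Module.Finite A (Dual.HD A ω m) := hω.finite_cohomology m
  haveI hqp : q.IsPrime := hq.1.1
  let Q : PrimeSpectrum A := ⟨q, hqp⟩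
  have hQ : Q ∈ Module.support A (Dual.HD A ω m) := Module.mem_support_iff_of_finite.2 hq.1.2
  obtain ⟨e, he, -, -, hne⟩ := bottom_key ω hω m n hn1 Q
  have hne := hne hQ
  obtain ⟨q₀, -, hq₀Q, hq₀⟩ :=
    exists_le_of_supportDim_localization n hsm A Q (mem_support_self Q) e he
  obtain ⟨e₀, he₀, hm₀, hs₀, -⟩ := bottom_key ω hω m n hn1 q₀
  have hee : e₀ = 0 := by omega
  have hnq₀ : n q₀ = m := by omega
  have hq₀s : q₀ ∈ Module.support A (Dual.HD A ω m) := by
    have : n q₀ - (e₀ : ℤ) = m := by rw [hee]; simpa using hnq₀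
    rw [this] at hs₀
    exact hs₀
  have hle : q ≤ q₀.asIdeal :=
    hq.2 ⟨q₀.2, Module.mem_support_iff_of_finite.1 hq₀s⟩
      ((PrimeSpectrum.asIdeal_le_asIdeal q₀ Q).2 hq₀Q)
  have heq : q₀ = Q := le_antisymm hq₀Q ((PrimeSpectrum.asIdeal_le_asIdeal Q q₀).1 hle)
  have he0 : e = 0 := by
    rw [heq] at hnq₀
    omega
  -- `dim A_q = 0`
  have hdim : ringKrullDim (Localization.AtPrime q) = 0 := by
    rw [← Module.supportDim_self_eq_ringKrullDim,
      ← Module.supportDim_eq_of_equiv (localizedSelfEquiv q)]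
    rw [he, he0]
    rfl
  rw [IsLocalization.AtPrime.ringKrullDim_eq_height q (Localization.AtPrime q)] at hdim
  have hh : q.height = 0 := by exact_mod_cast hdim
  exact Ideal.height_eq_zero_iff.1 hh

/-- over a domain the bottom cohomology of a dualizing complex is torsion-free. -/
theorem isTorsionFree_HD_bottom [IsDomain A] (ω : Dual.D A) (hω : Dual.IsDualizing A ω) (m : ℤ)
    [ω.IsGE m] : Module.IsTorsionFree A (Dual.HD A ω m) := by
  haveI : Module.Finite A (Dual.HD A ω m) := hω.finite_cohomology m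
  have hS1 : LocCoh.HasSk 1 A (Dual.HD A ω m) := by
    intro p hp
    refine le_trans (min_le_min_right _ ?_) (hasSk_two_HD_bottom ω hω m p)
    exact_mod_cast (by norm_num : (1 : ℕ) ≤ 2)
  have hass := (hasSk_one_iff (Dual.HD A ω m)).2 hS1
  have key : ∀ (r : A) (z : Dual.HD A ω m), r ≠ 0 → r • z = 0 → z = 0 := by
    intro r z hr hrz
    by_contra hz
    obtain ⟨P, hP, hle⟩ := exists_le_isAssociatedPrime_of_isNoetherianRing A z hz
    have hPmin := mem_minimalPrimes_of_HD_bottom ω hω m P (hass P hP)
    rw [IsDomain.minimalPrimes_eq_singleton_bot, Set.mem_singleton_iff] at hPmin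
    have hrP : r ∈ P := hle (by
      rw [Submodule.mem_colon_singleton, Submodule.mem_bot]
      exact hrz)
    rw [hPmin] at hrP
    exact hr hrP
  refine @Module.IsTorsionFree.mk A (Dual.HD A ω m) _ _ _ (fun r hr x y hxy => ?_)
  have h1 : r • (x - y) = 0 := by
    rw [smul_sub]
    exact sub_eq_zero.2 hxy
  exact sub_eq_zero.1 (key r (x - y) hr.ne_zero h1)

end Bottom

end Groth.Agent.Lib.helper23.DimFn
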