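import Mathlib
import Groth.Prelude.Def_DRing4
import Groth.Agent.Lib.Helper23.CxBid12

/-!
# Uniqueness of dualizing complexes over a Noetherian local ring, conclusion (helper23)

`exists_iso_shift_of_isDualizing_local`: two dualizing complexes over a Noetherian local ring differ
by a shift.
-/

set_option autoImplicit false
universe u
open CategoryTheory CategoryTheory.Limits DerivedCategory Pretriangulated Opposite
open CochainComplex.HomComplex
open scoped ZeroObject

attribute [local instance] HasDerivedCategory.standard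

namespace Groth.Agent.Lib.helper23.CxBid

open Groth.Agent.Lib.helper23.RHomCx Groth.Agent.Lib.helper23.GorInv Groth.Agent.Lib.helper23.FinHom
  Groth.Agent.Lib.helper23.DualD Groth.Agent.Lib.helper23.TensHom Groth.Agent.Lib.helper13.KFlat

variable (A : Type u) [CommRing A]

/-- `Q (Hom•(A[0]⟦t⟧, I)) ≅ (Q I)⟦-t⟧` -/
lemma nonempty_homCx_shift_single_iso (I : DRing.Cx A) (t : ℤ) :
    Nonempty (Q.obj (DRing.homCx ((S₀ (ModuleCat.of A A))⟦t⟧) I) ≅ (Q.obj I)⟦-t⟧) :=
  ⟨Q.mapIso (asIso (homCxShiftHom (S₀ (ModuleCat.of A A)) I t)).symm ≪≫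
    (Q.commShiftIso (-t)).app _ ≪≫
    (shiftFunctor (Dual.D A) (-t)).mapIso (Q.mapIso ((asIso (θ I (ModuleCat.of A A))).symm ≪≫
      asIso (evCx I (ModuleCat.of A A) (1 : A))))⟩

/-- **Uniqueness of dualizing complexes over a Noetherian local ring.** -/
theorem exists_iso_shift_of_isDualizing_local [IsLocalRing A] [IsNoetherianRing A]
    (ω ω' : Dual.D A) (hω : Dual.IsDualizing A ω) (hω' : Dual.IsDualizing A ω') :
    ∃ n : ℤ, Nonempty (ω' ≅ ω⟦n⟧) := by
  obtain ⟨M⟩ := exists_model ω hω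
  obtain ⟨M'⟩ := exists_model ω' hω'
  haveI := M.isKInjective
  obtain ⟨t₀, ⟨eX⟩⟩ := nonempty_homCx_iso_shift A ω ω' hω hω' M M'
  have hfI' : ∀ j, Module.Finite A (Hn M'.I j) := fun j => by
    haveI : Module.Finite A ((homologyFunctor (ModuleCat.{u} A) j).obj ω') :=
      hω'.finite_cohomology j
    exact Module.Finite.equiv
      ((homologyFunctor (ModuleCat.{u} A) j).mapIso M'.e).toLinearEquiv.symm
  haveI : IsIso (Q.map (ev M.I M'.I)) := biduality_cx hω M M'.I hfI'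
  let P : DRing.Cx A := (S₀ (ModuleCat.of A A))⟦t₀⟧
  have eP : Q.obj (DRing.homCx M'.I M.I) ≅ Q.obj P :=
    eX ≪≫ (shiftFunctor (Dual.D A) t₀).mapIso
      ((singleFunctorIsoCompQ (ModuleCat.{u} A) 0).app (ModuleCat.of A A)) ≪≫
      ((Q.commShiftIso t₀).app (S₀ (ModuleCat.of A A))).symm
  obtain ⟨e1⟩ := nonempty_iso_D_of_iso M.I eP
  obtain ⟨e2⟩ := nonempty_homCx_shift_single_iso A M.I t₀
  exact ⟨-t₀, ⟨M'.e.symm ≪≫ asIso (Q.map (ev M.I M'.I)) ≪≫ e1 ≪≫ e2 ≪≫
    (shiftFunctor (Dual.D A) (-t₀)).mapIso M.e⟩⟩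

end Groth.Agent.Lib.helper23.CxBid
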