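import Mathlib
import Groth.Prelude.Def_DualLC
import Groth.Agent.Lib.Helper23.LDual1

/-!
# helper23: element-level API for `Dual2.HDT A T K i = colim_J Hom_{D(A)}(A/J, K[i])`

The functor `G T X = colim_{V(J) ⊆ T} Hom_{D(A)}(A/J, X)` on `D(A)`, so that
`Dual2.HDT A T K i = G T (K⟦i⟧)` definitionally.

* `IdealsIn T` is cofiltered; `mkI`, `ι`, `ι_surj`, `ι_trans`, `ι_eq_zero_iff`;
* functoriality `Gmap`, `Gmap_ι`, `Gmap_id`, `Gmap_comp`, `Gmap_smul`, `Gmap_zero`.
-/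

set_option autoImplicit false
universe u
open CategoryTheory CategoryTheory.Limits Opposite

attribute [local instance] HasDerivedCategory.standard

namespace Groth.Agent.Lib.helper23.HDT

open Groth.Agent.Lib.helper23.LDual

variable {A : Type u} [CommRing A] (T : Set (PrimeSpectrum A))

/-- an object of `IdealsIn T` -/
def mkI (J : Ideal A) (hJ : PrimeSpectrum.zeroLocus (J : Set A) ⊆ T) : Dual2.IdealsIn T := ⟨J, hJ⟩

variable {T}

@[simp] lemma mkI_obj (J : Ideal A) (hJ : PrimeSpectrum.zeroLocus (J : Set A) ⊆ T) :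
    (mkI T J hJ).obj = J := rfl

/-- morphisms in `IdealsIn T` from inclusions -/
def homOfLE' {J J' : Dual2.IdealsIn T} (h : J.obj ≤ J'.obj) : J ⟶ J' :=
  ObjectProperty.homMk (homOfLE h)

lemma le_of_hom' {J J' : Dual2.IdealsIn T} (f : J ⟶ J') : J.obj ≤ J'.obj := leOfHom f.hom

instance (J J' : Dual2.IdealsIn T) : Subsingleton (J ⟶ J') :=
  ⟨fun _ _ => ObjectProperty.hom_ext _ (Subsingleton.elim _ _)⟩

/-- the intersection of two ideals of `IdealsIn T` -/
def infI (J J' : Dual2.IdealsIn T) : Dual2.IdealsIn T :=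
  mkI T (J.obj ⊓ J'.obj) (by
    rw [PrimeSpectrum.zeroLocus_inf]
    exact Set.union_subset J.property J'.property)

/-- the product of two ideals of `IdealsIn T` -/
def mulI (J J' : Dual2.IdealsIn T) : Dual2.IdealsIn T :=
  mkI T (J.obj * J'.obj) (by
    rw [PrimeSpectrum.zeroLocus_mul]
    exact Set.union_subset J.property J'.property)

lemma mulI_le_left (J J' : Dual2.IdealsIn T) : (mulI J J').obj ≤ J.obj := Ideal.mul_le_left

lemma mulI_le_right (J J' : Dual2.IdealsIn T) : (mulI J J').obj ≤ J'.obj := Ideal.mul_le_right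

/-- powers of an ideal of `IdealsIn T` -/
def powI (J : Dual2.IdealsIn T) (k : ℕ) (hk : k ≠ 0) : Dual2.IdealsIn T :=
  mkI T (J.obj ^ k) (by
    rw [PrimeSpectrum.zeroLocus_pow _ hk]
    exact J.property)

variable (T)

instance : IsCofiltered (Dual2.IdealsIn T) where
  cone_objs J J' := ⟨infI J J', homOfLE' inf_le_left, homOfLE' inf_le_right, trivial⟩
  cone_maps J J' _ _ := ⟨J, 𝟙 J, Subsingleton.elim _ _⟩
  nonempty := ⟨mkI T ⊤ (by simp)⟩

noncomputable instance presFiltT :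
    PreservesColimitsOfShape (Dual2.IdealsIn T)ᵒᵖ (forget (ModuleCat.{u + 1} A)) := by
  have : PreservesFilteredColimitsOfSize.{u, u} (forget (ModuleCat.{u + 1} A)) :=
    preservesFilteredColimitsOfSize_shrink.{u, u + 1, u, u + 1} _
  exact PreservesFilteredColimitsOfSize.preserves_filtered_colimits _

/-- `A/J` in `D(A)` -/
noncomputable abbrev qD (J : Ideal A) : Dual.D A := Dual.inD A (A ⧸ J)

/-- the transition map `A/J' ⟶ A/J` in `D(A)` for `J' ≤ J` -/
noncomputable def qMap {J' J : Ideal A} (h : J' ≤ J) : qD J' ⟶ qD J :=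
  (DerivedCategory.singleFunctor (ModuleCat.{u} A) 0).map
    (ModuleCat.ofHom (Submodule.mapQ J' J LinearMap.id h))

lemma qMap_comp {J'' J' J : Ideal A} (h : J'' ≤ J') (h' : J' ≤ J) :
    qMap h ≫ qMap h' = qMap (h.trans h') := by
  unfold qMap
  rw [← Functor.map_comp]
  congr 1
  refine ModuleCat.hom_ext (LinearMap.ext fun x => ?_)
  obtain ⟨x, rfl⟩ := Submodule.Quotient.mk_surjective _ x
  rfl

lemma qMap_refl (J : Ideal A) : qMap (le_refl J) = 𝟙 (qD J) := by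
  unfold qMap
  rw [← CategoryTheory.Functor.map_id]
  congr 1
  refine ModuleCat.hom_ext (LinearMap.ext fun x => ?_)
  obtain ⟨x, rfl⟩ := Submodule.Quotient.mk_surjective _ x
  rfl

variable (X : Dual.D A)

/-- the diagram whose colimit is `G T X`. -/
noncomputable abbrev diag : (Dual2.IdealsIn T)ᵒᵖ ⥤ ModuleCat.{u + 1} A :=
  (localCohomology.ringModIdeals (Dual2.idealsInDiagram T) ⋙
      DerivedCategory.singleFunctor (ModuleCat.{u} A) 0).op ⋙
    (linearYoneda A (Dual.D A)).obj X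

/-- `G T X = colim_{V(J) ⊆ T} Hom_{D(A)}(A/J, X)` -/
noncomputable abbrev G : ModuleCat.{u + 1} A := colimit (diag T X)

example (K : Dual.D A) (i : ℤ) : Dual2.HDT A T K i = G T (K⟦i⟧) := rfl

example (J : Dual2.IdealsIn T) : ((diag T X).obj (op J) : Type (u + 1)) = (qD J.obj ⟶ X) := rfl

variable {T X}

/-- the map from the stage `J`. -/
noncomputable def ι (J : Dual2.IdealsIn T) : (qD J.obj ⟶ X) →ₗ[A] G T X :=
  (colimit.ι (diag T X) (op J)).hom

lemma diag_map_apply {J' J : Dual2.IdealsIn T} (f : J' ⟶ J) (φ : qD J.obj ⟶ X) :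
    ((diag T X).map f.op).hom φ = qMap (le_of_hom' f) ≫ φ := rfl

lemma ι_trans {J' J : Dual2.IdealsIn T} (h : J'.obj ≤ J.obj) (φ : qD J.obj ⟶ X) :
    ι J' (qMap h ≫ φ) = ι J φ := by
  have := colimit.w (diag T X) (homOfLE' h).op
  have h2 := congrArg (fun m => m.hom φ) this
  exact h2

lemma ι_surj (x : G T X) : ∃ (J : Dual2.IdealsIn T) (φ : qD J.obj ⟶ X), ι J φ = x := by
  obtain ⟨j, y, hy⟩ := Concrete.colimit_exists_rep (diag T X) x
  exact ⟨j.unop, y, hy⟩

lemma ι_eq_zero_iff (J : Dual2.IdealsIn T) (φ : qD J.obj ⟶ X) :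
    ι J φ = 0 ↔ ∃ (J' : Dual2.IdealsIn T) (h : J'.obj ≤ J.obj), qMap h ≫ φ = 0 := by
  constructor
  · intro h
    have h2 : colimit.ι (diag T X) (op J) φ =
        colimit.ι (diag T X) (op J) (0 : (diag T X).obj (op J)) := by
      change ι J φ = ι J 0
      rw [h, map_zero]
    obtain ⟨k, f, g, hfg⟩ := Concrete.colimit_exists_of_rep_eq _ _ _ h2
    refine ⟨k.unop, le_of_hom' f.unop, ?_⟩
    have : ((diag T X).map g) (0 : (diag T X).obj (op J)) = 0 := map_zero _
    rw [this] at hfg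
    exact hfg
  · rintro ⟨J', h, hy⟩
    rw [← ι_trans h, hy, map_zero]

lemma ι_eq_iff (J : Dual2.IdealsIn T) (φ ψ : qD J.obj ⟶ X) :
    ι J φ = ι J ψ ↔ ∃ (J' : Dual2.IdealsIn T) (h : J'.obj ≤ J.obj), qMap h ≫ φ = qMap h ≫ ψ := by
  rw [← sub_eq_zero, ← map_sub, ι_eq_zero_iff]
  constructor
  · rintro ⟨J', h, h0⟩
    refine ⟨J', h, ?_⟩
    rw [Preadditive.comp_sub] at h0
    exact sub_eq_zero.1 h0
  · rintro ⟨J', h, h0⟩
    refine ⟨J', h, ?_⟩
    rw [Preadditive.comp_sub, h0, sub_self]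

/-- `a ∈ J` kills `A/J` in `D(A)`. -/
lemma smul_id_qD (J : Ideal A) (a : A) (ha : a ∈ J) : a • 𝟙 (qD (A := A) J) = 0 := by
  have h1 : a • 𝟙 (ModuleCat.of A (A ⧸ J)) = 0 := by
    refine ModuleCat.hom_ext (LinearMap.ext fun x => ?_)
    obtain ⟨x, rfl⟩ := Submodule.Quotient.mk_surjective _ x
    show a • (Submodule.Quotient.mk x : A ⧸ J) = 0
    rw [← Submodule.Quotient.mk_smul, Submodule.Quotient.mk_eq_zero]
    exact J.mul_mem_right x ha
  have h2 := congrArg (DerivedCategory.singleFunctor (ModuleCat.{u} A) 0).map h1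
  rw [Functor.map_smul, CategoryTheory.Functor.map_id, Functor.map_zero] at h2
  exact h2

lemma smul_hom_qD (J : Ideal A) (a : A) (ha : a ∈ J) (φ : qD J ⟶ X) : a • φ = 0 := by
  have : a • φ = (a • 𝟙 (qD J)) ≫ φ := by rw [Linear.smul_comp, Category.id_comp]
  rw [this, smul_id_qD J a ha, zero_comp]

lemma smul_ι (J : Dual2.IdealsIn T) (a : A) (ha : a ∈ J.obj) (φ : qD J.obj ⟶ X) :
    a • ι J φ = 0 := by
  rw [← map_smul]
  have : a • φ = 0 := smul_hom_qD J.obj a ha φ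
  show ι J (a • φ) = 0
  rw [this, map_zero]

section Functoriality

variable {Y Z : Dual.D A}

/-- functoriality of `G T` -/
noncomputable def Gmap (α : X ⟶ Y) : G T X →ₗ[A] G T Y :=
  (colimMap (Functor.whiskerLeft _ ((linearYoneda A (Dual.D A)).map α))).hom

lemma Gmap_ι (α : X ⟶ Y) (J : Dual2.IdealsIn T) (φ : qD J.obj ⟶ X) :
    Gmap (T := T) α (ι J φ) = ι J (φ ≫ α) := by
  have h := ι_colimMap (Functor.whiskerLeft (localCohomology.ringModIdeals
    (Dual2.idealsInDiagram T) ⋙ DerivedCategory.singleFunctor (ModuleCat.{u} A) 0).op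
      ((linearYoneda A (Dual.D A)).map α)) (op J)
  have h2 := congrArg (fun m => m.hom φ) h
  exact h2

lemma Gmap_id : Gmap (T := T) (𝟙 X) = LinearMap.id := by
  ext x
  obtain ⟨J, φ, rfl⟩ := ι_surj x
  rw [Gmap_ι, Category.comp_id]
  rfl

lemma Gmap_comp (α : X ⟶ Y) (β : Y ⟶ Z) :
    Gmap (T := T) (α ≫ β) = (Gmap β).comp (Gmap α) := by
  ext x
  obtain ⟨J, φ, rfl⟩ := ι_surj x
  rw [LinearMap.comp_apply, Gmap_ι, Gmap_ι, Gmap_ι, Category.assoc]

lemma Gmap_comp_apply (α : X ⟶ Y) (β : Y ⟶ Z) (x : G T X) :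
    Gmap (T := T) (α ≫ β) x = Gmap β (Gmap α x) := by
  rw [Gmap_comp]
  rfl

lemma Gmap_zero : Gmap (T := T) (0 : X ⟶ Y) = 0 := by
  ext x
  obtain ⟨J, φ, rfl⟩ := ι_surj x
  rw [Gmap_ι, comp_zero, map_zero]
  rfl

lemma Gmap_smul (a : A) (α : X ⟶ Y) : Gmap (T := T) (a • α) = a • Gmap α := by
  ext x
  obtain ⟨J, φ, rfl⟩ := ι_surj x
  rw [LinearMap.smul_apply, Gmap_ι, Gmap_ι, Linear.comp_smul, map_smul]

/-- `G T` of an isomorphism -/
noncomputable def GmapIso (e : X ≅ Y) : G T X ≃ₗ[A] G T Y :=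
  LinearEquiv.ofLinearMap (Gmap e.hom) (Gmap e.inv)
    (by rw [← Gmap_comp, e.inv_hom_id, Gmap_id])
    (by rw [← Gmap_comp, e.hom_inv_id, Gmap_id])

@[simp] lemma GmapIso_apply (e : X ≅ Y) (x : G T X) : GmapIso e x = Gmap e.hom x := rfl

end Functoriality

end Groth.Agent.Lib.helper23.HDT
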