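import Mathlib
import Groth.Prelude.Def_DualLC
import Groth.Agent.Lib.Helper23.HDT1

/-!
# helper23: the long exact sequence for `G T X = colim_J Hom_{D(A)}(A/J, X)`

* `Gmap_exact`: exactness from exactness of `Hom(A/J, -)`;
* `exact₂_shift`, `exact₃_shift`, `exact₁_shift`: exactness of `Hom(W, -)` on shifted distinguished
  triangles;
* `G_exact₂`, `G_exact₃`, `G_exact₁`.
-/

set_option autoImplicit false
universe u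
open CategoryTheory CategoryTheory.Limits Opposite Pretriangulated

attribute [local instance] HasDerivedCategory.standard

namespace Groth.Agent.Lib.helper23.HDT

variable {A : Type u} [CommRing A] {T : Set (PrimeSpectrum A)}

lemma Gmap_exact {X Y Z : Dual.D A} (α : X ⟶ Y) (β : Y ⟶ Z) (hαβ : α ≫ β = 0)
    (h : ∀ (J : Ideal A) (φ : qD J ⟶ Y), φ ≫ β = 0 → ∃ ψ : qD J ⟶ X, ψ ≫ α = φ) :
    Function.Exact (Gmap (T := T) α) (Gmap β) := by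
  intro y
  constructor
  · intro hy
    obtain ⟨J, φ, rfl⟩ := ι_surj y
    rw [Gmap_ι, ι_eq_zero_iff] at hy
    obtain ⟨J', hJ', h0⟩ := hy
    obtain ⟨ψ, hψ⟩ := h J'.obj (qMap hJ' ≫ φ) (by rw [Category.assoc, h0])
    refine ⟨ι J' ψ, ?_⟩
    rw [Gmap_ι, hψ, ι_trans]
  · rintro ⟨x, rfl⟩
    rw [← Gmap_comp_apply, hαβ, Gmap_zero]
    rfl

section Tri

variable (Tr : Triangle (Dual.D A)) (hT : Tr ∈ distTriang (Dual.D A)) (n : ℤ)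

include hT

lemma exact₂_shift {W : Dual.D A} (φ : W ⟶ Tr.obj₂⟦n⟧) (hφ : φ ≫ Tr.mor₂⟦n⟧' = 0) :
    ∃ ψ : W ⟶ Tr.obj₁⟦n⟧, ψ ≫ Tr.mor₁⟦n⟧' = φ := by
  have hT' := Triangle.shift_distinguished Tr hT n
  obtain ⟨ψ, hψ⟩ := Triangle.coyoneda_exact₂ _ hT' φ (by
    show φ ≫ (n.negOnePow • Tr.mor₂⟦n⟧') = 0
    rw [Linear.comp_units_smul, hφ, smul_zero])
  let ψ' : W ⟶ Tr.obj₁⟦n⟧ := ψ
  have h2 : φ = ψ' ≫ (n.negOnePow • Tr.mor₁⟦n⟧') := hψ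
  refine ⟨n.negOnePow • ψ', ?_⟩
  rw [Linear.units_smul_comp, h2, Linear.comp_units_smul]

lemma exact₃_shift {W : Dual.D A} (φ : W ⟶ Tr.obj₃⟦n⟧) (hφ : φ ≫ Tr.mor₃⟦n⟧' = 0) :
    ∃ ψ : W ⟶ Tr.obj₂⟦n⟧, ψ ≫ Tr.mor₂⟦n⟧' = φ :=
  exact₂_shift Tr.rotate (rot_of_distTriang _ hT) n φ hφ

lemma exact₁_shift {W : Dual.D A} (φ : W ⟶ (Tr.obj₁⟦(1 : ℤ)⟧)⟦n⟧)
    (hφ : φ ≫ (Tr.mor₁⟦(1 : ℤ)⟧')⟦n⟧' = 0) :
    ∃ ψ : W ⟶ Tr.obj₃⟦n⟧, ψ ≫ Tr.mor₃⟦n⟧' = φ := by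
  refine exact₂_shift Tr.rotate.rotate (rot_of_distTriang _ (rot_of_distTriang _ hT)) n φ ?_
  show φ ≫ (-(Tr.mor₁⟦(1 : ℤ)⟧'))⟦n⟧' = 0
  rw [Functor.map_neg, Preadditive.comp_neg, hφ, neg_zero]

lemma G_exact₂ : Function.Exact (Gmap (T := T) (Tr.mor₁⟦n⟧')) (Gmap (Tr.mor₂⟦n⟧')) :=
  Gmap_exact _ _ (by rw [← Functor.map_comp, comp_distTriang_mor_zero₁₂ _ hT, Functor.map_zero])
    (fun _ φ hφ => exact₂_shift Tr hT n φ hφ)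

lemma G_exact₃ : Function.Exact (Gmap (T := T) (Tr.mor₂⟦n⟧')) (Gmap (Tr.mor₃⟦n⟧')) :=
  Gmap_exact _ _ (by rw [← Functor.map_comp, comp_distTriang_mor_zero₂₃ _ hT, Functor.map_zero])
    (fun _ φ hφ => exact₃_shift Tr hT n φ hφ)

lemma G_exact₁ :
    Function.Exact (Gmap (T := T) (Tr.mor₃⟦n⟧')) (Gmap ((Tr.mor₁⟦(1 : ℤ)⟧')⟦n⟧')) :=
  Gmap_exact _ _ (by
    rw [← Functor.map_comp, comp_distTriang_mor_zero₃₁ _ hT, Functor.map_zero])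
    (fun _ φ hφ => exact₁_shift Tr hT n φ hφ)

end Tri

end Groth.Agent.Lib.helper23.HDT
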