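import Mathlib
import Groth.Prelude.Def_DualLC
import Groth.Agent.Lib.Helper23.HDT2
import Groth.Agent.Lib.Helper19.LCZero

/-!
# helper23: vanishing and finiteness results for `G T X = colim_J Hom_{D(A)}(A/J, X)`

* `G_subsingleton_of_hom_zero`, `G_subsingleton_of_isGE`;
* `torsion_vanish_D`, `G_subsingleton_of_torsion`: for `N` a `J₀`-power torsion module with
  `V(J₀) ⊆ T`, `G T (N[0]⟦m⟧) = 0` for `m > 0`;
* `G_single_subsingleton`: `G T (N[-b]) = 0` for `b ≠ 0`;
* `G_single_finite`: `G T (N[0])` is finite for `N` finite.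
-/

set_option autoImplicit false
universe u
open CategoryTheory CategoryTheory.Limits Opposite Pretriangulated DerivedCategory

attribute [local instance] HasDerivedCategory.standard

namespace Groth.Agent.Lib.helper23.HDT

open Groth.Agent.Lib.helper19.LCZero Groth.Agent.Lib.helper19.LCBridge

variable {A : Type u} [CommRing A] {T : Set (PrimeSpectrum A)}

lemma G_subsingleton_of_hom_zero (X : Dual.D A)
    (h : ∀ (J : Ideal A) (φ : qD J ⟶ X), φ = 0) : Subsingleton (G T X) := by
  refine ⟨fun x y => ?_⟩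
  have hz : ∀ z : G T X, z = 0 := by
    intro z
    obtain ⟨J, φ, rfl⟩ := ι_surj z
    rw [h J.obj φ, map_zero]
  rw [hz x, hz y]

lemma G_subsingleton_of_isGE (X : Dual.D A) [X.IsGE 1] : Subsingleton (G T X) :=
  G_subsingleton_of_hom_zero X (fun J φ => by
    haveI : (qD (A := A) J).IsLE 0 := by
      dsimp only [qD, Dual.inD]
      infer_instance
    exact (TStructure.t (C := ModuleCat.{u} A)).zero φ 0 1 (by omega))

/-- the derived-category form of the vanishing of `colim Ext^{p+1}(A/I^n, N)` for `N` torsion. -/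
theorem torsion_vanish_D [IsNoetherianRing A] (I : Ideal A) (N : Type u) [AddCommGroup N]
    [Module A N] (hN : IsTors I N) (p n : ℕ)
    (φ : qD (I ^ n) ⟶ (Dual.inD A N)⟦((p + 1 : ℕ) : ℤ)⟧) :
    ∃ (m : ℕ) (h : n ≤ m), qMap (Ideal.pow_le_pow_right h) ≫ φ = 0 := by
  let z : Abelian.Ext.{u} (Q I n) (ModuleCat.of A N) (p + 1) := Abelian.Ext.homEquiv.symm φ
  obtain ⟨m, h, hm⟩ := torsion_vanish I p N hN n z
  refine ⟨m, h, ?_⟩
  have h1 := congrArg Abelian.Ext.hom hm
  rw [Abelian.Ext.comp_hom, Abelian.Ext.mk₀_hom, ShiftedHom.mk₀_comp] at h1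
  have h2 : z.hom = φ := Equiv.apply_symm_apply _ _
  rw [h2] at h1
  have h3 : (0 : Abelian.Ext.{u} (Q I m) (ModuleCat.of A N) (p + 1)).hom = 0 :=
    map_zero Abelian.Ext.homAddEquiv
  rw [h3] at h1
  exact h1

theorem G_subsingleton_of_torsion [IsNoetherianRing A] (J₀ : Dual2.IdealsIn T) (N : Type u)
    [AddCommGroup N] [Module A N] (hN : IsTors J₀.obj N) (m : ℤ) (hm : 0 < m) :
    Subsingleton (G T ((Dual.inD A N)⟦m⟧)) := by
  obtain ⟨p, rfl⟩ : ∃ p : ℕ, m = ((p + 1 : ℕ) : ℤ) := ⟨(m - 1).toNat, by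
    have := Int.toNat_of_nonneg (show 0 ≤ m - 1 by omega)
    push_cast
    omega⟩
  refine ⟨fun x y => ?_⟩
  have hz : ∀ z : G T ((Dual.inD A N)⟦((p + 1 : ℕ) : ℤ)⟧), z = 0 := by
    intro z
    obtain ⟨J, φ, rfl⟩ := ι_surj z
    let I : Dual2.IdealsIn T := mulI J J₀
    have hNI : IsTors I.obj N := by
      intro x
      obtain ⟨k, hk⟩ := hN x
      exact ⟨k, fun a ha => hk a (Ideal.pow_right_mono (mulI_le_right J J₀) k ha)⟩
    have hle : I.obj ^ 1 ≤ J.obj := by
      rw [pow_one]
      exact mulI_le_left J J₀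
    obtain ⟨k, hk, h0⟩ := torsion_vanish_D I.obj N hNI p 1 (qMap hle ≫ φ)
    rw [← Category.assoc, qMap_comp] at h0
    have hk0 : k ≠ 0 := by omega
    rw [ι_eq_zero_iff]
    exact ⟨powI I k hk0, (Ideal.pow_le_pow_right hk).trans hle, h0⟩
  rw [hz x, hz y]

/-- `G T (N[-b]) = 0` for `b ≠ 0` and `N` torsion. -/
theorem G_single_subsingleton [IsNoetherianRing A] (J₀ : Dual2.IdealsIn T) (N : Type u)
    [AddCommGroup N] [Module A N] (hN : IsTors J₀.obj N) (b : ℤ) (hb : b ≠ 0) :
    Subsingleton (G T ((singleFunctor (ModuleCat.{u} A) b).obj (ModuleCat.of A N))) := by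
  rcases lt_or_gt_of_ne hb with h | h
  · haveI := G_subsingleton_of_torsion J₀ N hN (-b) (by omega)
    let e : (Dual.inD A N)⟦-b⟧ ≅ (singleFunctor (ModuleCat.{u} A) b).obj (ModuleCat.of A N) :=
      ((singleFunctors (ModuleCat.{u} A)).shiftIso (-b) b 0 (by omega)).app (ModuleCat.of A N)
    exact (GmapIso (T := T) e).symm.toEquiv.subsingleton
  · haveI : ((singleFunctor (ModuleCat.{u} A) b).obj (ModuleCat.of A N)).IsGE 1 :=
      (TStructure.t (C := ModuleCat.{u} A)).isGE_of_ge _ 1 b (by omega)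
    exact G_subsingleton_of_isGE _

section Finite

variable (N : Type u) [AddCommGroup N] [Module A N]

/-- the module map underlying a morphism `A/J ⟶ N` in `D(A)` -/
noncomputable def under (J : Ideal A) : (qD J ⟶ Dual.inD A N) →ₗ[A] ((A ⧸ J) →ₗ[A] N) where
  toFun φ := ((singleFunctor (ModuleCat.{u} A) 0).preimage φ).hom
  map_add' φ ψ := by
    have : (singleFunctor (ModuleCat.{u} A) 0).preimage (φ + ψ) =
        (singleFunctor (ModuleCat.{u} A) 0).preimage φ +
          (singleFunctor (ModuleCat.{u} A) 0).preimage ψ := by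
      apply (singleFunctor (ModuleCat.{u} A) 0).map_injective
      rw [Functor.map_add, Functor.map_preimage, Functor.map_preimage, Functor.map_preimage]
    rw [this]
    rfl
  map_smul' a φ := by
    have : (singleFunctor (ModuleCat.{u} A) 0).preimage (a • φ) =
        a • (singleFunctor (ModuleCat.{u} A) 0).preimage φ := by
      apply (singleFunctor (ModuleCat.{u} A) 0).map_injective
      rw [Functor.map_smul, Functor.map_preimage, Functor.map_preimage]
    rw [this]
    rfl

lemma map_under (J : Ideal A) (φ : qD J ⟶ Dual.inD A N) :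
    (singleFunctor (ModuleCat.{u} A) 0).map (ModuleCat.ofHom (under N J φ)) = φ := by
  unfold under
  exact Functor.map_preimage _ _

lemma under_qMap {J' J : Ideal A} (h : J' ≤ J) (φ : qD J ⟶ Dual.inD A N) :
    under N J' (qMap h ≫ φ) = (under N J φ).comp (Submodule.mapQ J' J LinearMap.id h) := by
  have h1 : ModuleCat.ofHom (under N J' (qMap h ≫ φ)) =
      ModuleCat.ofHom (Submodule.mapQ J' J LinearMap.id h) ≫ ModuleCat.ofHom (under N J φ) := by
    apply (singleFunctor (ModuleCat.{u} A) 0).map_injective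
    rw [map_under, Functor.map_comp, map_under]
    rfl
  have h2 := congrArg ModuleCat.Hom.hom h1
  exact h2

/-- evaluation at `1` -/
noncomputable def evOne (J : Ideal A) : (qD J ⟶ Dual.inD A N) →ₗ[A] N :=
  (LinearMap.applyₗ (Submodule.Quotient.mk (1 : A) : A ⧸ J)).comp (under N J)

lemma evOne_apply (J : Ideal A) (φ : qD J ⟶ Dual.inD A N) :
    evOne N J φ = under N J φ (Submodule.Quotient.mk (1 : A)) := rfl

lemma evOne_qMap {J' J : Ideal A} (h : J' ≤ J) (φ : qD J ⟶ Dual.inD A N) :
    evOne N J' (qMap h ≫ φ) = evOne N J φ := by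
  rw [evOne_apply, under_qMap]
  rfl

lemma eq_zero_of_evOne (J : Ideal A) (φ : qD J ⟶ Dual.inD A N) (h : evOne N J φ = 0) : φ = 0 := by
  have h1 : under N J φ = 0 := by
    apply Submodule.linearMap_qext
    apply LinearMap.ext_ring
    exact h
  rw [← map_under N J φ, h1]
  exact Functor.map_zero _ _ _

variable (T)

/-- the cocone with point `ULift N` -/
noncomputable def evCocone : Cocone (diag T (Dual.inD A N)) where
  pt := ModuleCat.of A (ULift.{u + 1} N)
  ι :=
    { app := fun J => ModuleCat.ofHom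
        (ULift.moduleEquiv.symm.toLinearMap.comp (evOne N J.unop.obj))
      naturality := by
        intro J J' f
        refine ModuleCat.hom_ext (LinearMap.ext fun φ => ?_)
        show ULift.up (evOne N J'.unop.obj (qMap (le_of_hom' f.unop) ≫ φ)) =
          ULift.up (evOne N J.unop.obj φ)
        rw [evOne_qMap] }

/-- the evaluation map `G T (N[0]) → N` -/
noncomputable def evG : G T (Dual.inD A N) →ₗ[A] ULift.{u + 1} N :=
  (colimit.desc (diag T (Dual.inD A N)) (evCocone T N)).hom

lemma evG_ι (J : Dual2.IdealsIn T) (φ : qD J.obj ⟶ Dual.inD A N) :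
    evG T N (ι J φ) = ULift.up (evOne N J.obj φ) := by
  have h := colimit.ι_desc (evCocone T N) (op J)
  have h2 := congrArg (fun m => m.hom φ) h
  exact h2

lemma evG_injective : Function.Injective (evG T N) := by
  rw [← LinearMap.ker_eq_bot, LinearMap.ker_eq_bot']
  intro x hx
  obtain ⟨J, φ, rfl⟩ := ι_surj x
  rw [evG_ι] at hx
  have h0 : evOne N J.obj φ = 0 := congrArg ULift.down hx
  rw [eq_zero_of_evOne N J.obj φ h0, map_zero]

theorem G_single_finite [IsNoetherianRing A] [Module.Finite A N] :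
    Module.Finite A (G T (Dual.inD A N)) := by
  haveI : Module.Finite A (ULift.{u + 1} N) := Module.Finite.equiv ULift.moduleEquiv.symm
  exact Module.Finite.of_injective (evG T N) (evG_injective T N)

end Finite

end Groth.Agent.Lib.helper23.HDT
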