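import Mathlib
import Groth.Prelude.Def_DualLC
import Groth.Agent.Lib.Helper23.HomNat
import Groth.Agent.Lib.Helper23.DualD7
import Groth.Agent.Lib.Helper19.LCGroth

/-!
# helper23: cohomological preparations for the finiteness theorem for `H^i_T`

* `finite_of_exact`;
* `cone_smul_isGE_and_finite`: the cone of `f : K → K` for `f` injective on the bottom cohomology;
* `cone_torsion`: killing the `J`-power torsion of the bottom cohomology.
-/

set_option autoImplicit false
universe u
open CategoryTheory CategoryTheory.Limits Opposite Pretriangulated DerivedCategory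

attribute [local instance] HasDerivedCategory.standard

namespace Groth.Agent.Lib.helper23.HDT

open Groth.Agent.Lib.helper19.LCZero Groth.Agent.Lib.helper19.LCGroth
  Groth.Agent.Lib.helper23.HomNat

variable {A : Type u} [CommRing A]

/-- `H^i(K)` -/
noncomputable abbrev Hn (K : Dual.D A) (i : ℤ) : ModuleCat.{u} A :=
  (homologyFunctor (ModuleCat.{u} A) i).obj K

/-- `H^i(f)` -/
noncomputable abbrev HnMap {K L : Dual.D A} (f : K ⟶ L) (i : ℤ) : Hn K i ⟶ Hn L i :=
  (homologyFunctor (ModuleCat.{u} A) i).map f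

lemma finite_of_exact [IsNoetherianRing A] {X Y Z : Type*} [AddCommGroup X] [Module A X]
    [AddCommGroup Y] [Module A Y] [AddCommGroup Z] [Module A Z] (f : X →ₗ[A] Y) (g : Y →ₗ[A] Z)
    (h : Function.Exact f g) [Module.Finite A X] [Module.Finite A Z] : Module.Finite A Y := by
  haveI : IsNoetherian A Z := isNoetherian_of_isNoetherianRing_of_finite A Z
  haveI : Module.Finite A (LinearMap.range g) := inferInstance
  haveI : Module.Finite A (LinearMap.ker g) := by
    rw [LinearMap.exact_iff.1 h]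
    exact Module.Finite.range f
  haveI : Module.Finite A (Y ⧸ LinearMap.ker g) := Module.Finite.equiv g.quotKerEquivRange.symm
  exact Module.Finite.of_submodule_quotient (LinearMap.ker g)

lemma finite_of_exact' [IsNoetherianRing A] {X Y Z : ModuleCat.{u} A} (f : X ⟶ Y) (g : Y ⟶ Z)
    (h : Function.Exact f.hom g.hom) (hX : Module.Finite A X) (hZ : Module.Finite A Z) :
    Module.Finite A Y :=
  finite_of_exact f.hom g.hom h

lemma subsingleton_Hn_single (N : ModuleCat.{u} A) (a j : ℤ) (h : j ≠ a) :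
    Subsingleton (Hn ((singleFunctor (ModuleCat.{u} A) a).obj N) j) := by
  have hz : IsZero (Hn ((singleFunctor (ModuleCat.{u} A) a).obj N) j) := by
    rcases lt_or_gt_of_ne h with h | h
    · exact isZero_of_isGE _ a j h
    · exact isZero_of_isLE _ a j h
  exact ModuleCat.subsingleton_of_isZero hz

lemma finite_Hn_single' (N : ModuleCat.{u} A) [Module.Finite A N] (a j : ℤ) :
    Module.Finite A (Hn ((singleFunctor (ModuleCat.{u} A) a).obj N) j) := by
  by_cases hj : j = a
  · subst hj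
    haveI : Module.Finite A ((𝟭 (ModuleCat.{u} A)).obj N) := ‹Module.Finite A N›
    exact Module.Finite.equiv
      ((singleFunctorCompHomologyFunctorIso (ModuleCat.{u} A) j).app N).toLinearEquiv.symm
  · haveI := subsingleton_Hn_single N a j hj
    infer_instance

lemma exists_single_to (K : Dual.D A) (a : ℤ) [K.IsGE a] :
    ∃ (M₁ : ModuleCat.{u} A) (u₀ : (singleFunctor (ModuleCat.{u} A) a).obj M₁ ⟶ K),
      IsIso (HnMap u₀ a) := by
  obtain ⟨e⟩ := DualD.exists_iso_truncLT_single K a
  refine ⟨_, e.inv ≫ ((TStructure.t (C := ModuleCat.{u} A)).truncLTι (a + 1)).app K, ?_⟩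
  haveI := SplitTrunc.isIso_homologyMap_truncLTι K (a + 1) a (by omega)
  show IsIso ((homologyFunctor (ModuleCat.{u} A) a).map
    (e.inv ≫ ((TStructure.t (C := ModuleCat.{u} A)).truncLTι (a + 1)).app K))
  rw [Functor.map_comp]
  infer_instance

lemma HnMap_smul_id (K : Dual.D A) (f : A) (i : ℤ) (y : Hn K i) :
    (HnMap (f • 𝟙 K) i).hom y = f • y := by
  have : HnMap (f • 𝟙 K) i = f • 𝟙 (Hn K i) := by
    show (homologyFunctor (ModuleCat.{u} A) i).map (f • 𝟙 K) = _
    rw [Functor.map_smul, CategoryTheory.Functor.map_id]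
  rw [this]
  rfl

theorem cone_smul_isGE_and_finite [IsNoetherianRing A] (K : Dual.D A) (a : ℤ) [K.IsGE a]
    (hfin : ∀ i, Module.Finite A (Hn K i)) (f : A) (hf : ∀ y : Hn K a, f • y = 0 → y = 0)
    (C : Dual.D A) (p : K ⟶ C) (q : C ⟶ K⟦(1 : ℤ)⟧)
    (hT : Triangle.mk (f • 𝟙 K) p q ∈ distTriang (Dual.D A)) :
    C.IsGE a ∧ ∀ i, Module.Finite A (Hn C i) := by
  have e3 : ∀ i : ℤ, Function.Exact (HnMap p i).hom (HomologySequence.δ (Triangle.mk (f • 𝟙 K) p q) i (i + 1) rfl).hom :=
    fun i => (ShortComplex.ShortExact.moduleCat_exact_iff_function_exact _).1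
      (HomologySequence.exact₃ (Triangle.mk (f • 𝟙 K) p q) hT i (i + 1) rfl)
  have e1 : ∀ i : ℤ, Function.Exact (HomologySequence.δ (Triangle.mk (f • 𝟙 K) p q) i (i + 1) rfl).hom
      (HnMap (f • 𝟙 K) (i + 1)).hom :=
    fun i => (ShortComplex.ShortExact.moduleCat_exact_iff_function_exact _).1
      (HomologySequence.exact₁ (Triangle.mk (f • 𝟙 K) p q) hT i (i + 1) rfl)
  refine ⟨?_, fun i => ?_⟩
  · rw [isGE_iff]
    intro i hi
    have hz : ∀ x : Hn C i, x = 0 := by
      intro x
      have hδ : (HomologySequence.δ (Triangle.mk (f • 𝟙 K) p q) i (i + 1) rfl).hom x = 0 := by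
        by_cases h1 : i + 1 = a
        · subst h1
          apply hf
          exact (HnMap_smul_id K f (i + 1) _).symm.trans ((e1 i).apply_apply_eq_zero x)
        · haveI : Subsingleton (Hn K (i + 1)) :=
            ModuleCat.subsingleton_of_isZero (isZero_of_isGE K a (i + 1) (by omega))
          exact Subsingleton.elim (α := Hn K (i + 1)) _ _
      obtain ⟨y, rfl⟩ := ((e3 i) x).1 hδ
      haveI : Subsingleton (Hn K i) :=
        ModuleCat.subsingleton_of_isZero (isZero_of_isGE K a i hi)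
      rw [Subsingleton.elim (α := Hn K i) y 0, map_zero]
    haveI : Subsingleton (Hn C i) := ⟨fun x y => by rw [hz x, hz y]⟩
    exact ModuleCat.isZero_of_subsingleton _
  · haveI := hfin i
    haveI := hfin (i + 1)
    exact finite_of_exact' (X := Hn K i) (Y := Hn C i) (Z := Hn K (i + 1)) (HnMap p i)
      (HomologySequence.δ (Triangle.mk (f • 𝟙 K) p q) i (i + 1) rfl) (e3 i) (hfin i) (hfin (i + 1))

theorem cone_torsion [IsNoetherianRing A] (K : Dual.D A) (a : ℤ) [K.IsGE a]
    (hfin : ∀ i, Module.Finite A (Hn K i)) (J : Ideal A) :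
    ∃ (N₁ : ModuleCat.{u} A) (_ : Module.Finite A N₁) (_ : IsTors J N₁) (K'' : Dual.D A)
      (u : (singleFunctor (ModuleCat.{u} A) a).obj N₁ ⟶ K) (v : K ⟶ K'')
      (w : K'' ⟶ ((singleFunctor (ModuleCat.{u} A) a).obj N₁)⟦(1 : ℤ)⟧),
      Triangle.mk u v w ∈ distTriang (Dual.D A) ∧ K''.IsGE a ∧
      (∀ i, Module.Finite A (Hn K'' i)) ∧ ∃ f ∈ J, ∀ y : Hn K'' a, f • y = 0 → y = 0 := by
  obtain ⟨M₁, u₀, hu₀⟩ := exists_single_to K a
  haveI := hu₀
  let can := singleFunctorCompHomologyFunctorIso (ModuleCat.{u} A) a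
  -- `θ : M₁ ≃ H^a(K)`
  let θ : M₁ ≃ₗ[A] Hn K a :=
    (can.app M₁).toLinearEquiv.symm ≪≫ₗ (asIso (HnMap u₀ a)).toLinearEquiv
  haveI : Module.Finite A M₁ := by
    haveI := hfin a
    exact Module.Finite.equiv θ.symm
  haveI : IsNoetherian A M₁ := isNoetherian_of_isNoetherianRing_of_finite A M₁
  let N₀ : Submodule A M₁ := DRing.torsionSub J M₁
  let N₁ : ModuleCat.{u} A := ModuleCat.of A N₀
  let j : N₁ ⟶ M₁ := ModuleCat.ofHom N₀.subtype
  have hN₁fin : Module.Finite A N₁ := inferInstanceAs (Module.Finite A N₀)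
  have hN₁tors : IsTors J N₁ := by
    rintro ⟨x, n, hn⟩
    exact ⟨n, fun b hb => Subtype.ext (hn b hb)⟩
  let u : (singleFunctor (ModuleCat.{u} A) a).obj N₁ ⟶ K :=
    (singleFunctor (ModuleCat.{u} A) a).map j ≫ u₀
  obtain ⟨K'', v, w, hT⟩ := distinguished_cocone_triangle u
  -- the key formula for `H^a(u)`
  have hu : ∀ n₀ : N₀, (HnMap u a).hom ((can.app N₁).inv.hom n₀) = θ (n₀ : M₁) := by
    intro n₀
    have h1 : (can.app N₁).inv ≫ HnMap u a = j ≫ (can.app M₁).inv ≫ HnMap u₀ a := by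
      have hnat := can.inv.naturality j
      show (can.inv.app N₁) ≫ (homologyFunctor (ModuleCat.{u} A) a).map
        ((singleFunctor (ModuleCat.{u} A) a).map j ≫ u₀) = _
      rw [Functor.map_comp, ← Category.assoc]
      erw [← hnat]
      rw [Category.assoc]
      rfl
    have h2 := congrArg (fun m => m.hom n₀) h1
    exact h2
  have e2 : ∀ i : ℤ, Function.Exact (HnMap u i).hom (HnMap v i).hom :=
    fun i => (ShortComplex.ShortExact.moduleCat_exact_iff_function_exact _).1
      (HomologySequence.exact₂ (Triangle.mk u v w) hT i)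
  have e3 : ∀ i : ℤ, Function.Exact (HnMap v i).hom (HomologySequence.δ (Triangle.mk u v w) i (i + 1) rfl).hom :=
    fun i => (ShortComplex.ShortExact.moduleCat_exact_iff_function_exact _).1
      (HomologySequence.exact₃ (Triangle.mk u v w) hT i (i + 1) rfl)
  have e1 : ∀ i : ℤ, Function.Exact (HomologySequence.δ (Triangle.mk u v w) i (i + 1) rfl).hom
      (HnMap u (i + 1)).hom :=
    fun i => (ShortComplex.ShortExact.moduleCat_exact_iff_function_exact _).1
      (HomologySequence.exact₁ (Triangle.mk u v w) hT i (i + 1) rfl)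
  -- injectivity of `H^a(u)`
  have hinj : ∀ z : Hn ((singleFunctor (ModuleCat.{u} A) a).obj N₁) a,
      (HnMap u a).hom z = 0 → z = 0 := by
    intro z hz
    obtain ⟨n₀, rfl⟩ : ∃ n₀ : N₀, (can.app N₁).inv.hom n₀ = z :=
      ⟨(can.app N₁).hom.hom z, by
        show ((can.app N₁).hom ≫ (can.app N₁).inv).hom z = z
        rw [Iso.hom_inv_id]; rfl⟩
    rw [hu] at hz
    have h0 : (n₀ : M₁) = 0 := by
      have := θ.injective (hz.trans (map_zero θ).symm)
      exact this
    have : n₀ = 0 := Subtype.ext h0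
    rw [this, map_zero]
  refine ⟨N₁, hN₁fin, hN₁tors, K'', u, v, w, hT, ?_, ?_, ?_⟩
  · rw [isGE_iff]
    intro i hi
    have hz : ∀ x : Hn K'' i, x = 0 := by
      intro x
      have hδ : (HomologySequence.δ (Triangle.mk u v w) i (i + 1) rfl).hom x = 0 := by
        by_cases h1 : i + 1 = a
        · subst h1
          apply hinj
          exact (e1 i).apply_apply_eq_zero x
        · haveI := subsingleton_Hn_single N₁ a (i + 1) h1
          exact Subsingleton.elim
            (α := Hn ((singleFunctor (ModuleCat.{u} A) a).obj N₁) (i + 1)) _ _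
      obtain ⟨y, rfl⟩ := ((e3 i) x).1 hδ
      haveI : Subsingleton (Hn K i) :=
        ModuleCat.subsingleton_of_isZero (isZero_of_isGE K a i hi)
      rw [Subsingleton.elim (α := Hn K i) y 0, map_zero]
    haveI : Subsingleton (Hn K'' i) := ⟨fun x y => by rw [hz x, hz y]⟩
    exact ModuleCat.isZero_of_subsingleton _
  · intro i
    haveI := hfin i
    haveI := hN₁fin
    haveI := finite_Hn_single' N₁ a (i + 1)
    exact finite_of_exact' (X := Hn K i) (Y := Hn K'' i)
      (Z := Hn ((singleFunctor (ModuleCat.{u} A) a).obj N₁) (i + 1)) (HnMap v i)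
      (HomologySequence.δ (Triangle.mk u v w) i (i + 1) rfl) (e3 i) (hfin i)
      (finite_Hn_single' N₁ a (i + 1))
  · have hbot : DRing.torsionSub J (M₁ ⧸ N₀) = ⊥ := torsionSub_quotient_eq_bot J M₁
    obtain ⟨f, hfJ, hreg⟩ := exists_regular J (M₁ ⧸ N₀) hbot
    refine ⟨f, hfJ, fun y hy => ?_⟩
    -- `y` comes from `H^a(K)`
    haveI := subsingleton_Hn_single N₁ a (a + 1) (by omega)
    obtain ⟨z, rfl⟩ := ((e3 a) y).1 (Subsingleton.elim
      (α := Hn ((singleFunctor (ModuleCat.{u} A) a).obj N₁) (a + 1)) _ _)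
    obtain ⟨m, rfl⟩ := θ.surjective z
    have h1 : (HnMap v a).hom (θ (f • m)) = 0 := by
      rw [map_smul, map_smul]
      exact hy
    obtain ⟨z', hz'⟩ := ((e2 a) _).1 h1
    obtain ⟨n₀, rfl⟩ : ∃ n₀ : N₀, (can.app N₁).inv.hom n₀ = z' :=
      ⟨(can.app N₁).hom.hom z', by
        show ((can.app N₁).hom ≫ (can.app N₁).inv).hom z' = z'
        rw [Iso.hom_inv_id]; rfl⟩
    rw [hu] at hz'
    have h2 : (n₀ : M₁) = f • m := θ.injective hz'
    have h3 : f • (Submodule.Quotient.mk m : M₁ ⧸ N₀) = 0 := by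
      rw [← Submodule.Quotient.mk_smul, Submodule.Quotient.mk_eq_zero, ← h2]
      exact n₀.2
    have h4 : (Submodule.Quotient.mk m : M₁ ⧸ N₀) = 0 := by
      apply hreg
      show f • (Submodule.Quotient.mk m : M₁ ⧸ N₀) = f • 0
      rw [h3, smul_zero]
    have h5 : m ∈ N₀ := (Submodule.Quotient.mk_eq_zero _).1 h4
    have h6 : θ m = (HnMap u a).hom ((can.app N₁).inv.hom ⟨m, h5⟩) := (hu ⟨m, h5⟩).symm
    rw [h6]
    exact (e2 a).apply_apply_eq_zero _

end Groth.Agent.Lib.helper23.HDT
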