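import Mathlib
import Groth.Prelude.Def_DualLC
import Groth.Agent.Lib.Helper23.HDT3
import Groth.Agent.Lib.Helper23.HDT4

/-!
# helper23: finiteness of `H^i_T(K)` for `i ≤ n` ⟺ annihilation by an ideal `J` with `V(J) ⊆ T`

`finite_iff_exists_kills` (S1764).
-/

set_option autoImplicit false
universe u
open CategoryTheory CategoryTheory.Limits Opposite Pretriangulated DerivedCategory

attribute [local instance] HasDerivedCategory.standard

namespace Groth.Agent.Lib.helper23.HDT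

open Groth.Agent.Lib.helper19.LCZero

variable {A : Type u} [CommRing A] {T : Set (PrimeSpectrum A)}

/-- `J` annihilates `M` -/
def Kills (J : Ideal A) (M : Type*) [AddCommGroup M] [Module A M] : Prop :=
  ∀ a ∈ J, ∀ y : M, a • y = 0

lemma Kills.of_surjective {J : Ideal A} {M M' : Type*} [AddCommGroup M] [Module A M]
    [AddCommGroup M'] [Module A M'] (g : M →ₗ[A] M') (hg : Function.Surjective g)
    (h : Kills J M) : Kills J M' := by
  intro a ha y
  obtain ⟨x, rfl⟩ := hg y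
  rw [← map_smul, h a ha x, map_zero]

lemma Kills.of_equiv {J : Ideal A} {M M' : Type*} [AddCommGroup M] [Module A M]
    [AddCommGroup M'] [Module A M'] (e : M ≃ₗ[A] M') (h : Kills J M) : Kills J M' :=
  Kills.of_surjective e.toLinearMap e.surjective h

lemma Kills.of_subsingleton {J : Ideal A} {M : Type*} [AddCommGroup M] [Module A M]
    [Subsingleton M] : Kills J M := fun _ _ _ => Subsingleton.elim _ _

lemma Kills.mono {J J' : Ideal A} (hJ : J' ≤ J) {M : Type*} [AddCommGroup M] [Module A M]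
    (h : Kills J M) : Kills J' M := fun a ha y => h a (hJ ha) y

/-- `(K⟦1⟧)⟦i⟧ ≅ K⟦j⟧` for `i + 1 = j` -/
noncomputable def shiftOneIso (K : Dual.D A) (i j : ℤ) (h : i + 1 = j) :
    (K⟦(1 : ℤ)⟧)⟦i⟧ ≅ K⟦j⟧ :=
  ((shiftFunctorAdd' (Dual.D A) 1 i j (by omega)).app K).symm

lemma G_shift_subsingleton_of_lt (K : Dual.D A) (a : ℤ) [K.IsGE a] (i : ℤ) (hi : i < a) :
    Subsingleton (G T (K⟦i⟧)) := by
  haveI : (K⟦i⟧).IsGE (a - i) :=
    (TStructure.t (C := ModuleCat.{u} A)).isGE_shift K a i (a - i) (by omega)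
  haveI : (K⟦i⟧).IsGE 1 := (TStructure.t (C := ModuleCat.{u} A)).isGE_of_ge _ 1 (a - i) (by omega)
  exact G_subsingleton_of_isGE _

section Single

variable [IsNoetherianRing A] (J₀ : Dual2.IdealsIn T) (N : ModuleCat.{u} A)
  (hN : IsTors J₀.obj N)

/-- `G T ((N[-a])⟦i⟧) ≃ G T (N[-b])` for `i + b = a` -/
noncomputable def GSingleShift (a i b : ℤ) (h : i + b = a) :
    G T (((singleFunctor (ModuleCat.{u} A) a).obj N)⟦i⟧) ≃ₗ[A]
      G T ((singleFunctor (ModuleCat.{u} A) b).obj N) :=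
  GmapIso (((singleFunctors (ModuleCat.{u} A)).shiftIso i b a h).app N)

include hN in
lemma G_shift_single_finite [Module.Finite A N] (a i : ℤ) :
    Module.Finite A (G T (((singleFunctor (ModuleCat.{u} A) a).obj N)⟦i⟧)) := by
  by_cases hb : a - i = 0
  · have h : i + 0 = a := by omega
    haveI : Module.Finite A (G T ((singleFunctor (ModuleCat.{u} A) 0).obj N)) :=
      G_single_finite T N
    exact Module.Finite.equiv (GSingleShift N a i 0 h).symm
  · haveI : Subsingleton (G T ((singleFunctor (ModuleCat.{u} A) (a - i)).obj N)) :=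
      G_single_subsingleton J₀ N hN (a - i) hb
    haveI : Subsingleton (G T (((singleFunctor (ModuleCat.{u} A) a).obj N)⟦i⟧)) :=
      (GSingleShift N a i (a - i) (by omega)).toEquiv.subsingleton
    infer_instance

include hN in
lemma G_shift_shift_single_subsingleton (a i : ℤ) (h : i + 1 ≠ a) :
    Subsingleton (G T ((((singleFunctor (ModuleCat.{u} A) a).obj N)⟦(1 : ℤ)⟧)⟦i⟧)) := by
  let e1 : ((singleFunctor (ModuleCat.{u} A) a).obj N)⟦(1 : ℤ)⟧ ≅
      (singleFunctor (ModuleCat.{u} A) (a - 1)).obj N :=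
    ((singleFunctors (ModuleCat.{u} A)).shiftIso 1 (a - 1) a (by omega)).app N
  let e2 : (((singleFunctor (ModuleCat.{u} A) a).obj N)⟦(1 : ℤ)⟧)⟦i⟧ ≅
      ((singleFunctor (ModuleCat.{u} A) (a - 1)).obj N)⟦i⟧ :=
    (shiftFunctor (Dual.D A) i).mapIso e1
  haveI : Subsingleton (G T ((singleFunctor (ModuleCat.{u} A) (a - 1 - i)).obj N)) :=
    G_single_subsingleton J₀ N hN (a - 1 - i) (by omega)
  haveI : Subsingleton (G T (((singleFunctor (ModuleCat.{u} A) (a - 1)).obj N)⟦i⟧)) :=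
    (GSingleShift N (a - 1) i (a - 1 - i) (by omega)).toEquiv.subsingleton
  exact (GmapIso (T := T) e2).toEquiv.subsingleton

end Single

section Main

variable [IsNoetherianRing A]

/-- the induction statement -/
def P (T : Set (PrimeSpectrum A)) (d : ℕ) : Prop :=
  ∀ (K : Dual.D A) (a n : ℤ) (J : Dual2.IdealsIn T), n - a < d → K.IsGE a →
    (∀ i, Module.Finite A (Hn K i)) → (∀ i ≤ n, Kills J.obj (G T (K⟦i⟧))) →
    ∀ i ≤ n, Module.Finite A (G T (K⟦i⟧))

omit [IsNoetherianRing A] in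
lemma P_zero : P T 0 := by
  intro K a n J hn hK _ _ i hi
  haveI := hK
  haveI : Subsingleton (G T (K⟦i⟧)) := G_shift_subsingleton_of_lt K a i (by omega)
  infer_instance

theorem stepB (d : ℕ) (hd : P T d) (K : Dual.D A) (a n : ℤ) (J : Dual2.IdealsIn T)
    (hn : n - a < d + 1) [K.IsGE a] (hfin : ∀ i, Module.Finite A (Hn K i))
    (hk : ∀ i ≤ n, Kills J.obj (G T (K⟦i⟧))) (f : A) (hfJ : f ∈ J.obj)
    (hf : ∀ y : Hn K a, f • y = 0 → y = 0) :
    ∀ i ≤ n, Module.Finite A (G T (K⟦i⟧)) := by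
  obtain ⟨C, p, q, hT⟩ := distinguished_cocone_triangle (f • 𝟙 K)
  obtain ⟨hCge, hCfin⟩ := cone_smul_isGE_and_finite K a hfin f hf C p q hT
  have hk1 : ∀ i : ℤ, i + 1 ≤ n → Kills J.obj (G T ((K⟦(1 : ℤ)⟧)⟦i⟧)) := fun i hi =>
    Kills.of_equiv (GmapIso (T := T) (shiftOneIso K i (i + 1) rfl)).symm (hk (i + 1) hi)
  have hkC : ∀ i ≤ n - 1, Kills (mulI J J).obj (G T (C⟦i⟧)) := by
    intro i hi r hr x
    have hr' : r ∈ J.obj * J.obj := hr
    refine Submodule.mul_induction_on hr' (fun a' ha' b hb => ?_) (fun r s hr hs => ?_)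
    · have h1 : Gmap (T := T) (q⟦i⟧') (b • x) = 0 := by
        rw [map_smul]
        exact hk1 i (by omega) b hb _
      obtain ⟨z, hz⟩ := ((G_exact₃ (T := T) (Triangle.mk (f • 𝟙 K) p q) hT i) (b • x)).1 h1
      have h2 : (a' * b) • x = a' • (b • x) := mul_smul a' b x
      have hz' : Gmap (T := T) (p⟦i⟧') z = b • x := hz
      rw [h2, ← hz', ← map_smul, hk i (by omega) a' ha' z, map_zero]
    · rw [add_smul, hr, hs, add_zero]
  have hCf := hd C a (n - 1) (mulI J J) (by omega) hCge hCfin hkC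
  intro i hi
  have hsurj : Function.Surjective (Gmap (T := T) (q⟦i - 1⟧')) := by
    intro y
    have h0 : Gmap (T := T) (((f • 𝟙 K)⟦(1 : ℤ)⟧')⟦i - 1⟧') y = 0 := by
      have : ((f • 𝟙 K)⟦(1 : ℤ)⟧')⟦i - 1⟧' = f • 𝟙 ((K⟦(1 : ℤ)⟧)⟦i - 1⟧) := by
        rw [Functor.map_smul, CategoryTheory.Functor.map_id, Functor.map_smul,
          CategoryTheory.Functor.map_id]
      rw [this, Gmap_smul, Gmap_id]
      exact hk1 (i - 1) (by omega) f hfJ y
    exact ((G_exact₁ (T := T) (Triangle.mk (f • 𝟙 K) p q) hT (i - 1)) y).1 h0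
  haveI := hCf (i - 1) (by omega)
  haveI : Module.Finite A (G T ((K⟦(1 : ℤ)⟧)⟦i - 1⟧)) := Module.Finite.of_surjective _ hsurj
  exact Module.Finite.equiv (GmapIso (T := T) (shiftOneIso K (i - 1) i (by omega)))

theorem stepA (d : ℕ) (hd : P T d) : P T (d + 1) := by
  intro K a n J hn hK hfin hk
  haveI := hK
  obtain ⟨N₁, hN₁fin, hN₁t, K'', u, v, w, hT, hK''ge, hK''fin, f, hfJ, hf⟩ :=
    cone_torsion K a hfin J.obj
  haveI := hK''ge
  haveI := hN₁fin
  have hsurj : ∀ i : ℤ, Function.Surjective (Gmap (T := T) (v⟦i⟧')) := by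
    intro i y
    by_cases hi : i + 1 = a
    · haveI : Subsingleton (G T (K''⟦i⟧)) := G_shift_subsingleton_of_lt K'' a i (by omega)
      exact ⟨0, Subsingleton.elim _ _⟩
    · haveI := G_shift_shift_single_subsingleton (T := T) J N₁ hN₁t a i hi
      exact ((G_exact₃ (T := T) (Triangle.mk u v w) hT i) y).1 (Subsingleton.elim
        (α := G T ((((singleFunctor (ModuleCat.{u} A) a).obj N₁)⟦(1 : ℤ)⟧)⟦i⟧)) _ _)
  have hk'' : ∀ i ≤ n, Kills J.obj (G T (K''⟦i⟧)) := fun i hi =>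
    Kills.of_surjective (Gmap (T := T) (v⟦i⟧')) (hsurj i) (hk i hi)
  have hfin'' := stepB d hd K'' a n J hn hK''fin hk'' f hfJ hf
  intro i hi
  haveI := hfin'' i hi
  haveI : Module.Finite A (G T (((singleFunctor (ModuleCat.{u} A) a).obj N₁)⟦i⟧)) :=
    G_shift_single_finite J N₁ hN₁t a i
  exact finite_of_exact (X := G T (((singleFunctor (ModuleCat.{u} A) a).obj N₁)⟦i⟧))
    (Z := G T (K''⟦i⟧)) (Gmap (T := T) (u⟦i⟧')) (Gmap (T := T) (v⟦i⟧'))
    (G_exact₂ (T := T) (Triangle.mk u v w) hT i)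

theorem P_all (d : ℕ) : P T d := by
  induction d with
  | zero => exact P_zero
  | succ d ih => exact stepA d ih

/-- **annihilated ⇒ finite** -/
theorem finite_of_kills (K : Dual.D A) (a n : ℤ) [K.IsGE a]
    (hfin : ∀ i, Module.Finite A (Hn K i)) (J : Dual2.IdealsIn T)
    (hk : ∀ i ≤ n, Kills J.obj (G T (K⟦i⟧))) : ∀ i ≤ n, Module.Finite A (G T (K⟦i⟧)) :=
  P_all (T := T) ((n - a).toNat + 1) K a n J (by
    have := Int.self_le_toNat (n - a)
    push_cast
    omega) inferInstance hfin hk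

end Main

section Converse

lemma exists_kills_finset (X : Dual.D A) (S : Finset (G T X)) :
    ∃ J : Dual2.IdealsIn T, ∀ s ∈ S, ∀ a ∈ J.obj, a • s = 0 := by
  classical
  induction S using Finset.induction_on with
  | empty => exact ⟨mkI T ⊤ (by simp), fun s hs => absurd hs (Finset.notMem_empty s)⟩
  | insert s S _ ih =>
    obtain ⟨J, hJ⟩ := ih
    obtain ⟨J', φ, rfl⟩ := ι_surj s
    refine ⟨mulI J J', fun t ht a ha => ?_⟩
    rcases Finset.mem_insert.1 ht with rfl | ht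
    · exact smul_ι J' a (mulI_le_right J J' ha) φ
    · exact hJ t ht a (mulI_le_left J J' ha)

lemma exists_kills_of_finite (X : Dual.D A) [Module.Finite A (G T X)] :
    ∃ J : Dual2.IdealsIn T, Kills J.obj (G T X) := by
  obtain ⟨S, hS⟩ := (Module.Finite.fg_top : (⊤ : Submodule A (G T X)).FG)
  obtain ⟨J, hJ⟩ := exists_kills_finset X S
  refine ⟨J, fun a ha y => ?_⟩
  have hy : y ∈ Submodule.span A (S : Set (G T X)) := by rw [hS]; trivial
  induction hy using Submodule.span_induction with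
  | mem x hx => exact hJ x hx a ha
  | zero => exact smul_zero a
  | add x y _ _ hx hy => rw [smul_add, hx, hy, add_zero]
  | smul r x _ hx => rw [smul_comm, hx, smul_zero]

lemma exists_kills_family (K : Dual.D A) (S : Finset ℤ)
    (h : ∀ i ∈ S, Module.Finite A (G T (K⟦i⟧))) :
    ∃ J : Dual2.IdealsIn T, ∀ i ∈ S, Kills J.obj (G T (K⟦i⟧)) := by
  classical
  induction S using Finset.induction_on with
  | empty => exact ⟨mkI T ⊤ (by simp), fun i hi => absurd hi (Finset.notMem_empty i)⟩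
  | insert i S _ ih =>
    obtain ⟨J, hJ⟩ := ih (fun j hj => h j (Finset.mem_insert_of_mem hj))
    haveI := h i (Finset.mem_insert_self i S)
    obtain ⟨J', hJ'⟩ := exists_kills_of_finite (T := T) (K⟦i⟧)
    refine ⟨mulI J J', fun j hj => ?_⟩
    rcases Finset.mem_insert.1 hj with rfl | hj
    · exact hJ'.mono (mulI_le_right J J')
    · exact (hJ j hj).mono (mulI_le_left J J')

/-- **finite ⇒ annihilated** -/
theorem exists_kills_of_finite_le (K : Dual.D A) (a n : ℤ) [K.IsGE a]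
    (h : ∀ i ≤ n, Module.Finite A (G T (K⟦i⟧))) :
    ∃ J : Dual2.IdealsIn T, ∀ i ≤ n, Kills J.obj (G T (K⟦i⟧)) := by
  obtain ⟨J, hJ⟩ := exists_kills_family (T := T) K (Finset.Icc a n)
    (fun i hi => h i (Finset.mem_Icc.1 hi).2)
  refine ⟨J, fun i hi => ?_⟩
  by_cases hia : a ≤ i
  · exact hJ i (Finset.mem_Icc.2 ⟨hia, hi⟩)
  · haveI : Subsingleton (G T (K⟦i⟧)) := G_shift_subsingleton_of_lt K a i (by omega)
    exact Kills.of_subsingleton

end Converse

/-- **S1764** -/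
theorem finite_iff_exists_kills [IsNoetherianRing A] (T : Set (PrimeSpectrum A)) (K : Dual.D A)
    (a : ℤ) (hKa : ∀ i : ℤ, i < a → Subsingleton (Dual.HD A K i))
    (hK : ∀ i : ℤ, Module.Finite A (Dual.HD A K i)) (n : ℤ) :
    (∀ i : ℤ, i ≤ n → Module.Finite A (Dual2.HDT A T K i)) ↔
      ∃ J : Ideal A, PrimeSpectrum.zeroLocus (J : Set A) ⊆ T ∧
        ∀ i : ℤ, i ≤ n → ∀ x : A, x ∈ J → ∀ y : Dual2.HDT A T K i, x • y = 0 := by
  haveI : K.IsGE a := by
    rw [isGE_iff]
    intro i hi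
    haveI := hKa i hi
    exact ModuleCat.isZero_of_subsingleton _
  constructor
  · intro h
    obtain ⟨J, hJ⟩ := exists_kills_of_finite_le (T := T) K a n h
    exact ⟨J.obj, J.property, fun i hi x hx y => hJ i hi x hx y⟩
  · rintro ⟨J, hJT, hJ⟩
    exact finite_of_kills K a n hK (mkI T J hJT) (fun i hi x hx y => hJ i hi x hx y)

end Groth.Agent.Lib.helper23.HDT
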