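import Mathlib
import Groth.Prelude.Def_DualLC
import Groth.Agent.Lib.Helper23.HDT5
import Groth.Agent.Lib.Helper19.LCBridge

/-!
# helper23: `Dual2.HT T i M ≃ₗ G T (M[0]⟦i⟧)` and the module form of the finiteness theorem (S1751)
-/

set_option autoImplicit false
universe u
open CategoryTheory CategoryTheory.Limits Opposite Pretriangulated DerivedCategory

attribute [local instance] HasDerivedCategory.standard

namespace Groth.Agent.Lib.helper23.HDT

open Groth.Agent.Lib.helper19.LCBridge

variable {A : Type u} [CommRing A] (T : Set (PrimeSpectrum A)) (i : ℕ)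
  (M : Type u) [AddCommGroup M] [Module A M]

/-- the functor-valued diagram defining `HT` -/
noncomputable abbrev DT : (Dual2.IdealsIn T)ᵒᵖ ⥤ ModuleCat.{u} A ⥤ ModuleCat.{u} A :=
  localCohomology.diagram (Dual2.idealsInDiagram T) i

/-- the diagram of modules whose colimit is `HT T i M` -/
noncomputable abbrev DTM : (Dual2.IdealsIn T)ᵒᵖ ⥤ ModuleCat.{u} A :=
  DT T i ⋙ (evaluation _ _).obj (ModuleCat.of A M)

noncomputable instance presFiltT' :
    PreservesColimitsOfShape (Dual2.IdealsIn T)ᵒᵖ (forget (ModuleCat.{u} A)) :=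
  PreservesFilteredColimitsOfSize.preserves_filtered_colimits _

/-- the stage equivalence -/
noncomputable def stageEq (J : Dual2.IdealsIn T) :
    (DTM T i M).obj (op J) ≃ₗ[A] (qD J.obj ⟶ (Dual.inD A M)⟦(i : ℤ)⟧) :=
  oldExtEquiv (R := A) (ModuleCat.of A (A ⧸ J.obj)) (ModuleCat.of A M) i ≪≫ₗ
    Abelian.Ext.homLinearEquiv

lemma stageEq_naturality {J' J : Dual2.IdealsIn T} (f : J' ⟶ J) (y : (DTM T i M).obj (op J)) :
    stageEq T i M J' ((DTM T i M).map f.op y) = qMap (le_of_hom' f) ≫ stageEq T i M J y := by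
  have h1 := oldExtEquiv_naturality_X (R := A)
    ((localCohomology.ringModIdeals (Dual2.idealsInDiagram T)).map f) (ModuleCat.of A M) i y
  show Abelian.Ext.hom (oldExtEquiv (R := A) (ModuleCat.of A (A ⧸ J'.obj)) (ModuleCat.of A M) i
    ((DTM T i M).map f.op y)) = _
  have h2 : (DTM T i M).map f.op y =
      ((Ext A (ModuleCat.{u} A) i).map
        ((localCohomology.ringModIdeals (Dual2.idealsInDiagram T)).map f).op).app
          (ModuleCat.of A M) y := rfl
  rw [h2]
  erw [h1]
  refine (Abelian.Ext.comp_hom _ _ _).trans ?_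
  erw [Abelian.Ext.mk₀_hom, ShiftedHom.mk₀_comp]
  rfl

/-- the comparison cocone -/
noncomputable def cmpCocone : Cocone (diag T ((Dual.inD A M)⟦(i : ℤ)⟧)) where
  pt := ModuleCat.of A (ULift.{u + 1} (colimit (DTM T i M) : ModuleCat.{u} A))
  ι :=
    { app := fun J => ModuleCat.ofHom
        (ULift.moduleEquiv.symm.toLinearMap.comp
          ((colimit.ι (DTM T i M) J).hom.comp (stageEq T i M J.unop).symm.toLinearMap))
      naturality := by
        intro J J' f
        refine ModuleCat.hom_ext (LinearMap.ext fun φ => ?_)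
        show ULift.up (colimit.ι (DTM T i M) J' ((stageEq T i M J'.unop).symm
            (qMap (le_of_hom' f.unop) ≫ φ))) =
          ULift.up (colimit.ι (DTM T i M) J ((stageEq T i M J.unop).symm φ))
        congr 1
        have h1 : (stageEq T i M J'.unop).symm (qMap (le_of_hom' f.unop) ≫ φ) =
            (DTM T i M).map f ((stageEq T i M J.unop).symm φ) := by
          rw [LinearEquiv.symm_apply_eq]
          have := stageEq_naturality T i M f.unop ((stageEq T i M J.unop).symm φ)
          rw [LinearEquiv.apply_symm_apply] at this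
          exact this.symm
        rw [h1]
        have h2 := colimit.w (DTM T i M) f
        exact congrArg (fun m => m.hom ((stageEq T i M J.unop).symm φ)) h2 }

/-- the comparison map `G T (M[0]⟦i⟧) → colim_J Ext^i(A/J, M)` -/
noncomputable def cmp : G T ((Dual.inD A M)⟦(i : ℤ)⟧) →ₗ[A]
    ULift.{u + 1} (colimit (DTM T i M) : ModuleCat.{u} A) :=
  (colimit.desc (diag T ((Dual.inD A M)⟦(i : ℤ)⟧)) (cmpCocone T i M)).hom

lemma cmp_ι (J : Dual2.IdealsIn T) (φ : qD J.obj ⟶ (Dual.inD A M)⟦(i : ℤ)⟧) :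
    cmp T i M (ι J φ) = ULift.up (colimit.ι (DTM T i M) (op J) ((stageEq T i M J).symm φ)) := by
  have h := colimit.ι_desc (cmpCocone T i M) (op J)
  have h2 := congrArg (fun m => m.hom φ) h
  exact h2

lemma cmp_bijective : Function.Bijective (cmp T i M) := by
  constructor
  · rw [← LinearMap.ker_eq_bot, LinearMap.ker_eq_bot']
    intro x hx
    obtain ⟨J, φ, rfl⟩ := ι_surj x
    rw [cmp_ι] at hx
    have h0 : colimit.ι (DTM T i M) (op J) ((stageEq T i M J).symm φ) =
        colimit.ι (DTM T i M) (op J) 0 := by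
      rw [map_zero]
      exact congrArg ULift.down hx
    obtain ⟨k, f, g, hfg⟩ := Concrete.colimit_exists_of_rep_eq _ _ _ h0
    have hg0 : ((DTM T i M).map g) (0 : (DTM T i M).obj (op J)) = 0 := map_zero _
    rw [hg0] at hfg
    have h1 := stageEq_naturality T i M f.unop ((stageEq T i M J).symm φ)
    rw [LinearEquiv.apply_symm_apply] at h1
    have h2 : (DTM T i M).map f.unop.op ((stageEq T i M J).symm φ) = 0 := hfg
    rw [h2, map_zero] at h1
    rw [ι_eq_zero_iff]
    exact ⟨k.unop, le_of_hom' f.unop, h1.symm⟩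
  · rintro ⟨z⟩
    obtain ⟨J, y, rfl⟩ := Concrete.colimit_exists_rep (DTM T i M) z
    refine ⟨ι J.unop (stageEq T i M J.unop y), ?_⟩
    rw [cmp_ι, LinearEquiv.symm_apply_apply]

/-- **`HT T i M ≃ₗ G T (M[0]⟦i⟧)`** -/
noncomputable def HTEquiv : Dual2.HT T i M ≃ₗ[A] G T ((Dual.inD A M)⟦(i : ℤ)⟧) :=
  (colimitObjIsoColimitCompEvaluation (DT T i) (ModuleCat.of A M)).toLinearEquiv ≪≫ₗ
    ULift.moduleEquiv.symm ≪≫ₗ (LinearEquiv.ofBijective (cmp T i M) (cmp_bijective T i M)).symm

/-- **S1751** -/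
theorem finite_iff_exists_kills_module [IsNoetherianRing A] [Module.Finite A M] (n : ℕ) :
    (∀ i : ℕ, i ≤ n → Module.Finite A (Dual2.HT T i M)) ↔
      ∃ J : Ideal A, PrimeSpectrum.zeroLocus (J : Set A) ⊆ T ∧
        ∀ i : ℕ, i ≤ n → ∀ a ∈ J, ∀ x : Dual2.HT T i M, a • x = 0 := by
  let K : Dual.D A := Dual.inD A M
  have hfin : ∀ j, Module.Finite A (Hn K j) := fun j => by
    haveI : Module.Finite A (ModuleCat.of A M) := inferInstanceAs (Module.Finite A M)
    exact finite_Hn_single' (ModuleCat.of A M) 0 j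
  have hneg : ∀ j : ℤ, j < 0 → Subsingleton (G T (K⟦j⟧)) := fun j hj =>
    G_shift_subsingleton_of_lt K 0 j hj
  constructor
  · intro h
    have h' : ∀ j : ℤ, j ≤ (n : ℤ) → Module.Finite A (G T (K⟦j⟧)) := by
      intro j hj
      by_cases hj0 : j < 0
      · haveI := hneg j hj0
        infer_instance
      · obtain ⟨k, rfl⟩ : ∃ k : ℕ, j = (k : ℤ) := ⟨j.toNat, by omega⟩
        haveI := h k (by omega)
        exact Module.Finite.equiv (HTEquiv T k M)
    obtain ⟨J, hJ⟩ := exists_kills_of_finite_le (T := T) K 0 (n : ℤ) h'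
    refine ⟨J.obj, J.property, fun k hk a ha x => ?_⟩
    apply (HTEquiv T k M).injective
    rw [map_smul, map_zero]
    exact hJ (k : ℤ) (by omega) a ha _
  · rintro ⟨J, hJT, hJ⟩
    have hk : ∀ j : ℤ, j ≤ (n : ℤ) → Kills (mkI T J hJT).obj (G T (K⟦j⟧)) := by
      intro j hj
      by_cases hj0 : j < 0
      · haveI := hneg j hj0
        exact Kills.of_subsingleton
      · obtain ⟨k, rfl⟩ : ∃ k : ℕ, j = (k : ℤ) := ⟨j.toNat, by omega⟩
        exact Kills.of_equiv (HTEquiv T k M) (fun a ha x => hJ k (by omega) a ha x)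
    have hf := finite_of_kills K 0 (n : ℤ) hfin (mkI T J hJT) hk
    intro k hk'
    haveI := hf (k : ℤ) (by omega)
    exact Module.Finite.equiv (HTEquiv T k M).symm

end Groth.Agent.Lib.helper23.HDT
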