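import Mathlib
import Groth.Prelude.Def_DualLC
import Groth.Agent.Lib.Helper23.HDT6

/-!
# helper23: Faltings' annihilator theorem, part 1 — annihilated families

`KillsLE T J K s`: the ideal `J` kills `H^i_T(K) = G T (K⟦i⟧)` for all `i ≤ s`;
`SmallLE T T' K s`: some ideal `J` with `V(J) ⊆ T'` does.  Stability under isomorphisms and
extensions (distinguished triangles), vanishing range, objects killed by an ideal.
-/

set_option autoImplicit false
universe u
open CategoryTheory CategoryTheory.Limits Opposite Pretriangulated DerivedCategory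

attribute [local instance] HasDerivedCategory.standard

namespace Groth.Agent.Lib.helper23.Falt

open Groth.Agent.Lib.helper23.HDT

variable {A : Type u} [CommRing A] (T T' : Set (PrimeSpectrum A))

/-- `J` kills `H^i_T(K)` for all `i ≤ s`. -/
def KillsLE (J : Ideal A) (K : Dual.D A) (s : ℤ) : Prop :=
  ∀ i : ℤ, i ≤ s → Kills J (G T (K⟦i⟧))

/-- some ideal `J` with `V(J) ⊆ T'` kills `H^i_T(K)` for all `i ≤ s`. -/
def SmallLE (K : Dual.D A) (s : ℤ) : Prop :=
  ∃ J : Ideal A, PrimeSpectrum.zeroLocus (J : Set A) ⊆ T' ∧ KillsLE T J K s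

variable {T T'}

lemma KillsLE.of_iso {J : Ideal A} {K K' : Dual.D A} {s : ℤ} (e : K ≅ K') (h : KillsLE T J K s) :
    KillsLE T J K' s := fun i hi =>
  Kills.of_equiv (GmapIso (T := T) ((shiftFunctor (Dual.D A) i).mapIso e)) (h i hi)

lemma SmallLE.of_iso {K K' : Dual.D A} {s : ℤ} (e : K ≅ K') (h : SmallLE T T' K s) :
    SmallLE T T' K' s := by
  obtain ⟨J, hJ, hk⟩ := h
  exact ⟨J, hJ, hk.of_iso e⟩

lemma SmallLE.mono {K : Dual.D A} {s s' : ℤ} (hs : s' ≤ s) (h : SmallLE T T' K s) :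
    SmallLE T T' K s' := by
  obtain ⟨J, hJ, hk⟩ := h
  exact ⟨J, hJ, fun i hi => hk i (hi.trans hs)⟩

/-- extensions -/
lemma SmallLE.of_triangle (Tr : Triangle (Dual.D A)) (hTr : Tr ∈ distTriang (Dual.D A)) (s : ℤ)
    (h₁ : SmallLE T T' Tr.obj₁ s) (h₃ : SmallLE T T' Tr.obj₃ s) : SmallLE T T' Tr.obj₂ s := by
  obtain ⟨J₁, hJ₁, hk₁⟩ := h₁
  obtain ⟨J₃, hJ₃, hk₃⟩ := h₃
  refine ⟨J₃ * J₁, ?_, fun i hi => ?_⟩
  · rw [PrimeSpectrum.zeroLocus_mul]
    exact Set.union_subset hJ₃ hJ₁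
  · have hex := G_exact₂ (T := T) Tr hTr i
    have key : ∀ a ∈ J₃, ∀ b ∈ J₁, ∀ y : G T (Tr.obj₂⟦i⟧), (a * b) • y = 0 := by
      intro a ha b hb y
      have h1 : Gmap (T := T) (Tr.mor₂⟦i⟧') (a • y) = 0 := by
        rw [map_smul]
        exact hk₃ i hi a ha _
      obtain ⟨x, hx⟩ := (hex (a • y)).1 h1
      have h2 : b • x = 0 := hk₁ i hi b hb x
      have h3 : b • (a • y) = 0 := by rw [← hx, ← map_smul, h2, map_zero]
      rw [mul_comm, mul_smul]
      exact h3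
    intro c hc y
    refine Submodule.mul_induction_on hc (fun a ha b hb => key a ha b hb y) (fun u v hu hv => ?_)
    rw [add_smul, hu, hv, add_zero]

/-- vanishing range -/
lemma SmallLE.of_isGE (K : Dual.D A) (a : ℤ) [K.IsGE a] (s : ℤ) (hs : s < a) :
    SmallLE T T' K s := by
  refine ⟨⊤, by simp, fun i hi => ?_⟩
  haveI := G_shift_subsingleton_of_lt (T := T) K a i (by omega)
  exact Kills.of_subsingleton

/-- an object killed by `J` -/
lemma SmallLE.of_smul_id (K : Dual.D A) (J : Ideal A)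
    (hJ : PrimeSpectrum.zeroLocus (J : Set A) ⊆ T') (h : ∀ a ∈ J, a • 𝟙 K = 0) (s : ℤ) :
    SmallLE T T' K s := by
  refine ⟨J, hJ, fun i _ a ha y => ?_⟩
  have h1 : a • 𝟙 (K⟦i⟧) = 0 := by
    have : a • 𝟙 (K⟦i⟧) = (a • 𝟙 K)⟦i⟧' := by
      rw [Functor.map_smul, CategoryTheory.Functor.map_id]
    rw [this, h a ha, Functor.map_zero]
  have h2 : a • y = Gmap (T := T) (a • 𝟙 (K⟦i⟧)) y := by
    rw [Gmap_smul, Gmap_id]
    rfl
  rw [h2, h1, Gmap_zero]
  rfl

/-- zero objects -/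
lemma SmallLE.of_isZero (K : Dual.D A) (hK : IsZero K) (s : ℤ) : SmallLE T T' K s :=
  SmallLE.of_smul_id K ⊤ (by simp) (fun a _ => hK.eq_of_src _ _) s

/-- shifting -/
lemma SmallLE.shift (K : Dual.D A) (b s s' : ℤ) (hs : s' + b = s) (h : SmallLE T T' K s) :
    SmallLE T T' (K⟦b⟧) s' := by
  obtain ⟨J, hJ, hk⟩ := h
  refine ⟨J, hJ, fun i hi => ?_⟩
  exact Kills.of_equiv (GmapIso (T := T)
    ((shiftFunctorAdd' (Dual.D A) b i (b + i) rfl).app K)) (hk (b + i) (by omega))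

end Groth.Agent.Lib.helper23.Falt
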