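import Mathlib
import Groth.Prelude.Def_DRing4
import Groth.Prelude.Def_DualLC
import Groth.Agent.Lib.Helper23.CxBid13
import Groth.Agent.Lib.Helper23.Falt1

/-!
# helper23: Faltings' annihilator theorem, part 2 — the duality functor on complexes

`Dq I L = Q (Hom•(L, I))` with its contravariant functoriality `DqMap`, linearity, and the
distinguished triangle attached to a short exact sequence of complexes.
-/

set_option autoImplicit false
universe u
open CategoryTheory CategoryTheory.Limits Opposite Pretriangulated DerivedCategory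
open CochainComplex.HomComplex

attribute [local instance] HasDerivedCategory.standard

namespace Groth.Agent.Lib.helper23.Falt

open Groth.Agent.Lib.helper23.HDT Groth.Agent.Lib.helper23.RHomCx Groth.Agent.Lib.helper23.CxBid

variable {A : Type u} [CommRing A] (I : DRing.Cx A)

/-- the dual `Q (Hom•(L, I))` of a complex -/
noncomputable abbrev Dq (L : DRing.Cx A) : Dual.D A := Q.obj (DRing.homCx L I)

/-- contravariant functoriality -/
noncomputable def DqMap {L L' : DRing.Cx A} (f : L ⟶ L') : Dq I L' ⟶ Dq I L :=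
  Q.map (homCxMapLeft f I)

lemma DqMap_id (L : DRing.Cx A) : DqMap I (𝟙 L) = 𝟙 _ := by
  unfold DqMap
  rw [homCxMapLeft_id, CategoryTheory.Functor.map_id]

lemma DqMap_comp {L L' L'' : DRing.Cx A} (f : L ⟶ L') (g : L' ⟶ L'') :
    DqMap I (f ≫ g) = DqMap I g ≫ DqMap I f := by
  unfold DqMap
  rw [homCxMapLeft_comp, Functor.map_comp]

lemma homCxMapLeft_smul {L L' : DRing.Cx A} (a : A) (f : L ⟶ L') :
    homCxMapLeft (a • f) I = a • homCxMapLeft f I := by
  refine HomologicalComplex.hom_ext _ _ fun i => ModuleCat.hom_ext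
    (LinearMap.ext fun (z : Cochain L' I i) => ?_)
  show (Cochain.ofHom (a • f)).comp z (zero_add i) = a • (Cochain.ofHom f).comp z (zero_add i)
  rw [← Cochain.smul_comp]
  congr 1
  refine Cochain.ext _ _ (fun p q hpq => ?_)
  obtain rfl : p = q := by omega
  rw [Cochain.smul_v, Cochain.ofHom_v, Cochain.ofHom_v]
  rfl

lemma DqMap_smul {L L' : DRing.Cx A} (a : A) (f : L ⟶ L') :
    DqMap I (a • f) = a • DqMap I f := by
  unfold DqMap
  rw [homCxMapLeft_smul, Functor.map_smul]

lemma DqMap_zero (L L' : DRing.Cx A) : DqMap I (0 : L ⟶ L') = 0 := by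
  unfold DqMap
  rw [homCxMapLeft_zero, Functor.map_zero]

/-- an element killing `L` kills its dual -/
lemma smul_id_Dq (a : A) (L : DRing.Cx A) (h : a • 𝟙 L = 0) : a • 𝟙 (Dq I L) = 0 := by
  rw [← DqMap_id, ← DqMap_smul, h, DqMap_zero]

/-- the dual of an isomorphism -/
noncomputable def DqIso {L L' : DRing.Cx A} (e : L ≅ L') : Dq I L' ≅ Dq I L where
  hom := DqMap I e.hom
  inv := DqMap I e.inv
  hom_inv_id := by rw [← DqMap_comp, e.inv_hom_id, DqMap_id]
  inv_hom_id := by rw [← DqMap_comp, e.hom_inv_id, DqMap_id]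

/-- the distinguished triangle of duals attached to a short exact sequence of complexes -/
lemma Dq_distinguished [∀ j, Injective (I.X j)] (S : ShortComplex (DRing.Cx A))
    (hS : S.ShortExact) :
    ∃ δ : Dq I S.X₁ ⟶ (Dq I S.X₃)⟦(1 : ℤ)⟧,
      Triangle.mk (DqMap I S.g) (DqMap I S.f) δ ∈ distTriang (Dual.D A) :=
  ⟨_, triangleOfSES_distinguished (DS_shortExact I S hS)⟩

/-- extension closure for annihilated families, on duals -/
lemma SmallLE.of_ses [∀ j, Injective (I.X j)] {T T' : Set (PrimeSpectrum A)}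
    (S : ShortComplex (DRing.Cx A)) (hS : S.ShortExact) (s : ℤ)
    (h₁ : SmallLE T T' (Dq I S.X₁) s) (h₃ : SmallLE T T' (Dq I S.X₃) s) :
    SmallLE T T' (Dq I S.X₂) s := by
  obtain ⟨δ, hδ⟩ := Dq_distinguished I S hS
  exact SmallLE.of_triangle _ hδ s h₃ h₁

end Groth.Agent.Lib.helper23.Falt
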