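import Mathlib
import Groth.Prelude.Def_DRing4
import Groth.Prelude.Def_DualLC
import Groth.Agent.Lib.Helper23.DimFn30
import Groth.Agent.Lib.Helper23.Falt2

/-!
# helper23: Faltings' annihilator theorem, part 3 — duals of modules and vanishing of `Hom`

`DM I E = Q (Hom_A(E, I))` for a module `E` (the functor `DualD.DD I`): linearity, triangles,
`DM I A ≅ Q I`; and the behaviour of `VZ K i M` (`Hom(M[0], K[i]) = 0`) in the variable `K` along
distinguished triangles.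
-/

set_option autoImplicit false
universe u
open CategoryTheory CategoryTheory.Limits Opposite Pretriangulated DerivedCategory

attribute [local instance] HasDerivedCategory.standard

namespace Groth.Agent.Lib.helper23.Falt

open Groth.Agent.Lib.helper23.HDT Groth.Agent.Lib.helper23.DimFn Groth.Agent.Lib.helper23.BassD
  Groth.Agent.Lib.helper23.DualD

variable {A : Type u} [CommRing A]

section VZ

variable {K K' : Dual.D A} {i : ℤ} {M : ModuleCat.{u} A}

lemma VZ.of_iso_right (e : K ≅ K') (h : VZ K i M) : VZ K' i M := by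
  intro φ
  have h1 := h (φ ≫ (shiftFunctor (Dual.D A) i).map e.inv)
  have h2 : φ = (φ ≫ (shiftFunctor (Dual.D A) i).map e.inv) ≫
      (shiftFunctor (Dual.D A) i).map e.hom := by
    rw [Category.assoc, ← Functor.map_comp, e.inv_hom_id, CategoryTheory.Functor.map_id,
      Category.comp_id]
  rw [h2, h1, zero_comp]

lemma VZ.of_isGE (K : Dual.D A) (a : ℤ) [K.IsGE a] (i : ℤ) (hi : i < a) (M : ModuleCat.{u} A) :
    VZ K i M := by
  intro φ
  haveI : (K⟦i⟧).IsGE (a - i) :=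
    (TStructure.t (C := ModuleCat.{u} A)).isGE_shift K a i (a - i) (by omega)
  haveI : (sg M).IsLE 0 := by
    dsimp only [sg]
    infer_instance
  exact (TStructure.t (C := ModuleCat.{u} A)).zero φ 0 (a - i) (by omega)

lemma VZ.of_isZero_right (hK : IsZero K) : VZ K i M := by
  intro φ
  exact ((shiftFunctor (Dual.D A) i).map_isZero hK).eq_of_tgt _ _

variable (Tr : Triangle (Dual.D A)) (hTr : Tr ∈ distTriang (Dual.D A))
include hTr

lemma VZ.of_triangle₂ (i : ℤ) (M : ModuleCat.{u} A) (h₁ : VZ Tr.obj₁ i M) (h₃ : VZ Tr.obj₃ i M) :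
    VZ Tr.obj₂ i M := by
  intro φ
  obtain ⟨ψ, hψ⟩ := exact₂_shift Tr hTr i φ (h₃ _)
  rw [← hψ, h₁ ψ, zero_comp]

lemma VZ.of_triangle₁ (i j : ℤ) (hij : j + 1 = i) (M : ModuleCat.{u} A) (h₃ : VZ Tr.obj₃ j M)
    (h₂ : VZ Tr.obj₂ i M) : VZ Tr.obj₁ i M := by
  intro φ
  let ι := shiftFunctorAdd' (Dual.D A) 1 j i (by omega)
  have hnat : (ι.hom.app Tr.obj₁) ≫ (Tr.mor₁⟦(1 : ℤ)⟧')⟦j⟧' =
      Tr.mor₁⟦i⟧' ≫ ι.hom.app Tr.obj₂ := (ι.hom.naturality Tr.mor₁).symm
  have h0 : (φ ≫ ι.hom.app Tr.obj₁) ≫ (Tr.mor₁⟦(1 : ℤ)⟧')⟦j⟧' = 0 := by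
    rw [Category.assoc, hnat, ← Category.assoc, h₂ (φ ≫ Tr.mor₁⟦i⟧'), zero_comp]
  obtain ⟨ψ, hψ⟩ := exact₁_shift Tr hTr j (φ ≫ ι.hom.app Tr.obj₁) h0
  have h1 : φ ≫ ι.hom.app Tr.obj₁ = 0 := by rw [← hψ, h₃ ψ, zero_comp]
  have h2 : φ = (φ ≫ ι.hom.app Tr.obj₁) ≫ ι.inv.app Tr.obj₁ := by
    rw [Category.assoc, Iso.hom_inv_id_app, Category.comp_id]
  rw [h2, h1, zero_comp]

end VZ

section DM

variable (I : DRing.Cx A)

/-- the dual of a module -/
noncomputable abbrev DM (E : ModuleCat.{u} A) : Dual.D A := (DD I).obj (op E)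

lemma homCx_map_smul (a : A) {E E' : ModuleCat.{u} A} (f : E ⟶ E') :
    (DualD.homCx I).map (a • f).op = a • (DualD.homCx I).map f.op := by
  refine HomologicalComplex.hom_ext _ _ fun j => ModuleCat.hom_ext
    (LinearMap.ext fun (φ : E' ⟶ I.X j) => ?_)
  show (a • f) ≫ φ = a • (f ≫ φ)
  rw [Linear.smul_comp]

lemma DD_map_smul (a : A) {E E' : ModuleCat.{u} A} (f : E ⟶ E') :
    (DD I).map (a • f).op = a • (DD I).map f.op := by
  show Q.map ((DualD.homCx I).map (a • f).op) = a • Q.map ((DualD.homCx I).map f.op)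
  rw [homCx_map_smul, Functor.map_smul]

lemma smul_id_DM (a : A) (E : ModuleCat.{u} A) (h : ∀ x : E, a • x = 0) :
    a • 𝟙 (DM I E) = 0 := by
  have h0 : a • 𝟙 E = 0 := by
    refine ModuleCat.hom_ext (LinearMap.ext fun x => ?_)
    exact h x
  have h1 : (DD I).map (a • 𝟙 E).op = a • 𝟙 (DM I E) := by
    rw [DD_map_smul, op_id, CategoryTheory.Functor.map_id]
  have h4 : (DD I).map ((0 : A) • 𝟙 E).op = 0 := by rw [DD_map_smul, zero_smul]
  rw [← h1, h0]
  rw [zero_smul] at h4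
  exact h4

lemma isZero_DM (E : ModuleCat.{u} A) (hE : IsZero E) : IsZero (DM I E) := by
  rw [IsZero.iff_id_eq_zero]
  have h := smul_id_DM I 1 E (fun x => by
    haveI := ModuleCat.subsingleton_of_isZero hE
    exact Subsingleton.elim _ _)
  rwa [one_smul] at h

variable [∀ j, Injective (I.X j)]

lemma DM_triangle (S : ShortComplex (ModuleCat.{u} A)) (hS : S.ShortExact) :
    ∃ δ : DM I S.X₁ ⟶ (DM I S.X₃)⟦(1 : ℤ)⟧,
      Triangle.mk ((DD I).map S.g.op) ((DD I).map S.f.op) δ ∈ distTriang (Dual.D A) :=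
  (setup I).tri S hS

/-- `D(A) ≅ I` -/
noncomputable def DMselfIso : DM I (ModuleCat.of A A) ≅ Q.obj I :=
  Q.mapIso (asIso (evCx I (ModuleCat.of A A) (1 : A)))

end DM

end Groth.Agent.Lib.helper23.Falt
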