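import Mathlib
import Groth.Prelude.Def_DRing4
import Groth.Prelude.Def_DualLC
import Groth.Agent.Lib.Helper23.DimFn30
import Groth.Agent.Lib.Helper23.Falt3

/-!
# helper23: Faltings' annihilator theorem, part 4 — lower vanishing

* `VZ_dualizing_lower`: `Ext^i(A/q, ω) = 0` for `i < n q` (global form);
* `VZ_DM_lower`: `Hom((A/q)[0], D(E)[i]) = 0` for `i < n q` and every finite module `E`;
* `VZ_DM_of_support`: `Hom((A/q)[0], D(E)[m]) = 0` when `E` vanishes at every `q' ⊇ q` with
  `n q' ≤ m`.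
-/

set_option autoImplicit false
universe u
open CategoryTheory CategoryTheory.Limits Opposite Pretriangulated DerivedCategory

attribute [local instance] HasDerivedCategory.standard

namespace Groth.Agent.Lib.helper23.Falt

open Groth.Agent.Lib.helper23.HDT Groth.Agent.Lib.helper23.DimFn Groth.Agent.Lib.helper23.BassD
  Groth.Agent.Lib.helper23.DualD Groth.Agent.Lib.helper23.FBC

attribute [local instance 50] homModuleA
attribute [local instance] FlatBC.preservesFiniteLimits_extendScalars_algebraMap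
attribute [local instance] flat_atPrime

variable {A : Type u} [CommRing A] [IsNoetherianRing A]

/-- **global lower vanishing**: `Ext^i(A/q, ω) = 0` for `i < n q`. -/
theorem VZ_dualizing_lower (ω : Dual.D A) (hω : Dual.IsDualizing A ω) (a : ℤ) [ω.IsGE a]
    (n : PrimeSpectrum A → ℤ)
    (hn1 : ∀ (p : PrimeSpectrum A) (i : ℤ),
      Zloc ω p.asIdeal (ModuleCat.of A (A ⧸ p.asIdeal)) i ↔ i ≠ n p)
    (hsm : StrictMono n) (q : PrimeSpectrum A) (i : ℤ) (hi : i < n q) :
    VZ ω i (ModuleCat.of A (A ⧸ q.asIdeal)) := by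
  rw [VZ_iff_subsingleton]
  show Subsingleton (Dual.inD A (A ⧸ q.asIdeal) ⟶ ω⟦i⟧)
  rw [← Module.support_eq_empty_iff (R := A)]
  refine Set.eq_empty_iff_forall_notMem.2 (fun p hp => ?_)
  have hpM : p ∈ Module.support A (A ⧸ q.asIdeal) :=
    mem_support_of_mem_support_hom ω a p (A ⧸ q.asIdeal) i hp
  obtain ⟨δ, e, hδ, he, hδe, hb, h1, h2⟩ :=
    support_ext_bounds ω hω a p (n p) (hn1 p) (A ⧸ q.asIdeal) hpM
  have hann : Module.annihilator A (A ⧸ q.asIdeal) = q.asIdeal := Ideal.annihilator_quotient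
  have hM : ∀ q' : PrimeSpectrum A,
      q'.asIdeal ∈ (Module.annihilator A (A ⧸ q.asIdeal)).minimalPrimes → n q' = -(-(n q)) := by
    intro q' hq'
    haveI := q.2
    rw [hann, Ideal.minimalPrimes_eq_subsingleton_self, Set.mem_singleton_iff] at hq'
    have : q' = q := PrimeSpectrum.ext hq'
    rw [this, neg_neg]
  have h3 := dimFn_sub_supportDim_eq' ω hω a n hn1 hsm (A ⧸ q.asIdeal) (-(n q)) hM p hpM e he
  have h4 := (hb i hp).1
  omega

omit [IsNoetherianRing A] in
/-- if `t` kills `K` and acts injectively on `X₂` with cokernel `X₃`, then vanishing for `X₃`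
implies vanishing for `X₂`. -/
lemma VZ_of_smul_id_eq_zero (K : Dual.D A) (i : ℤ) (S : ShortComplex (ModuleCat.{u} A))
    (hS : S.ShortExact) (t : A) (e : S.X₁ ≅ S.X₂) (hf : S.f = t • e.hom) (ht0 : t • 𝟙 K = 0)
    (h₃ : VZ K i S.X₃) : VZ K i S.X₂ := by
  intro φ
  have hT := hS.singleTriangle_distinguished
  have h1 : (singleFunctor (ModuleCat.{u} A) 0).map S.f ≫ φ = 0 := by
    rw [hf, Functor.map_smul, Linear.smul_comp]
    have h2 : t • ((singleFunctor (ModuleCat.{u} A) 0).map e.hom ≫ φ) =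
        ((singleFunctor (ModuleCat.{u} A) 0).map e.hom ≫ φ) ≫ (t • 𝟙 K)⟦i⟧' := by
      rw [Functor.map_smul, CategoryTheory.Functor.map_id, Linear.comp_smul, Category.comp_id]
    rw [h2, ht0, Functor.map_zero, comp_zero]
  obtain ⟨g, hg⟩ : ∃ g : BassD.sg S.X₃ ⟶ K⟦i⟧,
      φ = (singleFunctor (ModuleCat.{u} A) 0).map S.g ≫ g :=
    Triangle.yoneda_exact₂ _ hT φ h1
  rw [hg, h₃ g, comp_zero]

variable (I : DRing.Cx A) [∀ j, Injective (I.X j)] (a₀ : ℤ) [I.IsStrictlyGE a₀]
  (n : PrimeSpectrum A → ℤ)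
  (hI : ∀ (q : PrimeSpectrum A) (i : ℤ), i < n q →
    VZ (Q.obj I) i (ModuleCat.of A (A ⧸ q.asIdeal)))

omit [IsNoetherianRing A] [∀ j, Injective (I.X j)] in
lemma isGE_DM (E : ModuleCat.{u} A) : (DM I E).IsGE a₀ := by
  haveI := homCx_isStrictlyGE I E a₀ (fun j hj => CochainComplex.isZero_of_isStrictlyGE I a₀ j hj)
  show (Q.obj ((DualD.homCx I).obj (op E))).IsGE a₀
  infer_instance

/-- the short exact sequence `0 → p → A → A/p → 0` -/
noncomputable def idealSC (p : Ideal A) : ShortComplex (ModuleCat.{u} A) :=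
  ShortComplex.mk (ModuleCat.ofHom p.subtype) (ModuleCat.ofHom (Submodule.mkQ p)) (by
    rw [← ModuleCat.ofHom_comp]
    have : (Submodule.mkQ p).comp p.subtype = 0 := by
      ext x
      exact (Submodule.Quotient.mk_eq_zero p).2 x.2
    rw [this]
    rfl)

omit [IsNoetherianRing A] in
lemma idealSC_shortExact (p : Ideal A) : (idealSC p).ShortExact where
  exact := (ShortComplex.ShortExact.moduleCat_exact_iff_function_exact _).2 (by
    intro x
    show Submodule.mkQ p x = 0 ↔ x ∈ Set.range p.subtype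
    rw [Submodule.mkQ_apply, Submodule.Quotient.mk_eq_zero]
    constructor
    · intro hx
      exact ⟨⟨x, hx⟩, rfl⟩
    · rintro ⟨y, rfl⟩
      exact y.2)
  mono_f := (ModuleCat.mono_iff_injective _).2 (Submodule.injective_subtype p)
  epi_g := (ModuleCat.epi_iff_surjective _).2 (Submodule.mkQ_surjective p)

include hI in
/-- `Hom((A/q)[0], D(E)[m]) = 0` for `m < n q`, every finite `E`. -/
theorem VZ_DM_lower : ∀ (k : ℕ) (m : ℤ), m - a₀ < k → ∀ (E : Type u) [AddCommGroup E] [Module A E]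
    [Module.Finite A E] (q : PrimeSpectrum A), m < n q →
    VZ (DM I (ModuleCat.of A E)) m (ModuleCat.of A (A ⧸ q.asIdeal)) := by
  intro k
  induction k with
  | zero =>
    intro m hm E _ _ _ q _
    haveI := isGE_DM I a₀ (ModuleCat.of A E)
    exact VZ.of_isGE _ a₀ m (by omega) _
  | succ k ih =>
    intro m hm E _ _ hE
    refine IsNoetherianRing.induction_on_isQuotientEquivQuotientPrime A hE
      (motive := fun N _ _ _ => ∀ q : PrimeSpectrum A, m < n q →
        VZ (DM I (ModuleCat.of A N)) m (ModuleCat.of A (A ⧸ q.asIdeal))) ?_ ?_ ?_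
    · intro N _ _ _ _ q _
      exact VZ.of_isZero_right (isZero_DM I _ (ModuleCat.isZero_of_subsingleton _))
    · intro N _ _ _ p e q hq
      have hS := idealSC_shortExact p.asIdeal
      obtain ⟨δ, hδ⟩ := DM_triangle I _ hS
      have h3 : VZ (DM I (ModuleCat.of A p.asIdeal)) (m - 1) (ModuleCat.of A (A ⧸ q.asIdeal)) :=
        ih (m - 1) (by omega) p.asIdeal q (by omega)
      have h2 : VZ (DM I (ModuleCat.of A A)) m (ModuleCat.of A (A ⧸ q.asIdeal)) :=
        VZ.of_iso_right (DMselfIso I).symm (hI q m hq)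
      have h1 : VZ (DM I (ModuleCat.of A (A ⧸ p.asIdeal))) m (ModuleCat.of A (A ⧸ q.asIdeal)) :=
        VZ.of_triangle₁ _ hδ m (m - 1) (by omega) _ h3 h2
      exact VZ.of_iso_right ((DD I).mapIso e.toModuleIso.op) h1
    · intro N₁ _ _ _ N₂ _ _ _ N₃ _ _ _ f g hf hg hfg h1 h3 q hq
      let S : ShortComplex (ModuleCat.{u} A) :=
        ShortComplex.mk (ModuleCat.ofHom f) (ModuleCat.ofHom g) (by
          ext x
          exact hfg.apply_apply_eq_zero x)
      have hS : S.ShortExact :=
        { exact := (ShortComplex.ShortExact.moduleCat_exact_iff_function_exact S).2 hfg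
          mono_f := (ModuleCat.mono_iff_injective _).2 hf
          epi_g := (ModuleCat.epi_iff_surjective _).2 hg }
      obtain ⟨δ, hδ⟩ := DM_triangle I S hS
      exact VZ.of_triangle₂ _ hδ m _ (h3 q hq) (h1 q hq)

include hI a₀ in
/-- `Hom((A/q)[0], D(E)[m]) = 0` when `E` vanishes at every `q' ⊇ q` with `n q' ≤ m`. -/
theorem VZ_DM_of_support (E : Type u) [AddCommGroup E] [Module A E] [Module.Finite A E] (m : ℤ) :
    ∀ q : PrimeSpectrum A,
      (∀ q' : PrimeSpectrum A, q ≤ q' → n q' ≤ m → q' ∉ Module.support A E) →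
      VZ (DM I (ModuleCat.of A E)) m (ModuleCat.of A (A ⧸ q.asIdeal)) := by
  intro q
  induction q using (wellFounded_gt_primeSpectrum (A := A)).induction with
  | _ q IH =>
    intro hq
    by_cases hm : m < n q
    · exact VZ_DM_lower I a₀ n hI (m - a₀ + 1).toNat m (by omega) E q hm
    · have hqE : q ∉ Module.support A E := hq q le_rfl (by omega)
      rw [Module.mem_support_iff_of_finite] at hqE
      obtain ⟨t, htE, htq⟩ := SetLike.not_le_iff_exists.1 hqE
      haveI := q.2
      have ht0 : t • 𝟙 (DM I (ModuleCat.of A E)) = 0 :=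
        smul_id_DM I t (ModuleCat.of A E) (fun x => Module.mem_annihilator.1 htE x)
      have hS := cokSC_shortExact q.asIdeal t htq
      have hf : (cokSC q.asIdeal t).f = t • (Iso.refl (ModuleCat.of A (A ⧸ q.asIdeal))).hom := by
        refine ModuleCat.hom_ext (LinearMap.ext fun x => ?_)
        rfl
      refine VZ_of_smul_id_eq_zero _ m (cokSC q.asIdeal t) hS t (Iso.refl _) hf ht0 ?_
      refine VZ_of_killed (q.asIdeal ⊔ Ideal.span {t}) (fun p' hp' hJ => ?_)
        ((A ⧸ q.asIdeal) ⧸ LinearMap.range (LinearMap.lsmul A (A ⧸ q.asIdeal) t))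
        (cokSC_ann q.asIdeal t)
      have hlt : q.asIdeal < p' := by
        refine lt_of_le_of_ne (le_trans le_sup_left hJ) (fun h => htq ?_)
        rw [h]
        exact hJ (Ideal.mem_sup_right (Ideal.subset_span rfl))
      have hlt' : q < (⟨p', hp'⟩ : PrimeSpectrum A) :=
        (PrimeSpectrum.asIdeal_lt_asIdeal q ⟨p', hp'⟩).1 hlt
      exact IH ⟨p', hp'⟩ hlt' (fun q' hq' hn' => hq q' (le_trans hlt'.le hq') hn')

end Groth.Agent.Lib.helper23.Falt
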