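import Mathlib
import Groth.Prelude.Def_DRing4
import Groth.Prelude.Def_DualLC
import Groth.Agent.Lib.Helper23.Falt4

/-!
# helper23: Faltings' annihilator theorem, part 5 — the module case of the dual dévissage

For a finite module `E` such that `Supp E ∩ Gen(q) ⊆ T'` for all `q ∈ T` with `n q ≤ m`, the local
cohomology `H^{m'}_T(D(E))`, `m' ≤ m`, is killed by an ideal `J` with `V(J) ⊆ T'`.
-/

set_option autoImplicit false
universe u
open CategoryTheory CategoryTheory.Limits Opposite Pretriangulated DerivedCategory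

attribute [local instance] HasDerivedCategory.standard

namespace Groth.Agent.Lib.helper23.Falt

open Groth.Agent.Lib.helper23.HDT Groth.Agent.Lib.helper23.DimFn Groth.Agent.Lib.helper23.BassD
  Groth.Agent.Lib.helper23.DualD

variable {A : Type u} [CommRing A]

section Tors

variable (T' : Set (PrimeSpectrum A)) (E : Type u) [AddCommGroup E] [Module A E]

/-- the `T'`-torsion submodule -/
def torsT : Submodule A E where
  carrier := {x | ∃ J : Ideal A, PrimeSpectrum.zeroLocus (J : Set A) ⊆ T' ∧ ∀ a ∈ J, a • x = 0}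
  zero_mem' := ⟨⊤, by simp, fun a _ => smul_zero a⟩
  add_mem' := by
    rintro x y ⟨J, hJ, hx⟩ ⟨J', hJ', hy⟩
    refine ⟨J ⊓ J', ?_, fun a ha => ?_⟩
    · rw [PrimeSpectrum.zeroLocus_inf]
      exact Set.union_subset hJ hJ'
    · rw [smul_add, hx a ha.1, hy a ha.2, add_zero]
  smul_mem' := by
    rintro c x ⟨J, hJ, hx⟩
    exact ⟨J, hJ, fun a ha => by rw [smul_comm, hx a ha, smul_zero]⟩

variable {T' E}

lemma mem_torsT_iff (x : E) :
    x ∈ torsT T' E ↔
      ∃ J : Ideal A, PrimeSpectrum.zeroLocus (J : Set A) ⊆ T' ∧ ∀ a ∈ J, a • x = 0 := Iff.rfl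

variable [IsNoetherianRing A] [Module.Finite A E]

/-- the torsion submodule is killed by an ideal with zero locus in `T'` -/
lemma zeroLocus_annihilator_torsT :
    PrimeSpectrum.zeroLocus ((Module.annihilator A (torsT T' E) : Ideal A) : Set A) ⊆ T' := by
  intro p hp
  have hp' : p ∈ Module.support A (torsT T' E) := by
    rw [Module.support_eq_zeroLocus]
    exact hp
  obtain ⟨x, hx⟩ := Module.mem_support_iff_exists_annihilator.1 hp'
  obtain ⟨J, hJ, hJx⟩ := x.2
  refine hJ ?_
  rw [PrimeSpectrum.mem_zeroLocus]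
  intro a ha
  refine hx ?_
  rw [Submodule.mem_annihilator_span_singleton]
  exact Subtype.ext (hJx a ha)

variable (hT' : StableUnderSpecialization T')
include hT'

/-- associated primes of the quotient by the torsion submodule are outside `T'` -/
lemma notMem_of_mem_associatedPrimes_quot (P : Ideal A)
    (hP : P ∈ associatedPrimes A (E ⧸ torsT T' E)) (hPp : P.IsPrime) :
    (⟨P, hPp⟩ : PrimeSpectrum A) ∉ T' := by
  intro hPT
  obtain ⟨-, y, hy⟩ := (Submodule.isAssociatedPrime_iff).1 hP
  obtain ⟨x, rfl⟩ := Submodule.Quotient.mk_surjective _ y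
  have hx : x ∈ torsT T' E := by
    refine ⟨Module.annihilator A (torsT T' E) * P, ?_, fun c hc => ?_⟩
    · rw [PrimeSpectrum.zeroLocus_mul]
      refine Set.union_subset zeroLocus_annihilator_torsT (fun p' hp' => ?_)
      have hle : (⟨P, hPp⟩ : PrimeSpectrum A) ≤ p' := by
        rw [← PrimeSpectrum.asIdeal_le_asIdeal]
        exact (PrimeSpectrum.mem_zeroLocus _ _).1 hp'
      exact hT' ((PrimeSpectrum.le_iff_specializes _ _).1 hle) hPT
    · refine Submodule.mul_induction_on hc (fun b hb a ha => ?_) (fun u v hu hv => ?_)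
      · have hax : a • x ∈ torsT T' E := by
          have h1 : a ∈ (⊥ : Submodule A (E ⧸ torsT T' E)).colon
              {(Submodule.Quotient.mk x : E ⧸ torsT T' E)} := by rw [← hy]; exact ha
          have h2 : a • (Submodule.Quotient.mk x : E ⧸ torsT T' E) = 0 := by
            rw [Submodule.mem_colon_singleton] at h1
            exact (Submodule.mem_bot A).1 h1
          rw [← Submodule.Quotient.mk_smul, Submodule.Quotient.mk_eq_zero] at h2
          exact h2
        have h3 := Module.mem_annihilator.1 hb ⟨a • x, hax⟩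
        rw [mul_smul]
        exact congrArg Subtype.val h3
      · rw [add_smul, hu, hv, add_zero]
  have h0 : (Submodule.Quotient.mk x : E ⧸ torsT T' E) = 0 := (Submodule.Quotient.mk_eq_zero _).2 hx
  have h1 : P = ⊤ := by
    rw [hy, h0]
    ext a
    rw [Submodule.mem_colon_singleton, smul_zero]
    simp
  exact hPp.ne_top h1

/-- the quotient by the torsion submodule vanishes at `q` when `Supp E ∩ Gen(q) ⊆ T'` -/
lemma notMem_support_quot (q : PrimeSpectrum A)
    (hq : ∀ p : PrimeSpectrum A, p ≤ q → p ∈ Module.support A E → p ∈ T') :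
    q ∉ Module.support A (E ⧸ torsT T' E) := by
  intro hqs
  rw [Module.mem_support_iff_of_finite] at hqs
  obtain ⟨P, hPmin, hPq⟩ := Ideal.exists_minimalPrimes_le hqs
  have hPass : P ∈ associatedPrimes A (E ⧸ torsT T' E) :=
    Module.associatedPrimes.minimalPrimes_annihilator_subset_associatedPrimes A _ hPmin
  have hPp : P.IsPrime := hPmin.1.1
  have hPsupp : (⟨P, hPp⟩ : PrimeSpectrum A) ∈ Module.support A (E ⧸ torsT T' E) :=
    Module.mem_support_iff_of_finite.2 hPmin.1.2
  have hPE : (⟨P, hPp⟩ : PrimeSpectrum A) ∈ Module.support A E :=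
    Module.support_subset_of_surjective _ (Submodule.mkQ_surjective (torsT T' E)) hPsupp
  have hle : (⟨P, hPp⟩ : PrimeSpectrum A) ≤ q := (PrimeSpectrum.asIdeal_le_asIdeal _ _).1 hPq
  exact notMem_of_mem_associatedPrimes_quot hT' P hPass hPp (hq _ hle hPE)

end Tors

section ModuleCase

variable [IsNoetherianRing A] (I : DRing.Cx A) [∀ j, Injective (I.X j)] (a₀ : ℤ)
  [I.IsStrictlyGE a₀] (n : PrimeSpectrum A → ℤ)
  (hI : ∀ (q : PrimeSpectrum A) (i : ℤ), i < n q →
    VZ (Q.obj I) i (ModuleCat.of A (A ⧸ q.asIdeal)))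
  {T T' : Set (PrimeSpectrum A)} (hT : StableUnderSpecialization T)
  (hT' : StableUnderSpecialization T')

omit [IsNoetherianRing A] in
lemma G_subsingleton_of_hom_zero' (X : Dual.D A)
    (h : ∀ (J : Dual2.IdealsIn T) (φ : qD J.obj ⟶ X), φ = 0) : Subsingleton (G T X) := by
  refine ⟨fun x y => ?_⟩
  have hz : ∀ z : G T X, z = 0 := by
    intro z
    obtain ⟨J, φ, rfl⟩ := ι_surj z
    rw [h J φ, map_zero]
  rw [hz x, hz y]

omit [IsNoetherianRing A] in
lemma quot_killed' (J : Ideal A) (y : A) (hy : y ∈ J) (m : A ⧸ J) : y • m = 0 := by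
  obtain ⟨m, rfl⟩ := Ideal.Quotient.mk_surjective m
  show Ideal.Quotient.mk J (y * m) = 0
  exact Ideal.Quotient.eq_zero_iff_mem.2 (Ideal.mul_mem_right _ _ hy)

include hI a₀ hT hT' in
/-- **the module case**: `H^{m'}_T(D(E))`, `m' ≤ m`, is killed by an ideal with zero locus in
`T'`, provided `Supp E ∩ Gen(q) ⊆ T'` for all `q ∈ T` with `n q ≤ m`. -/
theorem smallLE_DM (E : Type u) [AddCommGroup E] [Module A E] [Module.Finite A E] (m : ℤ)
    (H : ∀ q ∈ T, n q ≤ m → ∀ p : PrimeSpectrum A, p ≤ q → p ∈ Module.support A E → p ∈ T') :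
    SmallLE T T' (DM I (ModuleCat.of A E)) m := by
  let E' : Submodule A E := torsT T' E
  let S : ShortComplex (ModuleCat.{u} A) :=
    ShortComplex.mk (ModuleCat.ofHom E'.subtype) (ModuleCat.ofHom E'.mkQ) (by
      rw [← ModuleCat.ofHom_comp]
      have : E'.mkQ.comp E'.subtype = 0 := by
        ext x
        exact (Submodule.Quotient.mk_eq_zero E').2 x.2
      rw [this]
      rfl)
  have hS : S.ShortExact :=
    { exact := (ShortComplex.ShortExact.moduleCat_exact_iff_function_exact S).2 (by
        intro x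
        show E'.mkQ x = 0 ↔ x ∈ Set.range E'.subtype
        rw [Submodule.mkQ_apply, Submodule.Quotient.mk_eq_zero]
        constructor
        · intro hx
          exact ⟨⟨x, hx⟩, rfl⟩
        · rintro ⟨y, rfl⟩
          exact y.2)
      mono_f := (ModuleCat.mono_iff_injective _).2 (Submodule.injective_subtype E')
      epi_g := (ModuleCat.epi_iff_surjective _).2 (Submodule.mkQ_surjective E') }
  obtain ⟨δ, hδ⟩ := DM_triangle I S hS
  refine SmallLE.of_triangle _ hδ m ?_ ?_
  · show SmallLE T T' (DM I (ModuleCat.of A (E ⧸ E'))) m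
    refine ⟨⊤, by simp, fun i hi => ?_⟩
    haveI : Subsingleton (G T ((DM I (ModuleCat.of A (E ⧸ E')))⟦i⟧)) := by
      refine G_subsingleton_of_hom_zero' _ (fun J φ => ?_)
      have hVZ : VZ (DM I (ModuleCat.of A (E ⧸ E'))) i (ModuleCat.of A (A ⧸ J.obj)) := by
        refine VZ_of_killed J.obj (fun p' hp' hJ => ?_) (A ⧸ J.obj) (quot_killed' J.obj)
        refine VZ_DM_of_support I a₀ n hI (E ⧸ E') i ⟨p', hp'⟩ (fun q' hq' hn' => ?_)
        have hp'T : (⟨p', hp'⟩ : PrimeSpectrum A) ∈ T :=
          J.property ((PrimeSpectrum.mem_zeroLocus _ _).2 hJ)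
        have hq'T : q' ∈ T := hT ((PrimeSpectrum.le_iff_specializes _ _).1 hq') hp'T
        exact notMem_support_quot hT' q' (H q' hq'T (by omega))
      exact hVZ φ
    exact Kills.of_subsingleton
  · show SmallLE T T' (DM I (ModuleCat.of A E')) m
    exact SmallLE.of_smul_id _ (Module.annihilator A E') zeroLocus_annihilator_torsT
      (fun a ha => smul_id_DM I a _ (fun x => Module.mem_annihilator.1 ha x)) m

end ModuleCase

end Groth.Agent.Lib.helper23.Falt
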