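import Mathlib
import Groth.Prelude.Def_DRing4
import Groth.Prelude.Def_DualLC
import Groth.Agent.Lib.Helper23.Falt5

/-!
# helper23: Faltings' annihilator theorem, part 6 — the dual dévissage for complexes

`smallLE_Dq`: for a complex `L` with finite cohomology, bounded above, such that
`Supp H^j(L) ∩ Gen(q) ⊆ T'` for all `q ∈ T` and `j ≥ n q - s`, the local cohomology
`H^i_T(D(L))`, `i ≤ s`, is killed by an ideal with zero locus in `T'`.
-/

set_option autoImplicit false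
universe u
open CategoryTheory CategoryTheory.Limits Opposite Pretriangulated DerivedCategory

attribute [local instance] HasDerivedCategory.standard

namespace Groth.Agent.Lib.helper23.Falt

open Groth.Agent.Lib.helper23.HDT Groth.Agent.Lib.helper23.DimFn Groth.Agent.Lib.helper23.BassD
  Groth.Agent.Lib.helper23.DualD Groth.Agent.Lib.helper23.CxBid

variable {A : Type u} [CommRing A]

/-- the support condition on the cohomology of a complex -/
def SC (T T' : Set (PrimeSpectrum A)) (n : PrimeSpectrum A → ℤ) (s : ℤ) (L : DRing.Cx A) : Prop :=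
  ∀ q ∈ T, ∀ j : ℤ, n q - s ≤ j → ∀ p : PrimeSpectrum A, p ≤ q →
    p ∈ Module.support A (Hn L j) → p ∈ T'

variable (I : DRing.Cx A)

/-- `D(K⟦a⟧) ≅ D(K)⟦-a⟧` -/
noncomputable def DqShiftIso (K : DRing.Cx A) (a : ℤ) : Dq I (K⟦a⟧) ≅ (Dq I K)⟦-a⟧ :=
  (Q.mapIso (asIso (homCxShiftHom K I a))).symm ≪≫ (Q.commShiftIso (-a)).app (DRing.homCx K I)

/-- `D(E) ≅ D(E[0])` -/
noncomputable def DMIso (E : ModuleCat.{u} A) : DM I E ≅ Dq I (CxBid.S₀ E) :=
  Q.mapIso (asIso (θ I E))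

/-- a complex with cohomology only in degree `b` is `H^b[-b]` -/
lemma nonempty_iso_shift_S₀ (L : DRing.Cx A) (b : ℤ) [(Q.obj L).IsGE b] [(Q.obj L).IsLE b] :
    Nonempty (Q.obj L ≅ Q.obj ((CxBid.S₀ (Hn L b))⟦-b⟧)) := by
  obtain ⟨e1⟩ := exists_iso_single_homology (Q.obj L) b
  let E : ModuleCat.{u} A := Hn L b
  let e2 : (BassD.sg E)⟦-b⟧ ≅ (singleFunctor (ModuleCat.{u} A) b).obj E :=
    ((singleFunctors (ModuleCat.{u} A)).shiftIso (-b) b 0 (by omega)).app E
  let e3 : BassD.sg E ≅ Q.obj (CxBid.S₀ E) := (singleFunctorIsoCompQ (ModuleCat.{u} A) 0).app E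
  let e4 : Q.obj ((CxBid.S₀ E)⟦-b⟧) ≅ (Q.obj (CxBid.S₀ E))⟦-b⟧ := (Q.commShiftIso (-b)).app (CxBid.S₀ E)
  exact ⟨e1 ≪≫ e2.symm ≪≫ (shiftFunctor (Dual.D A) (-b)).mapIso e3 ≪≫ e4.symm⟩

variable [IsNoetherianRing A] [∀ j, Injective (I.X j)] [I.IsKInjective] (a₀ b₀ : ℤ)
  [I.IsStrictlyGE a₀] (hamp : DRing.HasInjAmplitudeIn A a₀ b₀ (Q.obj I))
  (n : PrimeSpectrum A → ℤ)
  (hI : ∀ (q : PrimeSpectrum A) (i : ℤ), i < n q →
    VZ (Q.obj I) i (ModuleCat.of A (A ⧸ q.asIdeal)))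
  {T T' : Set (PrimeSpectrum A)} (hT : StableUnderSpecialization T)
  (hT' : StableUnderSpecialization T')

include hI a₀ hT hT' in
/-- the case of a complex with a single cohomology module -/
theorem smallLE_single (L : DRing.Cx A) (b : ℤ) [(Q.obj L).IsGE b] [(Q.obj L).IsLE b]
    [Module.Finite A (Hn L b)] (s : ℤ)
    (H : ∀ q ∈ T, n q - s ≤ b → ∀ p : PrimeSpectrum A, p ≤ q →
      p ∈ Module.support A (Hn L b) → p ∈ T') :
    SmallLE T T' (Dq I L) s := by
  obtain ⟨e⟩ := nonempty_iso_shift_S₀ L b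
  obtain ⟨e4⟩ := nonempty_iso_D_of_iso I e
  have h1 : SmallLE T T' (DM I (ModuleCat.of A (Hn L b))) (s + b) :=
    smallLE_DM I a₀ n hI hT hT' (Hn L b) (s + b) (fun q hq hn => H q hq (by omega))
  have h2 : SmallLE T T' ((Dq I (CxBid.S₀ (Hn L b)))⟦-(-b)⟧) s :=
    SmallLE.shift _ (-(-b)) (s + b) s (by omega) (h1.of_iso (DMIso I (Hn L b)))
  exact (h2.of_iso (DqShiftIso I (CxBid.S₀ (Hn L b)) (-b)).symm).of_iso e4.symm

include hI a₀ hT hT' hamp in
/-- **the dual dévissage** -/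
theorem smallLE_Dq_aux (s : ℤ) : ∀ (d : ℕ) (L : DRing.Cx A) (b : ℤ), (Q.obj L).IsLE b →
    b < a₀ - s - 1 + d → (∀ j, Module.Finite A (Hn L j)) → SC T T' n s L →
    SmallLE T T' (Dq I L) s := by
  intro d
  induction d with
  | zero =>
    intro L b hb hbd _ _
    haveI := hb
    haveI := isGE_D_of_isLE I a₀ b₀ hamp L b
    exact SmallLE.of_isGE _ (a₀ - b) s (by omega)
  | succ d ih =>
    intro L b hb hbd hfin hSC
    haveI := hb
    let S := L.shortComplexTruncLE (b - 1)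
    have hS := L.shortComplexTruncLE_shortExact (b - 1)
    have h₁ : SmallLE T T' (Dq I S.X₁) s := by
      refine ih S.X₁ (b - 1) (isLE_truncLE_X₁ L (b - 1)) (by push_cast at hbd; omega)
        (finite_truncLE_X₁ L (b - 1) hfin) ?_
      intro q hq j hj p hpq hp
      by_cases hjb : j ≤ b - 1
      · have i := isIso_HnMap_truncLE_f L (b - 1) j hjb
        have e : Hn S.X₁ j ≃ₗ[A] Hn L j := (@asIso _ _ _ _ _ i).toLinearEquiv
        rw [e.support_eq] at hp
        exact hSC q hq j hj p hpq hp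
      · exfalso
        haveI : Subsingleton (Hn S.X₁ j) := ModuleCat.subsingleton_of_isZero
          (isZero_of_isLE (Q.obj S.X₁) (b - 1) j (by omega))
        rw [Module.support_eq_empty] at hp
        exact hp
    have hb1 : b - 1 + 1 = b := by omega
    haveI : (Q.obj S.X₃).IsGE b := by
      have := isGE_truncLE_X₃ L (b - 1)
      rwa [hb1] at this
    haveI : (Q.obj S.X₃).IsLE b := isLE_truncLE_X₃ L (b - 1) b
    haveI : Module.Finite A (Hn S.X₃ b) := finite_truncLE_X₃ L (b - 1) hfin b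
    have h₃ : SmallLE T T' (Dq I S.X₃) s := by
      refine smallLE_single I a₀ n hI hT hT' S.X₃ b s ?_
      intro q hq hj p hpq hp
      have i := isIso_HnMap_truncLE_g L (b - 1) b (by omega)
      have e : Hn L b ≃ₗ[A] Hn S.X₃ b := (@asIso _ _ _ _ _ i).toLinearEquiv
      rw [← e.support_eq] at hp
      exact hSC q hq b hj p hpq hp
    exact SmallLE.of_ses I S hS s h₁ h₃

end Groth.Agent.Lib.helper23.Falt
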