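import Mathlib
import Groth.Prelude.Def_DRing4
import Groth.Prelude.Def_DualLC
import Groth.Agent.Lib.Helper23.Falt6

/-!
# helper23: Faltings' annihilator theorem, part 7 — the sufficiency of the support condition

`smallLE_of_suppCond`: `K ∈ D^+_{Coh}(A)`, `ω` dualizing with dimension function `n`.  If for all
`q ∈ T`, `j ≥ n q - s` one has `Supp Ext^j(K, ω) ∩ Gen(q) ⊆ T'`, then some ideal `J` with
`V(J) ⊆ T'` kills `H^i_T(K)` for all `i ≤ s`.
-/

set_option autoImplicit false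
universe u
open CategoryTheory CategoryTheory.Limits Opposite Pretriangulated DerivedCategory

attribute [local instance] HasDerivedCategory.standard

namespace Groth.Agent.Lib.helper23.Falt

open Groth.Agent.Lib.helper23.HDT Groth.Agent.Lib.helper23.DimFn Groth.Agent.Lib.helper23.BassD
  Groth.Agent.Lib.helper23.DualD Groth.Agent.Lib.helper23.CxBid Groth.Agent.Lib.helper23.GorInv

variable {A : Type u} [CommRing A] [IsNoetherianRing A]

/-- the support condition on the `Ext` modules of `K` -/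
def SuppCond (ω : Dual.D A) (n : PrimeSpectrum A → ℤ) (T T' : Set (PrimeSpectrum A))
    (K : Dual.D A) (s : ℤ) : Prop :=
  ∀ q ∈ T, ∀ j : ℤ, n q - s ≤ j → ∀ p : PrimeSpectrum A, p ≤ q →
    p ∈ Module.support A (K ⟶ ω⟦j⟧) → p ∈ T'

theorem smallLE_of_suppCond (ω : Dual.D A) (hω : Dual.IsDualizing A ω) (a : ℤ) [ω.IsGE a]
    (n : PrimeSpectrum A → ℤ)
    (hn1 : ∀ (p : PrimeSpectrum A) (i : ℤ),
      Zloc ω p.asIdeal (ModuleCat.of A (A ⧸ p.asIdeal)) i ↔ i ≠ n p)
    (hsm : StrictMono n) {T T' : Set (PrimeSpectrum A)} (hT : StableUnderSpecialization T)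
    (hT' : StableUnderSpecialization T') (K : Dual.D A) (c : ℤ) [K.IsGE c]
    (hK : ∀ j : ℤ, Module.Finite A (Dual.HD A K j)) (s : ℤ)
    (H : SuppCond ω n T T' K s) : SmallLE T T' K s := by
  obtain ⟨Mω⟩ := exists_model ω hω
  haveI := Mω.isKInjective
  haveI := Mω.isStrictlyGE
  have hamp : DRing.HasInjAmplitudeIn A Mω.a Mω.b (Q.obj Mω.I) := ⟨Mω.I, Mω.zero,
    fun j => (Module.injective_iff_injective_object A (Mω.I.X j)).2 (Mω.inj j), ⟨Iso.refl _⟩⟩
  have hI : ∀ (q : PrimeSpectrum A) (i : ℤ), i < n q →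
      VZ (Q.obj Mω.I) i (ModuleCat.of A (A ⧸ q.asIdeal)) := fun q i hi =>
    VZ.of_iso_right Mω.e.symm (VZ_dualizing_lower ω hω a n hn1 hsm q i hi)
  let K₀ : DRing.Cx A := Q.objPreimage K
  let e : Q.obj K₀ ≅ K := Q.objObjPreimageIso K
  have hK₀ : ∀ j, Module.Finite A (Hn K₀ j) := fun j => by
    haveI := hK j
    exact Module.Finite.equiv ((homologyFunctor (ModuleCat.{u} A) j).mapIso e).toLinearEquiv.symm
  haveI : (Q.obj K₀).IsGE c := TStructure.t.isGE_of_iso e.symm c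
  let L : DRing.Cx A := DRing.homCx K₀ Mω.I
  have hLE : (Q.obj L).IsLE (Mω.b - c) := isLE_D_of_isGE Mω.I Mω.a Mω.b hamp K₀ c
  have hLfin : ∀ j, Module.Finite A (Hn L j) := fun j => finite_homology_D hω Mω K₀ hK₀ j
  have hSC : SC T T' n s L := by
    intro q hq j hj p hpq hp
    let eq1 : Hn L j ≃ₗ[A] (K ⟶ ω⟦j⟧) :=
      homologyDEquiv Mω.I K₀ j ≪≫ₗ hc e ((shiftFunctor (Dual.D A) j).mapIso Mω.e)
    rw [eq1.support_eq] at hp
    exact H q hq j hj p hpq hp
  have h1 : SmallLE T T' (Dq Mω.I L) s :=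
    smallLE_Dq_aux Mω.I Mω.a Mω.b hamp n hI hT hT' s
      ((Mω.b - c - (Mω.a - s - 1) + 1).toNat) L (Mω.b - c) hLE (by omega) hLfin hSC
  obtain ⟨e2⟩ := nonempty_biduality_iso hω Mω K₀ hK₀ L (Iso.refl _)
  exact (h1.of_iso e2).of_iso e

end Groth.Agent.Lib.helper23.Falt
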