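import Mathlib
import Groth.Prelude.Def_DRing4
import Groth.Prelude.Def_DualLC
import Groth.Agent.Lib.Helper23.LDual3
import Groth.Agent.Lib.Helper23.Falt7

/-!
# helper23: Faltings' annihilator theorem, part 9 — from `H_T` to `Hom(N, -)`

`kills_hom_of_kills_G`: if `J₀` kills `H^j_T(X)` for all `j ≤ 0` and `X ∈ D^{≥ a}`, then
`J₀ ^ d` (`d > -a`) kills `Hom_{D(A)}(N[0], X)` for every finite module `N` killed by an ideal
whose zero locus lies in `T`.
-/

set_option autoImplicit false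
universe u
open CategoryTheory CategoryTheory.Limits Opposite Pretriangulated DerivedCategory

attribute [local instance] HasDerivedCategory.standard

namespace Groth.Agent.Lib.helper23.Falt

open Groth.Agent.Lib.helper23.HDT Groth.Agent.Lib.helper23.DimFn Groth.Agent.Lib.helper23.BassD
  Groth.Agent.Lib.helper23.DualD Groth.Agent.Lib.helper23.LDual

variable {A : Type u} [CommRing A] {T : Set (PrimeSpectrum A)}

/-- a common lower bound of finitely many ideals of `IdealsIn T` -/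
lemma exists_le_all : ∀ (r : ℕ) (f : Fin r → Dual2.IdealsIn T),
    ∃ J' : Dual2.IdealsIn T, ∀ k, J'.obj ≤ (f k).obj := by
  intro r
  induction r with
  | zero => exact fun f => ⟨mkI T ⊤ (by simp), fun k => k.elim0⟩
  | succ r ih =>
    intro f
    obtain ⟨J'', hJ''⟩ := ih (fun k => f k.castSucc)
    refine ⟨infI J'' (f (Fin.last r)), fun k => ?_⟩
    induction k using Fin.lastCases with
    | last => exact inf_le_right
    | cast k => exact le_trans inf_le_left (hJ'' k)

section Pres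

variable (J : Ideal A) (N : Type u) [AddCommGroup N] [Module A N]
  (hN : ∀ x ∈ J, ∀ y : N, x • y = 0) (r : ℕ) (s : Fin r → N)

/-- `A/J → N`, `1 ↦ y` -/
noncomputable def quotTo (y : N) : (A ⧸ J) →ₗ[A] N :=
  Submodule.liftQ J (LinearMap.toSpanSingleton A N y) (fun x hx => by
    rw [LinearMap.mem_ker, LinearMap.toSpanSingleton_apply]
    exact hN x hx y)

lemma quotTo_mk (y : N) (a : A) : quotTo J N hN y (Submodule.Quotient.mk a) = a • y := rfl

/-- the presentation map `(A/J)^r → N` attached to a family of elements -/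
noncomputable def presMap : (Fin r → A ⧸ J) →ₗ[A] N :=
  LinearMap.lsum A (fun _ : Fin r => A ⧸ J) A (fun k => quotTo J N hN (s k))

lemma presMap_single (k : Fin r) (z : A ⧸ J) :
    presMap J N hN r s (Pi.single k z) = quotTo J N hN (s k) z := by
  unfold presMap
  rw [LinearMap.lsum_apply, LinearMap.sum_apply]
  rw [Finset.sum_eq_single k]
  · simp
  · intro b _ hb
    simp [hb]
  · intro h
    exact absurd (Finset.mem_univ k) h

lemma presMap_surjective (hs : Submodule.span A (Set.range s) = ⊤) :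
    Function.Surjective (presMap J N hN r s) := by
  rw [← LinearMap.range_eq_top, eq_top_iff, ← hs, Submodule.span_le]
  rintro _ ⟨k, rfl⟩
  refine ⟨Pi.single k (Submodule.Quotient.mk 1), ?_⟩
  rw [presMap_single, quotTo_mk, one_smul]

end Pres

/-- `J₀` kills `H^j_T(X)` for all `j ≤ 0` (up to isomorphism of the shifted object) -/
def KillsNeg (T : Set (PrimeSpectrum A)) (J₀ : Ideal A) (X : Dual.D A) : Prop :=
  ∀ (j : ℤ) (Y : Dual.D A), j ≤ 0 → (Y ≅ X⟦j⟧) → Kills J₀ (G T Y)

lemma KillsNeg.shift_neg_one {J₀ : Ideal A} {X : Dual.D A} (h : KillsNeg T J₀ X) :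
    KillsNeg T J₀ (X⟦(-1 : ℤ)⟧) := fun j Y hj e =>
  h (-1 + j) Y (by omega) (e ≪≫ ((shiftFunctorAdd' (Dual.D A) (-1) j (-1 + j) rfl).app X).symm)

variable [IsNoetherianRing A]

theorem kills_hom_of_kills_G (J₀ : Ideal A) :
    ∀ (d : ℕ) (X : Dual.D A) (a : ℤ), X.IsGE a → -a < d → KillsNeg T J₀ X →
      ∀ (N : Type u) [AddCommGroup N] [Module A N] [Module.Finite A N] (J : Dual2.IdealsIn T),
        (∀ x ∈ J.obj, ∀ y : N, x • y = 0) →
        ∀ x ∈ J₀ ^ d, ∀ ψ : Dual.inD A N ⟶ X, x • ψ = 0 := by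
  intro d
  induction d with
  | zero =>
    intro X a hX ha _ N _ _ _ J _ x _ ψ
    haveI := hX
    haveI : (Dual.inD A N).IsLE 0 := by
      dsimp only [Dual.inD]
      infer_instance
    have h0 : ψ = 0 := (TStructure.t (C := ModuleCat.{u} A)).zero ψ 0 a (by omega)
    rw [h0, smul_zero]
  | succ d ih =>
    intro X a hX ha hk N _ _ _ J hN x hx ψ
    haveI := hX
    rw [pow_succ] at hx
    refine Submodule.mul_induction_on hx (fun u hu v hv => ?_)
      (fun y z hy hz => by rw [add_smul, hy, hz, add_zero])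
    obtain ⟨r, s, hs⟩ := Module.Finite.exists_fin (R := A) (M := N)
    -- the components
    have hφ : ∀ k : Fin r, ∃ (J'k : Dual2.IdealsIn T) (h : J'k.obj ≤ J.obj),
        qMap h ≫ (v • ((singleFunctor (ModuleCat.{u} A) 0).map
          (ModuleCat.ofHom (quotTo J.obj N hN (s k))) ≫ ψ)) = 0 := by
      intro k
      have h0 := hk 0 X le_rfl ((shiftFunctorZero (Dual.D A) ℤ).app X).symm v hv
        (ι J ((singleFunctor (ModuleCat.{u} A) 0).map
          (ModuleCat.ofHom (quotTo J.obj N hN (s k))) ≫ ψ))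
      rw [← map_smul, ι_eq_zero_iff] at h0
      exact h0
    choose J'k hJ'k hzero using hφ
    obtain ⟨J', hJ'⟩ := exists_le_all r J'k
    let J'' : Dual2.IdealsIn T := infI J' J
    have hJ''J : J''.obj ≤ J.obj := inf_le_right
    have hJ''k : ∀ k, J''.obj ≤ (J'k k).obj := fun k => le_trans inf_le_left (hJ' k)
    have hN'' : ∀ x ∈ J''.obj, ∀ y : N, x • y = 0 := fun x hx y => hN x (hJ''J hx) y
    let π' : (Fin r → A ⧸ J''.obj) →ₗ[A] N := presMap J''.obj N hN'' r s
    have hπ' : Function.Surjective π' := presMap_surjective J''.obj N hN'' r s hs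
    let g : ModuleCat.of A (Fin r → A ⧸ J''.obj) ⟶ ModuleCat.of A N := ModuleCat.ofHom π'
    have hzero' : (singleFunctor (ModuleCat.{u} A) 0).map g ≫ (v • ψ) = 0 := by
      refine hom_pi_eq_zero (ModuleCat.of A (A ⧸ J''.obj)) r
        (singleFunctor (ModuleCat.{u} A) 0) _ (fun k => ?_)
      rw [← Category.assoc, ← Functor.map_comp]
      have hcomp : piι (ModuleCat.of A (A ⧸ J''.obj)) r k ≫ g =
          ModuleCat.ofHom (Submodule.mapQ J''.obj J.obj LinearMap.id hJ''J) ≫
            ModuleCat.ofHom (quotTo J.obj N hN (s k)) := by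
        refine ModuleCat.hom_ext (LinearMap.ext fun z => ?_)
        obtain ⟨a', rfl⟩ := Submodule.Quotient.mk_surjective _ z
        show π' (Pi.single k (Submodule.Quotient.mk a')) = _
        rw [presMap_single, quotTo_mk]
        rfl
      rw [hcomp, Functor.map_comp, Category.assoc]
      have h1 : (singleFunctor (ModuleCat.{u} A) 0).map
          (ModuleCat.ofHom (Submodule.mapQ J''.obj J.obj LinearMap.id hJ''J)) =
          qMap (hJ''k k) ≫ qMap (hJ'k k) := by
        rw [qMap_comp]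
        rfl
      rw [h1, Category.assoc]
      have h2 := hzero k
      rw [← Linear.comp_smul] at h2
      rw [h2, comp_zero]
    -- factor through the connecting map
    have hS := kerSC_shortExact g hπ'
    have hT := hS.singleTriangle_distinguished
    let Y : Dual.D A := (singleFunctor (ModuleCat.{u} A) 0).obj
      (ModuleCat.of A (LinearMap.ker g.hom))
    obtain ⟨ψ₁, hψ₁⟩ : ∃ ψ₁ : Y⟦(1 : ℤ)⟧ ⟶ X, v • ψ = hS.singleTriangle.mor₃ ≫ ψ₁ :=
      Triangle.yoneda_exact₃ _ hT (v • ψ) hzero'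
    let ε := (shiftFunctorCompIsoId (Dual.D A) (1 : ℤ) (-1) (by omega)).app Y
    let ψ₁' : Dual.inD A (LinearMap.ker g.hom) ⟶ X⟦(-1 : ℤ)⟧ := ε.inv ≫ ψ₁⟦(-1 : ℤ)⟧'
    haveI : (X⟦(-1 : ℤ)⟧).IsGE (a + 1) :=
      (TStructure.t (C := ModuleCat.{u} A)).isGE_shift X a (-1) (a + 1) (by omega)
    have hker : ∀ x ∈ J''.obj, ∀ y : LinearMap.ker g.hom, x • y = 0 := by
      intro x hx y
      apply Subtype.ext
      funext k
      exact quot_killed' J''.obj x hx (y.1 k)
    have h4 : u • ψ₁' = 0 :=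
      ih (X⟦(-1 : ℤ)⟧) (a + 1) inferInstance (by push_cast at ha; omega) hk.shift_neg_one
        (LinearMap.ker g.hom) J'' hker u hu ψ₁'
    have h5 : (u • ψ₁)⟦(-1 : ℤ)⟧' = 0 := by
      have h6 : u • ψ₁' = ε.inv ≫ (u • ψ₁)⟦(-1 : ℤ)⟧' := by
        show u • (ε.inv ≫ ψ₁⟦(-1 : ℤ)⟧') = _
        rw [Functor.map_smul, Linear.comp_smul]
      rw [h6] at h4
      have h7 : (u • ψ₁)⟦(-1 : ℤ)⟧' = ε.hom ≫ ε.inv ≫ (u • ψ₁)⟦(-1 : ℤ)⟧' := by
        rw [Iso.hom_inv_id_assoc]
      rw [h7, h4, comp_zero]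
    have h8 : u • ψ₁ = 0 := (shiftFunctor (Dual.D A) (-1 : ℤ)).map_injective (by
      rw [h5, Functor.map_zero])
    rw [mul_smul, hψ₁]
    have h9 : hS.singleTriangle.mor₃ ≫ (u • ψ₁) = 0 := by
      have h10 : hS.singleTriangle.mor₃ ≫ (u • ψ₁) = hS.singleTriangle.mor₃ ≫ 0 :=
        congrArg (fun z => hS.singleTriangle.mor₃ ≫ z) h8
      exact h10.trans comp_zero
    exact ((Linear.comp_smul _ _ _ hS.singleTriangle.mor₃ u ψ₁).symm).trans h9

/-- if `J₀` kills `H^i_T(K)` for `i ≤ s` and `K ∈ D^{≥ c}`, then a power of `J₀` kills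
`Hom(N[0], K[i])`, `i ≤ s`, for every finite module `N` killed by an ideal of `T`. -/
theorem kills_hom_of_killsLE (J₀ : Ideal A) (K : Dual.D A) (c s : ℤ) [K.IsGE c]
    (hk : KillsLE T J₀ K s) (i : ℤ) (hi : i ≤ s)
    (N : Type u) [AddCommGroup N] [Module A N] [Module.Finite A N] (J : Dual2.IdealsIn T)
    (hN : ∀ x ∈ J.obj, ∀ y : N, x • y = 0) (x : A) (hx : x ∈ J₀ ^ ((i - c + 1).toNat))
    (ψ : Dual.inD A N ⟶ K⟦i⟧) : x • ψ = 0 := by
  haveI : (K⟦i⟧).IsGE (c - i) :=
    (TStructure.t (C := ModuleCat.{u} A)).isGE_shift K c i (c - i) (by omega)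
  refine kills_hom_of_kills_G (T := T) J₀ ((i - c + 1).toNat) (K⟦i⟧) (c - i) inferInstance ?_ ?_
    N J hN x hx ψ
  · have : (0 : ℤ) ≤ ((i - c + 1).toNat : ℤ) := Int.natCast_nonneg _
    have h2 := Int.self_le_toNat (i - c + 1)
    omega
  · intro j Y hj e
    exact Kills.of_equiv (GmapIso (T := T)
      (e ≪≫ ((shiftFunctorAdd' (Dual.D A) i j (i + j) rfl).app K).symm).symm) (hk (i + j) (by omega))

end Groth.Agent.Lib.helper23.Falt
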