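import Mathlib
import Groth.Prelude.Def_Wider
import Groth.Prelude.Def_DDual2
import Groth.Prelude.Def_DRing4
import Groth.Prelude.Def_DualLC
import Groth.Agent.Lib.Helper23.Falt9
import Groth.Agent.Lib.Helper23.Falt10
import Groth.Agent.Lib.Helper23.Falt11

/-!
# helper23: Faltings' annihilator theorem, part 12 — necessity of the support condition
-/

set_option autoImplicit false
universe u v
open CategoryTheory CategoryTheory.Limits DerivedCategory Pretriangulated TensorProduct IsLocalRing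
  Opposite

attribute [local instance] HasDerivedCategory.standard

namespace Groth.Agent.Lib.helper23.Falt

open Groth.Agent.Lib.helper23 Groth.Agent.Lib.helper23.FBC Groth.Agent.Lib.helper23.DimFn
  Groth.Agent.Lib.helper23.BassD Groth.Agent.Lib.helper23.LDual Groth.Agent.Lib.helper23.DualD
  Groth.Agent.Lib.helper23.HDT

variable {A : Type u} [CommRing A] [IsNoetherianRing A]

attribute [local instance 50] homModuleA
attribute [local instance] FlatBC.preservesFiniteLimits_extendScalars_algebraMap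
attribute [local instance] flat_atPrime

/-- if `J₀` kills `H^i_T(K)` for `i ≤ s`, then a power of `J₀` kills `H^i_q(K)`, `q ∈ T`. -/
theorem kills_HDI_of_killsLE {T : Set (PrimeSpectrum A)} (hT : StableUnderSpecialization T)
    (J₀ : Ideal A) (K : Dual.D A) (c s : ℤ) [K.IsGE c] (hk : KillsLE T J₀ K s) (i : ℤ)
    (hi : i ≤ s) (q : PrimeSpectrum A) (hq : q ∈ T) (x : A)
    (hx : x ∈ J₀ ^ ((i - c + 1).toNat)) (z : Dual2.HDI A q.asIdeal K i) : x • z = 0 := by
  obtain ⟨m, y, rfl⟩ := toHDI_surj q.asIdeal K i z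
  have hV : PrimeSpectrum.zeroLocus ((q.asIdeal ^ m : Ideal A) : Set A) ⊆ T := by
    intro r hr
    have h1 : q.asIdeal ^ m ≤ r.asIdeal := (PrimeSpectrum.mem_zeroLocus _ _).1 hr
    have h2 : q.asIdeal ≤ r.asIdeal := r.2.le_of_pow_le h1
    exact hT ((PrimeSpectrum.le_iff_specializes _ _).1 h2) hq
  have h3 : x • (show Dual.inD A (A ⧸ q.asIdeal ^ m) ⟶ K⟦i⟧ from y) = 0 :=
    kills_hom_of_killsLE (T := T) J₀ K c s hk i hi (A ⧸ q.asIdeal ^ m) (mkI T _ hV)
      (quot_killed' _) x hx _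
  rw [← map_smul, smul_stage, h3]
  exact map_zero _

/-- **necessity**: if some ideal `J` with `V(J) ⊆ T'` kills `H^i_T(K)` for all `i ≤ s`, then the
support condition holds. -/
theorem suppCond_of_smallLE (ω : Dual.D A) (hω : Dual.IsDualizing A ω) (a : ℤ) [ω.IsGE a]
    (n : PrimeSpectrum A → ℤ)
    (hn1 : ∀ (p : PrimeSpectrum A) (i : ℤ),
      Zloc ω p.asIdeal (ModuleCat.of A (A ⧸ p.asIdeal)) i ↔ i ≠ n p)
    {T T' : Set (PrimeSpectrum A)} (hT : StableUnderSpecialization T)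
    (K : Dual.D A) (c : ℤ) [K.IsGE c]
    (hK : ∀ j : ℤ, Module.Finite A (Dual.HD A K j)) (s : ℤ)
    (H : SmallLE T T' K s) : SuppCond ω n T T' K s := by
  obtain ⟨J₀, hJ₀, hk⟩ := H
  intro q hq j hj p hpq hp
  haveI hqp : q.asIdeal.IsPrime := q.2
  let B := Localization.AtPrime q.asIdeal
  obtain ⟨i, hi⟩ : ∃ i : ℤ, i = n q - j := ⟨_, rfl⟩
  have his : i ≤ s := by omega
  -- it suffices to show `J₀ ^ N ≤ p`
  refine hJ₀ ((PrimeSpectrum.mem_zeroLocus _ _).2 ?_)
  refine p.2.le_of_pow_le (n := (i - c + 1).toNat) (fun x hx => ?_)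
  -- `x` kills `Hom(K_q, ω_q[j])`
  have h1 : ∀ f : K ⟶ ω⟦j⟧, algebraMap A B x • (EE A B).map f = 0 := fun f =>
    smul_EE_map_eq_zero ω hω a q (n q) (hn1 q) K hK i x
      (kills_HDI_of_killsLE hT J₀ K c s hk i his q hq x hx) j (by omega) f
  -- base change
  obtain ⟨Mω⟩ := exists_model ω hω
  have hωq := isDualizing_EE_atPrime ω hω q.asIdeal
  obtain ⟨Mω'⟩ := exists_model _ hωq
  have hBB : BB B K (ω⟦j⟧) :=
    BB_of_isGE_finite B K ω c hK Mω.a Mω.b Mω.injAmp Mω'.a Mω'.b Mω'.injAmp j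
  -- an element of the support
  by_contra hxp
  refine (Module.notMem_support_iff' (R := A) (M := (K ⟶ ω⟦j⟧)) (p := p)).2 (fun f => ?_) hp
  have h2 : (ℓ (B := B) K (ω⟦j⟧)).liftBaseChange B ((1 : B) ⊗ₜ[A] (x • f)) = 0 := by
    rw [LinearMap.liftBaseChange_tmul, one_smul, ℓ_apply, EE_map_smul]
    exact h1 f
  have h3 : ((1 : B) ⊗ₜ[A] (x • f) : B ⊗[A] (K ⟶ ω⟦j⟧)) = 0 :=
    hBB.1 (h2.trans (map_zero _).symm)
  obtain ⟨⟨t, ht⟩, htx⟩ := (IsLocalizedModule.eq_zero_iff q.asIdeal.primeCompl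
    (TensorProduct.mk A B (K ⟶ ω⟦j⟧) 1)).1 h3
  refine ⟨t * x, fun hmem => ?_, ?_⟩
  · rcases p.2.mem_or_mem hmem with h | h
    · exact ht (hpq h)
    · exact hxp h
  · rw [mul_smul]
    exact htx

end Groth.Agent.Lib.helper23.Falt
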