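import Mathlib
import Groth.Agent.Lib.Helper23.DimFn9

/-!
# helper23: Faltings' annihilator theorem, part 8 — order lemmas for dimension functions

For a function `n : α → ℤ` increasing by exactly one along coverings (on an order with the
ascending chain condition) and `p ≤ q`:
* `krullDim_Icc_eq`: `dim [p, q] = n q - n p`;
* `height_Ici_eq`: the height of `q` in `{x | p ≤ x}` is `n q - n p`.
-/

set_option autoImplicit false
universe u

namespace Groth.Agent.Lib.helper23.Falt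

open Groth.Agent.Lib.helper23.DimFn

variable {α : Type*} [PartialOrder α]

lemma krullDim_Icc_eq (hwf : WellFounded ((· > ·) : α → α → Prop)) (n : α → ℤ)
    (hn : StrictMono n) (hcov : ∀ p q : α, p ⋖ q → n p = n q - 1) (p q : α) (hpq : p ≤ q) :
    Order.krullDim ↥(Set.Icc p q) = (((n q - n p).toNat : ℕ∞) : WithBot ℕ∞) := by
  apply le_antisymm
  · exact krullDim_le_of_strictMono_int (fun x : ↥(Set.Icc p q) => n x.1)
      (fun x y hxy => hn hxy) (n p) (n q) (fun x => ⟨hn.monotone x.2.1, hn.monotone x.2.2⟩)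
  · have hwf' : WellFounded ((· > ·) : ↥(Set.Icc p q) → ↥(Set.Icc p q) → Prop) :=
      Subrelation.wf (fun {x y} hxy => (show x.1 > y.1 from hxy))
        (InvImage.wf (fun x : ↥(Set.Icc p q) => x.1) hwf)
    have hcov' : ∀ c d : ↥(Set.Icc p q), c ⋖ d → n c.1 = n d.1 - 1 := by
      intro c d hcd
      refine hcov c.1 d.1 ⟨hcd.1, fun e hce hed => ?_⟩
      exact hcd.2 (c := ⟨e, le_trans c.2.1 hce.le, le_trans hed.le d.2.2⟩) hce hed
    have h1 := sub_le_height hwf' (fun x : ↥(Set.Icc p q) => n x.1)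
      (fun x y hxy => hn hxy) hcov' _ ⟨p, le_refl p, hpq⟩ ⟨q, hpq, le_refl q⟩ hpq rfl
    have h2 := Order.height_le_krullDim (⟨q, hpq, le_refl q⟩ : ↥(Set.Icc p q))
    exact le_trans (WithBot.coe_le_coe.2 h1) h2

lemma height_Ici_eq (hwf : WellFounded ((· > ·) : α → α → Prop)) (n : α → ℤ)
    (hn : StrictMono n) (hcov : ∀ p q : α, p ⋖ q → n p = n q - 1) (p q : α) (hpq : p ≤ q) :
    Order.height (⟨q, hpq⟩ : ↥(Set.Ici p)) = ((n q - n p).toNat : ℕ∞) := by
  apply le_antisymm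
  · have h1 : ((Order.height (⟨q, hpq⟩ : ↥(Set.Ici p)) : ℕ∞) : WithBot ℕ∞) ≤
        (((n q - n p).toNat : ℕ∞) : WithBot ℕ∞) := by
      rw [Order.height_eq_krullDim_Iic]
      exact krullDim_le_of_strictMono_int
        (fun x : ↥(Set.Iic (⟨q, hpq⟩ : ↥(Set.Ici p))) => n x.1.1)
        (fun x y hxy => hn hxy) (n p) (n q)
        (fun x => ⟨hn.monotone x.1.2, hn.monotone x.2⟩)
    exact WithBot.coe_le_coe.1 h1
  · have hwf' : WellFounded ((· > ·) : ↥(Set.Ici p) → ↥(Set.Ici p) → Prop) :=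
      Subrelation.wf (fun {x y} hxy => (show x.1 > y.1 from hxy))
        (InvImage.wf (fun x : ↥(Set.Ici p) => x.1) hwf)
    have hcov' : ∀ c d : ↥(Set.Ici p), c ⋖ d → n c.1 = n d.1 - 1 := by
      intro c d hcd
      refine hcov c.1 d.1 ⟨hcd.1, fun e hce hed => ?_⟩
      exact hcd.2 (c := ⟨e, le_trans c.2 hce.le⟩) hce hed
    exact sub_le_height hwf' (fun x : ↥(Set.Ici p) => n x.1)
      (fun x y hxy => hn hxy) hcov' _ ⟨p, le_refl p⟩ ⟨q, hpq⟩ hpq rfl

end Groth.Agent.Lib.helper23.Falt
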