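import Mathlib
import Groth.Prelude.Def_Wider
import Groth.Prelude.Def_DDual2
import Groth.Prelude.Def_DRing4
import Groth.Prelude.Def_DualLC
import Groth.Agent.Lib.Helper23.Falt7
import Groth.Agent.Lib.Helper23.Falt8
import Groth.Agent.Lib.Helper23.Falt12

/-!
# helper23: Faltings' annihilator theorem, part 13 — the theorem for complexes

* `smallLE_iff_suppCond`: the annihilator theorem in terms of the supports of `Ext^j(K, ω)`;
* `subsingleton_HDI_EE_iff`: `H^i_{pA_p}(K_p) = 0 ↔ p ∉ Supp Ext^{n_p - i}(K, ω)`;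
* `faltings_complex`: the annihilator theorem in terms of the local cohomology of `K_p`.
-/

set_option autoImplicit false
universe u v
open CategoryTheory CategoryTheory.Limits DerivedCategory Pretriangulated TensorProduct IsLocalRing
  Opposite

attribute [local instance] HasDerivedCategory.standard

namespace Groth.Agent.Lib.helper23.Falt

open Groth.Agent.Lib.helper23 Groth.Agent.Lib.helper23.FBC Groth.Agent.Lib.helper23.DimFn
  Groth.Agent.Lib.helper23.BassD Groth.Agent.Lib.helper23.LDual Groth.Agent.Lib.helper23.DualD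
  Groth.Agent.Lib.helper23.HDT

variable {A : Type u} [CommRing A] [IsNoetherianRing A]

attribute [local instance 50] homModuleA
attribute [local instance] FlatBC.preservesFiniteLimits_extendScalars_algebraMap
attribute [local instance] flat_atPrime

/-- **Faltings' annihilator theorem**, in terms of the supports of `Ext^j(K, ω)`. -/
theorem smallLE_iff_suppCond (ω : Dual.D A) (hω : Dual.IsDualizing A ω) (a : ℤ) [ω.IsGE a]
    (n : PrimeSpectrum A → ℤ)
    (hn1 : ∀ (p : PrimeSpectrum A) (i : ℤ),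
      Zloc ω p.asIdeal (ModuleCat.of A (A ⧸ p.asIdeal)) i ↔ i ≠ n p)
    (hsm : StrictMono n) {T T' : Set (PrimeSpectrum A)} (hT : StableUnderSpecialization T)
    (hT' : StableUnderSpecialization T') (K : Dual.D A) (c : ℤ) [K.IsGE c]
    (hK : ∀ j : ℤ, Module.Finite A (Dual.HD A K j)) (s : ℤ) :
    SmallLE T T' K s ↔ SuppCond ω n T T' K s :=
  ⟨suppCond_of_smallLE ω hω a n hn1 hT K c hK s,
    smallLE_of_suppCond ω hω a n hn1 hsm hT hT' K c hK s⟩

/-- `H^i_{pA_p}(K_p) = 0 ↔ p ∉ Supp Ext^{n_p - i}(K, ω)` -/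
theorem subsingleton_HDI_EE_iff (ω : Dual.D A) (hω : Dual.IsDualizing A ω) (a : ℤ) [ω.IsGE a]
    (p : PrimeSpectrum A) (np : ℤ)
    (hnp : ∀ i : ℤ, Zloc ω p.asIdeal (ModuleCat.of A (A ⧸ p.asIdeal)) i ↔ i ≠ np)
    (K : Dual.D A) (c : ℤ) [K.IsGE c] (hK : ∀ j : ℤ, Module.Finite A (Dual.HD A K j))
    (i j : ℤ) (hj : j = np - i) :
    Subsingleton (Dual2.HDI (Localization.AtPrime p.asIdeal)
      (maximalIdeal (Localization.AtPrime p.asIdeal))
      ((EE A (Localization.AtPrime p.asIdeal)).obj K) i) ↔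
      p ∉ Module.support A (K ⟶ ω⟦j⟧) := by
  haveI hpp : p.asIdeal.IsPrime := p.2
  let B := Localization.AtPrime p.asIdeal
  have hωp := isDualizing_EE_atPrime ω hω p.asIdeal
  haveI : IsNoetherianRing B := hωp.isNoetherianRing
  have hω' : Dual.IsDualizing B (((EE A B).obj ω)⟦np⟧) := isDualizing_shift _ np hωp
  have hn' := isNormalized_EE_shift ω a p.asIdeal np hnp
  have hK' : ∀ j : ℤ, Module.Finite B (Dual.HD B ((EE A B).obj K) j) := fun j =>
    FlatBC.finite_homology_extD (algebraMap A B) K j (hK j)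
  haveI := isGE_EE B K c
  have hc' : ∀ j : ℤ, j < c → Subsingleton (Dual.HD B ((EE A B).obj K) j) := fun j hj =>
    ModuleCat.subsingleton_of_isZero (DerivedCategory.isZero_of_isGE ((EE A B).obj K) c j hj)
  rw [subsingleton_HDI_iff _ hω' hn' ((EE A B).obj K) hK' c hc' i]
  let eω : (EE A B).obj (ω⟦j⟧) ≅ (((EE A B).obj ω)⟦np⟧)⟦-i⟧ :=
    EEshiftIso B ω j ≪≫ (shiftFunctorAdd' (Dual.D B) np (-i) j (by omega)).app _
  obtain ⟨Mω⟩ := exists_model ω hω
  obtain ⟨Mω'⟩ := exists_model _ hωp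
  have hBB : BB B K (ω⟦j⟧) :=
    BB_of_isGE_finite B K ω c hK Mω.a Mω.b Mω.injAmp Mω'.a Mω'.b Mω'.injAmp j
  rw [Module.notMem_support_iff', ← subsingleton_tensor_atPrime_iff p.asIdeal (K ⟶ ω⟦j⟧)]
  have h1 : Subsingleton ((EE A B).obj K ⟶ (((EE A B).obj ω)⟦np⟧)⟦-i⟧) ↔
      Subsingleton ((EE A B).obj K ⟶ (EE A B).obj (ω⟦j⟧)) :=
    (Linear.homCongr B (Iso.refl _) eω).toEquiv.subsingleton_congr.symm
  rw [h1]
  constructor
  · intro h
    exact Function.Injective.subsingleton hBB.1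
  · intro h
    exact Function.Surjective.subsingleton hBB.2

/-- the same for the derived base change `LBaseChange` -/
theorem subsingleton_HDI_LBC_iff (ω : Dual.D A) (hω : Dual.IsDualizing A ω) (a : ℤ) [ω.IsGE a]
    (p : PrimeSpectrum A) (np : ℤ)
    (hnp : ∀ i : ℤ, Zloc ω p.asIdeal (ModuleCat.of A (A ⧸ p.asIdeal)) i ↔ i ≠ np)
    [DRing.HasLBaseChange (algebraMap A (Localization.AtPrime p.asIdeal))]
    (K : Dual.D A) (c : ℤ) [K.IsGE c] (hK : ∀ j : ℤ, Module.Finite A (Dual.HD A K j))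
    (i j : ℤ) (hj : j = np - i) :
    Subsingleton (Dual2.HDI (Localization.AtPrime p.asIdeal)
      (maximalIdeal (Localization.AtPrime p.asIdeal))
      ((DRing.LBaseChange (algebraMap A (Localization.AtPrime p.asIdeal))).obj K) i) ↔
      p ∉ Module.support A (K ⟶ ω⟦j⟧) := by
  haveI hpp : p.asIdeal.IsPrime := p.2
  rw [← subsingleton_HDI_EE_iff ω hω a p np hnp K c hK i j hj]
  exact (HDIIso (maximalIdeal (Localization.AtPrime p.asIdeal))
    ((FlatBC.lbcIso (algebraMap A (Localization.AtPrime p.asIdeal))).app K)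
    i).toLinearEquiv.toEquiv.subsingleton_congr

/-- **Faltings' annihilator theorem for complexes** (S1791) -/
theorem faltings_complex (hA : ∃ ω : Dual.D A, Dual.IsDualizing A ω)
    (T T' : Set (PrimeSpectrum A)) (hT : StableUnderSpecialization T)
    (hT' : StableUnderSpecialization T') (s : ℤ) (K : Dual.D A) (a : ℤ)
    (hKa : ∀ i : ℤ, i < a → Subsingleton (Dual.HD A K i))
    (hK : ∀ i : ℤ, Module.Finite A (Dual.HD A K i))
    [∀ p : PrimeSpectrum A, DRing.HasLBaseChange (algebraMap A (Localization.AtPrime p.asIdeal))] :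
    (∃ J : Ideal A, PrimeSpectrum.zeroLocus (J : Set A) ⊆ T' ∧
      ∀ i : ℤ, i ≤ s → ∀ a ∈ J, ∀ x : Dual2.HDT A T K i, a • x = 0) ↔
    (∀ (p q : PrimeSpectrum A) (hpq : p ≤ q), p ∉ T' → q ∈ T → ∀ h : ℕ,
      Order.height (⟨q, hpq⟩ : Set.Ici p) = h → ∀ i : ℤ, i ≤ s - h →
      Subsingleton (Dual2.HDI (Localization.AtPrime p.asIdeal)
        (IsLocalRing.maximalIdeal (Localization.AtPrime p.asIdeal))
        ((DRing.LBaseChange (algebraMap A (Localization.AtPrime p.asIdeal))).obj K) i)) := by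
  obtain ⟨ω, hω⟩ := hA
  obtain ⟨a', hGE, n, hn1, hn2, hsm⟩ := exists_dimFn ω hω
  haveI := hGE
  haveI : K.IsGE a := by
    rw [isGE_iff]
    intro i hi
    haveI := hKa i hi
    exact ModuleCat.isZero_of_subsingleton _
  have hmain := smallLE_iff_suppCond ω hω a' n hn1 hsm hT hT' K a hK s
  have hL : (∃ J : Ideal A, PrimeSpectrum.zeroLocus (J : Set A) ⊆ T' ∧
      ∀ i : ℤ, i ≤ s → ∀ a ∈ J, ∀ x : Dual2.HDT A T K i, a • x = 0) ↔ SmallLE T T' K s :=
    Iff.rfl
  rw [hL, hmain]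
  have hht : ∀ (p q : PrimeSpectrum A) (hpq : p ≤ q),
      Order.height (⟨q, hpq⟩ : Set.Ici p) = ((n q - n p).toNat : ℕ∞) := fun p q hpq =>
    height_Ici_eq wellFounded_gt_primeSpectrum n hsm hn2 p q hpq
  constructor
  · intro H p q hpq hpT' hqT h hh i hi
    rw [subsingleton_HDI_LBC_iff ω hω a' p (n p) (hn1 p) K a hK i (n p - i) rfl]
    intro hp
    refine hpT' (H q hqT (n p - i) ?_ p hpq hp)
    rw [hht p q hpq] at hh
    have h1 : (n q - n p).toNat = h := by exact_mod_cast hh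
    have h2 : n p ≤ n q := hsm.monotone hpq
    omega
  · intro H q hq j hj p hpq hp
    by_contra hpT'
    have h2 : n p ≤ n q := hsm.monotone hpq
    have h3 := H p q hpq hpT' hq (n q - n p).toNat (hht p q hpq) (n p - j) (by omega)
    rw [subsingleton_HDI_LBC_iff ω hω a' p (n p) (hn1 p) K a hK (n p - j) j (by omega)] at h3
    exact h3 hp

end Groth.Agent.Lib.helper23.Falt
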