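import Mathlib
import Groth.Prelude.Def_Wider
import Groth.Prelude.Def_DDual2
import Groth.Prelude.Def_DRing4
import Groth.Prelude.Def_DualLC
import Groth.Prelude.Def_CAlg
import Groth.Agent.Lib.Helper23.Falt13
import Groth.Agent.Lib.Helper23.DimFn20

/-!
# helper23: Faltings' annihilator theorem, part 14 — the theorem for finite modules
-/

set_option autoImplicit false
universe u v
open CategoryTheory CategoryTheory.Limits DerivedCategory Pretriangulated TensorProduct IsLocalRing
  Opposite

attribute [local instance] HasDerivedCategory.standard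

namespace Groth.Agent.Lib.helper23.Falt

open Groth.Agent.Lib.helper23 Groth.Agent.Lib.helper23.FBC Groth.Agent.Lib.helper23.DimFn
  Groth.Agent.Lib.helper23.BassD Groth.Agent.Lib.helper23.LDual Groth.Agent.Lib.helper23.DualD
  Groth.Agent.Lib.helper23.HDT

/-- the depth of the zero module is `⊤` -/
lemma depth_eq_top_of_subsingleton (R : Type u) [CommRing R] [IsLocalRing R] (N : Type v)
    [AddCommGroup N] [Module R N] [Subsingleton N] : LocCoh.depth R N = ⊤ := by
  unfold LocCoh.depth LocCoh.idealDepth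
  rw [if_pos (Subsingleton.elim _ _)]

variable {A : Type u} [CommRing A] [IsNoetherianRing A]

/-- the annihilation condition for a module, in terms of `SmallLE` -/
theorem exists_kills_HT_iff_smallLE (T T' : Set (PrimeSpectrum A)) (M : Type u) [AddCommGroup M]
    [Module A M] (s : ℕ) :
    (∃ J : Ideal A, PrimeSpectrum.zeroLocus (J : Set A) ⊆ T' ∧
      ∀ i : ℕ, i ≤ s → ∀ a ∈ J, ∀ x : Dual2.HT T i M, a • x = 0) ↔
      SmallLE T T' (Dual.inD A M) (s : ℤ) := by
  haveI : (Dual.inD A M).IsGE 0 := by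
    dsimp only [Dual.inD]
    infer_instance
  constructor
  · rintro ⟨J, hJ, h⟩
    refine ⟨J, hJ, fun i hi => ?_⟩
    by_cases hi0 : i < 0
    · haveI := G_shift_subsingleton_of_lt (T := T) (Dual.inD A M) 0 i hi0
      exact Kills.of_subsingleton
    · obtain ⟨k, rfl⟩ : ∃ k : ℕ, i = (k : ℤ) := ⟨i.toNat, by omega⟩
      exact Kills.of_equiv (HTEquiv T k M) (h k (by omega))
  · rintro ⟨J, hJ, hk⟩
    exact ⟨J, hJ, fun i hi => Kills.of_equiv (HTEquiv T i M).symm (hk i (by omega))⟩

/-- **Faltings' annihilator theorem for finite modules** (S1711) -/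
theorem faltings_module (hA : ∃ ω : Dual.D A, Dual.IsDualizing A ω)
    (T T' : Set (PrimeSpectrum A)) (hT : StableUnderSpecialization T)
    (hT' : StableUnderSpecialization T') (s : ℕ) (M : Type u) [AddCommGroup M] [Module A M]
    [Module.Finite A M] :
    (∃ J : Ideal A, PrimeSpectrum.zeroLocus (J : Set A) ⊆ T' ∧
      ∀ i : ℕ, i ≤ s → ∀ a ∈ J, ∀ x : Dual2.HT T i M, a • x = 0) ↔
    (∀ p q : PrimeSpectrum A, p ∉ T' → q ∈ T → p ≤ q →
      (s : WithBot ℕ∞) < ((LocCoh.depth (Localization.AtPrime p.asIdeal)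
        (LocalizedModule p.asIdeal.primeCompl M) : ℕ∞) : WithBot ℕ∞) +
          Order.krullDim (Set.Icc p q)) := by
  obtain ⟨ω, hω⟩ := hA
  obtain ⟨a', hGE, n, hn1, hn2, hsm⟩ := exists_dimFn ω hω
  haveI := hGE
  haveI : (Dual.inD A M).IsGE 0 := by
    dsimp only [Dual.inD]
    infer_instance
  have hfin : ∀ j : ℤ, Module.Finite A (Dual.HD A (Dual.inD A M) j) := fun j => by
    haveI : Module.Finite A (ModuleCat.of A M) := inferInstanceAs (Module.Finite A M)
    exact finite_Hn_single' (ModuleCat.of A M) 0 j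
  rw [exists_kills_HT_iff_smallLE,
    smallLE_iff_suppCond ω hω a' n hn1 hsm hT hT' (Dual.inD A M) 0 hfin (s : ℤ)]
  have hkd : ∀ (p q : PrimeSpectrum A), p ≤ q →
      Order.krullDim ↥(Set.Icc p q) = (((n q - n p).toNat : ℕ∞) : WithBot ℕ∞) := fun p q hpq =>
    krullDim_Icc_eq wellFounded_gt_primeSpectrum n hsm hn2 p q hpq
  constructor
  · intro H p q hpT' hqT hpq
    rw [hkd p q hpq]
    have h2 : n p ≤ n q := hsm.monotone hpq
    by_cases hp : p ∈ Module.support A M
    · obtain ⟨δ, e, hδ, -, -, -, hmem, -⟩ := support_ext_bounds ω hω a' p (n p) (hn1 p) M hp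
      rw [hδ]
      have h3 : ¬ (n q - (s : ℤ) ≤ n p - (δ : ℤ)) := fun h4 =>
        hpT' (H q hqT (n p - (δ : ℤ)) h4 p hpq hmem)
      have h5 : s < δ + (n q - n p).toNat := by omega
      exact_mod_cast h5
    · haveI : Subsingleton (LocalizedModule p.asIdeal.primeCompl M) :=
        Module.notMem_support_iff.1 hp
      rw [depth_eq_top_of_subsingleton]
      have h6 : (((⊤ : ℕ∞) : WithBot ℕ∞)) + (((n q - n p).toNat : ℕ∞) : WithBot ℕ∞) =
          ((⊤ : ℕ∞) : WithBot ℕ∞) := by
        rw [← WithBot.coe_add, top_add]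
      rw [h6]
      exact_mod_cast (ENat.coe_lt_top s)
  · intro H q hq j hj p hpq hp
    by_contra hpT'
    have h2 : n p ≤ n q := hsm.monotone hpq
    have hpM : p ∈ Module.support A M := mem_support_of_mem_support_hom ω a' p M j hp
    obtain ⟨δ, e, hδ, -, -, hb, -, -⟩ := support_ext_bounds ω hω a' p (n p) (hn1 p) M hpM
    have h3 := H p q hpT' hq hpq
    rw [hkd p q hpq, hδ] at h3
    have h5 : s < δ + (n q - n p).toNat := by exact_mod_cast h3
    have h6 := (hb j hp).2
    omega

end Groth.Agent.Lib.helper23.Falt
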