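import Mathlib
import Groth.Prelude.Def_Wider
import Groth.Prelude.Def_DualLC
import Groth.Agent.Lib.Helper23.Falt14

/-!
# helper23: Faltings' annihilator theorem, part 15 — supports in `V(I)` (S1765)

`HTIsoH`: local cohomology with supports in `V(I)` (limit over all ideals with zero locus in `V(I)`)
agrees with Mathlib's `localCohomology I` (limit over the powers of `I`).
-/

set_option autoImplicit false
universe u
open CategoryTheory CategoryTheory.Limits

namespace Groth.Agent.Lib.helper23.Falt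

variable {A : Type u} [CommRing A]

/-- ideals with `I ≤ rad J` are the ideals with `V(J) ⊆ V(I)` -/
def toIdealsIn (I : Ideal A) :
    localCohomology.SelfLERadical I ⥤ Dual2.IdealsIn (PrimeSpectrum.zeroLocus (I : Set A)) :=
  ObjectProperty.ιOfLE (fun J' h => (PrimeSpectrum.zeroLocus_subset_zeroLocus_iff J' I).2 h)

instance (I : Ideal A) : (toIdealsIn I).Full :=
  ObjectProperty.full_ιOfLE _

instance (I : Ideal A) : (toIdealsIn I).Faithful :=
  ObjectProperty.faithful_ιOfLE _

instance (I : Ideal A) : (toIdealsIn I).EssSurj where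
  mem_essImage J :=
    ⟨⟨J.obj, (PrimeSpectrum.zeroLocus_subset_zeroLocus_iff J.obj I).1 J.property⟩, ⟨Iso.refl _⟩⟩

instance (I : Ideal A) : (toIdealsIn I).IsEquivalence where

variable [IsNoetherianRing A]

/-- local cohomology with supports in `V(I)` is `localCohomology I` -/
noncomputable def HTIsoH (I : Ideal A) (i : ℕ) :
    localCohomology.ofDiagram.{u, u}
      (Dual2.idealsInDiagram (PrimeSpectrum.zeroLocus (I : Set A))) i ≅ localCohomology I i :=
  (localCohomology.isoOfFinal.{u, u, u} (toIdealsIn I) (Dual2.idealsInDiagram _) i).symm ≪≫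
    localCohomology.isoSelfLERadical I i

/-- **S1765** -/
theorem exists_notMem_kills_H (hA : ∃ ω : Dual.D A, Dual.IsDualizing A ω) (I : Ideal A)
    (M : Type u) [AddCommGroup M] [Module A M] [Module.Finite A M] (p : PrimeSpectrum A)
    (s : ℕ)
    (h : ∀ p' q : PrimeSpectrum A, p' ≤ p → I ≤ q.asIdeal → p' ≤ q →
      (s : WithBot ℕ∞) < ((LocCoh.depth (Localization.AtPrime p'.asIdeal)
        (LocalizedModule p'.asIdeal.primeCompl M) : ℕ∞) : WithBot ℕ∞) +
          Order.krullDim (Set.Icc p' q)) :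
    ∃ f : A, f ∉ p.asIdeal ∧ ∀ i : ℕ, i ≤ s → ∀ x : LocCoh.H I i M, f • x = 0 := by
  let T : Set (PrimeSpectrum A) := PrimeSpectrum.zeroLocus (I : Set A)
  let T' : Set (PrimeSpectrum A) := {q' | ¬ q' ≤ p}
  have hT : StableUnderSpecialization T :=
    (PrimeSpectrum.isClosed_zeroLocus _).stableUnderSpecialization
  have hT' : StableUnderSpecialization T' := by
    intro x y hxy hx hyp
    exact hx (le_trans ((PrimeSpectrum.le_iff_specializes x y).2 hxy) hyp)
  obtain ⟨J, hJ, hk⟩ := (faltings_module hA T T' hT hT' s M).2 (fun p' q hp' hq hpq =>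
    h p' q (not_not.1 hp') ((PrimeSpectrum.mem_zeroLocus _ _).1 hq) hpq)
  have hJp : ¬ J ≤ p.asIdeal := fun hle =>
    hJ ((PrimeSpectrum.mem_zeroLocus _ _).2 hle) le_rfl
  obtain ⟨f, hfJ, hfp⟩ := Set.not_subset.1 hJp
  refine ⟨f, hfp, fun i hi x => ?_⟩
  let e := (HTIsoH I i).app (ModuleCat.of A M)
  have h1 : x = e.hom (e.inv x) := (e.toLinearEquiv.apply_symm_apply x).symm
  have h2 : f • e.inv x = 0 := hk i hi f hfJ (e.inv x)
  rw [h1, ← map_smul, h2, map_zero]

end Groth.Agent.Lib.helper23.Falt
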