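import Mathlib
import Groth.Prelude.Def_Wider
import Groth.Prelude.Def_DDual2
import Groth.Prelude.Def_CAlg
import Groth.Agent.Lib.Helper23.GFA2
import Groth.Agent.Lib.Helper17.GorIso
import Groth.Agent.Lib.Helper23.EEComp

/-!
# Flat finite type ring maps with Gorenstein fibres preserve dualizing complexes (helper23)
-/

set_option autoImplicit false
universe u
open CategoryTheory CategoryTheory.Limits DerivedCategory Pretriangulated TensorProduct

attribute [local instance] HasDerivedCategory.standard

namespace Groth.Agent.Lib.helper23.GFA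

open Groth.Agent.Lib.helper23.FBC Groth.Agent.Lib.helper23.DimFn

attribute [local instance 50] homModuleA
attribute [local instance] FlatBC.preservesFiniteLimits_extendScalars_algebraMap

section Fibre

variable {A B : Type u} [CommRing A] [CommRing B] [Algebra A B]

/-- the Gorenstein property passes to localizations of ring-isomorphic rings. -/
lemma isGorensteinLocalRing_localization_of_ringEquiv {R S : Type u} [CommRing R] [CommRing S]
    (e : R ≃+* S) (hR : LocCoh.IsGorensteinRing R) (q : Ideal S) [q.IsPrime] :
    LocCoh.IsGorensteinLocalRing (Localization.AtPrime q) := by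
  haveI : (q.comap e).IsPrime := Ideal.comap_isPrime e q
  have h1 := hR.isGorensteinLocalRing_localization (q.comap e)
  exact Groth.Agent.Lib.helper17.GorIso.isGorensteinLocalRing_of_ringEquiv
    (Localization.localRingEquiv (q.comap e) q e rfl).symm h1

/-- the closed fibre of `A_p → B_q` is a localization of the fibre ring `B ⊗_A κ(p)`. -/
lemma isGorensteinLocalRing_closedFibre (p : Ideal A) [p.IsPrime] (q : Ideal B) [q.IsPrime]
    [q.LiesOver p] (hGp : LocCoh.IsGorensteinRing (B ⊗[A] p.ResidueField)) :
    letI := Localization.AtPrime.algebraOfLiesOver p q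
    LocCoh.IsGorensteinLocalRing (Localization.AtPrime q ⧸
      (IsLocalRing.maximalIdeal (Localization.AtPrime p)).map
        (algebraMap (Localization.AtPrime p) (Localization.AtPrime q))) := by
  obtain ⟨q', hq'p, hq'⟩ : ∃ q' : Ideal (p.Fiber B), q'.IsPrime ∧
      q'.comap (Algebra.TensorProduct.includeRight : B →ₐ[A] p.Fiber B) = q := by
    let P : PrimeSpectrum A := ⟨p, inferInstance⟩
    let Q : (PrimeSpectrum.comap (algebraMap A B)) ⁻¹' {P} :=
      ⟨⟨q, inferInstance⟩, by
        show PrimeSpectrum.comap (algebraMap A B) ⟨q, inferInstance⟩ = P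
        ext1
        exact (q.over_def p).symm⟩
    let q'' := PrimeSpectrum.preimageEquivFiber A B P Q
    refine ⟨q''.asIdeal, q''.isPrime, ?_⟩
    have h := (PrimeSpectrum.preimageEquivFiber A B P).symm_apply_apply Q
    exact congrArg (fun z => z.1.asIdeal) h
  subst hq'
  have hF : LocCoh.IsGorensteinLocalRing (Localization.AtPrime q') :=
    isGorensteinLocalRing_localization_of_ringEquiv
      (Algebra.TensorProduct.comm A B p.ResidueField).toRingEquiv hGp q'
  letI := Localization.AtPrime.algebraOfLiesOver p
    (q'.comap (Algebra.TensorProduct.includeRight : B →ₐ[A] p.Fiber B))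
  let e := Ideal.Fiber.localizationAlgEquivQuotient p q'
  have hI : (IsLocalRing.maximalIdeal (Localization.AtPrime p)).map
      (algebraMap (Localization.AtPrime p) (Localization.AtPrime
        (q'.comap (Algebra.TensorProduct.includeRight : B →ₐ[A] p.Fiber B)))) =
      p.map (algebraMap A (Localization.AtPrime
        (q'.comap (Algebra.TensorProduct.includeRight : B →ₐ[A] p.Fiber B)))) := by
    rw [← Localization.AtPrime.map_eq_maximalIdeal, Ideal.map_map, ← IsScalarTower.algebraMap_eq]
  exact Groth.Agent.Lib.helper17.GorIso.isGorensteinLocalRing_of_ringEquiv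
    ((Ideal.quotEquivOfEq hI).trans e.symm.toRingEquiv) hF

end Fibre

lemma withBot_add_nat_lt_top (x : WithBot ℕ∞) (n : ℕ) (h : x < ⊤) : x + (n : WithBot ℕ∞) < ⊤ := by
  induction x with
  | bot => simp
  | coe d =>
    have hd : d ≠ ⊤ := by
      rintro rfl
      exact lt_irrefl _ h
    obtain ⟨d', rfl⟩ := ENat.ne_top_iff_exists.1 hd
    have h2 : (((d' : ℕ∞) : WithBot ℕ∞) + (n : WithBot ℕ∞)) =
        (((d' + n : ℕ) : ℕ∞) : WithBot ℕ∞) := by
      push_cast
      rfl
    rw [h2]
    exact WithBot.coe_lt_coe.2 (ENat.natCast_lt_top _)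

section Global

variable (A B : Type u) [CommRing A] [CommRing B] [Algebra A B] [IsNoetherianRing A]
  [IsNoetherianRing B] [Module.Flat A B]

lemma ringKrullDim_lt_top_of_finiteType [Algebra.FiniteType A B] (h : ringKrullDim A < ⊤) :
    ringKrullDim B < ⊤ := by
  obtain ⟨n, f, hf⟩ := Algebra.FiniteType.iff_quotient_mvPolynomial''.1
    (inferInstance : Algebra.FiniteType A B)
  have h1 : ringKrullDim B ≤ ringKrullDim (MvPolynomial (Fin n) A) :=
    ringKrullDim_le_of_surjective f.toRingHom hf
  have h2 : ringKrullDim (MvPolynomial (Fin n) A) = ringKrullDim A + Nat.card (Fin n) :=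
    MvPolynomial.ringKrullDim_of_isNoetherianRing
  refine lt_of_le_of_lt h1 ?_
  rw [h2]
  exact withBot_add_nat_lt_top _ _ h

attribute [local instance] DimFn.flat_atPrime

/-- **flat finite type ring maps with Gorenstein fibres preserve dualizing complexes**. -/
theorem isDualizing_EE_of_gorenstein_fibres [Algebra.FiniteType A B]
    (hG : ∀ p : PrimeSpectrum A, LocCoh.IsGorensteinRing (B ⊗[A] p.asIdeal.ResidueField))
    (K : Dual.D A) (hK : Dual.IsDualizing A K) : Dual.IsDualizing B ((EE A B).obj K) := by
  have hdimB : ringKrullDim B < ⊤ :=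
    ringKrullDim_lt_top_of_finiteType A B (ringKrullDim_lt_top_of_dualizing K hK)
  obtain ⟨a, b, hab, hGE, hLE, hv⟩ := exists_bounds K hK
  haveI := hGE
  haveI : ((EE A B).obj K).IsGE a := isGE_EE B K a
  refine isDualizing_of_pointwise hdimB ((EE A B).obj K) a
    (fun j => FlatBC.finite_homology_extD (algebraMap A B) K j (hK.finite_cohomology j))
    (fun q hq => ?_)
  let p : Ideal A := q.under A
  haveI : q.LiesOver p := ⟨rfl⟩
  let Ap := Localization.AtPrime p
  let Bq := Localization.AtPrime q
  letI algApBq : Algebra Ap Bq := Localization.AtPrime.algebraOfLiesOver p q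
  haveI : IsNoetherianRing Ap :=
    IsLocalization.isNoetherianRing p.primeCompl Ap inferInstance
  haveI : IsNoetherianRing Bq :=
    IsLocalization.isNoetherianRing q.primeCompl Bq inferInstance
  haveI : Module.Flat A Bq := Module.Flat.trans A B Bq
  haveI : IsLocalizedModule p.primeCompl (LinearMap.id : Bq →ₗ[A] Bq) :=
    isLocalizedModule_id p.primeCompl Bq Ap
  haveI : Module.Flat Ap Bq :=
    Module.Flat.of_isLocalizedModule (R := A) (M := Bq) Ap p.primeCompl (LinearMap.id)
  haveI : IsLocalHom (algebraMap Ap Bq) :=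
    Localization.isLocalHom_localRingHom p q (algebraMap A B) Ideal.LiesOver.over
  have hGq := isGorensteinLocalRing_closedFibre p q (hG ⟨p, inferInstance⟩)
  have h1 : Dual.IsDualizing Bq ((EE Ap Bq).obj ((EE A Ap).obj K)) :=
    isDualizing_EE_of_gorenstein_closedFibre hGq _ (isDualizing_EE_atPrime K hK p)
  exact isDualizing_of_iso (((EEcompIso A Ap Bq).app K).symm ≪≫ (EEcompIso A B Bq).app K) h1

end Global

end Groth.Agent.Lib.helper23.GFA
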