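import Mathlib

/-!
# Torsion modules and the adic completion of the ring (helper23)

* `bijective_mk_of_pow_smul_eq_zero`: if `I ^ n` kills the `A`-module `G` (`I` finitely generated),
  then `G → A^ ⊗_A G`, `g ↦ 1 ⊗ g`, is bijective (`A^` the `I`-adic completion of `A`).
* `isAdicComplete_of_pow_smul_eq_zero`.
-/

set_option autoImplicit false
open TensorProduct

namespace Groth.Agent.Lib.helper23.DC

variable {A : Type*} [CommRing A] (I : Ideal A)

section

variable {G : Type*} [AddCommGroup G] [Module A G] (n : ℕ)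
  (hG : ∀ a ∈ I ^ n, ∀ g : G, a • g = 0)

include hG in
lemma lsmul_le_ker : (I ^ n • ⊤ : Submodule A A) ≤ LinearMap.ker (LinearMap.lsmul A G) := by
  intro a ha
  have ha' : a ∈ I ^ n := by
    have : (I ^ n • ⊤ : Submodule A A) = I ^ n := by
      show I ^ n • (⊤ : Ideal A) = I ^ n
      rw [smul_eq_mul, Ideal.mul_top]
    rw [this] at ha
    exact ha
  rw [LinearMap.mem_ker]
  ext g
  exact hG a ha' g

/-- the action of `A / I ^ n` on `G` -/
noncomputable def actQ : (A ⧸ (I ^ n • ⊤ : Submodule A A)) →ₗ[A] (G →ₗ[A] G) :=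
  Submodule.liftQ _ (LinearMap.lsmul A G) (lsmul_le_ker I n hG)

lemma actQ_mk (a : A) (g : G) : actQ I n hG (Submodule.Quotient.mk a) g = a • g := rfl

/-- the retraction `A^ ⊗ G → G` -/
noncomputable def retr : AdicCompletion I A ⊗[A] G →ₗ[A] G :=
  TensorProduct.lift ((actQ I n hG) ∘ₗ (AdicCompletion.eval I A n))

lemma retr_tmul (b : AdicCompletion I A) (g : G) :
    retr I n hG (b ⊗ₜ g) = actQ I n hG (AdicCompletion.eval I A n b) g := rfl

lemma retr_one_tmul (g : G) : retr I n hG ((1 : AdicCompletion I A) ⊗ₜ g) = g := by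
  rw [retr_tmul]
  have : AdicCompletion.eval I A n (1 : AdicCompletion I A) =
      Submodule.Quotient.mk (1 : A) := by
    rw [AdicCompletion.eval_apply, AdicCompletion.val_one]
    rfl
  rw [this, actQ_mk, one_smul]

include hG in
lemma tmul_eq_zero_of_mem (x : AdicCompletion I A)
    (hx : x ∈ (I ^ n • ⊤ : Submodule A (AdicCompletion I A))) (g : G) :
    x ⊗ₜ[A] g = 0 := by
  refine Submodule.smul_induction_on hx (fun j hj b _ => ?_) (fun x y hx hy => ?_)
  · rw [TensorProduct.smul_tmul, hG j hj g, TensorProduct.tmul_zero]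
  · rw [TensorProduct.add_tmul, hx, hy, add_zero]

variable (hI : I.FG)

include hI hG in
/-- `G → A^ ⊗ G` is bijective for `G` killed by a power of `I` -/
theorem bijective_mk_of_pow_smul_eq_zero :
    Function.Bijective (TensorProduct.mk A (AdicCompletion I A) G 1) := by
  constructor
  · intro g g' h
    have h' : (1 : AdicCompletion I A) ⊗ₜ[A] g = (1 : AdicCompletion I A) ⊗ₜ[A] g' := h
    have := congrArg (retr I n hG) h'
    rwa [retr_one_tmul, retr_one_tmul] at this
  · intro t
    refine ⟨retr I n hG t, ?_⟩
    show (1 : AdicCompletion I A) ⊗ₜ[A] (retr I n hG t) = t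
    induction t using TensorProduct.induction_on with
    | zero => rw [map_zero, TensorProduct.tmul_zero]
    | tmul b g =>
      obtain ⟨a, ha⟩ := Submodule.Quotient.mk_surjective _ (AdicCompletion.eval I A n b)
      rw [retr_tmul, ← ha, actQ_mk]
      have hmem : b - a • (1 : AdicCompletion I A) ∈
          (I ^ n • ⊤ : Submodule A (AdicCompletion I A)) := by
        rw [AdicCompletion.pow_smul_top_eq_ker_eval hI, LinearMap.mem_ker, map_sub, map_smul]
        have : AdicCompletion.eval I A n (1 : AdicCompletion I A) =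
            Submodule.Quotient.mk (1 : A) := by
          rw [AdicCompletion.eval_apply, AdicCompletion.val_one]
          rfl
        rw [this, ← ha, ← Submodule.Quotient.mk_smul, smul_eq_mul (a := a), mul_one, sub_self]
      have h0 := tmul_eq_zero_of_mem I n hG _ hmem g
      rw [TensorProduct.sub_tmul, sub_eq_zero] at h0
      rw [h0, TensorProduct.smul_tmul]
    | add x y hx hy =>
      rw [map_add, TensorProduct.tmul_add, hx, hy]

end

end Groth.Agent.Lib.helper23.DC
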