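import Mathlib
import Groth.Prelude.Def_DDual2
import Groth.Agent.Lib.Helper25.DerAdjK
import Groth.Agent.Lib.Helper23.FlatBC1

/-!
# The derived adjunction `- ⊗_A B ⊣ restriction` for a flat algebra (helper23)

* `adjCx`: an adjunction of additive functors induces an adjunction on complexes.
* `adjER φ : extD φ ⊣ restrictD φ` with the formula `adjER_unit_app` for the unit at `Q.obj K`.
-/

set_option autoImplicit false
universe u
open CategoryTheory CategoryTheory.Limits DerivedCategory

attribute [local instance] HasDerivedCategory.standard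

namespace Groth.Agent.Lib.helper23.DC

open Groth.Agent.Lib.Helper25.DerAdjK

section Cx

variable {B : Type*} {C : Type*} [Category B] [Category C] [Preadditive B]
  [Preadditive C] {F₀ : B ⥤ C} {G₀ : C ⥤ B} (adj₀ : F₀ ⊣ G₀) [F₀.Additive] [G₀.Additive]
  {ι : Type*} (c : ComplexShape ι)

/-- the adjunction induced on complexes -/
noncomputable def adjCx : F₀.mapHomologicalComplex c ⊣ G₀.mapHomologicalComplex c :=
  Adjunction.mkOfUnitCounit
    { unit :=
        { app := fun K => unitCx adj₀ c K
          naturality := fun K K' f => unitCx_naturality adj₀ c f }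
      counit :=
        { app := fun I => counitCx adj₀ c I
          naturality := fun I I' f => counitCx_naturality adj₀ c f }
      left_triangle := by
        ext K : 2
        have h := left_triangle_cx adj₀ c K
        simpa using h
      right_triangle := by
        ext I : 2
        have h := right_triangle_cx adj₀ c I
        simpa using h }

lemma adjCx_unit_app (K : HomologicalComplex B c) :
    (adjCx adj₀ c).unit.app K = unitCx adj₀ c K := rfl

end Cx

section Derived

variable {A B : Type u} [CommRing A] [CommRing B] (φ : A →+* B)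
  [PreservesFiniteLimits (ModuleCat.extendScalars.{u, u, u} φ)]

noncomputable instance catCommSqExt :
    CatCommSq ((ModuleCat.extendScalars.{u, u, u} φ).mapHomologicalComplex (ComplexShape.up ℤ))
      (Q : _ ⥤ Dual.D A) (Q : _ ⥤ Dual.D B) (FlatBC.extD φ) :=
  ⟨((ModuleCat.extendScalars.{u, u, u} φ).mapDerivedCategoryFactors).symm⟩

noncomputable instance catCommSqRes :
    CatCommSq ((ModuleCat.restrictScalars.{u} φ).mapHomologicalComplex (ComplexShape.up ℤ))
      (Q : _ ⥤ Dual.D B) (Q : _ ⥤ Dual.D A) (DRing.restrictD φ) :=
  ⟨((ModuleCat.restrictScalars.{u} φ).mapDerivedCategoryFactors).symm⟩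

/-- the derived adjunction `- ⊗_A B ⊣ restriction` (flat case) -/
noncomputable def adjER : FlatBC.extD φ ⊣ DRing.restrictD φ :=
  (adjCx (ModuleCat.extendRestrictScalarsAdj.{u, u, u} φ) (ComplexShape.up ℤ)).localization
    (Q : _ ⥤ Dual.D A) (HomologicalComplex.quasiIso _ _)
    (Q : _ ⥤ Dual.D B) (HomologicalComplex.quasiIso _ _) (FlatBC.extD φ) (DRing.restrictD φ)

lemma adjER_unit_app (K : DRing.Cx A) :
    (adjER φ).unit.app (Q.obj K) =
      Q.map (unitCx (ModuleCat.extendRestrictScalarsAdj.{u, u, u} φ) (ComplexShape.up ℤ) K) ≫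
        ((ModuleCat.restrictScalars.{u} φ).mapDerivedCategoryFactors).inv.app _ ≫
          (DRing.restrictD φ).map
            (((ModuleCat.extendScalars.{u, u, u} φ).mapDerivedCategoryFactors).inv.app K) :=
  Adjunction.localization_unit_app _ _ _ _ _ _ _ K

end Derived

end Groth.Agent.Lib.helper23.DC
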