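import Mathlib
import Groth.Prelude.Def_DDual2
import Groth.Agent.Lib.Helper23.DC2
import Groth.Agent.Lib.Helper23.FBC6

/-!
# Maps from torsion objects into `Y` and `Y ⊗_A B` (helper23)

`B` a flat `A`-algebra, `uB Y : Y ⟶ (Y ⊗_A B)|_A` the unit of the derived adjunction.

* `bijective_postcomp_uB`: `Hom(X, Y) → Hom(X, (Y ⊗ B)|_A)` is bijective as soon as flat base change
  holds for `Hom(X, Y)` and `Hom(X, Y) → B ⊗ Hom(X, Y)` is bijective.
* `subsingleton_hom_cone`: then `Hom(X, C) = 0` for the cone `C` of `uB Y`.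
-/

set_option autoImplicit false
universe u
open CategoryTheory CategoryTheory.Limits DerivedCategory Pretriangulated TensorProduct

attribute [local instance] HasDerivedCategory.standard

namespace Groth.Agent.Lib.helper23.DC

open Groth.Agent.Lib.helper23.FBC

variable {A B : Type u} [CommRing A] [CommRing B] [Algebra A B]
  [PreservesFiniteLimits (ModuleCat.extendScalars.{u, u, u} (algebraMap A B))]

attribute [local instance 50] Groth.Agent.Lib.helper23.FBC.homModuleA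

variable (B) in
/-- the unit `Y ⟶ (Y ⊗_A B)|_A` -/
noncomputable abbrev uB (Y : Dual.D A) :
    Y ⟶ (DRing.restrictD (algebraMap A B)).obj ((EE A B).obj Y) :=
  (adjER (algebraMap A B)).unit.app Y

lemma postcomp_uB_eq {X Y : Dual.D A} (f : X ⟶ Y) :
    f ≫ uB B Y = (adjER (algebraMap A B)).homEquiv X ((EE A B).obj Y) (ℓ (B := B) X Y f) := by
  rw [Adjunction.homEquiv_unit]
  exact (adjER (algebraMap A B)).unit.naturality f

theorem bijective_postcomp_uB (X Y : Dual.D A) (hBB : BB B X Y)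
    (htors : Function.Bijective (TensorProduct.mk A B (X ⟶ Y) 1)) :
    Function.Bijective (fun f : X ⟶ Y => f ≫ uB B Y) := by
  have h : (fun f : X ⟶ Y => f ≫ uB B Y) =
      ((adjER (algebraMap A B)).homEquiv X ((EE A B).obj Y)) ∘
        ((ℓ (B := B) X Y).liftBaseChange B) ∘ (TensorProduct.mk A B (X ⟶ Y) 1) := by
    funext f
    simp only [Function.comp_apply]
    rw [postcomp_uB_eq]
    congr 1
    show ℓ (B := B) X Y f = (ℓ (B := B) X Y).liftBaseChange B ((1 : B) ⊗ₜ[A] f)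
    rw [LinearMap.liftBaseChange_tmul, one_smul]
  rw [h]
  exact ((adjER (algebraMap A B)).homEquiv X ((EE A B).obj Y)).bijective.comp (hBB.comp htors)

omit [PreservesFiniteLimits (ModuleCat.extendScalars.{u, u, u} (algebraMap A B))] in
/-- vanishing of maps into a cone from surjectivity/injectivity of postcomposition -/
theorem subsingleton_hom_cone' {X Y Z C : Dual.D A} (v : Y ⟶ Z) (g : Z ⟶ C)
    (h : C ⟶ Y⟦(1 : ℤ)⟧) (hT : Triangle.mk v g h ∈ distTriang _)
    (hs : Function.Surjective (fun f : X ⟶ Y => f ≫ v))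
    (hi : Function.Injective (fun f : X⟦(-1 : ℤ)⟧ ⟶ Y => f ≫ v)) : Subsingleton (X ⟶ C) := by
  suffices H : ∀ k : X ⟶ C, k = 0 from ⟨fun a b => by rw [H a, H b]⟩
  intro k
  have h1 : k ≫ h = 0 := by
    have h2 : (k ≫ h) ≫ v⟦(1 : ℤ)⟧' = 0 := by
      rw [Category.assoc]
      have : h ≫ v⟦(1 : ℤ)⟧' = 0 := comp_distTriang_mor_zero₃₁ _ hT
      rw [this, comp_zero]
    let eY := (shiftFunctorCompIsoId (Dual.D A) (1 : ℤ) (-1) (by simp)).app Y
    let eZ := (shiftFunctorCompIsoId (Dual.D A) (1 : ℤ) (-1) (by simp)).app Z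
    have hnat : eY.hom ≫ v = (v⟦(1 : ℤ)⟧')⟦(-1 : ℤ)⟧' ≫ eZ.hom :=
      ((shiftFunctorCompIsoId (Dual.D A) (1 : ℤ) (-1) (by simp)).hom.naturality v).symm
    have h3 : ((k ≫ h)⟦(-1 : ℤ)⟧' ≫ eY.hom) ≫ v = 0 := by
      rw [Category.assoc, hnat, ← Category.assoc, ← Functor.map_comp, h2, Functor.map_zero,
        zero_comp]
    have h4 : (k ≫ h)⟦(-1 : ℤ)⟧' ≫ eY.hom = 0 := by
      apply hi
      show ((k ≫ h)⟦(-1 : ℤ)⟧' ≫ eY.hom) ≫ v = 0 ≫ v
      rw [h3, zero_comp]
    have h5 : (k ≫ h)⟦(-1 : ℤ)⟧' = 0 := by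
      rw [← cancel_mono eY.hom, h4, zero_comp]
    exact (shiftFunctor (Dual.D A) (-1 : ℤ)).map_injective (by rw [h5, Functor.map_zero])
  obtain ⟨k', hk'⟩ := Triangle.coyoneda_exact₃ _ hT k h1
  obtain ⟨f, hf⟩ := hs k'
  have hf' : f ≫ v = k' := hf
  have h0 : v ≫ g = 0 := comp_distTriang_mor_zero₁₂ _ hT
  rw [hk', ← hf']
  show (f ≫ v) ≫ g = 0
  rw [Category.assoc, h0, comp_zero]

end Groth.Agent.Lib.helper23.DC
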