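import Mathlib
import Groth.Prelude.Def_DDual2
import Groth.Prelude.Def_DRing3
import Groth.Agent.Lib.Helper23.DC1
import Groth.Agent.Lib.Helper23.DC3
import Groth.Agent.Lib.Helper23.FBC7
import Groth.Agent.Lib.Helper23.LDual6
import Groth.Agent.Lib.Helper23.CechD4
import Groth.Agent.Lib.Helper23.DNak

/-!
# The cone of `Y ⟶ (Y ⊗_A A^)|_A` has no local cohomology (helper23)

`A` Noetherian, `I` an ideal, `B = A^` the `I`-adic completion (flat over `A`), `Y` bounded below.
For `C` a cone of the unit `uB B Y : Y ⟶ (Y ⊗_A B)|_A`: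

* `subsingleton_hom_cone_torsion`: `Hom(T[j], C) = 0` for `T` finite killed by a power of `I`.
* `subsingleton_HDI_cone`: `HDI I C i = 0`.
* `isZero_RgammaI_cone`: `RΓ_I C = 0`.
-/

set_option autoImplicit false
universe u
open CategoryTheory CategoryTheory.Limits DerivedCategory Pretriangulated TensorProduct

attribute [local instance] HasDerivedCategory.standard

namespace Groth.Agent.Lib.helper23.DC

open Groth.Agent.Lib.helper23.FBC

variable {A : Type u} [CommRing A]

/-- maps out of `T[j]` are killed by what kills `T` -/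
lemma smul_hom_eq_zero_of_single (T : ModuleCat.{u} A) (a : A) (hT : ∀ t : T, a • t = 0) (j : ℤ)
    (Y : Dual.D A) (f : ((singleFunctor (ModuleCat.{u} A) 0).obj T)⟦j⟧ ⟶ Y) : a • f = 0 := by
  have h0 : a • 𝟙 T = 0 := by
    apply ModuleCat.hom_ext
    apply LinearMap.ext
    intro t
    rw [ModuleCat.hom_smul, LinearMap.smul_apply, ModuleCat.hom_id, LinearMap.id_apply, hT]
    rfl
  have h1 : a • 𝟙 (((singleFunctor (ModuleCat.{u} A) 0).obj T)⟦j⟧) = 0 := by
    rw [← CategoryTheory.Functor.map_id, ← CategoryTheory.Functor.map_id, ← Functor.map_smul,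
      ← Functor.map_smul, h0, Functor.map_zero, Functor.map_zero]
  have h : a • f = (a • 𝟙 _) ≫ f := by rw [Linear.smul_comp, Category.id_comp]
  rw [h, h1, zero_comp]

variable [IsNoetherianRing A] (I : Ideal A)

attribute [local instance] FlatBC.preservesFiniteLimits_extendScalars_algebraMap
attribute [local instance 50] Groth.Agent.Lib.helper23.FBC.homModuleA

lemma BB_shift_single (Y : Dual.D A) (a : ℤ) [Y.IsGE a] (T : Type u) [AddCommGroup T] [Module A T]
    [Module.Finite A T] (j : ℤ) :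
    BB (AdicCompletion I A) (((singleFunctor (ModuleCat.{u} A) 0).obj (ModuleCat.of A T))⟦j⟧) Y := by
  have h : PrY (AdicCompletion I A) Y ((singleFunctor (ModuleCat.{u} A) 0).obj (ModuleCat.of A T)) :=
    fun i => BB_single_finite' (AdicCompletion I A) Y a i (ModuleCat.of A T)
  exact BB.of_iso (Iso.refl _) ((shiftFunctorZero (Dual.D A) ℤ).app Y) (PrY.shift h j 0)

theorem bijective_postcomp_uB_torsion (Y : Dual.D A) (a : ℤ) [Y.IsGE a] (T : Type u)
    [AddCommGroup T] [Module A T] [Module.Finite A T] (n : ℕ)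
    (hT : ∀ x ∈ I ^ n, ∀ t : T, x • t = 0) (j : ℤ) :
    Function.Bijective (fun f : ((singleFunctor (ModuleCat.{u} A) 0).obj (ModuleCat.of A T))⟦j⟧ ⟶ Y =>
      f ≫ uB (AdicCompletion I A) Y) := by
  refine bijective_postcomp_uB _ Y (BB_shift_single I Y a T j) ?_
  refine bijective_mk_of_pow_smul_eq_zero I n (fun x hx f => ?_) (IsNoetherian.noetherian I)
  exact smul_hom_eq_zero_of_single (ModuleCat.of A T) x (hT x hx) j Y f

theorem subsingleton_hom_cone_torsion (Y : Dual.D A) (a : ℤ) [Y.IsGE a] (T : Type u)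
    [AddCommGroup T] [Module A T] [Module.Finite A T] (n : ℕ)
    (hT : ∀ x ∈ I ^ n, ∀ t : T, x • t = 0) (j : ℤ) {C : Dual.D A}
    (g : (DRing.restrictD (algebraMap A (AdicCompletion I A))).obj
      ((EE A (AdicCompletion I A)).obj Y) ⟶ C) (h : C ⟶ Y⟦(1 : ℤ)⟧)
    (hTr : Triangle.mk (uB (AdicCompletion I A) Y) g h ∈ distTriang _) :
    Subsingleton (((singleFunctor (ModuleCat.{u} A) 0).obj (ModuleCat.of A T))⟦j⟧ ⟶ C) := by
  refine subsingleton_hom_cone' (uB (AdicCompletion I A) Y) g h hTr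
    (bijective_postcomp_uB_torsion I Y a T n hT j).2 ?_
  have hb := (bijective_postcomp_uB_torsion I Y a T n hT (j + (-1))).1
  let e : ((singleFunctor (ModuleCat.{u} A) 0).obj (ModuleCat.of A T))⟦j + (-1)⟧ ≅
      (((singleFunctor (ModuleCat.{u} A) 0).obj (ModuleCat.of A T))⟦j⟧)⟦(-1 : ℤ)⟧ :=
    (shiftFunctorAdd (Dual.D A) j (-1)).app _
  intro f₁ f₂ h12
  have h12' : f₁ ≫ uB (AdicCompletion I A) Y = f₂ ≫ uB (AdicCompletion I A) Y := h12
  have : e.hom ≫ f₁ = e.hom ≫ f₂ := by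
    apply hb
    show (e.hom ≫ f₁) ≫ uB (AdicCompletion I A) Y = (e.hom ≫ f₂) ≫ uB (AdicCompletion I A) Y
    rw [Category.assoc, Category.assoc, h12']
  exact (cancel_epi e.hom).1 this

theorem subsingleton_stage_cone (Y : Dual.D A) (a : ℤ) [Y.IsGE a] {C : Dual.D A}
    (g : (DRing.restrictD (algebraMap A (AdicCompletion I A))).obj
      ((EE A (AdicCompletion I A)).obj Y) ⟶ C) (h : C ⟶ Y⟦(1 : ℤ)⟧)
    (hTr : Triangle.mk (uB (AdicCompletion I A) Y) g h ∈ distTriang _) (i : ℤ) (n : ℕ) :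
    Subsingleton (LDual.stage I C i n) := by
  haveI := subsingleton_hom_cone_torsion I Y a (A ⧸ I ^ n) n (fun x hx t => by
    obtain ⟨t, rfl⟩ := Ideal.Quotient.mk_surjective t
    show Ideal.Quotient.mk (I ^ n) (x • t) = 0
    rw [Ideal.Quotient.eq_zero_iff_mem]
    exact Ideal.mul_mem_right _ _ hx) (-i) g h hTr
  show Subsingleton (Dual.inD A (A ⧸ I ^ n) ⟶ C⟦i⟧)
  refine ⟨fun f₁ f₂ => ?_⟩
  have h1 : f₁⟦-i⟧' ≫ (shiftFunctorCompIsoId (Dual.D A) i (-i) (by omega)).hom.app C =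
      f₂⟦-i⟧' ≫ (shiftFunctorCompIsoId (Dual.D A) i (-i) (by omega)).hom.app C :=
    this.elim _ _
  rw [cancel_mono] at h1
  exact (shiftFunctor (Dual.D A) (-i)).map_injective h1

theorem subsingleton_HDI_cone (Y : Dual.D A) (a : ℤ) [Y.IsGE a] {C : Dual.D A}
    (g : (DRing.restrictD (algebraMap A (AdicCompletion I A))).obj
      ((EE A (AdicCompletion I A)).obj Y) ⟶ C) (h : C ⟶ Y⟦(1 : ℤ)⟧)
    (hTr : Triangle.mk (uB (AdicCompletion I A) Y) g h ∈ distTriang _) (i : ℤ) :
    Subsingleton (Dual2.HDI A I C i : ModuleCat.{u + 1} A) :=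
  LDual.subsingleton_of_stages I C i (fun n => subsingleton_stage_cone I Y a g h hTr i n)

/-- **`RΓ_I` kills the cone of `Y ⟶ (Y ⊗_A A^)|_A`** (`Y` bounded below) -/
theorem isZero_RgammaI_cone [DRing.HasRgammaI I] (Y : Dual.D A) (a : ℤ) [Y.IsGE a] {C : Dual.D A}
    (g : (DRing.restrictD (algebraMap A (AdicCompletion I A))).obj
      ((EE A (AdicCompletion I A)).obj Y) ⟶ C) (h : C ⟶ Y⟦(1 : ℤ)⟧)
    (hTr : Triangle.mk (uB (AdicCompletion I A) Y) g h ∈ distTriang _) :
    IsZero ((DRing.RgammaI I).obj C) := by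
  apply DNak.isZero_of_homology
  intro n
  obtain ⟨e⟩ := LDual.HD_RgammaI_equiv_HDI I C n
  haveI := subsingleton_HDI_cone I Y a g h hTr n
  rw [ModuleCat.isZero_iff_subsingleton]
  exact e.toEquiv.subsingleton

end Groth.Agent.Lib.helper23.DC
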