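import Mathlib
import Groth.Prelude.Def_DDual2
import Groth.Prelude.Def_DRing3
import Groth.Agent.Lib.Helper23.DC4
import Groth.Agent.Lib.Helper13.GM2

/-!
# Universal property of `Y ⟶ (Y ⊗_A A^)|_A` among maps to derived complete objects (helper23)

`A` Noetherian, `Y` bounded below, `M` derived complete: precomposition with `uB A^ Y` is a
bijection `Hom((Y ⊗ A^)|_A, M) ≃ Hom(Y, M)`.
-/

set_option autoImplicit false
universe u
open CategoryTheory CategoryTheory.Limits DerivedCategory Pretriangulated TensorProduct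

attribute [local instance] HasDerivedCategory.standard

namespace Groth.Agent.Lib.helper23.DC

open Groth.Agent.Lib.helper23.FBC

variable {A : Type u} [CommRing A] [IsNoetherianRing A] (I : Ideal A)

attribute [local instance] FlatBC.preservesFiniteLimits_extendScalars_algebraMap

theorem bijective_precomp_uB (Y : Dual.D A) (a : ℤ) [Y.IsGE a] (M : Dual.D A)
    (hM : DRing.IsDerivedComplete I M) :
    Function.Bijective (fun ψ : (DRing.restrictD (algebraMap A (AdicCompletion I A))).obj
      ((EE A (AdicCompletion I A)).obj Y) ⟶ M => uB (AdicCompletion I A) Y ≫ ψ) := by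
  obtain ⟨fs, rfl⟩ := CechD.exists_list_span I
  haveI : DRing.HasRgammaI (Ideal.span {x : A | x ∈ fs}) := CechD.hasRgammaI _
  obtain ⟨C, g, h, hT⟩ := distinguished_cocone_triangle
    (uB (AdicCompletion (Ideal.span {x : A | x ∈ fs}) A) Y)
  have hC := isZero_RgammaI_cone _ Y a g h hT
  have h0 : Subsingleton (C ⟶ M) :=
    Groth.Agent.Lib.helper13.GM.subsingleton_hom_of_isZero_RgammaI fs C M hC hM
  have h1 : Subsingleton (C ⟶ M⟦(1 : ℤ)⟧) :=
    Groth.Agent.Lib.helper13.GM.subsingleton_hom_of_isZero_RgammaI fs C _ hC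
      (Groth.Agent.Lib.helper13.DComp.isDerivedComplete_shift _ M hM 1)
  exact ⟨DCompl.inj_of_subsingleton _ hT M h0, DCompl.surj_of_subsingleton _ hT M h1⟩

end Groth.Agent.Lib.helper23.DC
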