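import Mathlib
import Groth.Prelude.Def_DDual2
import Groth.Prelude.Def_DRing3
import Groth.Agent.Lib.Helper23.DC3
import Groth.Agent.Lib.Helper23.NCFree

/-!
# Cohomology of the unit `K ⟶ (K ⊗_A B)|_A` (helper23)
-/

set_option autoImplicit false
universe u v₁ v₂ u₁ u₂
open CategoryTheory CategoryTheory.Limits DerivedCategory Pretriangulated TensorProduct

attribute [local instance] HasDerivedCategory.standard

namespace Groth.Agent.Lib.helper23.DC

open Groth.Agent.Lib.Helper25.DerAdjK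

section Abstract

variable {C : Type u₁} {D : Type u₂} [Category.{v₁} C] [Category.{v₂} D] [Abelian C] [Abelian D]
  {F₀ : C ⥤ D} {G₀ : D ⥤ C} (adj₀ : F₀ ⊣ G₀) [F₀.Additive] [G₀.Additive]
  [(F₀ ⋙ G₀).PreservesHomology]

lemma homologyIso_homologyData_left (S : ShortComplex C) [S.HasHomology] :
    S.homologyData.left.homologyIso.hom = 𝟙 S.homology := by
  dsimp [ShortComplex.LeftHomologyData.homologyIso, ShortComplex.leftHomologyIso,
    ShortComplex.LeftHomologyData.leftHomologyIso, ShortComplex.leftHomologyMapIso']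
  refine (ShortComplex.leftHomologyMap'_comp (𝟙 S) (𝟙 S) S.homologyData.left S.leftHomologyData
    S.homologyData.left).symm.trans ?_
  rw [Category.comp_id]
  exact ShortComplex.leftHomologyMap'_id _

/-- the short complex morphism underlying the unit -/
lemma homologyMap_unitCx (K : CochainComplex C ℤ) (n : ℤ) :
    HomologicalComplex.homologyMap (unitCx adj₀ (ComplexShape.up ℤ) K) n =
      adj₀.unit.app (K.homology n) ≫ ((K.sc n).mapHomologyIso (F₀ ⋙ G₀)).inv := by
  let S := K.sc n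
  let h := S.homologyData.left
  let φ : S ⟶ S.map (F₀ ⋙ G₀) :=
    (HomologicalComplex.shortComplexFunctor C (ComplexShape.up ℤ) n).map
      (unitCx adj₀ (ComplexShape.up ℤ) K)
  let γ : ShortComplex.LeftHomologyMapData φ h (h.map (F₀ ⋙ G₀)) :=
    { φK := adj₀.unit.app h.K
      φH := adj₀.unit.app h.H
      commi := (adj₀.unit.naturality h.i).symm
      commf' := by
        rw [← cancel_mono (h.map (F₀ ⋙ G₀)).i, Category.assoc, Category.assoc,
          ShortComplex.LeftHomologyData.f'_i]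
        have h1 : adj₀.unit.app h.K ≫ (h.map (F₀ ⋙ G₀)).i = h.i ≫ adj₀.unit.app S.X₂ :=
          (adj₀.unit.naturality h.i).symm
        have h2 : h.f' ≫ (h.i ≫ adj₀.unit.app S.X₂) = S.f ≫ adj₀.unit.app S.X₂ := by
          rw [← Category.assoc, ShortComplex.LeftHomologyData.f'_i]
        exact (congrArg (fun t => h.f' ≫ t) h1).trans (h2.trans (adj₀.unit.naturality S.f))
      commπ := adj₀.unit.naturality h.π }
  have h1 := γ.homologyMap_eq
  have h2 : h.homologyIso.hom = 𝟙 S.homology := homologyIso_homologyData_left S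
  rw [h2] at h1
  exact h1.trans (Category.id_comp _)

end Abstract

section Derived

variable {A B : Type u} [CommRing A] [CommRing B] (φ : A →+* B)
  [PreservesFiniteLimits (ModuleCat.extendScalars.{u, u, u} φ)]

/-- `M ↦ (B ⊗_A M)|_A` -/
noncomputable abbrev ER : ModuleCat.{u} A ⥤ ModuleCat.{u} A :=
  ModuleCat.extendScalars.{u, u, u} φ ⋙ ModuleCat.restrictScalars.{u} φ

/-- the comparison `Q (K₀ ⊗ B)|_A ≅ ((Q K₀) ⊗ B)|_A` -/
noncomputable def isoQER (K₀ : DRing.Cx A) :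
    Q.obj (((ModuleCat.restrictScalars.{u} φ).mapHomologicalComplex (ComplexShape.up ℤ)).obj
      (((ModuleCat.extendScalars.{u, u, u} φ).mapHomologicalComplex (ComplexShape.up ℤ)).obj K₀)) ≅
      (DRing.restrictD φ).obj ((FlatBC.extD φ).obj (Q.obj K₀)) :=
  ((ModuleCat.restrictScalars.{u} φ).mapDerivedCategoryFactors).symm.app _ ≪≫
    (DRing.restrictD φ).mapIso
      (((ModuleCat.extendScalars.{u, u, u} φ).mapDerivedCategoryFactors).symm.app K₀)

lemma adjER_unit_app' (K₀ : DRing.Cx A) :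
    (adjER φ).unit.app (Q.obj K₀) =
      Q.map (unitCx (ModuleCat.extendRestrictScalarsAdj.{u, u, u} φ) (ComplexShape.up ℤ) K₀) ≫
        (isoQER φ K₀).hom := by
  rw [adjER_unit_app]
  rfl

/-- the iso `H^n(((Q K₀) ⊗ B)|_A) ≅ (B ⊗ H^n(Q K₀))|_A` -/
noncomputable def θQ (K₀ : DRing.Cx A) (n : ℤ) :
    (homologyFunctor (ModuleCat.{u} A) n).obj
      ((DRing.restrictD φ).obj ((FlatBC.extD φ).obj (Q.obj K₀))) ≅
      (ER φ).obj ((homologyFunctor (ModuleCat.{u} A) n).obj (Q.obj K₀)) :=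
  (homologyFunctor (ModuleCat.{u} A) n).mapIso (isoQER φ K₀).symm ≪≫
    (homologyFunctorFactors (ModuleCat.{u} A) n).app _ ≪≫
    (K₀.sc n).mapHomologyIso (ER φ) ≪≫
    (ER φ).mapIso ((homologyFunctorFactors (ModuleCat.{u} A) n).app K₀).symm

lemma unit_θQ (K₀ : DRing.Cx A) (n : ℤ) :
    (homologyFunctor (ModuleCat.{u} A) n).map ((adjER φ).unit.app (Q.obj K₀)) ≫ (θQ φ K₀ n).hom =
      (ModuleCat.extendRestrictScalarsAdj.{u, u, u} φ).unit.app
        ((homologyFunctor (ModuleCat.{u} A) n).obj (Q.obj K₀)) := by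
  let adj := ModuleCat.extendRestrictScalarsAdj.{u, u, u} φ
  let uK := unitCx adj (ComplexShape.up ℤ) K₀
  let hFF := homologyFunctorFactors (ModuleCat.{u} A) n
  let ΦK : DRing.Cx A := ((ModuleCat.restrictScalars.{u} φ).mapHomologicalComplex
    (ComplexShape.up ℤ)).obj (((ModuleCat.extendScalars.{u, u, u} φ).mapHomologicalComplex
      (ComplexShape.up ℤ)).obj K₀)
  let X0 : ModuleCat.{u} A := (homologyFunctor (ModuleCat.{u} A) n).obj (Q.obj K₀)
  let X1 : ModuleCat.{u} A := (homologyFunctor (ModuleCat.{u} A) n).obj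
    ((DRing.restrictD φ).obj ((FlatBC.extD φ).obj (Q.obj K₀)))
  let X2 : ModuleCat.{u} A := (homologyFunctor (ModuleCat.{u} A) n).obj (Q.obj ΦK)
  let X3 : ModuleCat.{u} A := ΦK.homology n
  let X4 : ModuleCat.{u} A := (ER φ).obj (K₀.homology n)
  let X5 : ModuleCat.{u} A := (ER φ).obj X0
  let Y : ModuleCat.{u} A := K₀.homology n
  let a : X0 ⟶ X1 := (homologyFunctor (ModuleCat.{u} A) n).map ((adjER φ).unit.app (Q.obj K₀))
  let b : X1 ⟶ X2 := (homologyFunctor (ModuleCat.{u} A) n).map (isoQER φ K₀).inv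
  let c : X2 ⟶ X3 := hFF.hom.app ΦK
  let d : X3 ⟶ X4 := ((K₀.sc n).mapHomologyIso (ER φ)).hom
  let e : X4 ⟶ X5 := (ER φ).map (hFF.inv.app K₀)
  let q : X0 ⟶ X2 := (homologyFunctor (ModuleCat.{u} A) n).map (Q.map uK)
  let r : X0 ⟶ Y := hFF.hom.app K₀
  let hm : Y ⟶ X3 := HomologicalComplex.homologyMap uK n
  let τ : Y ⟶ X4 := adj.unit.app (K₀.homology n)
  let τ' : X0 ⟶ X5 := adj.unit.app X0
  let e' : X5 ⟶ X4 := (ER φ).map (hFF.hom.app K₀)
  have h1 : a ≫ b = q := by
    show (homologyFunctor (ModuleCat.{u} A) n).map ((adjER φ).unit.app (Q.obj K₀)) ≫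
      (homologyFunctor (ModuleCat.{u} A) n).map (isoQER φ K₀).inv =
      (homologyFunctor (ModuleCat.{u} A) n).map (Q.map uK)
    rw [adjER_unit_app', ← Functor.map_comp, Category.assoc, Iso.hom_inv_id, Category.comp_id]
  have h2 : q ≫ c = r ≫ hm := hFF.hom.naturality uK
  have h3 : hm ≫ d = τ := (Iso.eq_comp_inv _).1 (homologyMap_unitCx adj K₀ n)
  have h4 : r ≫ τ = τ' ≫ e' := adj.unit.naturality (hFF.hom.app K₀)
  have h5 : e' ≫ e = 𝟙 X5 := by
    show (ER φ).map (hFF.hom.app K₀) ≫ (ER φ).map (hFF.inv.app K₀) = 𝟙 _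
    rw [← Functor.map_comp, Iso.hom_inv_id_app, CategoryTheory.Functor.map_id]
  show a ≫ b ≫ c ≫ d ≫ e = τ'
  rw [reassoc_of% h1, reassoc_of% h2, reassoc_of% h3, reassoc_of% h4, h5, Category.comp_id]

/-- **cohomology of the unit** `K ⟶ (K ⊗_A B)|_A` is `x ↦ 1 ⊗ x`. -/
theorem exists_iso_homology_unit (K : Dual.D A) (n : ℤ) :
    ∃ θ : (homologyFunctor (ModuleCat.{u} A) n).obj
        ((DRing.restrictD φ).obj ((FlatBC.extD φ).obj K)) ≅
        (ER φ).obj ((homologyFunctor (ModuleCat.{u} A) n).obj K),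
      (homologyFunctor (ModuleCat.{u} A) n).map ((adjER φ).unit.app K) ≫ θ.hom =
        (ModuleCat.extendRestrictScalarsAdj.{u, u, u} φ).unit.app
          ((homologyFunctor (ModuleCat.{u} A) n).obj K) := by
  let K₀ := Q.objPreimage K
  let e : Q.obj K₀ ≅ K := Q.objObjPreimageIso K
  let adj := ModuleCat.extendRestrictScalarsAdj.{u, u, u} φ
  let H := homologyFunctor (ModuleCat.{u} A) n
  let RE := FlatBC.extD φ ⋙ DRing.restrictD φ
  refine ⟨H.mapIso (RE.mapIso e.symm) ≪≫ θQ φ K₀ n ≪≫ (ER φ).mapIso (H.mapIso e), ?_⟩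
  have h1 : H.map ((adjER φ).unit.app K) ≫ H.map (RE.map e.inv) =
      H.map e.inv ≫ H.map ((adjER φ).unit.app (Q.obj K₀)) := by
    rw [← Functor.map_comp, ← Functor.map_comp]
    congr 1
    exact ((adjER φ).unit.naturality e.inv).symm
  have h2 : H.map ((adjER φ).unit.app (Q.obj K₀)) ≫ (θQ φ K₀ n).hom =
      adj.unit.app (H.obj (Q.obj K₀)) := unit_θQ φ K₀ n
  have h3 : adj.unit.app (H.obj (Q.obj K₀)) ≫ (ER φ).map (H.map e.hom) =
      H.map e.hom ≫ adj.unit.app (H.obj K) := (adj.unit.naturality (H.map e.hom)).symm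
  show H.map ((adjER φ).unit.app K) ≫ H.map (RE.map e.inv) ≫ (θQ φ K₀ n).hom ≫
    (ER φ).map (H.map e.hom) = adj.unit.app (H.obj K)
  rw [reassoc_of% h1, reassoc_of% h2, h3, ← Category.assoc, ← Functor.map_comp, Iso.inv_hom_id,
    CategoryTheory.Functor.map_id, Category.id_comp]

end Derived

end Groth.Agent.Lib.helper23.DC
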