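import Mathlib
import Groth.Prelude.Def_DDual2
import Groth.Prelude.Def_DRing3
import Groth.Agent.Lib.Helper23.DC5
import Groth.Agent.Lib.Helper23.DC6
import Groth.Agent.Lib.Helper23.ExtSc2
import Groth.Agent.Lib.Helper23.DCompl5
import Groth.Agent.Lib.Helper23.DCompl9
import Groth.Agent.Lib.Helper23.CechD8
import Groth.Agent.Lib.Helper13.RKF1
import Groth.Agent.Lib.Helper13.DComp8

/-!
# Derived completion of complexes with finite cohomology over a Noetherian ring (helper23)

`K^∧ ≅ (K ⊗_A A^)|_A` for `K` bounded below with finite cohomology, and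
`H^n(K^∧) ≅ H^n(K)^∧` for all `K` with finite cohomology (S7060).
-/

set_option autoImplicit false
universe u
open CategoryTheory CategoryTheory.Limits DerivedCategory Pretriangulated TensorProduct

attribute [local instance] HasDerivedCategory.standard

namespace Groth.Agent.Lib.helper23.DC

open Groth.Agent.Lib.helper23.FBC

variable {A : Type u} [CommRing A] [IsNoetherianRing A] (I : Ideal A)

attribute [local instance] FlatBC.preservesFiniteLimits_extendScalars_algebraMap

/-- `(A^ ⊗_A M)|_A ≃ M^` for `M` finite -/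
noncomputable def erEquiv (M : ModuleCat.{u} A) [Module.Finite A M] :
    ((ER (algebraMap A (AdicCompletion I A))).obj M) ≃ₗ[A] AdicCompletion I M :=
  (Groth.Agent.Lib.helper13.RKF.extResLE (algebraMap A (AdicCompletion I A)) M) ≪≫ₗ
    (ExtSc.T (B := AdicCompletion I A) M) ≪≫ₗ
    (AdicCompletion.ofTensorProductEquivOfFiniteNoetherian I M).restrictScalars A

lemma erEquiv_unit (M : ModuleCat.{u} A) [Module.Finite A M] (x : M) :
    erEquiv I M ((ModuleCat.extendRestrictScalarsAdj.{u, u, u}
      (algebraMap A (AdicCompletion I A))).unit.app M x) = AdicCompletion.of I M x := by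
  show AdicCompletion.ofTensorProduct I M ((1 : AdicCompletion I A) ⊗ₜ[A] x) = _
  rw [AdicCompletion.ofTensorProduct_tmul, one_smul]

/-- `H^n((K ⊗ A^)|_A) ≃ H^n(K)^`, compatibly with the unit -/
theorem exists_equiv_HD_uB (K : Dual.D A) (n : ℤ) [Module.Finite A (Dual.HD A K n)] :
    ∃ e : Dual.HD A ((DRing.restrictD (algebraMap A (AdicCompletion I A))).obj
        ((EE A (AdicCompletion I A)).obj K)) n ≃ₗ[A] AdicCompletion I (Dual.HD A K n),
      ∀ x : Dual.HD A K n,
        e (((homologyFunctor (ModuleCat.{u} A) n).map (uB (AdicCompletion I A) K)).hom x) =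
          AdicCompletion.of I (Dual.HD A K n) x := by
  obtain ⟨θ, hθ⟩ := exists_iso_homology_unit (algebraMap A (AdicCompletion I A)) K n
  refine ⟨θ.toLinearEquiv ≪≫ₗ erEquiv I ((homologyFunctor (ModuleCat.{u} A) n).obj K), ?_⟩
  intro x
  have h1 : θ.hom.hom (((homologyFunctor (ModuleCat.{u} A) n).map
      (uB (AdicCompletion I A) K)).hom x) =
      (ModuleCat.extendRestrictScalarsAdj.{u, u, u} (algebraMap A (AdicCompletion I A))).unit.app
        ((homologyFunctor (ModuleCat.{u} A) n).obj K) x := by
    rw [← hθ]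
    rfl
  show erEquiv I _ (θ.hom.hom _) = _
  rw [h1]
  exact erEquiv_unit I _ x

/-- adically complete modules are derived complete (S7048) -/
lemma isDerivedComplete_inD_of_isAdicComplete {A : Type u} [CommRing A] (I : Ideal A)
    (M : Type u) [AddCommGroup M] [Module A M] [IsAdicComplete I M] :
    DRing.IsDerivedComplete I (Dual.inD A M) :=
  fun f hf n => DCompl.En_of_complete I f hf n

/-- derived completeness can be checked on cohomology (S7050) -/
lemma isDerivedComplete_of_HD {A : Type u} [CommRing A] (I : Ideal A) (K : Dual.D A)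
    (h : ∀ i : ℤ, DRing.IsDerivedComplete I (Dual.inD A (Dual.HD A K i))) :
    DRing.IsDerivedComplete I K :=
  fun f hf => (DCompl.general_criterion f K).2 (fun i =>
    DCompl.seqC_of_En f (h i f hf 0) (h i f hf 1))

/-- `(K ⊗_A A^)|_A` is derived complete if `K` has finite cohomology -/
theorem isDerivedComplete_RE (K : Dual.D A) (hK : ∀ n : ℤ, Module.Finite A (Dual.HD A K n)) :
    DRing.IsDerivedComplete I ((DRing.restrictD (algebraMap A (AdicCompletion I A))).obj
      ((EE A (AdicCompletion I A)).obj K)) := by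
  apply isDerivedComplete_of_HD
  intro i
  haveI := hK i
  obtain ⟨e, -⟩ := exists_equiv_HD_uB I K i
  haveI : IsAdicComplete I (AdicCompletion I (Dual.HD A K i)) :=
    AdicCompletion.isAdicComplete (IsNoetherian.noetherian I)
  refine Groth.Agent.Lib.helper13.DComp.isDerivedComplete_of_iso I
    ((singleFunctor (ModuleCat.{u} A) 0).mapIso e.symm.toModuleIso)
    (isDerivedComplete_inD_of_isAdicComplete I (AdicCompletion I (Dual.HD A K i)))

variable [DRing.HasDerivedCompletion I]

/-- **`K^∧ ≅ (K ⊗_A A^)|_A`** for `K` bounded below with finite cohomology -/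
theorem exists_derivedCompletion_iso_RE (K : Dual.D A) (a : ℤ) [K.IsGE a]
    (hK : ∀ n : ℤ, Module.Finite A (Dual.HD A K n)) :
    ∃ e : ((DRing.derivedCompletion I).obj K).obj ≅
        (DRing.restrictD (algebraMap A (AdicCompletion I A))).obj
          ((EE A (AdicCompletion I A)).obj K),
      DRing.toDerivedCompletion I K ≫ e.hom = uB (AdicCompletion I A) K :=
  Groth.Agent.Lib.helper13.DComp.nonempty_derivedCompletion_iso I K _ (uB (AdicCompletion I A) K)
    (isDerivedComplete_RE I K hK) (fun M hM => bijective_precomp_uB I K a M hM)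

/-- S7060 for bounded below complexes -/
theorem exists_equiv_HD_completion_of_isGE (K : Dual.D A) (a : ℤ) [K.IsGE a]
    (hK : ∀ n : ℤ, Module.Finite A (Dual.HD A K n)) (n : ℤ) :
    ∃ e : Dual.HD A ((DRing.derivedCompletion I).obj K).obj n ≃ₗ[A]
        AdicCompletion I (Dual.HD A K n),
      ∀ x : Dual.HD A K n,
        e (((homologyFunctor (ModuleCat.{u} A) n).map (DRing.toDerivedCompletion I K)).hom x) =
          AdicCompletion.of I (Dual.HD A K n) x := by
  haveI := hK n
  obtain ⟨ε, hε⟩ := exists_derivedCompletion_iso_RE I K a hK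
  obtain ⟨e₀, he₀⟩ := exists_equiv_HD_uB I K n
  refine ⟨((homologyFunctor (ModuleCat.{u} A) n).mapIso ε).toLinearEquiv ≪≫ₗ e₀, fun x => ?_⟩
  rw [← he₀ x, ← hε, Functor.map_comp]
  rfl

/-- **S7060**: `H^n(K^∧) ≅ H^n(K)^∧` for `K` with finite cohomology over a Noetherian ring -/
theorem exists_equiv_HD_completion (K : Dual.D A)
    (hK : ∀ n : ℤ, Module.Finite A (Dual.HD A K n)) (n : ℤ) :
    ∃ e : Dual.HD A ((DRing.derivedCompletion I).obj K).obj n ≃ₗ[A]
        AdicCompletion I (Dual.HD A K n),
      ∀ x : Dual.HD A K n,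
        e (((homologyFunctor (ModuleCat.{u} A) n).map (DRing.toDerivedCompletion I K)).hom x) =
          AdicCompletion.of I (Dual.HD A K n) x := by
  obtain ⟨fs, hfs⟩ := CechD.exists_list_span I
  let c := n - 1
  let K' := (TStructure.t.truncGE c).obj K
  let π : K ⟶ K' := (TStructure.t.truncGEπ c).app K
  have hT := TStructure.t.triangleLTGE_distinguished c K
  haveI : ((TStructure.t.triangleLTGE c).obj K).obj₁.IsLE (c - 1) := inferInstance
  have hiso : ∀ j : ℤ, c ≤ j → IsIso ((homologyFunctor (ModuleCat.{u} A) j).map π) :=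
    fun j hj => CechD.isIso_homology_map_mor₂ _ hT j
      (DerivedCategory.isZero_of_isLE _ (c - 1) j (by omega))
      (DerivedCategory.isZero_of_isLE _ (c - 1) (j + 1) (by omega))
  have key := Groth.Agent.Lib.helper13.DComp.epi_mono_completion_of_lt fs I hfs π (c - 1)
    (fun j hj => ⟨by haveI := hiso j (by omega); infer_instance,
      by haveI := hiso (j + 1) (by omega); infer_instance⟩)
  haveI : IsIso ((homologyFunctor (ModuleCat.{u} A) n).map
      ((DRing.derivedCompletion I).map π).hom) := by
    haveI := (key n (by omega)).1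
    haveI : Mono ((homologyFunctor (ModuleCat.{u} A) n).map
        ((DRing.derivedCompletion I).map π).hom) := by
      have := (key (n - 1) (by omega)).2
      rwa [sub_add_cancel] at this
    exact isIso_of_mono_of_epi _
  haveI : K'.IsGE c := inferInstance
  obtain ⟨e', he'⟩ := exists_equiv_HD_completion_of_isGE I K' c
    (CechD.finite_HD_truncGE K hK c) n
  haveI := hiso n (by omega)
  let eπ : Dual.HD A K n ≃ₗ[A] Dual.HD A K' n :=
    (asIso ((homologyFunctor (ModuleCat.{u} A) n).map π)).toLinearEquiv
  let eπ' : Dual.HD A ((DRing.derivedCompletion I).obj K).obj n ≃ₗ[A]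
      Dual.HD A ((DRing.derivedCompletion I).obj K').obj n :=
    (asIso ((homologyFunctor (ModuleCat.{u} A) n).map
      ((DRing.derivedCompletion I).map π).hom)).toLinearEquiv
  refine ⟨eπ' ≪≫ₗ e' ≪≫ₗ ((AdicCompletion.congr I eπ).restrictScalars A).symm, fun x => ?_⟩
  have h1 : eπ' (((homologyFunctor (ModuleCat.{u} A) n).map
      (DRing.toDerivedCompletion I K)).hom x) =
      ((homologyFunctor (ModuleCat.{u} A) n).map (DRing.toDerivedCompletion I K')).hom (eπ x) := by
    have hn := Groth.Agent.Lib.helper13.DComp.toDerivedCompletion_naturality I π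
    have := congrArg (fun t => ((homologyFunctor (ModuleCat.{u} A) n).map t).hom x) hn
    simp only [Functor.map_comp] at this
    exact this
  show (AdicCompletion.congr I eπ).symm (e' (eπ' _)) = _
  rw [h1, he', AdicCompletion.congr_symm_apply, AdicCompletion.map_of]
  congr 1
  exact eπ.symm_apply_apply x

end Groth.Agent.Lib.helper23.DC
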