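import Mathlib
import Groth.Prelude.Def_DRing4
import Groth.Agent.Lib.Helper23.DualD3
import Groth.Agent.Lib.Helper23.ProjHom

/-!
# Module biduality for modules of finite projective dimension (helper23)

* `Setup.good_of_retract`, `Setup.good_X₃_of_ses`: the class of `Good` modules is closed under retracts and cokernels of
  injections;
* `Setup.good_of_finite_pd`: if `A` is `Good`, so is every finite module of finite projective dimension;
* `good_self_of_resolution`: `A` is `Good` for `I` an injective resolution of `A`;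
* `good_of_resolution`: biduality `X → Hom(RHom(X, A), A)` for `X` finite of finite projective dimension.
-/

set_option autoImplicit false
universe u v w
open CategoryTheory CategoryTheory.Limits Pretriangulated Opposite DerivedCategory

attribute [local instance] HasDerivedCategory.standard

namespace Groth.Agent.Lib.helper23.DualD

section Abstract

variable {A : Type u} [CommRing A]
variable {𝒟 : Type w} [Category.{v} 𝒟] [Preadditive 𝒟] [HasZeroObject 𝒟] [HasShift 𝒟 ℤ]
  [∀ n : ℤ, (shiftFunctor 𝒟 n).Additive] [Pretriangulated 𝒟]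

namespace Setup

variable (s : Setup.{u, v, w} A 𝒟)

lemma map_retract {N N' : ModuleCat.{u} A} (i : N ⟶ N') (r : N' ⟶ N) (hir : i ≫ r = 𝟙 N) :
    s.D.map r.op ≫ s.D.map i.op = 𝟙 _ := by
  rw [← Functor.map_comp, ← op_comp, hir, op_id, CategoryTheory.Functor.map_id]

lemma van_of_retract {N N' : ModuleCat.{u} A} (i : N ⟶ N') (r : N' ⟶ N) (hir : i ≫ r = 𝟙 N)
    (k : ℤ) (h : s.Van N' k) : s.Van N k := by
  intro φ
  have h1 := h (s.D.map i.op ≫ φ)
  have h2 : φ = s.D.map r.op ≫ s.D.map i.op ≫ φ := by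
    rw [← Category.assoc, s.map_retract i r hir, Category.id_comp]
  rw [h2, h1, comp_zero]

lemma good_of_retract {N N' : ModuleCat.{u} A} (i : N ⟶ N') (r : N' ⟶ N) (hir : i ≫ r = 𝟙 N)
    (h : s.Good N') : s.Good N := by
  have hri : ∀ x : N, r (i x) = x := fun x => by
    have := congrArg (fun f : N ⟶ N => f x) hir
    exact this
  refine ⟨⟨?_, ?_⟩, fun k hk => s.van_of_retract i r hir k (h.2 k hk)⟩
  · intro x y hxy
    have h1 : s.η N' (i x) = s.η N' (i y) := by
      rw [← s.η_nat i x, ← s.η_nat i y, hxy]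
    have h2 := h.1.1 h1
    rw [← hri x, ← hri y, h2]
  · intro φ
    obtain ⟨z, hz⟩ := h.1.2 (s.D.map i.op ≫ φ)
    refine ⟨r z, ?_⟩
    rw [← s.η_nat r z, hz, ← Category.assoc, s.map_retract i r hir, Category.id_comp]

/-- the cokernel of an injection of `Good` modules is `Good`. -/
lemma good_X₃_of_ses (S : ShortComplex (ModuleCat.{u} A)) (hS : S.ShortExact)
    (h₁ : s.Good S.X₁) (h₂ : s.Good S.X₂) : s.Good S.X₃ := by
  obtain ⟨h, hT⟩ := s.tri S hS
  have hg : Function.Surjective S.g := (ModuleCat.epi_iff_surjective S.g).1 hS.epi_g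
  have hf : Function.Injective S.f := (ModuleCat.mono_iff_injective S.f).1 hS.mono_f
  have hex := (ShortComplex.ShortExact.moduleCat_exact_iff_function_exact S).1 hS.exact
  have hfg : ∀ y, S.g (S.f y) = 0 := fun y => by
    have := congrArg (fun f : S.X₁ ⟶ S.X₃ => f y) S.zero
    exact this
  -- the composite `D f ≫ h` vanishes
  have hfh : s.D.map S.f.op ≫ h = 0 := comp_distTriang_mor_zero₂₃ _ hT
  refine ⟨⟨?_, ?_⟩, ?_⟩
  · -- injectivity
    rw [injective_iff_map_eq_zero]
    intro z hz
    obtain ⟨x, rfl⟩ := hg z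
    have h1 : s.D.map S.g.op ≫ s.η S.X₂ x = 0 := by rw [s.η_nat S.g x, hz]
    obtain ⟨ψ, hψ⟩ : ∃ ψ : s.D.obj (op S.X₁) ⟶ s.Z, s.η S.X₂ x = s.D.map S.f.op ≫ ψ :=
      Triangle.yoneda_exact₂ _ hT (s.η S.X₂ x) h1
    obtain ⟨y, rfl⟩ := h₁.1.2 ψ
    rw [s.η_nat S.f y] at hψ
    rw [h₂.1.1 hψ, hfg]
  · -- surjectivity
    intro φ
    obtain ⟨χ, hχ⟩ : ∃ χ : s.D.obj (op S.X₂) ⟶ s.Z, φ = s.D.map S.g.op ≫ χ :=
      yoneda_exact₁ _ hT φ (h₁.2 1 one_ne_zero _)
    obtain ⟨x, rfl⟩ := h₂.1.2 χ
    exact ⟨S.g x, by rw [hχ, s.η_nat S.g x]⟩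
  · -- vanishing
    intro k hk φ
    have key : h ≫ φ⟦(1 : ℤ)⟧' = 0 := by
      by_cases hk1 : k = -1
      · subst hk1
        let ε := (shiftFunctorCompIsoId 𝒟 (-1 : ℤ) 1 (by omega)).app s.Z
        obtain ⟨y, hy⟩ := h₁.1.2 (h ≫ φ⟦(1 : ℤ)⟧' ≫ ε.hom)
        have h1 : s.η S.X₂ (S.f y) = 0 := by
          rw [← s.η_nat S.f y, hy, reassoc_of% hfh, zero_comp]
        have h2 : S.f y = 0 := (injective_iff_map_eq_zero (s.η S.X₂)).1 h₂.1.1 _ h1
        have h3 : y = 0 := hf (by rw [h2, map_zero])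
        rw [h3, map_zero] at hy
        have h4 : h ≫ φ⟦(1 : ℤ)⟧' = (h ≫ φ⟦(1 : ℤ)⟧' ≫ ε.hom) ≫ ε.inv := by
          simp only [Category.assoc, Iso.hom_inv_id, Category.comp_id]
        rw [h4, ← hy, zero_comp]
      · exact s.van_shift (rfl : k + 1 = k + 1) (h₁.2 (k + 1) (by omega)) _
    obtain ⟨χ, hχ⟩ : ∃ χ : s.D.obj (op S.X₂) ⟶ s.Z⟦k⟧, φ = s.D.map S.g.op ≫ χ :=
      yoneda_exact₁ _ hT φ key
    rw [hχ, h₂.2 k hk χ, comp_zero]

/-- every finite module of finite projective dimension is `Good` as soon as `A` is -/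
theorem good_of_finite_pd [IsNoetherianRing A] (hA : s.Good (ModuleCat.of A A)) (d : ℕ) :
    ∀ (X : ModuleCat.{u} A) [Module.Finite A X] [HasProjectiveDimensionLT X (d + 1)],
      s.Good X := by
  have hfree := s.good_free hA
  induction d with
  | zero =>
    intro X _ hpd
    haveI : Projective X := by
      rw [projective_iff_hasProjectiveDimensionLT_one]
      exact hpd
    obtain ⟨n, p, hp⟩ := exists_pres X
    haveI : Epi p := (ModuleCat.epi_iff_surjective p).2 hp
    exact s.good_of_retract (Projective.factorThru (𝟙 X) p) p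
      (Projective.factorThru_comp (𝟙 X) p) (hfree n)
  | succ d ih =>
    intro X _ _
    obtain ⟨n, p, hp⟩ := exists_pres X
    have hS := shortExact_ker p hp
    haveI : Projective (ModuleCat.of A (Fin (n + 1) → A)) :=
      (IsProjective.iff_projective _).1 inferInstance
    haveI : HasProjectiveDimensionLT X (d + 1 + 1) := inferInstance
    haveI : HasProjectiveDimensionLT (ModuleCat.of A (LinearMap.ker p.hom)) (d + 1) :=
      (hS.hasProjectiveDimensionLT_X₃_iff d
        (inferInstance : Projective (ModuleCat.of A (Fin (n + 1) → A)))).1 inferInstance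
    haveI : Module.Finite A (ModuleCat.of A (LinearMap.ker p.hom)) :=
      (inferInstance : Module.Finite A (LinearMap.ker p.hom))
    exact s.good_X₃_of_ses _ hS (ih _) (hfree n)

end Setup

end Abstract

section Concrete

open MonoidalCategory

variable {A : Type u} [CommRing A]

/-- the single functor is linear on identities -/
lemma singleFunctor_map_smul_id (M : ModuleCat.{u} A) (x : A) :
    (singleFunctor (ModuleCat.{u} A) 0).map (x • 𝟙 M) =
      x • 𝟙 ((singleFunctor (ModuleCat.{u} A) 0).obj M) := by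
  have h1 : (HomologicalComplex.single (ModuleCat.{u} A) (ComplexShape.up ℤ) 0).map (x • 𝟙 M) =
      x • 𝟙 ((HomologicalComplex.single (ModuleCat.{u} A) (ComplexShape.up ℤ) 0).obj M) := by
    apply HomologicalComplex.from_single_hom_ext
    rw [HomologicalComplex.single_map_f_self]
    have h2 : (x • 𝟙 ((HomologicalComplex.single (ModuleCat.{u} A) (ComplexShape.up ℤ) 0).obj M)).f 0 =
        x • 𝟙 _ := rfl
    rw [h2, Linear.smul_comp, Linear.comp_smul, Category.id_comp, Iso.hom_inv_id]
  show Q.map ((HomologicalComplex.single (ModuleCat.{u} A) (ComplexShape.up ℤ) 0).map (x • 𝟙 M)) = _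
  rw [h1, Functor.map_smul, CategoryTheory.Functor.map_id]
  rfl

/-- `A → End_A(A)` is bijective -/
lemma bijective_smul_id_self : Function.Bijective (fun x : A => x • 𝟙 (ModuleCat.of A A)) := by
  constructor
  · intro x y hxy
    have := congrArg (fun f : ModuleCat.of A A ⟶ ModuleCat.of A A => f.hom (1 : A)) hxy
    simpa using this
  · intro f
    refine ⟨f.hom (1 : A), ?_⟩
    ext
    show f.hom (1 : A) • (1 : A) = f.hom (1 : A)
    rw [smul_eq_mul, mul_one]

/-- `A → End(A[0])` is bijective -/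
lemma bijective_smul_id_single :
    Function.Bijective (fun x : A =>
      x • 𝟙 ((singleFunctor (ModuleCat.{u} A) 0).obj (ModuleCat.of A A))) := by
  have h : (fun x : A => x • 𝟙 ((singleFunctor (ModuleCat.{u} A) 0).obj (ModuleCat.of A A))) =
      (fun f : ModuleCat.of A A ⟶ ModuleCat.of A A => (singleFunctor (ModuleCat.{u} A) 0).map f) ∘
        (fun x : A => x • 𝟙 (ModuleCat.of A A)) := by
    funext x
    exact (singleFunctor_map_smul_id (ModuleCat.of A A) x).symm
  rw [h]
  exact Function.Bijective.comp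
    ⟨(singleFunctor (ModuleCat.{u} A) 0).map_injective,
      (singleFunctor (ModuleCat.{u} A) 0).map_surjective⟩ bijective_smul_id_self

/-- `Hom(A[0], A[i]) = 0` for `i ≠ 0` -/
lemma hom_single_self_eq_zero (i : ℤ) (hi : i ≠ 0)
    (φ : (singleFunctor (ModuleCat.{u} A) 0).obj (ModuleCat.of A A) ⟶
      ((singleFunctor (ModuleCat.{u} A) 0).obj (ModuleCat.of A A))⟦i⟧) : φ = 0 := by
  haveI : Projective (ModuleCat.of A A) := (IsProjective.iff_projective _).1 inferInstance
  apply (ProjHom.bijective_homologyFunctor_map (P := ModuleCat.of A A) _).1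
  show (homologyFunctor (ModuleCat.{u} A) 0).map φ = (homologyFunctor (ModuleCat.{u} A) 0).map 0
  have hz : IsZero ((homologyFunctor (ModuleCat.{u} A) 0).obj
      (((singleFunctor (ModuleCat.{u} A) 0).obj (ModuleCat.of A A))⟦i⟧)) := by
    have e := ((homologyFunctor (ModuleCat.{u} A) 0).shiftIso i 0 i (by omega)).app
      ((singleFunctor (ModuleCat.{u} A) 0).obj (ModuleCat.of A A))
    refine IsZero.of_iso ?_ e
    rcases lt_or_gt_of_ne hi with h | h
    · exact isZero_of_isGE _ 0 i h
    · exact isZero_of_isLE _ 0 i h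
  exact hz.eq_of_tgt _ _

variable (I : CochainComplex (ModuleCat.{u} A) ℤ) [∀ j, Injective (I.X j)]
  (u : 𝟙_ (CochainComplex (ModuleCat.{u} A) ℤ) ⟶ I) [QuasiIso u]

include u in
/-- `A` is `Good` for an injective resolution `I` of `A` -/
theorem good_self_of_resolution : (setup I).Good (ModuleCat.of A A) := by
  let eu : Q.obj (𝟙_ (CochainComplex (ModuleCat.{u} A) ℤ)) ≅ Q.obj I := asIso (Q.map u)
  let e₀ : (singleFunctor (ModuleCat.{u} A) 0).obj (ModuleCat.of A A) ≅ Q.obj I :=
    (singleFunctorIsoCompQ (ModuleCat.{u} A) 0).app (ModuleCat.of A A) ≪≫ eu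
  refine good_self I ?_ ?_
  · have h : (fun x : A => x • 𝟙 (Q.obj I)) =
        (fun f => e₀.inv ≫ f ≫ e₀.hom) ∘
          (fun x : A => x • 𝟙 ((singleFunctor (ModuleCat.{u} A) 0).obj (ModuleCat.of A A))) := by
      funext x
      show x • 𝟙 (Q.obj I) = e₀.inv ≫ (x • 𝟙 _) ≫ e₀.hom
      rw [Linear.smul_comp, Linear.comp_smul, Category.id_comp, Iso.inv_hom_id]
    rw [h]
    refine Function.Bijective.comp ⟨?_, ?_⟩ bijective_smul_id_single
    · intro f g hfg
      exact (cancel_mono e₀.hom).1 ((cancel_epi e₀.inv).1 hfg)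
    · intro f
      exact ⟨e₀.hom ≫ f ≫ e₀.inv, by simp⟩
  · intro i hi φ
    have h1 := hom_single_self_eq_zero i hi (e₀.hom ≫ φ ≫ e₀.inv⟦i⟧')
    have h2 : φ = e₀.inv ≫ (e₀.hom ≫ φ ≫ e₀.inv⟦i⟧') ≫ e₀.hom⟦i⟧' := by
      simp only [Category.assoc, Iso.inv_hom_id_assoc, ← Functor.map_comp, Iso.inv_hom_id,
        CategoryTheory.Functor.map_id, Category.comp_id]
    rw [h2, h1, zero_comp, comp_zero]

include u in
/-- **biduality for finite modules of finite projective dimension** -/
theorem good_of_resolution [IsNoetherianRing A] (d : ℕ) (X : ModuleCat.{u} A) [Module.Finite A X]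
    [HasProjectiveDimensionLT X (d + 1)] : (setup I).Good X :=
  (setup I).good_of_finite_pd (good_self_of_resolution I u) d X

end Concrete

end Groth.Agent.Lib.helper23.DualD
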