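import Mathlib
import Groth.Agent.Lib.Helper23.DualD1
import Groth.Agent.Lib.Helper23.RelDual5

/-!
# `Ext` against a fixed object for quotients by regular elements (helper23)

`Z : D(P)`.  `SD Z N d`: `Hom(N[0], Z[i]) = 0` for `i ≠ d` and `Hom(N[0], Z[d]) ≅ N` (`P`-linearly).
* `SD.quot`: `SD Z N d` and `r` regular on `N` give `SD Z (N/rN) (d + 1)`;
* `SD.of_isWeaklyRegular`: `SD Z N d` and `rs` weakly regular on `N` give
  `SD Z (N/(rs)N) (d + length rs)`.
-/

set_option autoImplicit false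
universe u
open CategoryTheory CategoryTheory.Limits DerivedCategory Pretriangulated
open scoped Pointwise

attribute [local instance] HasDerivedCategory.standard

namespace Groth.Agent.Lib.helper23.KzReg

open Groth.Agent.Lib.helper23.DualD

variable {P : Type u} [CommRing P] (Z : DerivedCategory (ModuleCat.{u} P))

/-- `N` in degree `0`, in `D(P)`. -/
noncomputable abbrev sg (N : ModuleCat.{u} P) : DerivedCategory (ModuleCat.{u} P) :=
  (singleFunctor (ModuleCat.{u} P) 0).obj N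

/-- `Hom(N[0], Z[i]) = 0`. -/
def Van (N : ModuleCat.{u} P) (i : ℤ) : Prop := ∀ φ : sg N ⟶ Z⟦i⟧, φ = 0

/-- `Ext^i(N, Z) = 0` for `i ≠ d` and `Ext^d(N, Z) ≅ N`. -/
def SD (N : ModuleCat.{u} P) (d : ℤ) : Prop :=
  (∀ i : ℤ, i ≠ d → Van Z N i) ∧ Nonempty (N ≃ₗ[P] (sg N ⟶ Z⟦d⟧))

variable {Z}

lemma Van.of_iso {N N' : ModuleCat.{u} P} (e : N ≅ N') {i : ℤ} (h : Van Z N i) :
    Van Z N' i := by
  intro φ
  have h1 := h ((singleFunctor (ModuleCat.{u} P) 0).map e.hom ≫ φ)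
  have h2 : φ = (singleFunctor (ModuleCat.{u} P) 0).map e.inv ≫
      (singleFunctor (ModuleCat.{u} P) 0).map e.hom ≫ φ := by
    rw [← Category.assoc, ← Functor.map_comp, e.inv_hom_id, CategoryTheory.Functor.map_id,
      Category.id_comp]
  rw [h2, h1, comp_zero]

lemma SD.of_iso {N N' : ModuleCat.{u} P} (e : N ≅ N') {d : ℤ} (h : SD Z N d) : SD Z N' d := by
  obtain ⟨h1, ⟨ε⟩⟩ := h
  refine ⟨fun i hi => (h1 i hi).of_iso e, ⟨?_⟩⟩
  exact e.symm.toLinearEquiv ≪≫ₗ ε ≪≫ₗ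
    Linear.homCongr P ((singleFunctor (ModuleCat.{u} P) 0).mapIso e) (Iso.refl _)

lemma SD.cast {N : ModuleCat.{u} P} {d d' : ℤ} (hd : d = d') (h : SD Z N d) : SD Z N d' := by
  subst hd; exact h

/-- shifting the source: `Hom(N[0][1], Z[j + 1]) = 0`. -/
lemma Van.shift {N : ModuleCat.{u} P} {j j' : ℤ} (hj : j + 1 = j') (h : Van Z N j)
    (ψ : (sg N)⟦(1 : ℤ)⟧ ⟶ Z⟦j'⟧) : ψ = 0 := by
  obtain ⟨χ, hχ⟩ := (shiftFunctor (DerivedCategory (ModuleCat.{u} P)) (1 : ℤ)).map_surjective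
    (ψ ≫ (shiftFunctorAdd' (DerivedCategory (ModuleCat.{u} P)) j 1 j' hj).hom.app Z)
  rw [h χ, Functor.map_zero] at hχ
  have h2 : ψ = (ψ ≫ (shiftFunctorAdd' (DerivedCategory (ModuleCat.{u} P)) j 1 j' hj).hom.app Z) ≫
      (shiftFunctorAdd' (DerivedCategory (ModuleCat.{u} P)) j 1 j' hj).inv.app Z := by
    rw [Category.assoc, Iso.hom_inv_id_app, Category.comp_id]
  rw [h2, ← hχ, zero_comp]

/-- `Hom(N[0], Z[d]) ≃ Hom(N[0][1], Z[d + 1])`. -/
noncomputable def shiftEquiv (N : ModuleCat.{u} P) {d d' : ℤ} (hd : d + 1 = d') :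
    (sg N ⟶ Z⟦d⟧) ≃ₗ[P] ((sg N)⟦(1 : ℤ)⟧ ⟶ Z⟦d'⟧) :=
  LinearEquiv.ofBijective
    { toFun := fun χ => χ⟦(1 : ℤ)⟧' ≫
        (shiftFunctorAdd' (DerivedCategory (ModuleCat.{u} P)) d 1 d' hd).inv.app Z
      map_add' := fun χ χ' => by rw [Functor.map_add, Preadditive.add_comp]
      map_smul' := fun p χ => by
        rw [Functor.map_smul, Linear.smul_comp]
        rfl }
    (by
      constructor
      · intro χ χ' hχ
        have hχ' : χ⟦(1 : ℤ)⟧' ≫
            (shiftFunctorAdd' (DerivedCategory (ModuleCat.{u} P)) d 1 d' hd).inv.app Z =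
          χ'⟦(1 : ℤ)⟧' ≫
            (shiftFunctorAdd' (DerivedCategory (ModuleCat.{u} P)) d 1 d' hd).inv.app Z := hχ
        have h1 := (cancel_mono _).1 hχ'
        exact (shiftFunctor (DerivedCategory (ModuleCat.{u} P)) (1 : ℤ)).map_injective h1
      · intro ψ
        obtain ⟨χ, hχ⟩ :=
          (shiftFunctor (DerivedCategory (ModuleCat.{u} P)) (1 : ℤ)).map_surjective
            (ψ ≫ (shiftFunctorAdd' (DerivedCategory (ModuleCat.{u} P)) d 1 d' hd).hom.app Z)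
        refine ⟨χ, ?_⟩
        show χ⟦(1 : ℤ)⟧' ≫ _ = ψ
        rw [hχ, Category.assoc, Iso.hom_inv_id_app, Category.comp_id])

/-- the short exact sequence `0 → N --r--> N → N/rN → 0`. -/
noncomputable def quotSC (N : ModuleCat.{u} P) (r : P) : ShortComplex (ModuleCat.{u} P) :=
  ShortComplex.mk (r • 𝟙 N)
    (ModuleCat.ofHom (Submodule.mkQ (r • (⊤ : Submodule P N))) :
      N ⟶ ModuleCat.of P (QuotSMulTop r N))
    (by
      ext x
      show Submodule.mkQ (r • (⊤ : Submodule P N)) (r • x) = 0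
      rw [Submodule.mkQ_apply, Submodule.Quotient.mk_eq_zero]
      exact Submodule.smul_mem_pointwise_smul x r ⊤ Submodule.mem_top)

lemma quotSC_shortExact (N : ModuleCat.{u} P) (r : P) (hr : IsSMulRegular N r) :
    (quotSC N r).ShortExact := by
  refine ShortComplex.ShortExact.mk' ((ShortComplex.moduleCat_exact_iff _).2 ?_)
    ((ModuleCat.mono_iff_injective _).2 ?_) ((ModuleCat.epi_iff_surjective _).2 ?_)
  rotate_left
  · intro x y hxy
    exact hr hxy
  · exact Submodule.mkQ_surjective _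
  · intro x hx
    have hx' : Submodule.mkQ (r • (⊤ : Submodule P N)) x = 0 := hx
    rw [Submodule.mkQ_apply, Submodule.Quotient.mk_eq_zero,
      Submodule.mem_smul_pointwise_iff_exists] at hx'
    obtain ⟨y, -, hy⟩ := hx'
    exact ⟨y, hy⟩

theorem SD.quot {N : ModuleCat.{u} P} {d : ℤ} (h : SD Z N d) (r : P)
    (hr : IsSMulRegular N r) : SD Z (ModuleCat.of P (QuotSMulTop r N)) (d + 1) := by
  obtain ⟨hv, ⟨ε⟩⟩ := h
  have hS := quotSC_shortExact N r hr
  let N₃ : ModuleCat.{u} P := ModuleCat.of P (QuotSMulTop r N)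
  let f₁ : sg N ⟶ sg N := (singleFunctor (ModuleCat.{u} P) 0).map (quotSC N r).f
  let f₂ : sg N ⟶ sg N₃ := (singleFunctor (ModuleCat.{u} P) 0).map (quotSC N r).g
  let f₃ : sg N₃ ⟶ (sg N)⟦(1 : ℤ)⟧ := hS.singleδ
  have hT : Triangle.mk f₁ f₂ f₃ ∈ distTriang _ := hS.singleTriangle_distinguished
  have hm1 : f₁ = r • 𝟙 (sg N) := singleFunctor_map_smul_id N r
  have hm1' : f₁⟦(1 : ℤ)⟧' = r • 𝟙 ((sg N)⟦(1 : ℤ)⟧) := by
    rw [hm1, Functor.map_smul, CategoryTheory.Functor.map_id]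
  have h12 : f₁ ≫ f₂ = 0 := comp_distTriang_mor_zero₁₂ _ hT
  have h31 : f₃ ≫ f₁⟦(1 : ℤ)⟧' = 0 := comp_distTriang_mor_zero₃₁ _ hT
  have ex3 : ∀ {W : DerivedCategory (ModuleCat.{u} P)} (φ : sg N₃ ⟶ W), f₂ ≫ φ = 0 →
      ∃ ψ : (sg N)⟦(1 : ℤ)⟧ ⟶ W, φ = f₃ ≫ ψ :=
    fun φ hφ => Triangle.yoneda_exact₃ _ hT φ hφ
  have ex4 : ∀ {W : DerivedCategory (ModuleCat.{u} P)} (ζ : (sg N)⟦(1 : ℤ)⟧ ⟶ W), f₃ ≫ ζ = 0 →
      ∃ ψ : (sg N)⟦(1 : ℤ)⟧ ⟶ W, ζ = f₁⟦(1 : ℤ)⟧' ≫ ψ :=
    fun ζ hζ => yoneda_exact₄ _ hT ζ hζ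
  -- `r` is injective on `Hom(N[0], Z[d])`
  have hinj : ∀ χ : sg N ⟶ Z⟦d⟧, r • χ = 0 → χ = 0 := by
    intro χ hχ
    have h1 : r • ε.symm χ = 0 := by rw [← map_smul, hχ, map_zero]
    have h2 : ε.symm χ = 0 := hr (by
      show r • ε.symm χ = r • (0 : N)
      rw [h1, smul_zero])
    simpa using congrArg ε h2
  refine ⟨?_, ?_⟩
  · intro i hi φ
    change sg N₃ ⟶ Z⟦i⟧ at φ
    have h2 : f₂ ≫ φ = 0 := by
      by_cases hid : i = d
      · subst hid
        apply hinj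
        have h3 : f₁ ≫ f₂ ≫ φ = 0 := by
          rw [← Category.assoc, h12, zero_comp]
        rw [hm1, Linear.smul_comp, Category.id_comp] at h3
        exact h3
      · exact hv i hid _
    obtain ⟨ψ, hψ⟩ := ex3 φ h2
    have h3 : ψ = 0 := (hv (i - 1) (by omega)).shift (by omega) ψ
    rw [hψ, h3, comp_zero]
  · -- the connecting map
    let W := Z⟦d + 1⟧
    let M := ((sg N)⟦(1 : ℤ)⟧ ⟶ W)
    let e : N ≃ₗ[P] M := ε ≪≫ₗ shiftEquiv N rfl
    let dd : M →ₗ[P] (sg N₃ ⟶ W) :=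
      { toFun := fun ψ => f₃ ≫ ψ
        map_add' := fun ψ ψ' => Preadditive.comp_add _ _ _ _ _ _
        map_smul' := fun p ψ => Linear.comp_smul _ _ _ f₃ p ψ }
    have hsurj : Function.Surjective (dd ∘ₗ e.toLinearMap) := by
      intro φ
      have h2 : f₂ ≫ φ = 0 := hv (d + 1) (by omega) _
      obtain ⟨ψ, hψ⟩ := ex3 φ h2
      exact ⟨e.symm ψ, by
        show f₃ ≫ e (e.symm ψ) = φ
        rw [e.apply_symm_apply, hψ]⟩
    have hker : LinearMap.ker (dd ∘ₗ e.toLinearMap) = r • (⊤ : Submodule P N) := by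
      ext x
      rw [LinearMap.mem_ker, Submodule.mem_smul_pointwise_iff_exists]
      constructor
      · intro hx
        have hx' : f₃ ≫ e x = 0 := hx
        obtain ⟨ψ', hψ'⟩ := ex4 (e x) hx'
        rw [hm1', Linear.smul_comp, Category.id_comp] at hψ'
        refine ⟨e.symm ψ', Submodule.mem_top, ?_⟩
        apply e.injective
        rw [map_smul, e.apply_symm_apply, hψ']
      · rintro ⟨y, -, rfl⟩
        show f₃ ≫ e (r • y) = 0
        rw [map_smul]
        have h4 : r • e y = f₁⟦(1 : ℤ)⟧' ≫ e y := by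
          rw [hm1', Linear.smul_comp, Category.id_comp]
        rw [h4, ← Category.assoc, h31, zero_comp]
    exact ⟨(Submodule.quotEquivOfEq _ _ hker.symm) ≪≫ₗ
      LinearMap.quotKerEquivOfSurjective _ hsurj⟩

theorem SD.of_isWeaklyRegular : ∀ (rs : List P) (N : ModuleCat.{u} P) (d : ℤ), SD Z N d →
    RingTheory.Sequence.IsWeaklyRegular N rs →
    SD Z (ModuleCat.of P (N ⧸ (Ideal.ofList rs • ⊤ : Submodule P N))) (d + rs.length) := by
  intro rs
  induction rs with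
  | nil =>
    intro N d h _
    have h0 : (Ideal.ofList ([] : List P) • ⊤ : Submodule P N) = ⊥ := by
      rw [Ideal.ofList_nil, Submodule.bot_smul]
    exact (h.of_iso (LinearEquiv.toModuleIso (Submodule.quotEquivOfEqBot _ h0).symm)).cast
      (by simp)
  | cons r rs ih =>
    intro N d h hreg
    rw [RingTheory.Sequence.isWeaklyRegular_cons_iff] at hreg
    obtain ⟨hr1, hr2⟩ := hreg
    have h1 := h.quot r hr1
    have h2 := ih (ModuleCat.of P (QuotSMulTop r N)) (d + 1) h1 hr2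
    refine (h2.of_iso (LinearEquiv.toModuleIso
      (Submodule.quotOfListConsSMulTopEquivQuotSMulTopInner N r rs).symm)).cast ?_
    rw [List.length_cons]
    push_cast
    ring

/-- the base case `Z = P[0]`, `N = P`. -/
theorem SD.self : SD (sg (ModuleCat.of P P)) (ModuleCat.of P P) 0 := by
  refine ⟨fun i hi φ => ?_, ⟨?_⟩⟩
  · exact hom_single_self_eq_zero i hi φ
  · let i0 : (sg (ModuleCat.of P P))⟦(0 : ℤ)⟧ ≅ sg (ModuleCat.of P P) :=
      (shiftFunctorZero (DerivedCategory (ModuleCat.{u} P)) ℤ).app _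
    refine LinearEquiv.ofBijective
      { toFun := fun x : P => (x • 𝟙 (sg (ModuleCat.of P P))) ≫ i0.inv
        map_add' := fun x y => by rw [add_smul, Preadditive.add_comp]
        map_smul' := fun p x => by
          rw [smul_eq_mul, mul_smul, Linear.smul_comp]
          rfl } ?_
    have hb := bijective_smul_id_single (A := P)
    constructor
    · intro x y hxy
      have hxy' : (x • 𝟙 (sg (ModuleCat.of P P))) ≫ i0.inv =
        (y • 𝟙 (sg (ModuleCat.of P P))) ≫ i0.inv := hxy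
      exact hb.1 ((cancel_mono _).1 hxy')
    · intro φ
      obtain ⟨x, hx⟩ := hb.2 (φ ≫ i0.hom)
      refine ⟨x, ?_⟩
      show (x • 𝟙 (sg (ModuleCat.of P P))) ≫ i0.inv = φ
      have hx' : x • 𝟙 (sg (ModuleCat.of P P)) = φ ≫ i0.hom := hx
      rw [hx', Category.assoc, Iso.hom_inv_id, Category.comp_id]

/-- **`Ext^i_P(P/(rs), P)` for a weakly regular sequence `rs`.** -/
theorem SD.quotient_ofList (rs : List P) (hreg : RingTheory.Sequence.IsWeaklyRegular P rs) :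
    SD (sg (ModuleCat.of P P)) (ModuleCat.of P (P ⧸ Ideal.ofList rs)) (rs.length : ℤ) := by
  have h1 := SD.of_isWeaklyRegular (Z := sg (ModuleCat.of P P)) rs (ModuleCat.of P P) 0
    SD.self hreg
  have h0 : (Ideal.ofList rs • ⊤ : Submodule P P) = Ideal.ofList rs := by
    rw [smul_eq_mul, Ideal.mul_top]
  exact (h1.of_iso (LinearEquiv.toModuleIso (Submodule.quotEquivOfEq _ _ h0))).cast (by simp)

end Groth.Agent.Lib.helper23.KzReg
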