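import Mathlib
import Groth.Prelude.Def_Wider
import Groth.Prelude.Def_DDual2
import Groth.Agent.Lib.Helper23.RAdj6
import Groth.Agent.Lib.Helper23.Conc
import Groth.Agent.Lib.Helper23.KzReg1

/-!
# `RHom_P(A, P)` for `A = P/(rs)`, `rs` a weakly regular sequence (helper23)

* `homologyRightAdjointEquiv`: `H^i(R K)|_A ≃ₗ[A] Hom_{D(A)}(B_A[0], K[i])` for `R` a right adjoint of restriction of
  scalars `D(B) ⥤ D(A)` and `K` bounded below.
* `rightAdjoint_self_iso_of_isWeaklyRegular`: if `P → A` is surjective with kernel generated by a weakly regular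
  sequence `rs`, then `R(P[0]) ≅ A[0]⟦-length rs⟧`.
-/

set_option autoImplicit false
universe u
open CategoryTheory CategoryTheory.Limits DerivedCategory Pretriangulated Opposite

attribute [local instance] HasDerivedCategory.standard

namespace Groth.Agent.Lib.helper23.KzReg

open Groth.Agent.Lib.helper23.DualD Groth.Agent.Lib.helper23.RAdj

section General

variable {A B : Type u} [CommRing A] [CommRing B] (φ : A →+* B)
  (R : Dual.D A ⥤ Dual.D B) (adjD : DRing.restrictD φ ⊣ R)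

include adjD in
/-- `H^i(R K)|_A ≃ Hom(B_A[0], K[i])`. -/
theorem nonempty_homologyRightAdjointEquiv (K : Dual.D A) (a : ℤ)
    (hKa : ∀ j : ℤ, j < a → IsZero ((homologyFunctor (ModuleCat.{u} A) j).obj K)) (i : ℤ) :
    Nonempty (((Φm φ).obj ((homologyFunctor (ModuleCat.{u} B) i).obj (R.obj K))) ≃ₗ[A]
      ((singleFunctor (ModuleCat.{u} A) 0).obj (BA φ) ⟶ K⟦i⟧)) := by
  obtain ⟨I, hI, hIge, ⟨e⟩⟩ := exists_bddBelow_model K a hKa
  haveI := hI
  haveI := hIge
  haveI : I.IsKInjective := CochainComplex.isKInjective_of_injective I a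
  haveI := isKInjective_Gc φ I a
  have e1 : (homologyFunctor (ModuleCat.{u} B) i).obj (R.obj K) ≅ (Gc φ I).homology i :=
    (homologyFunctor (ModuleCat.{u} B) i).mapIso (cω φ I R adjD e).symm ≪≫
      (homologyFunctorFactors (ModuleCat.{u} B) i).app (Gc φ I)
  have e2 : (Φm φ).obj ((Gc φ I).homology i) ≅ (Φc φ (Gc φ I)).homology i :=
    (((Gc φ I).sc i).mapHomologyIso (Φm φ)).symm
  have e3 : (Φc φ (Gc φ I)).homology i ≅ ((homCx I).obj (op (BA φ))).homology i :=
    (HomologicalComplex.homologyFunctor _ _ i).mapIso (θ φ I)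
  have e4 := homologyEquiv' I (BA φ) i e
  exact ⟨((Φm φ).mapIso e1).toLinearEquiv ≪≫ₗ e2.toLinearEquiv ≪≫ₗ e3.toLinearEquiv ≪≫ₗ e4⟩

end General

section Regular

variable {P A : Type u} [CommRing P] [CommRing A] [Algebra P A]

/-- a `P`-linear equivalence between `A`-modules is `A`-linear when `P → A` is surjective. -/
noncomputable def linearEquivOfSurjective (hsurj : Function.Surjective (algebraMap P A))
    (M M' : ModuleCat.{u} A)
    (e : ((Φm (algebraMap P A)).obj M) ≃ₗ[P] ((Φm (algebraMap P A)).obj M')) : M ≃ₗ[A] M' :=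
  { toFun := fun x => e x
    invFun := fun y => e.symm y
    left_inv := fun x => e.symm_apply_apply x
    right_inv := fun y => e.apply_symm_apply y
    map_add' := fun x y => map_add e x y
    map_smul' := fun a x => by
      obtain ⟨p, rfl⟩ := hsurj a
      exact map_smul e p (show ((Φm (algebraMap P A)).obj M) from x) }

theorem rightAdjoint_self_iso_of_isWeaklyRegular (hsurj : Function.Surjective (algebraMap P A))
    (rs : List P) (hker : RingHom.ker (algebraMap P A) = Ideal.ofList rs)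
    (hreg : RingTheory.Sequence.IsWeaklyRegular P rs)
    (R : Dual.D P ⥤ Dual.D A) (adj : DRing.restrictD (algebraMap P A) ⊣ R) :
    Nonempty (R.obj (Dual.inD P P) ≅ (Dual.inD A A)⟦-(rs.length : ℤ)⟧) := by
  let φ := algebraMap P A
  let X := R.obj (Dual.inD P P)
  let n : ℤ := (rs.length : ℤ)
  -- `A ≅ P/(rs)` as `P`-modules
  let eA : (P ⧸ Ideal.ofList rs) ≃ₗ[P] (BA φ) :=
    (Submodule.quotEquivOfEq (Ideal.ofList rs) (LinearMap.ker (Algebra.linearMap P A)) (by
      rw [← hker]; rfl)) ≪≫ₗ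
    LinearMap.quotKerEquivOfSurjective (Algebra.linearMap P A) hsurj ≪≫ₗ equivBA
  have hSD : SD (sg (ModuleCat.of P P)) (BA φ) n :=
    (SD.quotient_ofList rs hreg).of_iso (LinearEquiv.toModuleIso eA)
  have hKa : ∀ j : ℤ, j < 0 →
      IsZero ((homologyFunctor (ModuleCat.{u} P) j).obj (Dual.inD P P)) := by
    intro j hj
    haveI : (Dual.inD P P).IsGE 0 := by dsimp [Dual.inD]; infer_instance
    exact DerivedCategory.isZero_of_isGE (Dual.inD P P) 0 j hj
  have hH : ∀ i : ℤ, Nonempty (((Φm φ).obj ((homologyFunctor (ModuleCat.{u} A) i).obj X)) ≃ₗ[P]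
      ((singleFunctor (ModuleCat.{u} P) 0).obj (BA φ) ⟶ (Dual.inD P P)⟦i⟧)) :=
    fun i => nonempty_homologyRightAdjointEquiv φ R adj (Dual.inD P P) 0 hKa i
  -- vanishing
  have hvan : ∀ i : ℤ, i ≠ n → IsZero ((homologyFunctor (ModuleCat.{u} A) i).obj X) := by
    intro i hi
    obtain ⟨ε⟩ := hH i
    rw [ModuleCat.isZero_iff_subsingleton]
    refine ⟨fun x y => ?_⟩
    apply ε.injective
    rw [hSD.1 i hi (ε x), hSD.1 i hi (ε y)]
  obtain ⟨Y, ⟨eY⟩⟩ := Conc.exists_single_iso X n hvan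
  -- `H^n X ≅ A`
  obtain ⟨ε⟩ := hH n
  obtain ⟨δ⟩ := hSD.2
  let eH : ((homologyFunctor (ModuleCat.{u} A) n).obj X) ≃ₗ[A] (ModuleCat.of A A) :=
    linearEquivOfSurjective hsurj _ _ (ε ≪≫ₗ δ.symm)
  let eYA : Y ≅ ModuleCat.of A A :=
    ((singleFunctorCompHomologyFunctorIso (ModuleCat.{u} A) n).app Y).symm ≪≫
      (homologyFunctor (ModuleCat.{u} A) n).mapIso eY.symm ≪≫ eH.toModuleIso
  refine ⟨eY ≪≫ (singleFunctor (ModuleCat.{u} A) n).mapIso eYA ≪≫ ?_⟩
  exact (((singleFunctors (ModuleCat.{u} A)).shiftIso (-n) n 0 (by omega)).app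
    (ModuleCat.of A A)).symm

end Regular

end Groth.Agent.Lib.helper23.KzReg
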