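import Mathlib
import Groth.Prelude.Def_DRing4
import Groth.Agent.Lib.Helper23.PerfT3

/-!
# The evaluation map `Hom(X, I) ⊗ N ⟶ Hom(X, J)`, part 4 (helper23): modules of finite projective
dimension

`quasiIso_Θ_of_finite_of_hasProjectiveDimensionLT`: over a Noetherian ring `R`, if `α : I ⊗ N ⟶ J` is
a quasi-isomorphism, `I`, `J` have injective terms and `N` has flat terms, then
`Θ α X : Hom(X, I) ⊗ N ⟶ Hom(X, J)` is a quasi-isomorphism for every finite module `X` of finite
projective dimension.
-/

set_option autoImplicit false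
universe u
open CategoryTheory CategoryTheory.Limits MonoidalCategory Opposite
open HomologicalComplex

namespace Groth.Agent.Lib.helper23.PerfT

open Groth.Agent.Lib.helper23.DualD Groth.Agent.Lib.helper23.TensHom

section TwoOfThree

open ComposableArrows Abelian HomologicalComplex.HomologySequence

variable {C : Type*} [Category C] [Abelian C]
  {S₁ S₂ : ShortComplex (CochainComplex C ℤ)} (φ : S₁ ⟶ S₂)
  (hS₁ : S₁.ShortExact) (hS₂ : S₂.ShortExact)

include hS₁ hS₂ in
lemma quasiIso_τ₂ (h₁ : QuasiIso φ.τ₁) (h₃ : QuasiIso φ.τ₃) : QuasiIso φ.τ₂ := by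
  rw [quasiIso_iff]
  intro j
  rw [quasiIsoAt_iff_isIso_homologyMap]
  have hrel : (ComplexShape.up ℤ).Rel (j - 1) j := by simp
  have hrel' : (ComplexShape.up ℤ).Rel j (j + 1) := by simp
  have a1 : IsIso (homologyMap φ.τ₁ j) := inferInstance
  have a2 : IsIso (homologyMap φ.τ₃ (j - 1)) := inferInstance
  have a3 : IsIso (homologyMap φ.τ₃ j) := inferInstance
  have a4 : IsIso (homologyMap φ.τ₁ (j + 1)) := inferInstance
  have hmono : Mono (homologyMap φ.τ₂ j) := by
    have := Abelian.mono_of_epi_of_mono_of_mono'' (n := 5) (k := 2) (by omega)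
      (composableArrows₅_exact hS₁ (j - 1) j hrel) (composableArrows₅_exact hS₂ (j - 1) j hrel)
      (mapComposableArrows₅ φ hS₁ hS₂ (j - 1) j hrel) 2 3 4 5 rfl rfl rfl rfl ?_ ?_ ?_
    · exact this
    · exact (inferInstance : Epi (homologyMap φ.τ₃ (j - 1)))
    · exact (inferInstance : Mono (homologyMap φ.τ₁ j))
    · exact (inferInstance : Mono (homologyMap φ.τ₃ j))
  have hepi : Epi (homologyMap φ.τ₂ j) := by
    have := Abelian.epi_of_epi_of_epi_of_mono'' (n := 5) (k := 0) (by omega)
      (composableArrows₅_exact hS₁ j (j + 1) hrel') (composableArrows₅_exact hS₂ j (j + 1) hrel')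
      (mapComposableArrows₅ φ hS₁ hS₂ j (j + 1) hrel') 0 1 2 3 rfl rfl rfl rfl ?_ ?_ ?_
    · exact this
    · exact (inferInstance : Epi (homologyMap φ.τ₁ j))
    · exact (inferInstance : Epi (homologyMap φ.τ₃ j))
    · exact (inferInstance : Mono (homologyMap φ.τ₁ (j + 1)))
  exact isIso_of_mono_of_epi _

end TwoOfThree

variable {R : Type u} [CommRing R] {I N J : DRing.Cx R} (α : I ⊗ N ⟶ J)

lemma id_whiskerRight_cx (K N : DRing.Cx R) : (𝟙 K) ▷ N = 𝟙 (K ⊗ N) := by
  simp

/-- two-out-of-three for `Θ` along short exact sequences of modules (middle term) -/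
theorem quasiIso_Θ_X₂ (hN : DRing.TermwiseFlat N) [∀ j, Injective (I.X j)]
    [∀ j, Injective (J.X j)] (S : ShortComplex (ModuleCat.{u} R)) (hS : S.ShortExact)
    (h₁ : QuasiIso (Θ α S.X₁)) (h₃ : QuasiIso (Θ α S.X₃)) : QuasiIso (Θ α S.X₂) :=
  quasiIso_τ₂ (ΘSC α S) (shortExact_whiskerRight _ (homSC_shortExact I S hS) N hN)
    (homSC_shortExact J S hS) h₃ h₁

/-- `Θ` for a retract -/
theorem quasiIso_Θ_of_retract {X X' : ModuleCat.{u} R} (i : X ⟶ X') (r : X' ⟶ X)
    (hir : i ≫ r = 𝟙 X) (h : QuasiIso (Θ α X')) : QuasiIso (Θ α X) := by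
  have hret : RetractArrow (Θ α X) (Θ α X') :=
    { i := Arrow.homMk ((homCx I).map r.op ▷ N) ((homCx J).map r.op) (Θ_naturality α r)
      r := Arrow.homMk ((homCx I).map i.op ▷ N) ((homCx J).map i.op) (Θ_naturality α i)
      retract := by
        refine Arrow.hom_ext _ _ ?_ ?_
        · show ((homCx I).map r.op ▷ N) ≫ ((homCx I).map i.op ▷ N) = 𝟙 _
          rw [← comp_whiskerRight, ← Functor.map_comp, ← op_comp, hir, op_id,
            CategoryTheory.Functor.map_id, id_whiskerRight_cx]
        · show (homCx J).map r.op ≫ (homCx J).map i.op = 𝟙 _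
          rw [← Functor.map_comp, ← op_comp, hir, op_id, CategoryTheory.Functor.map_id] }
  exact (MorphismProperty.of_retract (P := HomologicalComplex.quasiIso (ModuleCat.{u} R)
    (ComplexShape.up ℤ)) hret ((mem_quasiIso_iff _).2 h) : _)

section Induction

variable [QuasiIso α] (hN : DRing.TermwiseFlat N) [∀ j, Injective (I.X j)]
  [∀ j, Injective (J.X j)]

include hN

omit [QuasiIso α] in
/-- `Θ` for a binary product -/
theorem quasiIso_Θ_prod (X Y : ModuleCat.{u} R) (hX : QuasiIso (Θ α X)) (hY : QuasiIso (Θ α Y)) :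
    QuasiIso (Θ α (ModuleCat.of R (X × Y))) := by
  let S : ShortComplex (ModuleCat.{u} R) :=
    ShortComplex.mk (X₁ := X) (X₂ := ModuleCat.of R (X × Y)) (X₃ := Y)
      (ModuleCat.ofHom (LinearMap.inl R X Y)) (ModuleCat.ofHom (LinearMap.snd R X Y)) (by
        ext x
        rfl)
  have hS : S.ShortExact := by
    refine ModuleCat.shortComplex_shortExact S ?_ ?_ ?_
    · exact Function.Exact.inl_snd
    · exact LinearMap.inl_injective
    · exact LinearMap.snd_surjective
  exact quasiIso_Θ_X₂ α hN S hS hX hY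

/-- `Θ` for a finite free module -/
theorem quasiIso_Θ_free (m : ℕ) : QuasiIso (Θ α (ModuleCat.of R (Fin m → R))) := by
  induction m with
  | zero =>
    have hz : IsZero (ModuleCat.of R (Fin 0 → R)) := ModuleCat.isZero_of_subsingleton _
    exact quasiIso_Θ_of_retract α (X' := ModuleCat.of R R) 0 0 (hz.eq_of_src _ _)
      (quasiIso_Θ_self α)
  | succ m ih =>
    have h1 := quasiIso_Θ_prod α hN (ModuleCat.of R R) (ModuleCat.of R (Fin m → R))
      (quasiIso_Θ_self α) ih
    let e : ModuleCat.of R (R × (Fin m → R)) ≅ ModuleCat.of R (Fin (m + 1) → R) :=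
      (Fin.consLinearEquiv R (fun _ : Fin (m + 1) => R)).toModuleIso
    exact quasiIso_Θ_of_retract α e.inv e.hom e.inv_hom_id h1

/-- `Θ` for a finite projective module -/
theorem quasiIso_Θ_of_finite_projective (X : ModuleCat.{u} R) [Module.Finite R X]
    [Module.Projective R X] : QuasiIso (Θ α X) := by
  obtain ⟨m, f, g, -, -, hfg⟩ := Module.Finite.exists_comp_eq_id_of_projective R X
  refine quasiIso_Θ_of_retract α (X' := ModuleCat.of R (Fin m → R)) (ModuleCat.ofHom g)
    (ModuleCat.ofHom f) ?_ (quasiIso_Θ_free α hN m)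
  rw [← ModuleCat.ofHom_comp, hfg]
  rfl

/-- `Θ` for a finite module of finite projective dimension over a Noetherian ring -/
theorem quasiIso_Θ_of_finite_of_hasProjectiveDimensionLT [IsNoetherianRing R] (d : ℕ) :
    ∀ (X : ModuleCat.{u} R) [Module.Finite R X] [HasProjectiveDimensionLT X (d + 1)],
      QuasiIso (Θ α X) := by
  induction d with
  | zero =>
    intro X _ hpd
    haveI : Projective X := by
      rw [projective_iff_hasProjectiveDimensionLT_one]
      exact hpd
    haveI : Module.Projective R X := (IsProjective.iff_projective X).2 inferInstance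
    exact quasiIso_Θ_of_finite_projective α hN X
  | succ d ih =>
    intro X _ _
    obtain ⟨m, f, hf⟩ := Module.Finite.exists_fin' R X
    let S : ShortComplex (ModuleCat.{u} R) :=
      ShortComplex.mk (X₁ := ModuleCat.of R (LinearMap.ker f)) (X₂ := ModuleCat.of R (Fin m → R))
        (X₃ := X) (ModuleCat.ofHom (LinearMap.ker f).subtype) (ModuleCat.ofHom f) (by
          ext x
          exact x.2)
    have hS : S.ShortExact := by
      refine ModuleCat.shortComplex_shortExact S ?_ ?_ hf
      · exact LinearMap.exact_subtype_ker_map f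
      · exact Subtype.val_injective
    haveI : Projective S.X₂ := by
      show Projective (ModuleCat.of R (Fin m → R))
      exact (IsProjective.iff_projective _).1 inferInstance
    haveI : HasProjectiveDimensionLT S.X₃ (d + 2) := by
      show HasProjectiveDimensionLT X (d + 1 + 1)
      infer_instance
    haveI : HasProjectiveDimensionLT (ModuleCat.of R (LinearMap.ker f)) (d + 1) :=
      (hS.hasProjectiveDimensionLT_X₃_iff d inferInstance).1 inferInstance
    haveI : Module.Finite R (ModuleCat.of R (LinearMap.ker f)) := by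
      show Module.Finite R (LinearMap.ker f)
      infer_instance
    have h1 : QuasiIso (Θ α (ModuleCat.of R (LinearMap.ker f))) := ih _
    exact quasiIso_Θ_X₃ α hN S hS h1 (quasiIso_Θ_free α hN m)

end Induction

end Groth.Agent.Lib.helper23.PerfT
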