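import Mathlib
import Groth.Prelude.Def_DRing4
import Groth.Agent.Lib.Helper13.ExtKFlat

/-!
# Components of `resTenExtIso` (helper23)

For `φ : A →+* B`, a complex `L` of `B`-modules and a complex `K` of `A`-modules, helper13's
`resTenExtIso φ L K : res (L ⊗_B ext K) ≅ res L ⊗_A K` on the summand `L^p ⊗ ext K^q`, and an
extensionality lemma for maps out of `res ((L ⊗_B K')^n)`.
-/

set_option autoImplicit false
universe u
open CategoryTheory CategoryTheory.Limits MonoidalCategory
open HomologicalComplex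

namespace Groth.Agent.Lib.helper23.PerfT

open Groth.Agent.Lib.helper13.ExtKFlat

variable {A B : Type u} [CommRing A] [CommRing B] (φ : A →+* B)
  (L : DRing.Cx B) (K : DRing.Cx A)

lemma res_ι_resTenExtIso (p q n : ℤ) (h : p + q = n) :
    (ModuleCat.restrictScalars.{u} φ).map (ιTensorObj L ((extCx φ).obj K) p q n h) ≫
        (resTenExtIso φ L K).hom.f n =
      (cbcIso φ (L.X p) (K.X q)).hom ≫ ιTensorObj ((resCx φ).obj L) K p q n h := by
  dsimp only [resTenExtIso, Iso.trans_hom, Functor.mapIso_hom]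
  rw [HomologicalComplex.comp_f]
  have h1 := TotMap.map_ιTotal_mapTotalIso_hom_f (ModuleCat.restrictScalars.{u} φ)
    (DTen.tenBicx L ((extCx φ).obj K)) (ComplexShape.up ℤ) p q n h
  have h2 := HomologicalComplex₂.ιTotal_map _ _ (bicxIso φ L K).hom (ComplexShape.up ℤ) p q n h
  erw [reassoc_of% h1, h2]
  rfl

/-- maps out of `res ((L ⊗_B K')^n)` are determined on the summands -/
lemma hom_ext_res (K' : DRing.Cx B) {M : ModuleCat.{u} A} {n : ℤ}
    (f g : (ModuleCat.restrictScalars.{u} φ).obj ((L ⊗ K').X n) ⟶ M)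
    (h : ∀ (p q : ℤ) (hpq : p + q = n),
      (ModuleCat.restrictScalars.{u} φ).map (ιTensorObj L K' p q n hpq) ≫ f =
        (ModuleCat.restrictScalars.{u} φ).map (ιTensorObj L K' p q n hpq) ≫ g) : f = g := by
  have key : ∀ (f g : (((ModuleCat.restrictScalars.{u} φ).mapHomologicalComplex
      (ComplexShape.up ℤ)).obj ((DTen.tenBicx L K').total (ComplexShape.up ℤ))).X n ⟶ M),
      (∀ (p q : ℤ) (hpq : p + q = n),
        (ModuleCat.restrictScalars.{u} φ).map ((DTen.tenBicx L K').ιTotal (ComplexShape.up ℤ)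
          p q n hpq) ≫ f =
        (ModuleCat.restrictScalars.{u} φ).map ((DTen.tenBicx L K').ιTotal (ComplexShape.up ℤ)
          p q n hpq) ≫ g) → f = g := by
    intro f g h
    rw [← cancel_epi (TotMap.mapTotalXIso (ModuleCat.restrictScalars.{u} φ) (DTen.tenBicx L K')
      (ComplexShape.up ℤ) n).inv]
    refine HomologicalComplex₂.total.hom_ext _ (fun p q hpq => ?_)
    rw [TotMap.ιTotal_mapTotalXIso_inv_assoc, TotMap.ιTotal_mapTotalXIso_inv_assoc]
    exact h p q hpq
  exact key f g h

end Groth.Agent.Lib.helper23.PerfT
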