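import Mathlib
import Groth.Prelude.Def_DRing4
import Groth.Agent.Lib.Helper23.PerfT4
import Groth.Agent.Lib.Helper23.PerfT5
import Groth.Agent.Lib.Helper23.RAdj3

/-!
# The evaluation map over an algebra (helper23)

For `φ : A →+* B`, complexes `I`, `N`, `J` of `A`-modules and `α : I ⊗ N ⟶ J`:
`ΘB φ α : Hom_A(B, I) ⊗_B (N ⊗_A B) ⟶ Hom_A(B, J)`, a morphism of complexes of `B`-modules whose
restriction to `A` is `Θ α B_A` up to the canonical isomorphisms.
-/

set_option autoImplicit false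
universe u
open CategoryTheory CategoryTheory.Limits MonoidalCategory Opposite
open HomologicalComplex

namespace Groth.Agent.Lib.helper23.PerfT

open Groth.Agent.Lib.helper23.DualD Groth.Agent.Lib.helper23.TensHom
  Groth.Agent.Lib.helper23.RAdj Groth.Agent.Lib.helper13.ExtKFlat

variable {A B : Type u} [CommRing A] [CommRing B] (φ : A →+* B)
  {I N J : DRing.Cx A} (α : I ⊗ N ⟶ J)

/-- `Hom_A(B, I) ⊗_B (N ⊗_A B)` -/
noncomputable abbrev ZB (I N : DRing.Cx A) : DRing.Cx B := Gc φ I ⊗ (extCx φ).obj N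

/-- the `A`-linear map `res (Hom_A(B, I) ⊗_B (N ⊗_A B)) ⟶ J` -/
noncomputable def hB : Φc φ (ZB φ I N) ⟶ J :=
  (resTenExtIso φ (Gc φ I) N).hom ≫ (counitCx (adjm φ) I ▷ N) ≫ α

/-- the `B`-linear evaluation map -/
noncomputable def ΘB : ZB φ I N ⟶ Gc φ J := adjChain' (adjm φ) (hB φ α)

lemma ΘB_f_apply (n : ℤ) (z : (ZB φ I N).X n) (s : B) :
    ModuleCat.CoextendScalars.equiv φ (J.X n) (((ΘB φ α).f n).hom z) s =
      ((hB φ α).f n).hom ((s • z : (ZB φ I N).X n)) := by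
  rfl

lemma θ_hom_f_apply (I : DRing.Cx A) (p : ℤ) (g : (Gc φ I).X p) (s : B) :
    (((θ φ I).hom.f p).hom g : BA φ ⟶ I.X p).hom s =
      ModuleCat.CoextendScalars.equiv φ (I.X p) g s := rfl

lemma counitCx_f_apply (I : DRing.Cx A) (p : ℤ) (g : (Gc φ I).X p) :
    ((counitCx (adjm φ) I).f p).hom g = ModuleCat.CoextendScalars.equiv φ (I.X p) g (1 : B) := by
  rw [counitCx_eq, HomologicalComplex.comp_f, ModuleCat.hom_comp, LinearMap.comp_apply,
    evCx_f_apply, θ_hom_f_apply]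

lemma hB_ι_tm (p q n : ℤ) (hpq : p + q = n) (g : (Gc φ I).X p) (b : B) (y : N.X q) :
    ((hB φ α).f n).hom (((ModuleCat.restrictScalars.{u} φ).map
      (ιTensorObj (Gc φ I) ((extCx φ).obj N) p q n hpq)).hom (tm φ ((Gc φ I).X p) (N.X q) g b y)) =
      (α.f n).hom ((ιTensorObj I N p q n hpq).hom
        ((ModuleCat.CoextendScalars.equiv φ (I.X p) g b) ⊗ₜ[A] y)) := by
  have h1 := congrArg (fun ψ => ψ.hom (tm φ ((Gc φ I).X p) (N.X q) g b y))
    (res_ι_resTenExtIso φ (Gc φ I) N p q n hpq)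
  simp only [ModuleCat.hom_comp, LinearMap.comp_apply] at h1
  unfold hB
  rw [HomologicalComplex.comp_f, HomologicalComplex.comp_f, ModuleCat.hom_comp,
    LinearMap.comp_apply, ModuleCat.hom_comp, LinearMap.comp_apply]
  refine (congrArg (fun t => (α.f n).hom (((counitCx (adjm φ) I ▷ N).f n).hom t)) h1).trans ?_
  have h2 : (cbcIso φ ((Gc φ I).X p) (N.X q)).hom.hom (tm φ ((Gc φ I).X p) (N.X q) g b y) =
      tm' φ ((Gc φ I).X p) (N.X q) (b • g) y := cbcLE_tm φ _ _ g b y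
  have h3 := congrArg (fun ψ => ψ.hom (tm' φ ((Gc φ I).X p) (N.X q) (b • g) y))
    (ι_whiskerRight (counitCx (adjm φ) I) N p q n hpq)
  simp only [ModuleCat.hom_comp, LinearMap.comp_apply] at h3
  refine (congrArg (fun t => (α.f n).hom (((counitCx (adjm φ) I ▷ N).f n).hom
    ((ιTensorObj ((resCx φ).obj (Gc φ I)) N p q n hpq).hom t))) h2).trans ?_
  refine (congrArg (fun t => (α.f n).hom t) h3).trans ?_
  show (α.f n).hom ((ιTensorObj I N p q n hpq).hom _) = _
  congr 2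
  show ((counitCx (adjm φ) I).f p ▷ N.X q).hom ((b • g) ⊗ₜ[A] y) = _
  rw [ModuleCat.MonoidalCategory.whiskerRight_apply, counitCx_f_apply]
  congr 1
  have h4 := ModuleCat.CoextendScalars.smul_apply φ (I.X p) g b (1 : B)
  rw [one_mul] at h4
  exact h4

lemma smul_res_ι_tm (p q n : ℤ) (hpq : p + q = n) (g : (Gc φ I).X p) (b s : B) (y : N.X q) :
    (s • ((ιTensorObj (Gc φ I) ((extCx φ).obj N) p q n hpq).hom
      (tm φ ((Gc φ I).X p) (N.X q) g b y)) : (ZB φ I N).X n) =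
    (ιTensorObj (Gc φ I) ((extCx φ).obj N) p q n hpq).hom
      (tm φ ((Gc φ I).X p) (N.X q) (s • g) b y) := by
  rw [← map_smul]
  rfl

/-- the restriction of `ΘB` to `A` is `Θ` for the module `B_A` -/
theorem res_ΘB_comp_θ :
    ((Φm φ).mapHomologicalComplex (ComplexShape.up ℤ)).map (ΘB φ α) ≫ (θ φ J).hom =
      (resTenExtIso φ (Gc φ I) N).hom ≫ ((θ φ I).hom ▷ N) ≫ Θ α (BA φ) := by
  ext n : 1
  apply hom_ext_res φ (Gc φ I) ((extCx φ).obj N)
  intro p q hpq
  apply hom_ext_tm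
  intro g b y
  apply ModuleCat.hom_ext
  apply LinearMap.ext
  intro (s : B)
  -- left hand side
  have hL : ((((ModuleCat.restrictScalars.{u} φ).map
      (ιTensorObj (Gc φ I) ((extCx φ).obj N) p q n hpq) ≫
      (((Φm φ).mapHomologicalComplex (ComplexShape.up ℤ)).map (ΘB φ α) ≫ (θ φ J).hom).f n).hom
      (tm φ ((Gc φ I).X p) (N.X q) g b y) : BA φ ⟶ J.X n)).hom s =
      (α.f n).hom ((ιTensorObj I N p q n hpq).hom
        ((ModuleCat.CoextendScalars.equiv φ (I.X p) g (b * s)) ⊗ₜ[A] y)) := by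
    have e1 := ΘB_f_apply φ α n ((ιTensorObj (Gc φ I) ((extCx φ).obj N) p q n hpq).hom
      (tm φ ((Gc φ I).X p) (N.X q) g b y)) s
    rw [smul_res_ι_tm] at e1
    have e2 := hB_ι_tm φ α p q n hpq (s • g) b y
    have e3 := ModuleCat.CoextendScalars.smul_apply φ (I.X p) g s b
    exact e1.trans (e2.trans (congrArg (fun t => (α.f n).hom
      ((ιTensorObj I N p q n hpq).hom (t ⊗ₜ[A] y))) e3))
  -- right hand side
  have hR : ((((ModuleCat.restrictScalars.{u} φ).map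
      (ιTensorObj (Gc φ I) ((extCx φ).obj N) p q n hpq) ≫
      ((resTenExtIso φ (Gc φ I) N).hom ≫ ((θ φ I).hom ▷ N) ≫ Θ α (BA φ)).f n).hom
      (tm φ ((Gc φ I).X p) (N.X q) g b y) : BA φ ⟶ J.X n)).hom s =
      (α.f n).hom ((ιTensorObj I N p q n hpq).hom
        ((ModuleCat.CoextendScalars.equiv φ (I.X p) g (s * b)) ⊗ₜ[A] y)) := by
    have hmor : (ModuleCat.restrictScalars.{u} φ).map
        (ιTensorObj (Gc φ I) ((extCx φ).obj N) p q n hpq) ≫
        ((resTenExtIso φ (Gc φ I) N).hom ≫ ((θ φ I).hom ▷ N) ≫ Θ α (BA φ)).f n =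
        (cbcIso φ ((Gc φ I).X p) (N.X q)).hom ≫ ((θ φ I).hom.f p ▷ N.X q) ≫
          θComp α (BA φ) p q n hpq := by
      have r1 := res_ι_resTenExtIso φ (Gc φ I) N p q n hpq
      have r2 : ιTensorObj ((resCx φ).obj (Gc φ I)) N p q n hpq ≫ ((θ φ I).hom ▷ N).f n =
          ((θ φ I).hom.f p ▷ N.X q) ≫ ιTensorObj ((homCx I).obj (op (BA φ))) N p q n hpq :=
        ι_whiskerRight (θ φ I).hom N p q n hpq
      have r3 := ι_θf α (BA φ) p q n hpq
      calc (ModuleCat.restrictScalars.{u} φ).map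
            (ιTensorObj (Gc φ I) ((extCx φ).obj N) p q n hpq) ≫
            ((resTenExtIso φ (Gc φ I) N).hom ≫ ((θ φ I).hom ▷ N) ≫ Θ α (BA φ)).f n
          = ((ModuleCat.restrictScalars.{u} φ).map
              (ιTensorObj (Gc φ I) ((extCx φ).obj N) p q n hpq) ≫
              (resTenExtIso φ (Gc φ I) N).hom.f n) ≫
              ((θ φ I).hom ▷ N).f n ≫ (Θ α (BA φ)).f n := by
            simp only [HomologicalComplex.comp_f, Category.assoc]
            rfl
        _ = ((cbcIso φ ((Gc φ I).X p) (N.X q)).hom ≫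
              ιTensorObj ((resCx φ).obj (Gc φ I)) N p q n hpq) ≫
              ((θ φ I).hom ▷ N).f n ≫ (Θ α (BA φ)).f n := by rw [r1]; rfl
        _ = (cbcIso φ ((Gc φ I).X p) (N.X q)).hom ≫
              (ιTensorObj ((resCx φ).obj (Gc φ I)) N p q n hpq ≫ ((θ φ I).hom ▷ N).f n) ≫
              (Θ α (BA φ)).f n := by simp only [Category.assoc]
        _ = (cbcIso φ ((Gc φ I).X p) (N.X q)).hom ≫
              (((θ φ I).hom.f p ▷ N.X q) ≫
                ιTensorObj ((homCx I).obj (op (BA φ))) N p q n hpq) ≫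
              (Θ α (BA φ)).f n :=
            congrArg (fun t => (cbcIso φ ((Gc φ I).X p) (N.X q)).hom ≫ t ≫ (Θ α (BA φ)).f n) r2
        _ = (cbcIso φ ((Gc φ I).X p) (N.X q)).hom ≫ ((θ φ I).hom.f p ▷ N.X q) ≫
              (ιTensorObj ((homCx I).obj (op (BA φ))) N p q n hpq ≫ θf α (BA φ) n) := by
            simp only [Category.assoc, Θ_f]
        _ = _ := by rw [r3]
    have hmor' := congrArg (fun ψ => ψ.hom (tm φ ((Gc φ I).X p) (N.X q) g b y)) hmor
    refine (congrArg (fun (t : BA φ ⟶ J.X n) => t.hom s) hmor').trans ?_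
    have e1 : ((cbcIso φ ((Gc φ I).X p) (N.X q)).hom ≫ ((θ φ I).hom.f p ▷ N.X q) ≫
        θComp α (BA φ) p q n hpq).hom (tm φ ((Gc φ I).X p) (N.X q) g b y) =
        θBil α (BA φ) p q n hpq (((θ φ I).hom.f p).hom (b • g)) y := by
      rw [ModuleCat.hom_comp, LinearMap.comp_apply, ModuleCat.hom_comp, LinearMap.comp_apply]
      have h2 : (cbcIso φ ((Gc φ I).X p) (N.X q)).hom.hom (tm φ ((Gc φ I).X p) (N.X q) g b y) =
          tm' φ ((Gc φ I).X p) (N.X q) (b • g) y := cbcLE_tm φ _ _ g b y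
      rw [h2]
      show (θComp α (BA φ) p q n hpq).hom
        (((θ φ I).hom.f p ▷ N.X q).hom ((b • g) ⊗ₜ[A] y)) = _
      rw [ModuleCat.MonoidalCategory.whiskerRight_apply, θComp_tmul]
    refine (congrArg (fun (t : BA φ ⟶ J.X n) => t.hom s) e1).trans ?_
    show (θBil α (BA φ) p q n hpq (((θ φ I).hom.f p).hom (b • g)) y).hom s = _
    rw [θBil_apply, θ_hom_f_apply]
    have e3 := ModuleCat.CoextendScalars.smul_apply φ (I.X p) g b s
    exact congrArg (fun t => (α.f n).hom ((ιTensorObj I N p q n hpq).hom (t ⊗ₜ[A] y))) e3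
  refine hL.trans (Eq.trans ?_ hR.symm)
  rw [mul_comm]

end Groth.Agent.Lib.helper23.PerfT
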