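import Mathlib
import Groth.Prelude.Def_DRing4
import Groth.Agent.Lib.Helper23.PerfT6

/-!
# `ΘB` is a quasi-isomorphism for finite algebras of finite projective dimension (helper23)
-/

set_option autoImplicit false
universe u
open CategoryTheory CategoryTheory.Limits MonoidalCategory Opposite
open HomologicalComplex

namespace Groth.Agent.Lib.helper23.PerfT

open Groth.Agent.Lib.helper23.DualD Groth.Agent.Lib.helper23.TensHom
  Groth.Agent.Lib.helper23.RAdj Groth.Agent.Lib.helper13.ExtKFlat

variable {A B : Type u} [CommRing A] [CommRing B] (φ : A →+* B)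
  {I N J : DRing.Cx A} (α : I ⊗ N ⟶ J)

/-- `ΘB` is a quasi-isomorphism as soon as `Θ α B_A` is. -/
theorem quasiIso_ΘB_of_quasiIso_Θ (h : QuasiIso (Θ α (BA φ))) : QuasiIso (ΘB φ α) := by
  have h0 := res_ΘB_comp_θ φ α
  have h1 : QuasiIso ((resTenExtIso φ (Gc φ I) N).hom ≫ ((θ φ I).hom ▷ N) ≫ Θ α (BA φ)) := by
    haveI : IsIso ((θ φ I).hom ▷ N) := inferInstance
    infer_instance
  rw [← h0] at h1
  have h2 : QuasiIso (((Φm φ).mapHomologicalComplex (ComplexShape.up ℤ)).map (ΘB φ α)) := by
    rw [← quasiIso_iff_comp_right _ (θ φ J).hom]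
    exact h1
  exact (HomologicalComplex.quasiIso_map_iff_of_preservesHomology _
    (ModuleCat.restrictScalars.{u} φ)).1 h2

/-- `ΘB` is a quasi-isomorphism when `B` is a finite `A`-module of finite projective dimension,
`A` Noetherian, `N` termwise flat, `I`, `J` with injective terms, `α` a quasi-isomorphism. -/
theorem quasiIso_ΘB [IsNoetherianRing A] [QuasiIso α] (hN : DRing.TermwiseFlat N)
    [∀ j, Injective (I.X j)] [∀ j, Injective (J.X j)] (d : ℕ)
    [Module.Finite A (BA φ)] [HasProjectiveDimensionLT (BA φ) (d + 1)] :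
    QuasiIso (ΘB φ α) :=
  quasiIso_ΘB_of_quasiIso_Θ φ α
    (quasiIso_Θ_of_finite_of_hasProjectiveDimensionLT α hN d (BA φ))

end Groth.Agent.Lib.helper23.PerfT
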