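import Mathlib
import Groth.Prelude.Def_DRing4
import Groth.Agent.Lib.Helper23.PerfT7
import Groth.Agent.Lib.Helper23.FlatBC1
import Groth.Agent.Lib.Helper23.EEComp
import Groth.Agent.Lib.Helper23.ExtSc2
import Groth.Agent.Lib.Helper13.LTenCx1
import Groth.Agent.Lib.Helper13.KRes6
import Groth.Agent.Lib.Helper25.KInjMain

/-!
# Wrappers for the comparison `φ^!(K) ≅ (K ⊗^L A) ⊗^L ω` (helper23)
-/

set_option autoImplicit false
universe u
open CategoryTheory CategoryTheory.Limits MonoidalCategory Opposite DerivedCategory
open HomologicalComplex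

attribute [local instance] HasDerivedCategory.standard

namespace Groth.Agent.Lib.helper23.PerfT

open Groth.Agent.Lib.helper23.DualD Groth.Agent.Lib.helper23.TensHom
  Groth.Agent.Lib.helper23.RAdj Groth.Agent.Lib.helper13.ExtKFlat
  Groth.Agent.Lib.helper13.KFlat

section General

variable {C₁ C₂ : Type*} [Category C₁] [Category C₂] [Abelian C₁] [Abelian C₂]
  {Φ : C₁ ⥤ C₂} [Φ.Additive] [PreservesFiniteLimits Φ] [PreservesFiniteColimits Φ]
  {G : C₂ ⥤ C₁} [G.Additive] (adj : Φ ⊣ G)

include adj in
/-- the termwise right adjoint of an exact functor preserves K-injective complexes -/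
theorem isKInjective_map_of_adj (I : CochainComplex C₂ ℤ) [I.IsKInjective] :
    CochainComplex.IsKInjective ((G.mapHomologicalComplex (ComplexShape.up ℤ)).obj I) := by
  refine ⟨fun {K} f hK => ?_⟩
  have hK' : ((Φ.mapHomologicalComplex (ComplexShape.up ℤ)).obj K).Acyclic := by
    intro i
    rw [HomologicalComplex.exactAt_iff]
    exact ((HomologicalComplex.exactAt_iff _ _).1 (hK i)).map Φ
  have H : Homotopy (adjChain adj f) 0 :=
    CochainComplex.IsKInjective.homotopyZero (adjChain adj f) hK'
  have H1 : Homotopy ((G.mapHomologicalComplex (ComplexShape.up ℤ)).map (adjChain adj f))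
      ((G.mapHomologicalComplex (ComplexShape.up ℤ)).map 0) := G.mapHomotopy H
  have H2 : Homotopy (adjChain' adj (adjChain adj f)) (unitCx adj K ≫
      (G.mapHomologicalComplex (ComplexShape.up ℤ)).map 0) := H1.compLeft (unitCx adj K)
  rw [adjChain'_adjChain, Functor.map_zero, comp_zero] at H2
  exact ⟨H2⟩

end General

section Flat

variable {A B : Type u} [CommRing A] [CommRing B] [Algebra A B] [Module.Flat A B]

/-- derived base change along a flat algebra map, on complexes -/
noncomputable def lbcQIso [DRing.HasLBaseChange (algebraMap A B)] (K₀ : DRing.Cx A) :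
    (DRing.LBaseChange (algebraMap A B)).obj (Q.obj K₀) ≅
      Q.obj ((extCx (algebraMap A B)).obj K₀) :=
  haveI := FlatBC.preservesFiniteLimits_extendScalars_algebraMap (A := A) (B := B)
  (FlatBC.lbcIso (algebraMap A B)).app _ ≪≫
    (ModuleCat.extendScalars.{u, u, u} (algebraMap A B)).mapDerivedCategoryFactors.app K₀

omit [Module.Flat A B] in
/-- termwise extension of scalars preserves termwise flatness -/
lemma termwiseFlat_extCx (K₀ : DRing.Cx A) (h : DRing.TermwiseFlat K₀) :
    DRing.TermwiseFlat ((extCx (algebraMap A B)).obj K₀) := by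
  intro i
  haveI := h i
  exact Module.Flat.of_linearEquiv (ExtSc.extendObjEquiv (B := B) (K₀.X i))

/-- derived base change of the unit -/
noncomputable def lbcUnitIso [DRing.HasLBaseChange (algebraMap A B)] :
    (DRing.LBaseChange (algebraMap A B)).obj (Dual.inD A A) ≅ Q.obj (𝟙_ (DRing.Cx B)) :=
  haveI := FlatBC.preservesFiniteLimits_extendScalars_algebraMap (A := A) (B := B)
  (FlatBC.lbcIso (algebraMap A B)).app _ ≪≫
    ((ModuleCat.extendScalars.{u, u, u} (algebraMap A B)).mapDerivedCategorySingleFunctor 0).app
      (ModuleCat.of A A) ≪≫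
    (DerivedCategory.singleFunctor (ModuleCat.{u} B) 0).mapIso
      ((ExtSc.extendObjEquiv (B := B) (ModuleCat.of A A)).trans
        (TensorProduct.AlgebraTensorModule.rid A B B)).toModuleIso ≪≫
    (DerivedCategory.singleFunctorIsoCompQ (ModuleCat.{u} B) 0).app (ModuleCat.of B B)

end Flat

section Comp

variable {A B C : Type u} [CommRing A] [CommRing B] [CommRing C]

/-- termwise extension of scalars along a composite -/
noncomputable def extCxCompIso (f : A →+* B) (g : B →+* C) (h : A →+* C) (hh : h = g.comp f)
    (K : DRing.Cx A) : (extCx h).obj K ≅ (extCx g).obj ((extCx f).obj K) :=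
  HomologicalComplex.Hom.isoOfComponents
    (fun i => (FBC.extendScalarsCongr hh ≪≫ ModuleCat.extendScalarsComp f g).app (K.X i))
    (fun i j _ => ((FBC.extendScalarsCongr hh ≪≫
      ModuleCat.extendScalarsComp f g).hom.naturality (K.d i j)).symm)

end Comp

end Groth.Agent.Lib.helper23.PerfT
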