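import Mathlib
import Groth.Prelude.Def_DRing4
import Groth.Prelude.Def_DualSh
import Groth.Agent.Lib.Helper23.PerfT8
import Groth.Agent.Lib.Helper23.PerfT9

/-!
# `φ^!(K) ≅ (K ⊗^L_R A) ⊗^L_A ω_{A/R}` for a flat ring map of finite type (helper23)
-/

set_option autoImplicit false
universe u
open CategoryTheory CategoryTheory.Limits MonoidalCategory Opposite DerivedCategory
open HomologicalComplex

attribute [local instance] HasDerivedCategory.standard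

namespace Groth.Agent.Lib.helper23.PerfT

open Groth.Agent.Lib.helper23.DualD Groth.Agent.Lib.helper23.TensHom
  Groth.Agent.Lib.helper23.RAdj Groth.Agent.Lib.helper13.ExtKFlat
  Groth.Agent.Lib.helper13.KFlat Groth.Agent.Lib.helper13.LTenCx

theorem shriekVia_iso_baseChange_tensor (R A : Type u) [CommRing R] [CommRing A]
    [IsNoetherianRing R] [Algebra R A] [Module.Flat R A] (n : ℕ)
    (ψ : MvPolynomial (Fin n) R →ₐ[R] A) (hψ : Function.Surjective ψ)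
    [DRing.HasLBaseChange (algebraMap R (MvPolynomial (Fin n) R))]
    (Rψ : Dual.D (MvPolynomial (Fin n) R) ⥤ Dual.D A) (adj : DRing.restrictD ψ.toRingHom ⊣ Rψ)
    (W : DRing.Cx A) (hW : Nonempty (DRing.toD W ≅ Dual2.shriekVia n Rψ (Dual.inD R R)))
    [DRing.HasLBaseChange (algebraMap R A)] [DRing.HasLTensorCx A W] (K : Dual.D R) :
    Nonempty (Dual2.shriekVia n Rψ K ≅
      (DRing.LTensorCx A W).obj ((DRing.LBaseChange (algebraMap R A)).obj K)) := by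
  classical
  let P := MvPolynomial (Fin n) R
  let ψ' : P →+* A := ψ.toRingHom
  obtain ⟨hfin, d, hpd⟩ := exists_hasProjectiveDimensionLT_of_flat R A n ψ hψ
  haveI := hfin
  haveI := hpd
  -- K-flat resolution of K
  obtain ⟨K₀, f, hK₀, hK₀fl, hf, -⟩ :=
    Groth.Agent.Lib.helper13.KRes.exists_isKFlatR_resolution (Q.objPreimage K)
  haveI := hf
  let eK : Q.obj K₀ ≅ K := asIso (Q.map f) ≪≫ Q.objObjPreimageIso K
  let NP : DRing.Cx P := (extCx (algebraMap R P)).obj K₀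
  have hNPk : IsKFlatR NP := isKFlatR_extCx _ _ hK₀
  have hNPfl : DRing.TermwiseFlat NP := termwiseFlat_extCx K₀ hK₀fl
  obtain ⟨I, u, hI, hu, -, hIinj⟩ :=
    Groth.Agent.Lib.Helper25.KInjMain.exists_kInjective_resolution (𝟙_ (DRing.Cx P))
  obtain ⟨J, α, hJ, hα, -, hJinj⟩ :=
    Groth.Agent.Lib.Helper25.KInjMain.exists_kInjective_resolution (I ⊗ NP)
  haveI := hI
  haveI := hJ
  haveI := hu
  haveI := hα
  haveI : ∀ j, Injective (I.X j) := hIinj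
  haveI : ∀ j, Injective (J.X j) := hJinj
  have hΘ : QuasiIso (ΘB ψ' α) := quasiIso_ΘB ψ' α hNPfl d
  haveI : CochainComplex.IsKInjective (Gc ψ' I) := isKInjective_map_of_adj (adjm ψ') I
  haveI : CochainComplex.IsKInjective (Gc ψ' J) := isKInjective_map_of_adj (adjm ψ') J
  haveI : QuasiIso (u ▷ NP) := quasiIso_whiskerRight_of_isKFlatR NP hNPk u
  haveI : QuasiIso ((λ_ NP).inv ≫ u ▷ NP) := inferInstance
  let e1 : (DRing.LBaseChange (algebraMap R P)).obj K ≅ Q.obj J :=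
    (DRing.LBaseChange (algebraMap R P)).mapIso eK.symm ≪≫ lbcQIso K₀ ≪≫
      asIso (Q.map ((λ_ NP).inv ≫ u ▷ NP)) ≪≫ asIso (Q.map α)
  let e2 : Rψ.obj ((DRing.LBaseChange (algebraMap R P)).obj K) ≅ Q.obj (Gc ψ' J) :=
    Rψ.mapIso e1 ≪≫ (compIso (adjm ψ') Rψ adj J).symm
  let NA : DRing.Cx A := (extCx ψ').obj NP
  have hNA : IsKFlatR NA := isKFlatR_extCx _ _ hNPk
  let e3 : Q.obj (Gc ψ' J) ≅ Q.obj (Gc ψ' I ⊗ NA) := (asIso (Q.map (ΘB ψ' α))).symm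
  let e4 : Rψ.obj ((DRing.LBaseChange (algebraMap R P)).obj (Dual.inD R R)) ≅ Q.obj (Gc ψ' I) :=
    Rψ.mapIso (lbcUnitIso ≪≫ asIso (Q.map u)) ≪≫ (compIso (adjm ψ') Rψ adj I).symm
  obtain ⟨w⟩ := hW
  let eW : Q.obj W ≅ Q.obj ((Gc ψ' I)⟦(n : ℤ)⟧) :=
    w ≪≫ (shiftFunctor (Dual.D A) (n : ℤ)).mapIso e4 ≪≫
      ((Q.commShiftIso (n : ℤ)).app (Gc ψ' I)).symm
  have hcomp : algebraMap R A = ψ'.comp (algebraMap R P) := by
    ext r
    exact (ψ.commutes r).symm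
  let a : Q.obj NA ≅ (DRing.LBaseChange (algebraMap R A)).obj K :=
    (Q.mapIso (extCxCompIso (algebraMap R P) ψ' (algebraMap R A) hcomp K₀)).symm ≪≫
      (lbcQIso K₀).symm ≪≫ (DRing.LBaseChange (algebraMap R A)).mapIso eK
  obtain ⟨t⟩ := nonempty_LTensorCx_iso W ((Gc ψ' I)⟦(n : ℤ)⟧) NA hNA eW a
  let s : NA ⊗ (Gc ψ' I)⟦(n : ℤ)⟧ ≅ (Gc ψ' I ⊗ NA)⟦(n : ℤ)⟧ :=
    DTen.braidCx _ _ ≪≫
      CochainComplex.mapBifunctorShift₁Iso (Gc ψ' I) NA (curriedTensor (ModuleCat.{u} A)) (n : ℤ)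
  exact ⟨(shiftFunctor (Dual.D A) (n : ℤ)).mapIso (e2 ≪≫ e3) ≪≫
    ((Q.commShiftIso (n : ℤ)).app (Gc ψ' I ⊗ NA)).symm ≪≫ Q.mapIso s.symm ≪≫ t.symm⟩

end Groth.Agent.Lib.helper23.PerfT
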