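import Mathlib
import Groth.Prelude.Def_Wider
import Groth.Prelude.Def_DDual2
import Groth.Agent.Lib.Helper23.RAdj6

/-!
# The right adjoint of restriction along an arbitrary finite ring map `φ` (helper23)
General-`φ` versions of the statements of `RAdj6`, and vanishing of cohomology in low degrees.
-/

set_option autoImplicit false
universe u
open CategoryTheory CategoryTheory.Limits DerivedCategory Opposite

attribute [local instance] HasDerivedCategory.standard

namespace Groth.Agent.Lib.helper23.RAdj

open Groth.Agent.Lib.helper23.DualD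

variable {A B : Type u} [CommRing A] [CommRing B] (φ : A →+* B)
  (R : Dual.D A ⥤ Dual.D B) (adj : DRing.restrictD φ ⊣ R)

lemma finite_BA_of_surjective (hφ : Function.Surjective φ) : Module.Finite A (BA φ) := by
  let ℓ : A →ₗ[A] (BA φ) :=
    { toFun := fun a => φ a
      map_add' := fun a b => map_add φ a b
      map_smul' := fun a b => by
        show φ (a * b) = φ a * φ b
        exact map_mul φ a b }
  exact Module.Finite.of_surjective ℓ hφ

include adj in
theorem isZero_homology_rightAdjoint (K : Dual.D A) (a : ℤ)
    (hKa : ∀ j : ℤ, j < a → IsZero ((homologyFunctor (ModuleCat.{u} A) j).obj K)) (i : ℤ)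
    (hi : i < a) : IsZero ((homologyFunctor (ModuleCat.{u} B) i).obj (R.obj K)) := by
  obtain ⟨I, hI, hIge, ⟨e⟩⟩ := exists_bddBelow_model K a hKa
  haveI := hI
  haveI := hIge
  haveI : I.IsKInjective := CochainComplex.isKInjective_of_injective I a
  haveI := isKInjective_Gc φ I a
  haveI := isStrictlyGE_Gc φ I a
  haveI : (Q.obj (Gc φ I)).IsGE a := (DerivedCategory.isGE_Q_obj_iff (Gc φ I) a).2 inferInstance
  haveI : (R.obj K).IsGE a := DerivedCategory.TStructure.t.isGE_of_iso (cω φ I R adj e) a
  exact DerivedCategory.isZero_of_isGE (R.obj K) a i hi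

include adj in
theorem finite_HD_rightAdjoint' [IsNoetherianRing A] [Module.Finite A (BA φ)] (K : Dual.D A)
    (a : ℤ) (hKa : ∀ j : ℤ, j < a → IsZero ((homologyFunctor (ModuleCat.{u} A) j).obj K))
    (hK : ∀ j : ℤ, Module.Finite A ((homologyFunctor (ModuleCat.{u} A) j).obj K)) (i : ℤ) :
    Module.Finite B ((homologyFunctor (ModuleCat.{u} B) i).obj (R.obj K)) := by
  obtain ⟨I, hI, hIge, ⟨e⟩⟩ := exists_bddBelow_model K a hKa
  haveI := hI
  haveI := hIge
  haveI : I.IsKInjective := CochainComplex.isKInjective_of_injective I a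
  haveI := isKInjective_Gc φ I a
  exact finite_homology_of_model φ R adj I e a hKa hK i

end Groth.Agent.Lib.helper23.RAdj
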