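import Mathlib
import Groth.Prelude.Def_DRing4
import Groth.Prelude.Def_DualSh
import Groth.Agent.Lib.Helper23.PerfT10
import Groth.Agent.Lib.Helper23.RelDual1
import Groth.Agent.Lib.Helper23.Kz5
import Groth.Agent.Lib.Helper23.TA11
import Groth.Agent.Lib.Helper23.TA9
import Groth.Agent.Lib.Helper23.HomNat
import Groth.Agent.Lib.Helper23.DRingPC8
import Groth.Agent.S1783

/-!
# `ω_{A/R} = φ^!(R)` is `R`-perfect for a flat ring map of finite type (helper23)
-/

set_option autoImplicit false
universe u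
open CategoryTheory CategoryTheory.Limits MonoidalCategory Opposite DerivedCategory
open HomologicalComplex

attribute [local instance] HasDerivedCategory.standard

namespace Groth.Agent.Lib.helper23.RelDual

open Groth.Agent.Lib.helper23.DualD Groth.Agent.Lib.helper23.TensHom
  Groth.Agent.Lib.helper23.RAdj Groth.Agent.Lib.helper23.PerfT Groth.Agent.Lib.helper23.TA

/-- vanishing of the cohomology of a restriction of scalars -/
lemma subsingleton_HD_of_isZero_restrictD {A B : Type u} [CommRing A] [CommRing B] (φ : A →+* B)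
    (K : Dual.D B) (i : ℤ)
    (h : IsZero ((homologyFunctor (ModuleCat.{u} A) i).obj ((DRing.restrictD φ).obj K))) :
    Subsingleton (Dual.HD B K i) := by
  have h1 : IsZero ((ModuleCat.restrictScalars.{u} φ).obj
      ((homologyFunctor (ModuleCat.{u} B) i).obj K)) :=
    h.of_iso ((HomNat.homologyNatIso (ModuleCat.restrictScalars.{u} φ) i).app K).symm
  have h2 := ModuleCat.subsingleton_of_isZero h1
  exact h2

lemma finite_HD_inD_self (R : Type u) [CommRing R] (i : ℤ) :
    Module.Finite R (Dual.HD R (Dual.inD R R) i) := by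
  rcases lt_trichotomy i 0 with hi | hi | hi
  · haveI : Subsingleton (Dual.HD R (Dual.inD R R) i) :=
      ModuleCat.subsingleton_of_isZero (DerivedCategory.isZero_of_isGE (Dual.inD R R) 0 i hi)
    infer_instance
  · subst hi
    haveI : Module.Finite R ((𝟭 (ModuleCat.{u} R)).obj (ModuleCat.of R R)) :=
      (inferInstance : Module.Finite R R)
    exact Module.Finite.equiv
      ((DerivedCategory.singleFunctorCompHomologyFunctorIso (ModuleCat.{u} R) 0).app
        (ModuleCat.of R R)).toLinearEquiv.symm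
  · haveI : Subsingleton (Dual.HD R (Dual.inD R R) i) :=
      ModuleCat.subsingleton_of_isZero (DerivedCategory.isZero_of_isLE (Dual.inD R R) 0 i hi)
    infer_instance

/-- the tor amplitude over `R` of `φ^!(R)`, `φ : R → A` flat of finite type. -/
theorem exists_hasTorAmplitudeIn_shriekVia_self (R A : Type u) [CommRing R] [CommRing A]
    [IsNoetherianRing R] [Algebra R A] [Module.Flat R A] (n : ℕ)
    (ψ : MvPolynomial (Fin n) R →ₐ[R] A) (hψ : Function.Surjective ψ)
    [DRing.HasLBaseChange (algebraMap R (MvPolynomial (Fin n) R))]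
    (Rψ : Dual.D (MvPolynomial (Fin n) R) ⥤ Dual.D A) (adj : DRing.restrictD ψ.toRingHom ⊣ Rψ) :
    ∃ d : ℕ, DRing.HasTorAmplitudeIn R (0 - (n : ℤ)) ((d : ℤ) - (n : ℤ))
      ((DRing.restrictD (algebraMap R A)).obj (Dual2.shriekVia n Rψ (Dual.inD R R))) := by
  classical
  let P := MvPolynomial (Fin n) R
  let ψ' : P →+* A := ψ.toRingHom
  obtain ⟨hfin, d, hpd⟩ := exists_hasProjectiveDimensionLT_of_flat R A n ψ hψ
  haveI := hfin
  haveI := hpd
  haveI : IsNoetherianRing P := inferInstance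
  obtain ⟨I, u, hI, hu, -, hIinj⟩ :=
    Groth.Agent.Lib.Helper25.KInjMain.exists_kInjective_resolution (𝟙_ (DRing.Cx P))
  haveI := hI
  haveI := hu
  haveI : ∀ j, Injective (I.X j) := hIinj
  haveI : CochainComplex.IsKInjective (Gc ψ' I) := isKInjective_map_of_adj (adjm ψ') I
  let e4 : Rψ.obj ((DRing.LBaseChange (algebraMap R P)).obj (Dual.inD R R)) ≅ Q.obj (Gc ψ' I) :=
    Rψ.mapIso (lbcUnitIso ≪≫ asIso (Q.map u)) ≪≫ (compIso (adjm ψ') Rψ adj I).symm
  -- tor amplitude of `I`
  let eu : Q.obj (𝟙_ (DRing.Cx P)) ≅ Q.obj I := asIso (Q.map u)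
  have hIamp : DRing.HasTorAmplitudeIn P 0 0 (Q.obj I) :=
    hasTorAmplitudeIn_of_iso
      ((DerivedCategory.singleFunctorIsoCompQ (ModuleCat.{u} P) 0).app (ModuleCat.of P P) ≪≫ eu)
      (hasTorAmplitudeIn_single_flat (ModuleCat.of P P) (inferInstance : Module.Flat P P) 0)
  have h1 : DRing.HasTorAmplitudeIn P 0 d (Q.obj ((homCx I).obj (op (BA ψ')))) :=
    hasTorAmplitudeIn_homCx I hIamp d (BA ψ')
  have h2 : DRing.HasTorAmplitudeIn P 0 d
      ((DRing.restrictD ψ').obj (Rψ.obj ((DRing.LBaseChange (algebraMap R P)).obj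
        (Dual.inD R R)))) :=
    hasTorAmplitudeIn_of_iso ((ρ ψ' I).symm ≪≫ (DRing.restrictD ψ').mapIso e4.symm) h1
  have hPfl : DRing.HasTorAmplitudeIn R (-((0 : ℕ) : ℤ)) 0 (Dual.inD R P) := by
    have := hasTorAmplitudeIn_single_flat (ModuleCat.of R P) (inferInstance : Module.Flat R P) 0
    simpa using this
  have h3 := hasTorAmplitudeIn_restrict (A := R) (B := P) 0 hPfl _ 0 d h2
  have hcomp : algebraMap R A = ψ'.comp (algebraMap R P) := by
    ext r
    exact (ψ.commutes r).symm
  have h4 : DRing.HasTorAmplitudeIn R 0 d ((DRing.restrictD (algebraMap R A)).obj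
      (Rψ.obj ((DRing.LBaseChange (algebraMap R P)).obj (Dual.inD R R)))) := by
    have := hasTorAmplitudeIn_of_iso
      ((Kz.restrictDCompIso (algebraMap R P) ψ' (algebraMap R A) hcomp).app _) h3
    simpa using this
  have h5 := hasTorAmplitudeIn_shift h4 (n : ℤ)
  exact ⟨d, hasTorAmplitudeIn_of_iso
    (((DRing.restrictD (algebraMap R A)).commShiftIso (n : ℤ)).app _).symm h5⟩

/-- `φ^!(R)` is `R`-perfect for `φ : R → A` flat of finite type between Noetherian rings. -/
theorem isRelPerfect_shriekVia_self (R A : Type u) [CommRing R] [CommRing A]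
    [IsNoetherianRing R] [IsNoetherianRing A] [Algebra R A] [Module.Flat R A] (n : ℕ)
    (ψ : MvPolynomial (Fin n) R →ₐ[R] A) (hψ : Function.Surjective ψ)
    [DRing.HasLBaseChange (algebraMap R (MvPolynomial (Fin n) R))]
    (Rψ : Dual.D (MvPolynomial (Fin n) R) ⥤ Dual.D A) (adj : DRing.restrictD ψ.toRingHom ⊣ Rψ) :
    Dual2.IsRelPerfect R A (Dual2.shriekVia n Rψ (Dual.inD R R)) := by
  obtain ⟨d, hd⟩ := exists_hasTorAmplitudeIn_shriekVia_self R A n ψ hψ Rψ adj
  refine ⟨?_, ⟨_, _, hd⟩⟩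
  rw [DRingPC.isPseudoCoherent'_iff_npc]
  intro m
  rw [DRingPC.npc_iff_of_noetherian]
  have hfin := (Groth.Agent.S1783.result R A n ψ hψ Rψ adj (Dual.inD R R) 0 ?_).2 ?_
  · refine ⟨⟨(d : ℤ) - (n : ℤ), fun i hi => ?_⟩, fun i _ => hfin i⟩
    exact subsingleton_HD_of_isZero_restrictD (algebraMap R A) _ i
      (isZero_homology_of_hasTorAmplitudeIn hd i (Or.inr hi))
  · intro i hi
    exact ModuleCat.subsingleton_of_isZero
      (DerivedCategory.isZero_of_isGE (Dual.inD R R) 0 i hi)
  · intro i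
    exact finite_HD_inD_self R i

end Groth.Agent.Lib.helper23.RelDual
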