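import Mathlib
import Groth.Prelude.Def_Wider
import Groth.Agent.Lib.Helper23.RegGap

/-!
# helper23: `A[0]` is a dualizing complex for a regular ring of finite Krull dimension
-/

set_option autoImplicit false
universe u
open CategoryTheory CategoryTheory.Limits Pretriangulated

attribute [local instance] HasDerivedCategory.standard

namespace Groth.Agent.Lib.helper23.RegGap

variable {R : Type u} [CommRing R] [IsNoetherianRing R]

/-- a regular Noetherian ring of Krull dimension at most `d` has global dimension at most `d`. -/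
theorem hasProjectiveDimensionLT_of_regular_le
    (hreg : ∀ p : PrimeSpectrum R, IsRegularLocalRing (Localization.AtPrime p.asIdeal)) (d : ℕ)
    (hd : ringKrullDim R ≤ d) (M : ModuleCat.{u} R) : HasProjectiveDimensionLT M (d + 1) := by
  refine Groth.Agent.Lib.helper26.GlobalDim.hasProjectiveDimensionLT_of_forall_cyclic d
    (fun I => ?_) M
  change HasProjectiveDimensionLE (ModuleCat.of R (R ⧸ I)) d
  rw [ModuleCat.hasProjectiveDimensionLE_iff_forall_primeSpectrum]
  intro p
  haveI := hreg p
  have h1 := IsRegularLocalRing.spanFinrank_maximalIdeal (R := Localization.AtPrime p.asIdeal)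
  have h2 : ringKrullDim (Localization.AtPrime p.asIdeal) ≤ d := by
    rw [IsLocalization.AtPrime.ringKrullDim_eq_height p.asIdeal]
    exact le_trans (Ideal.height_le_ringKrullDim_of_ne_top p.2.ne_top) hd
  have h3 : (IsLocalRing.maximalIdeal (Localization.AtPrime p.asIdeal)).spanFinrank ≤ d := by
    rw [← h1] at h2
    exact_mod_cast h2
  have h4 := Groth.Agent.S0563.result (Localization.AtPrime p.asIdeal) _ h1.symm
    (((ModuleCat.of R (R ⧸ I)).localizedModule p.asIdeal.primeCompl))
  haveI h5 : HasProjectiveDimensionLT
      ((ModuleCat.of R (R ⧸ I)).localizedModule p.asIdeal.primeCompl)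
      ((IsLocalRing.maximalIdeal (Localization.AtPrime p.asIdeal)).spanFinrank + 1) := h4
  exact hasProjectiveDimensionLT_of_ge _
    ((IsLocalRing.maximalIdeal (Localization.AtPrime p.asIdeal)).spanFinrank + 1) (d + 1)
    (by omega)

lemma exists_nat_ringKrullDim_le (h : ringKrullDim R < ⊤) : ∃ d : ℕ, ringKrullDim R ≤ d := by
  generalize ringKrullDim R = x at h
  induction x with
  | bot => exact ⟨0, bot_le⟩
  | coe y =>
    have hy : y ≠ ⊤ := by
      rintro rfl
      exact lt_irrefl _ h
    obtain ⟨n, rfl⟩ := ENat.ne_top_iff_exists.1 hy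
    exact ⟨n, le_refl _⟩

/-- **`A[0]` is dualizing for a regular ring of finite Krull dimension.** -/
theorem isDualizing_self_of_regular (A : Type u) [CommRing A] [IsNoetherianRing A]
    (hreg : ∀ p : PrimeSpectrum A, IsRegularLocalRing (Localization.AtPrime p.asIdeal))
    (hdim : ringKrullDim A < ⊤) : Dual.IsDualizing A (Dual.inD A A) := by
  let : HasExt.{u + 1} (ModuleCat.{u} A) := hasExt_of_hasDerivedCategory _
  obtain ⟨d, hd⟩ := exists_nat_ringKrullDim_le hdim
  have hneg : ∀ (M N : ModuleCat.{u} A) (i : ℤ), i < 0 →
      Subsingleton ((DerivedCategory.singleFunctor (ModuleCat.{u} A) 0).obj M ⟶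
        ((DerivedCategory.singleFunctor (ModuleCat.{u} A) 0).obj N)⟦i⟧) := by
    intro M N i hi
    have h1 : DerivedCategory.TStructure.t.IsGE
        (((DerivedCategory.singleFunctor (ModuleCat.{u} A) 0).obj N)⟦i⟧) (-i) :=
      DerivedCategory.TStructure.t.isGE_shift _ 0 i (-i) (by omega)
    exact ⟨fun f g => by
      rw [DerivedCategory.TStructure.t.zero f 0 (-i) (by omega),
        DerivedCategory.TStructure.t.zero g 0 (-i) (by omega)]⟩
  refine ⟨inferInstance, ⟨0, d, ?_⟩, ?_, ?_, ?_⟩
  · intro M _ _ i hi
    rcases hi with hi | hi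
    · exact hneg (ModuleCat.of A M) (ModuleCat.of A A) i hi
    · obtain ⟨k, rfl⟩ := Int.eq_ofNat_of_zero_le (by omega : 0 ≤ i)
      haveI := hasProjectiveDimensionLT_of_regular_le hreg d hd (ModuleCat.of A M)
      have : Subsingleton (Abelian.Ext (ModuleCat.of A M) (ModuleCat.of A A) k) :=
        HasProjectiveDimensionLT.subsingleton (ModuleCat.of A M) (d + 1) k (by omega) _
      exact (Abelian.Ext.homEquiv (X := ModuleCat.of A M) (Y := ModuleCat.of A A)
        (n := k)).symm.subsingleton
  · intro i
    by_cases hi : i = 0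
    · subst hi
      have e := (DerivedCategory.singleFunctorCompHomologyFunctorIso (ModuleCat.{u} A) 0).app
        (ModuleCat.of A A)
      have hfin : Module.Finite A ((𝟭 (ModuleCat.{u} A)).obj (ModuleCat.of A A)) := by
        change Module.Finite A A
        infer_instance
      exact Module.Finite.equiv e.toLinearEquiv.symm
    · have hz : Limits.IsZero ((DerivedCategory.homologyFunctor (ModuleCat.{u} A) i).obj
          ((DerivedCategory.singleFunctor (ModuleCat.{u} A) 0).obj (ModuleCat.of A A))) := by
        rcases lt_or_gt_of_ne hi with h' | h'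
        · exact DerivedCategory.isZero_of_isGE _ 0 i h'
        · exact DerivedCategory.isZero_of_isLE _ 0 i h'
      have := ModuleCat.subsingleton_of_isZero hz
      infer_instance
  · have hmap : ∀ a : A, a • (𝟙 (Dual.inD A A)) =
        (DerivedCategory.singleFunctor (ModuleCat.{u} A) 0).map
          (a • 𝟙 (ModuleCat.of A A)) := by
      intro a
      rw [Functor.Linear.map_smul, CategoryTheory.Functor.map_id]
    constructor
    · intro a b hab
      simp only [hmap] at hab
      have h1 := (DerivedCategory.singleFunctor (ModuleCat.{u} A) 0).map_injective hab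
      have h2 := congrArg (fun f : ModuleCat.of A A ⟶ ModuleCat.of A A => f.hom (1 : A)) h1
      simpa using h2
    · intro f
      obtain ⟨g, rfl⟩ := (DerivedCategory.singleFunctor (ModuleCat.{u} A) 0).map_surjective f
      refine ⟨g.hom (1 : A), ?_⟩
      simp only [hmap]
      congr 1
      ext
      simp
  · intro i hi
    rcases lt_or_gt_of_ne hi with h' | h'
    · exact hneg (ModuleCat.of A A) (ModuleCat.of A A) i h'
    · obtain ⟨k, rfl⟩ : ∃ k : ℕ, i = ((k + 1 : ℕ) : ℤ) := ⟨(i - 1).toNat, by omega⟩
      have : Subsingleton (Abelian.Ext (ModuleCat.of A A) (ModuleCat.of A A) (k + 1)) :=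
        Abelian.Ext.subsingleton_of_projective _ _ k
      exact (Abelian.Ext.homEquiv (X := ModuleCat.of A A) (Y := ModuleCat.of A A)
        (n := k + 1)).symm.subsingleton

end Groth.Agent.Lib.helper23.RegGap
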