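import Mathlib

/-!
# The Koszul short exact sequence `0 → N[X] --(X - g)--> N[X] → N → 0` of `B[X]`-modules (helper23)

`B` a commutative ring, `π : B[X] →ₐ[B] B` a `B`-algebra map (evaluation at `g = π X`), `t = X - C g`.
For a `B`-module `N`: `ext N = B[X] ⊗_B N`, `resπ N = N` with `X` acting as `g`.
* `c₀ : resπ ⋙ resC ≅ 𝟭`, `p₀ : ext ⟶ resπ` (adjunct of `c₀⁻¹`), `μ₀ : ext ⟶ ext` (multiplication by `t`);
* `unit_p₀_c₀`, `μ₀_p₀`, `shortExact_sc₀`.
-/

set_option autoImplicit false
universe u
open CategoryTheory Polynomial TensorProduct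

namespace Groth.Agent.Lib.helper23.Kz

variable {B : Type u} [CommRing B]

section Div

variable (g : B)

lemma X_sub_C_mul_divByMonic (q : B[X]) :
    (X - C g) * (q /ₘ (X - C g)) = q - C (q.eval g) := by
  have h := modByMonic_add_div q (X - C g)
  rw [modByMonic_X_sub_C_eq_C_eval] at h
  rw [eq_sub_iff_add_eq, add_comm]
  exact h

lemma X_sub_C_mul_cancel {a b : B[X]} (h : (X - C g) * a = (X - C g) * b) : a = b :=
  (monic_X_sub_C g).isRegular.left h

/-- `B[X]` as a `B`-module through `C`. -/
noncomputable abbrev S' : ModuleCat.{u} B :=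
  (ModuleCat.restrictScalars.{u} (algebraMap B B[X])).obj (ModuleCat.of B[X] B[X])

/-- division by `X - C g`, as a `B`-linear map. -/
noncomputable def r₀ : (S' (B := B)) →ₗ[B] (S' (B := B)) where
  toFun q := (show B[X] from q) /ₘ (X - C g)
  map_add' a b := by
    apply X_sub_C_mul_cancel g
    show (X - C g) * (((show B[X] from a) + (show B[X] from b)) /ₘ (X - C g)) = (X - C g) *
      ((show B[X] from a) /ₘ (X - C g) + (show B[X] from b) /ₘ (X - C g))
    rw [mul_add, X_sub_C_mul_divByMonic, X_sub_C_mul_divByMonic, X_sub_C_mul_divByMonic,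
      eval_add, C_add]
    ring
  map_smul' b a := by
    apply X_sub_C_mul_cancel g
    show (X - C g) * ((C b * (show B[X] from a)) /ₘ (X - C g)) = (X - C g) *
      (C b * ((show B[X] from a) /ₘ (X - C g)))
    rw [X_sub_C_mul_divByMonic, mul_left_comm, X_sub_C_mul_divByMonic, eval_mul, eval_C, C_mul]
    ring

lemma r₀_apply (q : B[X]) : r₀ g (show (S' (B := B)) from q) = (q /ₘ (X - C g) : B[X]) := rfl

lemma r₀_mul (q : B[X]) : r₀ g (show (S' (B := B)) from ((X - C g) * q : B[X])) = q :=
  mul_divByMonic_cancel_left q (monic_X_sub_C g)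

lemma mul_r₀_add (q : B[X]) :
    (X - C g) * (show B[X] from r₀ g (show (S' (B := B)) from q)) + C (q.eval g) = q := by
  show (X - C g) * (q /ₘ (X - C g)) + C (q.eval g) = q
  rw [X_sub_C_mul_divByMonic]
  ring

end Div

section Functors

variable (π : B[X] →ₐ[B] B)

/-- `N ↦ B[X] ⊗_B N`. -/
noncomputable abbrev extF : ModuleCat.{u} B ⥤ ModuleCat.{u} B[X] :=
  ModuleCat.extendScalars.{u, u, u} (algebraMap B B[X])

/-- `N ↦ N` with `X` acting through `π`. -/
noncomputable abbrev resπ : ModuleCat.{u} B ⥤ ModuleCat.{u} B[X] :=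
  ModuleCat.restrictScalars.{u} π.toRingHom

/-- restriction to `B`. -/
noncomputable abbrev resC : ModuleCat.{u} B[X] ⥤ ModuleCat.{u} B :=
  ModuleCat.restrictScalars.{u} (algebraMap B B[X])

/-- the adjunction. -/
noncomputable abbrev adj₀ : extF (B := B) ⊣ resC :=
  ModuleCat.extendRestrictScalarsAdj.{u, u, u} (algebraMap B B[X])

lemma π_comp : (π.toRingHom).comp (algebraMap B B[X]) = RingHom.id B := by
  ext b
  exact π.commutes b

/-- `resC ∘ resπ ≅ id`. -/
noncomputable def c₀ : resπ π ⋙ resC ≅ 𝟭 (ModuleCat.{u} B) :=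
  (ModuleCat.restrictScalarsComp'.{u} (algebraMap B B[X]) π.toRingHom _ rfl).symm ≪≫
    ModuleCat.restrictScalarsId'.{u} _ (π_comp π)

/-- the projection `B[X] ⊗ N → N`. -/
noncomputable def p₀ : extF (B := B) ⟶ resπ π where
  app N := extF.map ((c₀ π).inv.app N) ≫ adj₀.counit.app ((resπ π).obj N)
  naturality N N' φ := by
    have h1 := (c₀ π).inv.naturality φ
    have h2 := (adj₀ (B := B)).counit.naturality ((resπ π).map φ)
    dsimp at h1 h2 ⊢
    rw [← Category.assoc, ← Functor.map_comp, h1, Functor.map_comp, Category.assoc, h2,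
      Category.assoc]

lemma unit_p₀_c₀ (N : ModuleCat.{u} B) :
    (adj₀ (B := B)).unit.app N ≫ resC.map ((p₀ π).app N) ≫ (c₀ π).hom.app N = 𝟙 N := by
  have h1 := (adj₀ (B := B)).unit.naturality ((c₀ π).inv.app N)
  have h2 := (adj₀ (B := B)).right_triangle_components ((resπ π).obj N)
  dsimp at h1 h2
  dsimp [p₀]
  rw [Functor.map_comp, ← Category.assoc, ← Category.assoc, ← h1, Category.assoc,
    Category.assoc, ← Category.assoc (adj₀.unit.app _), h2]
  erw [Category.id_comp]
  exact (c₀ π).inv_hom_id_app N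

lemma p₀_tmul (N : ModuleCat.{u} B) (s : B[X]) (n : N) :
    ((p₀ π).app N).hom ((show (S' (B := B)) from s) ⊗ₜ[B] n) = (show (resπ π).obj N from (π s • n)) := by
  rfl

/-- multiplication by `t = X - C (π X)`. -/
noncomputable def μ₀ : extF (B := B) ⟶ extF where
  app N := (X - C (π X)) • 𝟙 _
  naturality N N' φ := by
    rw [Linear.comp_smul, Linear.smul_comp, Category.comp_id, Category.id_comp]

lemma μ₀_apply (N : ModuleCat.{u} B) (x : extF.obj N) :
    ((μ₀ π).app N).hom x = (X - C (π X) : B[X]) • x := rfl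

lemma π_t : π (X - C (π X)) = 0 := by
  rw [map_sub, ← Polynomial.algebraMap_eq, π.commutes]
  simp

lemma μ₀_p₀ (N : ModuleCat.{u} B) : (μ₀ π).app N ≫ (p₀ π).app N = 0 := by
  show ((X - C (π X)) • 𝟙 _) ≫ (p₀ π).app N = 0
  rw [Linear.smul_comp, Category.id_comp]
  apply ModuleCat.hom_ext
  apply LinearMap.ext
  intro x
  show (X - C (π X) : B[X]) • ((p₀ π).app N).hom x = 0
  rw [ModuleCat.restrictScalars.smul_def]
  erw [π_t π]
  exact zero_smul _ _

/-- the retraction, on the underlying `B`-module. -/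
noncomputable abbrev RN (N : ModuleCat.{u} B) :
    TensorProduct B (S' (B := B)) N →ₗ[B] TensorProduct B (S' (B := B)) N :=
  LinearMap.rTensor N (r₀ (π X))

lemma RN_smul (N : ModuleCat.{u} B) (x : extF.obj N) :
    RN π N ((X - C (π X) : B[X]) • x) = x := by
  induction x using TensorProduct.induction_on with
  | zero =>
    show RN π N ((X - C (π X) : B[X]) • (0 : extF.obj N)) = 0
    rw [smul_zero]
    exact map_zero _
  | tmul s n =>
    erw [ModuleCat.ExtendScalars.smul_tmul]
    erw [LinearMap.rTensor_tmul]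
    erw [r₀_mul]
  | add x y hx hy =>
    show RN π N ((X - C (π X) : B[X]) • ((show extF.obj N from x) + (show extF.obj N from y))) = _
    rw [smul_add]
    exact (map_add _ _ _).trans (congrArg₂ (· + ·) hx hy)

lemma smul_RN_add (N : ModuleCat.{u} B) (x : extF.obj N) :
    (X - C (π X) : B[X]) • (show extF.obj N from RN π N x) +
      (show extF.obj N from (show (S' (B := B)) from (1 : B[X])) ⊗ₜ[B]
        (show N from ((p₀ π).app N).hom x)) = x := by
  induction x using TensorProduct.induction_on with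
  | zero =>
    have h1 : RN π N 0 = 0 := map_zero _
    have h2 : ((p₀ π).app N).hom (0 : extF.obj N) = 0 := map_zero _
    show (X - C (π X) : B[X]) • (show extF.obj N from RN π N 0) +
      (show extF.obj N from (show (S' (B := B)) from (1 : B[X])) ⊗ₜ[B]
        (show N from ((p₀ π).app N).hom (0 : extF.obj N))) = (0 : extF.obj N)
    rw [h1, h2]
    show (X - C (π X) : B[X]) • (0 : extF.obj N) +
      (show extF.obj N from (show (S' (B := B)) from (1 : B[X])) ⊗ₜ[B] (0 : N)) = (0 : extF.obj N)
    rw [smul_zero, zero_add]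
    exact TensorProduct.tmul_zero _ _
  | tmul s n =>
    have h1 : RN π N (s ⊗ₜ[B] n) = (r₀ (π X) s) ⊗ₜ[B] n := LinearMap.rTensor_tmul _ _ _ _
    have h2 : ((p₀ π).app N).hom ((show (S' (B := B)) from s) ⊗ₜ[B] n) =
        (show (resπ π).obj N from (π s • n)) := rfl
    have h3 : (show (S' (B := B)) from (1 : B[X])) ⊗ₜ[B] (π s • n) =
        (show (S' (B := B)) from (C (π s) : B[X])) ⊗ₜ[B] n := by
      erw [← TensorProduct.smul_tmul]
      congr 1
      show (C (π s) : B[X]) * 1 = C (π s)
      rw [mul_one]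
    have h4 : π s = (show B[X] from s).eval (π X) := by
      rw [← Polynomial.coe_aeval_eq_eval, Polynomial.aeval_algHom_apply,
        Polynomial.aeval_X_left_apply]
    show (X - C (π X) : B[X]) • (show extF.obj N from RN π N (s ⊗ₜ[B] n)) +
      (show extF.obj N from (show (S' (B := B)) from (1 : B[X])) ⊗ₜ[B]
        (show N from ((p₀ π).app N).hom ((show (S' (B := B)) from s) ⊗ₜ[B] n))) = s ⊗ₜ[B] n
    rw [h1, h2]
    erw [h3, ModuleCat.ExtendScalars.smul_tmul]
    refine (TensorProduct.add_tmul (R := B) (M := (S' (B := B))) _ _ n).symm.trans ?_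
    congr 1
    rw [h4]
    exact mul_r₀_add (π X) s
  | add x y hx hy =>
    have h1 : RN π N (x + y) = RN π N x + RN π N y := map_add _ _ _
    have h2 : ((p₀ π).app N).hom ((show extF.obj N from x) + (show extF.obj N from y)) =
        ((p₀ π).app N).hom x + ((p₀ π).app N).hom y := map_add _ _ _
    show (X - C (π X) : B[X]) • (show extF.obj N from RN π N (x + y)) +
      (show extF.obj N from (show (S' (B := B)) from (1 : B[X])) ⊗ₜ[B]
        (show N from ((p₀ π).app N).hom ((show extF.obj N from x) + (show extF.obj N from y)))) =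
        (show extF.obj N from x) + (show extF.obj N from y)
    rw [h1, h2]
    conv_rhs => rw [← hx, ← hy]
    erw [smul_add, TensorProduct.tmul_add]
    exact add_add_add_comm _ _ _ _

/-- the Koszul short complex `B[X] ⊗ N --t--> B[X] ⊗ N --> N`. -/
noncomputable def sc₀ (N : ModuleCat.{u} B) : ShortComplex (ModuleCat.{u} B[X]) :=
  ShortComplex.mk ((μ₀ π).app N) ((p₀ π).app N) (μ₀_p₀ π N)

lemma shortExact_sc₀ (N : ModuleCat.{u} B) : (sc₀ π N).ShortExact := by
  refine ShortComplex.ShortExact.mk' ?_ ?_ ?_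
  · rw [ShortComplex.moduleCat_exact_iff]
    intro x hx
    refine ⟨show extF.obj N from RN π N x, ?_⟩
    have h := smul_RN_add π N x
    replace hx : ((p₀ π).app N).hom x = 0 := hx
    rw [hx] at h
    erw [TensorProduct.tmul_zero, add_zero] at h
    exact h
  · rw [ModuleCat.mono_iff_injective]
    intro (x : extF.obj N) (y : extF.obj N) hxy
    replace hxy : (X - C (π X) : B[X]) • x = (X - C (π X) : B[X]) • y := hxy
    have := congrArg (RN π N) hxy
    rw [RN_smul π N x, RN_smul π N y] at this
    exact this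
  · rw [ModuleCat.epi_iff_surjective]
    intro n
    refine ⟨(show (S' (B := B)) from (1 : B[X])) ⊗ₜ[B] (show N from n), ?_⟩
    show (show (resπ π).obj N from (π 1 • (show N from n))) = n
    rw [map_one, one_smul]

end Functors

end Groth.Agent.Lib.helper23.Kz
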