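import Mathlib
import Groth.Prelude.Def_Wider
import Groth.Prelude.Def_DDual2
import Groth.Agent.Lib.Helper23.Kz1
import Groth.Agent.Lib.Helper23.Kz2
import Groth.Agent.Lib.Helper23.FlatBC1
import Groth.Agent.Lib.Helper25.DerivedAdj

/-!
# The Koszul universal arrow for `π : B[X] → B` on derived categories (helper23)

`isUniv_polynomial π L`: for `L ∈ D(B)`, the connecting morphism `δ_L : res_π L ⟶ (L ⊗_B B[X])⟦1⟧` is a
universal arrow from `restrictD π` to `(L ⊗_B B[X])⟦1⟧`; i.e. `RHom_{B[X]}(B, L[X])[1] ≅ L` in the form of a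
universal property.
-/

set_option autoImplicit false
universe u
open CategoryTheory CategoryTheory.Limits DerivedCategory Pretriangulated Polynomial

attribute [local instance] HasDerivedCategory.standard

namespace Groth.Agent.Lib.helper23.Kz

attribute [local instance] FlatBC.preservesFiniteLimits_extendScalars_algebraMap

variable {B : Type u} [CommRing B] (π : B[X] →ₐ[B] B)

variable (B) in
/-- quasi-isomorphisms of complexes of `B`-modules. -/
abbrev WW : MorphismProperty (CochainComplex (ModuleCat.{u} B) ℤ) :=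
  HomologicalComplex.quasiIso (ModuleCat.{u} B) (ComplexShape.up ℤ)

/-- `- ⊗_B B[X]` on complexes. -/
noncomputable abbrev extCx : CochainComplex (ModuleCat.{u} B) ℤ ⥤ CochainComplex (ModuleCat.{u} B[X]) ℤ :=
  (extF (B := B)).mapHomologicalComplex (ComplexShape.up ℤ)

/-- restriction along `π` on complexes. -/
noncomputable abbrev resπCx : CochainComplex (ModuleCat.{u} B) ℤ ⥤ CochainComplex (ModuleCat.{u} B[X]) ℤ :=
  (resπ π).mapHomologicalComplex (ComplexShape.up ℤ)

/-- restriction to `B` on complexes. -/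
noncomputable abbrev resCCx : CochainComplex (ModuleCat.{u} B[X]) ℤ ⥤ CochainComplex (ModuleCat.{u} B) ℤ :=
  (resC (B := B)).mapHomologicalComplex (ComplexShape.up ℤ)

/-- `- ⊗_B B[X] : D(B) ⥤ D(B[X])`. -/
noncomputable abbrev ED : Dual.D B ⥤ Dual.D B[X] := (extF (B := B)).mapDerivedCategory

/-- `restrictD π : D(B) ⥤ D(B[X])`. -/
noncomputable abbrev RπD : Dual.D B ⥤ Dual.D B[X] := (resπ π).mapDerivedCategory

/-- `restrictD C : D(B[X]) ⥤ D(B)`. -/
noncomputable abbrev RCD : Dual.D B[X] ⥤ Dual.D B := (resC (B := B)).mapDerivedCategory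

/-- the adjunction on complexes. -/
noncomputable def adjCx : extCx (B := B) ⊣ resCCx :=
  Groth.Agent.Lib.helper25.DerivedAdj.mapHomologicalComplexAdj (adj₀ (B := B)) (ComplexShape.up ℤ)

lemma adjCx_unit_app_f (K : CochainComplex (ModuleCat.{u} B) ℤ) (i : ℤ) :
    ((adjCx (B := B)).unit.app K).f i = (adj₀ (B := B)).unit.app (K.X i) := rfl

/-- the square for `E`. -/
noncomputable instance catCommSqE : CatCommSq (extCx (B := B)) Q Q (ED (B := B)) :=
  ⟨(extF (B := B)).mapDerivedCategoryFactors.symm⟩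

/-- the square for `RC`. -/
noncomputable instance catCommSqRC : CatCommSq (resCCx (B := B)) Q Q (RCD (B := B)) :=
  ⟨(resC (B := B)).mapDerivedCategoryFactors.symm⟩

/-- the adjunction `E ⊣ RC` on derived categories. -/
noncomputable def adjD : ED (B := B) ⊣ RCD :=
  (adjCx (B := B)).localization Q (WW B) Q (WW B[X]) (ED (B := B)) (RCD (B := B))

lemma adjD_unit_app (K : CochainComplex (ModuleCat.{u} B) ℤ) :
    (adjD (B := B)).unit.app (Q.obj K) = Q.map ((adjCx (B := B)).unit.app K) ≫
      (resC (B := B)).mapDerivedCategoryFactors.inv.app ((extCx (B := B)).obj K) ≫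
        (RCD (B := B)).map ((extF (B := B)).mapDerivedCategoryFactors.inv.app K) := by
  rw [adjD, Adjunction.localization_unit_app]
  rfl

/-! ### `c : RC ∘ Rπ ≅ id` -/

/-- `resC ∘ resπ ≅ id` on complexes. -/
noncomputable def cCx : resπCx π ⋙ resCCx ≅ 𝟭 (CochainComplex (ModuleCat.{u} B) ℤ) :=
  Functor.mapHomologicalComplexCompIso (c₀ π) (ComplexShape.up ℤ) ≪≫
    Functor.mapHomologicalComplexIdIso (W₁ := ModuleCat.{u} B) (ComplexShape.up ℤ)

lemma cCx_hom_app_f (K : CochainComplex (ModuleCat.{u} B) ℤ) (i : ℤ) :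
    ((cCx π).hom.app K).f i = (c₀ π).hom.app (K.X i) := by
  simp [cCx]
  exact Category.comp_id _

/-- `Rπ ⋙ RC` lifts `resπCx ⋙ resCCx ⋙ Q`. -/
noncomputable instance liftingComp :
    Localization.Lifting Q (WW B) ((resπCx π ⋙ resCCx) ⋙ Q) (RπD π ⋙ RCD) :=
  ⟨(Functor.associator _ _ _).symm ≪≫
    Functor.isoWhiskerRight (resπ π).mapDerivedCategoryFactors (RCD (B := B)) ≪≫
    Functor.associator _ _ _ ≪≫
    Functor.isoWhiskerLeft (resπCx π) (resC (B := B)).mapDerivedCategoryFactors ≪≫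
    (Functor.associator _ _ _).symm⟩

/-- `RC ∘ Rπ ≅ id` on derived categories. -/
noncomputable def cD : RπD π ⋙ RCD ≅ 𝟭 (Dual.D B) :=
  Localization.liftNatIso Q (WW B) ((resπCx π ⋙ resCCx) ⋙ Q) Q (RπD π ⋙ RCD) (𝟭 _)
    (Functor.isoWhiskerRight (cCx π) Q ≪≫ Functor.leftUnitor Q)

lemma cD_hom_app (K : CochainComplex (ModuleCat.{u} B) ℤ) :
    (cD π).hom.app (Q.obj K) =
      (RCD (B := B)).map ((resπ π).mapDerivedCategoryFactors.hom.app K) ≫
        (resC (B := B)).mapDerivedCategoryFactors.hom.app ((resπCx π).obj K) ≫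
          Q.map ((cCx π).hom.app K) := by
  simp [cD, Localization.liftNatTrans_app, Localization.Lifting.iso, liftingComp]

/-! ### `p : E ⟶ Rπ` -/

/-- `p` on complexes. -/
noncomputable abbrev pCx : extCx (B := B) ⟶ resπCx π :=
  NatTrans.mapHomologicalComplex (p₀ π) (ComplexShape.up ℤ)

/-- `p` on derived categories. -/
noncomputable def pD : ED (B := B) ⟶ RπD π :=
  Localization.liftNatTrans Q (WW B) (extCx (B := B) ⋙ Q) (resπCx π ⋙ Q) (ED (B := B)) (RπD π)
    (Functor.whiskerRight (pCx π) Q)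

lemma pD_app (K : CochainComplex (ModuleCat.{u} B) ℤ) :
    (pD π).app (Q.obj K) = (extF (B := B)).mapDerivedCategoryFactors.hom.app K ≫
      Q.map ((pCx π).app K) ≫ (resπ π).mapDerivedCategoryFactors.inv.app K := by
  simp [pD, Localization.liftNatTrans_app, Localization.Lifting.iso]

lemma unit_p_c_Cx (K : CochainComplex (ModuleCat.{u} B) ℤ) :
    (adjCx (B := B)).unit.app K ≫ (resCCx (B := B)).map ((pCx π).app K) ≫ (cCx π).hom.app K =
      𝟙 K := by
  apply HomologicalComplex.hom_ext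
  intro i
  rw [HomologicalComplex.comp_f, HomologicalComplex.comp_f, cCx_hom_app_f, adjCx_unit_app_f]
  exact unit_p₀_c₀ π (K.X i)

lemma hpD (L : Dual.D B) :
    unit' (adjD (B := B)) L ≫ (RCD (B := B)).map ((pD π).app L) ≫ (cD π).hom.app L = 𝟙 L := by
  let θ : 𝟭 (Dual.D B) ⟶ 𝟭 (Dual.D B) :=
    (adjD (B := B)).unit ≫ Functor.whiskerRight (pD π) (RCD (B := B)) ≫ (cD π).hom
  have hθ : θ = 𝟙 _ := by
    apply Localization.natTrans_ext Q (WW B)
    intro K
    show (adjD (B := B)).unit.app (Q.obj K) ≫ (RCD (B := B)).map ((pD π).app (Q.obj K)) ≫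
      (cD π).hom.app (Q.obj K) = 𝟙 _
    rw [adjD_unit_app, pD_app, cD_hom_app]
    have hn := (resC (B := B)).mapDerivedCategoryFactors.hom.naturality ((pCx π).app K)
    dsimp only [Functor.comp_map] at hn
    simp only [Functor.map_comp, Category.assoc]
    rw [← (RCD (B := B)).map_comp_assoc ((resπ π).mapDerivedCategoryFactors.inv.app K),
      Iso.inv_hom_id_app, CategoryTheory.Functor.map_id, Category.id_comp,
      ← (RCD (B := B)).map_comp_assoc ((extF (B := B)).mapDerivedCategoryFactors.inv.app K),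
      Iso.inv_hom_id_app, CategoryTheory.Functor.map_id, Category.id_comp]
    rw [reassoc_of% hn, Iso.inv_hom_id_app_assoc, ← Functor.map_comp, ← Functor.map_comp,
      unit_p_c_Cx]
    exact Q.map_id K
  exact congrArg (fun τ => τ.app L) hθ

end Groth.Agent.Lib.helper23.Kz
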