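import Mathlib
import Groth.Prelude.Def_Wider
import Groth.Prelude.Def_DDual2
import Groth.Agent.Lib.Helper23.Kz3

/-!
# The Koszul universal arrow for `π : B[X] → B`, part 2: the connecting morphism (helper23)

`isUniv_polynomial π L`: for `L ∈ D(B)`, the connecting morphism `δ_L : res_π L ⟶ (L ⊗_B B[X])⟦1⟧` of the
Koszul triangle is a universal arrow from `restrictD π` to `(L ⊗_B B[X])⟦1⟧`.
-/

set_option autoImplicit false
universe u
open CategoryTheory CategoryTheory.Limits DerivedCategory Pretriangulated Polynomial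

attribute [local instance] HasDerivedCategory.standard

namespace Groth.Agent.Lib.helper23.Kz

attribute [local instance] FlatBC.preservesFiniteLimits_extendScalars_algebraMap

variable {B : Type u} [CommRing B] (π : B[X] →ₐ[B] B)

/-- `t = X - C (π X)`. -/
noncomputable abbrev tt : B[X] := X - C (π X)

/-- multiplication by `t` on `E`. -/
noncomputable def μD : ED (B := B) ⟶ ED where
  app N := (tt π) • 𝟙 _
  naturality N N' f := by
    rw [Linear.comp_smul, Linear.smul_comp, Category.comp_id, Category.id_comp]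

/-- multiplication by `t` on complexes. -/
noncomputable abbrev μCx : extCx (B := B) ⟶ extCx :=
  NatTrans.mapHomologicalComplex (μ₀ π) (ComplexShape.up ℤ)

lemma μCx_app (K : CochainComplex (ModuleCat.{u} B) ℤ) :
    (μCx π).app K = (tt π) • 𝟙 _ := by
  apply HomologicalComplex.hom_ext
  intro i
  rfl

/-- the Koszul short complex of complexes. -/
noncomputable def scCx (K : CochainComplex (ModuleCat.{u} B) ℤ) :
    ShortComplex (CochainComplex (ModuleCat.{u} B[X]) ℤ) :=
  ShortComplex.mk ((μCx π).app K) ((pCx π).app K) (by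
    apply HomologicalComplex.hom_ext
    intro i
    exact μ₀_p₀ π (K.X i))

lemma shortExact_scCx (K : CochainComplex (ModuleCat.{u} B) ℤ) : (scCx π K).ShortExact :=
  HomologicalComplex.shortExact_of_degreewise_shortExact _ (fun i => shortExact_sc₀ π (K.X i))

/-- functoriality of the Koszul short complex. -/
noncomputable def scCxMap {K K' : CochainComplex (ModuleCat.{u} B) ℤ} (φ : K ⟶ K') :
    scCx π K ⟶ scCx π K' :=
  ShortComplex.homMk ((extCx (B := B)).map φ) ((extCx (B := B)).map φ) ((resπCx π).map φ)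
    ((μCx π).naturality φ) ((pCx π).naturality φ)

/-- the connecting morphism, before lifting. -/
noncomputable def δτ : resπCx π ⋙ Q ⟶
    (extCx (B := B) ⋙ Q) ⋙ shiftFunctor (Dual.D B[X]) (1 : ℤ) where
  app K := triangleOfSESδ (shortExact_scCx π K)
  naturality K K' φ :=
    (triangleOfSESδ_naturality (shortExact_scCx π K) (shortExact_scCx π K') (scCxMap π φ)).symm

/-- the connecting morphism `Rπ ⟶ E⟦1⟧`. -/
noncomputable def δD : RπD π ⟶ ED (B := B) ⋙ shiftFunctor (Dual.D B[X]) (1 : ℤ) :=
  Localization.liftNatTrans Q (WW B) (resπCx π ⋙ Q)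
    ((extCx (B := B) ⋙ Q) ⋙ shiftFunctor (Dual.D B[X]) (1 : ℤ)) (RπD π)
    (ED (B := B) ⋙ shiftFunctor (Dual.D B[X]) (1 : ℤ)) (δτ π)

lemma δD_app (K : CochainComplex (ModuleCat.{u} B) ℤ) :
    (δD π).app (Q.obj K) = (resπ π).mapDerivedCategoryFactors.hom.app K ≫
      triangleOfSESδ (shortExact_scCx π K) ≫
        ((extF (B := B)).mapDerivedCategoryFactors.inv.app K)⟦(1 : ℤ)⟧' := by
  simp [δD, Localization.liftNatTrans_app, Localization.Lifting.iso, δτ]
  rfl

lemma hT_Q (K : CochainComplex (ModuleCat.{u} B) ℤ) :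
    Triangle.mk ((μD π).app (Q.obj K)) ((pD π).app (Q.obj K)) ((δD π).app (Q.obj K)) ∈
      distTriang (Dual.D B[X]) := by
  refine isomorphic_distinguished _ (triangleOfSES_distinguished (shortExact_scCx π K)) _ ?_
  refine Triangle.isoMk _ _ ((extF (B := B)).mapDerivedCategoryFactors.app K)
    ((extF (B := B)).mapDerivedCategoryFactors.app K)
    ((resπ π).mapDerivedCategoryFactors.app K) ?_ ?_ ?_
  · show ((tt π) • 𝟙 _) ≫ (extF (B := B)).mapDerivedCategoryFactors.hom.app K =
      (extF (B := B)).mapDerivedCategoryFactors.hom.app K ≫ Q.map ((μCx π).app K)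
    rw [μCx_app, Functor.map_smul, Q.map_id, Linear.smul_comp, Linear.comp_smul]
    congr 1
    exact (Category.id_comp _).trans (Category.comp_id _).symm
  · show (pD π).app (Q.obj K) ≫ (resπ π).mapDerivedCategoryFactors.hom.app K =
      (extF (B := B)).mapDerivedCategoryFactors.hom.app K ≫ Q.map ((pCx π).app K)
    rw [pD_app, Category.assoc, Category.assoc, Iso.inv_hom_id_app]
    erw [Category.comp_id]
  · show (δD π).app (Q.obj K) ≫ ((extF (B := B)).mapDerivedCategoryFactors.hom.app K)⟦(1 : ℤ)⟧' =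
      (resπ π).mapDerivedCategoryFactors.hom.app K ≫ triangleOfSESδ (shortExact_scCx π K)
    have h1 : ((extF (B := B)).mapDerivedCategoryFactors.inv.app K)⟦(1 : ℤ)⟧' ≫
        ((extF (B := B)).mapDerivedCategoryFactors.hom.app K)⟦(1 : ℤ)⟧' = 𝟙 _ := by
      rw [← Functor.map_comp, Iso.inv_hom_id_app, CategoryTheory.Functor.map_id]
    rw [δD_app, Category.assoc, Category.assoc]
    erw [h1, Category.comp_id]
    rfl

lemma hT (N : Dual.D B) :
    Triangle.mk ((μD π).app N) ((pD π).app N) ((δD π).app N) ∈ distTriang (Dual.D B[X]) := by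
  let e : Q.obj (Q.objPreimage N) ≅ N := Q.objObjPreimageIso N
  refine isomorphic_distinguished _ (hT_Q π (Q.objPreimage N)) _ ?_
  refine Triangle.isoMk _ _ ((ED (B := B)).mapIso e.symm) ((ED (B := B)).mapIso e.symm)
    ((RπD π).mapIso e.symm) ?_ ?_ ?_
  · exact ((μD π).naturality e.inv).symm
  · exact ((pD π).naturality e.inv).symm
  · exact ((δD π).naturality e.inv).symm

/-- **The Koszul universal arrow**: `δ_L : res_π L ⟶ (L ⊗_B B[X])⟦1⟧` is universal. -/
theorem isUniv_polynomial (L : Dual.D B) :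
    IsUniv (RπD π) (((ED (B := B)).obj L)⟦(1 : ℤ)⟧) L ((δD π).app L) := by
  intro M
  refine koszul_bijective (adjD (B := B)) (fun L => (cD π).app L) (μD π) (pD π) (δD π)
    (hT π) (hpD π) ?_ ?_ M L
  · intro N L h
    show ((tt π) • 𝟙 _) ≫ h = h ≫ ((tt π) • 𝟙 _)
    rw [Linear.smul_comp, Linear.comp_smul, Category.id_comp, Category.comp_id]
  · intro N L h
    show ((tt π) • 𝟙 _) ≫ h = h ≫ ((tt π) • 𝟙 _)⟦(1 : ℤ)⟧'
    rw [Functor.map_smul, CategoryTheory.Functor.map_id, Linear.smul_comp, Linear.comp_smul,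
      Category.id_comp, Category.comp_id]

end Groth.Agent.Lib.helper23.Kz
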