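import Mathlib
import Groth.Prelude.Def_Wider
import Groth.Prelude.Def_DDual2
import Groth.Agent.Lib.Helper23.Kz4
import Groth.Agent.Lib.Helper23.Kz5
import Groth.Agent.Lib.Helper23.EEComp

/-!
# The Koszul universal arrow for polynomial rings in several variables (helper23)

`KGood B C π m`: for the augmented flat `B`-algebra `π : C → B`, every `L ∈ D(B)` admits a universal arrow
`res_π L ⟶ (L ⊗_B C)⟦m⟧` from `restrictD π` (i.e. "`RHom_C(B, L ⊗_B C)[m] ≅ L`").
`kGood_mvPolynomial`: `MvPolynomial (Fin n) B` is `n`-good for every augmentation.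
-/

set_option autoImplicit false
universe u
open CategoryTheory CategoryTheory.Limits DerivedCategory Pretriangulated Polynomial

attribute [local instance] HasDerivedCategory.standard

namespace Groth.Agent.Lib.helper23.Kz

open Groth.Agent.Lib.helper23.FBC

attribute [local instance] FlatBC.preservesFiniteLimits_extendScalars_algebraMap

/-- the augmented flat `B`-algebra `π : C → B` is `m`-good. -/
def KGood (B C : Type u) [CommRing B] [CommRing C] [Algebra B C] [Module.Flat B C]
    (π : C →ₐ[B] B) (m : ℤ) : Prop :=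
  ∀ L : Dual.D B, ∃ ε : (DRing.restrictD π.toRingHom).obj L ⟶ ((EE B C).obj L)⟦m⟧,
    IsUniv (DRing.restrictD π.toRingHom) (((EE B C).obj L)⟦m⟧) L ε

theorem kGood_polynomial {B : Type u} [CommRing B] (π : B[X] →ₐ[B] B) : KGood B B[X] π 1 :=
  fun L => ⟨(δD π).app L, isUniv_polynomial π L⟩

section Trans

variable {B C C' : Type u} [CommRing B] [CommRing C] [CommRing C'] [Algebra B C] [Algebra C C']
  [Algebra B C'] [IsScalarTower B C C'] [Module.Flat B C] [Module.Flat C C'] [Module.Flat B C']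

theorem KGood.trans (π₁ : C →ₐ[B] B) (π₂ : C' →ₐ[C] C) (π : C' →ₐ[B] B)
    (hπ : π.toRingHom = π₁.toRingHom.comp π₂.toRingHom) {m₁ m₂ : ℤ}
    (h₁ : KGood B C π₁ m₁) (h₂ : KGood C C' π₂ m₂) : KGood B C' π (m₁ + m₂) := by
  intro L
  obtain ⟨ε₁, u₁⟩ := h₁ L
  obtain ⟨ε₂, u₂⟩ := h₂ (((EE B C).obj L)⟦m₁⟧)
  have u := (u₁.comp u₂).of_natIso
    (restrictDCompIso π₂.toRingHom π₁.toRingHom π.toRingHom hπ)
  let i : ((EE C C').obj (((EE B C).obj L)⟦m₁⟧))⟦m₂⟧ ≅ ((EE B C').obj L)⟦m₁ + m₂⟧ :=
    (shiftFunctor (Dual.D C') m₂).mapIso (((EE C C').commShiftIso m₁).app ((EE B C).obj L)) ≪≫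
      ((shiftFunctorAdd' (Dual.D C') m₁ m₂ (m₁ + m₂) rfl).app
        ((EE C C').obj ((EE B C).obj L))).symm ≪≫
      (shiftFunctor (Dual.D C') (m₁ + m₂)).mapIso ((EEcompIso B C C').app L).symm
  exact ⟨_, u.of_iso_target i⟩

end Trans

section AlgEquiv

variable {B C C' : Type u} [CommRing B] [CommRing C] [CommRing C'] [Algebra B C] [Algebra B C']
  (e : C ≃ₐ[B] C')

/-- `(C ⊗_B -)` viewed over `C'` through `e⁻¹` is `C' ⊗_B -`. -/
noncomputable def extResIso :
    ModuleCat.extendScalars.{u, u, u} (algebraMap B C) ⋙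
        ModuleCat.restrictScalars.{u} e.symm.toRingEquiv.toRingHom ≅
      ModuleCat.extendScalars.{u, u, u} (algebraMap B C') :=
  let a1 := ModuleCat.extendRestrictScalarsAdj.{u, u, u} (algebraMap B C)
  let a2 : ModuleCat.restrictScalars.{u} e.symm.toRingEquiv.toRingHom ⊣
      ModuleCat.restrictScalars.{u} e.toRingEquiv.toRingHom :=
    (ModuleCat.restrictScalarsEquivalenceOfRingEquiv.{u} e.toRingEquiv).symm.toAdjunction
  let i : ModuleCat.restrictScalars.{u} e.toRingEquiv.toRingHom ⋙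
      ModuleCat.restrictScalars.{u} (algebraMap B C) ≅
        ModuleCat.restrictScalars.{u} (algebraMap B C') :=
    (ModuleCat.restrictScalarsComp'.{u} (algebraMap B C) e.toRingEquiv.toRingHom (algebraMap B C')
      (by ext b; exact (e.commutes b).symm)).symm
  ((a1.comp a2).ofNatIsoRight i).leftAdjointUniq
    (ModuleCat.extendRestrictScalarsAdj.{u, u, u} (algebraMap B C'))

variable [Module.Flat B C] [Module.Flat B C']

/-- `(L ⊗_B C)` viewed over `C'` through `e⁻¹` is `L ⊗_B C'`. -/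
noncomputable def EEresIso :
    EE B C ⋙ DRing.restrictD e.symm.toRingEquiv.toRingHom ≅ EE B C' :=
  (mapDCComp (ModuleCat.extendScalars.{u, u, u} (algebraMap B C))
    (ModuleCat.restrictScalars.{u} e.symm.toRingEquiv.toRingHom)).symm ≪≫ mapDCIso (extResIso e)

theorem KGood.of_algEquiv (π' : C' →ₐ[B] B) {m : ℤ} (h : KGood B C (π'.comp e.toAlgHom) m) :
    KGood B C' π' m := by
  intro L
  obtain ⟨ε, u⟩ := h L
  let G := DRing.restrictD e.symm.toRingEquiv.toRingHom
  haveI : G.IsEquivalence := isEquivalence_restrictD e.symm.toRingEquiv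
  have u1 := (u.postcomp G).of_natIso
    (restrictDCompIso e.symm.toRingEquiv.toRingHom (π'.comp e.toAlgHom).toRingHom π'.toRingHom
      (by ext x; simp))
  let i : G.obj (((EE B C).obj L)⟦m⟧) ≅ ((EE B C').obj L)⟦m⟧ :=
    (G.commShiftIso m).app ((EE B C).obj L) ≪≫
      (shiftFunctor (Dual.D C') m).mapIso ((EEresIso e).app L)
  exact ⟨_, u1.of_iso_target i⟩

end AlgEquiv

section Base

variable {B : Type u} [CommRing B]

/-- `B ⊗_B - ≅ id` on `D(B)`. -/
noncomputable def EEselfIso : EE B B ≅ 𝟭 (Dual.D B) :=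
  mapDCIso (ModuleCat.extendScalarsId.{u} B) ≪≫ mapDCId _

theorem kGood_self (φ : B →ₐ[B] B) : KGood B B φ 0 := by
  intro L
  have u0 : IsUniv (𝟭 (Dual.D B)) L L (𝟙 L) := by
    intro M
    have : (fun f : M ⟶ L => (𝟭 (Dual.D B)).map f ≫ 𝟙 L) = id := by
      funext f
      simp
    rw [this]
    exact Function.bijective_id
  have u1 := u0.of_natIso (restrictDIdIso φ.toRingHom (by ext b; exact φ.commutes b)).symm
  let i : L ≅ ((EE B B).obj L)⟦(0 : ℤ)⟧ :=
    (EEselfIso.app L).symm ≪≫ ((shiftFunctorZero (Dual.D B) ℤ).app ((EE B B).obj L)).symm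
  exact ⟨_, u1.of_iso_target i⟩

end Base

section MvPoly

variable (B : Type u) [CommRing B]

theorem kGood_mvPolynomial (n : ℕ) (π : MvPolynomial (Fin n) B →ₐ[B] B) :
    KGood B (MvPolynomial (Fin n) B) π (n : ℤ) := by
  induction n with
  | zero =>
    have h := kGood_self (π.comp (MvPolynomial.isEmptyAlgEquiv B (Fin 0)).symm.toAlgHom)
    exact KGood.of_algEquiv (MvPolynomial.isEmptyAlgEquiv B (Fin 0)).symm π h
  | succ n ih =>
    let C := MvPolynomial (Fin n) B
    haveI : Module.Flat B C[X] := Module.Flat.trans B C C[X]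
    let e : MvPolynomial (Fin (n + 1)) B ≃ₐ[B] C[X] := MvPolynomial.finSuccEquiv B n
    let π' : C[X] →ₐ[B] B := π.comp e.symm.toAlgHom
    let π₁ : C →ₐ[B] B := π'.comp (IsScalarTower.toAlgHom B C C[X])
    let π₂ : C[X] →ₐ[C] C := Polynomial.aeval (algebraMap B C (π' X))
    have hπ : π'.toRingHom = π₁.toRingHom.comp π₂.toRingHom := by
      apply Polynomial.ringHom_ext
      · intro c
        show π' (Polynomial.C c) = π₁ (π₂ (Polynomial.C c))
        rw [Polynomial.aeval_C]
        rfl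
      · show π' X = π₁ (π₂ X)
        rw [Polynomial.aeval_X]
        show π' X = π' (algebraMap C C[X] (algebraMap B C (π' X)))
        rw [← IsScalarTower.algebraMap_apply, π'.commutes]
        rfl
    have h1 : KGood B C[X] π' ((n : ℤ) + 1) :=
      KGood.trans π₁ π₂ π' hπ (ih π₁) (kGood_polynomial π₂)
    have h2 : KGood B (MvPolynomial (Fin (n + 1)) B) π ((n : ℤ) + 1) := by
      refine KGood.of_algEquiv e.symm π ?_
      exact h1
    rw [Nat.cast_succ]
    exact h2

end MvPoly

end Groth.Agent.Lib.helper23.Kz
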