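import Mathlib
import Groth.Prelude.Def_Wider
import Groth.Prelude.Def_DDual2
import Groth.Prelude.Def_DualSh
import Groth.Agent.Lib.Helper23.Kz6
import Groth.Agent.Lib.Helper23.RAdj2

/-!
# Independence of the presentation for the algebraic upper shriek (helper23)

* `isUniv_shriekVia`: `φ^!(K)` formed from `ψ : R[x_1..x_n] → A` is a universal arrow for restriction along
  `R[x_1..x_n][y_1..y_m] → R[x_1..x_n] → A` to `(K ⊗_R R[x][y])⟦n + m⟧`.
* `shriekVia_independent`: two presentations give isomorphic objects.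
-/

set_option autoImplicit false
universe u
open CategoryTheory CategoryTheory.Limits DerivedCategory Pretriangulated

attribute [local instance] HasDerivedCategory.standard

namespace Groth.Agent.Lib.helper23.Kz

open Groth.Agent.Lib.helper23.FBC

attribute [local instance] FlatBC.preservesFiniteLimits_extendScalars_algebraMap

variable {R A : Type u} [CommRing R] [CommRing A] [Algebra R A]

theorem isUniv_shriekVia (n : ℕ) (ψ : MvPolynomial (Fin n) R →ₐ[R] A)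
    [DRing.HasLBaseChange (algebraMap R (MvPolynomial (Fin n) R))]
    (Rψ : Dual.D (MvPolynomial (Fin n) R) ⥤ Dual.D A) (adj : DRing.restrictD ψ.toRingHom ⊣ Rψ)
    (m : ℕ) (π : MvPolynomial (Fin m) (MvPolynomial (Fin n) R) →ₐ[MvPolynomial (Fin n) R]
      MvPolynomial (Fin n) R) (K : Dual.D R) :
    ∃ ε, IsUniv (DRing.restrictD (ψ.toRingHom.comp π.toRingHom))
      (((EE R (MvPolynomial (Fin m) (MvPolynomial (Fin n) R))).obj K)⟦(n : ℤ) + (m : ℤ)⟧)
      (Dual2.shriekVia n Rψ K) ε := by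
  let P := MvPolynomial (Fin n) R
  let Q := MvPolynomial (Fin m) P
  let KP := (DRing.LBaseChange (algebraMap R P)).obj K
  let e1 : KP ≅ (EE R P).obj K := (FlatBC.lbcIso (algebraMap R P)).app K
  -- universality of `Rψ (KP⟦n⟧)`
  have u0 : IsUniv (DRing.restrictD ψ.toRingHom) (KP⟦(n : ℤ)⟧) (Rψ.obj (KP⟦(n : ℤ)⟧))
      (adj.counit.app _) := IsUniv.of_adj adj _
  have u1 := u0.of_iso_source (RAdj.rightShiftIso adj KP (n : ℤ)).symm
  obtain ⟨ε₂, u2⟩ := kGood_mvPolynomial P m π (KP⟦(n : ℤ)⟧)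
  have u3 := (u1.comp u2).of_natIso
    (restrictDCompIso π.toRingHom ψ.toRingHom (ψ.toRingHom.comp π.toRingHom) rfl)
  let i : ((EE P Q).obj (KP⟦(n : ℤ)⟧))⟦(m : ℤ)⟧ ≅ ((EE R Q).obj K)⟦(n : ℤ) + (m : ℤ)⟧ :=
    (shiftFunctor (Dual.D Q) (m : ℤ)).mapIso (((EE P Q).commShiftIso (n : ℤ)).app KP) ≪≫
      ((shiftFunctorAdd' (Dual.D Q) (n : ℤ) (m : ℤ) ((n : ℤ) + (m : ℤ)) rfl).app
        ((EE P Q).obj KP)).symm ≪≫
      (shiftFunctor (Dual.D Q) ((n : ℤ) + (m : ℤ))).mapIso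
        ((EE P Q).mapIso e1 ≪≫ ((EEcompIso R P Q).app K).symm)
  exact ⟨_, u3.of_iso_target i⟩

lemma IsUniv.cast_shift {𝒜 : Type*} [Category 𝒜] {𝒟 : Type*} [Category 𝒟] [HasShift 𝒟 ℤ]
    {F : 𝒜 ⥤ 𝒟} {T : 𝒟} {X : 𝒜} {a b : ℤ} (h : a = b) {ε : F.obj X ⟶ T⟦a⟧}
    (u : IsUniv F (T⟦a⟧) X ε) : ∃ ε', IsUniv F (T⟦b⟧) X ε' := by
  subst h
  exact ⟨ε, u⟩

/-- **Independence of the presentation.** -/
theorem shriekVia_independent (n : ℕ) (ψ : MvPolynomial (Fin n) R →ₐ[R] A)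
    (hψ : Function.Surjective ψ)
    [DRing.HasLBaseChange (algebraMap R (MvPolynomial (Fin n) R))]
    (Rψ : Dual.D (MvPolynomial (Fin n) R) ⥤ Dual.D A) (adj : DRing.restrictD ψ.toRingHom ⊣ Rψ)
    (m : ℕ) (ψ' : MvPolynomial (Fin m) R →ₐ[R] A) (hψ' : Function.Surjective ψ')
    [DRing.HasLBaseChange (algebraMap R (MvPolynomial (Fin m) R))]
    (Rψ' : Dual.D (MvPolynomial (Fin m) R) ⥤ Dual.D A)
    (adj' : DRing.restrictD ψ'.toRingHom ⊣ Rψ') (K : Dual.D R) :
    Nonempty (Dual2.shriekVia n Rψ K ≅ Dual2.shriekVia m Rψ' K) := by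
  let P := MvPolynomial (Fin n) R
  let P' := MvPolynomial (Fin m) R
  let Q := MvPolynomial (Fin m) P
  let Q' := MvPolynomial (Fin n) P'
  choose g hg using fun j : Fin m => hψ (ψ' (MvPolynomial.X j))
  choose g' hg' using fun i : Fin n => hψ' (ψ (MvPolynomial.X i))
  let π : Q →ₐ[P] P := MvPolynomial.aeval g
  let π' : Q' →ₐ[P'] P' := MvPolynomial.aeval g'
  obtain ⟨ε, u⟩ := isUniv_shriekVia n ψ Rψ adj m π K
  obtain ⟨ε', u'⟩ := isUniv_shriekVia m ψ' Rψ' adj' n π' K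
  let σ : Q ≃ₐ[R] Q' := MvPolynomial.commAlgEquiv R (Fin m) (Fin n)
  -- compatibility of the two augmentations
  have hσ : ψ.toRingHom.comp π.toRingHom =
      (ψ'.toRingHom.comp π'.toRingHom).comp σ.toRingEquiv.toRingHom := by
    let Φ : Q →ₐ[R] A := ψ.comp (π.restrictScalars R)
    let Φ' : Q →ₐ[R] A := (ψ'.comp (π'.restrictScalars R)).comp σ.toAlgHom
    have hΦ : Φ = Φ' := by
      apply MvPolynomial.algHom_ext'
      · apply MvPolynomial.algHom_ext
        intro i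
        show ψ (π (MvPolynomial.C (MvPolynomial.X i))) =
          ψ' (π' (σ (MvPolynomial.C (MvPolynomial.X i))))
        rw [MvPolynomial.commAlgEquiv_C_X, MvPolynomial.aeval_X, MvPolynomial.aeval_C, hg']
        rfl
      · intro j
        show ψ (π (MvPolynomial.X j)) = ψ' (π' (σ (MvPolynomial.X j)))
        rw [MvPolynomial.commAlgEquiv_X, MvPolynomial.aeval_X, MvPolynomial.aeval_C, hg]
        rfl
    exact congrArg (fun f : Q →ₐ[R] A => f.toRingHom) hΦ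
  -- transport the second universal arrow along `σ`
  let G := DRing.restrictD σ.toRingEquiv.toRingHom
  haveI : G.IsEquivalence := isEquivalence_restrictD σ.toRingEquiv
  have v1 := (u'.postcomp G).of_natIso
    (restrictDCompIso σ.toRingEquiv.toRingHom (ψ'.toRingHom.comp π'.toRingHom)
      (ψ.toRingHom.comp π.toRingHom) hσ)
  let i : G.obj (((EE R Q').obj K)⟦(m : ℤ) + (n : ℤ)⟧) ≅ ((EE R Q).obj K)⟦(m : ℤ) + (n : ℤ)⟧ :=
    (G.commShiftIso ((m : ℤ) + (n : ℤ))).app ((EE R Q').obj K) ≪≫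
      (shiftFunctor (Dual.D Q) ((m : ℤ) + (n : ℤ))).mapIso ((EEresIso σ.symm).app K)
  obtain ⟨ε'', v2⟩ := IsUniv.cast_shift (add_comm (m : ℤ) (n : ℤ)) (v1.of_iso_target i)
  exact u.iso v2

end Groth.Agent.Lib.helper23.Kz
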