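import Mathlib
import Groth.Prelude.Def_Wider
import Groth.Prelude.Def_DDual2
import Groth.Prelude.Def_DualSh
import Groth.Agent.Lib.Helper23.FBCR5
import Groth.Agent.Lib.Helper23.Kz7

/-!
# Universal arrows for the algebraic upper shriek: shifts, the basic universal arrow, change of polynomial ring
(helper23)

* `IsUniv.exists_shift`: universal arrows of a functor with a right adjoint can be shifted.
* `isUniv_shriekVia₀`: `φ^!(K) = Rψ(K ⊗_R P)⟦n⟧` is universal from `restrictD ψ` to `(K ⊗_R P)⟦n⟧` (termwise tensor).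
* `IsUniv.of_algEquiv`: transport along an isomorphism of flat `R`-algebras `C ≃ C'`.
-/

set_option autoImplicit false
universe u
open CategoryTheory CategoryTheory.Limits DerivedCategory Pretriangulated

attribute [local instance] HasDerivedCategory.standard

namespace Groth.Agent.Lib.helper23.FBCR

open Groth.Agent.Lib.helper23.FBC Groth.Agent.Lib.helper23.RAdj Groth.Agent.Lib.helper23.Kz

attribute [local instance] FlatBC.preservesFiniteLimits_extendScalars_algebraMap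

section Shift

variable {𝒜 ℬ : Type*} [Category 𝒜] [Category ℬ] [HasShift 𝒜 ℤ] [HasShift ℬ ℤ]
  {F : 𝒜 ⥤ ℬ} {G : ℬ ⥤ 𝒜} [F.CommShift ℤ]

lemma IsUniv.exists_shift (adj : F ⊣ G) {L : ℬ} {X : 𝒜} {ε : F.obj X ⟶ L} (h : IsUniv F L X ε)
    (m : ℤ) : ∃ ε' : F.obj (X⟦m⟧) ⟶ L⟦m⟧, IsUniv F (L⟦m⟧) (X⟦m⟧) ε' := by
  obtain ⟨i⟩ := h.iso (IsUniv.of_adj adj L)
  let j : X⟦m⟧ ≅ G.obj (L⟦m⟧) :=
    (shiftFunctor 𝒜 m).mapIso i ≪≫ (rightShiftIso adj L m).symm
  exact ⟨_, (IsUniv.of_adj adj (L⟦m⟧)).of_iso_source j⟩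

end Shift

section Ring

variable {A B : Type u} [CommRing A] [CommRing B]

/-- shifting a universal arrow of restriction of scalars. -/
lemma exists_isUniv_shift (φ : A →+* B) {L : Dual.D A} {X : Dual.D B}
    {ε : (DRing.restrictD φ).obj X ⟶ L} (h : IsUniv (DRing.restrictD φ) L X ε) (m : ℤ) :
    ∃ ε' : (DRing.restrictD φ).obj (X⟦m⟧) ⟶ L⟦m⟧,
      IsUniv (DRing.restrictD φ) (L⟦m⟧) (X⟦m⟧) ε' := by
  obtain ⟨R', ⟨adj'⟩⟩ := RHomEx.exists_rightAdjoint_restrictD φ
  exact IsUniv.exists_shift adj' h m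

end Ring

section Shriek

variable {R A : Type u} [CommRing R] [CommRing A] [Algebra R A]

/-- the basic universal arrow of `φ^!(K)`. -/
theorem isUniv_shriekVia₀ (n : ℕ) (ψ : MvPolynomial (Fin n) R →ₐ[R] A)
    [DRing.HasLBaseChange (algebraMap R (MvPolynomial (Fin n) R))]
    (Rψ : Dual.D (MvPolynomial (Fin n) R) ⥤ Dual.D A) (adj : DRing.restrictD ψ.toRingHom ⊣ Rψ)
    (K : Dual.D R) :
    ∃ ε, IsUniv (DRing.restrictD ψ.toRingHom)
      (((EE R (MvPolynomial (Fin n) R)).obj K)⟦(n : ℤ)⟧) (Dual2.shriekVia n Rψ K) ε := by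
  let P := MvPolynomial (Fin n) R
  let KP := (DRing.LBaseChange (algebraMap R P)).obj K
  let e1 : KP ≅ (EE R P).obj K := (FlatBC.lbcIso (algebraMap R P)).app K
  have u0 : IsUniv (DRing.restrictD ψ.toRingHom) (KP⟦(n : ℤ)⟧) (Rψ.obj (KP⟦(n : ℤ)⟧))
      (adj.counit.app _) := IsUniv.of_adj adj _
  have u1 := u0.of_iso_source (RAdj.rightShiftIso adj KP (n : ℤ)).symm
  exact ⟨_, u1.of_iso_target ((shiftFunctor (Dual.D P) (n : ℤ)).mapIso e1)⟩

end Shriek

section AlgEquiv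

variable {R C C' T : Type u} [CommRing R] [CommRing C] [CommRing C'] [CommRing T]
  [Algebra R C] [Algebra R C'] [Module.Flat R C] [Module.Flat R C']

/-- transport of a universal arrow along an isomorphism of flat `R`-algebras. -/
theorem IsUniv.of_algEquiv (e : C ≃ₐ[R] C') (Θ : C' →+* T) (K : Dual.D R) (s : ℤ) (X : Dual.D T)
    {ε : (DRing.restrictD Θ).obj X ⟶ ((EE R C').obj K)⟦s⟧}
    (h : IsUniv (DRing.restrictD Θ) (((EE R C').obj K)⟦s⟧) X ε) :
    ∃ ε', IsUniv (DRing.restrictD (Θ.comp e.toRingEquiv.toRingHom))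
      (((EE R C).obj K)⟦s⟧) X ε' := by
  let G := DRing.restrictD e.toRingEquiv.toRingHom
  haveI : G.IsEquivalence := isEquivalence_restrictD e.toRingEquiv
  have v1 := (h.postcomp G).of_natIso
    (restrictDCompIso e.toRingEquiv.toRingHom Θ (Θ.comp e.toRingEquiv.toRingHom) rfl)
  let i : G.obj (((EE R C').obj K)⟦s⟧) ≅ ((EE R C).obj K)⟦s⟧ :=
    (G.commShiftIso s).app ((EE R C').obj K) ≪≫
      (shiftFunctor (Dual.D C) s).mapIso ((EEresIso e.symm).app K)
  exact ⟨_, v1.of_iso_target i⟩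

end AlgEquiv

end Groth.Agent.Lib.helper23.FBCR
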