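import Mathlib
import Groth.Prelude.Def_Wider
import Groth.Prelude.Def_DDual2
import Groth.Prelude.Def_DualSh
import Groth.Agent.Lib.Helper23.FBCR6
import Groth.Agent.Lib.Helper13.RKF2

/-!
# The algebraic upper shriek is compatible with composition (helper23)

`shriekVia_comp`: for `A → B → C` of finite type between Noetherian rings and `K ∈ D^+(A)`,
`(A → C)^!(K) ≅ (B → C)^!((A → B)^!(K))`, each upper shriek being formed from an arbitrary presentation.
-/

set_option autoImplicit false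
universe u
open CategoryTheory CategoryTheory.Limits DerivedCategory Pretriangulated

attribute [local instance] HasDerivedCategory.standard

namespace Groth.Agent.Lib.helper23.FBCR

open Groth.Agent.Lib.helper23.FBC Groth.Agent.Lib.helper23.RAdj Groth.Agent.Lib.helper23.Kz

attribute [local instance] FlatBC.preservesFiniteLimits_extendScalars_algebraMap
attribute [local instance] MvPolynomial.algebraMvPolynomial

lemma isGE_of_subsingleton_HD {R : Type u} [CommRing R] (K : Dual.D R) (c : ℤ)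
    (hK : ∀ i : ℤ, i < c → Subsingleton (Dual.HD R K i)) : K.IsGE c := by
  rw [DerivedCategory.isGE_iff]
  intro i hi
  haveI := hK i hi
  exact ModuleCat.isZero_of_subsingleton _

theorem shriekVia_comp (A B C : Type u) [CommRing A] [CommRing B] [CommRing C]
    [IsNoetherianRing A] [IsNoetherianRing B] [IsNoetherianRing C] [Algebra A B] [Algebra B C]
    [Algebra A C] [IsScalarTower A B C] (n : ℕ) (ψ : MvPolynomial (Fin n) A →ₐ[A] B)
    (hψ : Function.Surjective ψ) [DRing.HasLBaseChange (algebraMap A (MvPolynomial (Fin n) A))]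
    (Rψ : Dual.D (MvPolynomial (Fin n) A) ⥤ Dual.D B) (adj : DRing.restrictD ψ.toRingHom ⊣ Rψ)
    (m : ℕ) (χ : MvPolynomial (Fin m) B →ₐ[B] C) (hχ : Function.Surjective χ)
    [DRing.HasLBaseChange (algebraMap B (MvPolynomial (Fin m) B))]
    (Rχ : Dual.D (MvPolynomial (Fin m) B) ⥤ Dual.D C) (adjχ : DRing.restrictD χ.toRingHom ⊣ Rχ)
    (k : ℕ) (θ : MvPolynomial (Fin k) A →ₐ[A] C) (hθ : Function.Surjective θ)
    [DRing.HasLBaseChange (algebraMap A (MvPolynomial (Fin k) A))]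
    (Rθ : Dual.D (MvPolynomial (Fin k) A) ⥤ Dual.D C) (adjθ : DRing.restrictD θ.toRingHom ⊣ Rθ)
    (K : Dual.D A) (c : ℤ) (hK : ∀ i : ℤ, i < c → Subsingleton (Dual.HD A K i)) :
    Nonempty (Dual2.shriekVia k Rθ K ≅ Dual2.shriekVia m Rχ (Dual2.shriekVia n Rψ K)) := by
  let P := MvPolynomial (Fin n) A
  let Q := MvPolynomial (Fin m) B
  let PQ := MvPolynomial (Fin m) P
  letI algPB : Algebra P B := ψ.toRingHom.toAlgebra
  haveI : Module.Finite P B := Module.Finite.of_surjective (Algebra.linearMap P B) hψ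
  haveI hKc : K.IsGE c := isGE_of_subsingleton_HD K c hK
  let X₁ : Dual.D B := Dual2.shriekVia n Rψ K
  obtain ⟨ε1, u1⟩ := isUniv_shriekVia₀ n ψ Rψ adj K
  let L : Dual.D P := ((EE A P).obj K)⟦(n : ℤ)⟧
  haveI : ((EE A P).obj K).IsGE c := isGE_EE P K c
  haveI : L.IsGE (c - n) :=
    (TStructure.t (C := ModuleCat.{u} P)).isGE_shift ((EE A P).obj K) c (n : ℤ) (c - n) (by omega)
  have u1' : IsUniv (DRing.restrictD (algebraMap PQ Q)) ((EE P PQ).obj L) ((EE B Q).obj X₁)
      (ε' PQ Q ε1) := isUniv_baseChange (P' := PQ) (B' := Q) X₁ L (c - n) ε1 u1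
  obtain ⟨ε1'', u1''⟩ := exists_isUniv_shift (algebraMap PQ Q) u1' (m : ℤ)
  obtain ⟨ε2, u2⟩ := isUniv_shriekVia₀ m χ Rχ adjχ X₁
  let Θ : PQ →+* C := χ.toRingHom.comp (algebraMap PQ Q)
  have u4 := (u2.comp u1'').of_natIso (restrictDCompIso (algebraMap PQ Q) χ.toRingHom Θ rfl)
  let i : ((EE P PQ).obj L)⟦(m : ℤ)⟧ ≅ ((EE A PQ).obj K)⟦(n : ℤ) + (m : ℤ)⟧ :=
    (shiftFunctor (Dual.D PQ) (m : ℤ)).mapIso
        (((EE P PQ).commShiftIso (n : ℤ)).app ((EE A P).obj K)) ≪≫
      ((shiftFunctorAdd' (Dual.D PQ) (n : ℤ) (m : ℤ) ((n : ℤ) + (m : ℤ)) rfl).app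
        ((EE P PQ).obj ((EE A P).obj K))).symm ≪≫
      (shiftFunctor (Dual.D PQ) ((n : ℤ) + (m : ℤ))).mapIso ((EEcompIso A P PQ).app K).symm
  have u5 := u4.of_iso_target i
  -- change the polynomial ring
  let e : MvPolynomial (Fin (m + n)) A ≃ₐ[A] PQ :=
    (MvPolynomial.renameEquiv A finSumFinEquiv).symm.trans
      (MvPolynomial.sumAlgEquiv A (Fin m) (Fin n))
  obtain ⟨ε6, u6⟩ := IsUniv.of_algEquiv e Θ K ((n : ℤ) + (m : ℤ)) _ u5
  have hΘ : ∀ a : A, Θ (algebraMap A PQ a) = algebraMap A C a := by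
    intro a
    show χ (algebraMap PQ Q (algebraMap A PQ a)) = _
    rw [MvPolynomial.algebraMap_apply, MvPolynomial.algebraMap_def, MvPolynomial.map_C]
    have h1 : algebraMap P B (algebraMap A P a) = algebraMap A B a := ψ.commutes a
    rw [h1]
    have h2 : χ (MvPolynomial.C (algebraMap A B a)) = algebraMap B C (algebraMap A B a) :=
      χ.commutes (algebraMap A B a)
    rw [h2, ← IsScalarTower.algebraMap_apply]
  let θ₀ : MvPolynomial (Fin (m + n)) A →ₐ[A] C :=
    { toRingHom := Θ.comp e.toRingEquiv.toRingHom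
      commutes' := fun a => by
        show Θ (e (algebraMap A _ a)) = _
        rw [e.commutes, hΘ] }
  have hθ₀ : Function.Surjective θ₀ := by
    have h1 : Function.Surjective Θ := by
      refine hχ.comp ?_
      show Function.Surjective (MvPolynomial.map (algebraMap P B))
      exact MvPolynomial.map_surjective _ hψ
    exact h1.comp e.surjective
  obtain ⟨Rθ₀, ⟨adjθ₀⟩⟩ := RHomEx.exists_rightAdjoint_restrictD θ₀.toRingHom
  haveI : DRing.HasLBaseChange (algebraMap A (MvPolynomial (Fin (m + n)) A)) :=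
    Groth.Agent.Lib.helper13.RKF.hasLBaseChange _
  obtain ⟨ε7, u7⟩ := isUniv_shriekVia₀ (m + n) θ₀ Rθ₀ adjθ₀ K
  obtain ⟨ε8, u8⟩ := IsUniv.cast_shift
    (show (((m + n : ℕ) : ℤ)) = (n : ℤ) + (m : ℤ) by push_cast; ring) u7
  obtain ⟨j1⟩ := u8.iso u6
  obtain ⟨j2⟩ := shriekVia_independent k θ hθ Rθ adjθ (m + n) θ₀ hθ₀ Rθ₀ adjθ₀ K
  exact ⟨j2 ≪≫ j1⟩

end Groth.Agent.Lib.helper23.FBCR
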