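import Mathlib
import Groth.Prelude.Def_DRing4
import Groth.Agent.Lib.Helper23.PerfT4
import Groth.Agent.Lib.Helper23.RAdj3

/-!
# `Hom(X, E) ⟶ Hom(X, J)` for a quasi-isomorphism `E ⟶ J` into a complex of injectives (helper23)

`homCxMap κ X : Hom(X, E) ⟶ Hom(X, J)` for `κ : E ⟶ J`.  If `κ` is a quasi-isomorphism, `J` has
injective terms and `Hom(-, E)` is exact on the short exact sequences ending in a class `T` of modules
stable under syzygies, then `homCxMap κ X` is a quasi-isomorphism for every finite module `X` of finite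
projective dimension in `T` (`quasiIso_homCxMap`).
-/

set_option autoImplicit false
universe u
open CategoryTheory CategoryTheory.Limits MonoidalCategory Opposite
open HomologicalComplex

namespace Groth.Agent.Lib.helper23.TBC

open Groth.Agent.Lib.helper23.DualD Groth.Agent.Lib.helper23.PerfT Groth.Agent.Lib.helper23.RAdj

variable {R : Type u} [CommRing R] {E J : DRing.Cx R} (κ : E ⟶ J)

/-- the map `Hom(X, E) ⟶ Hom(X, J)` induced by `κ : E ⟶ J` -/
noncomputable def homCxMap (X : ModuleCat.{u} R) :
    (homCx E).obj (op X) ⟶ (homCx J).obj (op X) :=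
  (((linearCoyoneda R (ModuleCat.{u} R)).obj (op X)).mapHomologicalComplex _).map κ

lemma homCxMap_f_apply (X : ModuleCat.{u} R) (j : ℤ) (φ : X ⟶ E.X j) :
    ((homCxMap κ X).f j).hom φ = φ ≫ κ.f j := rfl

lemma homCxMap_naturality {X X' : ModuleCat.{u} R} (g : X ⟶ X') :
    (homCx E).map g.op ≫ homCxMap κ X = homCxMap κ X' ≫ (homCx J).map g.op := by
  ext j φ
  show (g ≫ φ) ≫ κ.f j = g ≫ (φ ≫ κ.f j)
  rw [Category.assoc]

lemma homCxMap_comp_evCx (X : ModuleCat.{u} R) (x : X) :
    homCxMap κ X ≫ evCx J X x = evCx E X x ≫ κ := by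
  ext j φ
  rfl

/-- the morphism of short complexes given by `homCxMap` -/
noncomputable def homSCMap (S : ShortComplex (ModuleCat.{u} R)) : homSC E S ⟶ homSC J S where
  τ₁ := homCxMap κ S.X₃
  τ₂ := homCxMap κ S.X₂
  τ₃ := homCxMap κ S.X₁
  comm₁₂ := (homCxMap_naturality κ S.g).symm
  comm₂₃ := (homCxMap_naturality κ S.f).symm

theorem quasiIso_homCxMap_self [QuasiIso κ] : QuasiIso (homCxMap κ (ModuleCat.of R R)) := by
  have h := homCxMap_comp_evCx κ (ModuleCat.of R R) (1 : R)
  haveI : QuasiIso (homCxMap κ (ModuleCat.of R R) ≫ evCx J (ModuleCat.of R R) (1 : R)) := by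
    rw [h]
    infer_instance
  exact quasiIso_of_comp_right _ (evCx J (ModuleCat.of R R) (1 : R))

/-- retracts -/
theorem quasiIso_homCxMap_of_retract {X X' : ModuleCat.{u} R} (i : X ⟶ X') (r : X' ⟶ X)
    (hir : i ≫ r = 𝟙 X) (h : QuasiIso (homCxMap κ X')) : QuasiIso (homCxMap κ X) := by
  have hret : RetractArrow (homCxMap κ X) (homCxMap κ X') :=
    { i := Arrow.homMk ((homCx E).map r.op) ((homCx J).map r.op) (homCxMap_naturality κ r)
      r := Arrow.homMk ((homCx E).map i.op) ((homCx J).map i.op) (homCxMap_naturality κ i)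
      retract := by
        refine Arrow.hom_ext _ _ ?_ ?_
        · show (homCx E).map r.op ≫ (homCx E).map i.op = 𝟙 _
          rw [← Functor.map_comp, ← op_comp, hir, op_id, CategoryTheory.Functor.map_id]
        · show (homCx J).map r.op ≫ (homCx J).map i.op = 𝟙 _
          rw [← Functor.map_comp, ← op_comp, hir, op_id, CategoryTheory.Functor.map_id] }
  exact (MorphismProperty.of_retract (P := HomologicalComplex.quasiIso (ModuleCat.{u} R)
    (ComplexShape.up ℤ)) hret ((mem_quasiIso_iff _).2 h) : _)

section Induction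

variable [QuasiIso κ] [∀ j, Injective (J.X j)] (T : ModuleCat.{u} R → Prop)
  (hT_free : ∀ m : ℕ, T (ModuleCat.of R (Fin m → R)))
  (hT_ker : ∀ S : ShortComplex (ModuleCat.{u} R), S.ShortExact → T S.X₂ → T S.X₃ → T S.X₁)
  (hT_exact : ∀ S : ShortComplex (ModuleCat.{u} R), S.ShortExact → T S.X₃ →
    (homSC E S).ShortExact)

include hT_free hT_exact in
theorem quasiIso_homCxMap_free (m : ℕ) :
    QuasiIso (homCxMap κ (ModuleCat.of R (Fin m → R))) := by
  induction m with
  | zero =>
    have hz : IsZero (ModuleCat.of R (Fin 0 → R)) := ModuleCat.isZero_of_subsingleton _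
    exact quasiIso_homCxMap_of_retract κ (X' := ModuleCat.of R R) 0 0 (hz.eq_of_src _ _)
      (quasiIso_homCxMap_self κ)
  | succ m ih =>
    let S : ShortComplex (ModuleCat.{u} R) :=
      ShortComplex.mk (X₁ := ModuleCat.of R R) (X₂ := ModuleCat.of R (R × (Fin m → R)))
        (X₃ := ModuleCat.of R (Fin m → R))
        (ModuleCat.ofHom (LinearMap.inl R R (Fin m → R)))
        (ModuleCat.ofHom (LinearMap.snd R R (Fin m → R))) (by
          ext x
          rfl)
    have hS : S.ShortExact := by
      refine ModuleCat.shortComplex_shortExact S ?_ ?_ ?_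
      · exact Function.Exact.inl_snd
      · exact LinearMap.inl_injective
      · exact LinearMap.snd_surjective
    have h1 : QuasiIso (homCxMap κ (ModuleCat.of R (R × (Fin m → R)))) :=
      quasiIso_τ₂ (homSCMap κ S) (hT_exact S hS (hT_free m)) (homSC_shortExact J S hS) ih
        (quasiIso_homCxMap_self κ)
    let e : ModuleCat.of R (R × (Fin m → R)) ≅ ModuleCat.of R (Fin (m + 1) → R) :=
      (Fin.consLinearEquiv R (fun _ : Fin (m + 1) => R)).toModuleIso
    exact quasiIso_homCxMap_of_retract κ e.inv e.hom e.inv_hom_id h1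

include hT_free hT_exact in
theorem quasiIso_homCxMap_of_finite_projective (X : ModuleCat.{u} R) [Module.Finite R X]
    [Module.Projective R X] : QuasiIso (homCxMap κ X) := by
  obtain ⟨m, f, g, -, -, hfg⟩ := Module.Finite.exists_comp_eq_id_of_projective R X
  refine quasiIso_homCxMap_of_retract κ (X' := ModuleCat.of R (Fin m → R)) (ModuleCat.ofHom g)
    (ModuleCat.ofHom f) ?_ (quasiIso_homCxMap_free κ T hT_free hT_exact m)
  rw [← ModuleCat.ofHom_comp, hfg]
  rfl

include hT_free hT_ker hT_exact in
/-- **dévissage**: `Hom(X, E) ⟶ Hom(X, J)` is a quasi-isomorphism for finite modules of finite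
projective dimension in the class `T`. -/
theorem quasiIso_homCxMap [IsNoetherianRing R] (d : ℕ) :
    ∀ (X : ModuleCat.{u} R) [Module.Finite R X] [HasProjectiveDimensionLT X (d + 1)],
      T X → QuasiIso (homCxMap κ X) := by
  induction d with
  | zero =>
    intro X _ hpd _
    haveI : Projective X := by
      rw [projective_iff_hasProjectiveDimensionLT_one]
      exact hpd
    haveI : Module.Projective R X := (IsProjective.iff_projective X).2 inferInstance
    exact quasiIso_homCxMap_of_finite_projective κ T hT_free hT_exact X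
  | succ d ih =>
    intro X _ _ hTX
    obtain ⟨m, f, hf⟩ := Module.Finite.exists_fin' R X
    let S : ShortComplex (ModuleCat.{u} R) :=
      ShortComplex.mk (X₁ := ModuleCat.of R (LinearMap.ker f)) (X₂ := ModuleCat.of R (Fin m → R))
        (X₃ := X) (ModuleCat.ofHom (LinearMap.ker f).subtype) (ModuleCat.ofHom f) (by
          ext x
          exact x.2)
    have hS : S.ShortExact := by
      refine ModuleCat.shortComplex_shortExact S ?_ ?_ hf
      · exact LinearMap.exact_subtype_ker_map f
      · exact Subtype.val_injective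
    haveI : Projective S.X₂ := by
      show Projective (ModuleCat.of R (Fin m → R))
      exact (IsProjective.iff_projective _).1 inferInstance
    haveI : HasProjectiveDimensionLT S.X₃ (d + 2) := by
      show HasProjectiveDimensionLT X (d + 1 + 1)
      infer_instance
    haveI : HasProjectiveDimensionLT (ModuleCat.of R (LinearMap.ker f)) (d + 1) :=
      (hS.hasProjectiveDimensionLT_X₃_iff d inferInstance).1 inferInstance
    haveI : Module.Finite R (ModuleCat.of R (LinearMap.ker f)) := by
      show Module.Finite R (LinearMap.ker f)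
      infer_instance
    have hTk : T (ModuleCat.of R (LinearMap.ker f)) := hT_ker S hS (hT_free m) hTX
    have h1 : QuasiIso (homCxMap κ (ModuleCat.of R (LinearMap.ker f))) := ih _ hTk
    exact quasiIso_τ₁ (homSCMap κ S) (hT_exact S hS hTX) (homSC_shortExact J S hS)
      (quasiIso_homCxMap_free κ T hT_free hT_exact m) h1

end Induction

section Gc

variable {A B : Type u} [CommRing A] [CommRing B] (φ : A →+* B) {E J : DRing.Cx A} (κ : E ⟶ J)

/-- `θ` is natural in the complex -/
lemma res_Gc_map_comp_θ :
    ((Φm φ).mapHomologicalComplex (ComplexShape.up ℤ)).map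
        (((Gm φ).mapHomologicalComplex (ComplexShape.up ℤ)).map κ) ≫ (θ φ J).hom =
      (θ φ E).hom ≫ homCxMap κ (BA φ) := by
  ext n g
  rfl

theorem quasiIso_Gc_map_of_quasiIso_homCxMap (h : QuasiIso (homCxMap κ (BA φ))) :
    QuasiIso (((Gm φ).mapHomologicalComplex (ComplexShape.up ℤ)).map κ) := by
  have h1 : QuasiIso (((Φm φ).mapHomologicalComplex (ComplexShape.up ℤ)).map
      (((Gm φ).mapHomologicalComplex (ComplexShape.up ℤ)).map κ) ≫ (θ φ J).hom) := by
    rw [res_Gc_map_comp_θ]
    infer_instance
  have h2 : QuasiIso (((Φm φ).mapHomologicalComplex (ComplexShape.up ℤ)).map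
      (((Gm φ).mapHomologicalComplex (ComplexShape.up ℤ)).map κ)) :=
    quasiIso_of_comp_right _ (θ φ J).hom
  exact (HomologicalComplex.quasiIso_map_iff_of_preservesHomology _ (Φm φ)).1 h2

end Gc

end Groth.Agent.Lib.helper23.TBC
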