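import Mathlib
import Groth.Prelude.Def_DRing4
import Groth.Agent.Lib.Helper23.TBC1
import Groth.Agent.Lib.Helper23.FBCR1

/-!
# `Hom_P(X, I'|_P) ⟶ Hom_P(X, J)` for `X` flat over the base (helper23)

Pushout square `R → R'`, `R → P`, `P' = R' ⊗_R P` with `P` flat over `R`.  For a complex `I'` of
injective `P'`-modules and a quasi-isomorphism `κ : I'|_P ⟶ J` into a complex of injective `P`-modules,
`Hom_P(X, I'|_P) ⟶ Hom_P(X, J)` is a quasi-isomorphism for every finite `P`-module `X` of finite
projective dimension which is flat over `R`.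
-/

set_option autoImplicit false
universe u
open CategoryTheory CategoryTheory.Limits MonoidalCategory Opposite TensorProduct
open HomologicalComplex

namespace Groth.Agent.Lib.helper23.TBC

open Groth.Agent.Lib.helper23.DualD Groth.Agent.Lib.helper23.PerfT Groth.Agent.Lib.helper23.RAdj
  Groth.Agent.Lib.helper23.FBCR

section ModuleLevel

variable {R : Type u} [CommRing R] {M N Q : Type u} [AddCommGroup M] [AddCommGroup N]
  [AddCommGroup Q] [Module R M] [Module R N] [Module R Q]

/-- the kernel of a surjection of flat modules is flat -/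
lemma flat_of_exact_of_flat (f : N →ₗ[R] Q) (hf : Function.Surjective f) (g : M →ₗ[R] N)
    (hg : Function.Injective g) (H : Function.Exact g f) [Module.Flat R N] [Module.Flat R Q] :
    Module.Flat R M := by
  rw [Module.Flat.iff_rTensor_injective']
  intro I
  have h1 : Function.Injective (g.lTensor I) :=
    LinearMap.lTensor_injective_of_exact_of_flat f hf g hg H I
  have h2 : Function.Injective (LinearMap.rTensor N I.subtype) :=
    Module.Flat.rTensor_preserves_injective_linearMap _ Subtype.val_injective
  have h3 : (g.lTensor R) ∘ₗ (LinearMap.rTensor M I.subtype) =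
      (LinearMap.rTensor N I.subtype) ∘ₗ (g.lTensor I) := by
    rw [LinearMap.lTensor_comp_rTensor, LinearMap.rTensor_comp_lTensor]
  have h4 : Function.Injective ((g.lTensor R) ∘ₗ (LinearMap.rTensor M I.subtype)) := by
    rw [h3]
    exact h2.comp h1
  exact Function.Injective.of_comp h4

end ModuleLevel

variable {R R' P P' : Type u} [CommRing R] [CommRing R'] [CommRing P] [CommRing P']
  [Algebra R R'] [Algebra R P] [Algebra R' P'] [Algebra P P'] [Algebra R P']
  [IsScalarTower R P P'] [IsScalarTower R R' P'] [Algebra.IsPushout R R' P P']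

variable (R) in
/-- a `P`-module which is flat over `R` -/
def RFlat (X : ModuleCat.{u} P) : Prop :=
  letI := modP R X
  Module.Flat R X

variable (R) in
/-- a `P`-linear map as an `R`-linear map -/
noncomputable def linR {X Y : ModuleCat.{u} P} (f : X ⟶ Y) :
    letI := modP R X
    letI := modP R Y
    X →ₗ[R] Y :=
  letI := modP R X
  letI := modP R Y
  { toFun := fun x => f.hom x
    map_add' := fun x y => map_add f.hom x y
    map_smul' := fun r x => map_smul f.hom (algebraMap R P r) x }

variable (R) in
/-- a flat `P`-module is flat over `R` when `P` is -/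
lemma rflat_of_flat [Module.Flat R P] (X : ModuleCat.{u} P) [Module.Flat P X] : RFlat R X := by
  letI := modP R X
  haveI := isScalarTower_modP R X
  exact Module.Flat.trans R P X

variable (R) in
lemma rflat_free [Module.Flat R P] (m : ℕ) : RFlat R (ModuleCat.of P (Fin m → P)) := by
  haveI : Module.Flat P (ModuleCat.of P (Fin m → P)) :=
    inferInstanceAs (Module.Flat P (Fin m → P))
  exact rflat_of_flat R _

variable (R) in
lemma rflat_ker (S : ShortComplex (ModuleCat.{u} P)) (hS : S.ShortExact) (h₂ : RFlat R S.X₂)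
    (h₃ : RFlat R S.X₃) : RFlat R S.X₁ := by
  letI := modP R S.X₁
  letI := modP R S.X₂
  letI := modP R S.X₃
  haveI : Module.Flat R S.X₂ := h₂
  haveI : Module.Flat R S.X₃ := h₃
  show Module.Flat R S.X₁
  refine flat_of_exact_of_flat (linR R S.g) ?_ (linR R S.f) ?_ ?_
  · exact (ModuleCat.epi_iff_surjective S.g).1 hS.epi_g
  · exact (ModuleCat.mono_iff_injective S.f).1 hS.mono_f
  · exact (ShortComplex.ShortExact.moduleCat_exact_iff_function_exact S).1 hS.exact

section Ext

variable (R R' P')

/-- `R' ⊗_R X ⟶ P' ⊗_P X` as an additive map into `extendScalars` -/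
noncomputable def Ψ (X : ModuleCat.{u} P) :
    letI := modP R X
    (R' ⊗[R] X) →+ ((ModuleCat.extendScalars.{u, u, u} (algebraMap P P')).obj X) :=
  letI := modP R X
  haveI := isScalarTower_modP R X
  ((ExtSc.extendObjEquiv (B := P') X).symm.toLinearMap.toAddMonoidHom).comp
    ((Algebra.IsPushout.cancelBaseChange R R' P P' X).symm.toLinearMap.toAddMonoidHom)

lemma Ψ_tmul (X : ModuleCat.{u} P) (r : R') (x : X) :
    letI := modP R X
    Ψ R R' P' X (r ⊗ₜ[R] x) =
      (@TensorProduct.tmul P _ _ _ _ _ (Module.compHom _ (algebraMap P P')) _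
        (algebraMap R' P' r) x) := by
  letI := modP R X
  haveI := isScalarTower_modP R X
  show (ExtSc.extendObjEquiv (B := P') X).symm
    ((Algebra.IsPushout.cancelBaseChange R R' P P' X).symm (r ⊗ₜ[R] x)) = _
  rw [Algebra.IsPushout.cancelBaseChange_symm_tmul, BaseChg.extendObjEquiv_symm_tmul]

lemma Ψ_bijective (X : ModuleCat.{u} P) :
    letI := modP R X
    Function.Bijective (Ψ R R' P' X) := by
  letI := modP R X
  haveI := isScalarTower_modP R X
  exact (ExtSc.extendObjEquiv (B := P') X).symm.bijective.comp
    (Algebra.IsPushout.cancelBaseChange R R' P P' X).symm.bijective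

lemma Ψ_naturality {X Y : ModuleCat.{u} P} (f : X ⟶ Y) :
    letI := modP R X
    letI := modP R Y
    ∀ z : R' ⊗[R] X, (ModuleCat.extendScalars.{u, u, u} (algebraMap P P')).map f (Ψ R R' P' X z) =
      Ψ R R' P' Y ((linR R f).lTensor R' z) := by
  letI := modP R X
  letI := modP R Y
  intro z
  induction z using TensorProduct.induction_on with
  | zero => simp
  | tmul r x =>
    rw [Ψ_tmul, LinearMap.lTensor_tmul, Ψ_tmul]
    exact ModuleCat.ExtendScalars.map_tmul (algebraMap P P') f _ x
  | add z z' hz hz' =>
    rw [map_add, map_add, hz, hz', map_add, map_add]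

include R' in
/-- extension of scalars along `P → P'` preserves the injectivity of the first map of a short exact
sequence with `R`-flat cokernel -/
lemma mono_extendScalars_map (S : ShortComplex (ModuleCat.{u} P)) (hS : S.ShortExact)
    (h₃ : RFlat R S.X₃) : Mono ((ModuleCat.extendScalars.{u, u, u} (algebraMap P P')).map S.f) := by
  letI := modP R S.X₁
  letI := modP R S.X₂
  letI := modP R S.X₃
  haveI : Module.Flat R S.X₃ := h₃
  rw [ModuleCat.mono_iff_injective]
  have h1 : Function.Injective ((linR R S.f).lTensor R') :=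
    LinearMap.lTensor_injective_of_exact_of_flat (linR R S.g)
      ((ModuleCat.epi_iff_surjective S.g).1 hS.epi_g) (linR R S.f)
      ((ModuleCat.mono_iff_injective S.f).1 hS.mono_f)
      ((ShortComplex.ShortExact.moduleCat_exact_iff_function_exact S).1 hS.exact) R'
  intro a b hab
  obtain ⟨a', rfl⟩ := (Ψ_bijective R R' P' S.X₁).2 a
  obtain ⟨b', rfl⟩ := (Ψ_bijective R R' P' S.X₁).2 b
  have h2 := Ψ_naturality R R' P' S.f a'
  have h3 := Ψ_naturality R R' P' S.f b'
  have h4 : Ψ R R' P' S.X₂ ((linR R S.f).lTensor R' a') =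
      Ψ R R' P' S.X₂ ((linR R S.f).lTensor R' b') := h2.symm.trans (hab.trans h3)
  rw [h1 ((Ψ_bijective R R' P' S.X₂).1 h4)]

end Ext

section HomExact

variable {A : Type u} [CommRing A]

/-- `Hom(-, E)` is exact on a short exact sequence along which maps to the terms of `E` extend -/
lemma homSC_shortExact_of_extension (E : DRing.Cx A) (S : ShortComplex (ModuleCat.{u} A))
    (hS : S.ShortExact)
    (hext : ∀ (j : ℤ) (g : S.X₁ ⟶ E.X j), ∃ g' : S.X₂ ⟶ E.X j, S.f ≫ g' = g) :
    (homSC E S).ShortExact := by
  apply HomologicalComplex.shortExact_of_degreewise_shortExact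
  intro j
  haveI := hS.mono_f
  haveI := hS.epi_g
  refine Setup.shortExact_of_functions (A := A) _ _ _ ?_ ?_ ?_
  · intro φ ψ h
    have h' : S.g ≫ φ = S.g ≫ ψ := h
    exact (cancel_epi S.g).1 h'
  · intro ψ
    exact hext j ψ
  · intro χ hχ
    have hχ' : S.f ≫ χ = 0 := hχ
    exact ⟨hS.exact.desc χ hχ', hS.exact.g_desc χ hχ'⟩

end HomExact

variable (R R' P')

include R' in
/-- maps to the restriction of an injective `P'`-module extend along the first map of a short exact
sequence of `P`-modules with `R`-flat cokernel -/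
lemma exists_extension (S : ShortComplex (ModuleCat.{u} P)) (hS : S.ShortExact)
    (h₃ : RFlat R S.X₃) (E' : ModuleCat.{u} P') [Injective E']
    (g : S.X₁ ⟶ (ModuleCat.restrictScalars.{u} (algebraMap P P')).obj E') :
    ∃ g' : S.X₂ ⟶ (ModuleCat.restrictScalars.{u} (algebraMap P P')).obj E', S.f ≫ g' = g := by
  haveI := mono_extendScalars_map R R' P' S hS h₃
  let adj := ModuleCat.extendRestrictScalarsAdj.{u, u, u} (algebraMap P P')
  let ĝ := (adj.homEquiv _ _).symm g
  refine ⟨adj.homEquiv _ _ (Injective.factorThru ĝ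
    ((ModuleCat.extendScalars.{u, u, u} (algebraMap P P')).map S.f)), ?_⟩
  rw [← Adjunction.homEquiv_naturality_left, Injective.comp_factorThru]
  exact (adj.homEquiv _ _).apply_symm_apply g

include R' in
/-- **the comparison `Hom_P(B, I'|_P) ⟶ Hom_P(B, J)` is a quasi-isomorphism** for `B` finite of finite
projective dimension over `P` and flat over `R`. -/
theorem quasiIso_Gc_map_res [IsNoetherianRing P] [Module.Flat R P] {B : Type u} [CommRing B]
    (φ : P →+* B) [Module.Finite P (BA φ)] (d : ℕ) [HasProjectiveDimensionLT (BA φ) (d + 1)]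
    (hB : RFlat R (BA φ)) (I' : DRing.Cx P') [∀ j, Injective (I'.X j)] (J : DRing.Cx P)
    [∀ j, Injective (J.X j)]
    (κ : ((ModuleCat.restrictScalars.{u} (algebraMap P P')).mapHomologicalComplex
      (ComplexShape.up ℤ)).obj I' ⟶ J) [QuasiIso κ] :
    QuasiIso (((Gm φ).mapHomologicalComplex (ComplexShape.up ℤ)).map κ) := by
  apply quasiIso_Gc_map_of_quasiIso_homCxMap
  refine quasiIso_homCxMap κ (RFlat R) (rflat_free R) (rflat_ker R) (fun S hS h₃ => ?_) d (BA φ) hB
  refine homSC_shortExact_of_extension _ S hS (fun j g => ?_)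
  exact exists_extension R R' P' S hS h₃ (I'.X j) g

end Groth.Agent.Lib.helper23.TBC
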