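import Mathlib
import Groth.Prelude.Def_DRing4
import Groth.Agent.Lib.Helper23.RAdj3
import Groth.Agent.Lib.Helper23.FBCR1

/-!
# The base change square for restriction, extension and coextension of scalars (helper23)

Pushout square `P → A`, `P → P'`, `A → A'`, `P' → A'`.

* `adjCx adj`: the adjunction on cochain complexes induced termwise by an adjunction of additive functors.
* `eqM`: `(-)|_A|_P ≅ (-)|_{P'}|_P` on `A'`-modules.
* `homEquiv_γ₀_comp`: the two ways to transpose an `A'`-linear map `A' ⊗_A N ⟶ Y` to a `P`-linear map on `N`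
  agree.
* `βM : Hom_{P'}(A', -)|_A ≅ Hom_P(A, (-)|_P)`, with its compatibility `βM_counit` with evaluation at `1`.
-/

set_option autoImplicit false
universe u
open CategoryTheory CategoryTheory.Limits Opposite

namespace Groth.Agent.Lib.helper23.TBC

open Groth.Agent.Lib.helper23.RAdj Groth.Agent.Lib.helper23.FBCR

section AdjCx

variable {C D : Type*} [Category C] [Category D] [Preadditive C] [Preadditive D]
  {F : C ⥤ D} {G : D ⥤ C} [F.Additive] [G.Additive] (adj : F ⊣ G)

/-- the adjunction on cochain complexes induced termwise -/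
noncomputable def adjCx :
    F.mapHomologicalComplex (ComplexShape.up ℤ) ⊣ G.mapHomologicalComplex (ComplexShape.up ℤ) :=
  Adjunction.mkOfUnitCounit
    { unit :=
        { app := fun K =>
            { f := fun n => adj.unit.app (K.X n)
              comm' := fun i j _ => (adj.unit.naturality (K.d i j)).symm }
          naturality := fun K L f => by
            ext n
            exact adj.unit.naturality (f.f n) }
      counit :=
        { app := fun K =>
            { f := fun n => adj.counit.app (K.X n)
              comm' := fun i j _ => (adj.counit.naturality (K.d i j)).symm }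
          naturality := fun K L f => by
            ext n
            exact adj.counit.naturality (f.f n) }
      left_triangle := by
        ext K n
        simp only [Functor.comp_obj, Functor.id_obj, NatTrans.comp_app, Functor.whiskerRight_app,
          Functor.associator_hom_app, Functor.whiskerLeft_app, Category.id_comp, NatTrans.id_app',
          HomologicalComplex.comp_f, HomologicalComplex.id_f, Functor.mapHomologicalComplex_map_f]
        exact adj.left_triangle_components (K.X n)
      right_triangle := by
        ext K n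
        simp only [Functor.comp_obj, Functor.id_obj, NatTrans.comp_app, Functor.whiskerRight_app,
          Functor.associator_inv_app, Functor.whiskerLeft_app, Category.id_comp, NatTrans.id_app',
          HomologicalComplex.comp_f, HomologicalComplex.id_f, Functor.mapHomologicalComplex_map_f]
        exact adj.right_triangle_components (K.X n) }

@[simp]
lemma adjCx_unit_app_f (K : CochainComplex C ℤ) (n : ℤ) :
    ((adjCx adj).unit.app K).f n = adj.unit.app (K.X n) := rfl

@[simp]
lemma adjCx_counit_app_f (K : CochainComplex D ℤ) (n : ℤ) :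
    ((adjCx adj).counit.app K).f n = adj.counit.app (K.X n) := rfl

lemma adjCx_homEquiv_f {K : CochainComplex C ℤ} {L : CochainComplex D ℤ}
    (g : (F.mapHomologicalComplex (ComplexShape.up ℤ)).obj K ⟶ L) (n : ℤ) :
    ((adjCx adj).homEquiv K L g).f n = adj.homEquiv _ _ (g.f n) := by
  rw [Adjunction.homEquiv_unit, Adjunction.homEquiv_unit]
  rfl

lemma adjCx_homEquiv_symm_f {K : CochainComplex C ℤ} {L : CochainComplex D ℤ}
    (g : K ⟶ (G.mapHomologicalComplex (ComplexShape.up ℤ)).obj L) (n : ℤ) :
    (((adjCx adj).homEquiv K L).symm g).f n = (adj.homEquiv _ _).symm (g.f n) := by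
  rw [Adjunction.homEquiv_counit, Adjunction.homEquiv_counit]
  rfl

end AdjCx

variable {P P' A A' : Type u} [CommRing P] [CommRing P'] [CommRing A] [CommRing A']
  [Algebra P P'] [Algebra P A] [Algebra A A'] [Algebra P' A'] [Algebra P A']
  [IsScalarTower P A A'] [IsScalarTower P P' A']

variable (P P' A A') in
/-- `(-)|_A|_P ≅ (-)|_{P'}|_P` on `A'`-modules -/
noncomputable def eqM :
    ModuleCat.restrictScalars.{u} (algebraMap A A') ⋙ ModuleCat.restrictScalars.{u} (algebraMap P A) ≅
      ModuleCat.restrictScalars.{u} (algebraMap P' A') ⋙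
        ModuleCat.restrictScalars.{u} (algebraMap P P') :=
  (ModuleCat.restrictScalarsComp'.{u} (algebraMap P A) (algebraMap A A') (algebraMap P A')
      (IsScalarTower.algebraMap_eq P A A')).symm ≪≫
    ModuleCat.restrictScalarsComp'.{u} (algebraMap P P') (algebraMap P' A') (algebraMap P A')
      (IsScalarTower.algebraMap_eq P P' A')

lemma eqM_hom_app_apply (Y : ModuleCat.{u} A') (y : Y) :
    ((eqM P P' A A').hom.app Y).hom y = y := rfl

lemma eqM_inv_app_apply (Y : ModuleCat.{u} A') (y : Y) :
    ((eqM P P' A A').inv.app Y).hom y = y := rfl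

variable [Algebra.IsPushout P P' A A']

/-- the adjunction `A' ⊗_A - ⊣ restriction` -/
noncomputable abbrev adjE {S T : Type u} [CommRing S] [CommRing T] (f : S →+* T) :
    ModuleCat.extendScalars.{u, u, u} f ⊣ ModuleCat.restrictScalars.{u} f :=
  ModuleCat.extendRestrictScalarsAdj.{u, u, u} f

/-- **the two transposes agree**: for an `A'`-linear `g : A' ⊗_A N ⟶ Y`, the `P`-linear map on `N` obtained from
`P' ⊗_P N ≅ A' ⊗_A N ⟶ Y` is the restriction of the `A`-linear transpose of `g`. -/
lemma homEquiv_γ₀_comp {N : ModuleCat.{u} A} {Y : ModuleCat.{u} A'}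
    (g : (ModuleCat.extendScalars.{u, u, u} (algebraMap A A')).obj N ⟶ Y) :
    (adjE (algebraMap P P')).homEquiv _ _ ((γ₀ P P' A A').hom.app N ≫
        (ModuleCat.restrictScalars.{u} (algebraMap P' A')).map g) =
      (ModuleCat.restrictScalars.{u} (algebraMap P A)).map
        ((adjE (algebraMap A A')).homEquiv _ _ g) ≫ (eqM P P' A A').hom.app Y := by
  ext x
  have h1 := γObj_one_tmul (P := P) (P' := P') (B' := A') N x
  exact congrArg (fun z => g.hom z) h1

/-- the same statement for the inverse transposes -/
lemma γ₀_comp_homEquiv_symm {N : ModuleCat.{u} A} {Y : ModuleCat.{u} A'}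
    (c : N ⟶ (ModuleCat.restrictScalars.{u} (algebraMap A A')).obj Y) :
    (γ₀ P P' A A').hom.app N ≫ (ModuleCat.restrictScalars.{u} (algebraMap P' A')).map
        (((adjE (algebraMap A A')).homEquiv _ _).symm c) =
      ((adjE (algebraMap P P')).homEquiv _ _).symm
        ((ModuleCat.restrictScalars.{u} (algebraMap P A)).map c ≫ (eqM P P' A A').hom.app Y) := by
  apply ((adjE (algebraMap P P')).homEquiv _ _).injective
  rw [homEquiv_γ₀_comp, Equiv.apply_symm_apply, Equiv.apply_symm_apply]

/-- the left adjoint `N ↦ (A' ⊗_A N)|_{P'}` and its right adjoint `M' ↦ Hom_{P'}(A', M')|_A` -/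
noncomputable abbrev adj₁ :
    ModuleCat.extendScalars.{u, u, u} (algebraMap A A') ⋙
        ModuleCat.restrictScalars.{u} (algebraMap P' A') ⊣
      Gm (algebraMap P' A') ⋙ ModuleCat.restrictScalars.{u} (algebraMap A A') :=
  (adjE (algebraMap A A')).comp (adjm (algebraMap P' A'))

/-- the left adjoint `N ↦ P' ⊗_P (N|_P)` and its right adjoint `M' ↦ Hom_P(A, M'|_P)` -/
noncomputable abbrev adj₂ :
    ModuleCat.restrictScalars.{u} (algebraMap P A) ⋙
        ModuleCat.extendScalars.{u, u, u} (algebraMap P P') ⊣
      ModuleCat.restrictScalars.{u} (algebraMap P P') ⋙ Gm (algebraMap P A) :=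
  (adjm (algebraMap P A)).comp (adjE (algebraMap P P'))

variable (P P' A A') in
/-- `Hom_{P'}(A', M')|_A ≅ Hom_P(A, M'|_P)`, naturally in the `P'`-module `M'` -/
noncomputable def βM :
    Gm (algebraMap P' A') ⋙ ModuleCat.restrictScalars.{u} (algebraMap A A') ≅
      ModuleCat.restrictScalars.{u} (algebraMap P P') ⋙ Gm (algebraMap P A) :=
  conjugateIsoEquiv (adj₁ (P' := P') (A := A) (A' := A'))
    (adj₂ (P := P) (P' := P') (A := A)) (γ₀ P P' A A')

/-- `βM` is compatible with evaluation at `1` -/
lemma βM_counit (M' : ModuleCat.{u} P') :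
    (ModuleCat.restrictScalars.{u} (algebraMap P A)).map ((βM P P' A A').hom.app M') ≫
        (adjm (algebraMap P A)).counit.app
          ((ModuleCat.restrictScalars.{u} (algebraMap P P')).obj M') =
      (eqM P P' A A').hom.app ((Gm (algebraMap P' A')).obj M') ≫
        (ModuleCat.restrictScalars.{u} (algebraMap P P')).map
          ((adjm (algebraMap P' A')).counit.app M') := by
  have h := conjugateEquiv_counit (adj₁ (P' := P') (A := A) (A' := A'))
    (adj₂ (P := P) (P' := P') (A := A)) (γ₀ P P' A A').hom M'
  have h' : (ModuleCat.extendScalars.{u, u, u} (algebraMap P P')).map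
      ((ModuleCat.restrictScalars.{u} (algebraMap P A)).map ((βM P P' A A').hom.app M') ≫
        (adjm (algebraMap P A)).counit.app
          ((ModuleCat.restrictScalars.{u} (algebraMap P P')).obj M')) ≫
      (adjE (algebraMap P P')).counit.app M' =
      (γ₀ P P' A A').hom.app ((ModuleCat.restrictScalars.{u} (algebraMap A A')).obj
        ((Gm (algebraMap P' A')).obj M')) ≫
      (ModuleCat.restrictScalars.{u} (algebraMap P' A')).map
        ((adjE (algebraMap A A')).counit.app ((Gm (algebraMap P' A')).obj M')) ≫
      (adjm (algebraMap P' A')).counit.app M' := by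
    rw [Functor.map_comp, Category.assoc]
    exact h
  have h2 := (Equiv.symm_apply_eq _).1
    (((adjE (algebraMap P P')).homEquiv_counit _ _ _).trans h')
  refine h2.trans ?_
  have h3 : (adjE (algebraMap A A')).homEquiv _ _
      ((adjE (algebraMap A A')).counit.app ((Gm (algebraMap P' A')).obj M')) = 𝟙 _ := by
    rw [Adjunction.homEquiv_unit]
    exact (adjE (algebraMap A A')).right_triangle_components _
  have h4 := homEquiv_γ₀_comp (P := P) (P' := P')
    ((adjE (algebraMap A A')).counit.app ((Gm (algebraMap P' A')).obj M'))
  rw [h3, CategoryTheory.Functor.map_id, Category.id_comp] at h4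
  have h5 := (adjE (algebraMap P P')).homEquiv_naturality_right
    ((γ₀ P P' A A').hom.app ((ModuleCat.restrictScalars.{u} (algebraMap A A')).obj
      ((Gm (algebraMap P' A')).obj M')) ≫
      (ModuleCat.restrictScalars.{u} (algebraMap P' A')).map
        ((adjE (algebraMap A A')).counit.app ((Gm (algebraMap P' A')).obj M')))
    ((adjm (algebraMap P' A')).counit.app M')
  rw [Category.assoc] at h5
  exact h5.trans (congrArg (fun z => z ≫ (ModuleCat.restrictScalars.{u} (algebraMap P P')).map
    ((adjm (algebraMap P' A')).counit.app M')) h4)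

end Groth.Agent.Lib.helper23.TBC
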