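import Mathlib
import Groth.Prelude.Def_DRing4
import Groth.Prelude.Def_DTen
import Groth.Agent.Lib.Helper13.RKF1
import Groth.Agent.Lib.Helper13.KFlat14
import Groth.Agent.Lib.Helper13.ExtKFlat
import Groth.Agent.Lib.Helper25.TotSingle
import Groth.Agent.Lib.Helper23.TBC3

/-!
# `G ⊗_R T ≅ (T ⊗_R G)|_R` for complexes, and the action of a resolution of `T` (helper23)

For a ring map `φ : R → T`:
* `SR φ`: `T` as a complex of `R`-modules concentrated in degree `0`;
* `Ξ φ G : G ⊗ SR φ ≅ resCx (extCx G)`, natural in the complex `G` (`Ξ_naturality`);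
* for `ν : N ⟶ SR φ` and a complex `Z` of `T`-modules, `aN φ ν Z : Z|_R ⊗ N ⟶ Z|_R` (`z ⊗ n ↦ ν(n) z`), natural
  in `Z` (`aN_naturality`), and `whiskerLeft_Ξ_transpose`: the transpose of `g : G ⟶ Z|_R` is computed by `aN`;
* `quasiIso_whiskerLeft_kflat`: `F ◁ g` is a quasi-isomorphism for `F` K-flat and `g` a quasi-isomorphism.
-/

set_option autoImplicit false
universe u
open CategoryTheory CategoryTheory.Limits MonoidalCategory Opposite
open HomologicalComplex

namespace Groth.Agent.Lib.helper23.TBC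

open Groth.Agent.Lib.helper13.ExtKFlat Groth.Agent.Lib.helper13.RKF Groth.Agent.Lib.helper13.KFlat
  Groth.Agent.Lib.Helper25.TotSingle

section KFlat

variable {R : Type u} [CommRing R]

/-- tensoring a quasi-isomorphism on the left with a K-flat complex -/
theorem quasiIso_whiskerLeft_kflat (F : DRing.Cx R) (hF : IsKFlatR F) {L₁ L₂ : DRing.Cx R}
    (g : L₁ ⟶ L₂) [QuasiIso g] : QuasiIso (F ◁ g) := by
  have h := DTen.braidCx_naturality (𝟙 F) g
  rw [MonoidalCategory.id_tensorHom, MonoidalCategory.tensorHom_id] at h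
  haveI : QuasiIso (g ▷ F) := quasiIso_whiskerRight_of_isKFlatR F hF g
  haveI : QuasiIso ((F ◁ g) ≫ (DTen.braidCx F L₂).hom) := by
    rw [h]
    infer_instance
  exact quasiIso_of_comp_right _ (DTen.braidCx F L₂).hom

end KFlat

variable {R T : Type u} [CommRing R] [CommRing T] (φ : R →+* T)

/-- `T` as a complex of `R`-modules concentrated in degree `0` -/
noncomputable abbrev SR : DRing.Cx R :=
  (HomologicalComplex.single (ModuleCat.{u} R) (ComplexShape.up ℤ) 0).obj (AR φ)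

lemma isZero_SR_X (p : ℤ) (hp : p ≠ 0) : IsZero ((SR φ).X p) :=
  HomologicalComplex.isZero_single_obj_X _ _ _ _ hp

/-- `(SR φ)⁰ ⊗ -` is extension followed by restriction of scalars -/
noncomputable def eS :
    (curriedTensor (ModuleCat.{u} R)).obj ((SR φ).X 0) ≅
      ModuleCat.extendScalars.{u, u, u} φ ⋙ ModuleCat.restrictScalars.{u} φ :=
  (curriedTensor (ModuleCat.{u} R)).mapIso
      (HomologicalComplex.singleObjXSelf (ComplexShape.up ℤ) 0 (AR φ)) ≪≫
    (extResIso φ).symm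

/-- termwise `T ⊗_R G ≅ (T ⊗_R G)|_R` -/
noncomputable def Ξ₃ (G : DRing.Cx R) :
    (((curriedTensor (ModuleCat.{u} R)).obj ((SR φ).X 0)).mapHomologicalComplex
      (ComplexShape.up ℤ)).obj G ≅ (resCx φ).obj ((extCx φ).obj G) :=
  (NatIso.mapHomologicalComplex (eS φ) (ComplexShape.up ℤ)).app G

lemma Ξ₃_naturality {G G' : DRing.Cx R} (g : G ⟶ G') :
    (((curriedTensor (ModuleCat.{u} R)).obj ((SR φ).X 0)).mapHomologicalComplex
      (ComplexShape.up ℤ)).map g ≫ (Ξ₃ φ G').hom =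
    (Ξ₃ φ G).hom ≫ (resCx φ).map ((extCx φ).map g) :=
  (NatIso.mapHomologicalComplex (eS φ) (ComplexShape.up ℤ)).hom.naturality g

/-- `G ⊗_R T ≅ (T ⊗_R G)|_R` for a complex `G` -/
noncomputable def Ξ (G : DRing.Cx R) : G ⊗ SR φ ≅ (resCx φ).obj ((extCx φ).obj G) :=
  DTen.braidCx G (SR φ) ≪≫
    (totIso (curriedTensor (ModuleCat.{u} R)) (SR φ) (isZero_SR_X φ) G).symm ≪≫ Ξ₃ φ G

lemma Ξ_naturality {G G' : DRing.Cx R} (g : G ⟶ G') :
    (g ▷ SR φ) ≫ (Ξ φ G').hom = (Ξ φ G).hom ≫ (resCx φ).map ((extCx φ).map g) := by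
  have h1 := DTen.braidCx_naturality g (𝟙 (SR φ))
  rw [MonoidalCategory.id_tensorHom, MonoidalCategory.tensorHom_id] at h1
  have h2 := totIso_naturality (curriedTensor (ModuleCat.{u} R)) (SR φ) (isZero_SR_X φ) g
  have h2' : (SR φ ◁ g) ≫ (totIso (curriedTensor (ModuleCat.{u} R)) (SR φ) (isZero_SR_X φ) G').inv =
      (totIso (curriedTensor (ModuleCat.{u} R)) (SR φ) (isZero_SR_X φ) G).inv ≫
        (((curriedTensor (ModuleCat.{u} R)).obj ((SR φ).X 0)).mapHomologicalComplex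
          (ComplexShape.up ℤ)).map g := by
    rw [Iso.comp_inv_eq, Category.assoc, Iso.eq_inv_comp]
    exact h2
  dsimp only [Ξ, Iso.trans_hom, Iso.symm_hom]
  rw [reassoc_of% h1, reassoc_of% h2', Ξ₃_naturality]
  simp only [Category.assoc]

section Action

variable {N : DRing.Cx R} (ν : N ⟶ SR φ)

/-- the action `Z|_R ⊗ N ⟶ Z|_R` of a complex `N` over `T` on a complex of `T`-modules -/
noncomputable def aN (Z : DRing.Cx T) : (resCx φ).obj Z ⊗ N ⟶ (resCx φ).obj Z :=
  ((resCx φ).obj Z ◁ ν) ≫ (Ξ φ ((resCx φ).obj Z)).hom ≫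
    (resCx φ).map ((adjCx (adjE φ)).counit.app Z)

lemma aN_naturality {Z Z' : DRing.Cx T} (z : Z ⟶ Z') :
    ((resCx φ).map z ▷ N) ≫ aN φ ν Z' = aN φ ν Z ≫ (resCx φ).map z := by
  dsimp only [aN]
  rw [← whisker_exchange_assoc, reassoc_of% (Ξ_naturality φ ((resCx φ).map z)), Category.assoc,
    Category.assoc, ← Functor.map_comp, ← Functor.map_comp]
  congr 3
  exact (adjCx (adjE φ)).counit.naturality z

/-- the transpose of `g : G ⟶ Z|_R` is computed by the action -/
lemma whiskerLeft_Ξ_transpose {G : DRing.Cx R} {Z : DRing.Cx T} (g : G ⟶ (resCx φ).obj Z) :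
    (G ◁ ν) ≫ (Ξ φ G).hom ≫ (resCx φ).map (((adjCx (adjE φ)).homEquiv G Z).symm g) =
      (g ▷ N) ≫ aN φ ν Z := by
  dsimp only [aN]
  rw [Adjunction.homEquiv_counit, Functor.map_comp, ← whisker_exchange_assoc,
    reassoc_of% (Ξ_naturality φ g)]

end Action

end Groth.Agent.Lib.helper23.TBC
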