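import Mathlib
import Groth.Prelude.Def_DRing4
import Groth.Agent.Lib.Helper23.PerfT5
import Groth.Agent.Lib.Helper23.PerfT2

/-!
# Naturality of `resTenExtIso` (helper23)

For `φ : A →+* B`, `resTenExtIso φ L K : res (L ⊗_B ext K) ≅ res L ⊗_A K` is natural in the complex `L` of
`B`-modules (`resTenExtIso_naturality_left`) and in the complex `K` of `A`-modules
(`resTenExtIso_naturality_right`).
-/

set_option autoImplicit false
universe u
open CategoryTheory CategoryTheory.Limits MonoidalCategory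
open HomologicalComplex

namespace Groth.Agent.Lib.helper23.TBC

open Groth.Agent.Lib.helper13.ExtKFlat Groth.Agent.Lib.helper23.PerfT

variable {A B : Type u} [CommRing A] [CommRing B] (φ : A →+* B)

lemma ι_whiskerLeft {R : Type u} [CommRing R] (K : DRing.Cx R) {N N' : DRing.Cx R} (g : N ⟶ N')
    (p q n : ℤ) (h : p + q = n) :
    ιTensorObj K N p q n h ≫ (K ◁ g).f n = (K.X p ◁ g.f q) ≫ ιTensorObj K N' p q n h := by
  change ιMapBifunctor K N (curriedTensor (ModuleCat.{u} R)) (ComplexShape.up ℤ) p q n h ≫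
    (mapBifunctorMap (𝟙 K) g (curriedTensor (ModuleCat.{u} R)) (ComplexShape.up ℤ)).f n = _
  rw [ι_mapBifunctorMap]
  simp

theorem resTenExtIso_naturality_left {L L' : DRing.Cx B} (f : L ⟶ L') (K : DRing.Cx A) :
    (resCx φ).map (f ▷ (extCx φ).obj K) ≫ (resTenExtIso φ L' K).hom =
      (resTenExtIso φ L K).hom ≫ ((resCx φ).map f ▷ K) := by
  ext n : 1
  apply hom_ext_res φ L ((extCx φ).obj K)
  intro p q hpq
  have h1 := res_ι_resTenExtIso φ L K p q n hpq
  have h2 := res_ι_resTenExtIso φ L' K p q n hpq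
  have h3 := ι_whiskerRight f ((extCx φ).obj K) p q n hpq
  have h4 := ι_whiskerRight ((resCx φ).map f) K p q n hpq
  have h5 := cbcIso_naturality_left φ (f.f p) (K.X q)
  have s1 : (ModuleCat.restrictScalars.{u} φ).map (ιTensorObj L ((extCx φ).obj K) p q n hpq) ≫
        ((resCx φ).map (f ▷ (extCx φ).obj K) ≫ (resTenExtIso φ L' K).hom).f n
      = (ModuleCat.restrictScalars.{u} φ).map (ιTensorObj L ((extCx φ).obj K) p q n hpq ≫
          (f ▷ (extCx φ).obj K).f n) ≫ (resTenExtIso φ L' K).hom.f n := by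
    rw [Functor.map_comp, Category.assoc]
    rfl
  have s2 : (ModuleCat.restrictScalars.{u} φ).map (ιTensorObj L ((extCx φ).obj K) p q n hpq ≫
          (f ▷ (extCx φ).obj K).f n) ≫ (resTenExtIso φ L' K).hom.f n
      = (ModuleCat.restrictScalars.{u} φ).map (f.f p ▷ ((extCx φ).obj K).X q) ≫
          ((ModuleCat.restrictScalars.{u} φ).map (ιTensorObj L' ((extCx φ).obj K) p q n hpq) ≫
            (resTenExtIso φ L' K).hom.f n) := by
    rw [h3, Functor.map_comp, Category.assoc]
  have s3 : (ModuleCat.restrictScalars.{u} φ).map (f.f p ▷ ((extCx φ).obj K).X q) ≫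
          ((ModuleCat.restrictScalars.{u} φ).map (ιTensorObj L' ((extCx φ).obj K) p q n hpq) ≫
            (resTenExtIso φ L' K).hom.f n)
      = (ModuleCat.restrictScalars.{u} φ).map (f.f p ▷ ((extCx φ).obj K).X q) ≫
          (cbcIso φ (L'.X p) (K.X q)).hom ≫ ιTensorObj ((resCx φ).obj L') K p q n hpq :=
    congrArg (fun z => (ModuleCat.restrictScalars.{u} φ).map (f.f p ▷ ((extCx φ).obj K).X q) ≫ z) h2
  have s4 : (ModuleCat.restrictScalars.{u} φ).map (f.f p ▷ ((extCx φ).obj K).X q) ≫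
          (cbcIso φ (L'.X p) (K.X q)).hom ≫ ιTensorObj ((resCx φ).obj L') K p q n hpq
      = (cbcIso φ (L.X p) (K.X q)).hom ≫
          (((ModuleCat.restrictScalars.{u} φ).map (f.f p) ▷ K.X q) ≫
            ιTensorObj ((resCx φ).obj L') K p q n hpq) := by
    rw [← Category.assoc, ← Category.assoc]
    exact congrArg (fun z => z ≫ ιTensorObj ((resCx φ).obj L') K p q n hpq) h5
  have s5 : (cbcIso φ (L.X p) (K.X q)).hom ≫
          (((ModuleCat.restrictScalars.{u} φ).map (f.f p) ▷ K.X q) ≫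
            ιTensorObj ((resCx φ).obj L') K p q n hpq)
      = (cbcIso φ (L.X p) (K.X q)).hom ≫ (ιTensorObj ((resCx φ).obj L) K p q n hpq ≫
          ((resCx φ).map f ▷ K).f n) :=
    congrArg (fun z => (cbcIso φ (L.X p) (K.X q)).hom ≫ z) h4.symm
  have s6 : (cbcIso φ (L.X p) (K.X q)).hom ≫ (ιTensorObj ((resCx φ).obj L) K p q n hpq ≫
          ((resCx φ).map f ▷ K).f n)
      = (ModuleCat.restrictScalars.{u} φ).map (ιTensorObj L ((extCx φ).obj K) p q n hpq) ≫
          ((resTenExtIso φ L K).hom ≫ ((resCx φ).map f ▷ K)).f n := by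
    rw [← Category.assoc, ← h1]
    exact Category.assoc _ _ _
  exact s1.trans (s2.trans (s3.trans (s4.trans (s5.trans s6))))

theorem resTenExtIso_naturality_right (L : DRing.Cx B) {K K' : DRing.Cx A} (g : K ⟶ K') :
    (resCx φ).map (L ◁ (extCx φ).map g) ≫ (resTenExtIso φ L K').hom =
      (resTenExtIso φ L K).hom ≫ ((resCx φ).obj L ◁ g) := by
  ext n : 1
  apply hom_ext_res φ L ((extCx φ).obj K)
  intro p q hpq
  have h1 := res_ι_resTenExtIso φ L K p q n hpq
  have h2 := res_ι_resTenExtIso φ L K' p q n hpq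
  have h3 := ι_whiskerLeft L ((extCx φ).map g) p q n hpq
  have h4 := ι_whiskerLeft ((resCx φ).obj L) g p q n hpq
  have h5 := cbcIso_naturality_right φ (L.X p) (g.f q)
  have s1 : (ModuleCat.restrictScalars.{u} φ).map (ιTensorObj L ((extCx φ).obj K) p q n hpq) ≫
        ((resCx φ).map (L ◁ (extCx φ).map g) ≫ (resTenExtIso φ L K').hom).f n
      = (ModuleCat.restrictScalars.{u} φ).map (ιTensorObj L ((extCx φ).obj K) p q n hpq ≫
          (L ◁ (extCx φ).map g).f n) ≫ (resTenExtIso φ L K').hom.f n := by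
    rw [Functor.map_comp, Category.assoc]
    rfl
  have s2 : (ModuleCat.restrictScalars.{u} φ).map (ιTensorObj L ((extCx φ).obj K) p q n hpq ≫
          (L ◁ (extCx φ).map g).f n) ≫ (resTenExtIso φ L K').hom.f n
      = (ModuleCat.restrictScalars.{u} φ).map (L.X p ◁ ((extCx φ).map g).f q) ≫
          ((ModuleCat.restrictScalars.{u} φ).map (ιTensorObj L ((extCx φ).obj K') p q n hpq) ≫
            (resTenExtIso φ L K').hom.f n) := by
    rw [h3, Functor.map_comp, Category.assoc]
  have s3 : (ModuleCat.restrictScalars.{u} φ).map (L.X p ◁ ((extCx φ).map g).f q) ≫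
          ((ModuleCat.restrictScalars.{u} φ).map (ιTensorObj L ((extCx φ).obj K') p q n hpq) ≫
            (resTenExtIso φ L K').hom.f n)
      = (ModuleCat.restrictScalars.{u} φ).map (L.X p ◁ ((extCx φ).map g).f q) ≫
          (cbcIso φ (L.X p) (K'.X q)).hom ≫ ιTensorObj ((resCx φ).obj L) K' p q n hpq :=
    congrArg (fun z => (ModuleCat.restrictScalars.{u} φ).map (L.X p ◁ ((extCx φ).map g).f q) ≫ z) h2
  have s4 : (ModuleCat.restrictScalars.{u} φ).map (L.X p ◁ ((extCx φ).map g).f q) ≫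
          (cbcIso φ (L.X p) (K'.X q)).hom ≫ ιTensorObj ((resCx φ).obj L) K' p q n hpq
      = (cbcIso φ (L.X p) (K.X q)).hom ≫
          (((ModuleCat.restrictScalars.{u} φ).obj (L.X p) ◁ g.f q) ≫
            ιTensorObj ((resCx φ).obj L) K' p q n hpq) := by
    rw [← Category.assoc, ← Category.assoc]
    exact congrArg (fun z => z ≫ ιTensorObj ((resCx φ).obj L) K' p q n hpq) h5
  have s5 : (cbcIso φ (L.X p) (K.X q)).hom ≫
          (((ModuleCat.restrictScalars.{u} φ).obj (L.X p) ◁ g.f q) ≫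
            ιTensorObj ((resCx φ).obj L) K' p q n hpq)
      = (cbcIso φ (L.X p) (K.X q)).hom ≫ (ιTensorObj ((resCx φ).obj L) K p q n hpq ≫
          ((resCx φ).obj L ◁ g).f n) :=
    congrArg (fun z => (cbcIso φ (L.X p) (K.X q)).hom ≫ z) h4.symm
  have s6 : (cbcIso φ (L.X p) (K.X q)).hom ≫ (ιTensorObj ((resCx φ).obj L) K p q n hpq ≫
          ((resCx φ).obj L ◁ g).f n)
      = (ModuleCat.restrictScalars.{u} φ).map (ιTensorObj L ((extCx φ).obj K) p q n hpq) ≫
          ((resTenExtIso φ L K).hom ≫ ((resCx φ).obj L ◁ g)).f n := by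
    rw [← Category.assoc, ← h1]
    exact Category.assoc _ _ _
  exact s1.trans (s2.trans (s3.trans (s4.trans (s5.trans s6))))

end Groth.Agent.Lib.helper23.TBC
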