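import Mathlib
import Groth.Prelude.Def_DRing4
import Groth.Agent.Lib.Helper13.ExtKFlat
import Groth.Agent.Lib.Helper23.TBC3

/-!
# The base change square on complexes (helper23)

Pushout square `P → A`, `P → P'`, `A → A'`, `P' → A'`; termwise versions of the isomorphisms of `TBC3`:
* `eqY Y' : Y'|_A|_P ≅ Y'|_{P'}|_P`;
* `Λ F : P' ⊗_P (F|_P) ≅ (A' ⊗_A F)|_{P'}` and `Λ_comp_transpose` (the two transposes agree);
* `β₁ I' : Hom_{P'}(A', I')|_A ≅ Hom_P(A, I'|_P)` and `β₁_counit`.
-/

set_option autoImplicit false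
universe u
open CategoryTheory CategoryTheory.Limits Opposite

namespace Groth.Agent.Lib.helper23.TBC

open Groth.Agent.Lib.helper23.RAdj Groth.Agent.Lib.helper23.FBCR Groth.Agent.Lib.helper13.ExtKFlat

variable {P P' A A' : Type u} [CommRing P] [CommRing P'] [CommRing A] [CommRing A']
  [Algebra P P'] [Algebra P A] [Algebra A A'] [Algebra P' A'] [Algebra P A']
  [IsScalarTower P A A'] [IsScalarTower P P' A']

variable (P P') in
/-- `Y'|_A|_P ≅ Y'|_{P'}|_P` -/
noncomputable def eqY (Y' : DRing.Cx A') :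
    (resCx (algebraMap P A)).obj ((resCx (algebraMap A A')).obj Y') ≅
      (resCx (algebraMap P P')).obj ((resCx (algebraMap P' A')).obj Y') :=
  (NatIso.mapHomologicalComplex (eqM P P' A A') (ComplexShape.up ℤ)).app Y'

lemma eqY_naturality {Y Y' : DRing.Cx A'} (y : Y ⟶ Y') :
    (resCx (algebraMap P A)).map ((resCx (algebraMap A A')).map y) ≫ (eqY P P' Y').hom =
      (eqY P P' Y).hom ≫ (resCx (algebraMap P P')).map ((resCx (algebraMap P' A')).map y) :=
  (NatIso.mapHomologicalComplex (eqM P P' A A') (ComplexShape.up ℤ)).hom.naturality y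

lemma eqY_inv_naturality {Y Y' : DRing.Cx A'} (y : Y ⟶ Y') :
    (resCx (algebraMap P P')).map ((resCx (algebraMap P' A')).map y) ≫ (eqY P P' Y').inv =
      (eqY P P' Y).inv ≫ (resCx (algebraMap P A)).map ((resCx (algebraMap A A')).map y) :=
  (NatIso.mapHomologicalComplex (eqM P P' A A') (ComplexShape.up ℤ)).inv.naturality y

variable [Algebra.IsPushout P P' A A']

variable (P P' A') in
/-- `P' ⊗_P (F|_P) ≅ (A' ⊗_A F)|_{P'}` -/
noncomputable def Λ (F : DRing.Cx A) :
    (extCx (algebraMap P P')).obj ((resCx (algebraMap P A)).obj F) ≅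
      (resCx (algebraMap P' A')).obj ((extCx (algebraMap A A')).obj F) :=
  (NatIso.mapHomologicalComplex (γ₀ P P' A A') (ComplexShape.up ℤ)).app F

lemma Λ_naturality {F F' : DRing.Cx A} (f : F ⟶ F') :
    (extCx (algebraMap P P')).map ((resCx (algebraMap P A)).map f) ≫ (Λ P P' A' F').hom =
      (Λ P P' A' F).hom ≫ (resCx (algebraMap P' A')).map ((extCx (algebraMap A A')).map f) :=
  (NatIso.mapHomologicalComplex (γ₀ P P' A A') (ComplexShape.up ℤ)).hom.naturality f

/-- **the two transposes agree** (complexes) -/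
lemma Λ_comp_transpose {F : DRing.Cx A} {Y' : DRing.Cx A'}
    (c : F ⟶ (resCx (algebraMap A A')).obj Y') :
    (Λ P P' A' F).hom ≫ (resCx (algebraMap P' A')).map
        (((adjCx (adjE (algebraMap A A'))).homEquiv F Y').symm c) =
      ((adjCx (adjE (algebraMap P P'))).homEquiv _ _).symm
        ((resCx (algebraMap P A)).map c ≫ (eqY P P' Y').hom) := by
  ext n : 1
  rw [adjCx_homEquiv_symm_f, HomologicalComplex.comp_f]
  have h := γ₀_comp_homEquiv_symm (P := P) (P' := P') (c.f n)
  have h2 : ((resCx (algebraMap P' A')).map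
      (((adjCx (adjE (algebraMap A A'))).homEquiv F Y').symm c)).f n =
      (ModuleCat.restrictScalars.{u} (algebraMap P' A')).map
        (((adjE (algebraMap A A')).homEquiv _ _).symm (c.f n)) := by
    exact congrArg (fun z => (ModuleCat.restrictScalars.{u} (algebraMap P' A')).map z)
      (adjCx_homEquiv_symm_f (adjE (algebraMap A A')) c n)
  rw [h2]
  exact h

variable (P P' A A') in
/-- `Hom_{P'}(A', I')|_A ≅ Hom_P(A, I'|_P)` -/
noncomputable def β₁ (I' : DRing.Cx P') :
    (resCx (algebraMap A A')).obj (Gc (algebraMap P' A') I') ≅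
      Gc (algebraMap P A) ((resCx (algebraMap P P')).obj I') :=
  (NatIso.mapHomologicalComplex (βM P P' A A') (ComplexShape.up ℤ)).app I'

lemma β₁_counit (I' : DRing.Cx P') :
    (resCx (algebraMap P A)).map (β₁ P P' A A' I').hom ≫
        counitCx (adjm (algebraMap P A)) ((resCx (algebraMap P P')).obj I') =
      (eqY P P' (Gc (algebraMap P' A') I')).hom ≫
        (resCx (algebraMap P P')).map (counitCx (adjm (algebraMap P' A')) I') := by
  ext n : 1
  exact βM_counit (P := P) (P' := P') (A := A) (A' := A') (I'.X n)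

end Groth.Agent.Lib.helper23.TBC
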