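import Mathlib
import Groth.Prelude.Def_DRing4
import Groth.Agent.Lib.Helper13.ExtKFlat
import Groth.Agent.Lib.Helper13.KFlat14
import Groth.Agent.Lib.Helper23.PerfT2
import Groth.Agent.Lib.Helper23.RAdj2

/-!
# Linearity of chain maps over an algebra (helper23)

* `smul_id_whiskerRight`: `(a • 𝟙 K) ▷ N = a • 𝟙 (K ⊗ N)` for complexes of `A`-modules;
* `exists_lift_of_comm`: for `φ : P → A`, a `P`-linear chain map `X|_P ⟶ X'|_P` commuting with multiplication by
  every `a : A` is the restriction of an `A`-linear chain map;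
* `Q_map_whiskerRight_eq`: tensoring with a K-flat complex is well defined on morphisms of the derived category.
-/

set_option autoImplicit false
universe u
open CategoryTheory CategoryTheory.Limits MonoidalCategory Opposite
open HomologicalComplex

namespace Groth.Agent.Lib.helper23.TBC

open Groth.Agent.Lib.helper13.ExtKFlat Groth.Agent.Lib.helper23.PerfT
  Groth.Agent.Lib.helper13.KFlat

section Smul

variable {A : Type u} [CommRing A]

lemma smul_id_whiskerRight (K N : DRing.Cx A) (a : A) : (a • 𝟙 K) ▷ N = a • 𝟙 (K ⊗ N) := by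
  ext n : 1
  apply mapBifunctor.hom_ext
  intro p q hpq
  have hpq' : p + q = n := hpq
  change ιTensorObj K N p q n hpq' ≫ ((a • 𝟙 K) ▷ N).f n =
    ιTensorObj K N p q n hpq' ≫ (a • 𝟙 (K ⊗ N)).f n
  rw [ι_whiskerRight]
  have h1 : (a • 𝟙 K).f p = a • 𝟙 (K.X p) := rfl
  have h2 : (a • 𝟙 (K ⊗ N)).f n = a • 𝟙 ((K ⊗ N).X n) := rfl
  rw [h1, h2, MonoidalLinear.smul_whiskerRight, MonoidalCategory.id_whiskerRight,
    Linear.smul_comp, Linear.comp_smul, Category.id_comp]
  erw [Category.comp_id]

end Smul

section Lift

variable {P A : Type u} [CommRing P] [CommRing A] (φ : P →+* A)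

/-- a `P`-linear chain map commuting with multiplication by every `a : A` is `A`-linear -/
theorem exists_lift_of_comm {X X' : DRing.Cx A} (V : (resCx φ).obj X ⟶ (resCx φ).obj X')
    (hV : ∀ a : A, (resCx φ).map (a • 𝟙 X) ≫ V = V ≫ (resCx φ).map (a • 𝟙 X')) :
    ∃ 𝒱 : X ⟶ X', (resCx φ).map 𝒱 = V := by
  have hsm : ∀ (n : ℤ) (a : A) (x : X.X n),
      (show X'.X n from (V.f n).hom (show ((resCx φ).obj X).X n from (a • x : X.X n))) =
      a • (show X'.X n from (V.f n).hom (show ((resCx φ).obj X).X n from x)) := by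
    intro n a x
    have h := congrArg (fun z => (z.f n).hom x) (hV a)
    exact h
  refine ⟨{ f := fun n => ModuleCat.ofHom
              { toFun := fun x => (V.f n).hom x
                map_add' := fun x y => map_add (V.f n).hom x y
                map_smul' := fun a x => hsm n a x }
            comm' := fun i j _ => ?_ }, ?_⟩
  · ext x
    have h := congrArg (fun z => z.hom x) (V.comm i j)
    exact h
  · ext n x
    rfl

end Lift

section Derived

open DerivedCategory

attribute [local instance] HasDerivedCategory.standard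

variable {R : Type u} [CommRing R]

/-- tensoring with a K-flat complex is well defined on morphisms of the derived category -/
theorem Q_map_whiskerRight_eq (N : DRing.Cx R) (hN : IsKFlatR N) {K L : DRing.Cx R} (x y : K ⟶ L)
    (h : Q.map x = Q.map y) : Q.map (x ▷ N) = Q.map (y ▷ N) := by
  let W := HomologicalComplex.quasiIso (ModuleCat.{u} R) (ComplexShape.up ℤ)
  let F : DRing.Cx R ⥤ DerivedCategory (ModuleCat.{u} R) := tensorRight N ⋙ Q
  have hF : W.IsInvertedBy F := by
    intro K₁ K₂ f hf
    haveI : QuasiIso f := (mem_quasiIso_iff f).1 hf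
    haveI : QuasiIso (f ▷ N) := quasiIso_whiskerRight_of_isKFlatR N hN f
    show IsIso (Q.map (f ▷ N))
    infer_instance
  let T := Localization.lift F hF Q
  let e : Q ⋙ T ≅ F := Localization.fac F hF Q
  have hx : F.map x = e.inv.app K ≫ T.map (Q.map x) ≫ e.hom.app L := by
    have := e.hom.naturality x
    show F.map x = e.inv.app K ≫ (Q ⋙ T).map x ≫ e.hom.app L
    rw [this, Iso.inv_hom_id_app_assoc]
  have hy : F.map y = e.inv.app K ≫ T.map (Q.map y) ≫ e.hom.app L := by
    have := e.hom.naturality y
    show F.map y = e.inv.app K ≫ (Q ⋙ T).map y ≫ e.hom.app L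
    rw [this, Iso.inv_hom_id_app_assoc]
  show F.map x = F.map y
  rw [hx, hy, h]

end Derived

end Groth.Agent.Lib.helper23.TBC
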