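import Mathlib
import Groth.Prelude.Def_DRing4
import Groth.Agent.Lib.Helper23.PerfT7
import Groth.Agent.Lib.Helper23.PerfT9
import Groth.Agent.Lib.Helper23.TBC4
import Groth.Agent.Lib.Helper23.TBC5
import Groth.Agent.Lib.Helper23.TBC6
import Groth.Agent.Lib.Helper23.TBC7

/-!
# The key lemma for base change of `RHom_P(A, P)` (helper23)

Pushout square `P → A`, `P → P'`, `A → A'`, `P' → A'`; `F` a K-flat complex of `A`-modules with
`f : F ⟶ Hom_P(A, I)`; `c₀ : F ⟶ Hom_{P'}(A', I')|_A` compatible with `f` through `w : I ⟶ J`,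
`κ : I'|_P ⟶ J`; `N ⟶ P'` a K-flat resolution over `P` with `A ⊗_P N ⟶ A'` a quasi-isomorphism.
If `Hom_P(A, I) ⊗_A (A ⊗_P N) ⟶ Hom_P(A, J)` (`ΘB`) composed with `f` is a quasi-isomorphism, so is the
`A'`-linear transpose `A' ⊗_A F ⟶ Hom_{P'}(A', I')` of `c₀`.
-/

set_option autoImplicit false
universe u
open CategoryTheory CategoryTheory.Limits MonoidalCategory Opposite DerivedCategory
open HomologicalComplex

attribute [local instance] HasDerivedCategory.standard

namespace Groth.Agent.Lib.helper23.TBC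

open Groth.Agent.Lib.helper23.DualD Groth.Agent.Lib.helper23.RAdj
  Groth.Agent.Lib.helper23.PerfT Groth.Agent.Lib.helper13.ExtKFlat
  Groth.Agent.Lib.helper13.KFlat Groth.Agent.Lib.helper13.RKF

section AdjLemmas

variable {C₁ : Type*} [Category C₁] [Abelian C₁] [HasDerivedCategory C₁]
  {C₂ : Type*} [Category C₂] [Abelian C₂] [HasDerivedCategory C₂]
  {Φ : C₁ ⥤ C₂} [Φ.Additive] [PreservesFiniteLimits Φ] [PreservesFiniteColimits Φ]
  {G : C₂ ⥤ C₁} [G.Additive] (adj : Φ ⊣ G)

lemma counitCx_naturality {E J : CochainComplex C₂ ℤ} (κ : E ⟶ J) :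
    (Φ.mapHomologicalComplex (ComplexShape.up ℤ)).map
        ((G.mapHomologicalComplex (ComplexShape.up ℤ)).map κ) ≫ counitCx adj J =
      counitCx adj E ≫ κ := by
  ext n
  exact adj.counit.naturality (κ.f n)

lemma adjChain_comp_map {L : CochainComplex C₁ ℤ} {E J : CochainComplex C₂ ℤ}
    (g : L ⟶ (G.mapHomologicalComplex (ComplexShape.up ℤ)).obj E) (κ : E ⟶ J) :
    adjChain adj (g ≫ (G.mapHomologicalComplex (ComplexShape.up ℤ)).map κ) =
      adjChain adj g ≫ κ := by
  dsimp only [adjChain]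
  rw [Functor.map_comp, Category.assoc, counitCx_naturality, Category.assoc]

lemma adjChain_precomp {L L' : CochainComplex C₁ ℤ} {E : CochainComplex C₂ ℤ} (x : L' ⟶ L)
    (g : L ⟶ (G.mapHomologicalComplex (ComplexShape.up ℤ)).obj E) :
    adjChain adj (x ≫ g) = (Φ.mapHomologicalComplex (ComplexShape.up ℤ)).map x ≫ adjChain adj g := by
  dsimp only [adjChain]
  rw [Functor.map_comp, Category.assoc]

/-- chain maps into `G I` with the same transposes in the derived category agree there -/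
lemma Q_map_eq_of_adjChain {L : CochainComplex C₁ ℤ} {I : CochainComplex C₂ ℤ} [I.IsKInjective]
    [CochainComplex.IsKInjective ((G.mapHomologicalComplex (ComplexShape.up ℤ)).obj I)]
    (g₁ g₂ : L ⟶ (G.mapHomologicalComplex (ComplexShape.up ℤ)).obj I)
    (h : Q.map (adjChain adj g₁) = Q.map (adjChain adj g₂)) : Q.map g₁ = Q.map g₂ := by
  apply (bijective_comp_εD adj I L).1
  show Φ.mapDerivedCategory.map (Q.map g₁) ≫ εD adj I = Φ.mapDerivedCategory.map (Q.map g₂) ≫ εD adj I
  rw [map_Q_map_comp_εD, map_Q_map_comp_εD, h]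

/-- chain maps agreeing in the derived category have transposes agreeing there -/
lemma Q_map_adjChain_eq {L : CochainComplex C₁ ℤ} {I : CochainComplex C₂ ℤ}
    (g₁ g₂ : L ⟶ (G.mapHomologicalComplex (ComplexShape.up ℤ)).obj I)
    (h : Q.map g₁ = Q.map g₂) : Q.map (adjChain adj g₁) = Q.map (adjChain adj g₂) := by
  have h1 := map_Q_map_comp_εD adj g₁
  have h2 := map_Q_map_comp_εD adj g₂
  rw [h] at h1
  exact (cancel_epi _).1 (h1.symm.trans h2)

end AdjLemmas

variable {P P' A A' : Type u} [CommRing P] [CommRing P'] [CommRing A] [CommRing A']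
  [Algebra P P'] [Algebra P A] [Algebra A A'] [Algebra P' A'] [Algebra P A']
  [IsScalarTower P A A'] [IsScalarTower P P' A'] [Algebra.IsPushout P P' A A']

section Key

variable (F : DRing.Cx A) (hF : IsKFlatR F) (I : DRing.Cx P) (I' : DRing.Cx P') (J : DRing.Cx P)
  [J.IsKInjective] (κ : (resCx (algebraMap P P')).obj I' ⟶ J) [QuasiIso κ]
  (hθ : QuasiIso (((Gm (algebraMap P A)).mapHomologicalComplex (ComplexShape.up ℤ)).map κ))
  (N : DRing.Cx P) (hN : IsKFlatR N) (ν : N ⟶ SR (algebraMap P P'))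
  (hν : QuasiIso ((extCx (algebraMap P A)).map ν))
  (w : I ⟶ J) (f : F ⟶ Gc (algebraMap P A) I)
  (c₀ : F ⟶ (resCx (algebraMap A A')).obj (Gc (algebraMap P' A') I'))
  (hc : Q.map (c₀ ≫ (β₁ P P' A A' I').hom ≫
      ((Gm (algebraMap P A)).mapHomologicalComplex (ComplexShape.up ℤ)).map κ) =
    Q.map (f ≫ ((Gm (algebraMap P A)).mapHomologicalComplex (ComplexShape.up ℤ)).map w))
  (α : I ⊗ N ⟶ J)

/-- the `P`-linear map `F|_P ⟶ (Hom_{P'}(A', I'))|_{P'}|_P` -/
noncomputable abbrev gMap : (resCx (algebraMap P A)).obj F ⟶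
    (resCx (algebraMap P P')).obj ((resCx (algebraMap P' A')).obj (Gc (algebraMap P' A') I')) :=
  (resCx (algebraMap P A)).map c₀ ≫ (eqY P P' (Gc (algebraMap P' A') I')).hom

/-- its `P'`-linear transpose -/
noncomputable abbrev eHat : (extCx (algebraMap P P')).obj ((resCx (algebraMap P A)).obj F) ⟶
    (resCx (algebraMap P' A')).obj (Gc (algebraMap P' A') I') :=
  ((adjCx (adjE (algebraMap P P'))).homEquiv _ _).symm (gMap F I' c₀)

/-- the comparison map on `F|_P ⊗_P N` -/
noncomputable abbrev VMap : (resCx (algebraMap P A)).obj F ⊗ N ⟶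
    (resCx (algebraMap P P')).obj ((resCx (algebraMap P' A')).obj (Gc (algebraMap P' A') I')) :=
  ((resCx (algebraMap P A)).obj F ◁ ν) ≫ (Ξ (algebraMap P P') ((resCx (algebraMap P A)).obj F)).hom ≫
    (resCx (algebraMap P P')).map (eHat F I' c₀)

/-- the comparison map on `(F ⊗_A (A ⊗_P N))|_P` -/
noncomputable abbrev VMap' : (resCx (algebraMap P A)).obj (F ⊗ (extCx (algebraMap P A)).obj N) ⟶
    (resCx (algebraMap P A)).obj ((resCx (algebraMap A A')).obj (Gc (algebraMap P' A') I')) :=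
  (resTenExtIso (algebraMap P A) F N).hom ≫ VMap F I' N ν c₀ ≫
    (eqY P P' (Gc (algebraMap P' A') I')).inv

omit [Algebra.IsPushout P P' A A'] in
/-- multiplication by `a : A` on the transpose -/
lemma ext_act_comp_eHat (a : A) :
    (extCx (algebraMap P P')).map ((resCx (algebraMap P A)).map (a • 𝟙 F)) ≫ eHat F I' c₀ =
      eHat F I' c₀ ≫ (resCx (algebraMap P' A')).map
        (algebraMap A A' a • 𝟙 (Gc (algebraMap P' A') I')) := by
  dsimp only [eHat]
  rw [← Adjunction.homEquiv_naturality_left_symm, ← Adjunction.homEquiv_naturality_right_symm]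
  congr 1
  dsimp only [gMap]
  rw [← Category.assoc, ← Functor.map_comp, Linear.smul_comp, Category.id_comp, Category.assoc,
    ← eqY_naturality, ← Category.assoc, ← Functor.map_comp]
  congr 2

/-- `VMap'` is `A`-linear -/
lemma act_comp_VMap' (a : A) :
    (resCx (algebraMap P A)).map (a • 𝟙 (F ⊗ (extCx (algebraMap P A)).obj N)) ≫
        VMap' F I' N ν c₀ =
      VMap' F I' N ν c₀ ≫ (resCx (algebraMap P A)).map
        (a • 𝟙 ((resCx (algebraMap A A')).obj (Gc (algebraMap P' A') I'))) := by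
  have h1 := resTenExtIso_naturality_left (algebraMap P A) (a • 𝟙 F) N
  rw [smul_id_whiskerRight] at h1
  have h2 := whisker_exchange ((resCx (algebraMap P A)).map (a • 𝟙 F)) ν
  have h3 := Ξ_naturality (algebraMap P P') ((resCx (algebraMap P A)).map (a • 𝟙 F))
  have h4 := ext_act_comp_eHat (P := P) F I' c₀ a
  have h5 := eqY_inv_naturality (P := P) (P' := P') (A := A) (A' := A')
    (algebraMap A A' a • 𝟙 (Gc (algebraMap P' A') I') : _ ⟶ _)
  rw [restrictCx_map_smul_id] at h5
  dsimp only [VMap', VMap]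
  simp only [Category.assoc]
  rw [reassoc_of% h1, ← reassoc_of% h2, reassoc_of% h3, ← h5, ← Functor.map_comp_assoc,
    ← Functor.map_comp_assoc, h4]

/-- the transpose of `c₀ ≫ β₁` in terms of `gMap` -/
lemma gMap_comp_counit :
    gMap F I' c₀ ≫ (resCx (algebraMap P P')).map (counitCx (adjm (algebraMap P' A')) I') =
      adjChain (adjm (algebraMap P A)) (c₀ ≫ (β₁ P P' A A' I').hom) := by
  dsimp only [gMap, adjChain]
  rw [Category.assoc, ← β₁_counit, Functor.map_comp, Category.assoc]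

/-- the transpose of `VMap'`-lift followed by `β₁` -/
lemma VMap'_comp_counit :
    VMap' F I' N ν c₀ ≫ (resCx (algebraMap P A)).map (β₁ P P' A A' I').hom ≫
        counitCx (adjm (algebraMap P A)) ((resCx (algebraMap P P')).obj I') =
      (resTenExtIso (algebraMap P A) F N).hom ≫
        (adjChain (adjm (algebraMap P A)) (c₀ ≫ (β₁ P P' A A' I').hom) ▷ N) ≫
          aN (algebraMap P P') ν I' := by
  rw [β₁_counit, ← gMap_comp_counit, ← whiskerLeft_Ξ_transpose,
    Adjunction.homEquiv_naturality_right_symm, Functor.map_comp]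
  dsimp only [VMap', VMap]
  simp only [Category.assoc, Iso.inv_hom_id_assoc]

/-- the transpose of `(f ▷ _) ≫ ΘB` -/
lemma adjChain_whiskerRight_comp_ΘB :
    adjChain (adjm (algebraMap P A)) ((f ▷ (extCx (algebraMap P A)).obj N) ≫ ΘB (algebraMap P A) α) =
      (resTenExtIso (algebraMap P A) F N).hom ≫
        (adjChain (adjm (algebraMap P A)) f ▷ N) ≫ α := by
  rw [adjChain_precomp]
  have h1 : adjChain (adjm (algebraMap P A)) (ΘB (algebraMap P A) α) = hB (algebraMap P A) α :=
    adjChain_adjChain' _ _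
  rw [h1]
  dsimp only [hB, adjChain]
  rw [MonoidalCategory.comp_whiskerRight, Category.assoc]
  exact (reassoc_of% (resTenExtIso_naturality_left (algebraMap P A) f N)) _

include hF hθ hN hν hc in
/-- **the key lemma**: the `A'`-linear transpose of `c₀` is a quasi-isomorphism -/
theorem quasiIso_transpose
    [CochainComplex.IsKInjective (Gc (algebraMap P A) J)]
    (Z : Q.obj (J ⊗ N) ⟶ Q.obj J)
    (hZ : Q.map (κ ▷ N) ≫ Z = Q.map (aN (algebraMap P P') ν I' ≫ κ))
    (hα : Q.map α = Q.map (w ▷ N) ≫ Z)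
    (hW : QuasiIso ((f ▷ (extCx (algebraMap P A)).obj N) ≫ ΘB (algebraMap P A) α)) :
    QuasiIso (((adjCx (adjE (algebraMap A A'))).homEquiv F (Gc (algebraMap P' A') I')).symm c₀) := by
  -- the `A`-linear lift of `VMap'`
  obtain ⟨𝒱₀, h𝒱₀⟩ := exists_lift_of_comm (algebraMap P A) (VMap' F I' N ν c₀)
    (act_comp_VMap' F I' N ν c₀)
  let Gκ := ((Gm (algebraMap P A)).mapHomologicalComplex (ComplexShape.up ℤ)).map κ
  let e := adjChain (adjm (algebraMap P A)) f
  let e' := adjChain (adjm (algebraMap P A)) (c₀ ≫ (β₁ P P' A A' I').hom)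
  -- the transposes
  have hb : adjChain (adjm (algebraMap P A)) (𝒱₀ ≫ (β₁ P P' A A' I').hom ≫ Gκ) =
      (resTenExtIso (algebraMap P A) F N).hom ≫ (e' ▷ N) ≫ aN (algebraMap P P') ν I' ≫ κ := by
    have h1 : 𝒱₀ ≫ (β₁ P P' A A' I').hom ≫ Gκ = (𝒱₀ ≫ (β₁ P P' A A' I').hom) ≫ Gκ :=
      (Category.assoc _ _ _).symm
    rw [h1, adjChain_comp_map, adjChain_precomp]
    have h2 : (resCx (algebraMap P A)).map 𝒱₀ ≫
        adjChain (adjm (algebraMap P A)) (β₁ P P' A A' I').hom =
        (resTenExtIso (algebraMap P A) F N).hom ≫ (e' ▷ N) ≫ aN (algebraMap P P') ν I' := by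
      rw [h𝒱₀]
      exact VMap'_comp_counit F I' N ν c₀
    exact (congrArg (fun z => z ≫ κ) h2).trans (by simp only [Category.assoc])
  have ht := adjChain_whiskerRight_comp_ΘB F I J N f α
  -- compatibility of `e` and `e'`
  have hee : Q.map (e ≫ w) = Q.map (e' ≫ κ) := by
    have h1 : e ≫ w = adjChain (adjm (algebraMap P A))
        (f ≫ ((Gm (algebraMap P A)).mapHomologicalComplex (ComplexShape.up ℤ)).map w) :=
      (adjChain_comp_map _ _ _).symm
    have h2 : e' ≫ κ = adjChain (adjm (algebraMap P A))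
        ((c₀ ≫ (β₁ P P' A A' I').hom) ≫ Gκ) := (adjChain_comp_map _ _ _).symm
    rw [h1, h2]
    apply Q_map_adjChain_eq
    rw [← hc]
    exact congrArg _ (Category.assoc _ _ _).symm
  have hee' : Q.map ((e ≫ w) ▷ N) = Q.map ((e' ≫ κ) ▷ N) := Q_map_whiskerRight_eq N hN _ _ hee
  -- the two maps agree in the derived category
  have hQ : Q.map (adjChain (adjm (algebraMap P A))
        ((f ▷ (extCx (algebraMap P A)).obj N) ≫ ΘB (algebraMap P A) α)) =
      Q.map (adjChain (adjm (algebraMap P A)) (𝒱₀ ≫ (β₁ P P' A A' I').hom ≫ Gκ)) := by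
    rw [ht, hb]
    have hL : Q.map ((resTenExtIso (algebraMap P A) F N).hom ≫ (e ▷ N) ≫ α) =
        Q.map (resTenExtIso (algebraMap P A) F N).hom ≫ Q.map ((e ≫ w) ▷ N) ≫ Z := by
      rw [Q.map_comp (resTenExtIso (algebraMap P A) F N).hom, Q.map_comp (e ▷ N), hα,
        MonoidalCategory.comp_whiskerRight, Q.map_comp (e ▷ N), Category.assoc]
    have hR : Q.map ((resTenExtIso (algebraMap P A) F N).hom ≫ (e' ▷ N) ≫
          aN (algebraMap P P') ν I' ≫ κ) =
        Q.map (resTenExtIso (algebraMap P A) F N).hom ≫ Q.map ((e' ≫ κ) ▷ N) ≫ Z := by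
      rw [Q.map_comp (resTenExtIso (algebraMap P A) F N).hom, Q.map_comp (e' ▷ N), ← hZ,
        MonoidalCategory.comp_whiskerRight, Q.map_comp (e' ▷ N), Category.assoc]
    exact hL.trans ((congrArg (fun z => Q.map (resTenExtIso (algebraMap P A) F N).hom ≫ z ≫ Z)
      hee').trans hR.symm)
  have hQ' := Q_map_eq_of_adjChain (adjm (algebraMap P A)) _ _ hQ
  -- `𝒱₀` is a quasi-isomorphism
  haveI : QuasiIso Gκ := hθ
  haveI : QuasiIso ((β₁ P P' A A' I').hom ≫ Gκ) := inferInstance
  have hb' : QuasiIso (𝒱₀ ≫ (β₁ P P' A A' I').hom ≫ Gκ) := by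
    rw [← isIso_Q_map_iff_quasiIso, ← hQ', isIso_Q_map_iff_quasiIso]
    exact hW
  have h𝒱 : QuasiIso 𝒱₀ := quasiIso_of_comp_right _ ((β₁ P P' A A' I').hom ≫ Gκ)
  have h𝒱' : QuasiIso (VMap' F I' N ν c₀) := by
    rw [← h𝒱₀]
    exact (HomologicalComplex.quasiIso_map_iff_of_preservesHomology _
      (ModuleCat.restrictScalars.{u} (algebraMap P A))).2 h𝒱
  have hV : QuasiIso (VMap F I' N ν c₀) := by
    have h1 : QuasiIso (VMap F I' N ν c₀ ≫
        (eqY (A := A) P P' (Gc (algebraMap P' A') I')).inv) :=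
      quasiIso_of_comp_left (resTenExtIso (algebraMap P A) F N).hom _
    exact quasiIso_of_comp_right _ (eqY (A := A) P P' (Gc (algebraMap P' A') I')).inv
  -- `F|_P ◁ ν` is a quasi-isomorphism
  have hFν : QuasiIso ((resCx (algebraMap P A)).obj F ◁ ν) := by
    haveI : QuasiIso ((extCx (algebraMap P A)).map ν) := hν
    have h1 : QuasiIso (F ◁ (extCx (algebraMap P A)).map ν) :=
      quasiIso_whiskerLeft_kflat F hF _
    have h2 : QuasiIso ((resCx (algebraMap P A)).map (F ◁ (extCx (algebraMap P A)).map ν)) :=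
      (HomologicalComplex.quasiIso_map_iff_of_preservesHomology _
        (ModuleCat.restrictScalars.{u} (algebraMap P A))).2 h1
    have h3 := resTenExtIso_naturality_right (algebraMap P A) F ν
    have h4 : QuasiIso ((resTenExtIso (algebraMap P A) F N).hom ≫
        ((resCx (algebraMap P A)).obj F ◁ ν)) := by
      rw [← h3]
      infer_instance
    exact quasiIso_of_comp_left (resTenExtIso (algebraMap P A) F N).hom _
  -- `eHat` is a quasi-isomorphism
  have hE : QuasiIso (eHat (P := P) F I' c₀) := by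
    have h1 : QuasiIso ((Ξ (algebraMap P P') ((resCx (algebraMap P A)).obj F)).hom ≫
        (resCx (algebraMap P P')).map (eHat F I' c₀)) :=
      quasiIso_of_comp_left ((resCx (algebraMap P A)).obj F ◁ ν) _
    have h2 : QuasiIso ((resCx (algebraMap P P')).map (eHat F I' c₀)) :=
      quasiIso_of_comp_left (Ξ (algebraMap P P') ((resCx (algebraMap P A)).obj F)).hom _
    exact (HomologicalComplex.quasiIso_map_iff_of_preservesHomology _
      (ModuleCat.restrictScalars.{u} (algebraMap P P'))).1 h2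
  -- conclusion
  have hΛ := Λ_comp_transpose (P := P) (P' := P') c₀
  have h5 : QuasiIso ((resCx (algebraMap P' A')).map
      (((adjCx (adjE (algebraMap A A'))).homEquiv F (Gc (algebraMap P' A') I')).symm c₀)) := by
    have h6 : QuasiIso ((Λ P P' A' F).hom ≫ (resCx (algebraMap P' A')).map
        (((adjCx (adjE (algebraMap A A'))).homEquiv F (Gc (algebraMap P' A') I')).symm c₀)) := by
      rw [hΛ]
      exact hE
    exact quasiIso_of_comp_left (Λ P P' A' F).hom _
  exact (HomologicalComplex.quasiIso_map_iff_of_preservesHomology _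
    (ModuleCat.restrictScalars.{u} (algebraMap P' A'))).1 h5

end Key

end Groth.Agent.Lib.helper23.TBC
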