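import Mathlib
import Groth.Prelude.Def_DRing4
import Groth.Agent.Lib.Helper23.TBC8
import Groth.Agent.Lib.Helper23.RelDual1
import Groth.Agent.Lib.Helper23.TA5
import Groth.Agent.Lib.Helper13.KFlat9
import Groth.Agent.Lib.Helper14.KProjLift

/-!
# Existence of the comparison data for base change of `RHom_P(A, P)` (helper23)

* `ε₀`: `P' ⊗_P 𝟙 ≅ 𝟙` for the unit complexes;
* `exists_alpha`: the map `α : I ⊗ N ⟶ J` (a quasi-isomorphism) lifting the action of `N` on `I'`;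
* `exists_F`: a bounded above complex of projectives `F` with a quasi-isomorphism `F ⟶ Hom_P(A, I)`;
* `exists_core`: the `A'`-linear quasi-isomorphism `A' ⊗_A F ⟶ Hom_{P'}(A', I')`.
-/

set_option autoImplicit false
universe u
open CategoryTheory CategoryTheory.Limits MonoidalCategory Opposite DerivedCategory
open HomologicalComplex

attribute [local instance] HasDerivedCategory.standard

namespace Groth.Agent.Lib.helper23.TBC

open Groth.Agent.Lib.helper23.DualD Groth.Agent.Lib.helper23.RAdj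
  Groth.Agent.Lib.helper23.PerfT Groth.Agent.Lib.helper13.ExtKFlat
  Groth.Agent.Lib.helper13.KFlat Groth.Agent.Lib.helper13.RKF

section Unit

variable {P P' : Type u} [CommRing P] [CommRing P'] [Algebra P P']

variable (P P') in
/-- `P' ⊗_P 𝟙 ≅ 𝟙` -/
noncomputable def ε₀ : (extCx (algebraMap P P')).obj (𝟙_ (DRing.Cx P)) ≅ 𝟙_ (DRing.Cx P') :=
  (HomologicalComplex.singleMapHomologicalComplex
      (ModuleCat.extendScalars.{u, u, u} (algebraMap P P')) (ComplexShape.up ℤ) 0).app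
      (ModuleCat.of P P) ≪≫
    (HomologicalComplex.single (ModuleCat.{u} P') (ComplexShape.up ℤ) 0).mapIso
      ((ExtSc.extendObjEquiv (B := P') (ModuleCat.of P P)).trans
        (TensorProduct.AlgebraTensorModule.rid P P' P')).toModuleIso

end Unit

section Alpha

variable {P P' : Type u} [CommRing P] [CommRing P'] [Algebra P P']
  (I : DRing.Cx P) (u : 𝟙_ (DRing.Cx P) ⟶ I) [QuasiIso u]
  (I' : DRing.Cx P') (u' : 𝟙_ (DRing.Cx P') ⟶ I') [QuasiIso u']
  (N : DRing.Cx P) (hN : IsKFlatR N) (ν : N ⟶ SR (algebraMap P P')) [QuasiIso ν]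
  (J : DRing.Cx P) [J.IsKInjective] (κ : (resCx (algebraMap P P')).obj I' ⟶ J) [QuasiIso κ]

include hN u u' in
/-- the map `α : I ⊗ N ⟶ J` lifting the action of `N` on `I'`; it is a quasi-isomorphism -/
theorem exists_alpha : ∃ (w : I ⟶ J) (α : I ⊗ N ⟶ J) (Z : Q.obj (J ⊗ N) ⟶ Q.obj J),
    Q.map (κ ▷ N) ≫ Z = Q.map (aN (algebraMap P P') ν I' ≫ κ) ∧
    Q.map α = Q.map (w ▷ N) ≫ Z ∧ QuasiIso α := by
  haveI : QuasiIso (κ ▷ N) := quasiIso_whiskerRight_of_isKFlatR N hN κ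
  haveI : QuasiIso (u ▷ N) := quasiIso_whiskerRight_of_isKFlatR N hN u
  let υ : 𝟙_ (DRing.Cx P) ⟶ (resCx (algebraMap P P')).obj I' :=
    (adjCx (adjE (algebraMap P P'))).homEquiv _ _ ((ε₀ P P').hom ≫ u')
  let Z : Q.obj (J ⊗ N) ⟶ Q.obj J :=
    inv (Q.map (κ ▷ N)) ≫ Q.map (aN (algebraMap P P') ν I' ≫ κ)
  have hZ : Q.map (κ ▷ N) ≫ Z = Q.map (aN (algebraMap P P') ν I' ≫ κ) :=
    IsIso.hom_inv_id_assoc _ _
  obtain ⟨w, hw⟩ := exists_Q_map_eq (K := I) (L := J) (inv (Q.map u) ≫ Q.map (υ ≫ κ))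
  obtain ⟨α, hα⟩ := exists_Q_map_eq (K := I ⊗ N) (L := J) (Q.map (w ▷ N) ≫ Z)
  refine ⟨w, α, Z, hZ, hα, ?_⟩
  have hw' : Q.map (u ≫ w) = Q.map (υ ≫ κ) := by
    rw [Functor.map_comp, hw, IsIso.hom_inv_id_assoc]
  have hw'' : Q.map ((u ≫ w) ▷ N) = Q.map ((υ ≫ κ) ▷ N) := Q_map_whiskerRight_eq N hN _ _ hw'
  -- the composite `Q(u ▷ N) ≫ Q(α)` is an isomorphism
  have h1 : (υ ▷ N) ≫ aN (algebraMap P P') ν I' =
      (𝟙_ (DRing.Cx P) ◁ ν) ≫ (Ξ (algebraMap P P') (𝟙_ (DRing.Cx P))).hom ≫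
        (resCx (algebraMap P P')).map ((ε₀ P P').hom ≫ u') := by
    rw [← whiskerLeft_Ξ_transpose]
    dsimp only [υ]
    rw [Equiv.symm_apply_apply]
  have h2 : QuasiIso ((υ ▷ N) ≫ aN (algebraMap P P') ν I') := by
    rw [h1]
    haveI : QuasiIso (𝟙_ (DRing.Cx P) ◁ ν) := by
      have h3 := leftUnitor_naturality ν
      have h4 : QuasiIso ((𝟙_ (DRing.Cx P) ◁ ν) ≫ (λ_ (SR (algebraMap P P'))).hom) := by
        rw [h3]
        infer_instance
      exact quasiIso_of_comp_right _ (λ_ (SR (algebraMap P P'))).hom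
    haveI : QuasiIso ((resCx (algebraMap P P')).map ((ε₀ P P').hom ≫ u')) :=
      (HomologicalComplex.quasiIso_map_iff_of_preservesHomology _
        (ModuleCat.restrictScalars.{u} (algebraMap P P'))).2 inferInstance
    infer_instance
  have h5 : Q.map (u ▷ N) ≫ Q.map α = Q.map (((υ ▷ N) ≫ aN (algebraMap P P') ν I') ≫ κ) := by
    rw [hα, ← Category.assoc, ← Functor.map_comp, ← MonoidalCategory.comp_whiskerRight, hw'',
      MonoidalCategory.comp_whiskerRight, Functor.map_comp, Category.assoc, hZ, ← Functor.map_comp,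
      Category.assoc]
  haveI : QuasiIso (((υ ▷ N) ≫ aN (algebraMap P P') ν I') ≫ κ) := by
    haveI := h2
    infer_instance
  have h6 : IsIso (Q.map (u ▷ N) ≫ Q.map α) := by
    rw [h5]
    infer_instance
  have h7 : IsIso (Q.map α) := IsIso.of_isIso_comp_left (Q.map (u ▷ N)) (Q.map α)
  exact (isIso_Q_map_iff_quasiIso (φ := α)).1 h7

end Alpha

section ExF

variable {P A : Type u} [CommRing P] [CommRing A] (ψ : P →+* A) [IsNoetherianRing P]
  (d : ℕ) [Module.Finite P (BA ψ)] [HasProjectiveDimensionLT (BA ψ) (d + 1)]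
  (I : DRing.Cx P) [I.IsKInjective] [∀ j, Injective (I.X j)] (u : 𝟙_ (DRing.Cx P) ⟶ I)
  [QuasiIso u]

include u in
/-- a bounded above complex of projectives computing `Hom_P(A, I)` -/
theorem exists_F : ∃ F : DRing.Cx A, (∀ i, Projective (F.X i)) ∧ DRing.VanishesAbove F d ∧
    DRing.TermwiseFlat F ∧ ∃ f : F ⟶ Gc ψ I, QuasiIso f := by
  let eu : Q.obj (𝟙_ (DRing.Cx P)) ≅ Q.obj I := asIso (Q.map u)
  have hIamp : DRing.HasTorAmplitudeIn P 0 0 (Q.obj I) :=
    TA.hasTorAmplitudeIn_of_iso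
      ((DerivedCategory.singleFunctorIsoCompQ (ModuleCat.{u} P) 0).app (ModuleCat.of P P) ≪≫ eu)
      (TA.hasTorAmplitudeIn_single_flat (ModuleCat.of P P) (inferInstance : Module.Flat P P) 0)
  have h1 : DRing.HasTorAmplitudeIn P 0 d (Q.obj ((homCx I).obj (op (BA ψ)))) :=
    RelDual.hasTorAmplitudeIn_homCx I hIamp d (BA ψ)
  have hK : ∀ i : ℤ, (d : ℤ) < i →
      IsZero ((DerivedCategory.homologyFunctor (ModuleCat.{u} A) i).obj (Q.obj (Gc ψ I))) := by
    intro i hi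
    have h2 : IsZero ((DerivedCategory.homologyFunctor (ModuleCat.{u} P) i).obj
        (Q.obj ((homCx I).obj (op (BA ψ))))) :=
      TA.isZero_homology_of_hasTorAmplitudeIn h1 i (Or.inr hi)
    have h3 : IsZero (((homCx I).obj (op (BA ψ))).homology i) :=
      h2.of_iso ((DerivedCategory.homologyFunctorFactors (ModuleCat.{u} P) i).app _).symm
    have h4 : (Φc ψ (Gc ψ I)).ExactAt i := by
      rw [HomologicalComplex.exactAt_iff_isZero_homology]
      exact h3.of_iso ((HomologicalComplex.homologyFunctor _ _ i).mapIso (θ ψ I))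
    have h5 : (Gc ψ I).ExactAt i := by
      rw [HomologicalComplex.exactAt_iff] at h4 ⊢
      exact (ShortComplex.exact_map_iff_of_faithful _ (ModuleCat.restrictScalars.{u} ψ)).1 h4
    rw [HomologicalComplex.exactAt_iff_isZero_homology] at h5
    exact h5.of_iso ((DerivedCategory.homologyFunctorFactors (ModuleCat.{u} A) i).app _)
  obtain ⟨F, hP, hFb, hFfl, ⟨e⟩⟩ := TA.exists_projective_rep (b := d) (K := Q.obj (Gc ψ I)) hK
  haveI : CochainComplex.IsKInjective (Gc ψ I) := isKInjective_map_of_adj (adjm ψ) I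
  obtain ⟨f, hf⟩ := exists_Q_map_eq (K := F) (L := Gc ψ I) e.hom
  refine ⟨F, hP, hFb, hFfl, f, ?_⟩
  rw [← isIso_Q_map_iff_quasiIso, hf]
  infer_instance

end ExF

section Core

variable {P P' A A' : Type u} [CommRing P] [CommRing P'] [CommRing A] [CommRing A']
  [Algebra P P'] [Algebra P A] [Algebra A A'] [Algebra P' A'] [Algebra P A']
  [IsScalarTower P A A'] [IsScalarTower P P' A'] [Algebra.IsPushout P P' A A']

/-- **the base change map for `RHom_P(A, P)`**: there are a K-flat complex `F` of `A`-modules, a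
quasi-isomorphism `F ⟶ Hom_P(A, I)` and an `A'`-linear quasi-isomorphism
`A' ⊗_A F ⟶ Hom_{P'}(A', I')`. -/
theorem exists_core [IsNoetherianRing P] (d : ℕ) [Module.Finite P (BA (algebraMap P A))]
    [HasProjectiveDimensionLT (BA (algebraMap P A)) (d + 1)]
    (I : DRing.Cx P) [I.IsKInjective] [∀ j, Injective (I.X j)] (u : 𝟙_ (DRing.Cx P) ⟶ I)
    [QuasiIso u]
    (I' : DRing.Cx P') (u' : 𝟙_ (DRing.Cx P') ⟶ I') [QuasiIso u']
    (hθ : ∀ (J : DRing.Cx P) (_ : ∀ j, Injective (J.X j))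
      (κ : (resCx (algebraMap P P')).obj I' ⟶ J) (_ : QuasiIso κ),
      QuasiIso (((Gm (algebraMap P A)).mapHomologicalComplex (ComplexShape.up ℤ)).map κ))
    (N : DRing.Cx P) (hN : IsKFlatR N) (hNfl : DRing.TermwiseFlat N)
    (ν : N ⟶ SR (algebraMap P P')) [QuasiIso ν]
    (hν : QuasiIso ((extCx (algebraMap P A)).map ν)) :
    ∃ (F : DRing.Cx A) (_ : IsKFlatR F) (f : F ⟶ Gc (algebraMap P A) I) (_ : QuasiIso f)
      (c : (extCx (algebraMap A A')).obj F ⟶ Gc (algebraMap P' A') I'), QuasiIso c := by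
  obtain ⟨F, hFp, hFb, hFfl, f, hf⟩ := exists_F (algebraMap P A) d I u
  have hFk : IsKFlatR F := isKFlatR_of_bounded_above F d hFb hFfl
  haveI : F.IsStrictlyLE d := (CochainComplex.isStrictlyLE_iff F d).2 (fun i hi => hFb i hi)
  haveI : ∀ n, Projective (F.X n) := hFp
  haveI : F.IsKProjective := CochainComplex.isKProjective_of_projective F d
  obtain ⟨J, κ, hJ, hκ, -, hJinj⟩ :=
    Groth.Agent.Lib.Helper25.KInjMain.exists_kInjective_resolution
      ((resCx (algebraMap P P')).obj I')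
  haveI := hJ
  haveI := hκ
  haveI : ∀ j, Injective (J.X j) := hJinj
  obtain ⟨w, α, Z, hZ, hα, hαq⟩ := exists_alpha I u I' u' N hN ν J κ
  haveI := hαq
  have hθ' := hθ J hJinj κ hκ
  let Gκ := ((Gm (algebraMap P A)).mapHomologicalComplex (ComplexShape.up ℤ)).map κ
  let Gw := ((Gm (algebraMap P A)).mapHomologicalComplex (ComplexShape.up ℤ)).map w
  haveI : QuasiIso Gκ := hθ'
  haveI : QuasiIso ((β₁ P P' A A' I').hom ≫ Gκ) := inferInstance
  obtain ⟨c₀, hc₀⟩ := Groth.Agent.Lib.Helper14.KProjLift.Q_map_surjective_of_isKProjective F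
    ((resCx (algebraMap A A')).obj (Gc (algebraMap P' A') I'))
    (Q.map (f ≫ Gw) ≫ inv (Q.map ((β₁ P P' A A' I').hom ≫ Gκ)))
  have hc : Q.map (c₀ ≫ (β₁ P P' A A' I').hom ≫ Gκ) = Q.map (f ≫ Gw) := by
    rw [Functor.map_comp, hc₀, Category.assoc, IsIso.inv_hom_id, Category.comp_id]
  have hΘ : QuasiIso (ΘB (algebraMap P A) α) := quasiIso_ΘB (algebraMap P A) α hNfl d
  have hfN : QuasiIso (f ▷ (extCx (algebraMap P A)).obj N) :=
    quasiIso_whiskerRight_of_isKFlatR _ (isKFlatR_extCx _ _ hN) f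
  haveI : CochainComplex.IsKInjective (Gc (algebraMap P A) J) :=
    isKInjective_map_of_adj (adjm (algebraMap P A)) J
  exact ⟨F, hFk, f, hf, _, quasiIso_transpose F hFk I I' J κ hθ' N hN ν hν w f c₀ hc α Z hZ hα
    inferInstance⟩

end Core

end Groth.Agent.Lib.helper23.TBC
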