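import Mathlib
import Groth.Prelude.Def_DRing4
import Groth.Agent.Lib.Helper23.TBC9
import Groth.Agent.Lib.Helper23.TBC2

/-!
# Tor-independence data for a flat algebra (helper23)

Pushout square `R → R'`, `R → P`, `P' = R' ⊗_R P` with `P` flat over `R`, and a `P`-algebra `A` flat over `R`:
* `extCxCompIso_naturality`;
* `σ : P ⊗_R R' ≅ P'` as complexes in degree `0`;
* `exists_torIndep_data`: a K-flat, termwise flat resolution `ν : N ⟶ P'` over `P` such that `A ⊗_P ν` is a
  quasi-isomorphism;
* `rflat_BA`: `A` is flat over `R` in the sense of `TBC2`.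
-/

set_option autoImplicit false
universe u
open CategoryTheory CategoryTheory.Limits MonoidalCategory Opposite DerivedCategory
open HomologicalComplex

attribute [local instance] HasDerivedCategory.standard

namespace Groth.Agent.Lib.helper23.TBC

open Groth.Agent.Lib.helper23.DualD Groth.Agent.Lib.helper23.RAdj
  Groth.Agent.Lib.helper23.PerfT Groth.Agent.Lib.helper13.ExtKFlat
  Groth.Agent.Lib.helper13.KFlat Groth.Agent.Lib.helper13.RKF Groth.Agent.Lib.helper23.FBCR

section Comp

variable {A B C : Type u} [CommRing A] [CommRing B] [CommRing C]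

lemma extCxCompIso_naturality (f : A →+* B) (g : B →+* C) (h : A →+* C) (hh : h = g.comp f)
    {K K' : DRing.Cx A} (k : K ⟶ K') :
    (extCx h).map k ≫ (extCxCompIso f g h hh K').hom =
      (extCxCompIso f g h hh K).hom ≫ (extCx g).map ((extCx f).map k) := by
  ext n : 1
  exact (FBC.extendScalarsCongr hh ≪≫ ModuleCat.extendScalarsComp f g).hom.naturality (k.f n)

end Comp

section FlatExt

variable {A B : Type u} [CommRing A] [CommRing B] [Algebra A B] [Module.Flat A B]

/-- extension of scalars along a flat algebra preserves quasi-isomorphisms -/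
lemma quasiIso_extCx_map_of_flat {K K' : DRing.Cx A} (k : K ⟶ K') [QuasiIso k] :
    QuasiIso ((extCx (algebraMap A B)).map k) := by
  haveI := FlatBC.preservesFiniteLimits_extendScalars_algebraMap (A := A) (B := B)
  show QuasiIso (((ModuleCat.extendScalars.{u, u, u} (algebraMap A B)).mapHomologicalComplex
    (ComplexShape.up ℤ)).map k)
  infer_instance

end FlatExt

variable {R R' P P' : Type u} [CommRing R] [CommRing R'] [CommRing P] [CommRing P']
  [Algebra R R'] [Algebra R P] [Algebra R' P'] [Algebra P P'] [Algebra R P']
  [IsScalarTower R P P'] [IsScalarTower R R' P']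

section Sigma

variable [Algebra.IsPushout R P R' P']

variable (R R' P P') in
/-- `P ⊗_R R' ≅ P'` as `P`-modules -/
noncomputable def σM : (ModuleCat.extendScalars.{u, u, u} (algebraMap R P)).obj (AR (algebraMap R R')) ≅
    AR (algebraMap P P') :=
  (γ₀ R P R' P').app (ModuleCat.of R' R') ≪≫
    (ModuleCat.restrictScalars.{u} (algebraMap P P')).mapIso
      ((ExtSc.extendObjEquiv (B := P') (ModuleCat.of R' R')).trans
        (TensorProduct.AlgebraTensorModule.rid R' P' P')).toModuleIso

variable (R R' P P') in
/-- `P ⊗_R R' ≅ P'` as complexes in degree `0` -/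
noncomputable def σ : (extCx (algebraMap R P)).obj (SR (algebraMap R R')) ≅ SR (algebraMap P P') :=
  (HomologicalComplex.singleMapHomologicalComplex
      (ModuleCat.extendScalars.{u, u, u} (algebraMap R P)) (ComplexShape.up ℤ) 0).app
      (AR (algebraMap R R')) ≪≫
    (HomologicalComplex.single (ModuleCat.{u} P) (ComplexShape.up ℤ) 0).mapIso (σM R R' P P')

include R R' in
/-- **Tor-independence data**: a K-flat resolution of `P'` over `P` which stays a resolution after `A ⊗_P -`,
for `A` flat over `R`. -/
theorem exists_torIndep_data [Module.Flat R P] {A : Type u} [CommRing A] [Algebra R A] [Algebra P A]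
    [IsScalarTower R P A] [Module.Flat R A] :
    ∃ (N : DRing.Cx P) (ν : N ⟶ SR (algebraMap P P')), IsKFlatR N ∧ DRing.TermwiseFlat N ∧
      QuasiIso ν ∧ QuasiIso ((extCx (algebraMap P A)).map ν) := by
  obtain ⟨N₀, ν₀, hN₀, hN₀fl, hν₀, -⟩ :=
    Groth.Agent.Lib.helper13.KRes.exists_isKFlatR_resolution (SR (algebraMap R R'))
  haveI := hν₀
  haveI h1 : QuasiIso ((extCx (algebraMap R P)).map ν₀) := quasiIso_extCx_map_of_flat ν₀
  refine ⟨(extCx (algebraMap R P)).obj N₀, (extCx (algebraMap R P)).map ν₀ ≫ (σ R R' P P').hom,
    isKFlatR_extCx _ _ hN₀, termwiseFlat_extCx N₀ hN₀fl, inferInstance, ?_⟩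
  rw [Functor.map_comp]
  have hcomp : algebraMap R A = (algebraMap P A).comp (algebraMap R P) := by
    ext r
    exact IsScalarTower.algebraMap_apply R P A r
  have h2 := extCxCompIso_naturality (algebraMap R P) (algebraMap P A) (algebraMap R A) hcomp ν₀
  haveI h3 : QuasiIso ((extCx (algebraMap R A)).map ν₀) := quasiIso_extCx_map_of_flat ν₀
  have h4 : QuasiIso ((extCxCompIso (algebraMap R P) (algebraMap P A) (algebraMap R A) hcomp N₀).hom ≫
      (extCx (algebraMap P A)).map ((extCx (algebraMap R P)).map ν₀)) := by
    rw [← h2]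
    infer_instance
  haveI h5 : QuasiIso ((extCx (algebraMap P A)).map ((extCx (algebraMap R P)).map ν₀)) :=
    quasiIso_of_comp_left
      (extCxCompIso (algebraMap R P) (algebraMap P A) (algebraMap R A) hcomp N₀).hom _
  haveI : IsIso ((extCx (algebraMap P A)).map (σ R R' P P').hom) := inferInstance
  infer_instance

end Sigma

section RFlat

variable (R) in
/-- `A` is flat over `R` in the sense of `RFlat` -/
lemma rflat_BA {A : Type u} [CommRing A] [Algebra R A] [Algebra P A] [IsScalarTower R P A]
    [Module.Flat R A] : RFlat R (BA (algebraMap P A)) := by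
  letI := modP R (BA (algebraMap P A))
  show Module.Flat R (BA (algebraMap P A))
  let e : A ≃ₗ[R] (BA (algebraMap P A)) :=
    { toFun := fun a => a
      invFun := fun a => a
      map_add' := fun _ _ => rfl
      map_smul' := fun r a => by
        show r • a = algebraMap P A (algebraMap R P r) * a
        rw [Algebra.smul_def, IsScalarTower.algebraMap_apply R P A]
      left_inv := fun _ => rfl
      right_inv := fun _ => rfl }
  exact Module.Flat.of_linearEquiv e.symm

end RFlat

end Groth.Agent.Lib.helper23.TBC
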