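import Mathlib
import Groth.Prelude.Def_DRing4
import Groth.Prelude.Def_DualSh
import Groth.Prelude.Def_DTen6
import Groth.Agent.Lib.Helper23.TBC10
import Groth.Agent.Lib.Helper23.PerfT10

/-!
# Base change of `RHom_P(A, P)` in a pushout of polynomial-like algebras (helper23)

* `baseChange_core`: `R → R'`, `P` flat over `R`, `P' = R' ⊗_R P`, `A` a finite `P`-algebra of finite projective
  dimension over `P` and flat over `R`, `A' = P' ⊗_P A`: there are a K-flat `F`, a quasi-isomorphism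
  `F ⟶ Hom_P(A, I)` and an `A'`-linear quasi-isomorphism `A' ⊗_A F ⟶ Hom_{P'}(A', I')`;
* `shriekVia_iso_of_kflat`: `φ^!(K₀) ≅ (Hom_P(A, I) ⊗_A (A ⊗_R K₀))[n]` for `K₀` K-flat with flat terms.
-/

set_option autoImplicit false
universe u
open CategoryTheory CategoryTheory.Limits MonoidalCategory Opposite DerivedCategory
open HomologicalComplex

attribute [local instance] HasDerivedCategory.standard

namespace Groth.Agent.Lib.helper23.TBC

open Groth.Agent.Lib.helper23.DualD Groth.Agent.Lib.helper23.RAdj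
  Groth.Agent.Lib.helper23.PerfT Groth.Agent.Lib.helper13.ExtKFlat
  Groth.Agent.Lib.helper13.KFlat Groth.Agent.Lib.helper13.RKF Groth.Agent.Lib.helper23.FBCR

section Core

variable {R R' P P' A A' : Type u} [CommRing R] [CommRing R'] [CommRing P] [CommRing P']
  [CommRing A] [CommRing A']
  [Algebra R R'] [Algebra R P] [Algebra R' P'] [Algebra P P'] [Algebra R P']
  [IsScalarTower R P P'] [IsScalarTower R R' P'] [Algebra.IsPushout R P R' P']
  [Algebra P A] [Algebra A A'] [Algebra P' A'] [Algebra P A']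
  [IsScalarTower P A A'] [IsScalarTower P P' A'] [Algebra.IsPushout P P' A A']
  [Algebra R A] [IsScalarTower R P A] [Module.Flat R P] [Module.Flat R A]

include R R' in
theorem baseChange_core [IsNoetherianRing P] (d : ℕ) [Module.Finite P (BA (algebraMap P A))]
    [HasProjectiveDimensionLT (BA (algebraMap P A)) (d + 1)]
    (I : DRing.Cx P) [I.IsKInjective] [∀ j, Injective (I.X j)] (u : 𝟙_ (DRing.Cx P) ⟶ I)
    [QuasiIso u]
    (I' : DRing.Cx P') [∀ j, Injective (I'.X j)] (u' : 𝟙_ (DRing.Cx P') ⟶ I') [QuasiIso u'] :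
    ∃ (F : DRing.Cx A) (_ : IsKFlatR F) (f : F ⟶ Gc (algebraMap P A) I) (_ : QuasiIso f)
      (c : (extCx (algebraMap A A')).obj F ⟶ Gc (algebraMap P' A') I'), QuasiIso c := by
  obtain ⟨N, ν, hN, hNfl, hν, hν'⟩ := exists_torIndep_data (R := R) (R' := R') (P := P) (P' := P')
    (A := A)
  haveI := hν
  haveI : Algebra.IsPushout R R' P P' := Algebra.IsPushout.symm inferInstance
  refine exists_core d I u I' u' (fun J hJ κ hκ => ?_) N hN hNfl ν hν'
  haveI := hJ
  haveI := hκ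
  exact quasiIso_Gc_map_res R R' P' (algebraMap P A) d (rflat_BA R) I' J κ

end Core

section LemmaA

theorem shriekVia_iso_of_kflat (R A : Type u) [CommRing R] [CommRing A]
    [IsNoetherianRing R] [Algebra R A] [Module.Flat R A] (n : ℕ)
    (ψ : MvPolynomial (Fin n) R →ₐ[R] A) (hψ : Function.Surjective ψ)
    [DRing.HasLBaseChange (algebraMap R (MvPolynomial (Fin n) R))]
    (Rψ : Dual.D (MvPolynomial (Fin n) R) ⥤ Dual.D A) (adj : DRing.restrictD ψ.toRingHom ⊣ Rψ)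
    (I : DRing.Cx (MvPolynomial (Fin n) R)) [I.IsKInjective] [∀ j, Injective (I.X j)]
    (u : 𝟙_ (DRing.Cx (MvPolynomial (Fin n) R)) ⟶ I) [QuasiIso u]
    (K₀ : DRing.Cx R) (hK₀ : IsKFlatR K₀) (hK₀fl : DRing.TermwiseFlat K₀) :
    Nonempty (Dual2.shriekVia n Rψ (Q.obj K₀) ≅
      (Q.obj (Gc ψ.toRingHom I ⊗ (extCx ψ.toRingHom).obj
        ((extCx (algebraMap R (MvPolynomial (Fin n) R))).obj K₀)))⟦(n : ℤ)⟧) := by
  classical
  let P := MvPolynomial (Fin n) R
  let ψ' : P →+* A := ψ.toRingHom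
  obtain ⟨hfin, d, hpd⟩ := exists_hasProjectiveDimensionLT_of_flat R A n ψ hψ
  haveI := hfin
  haveI := hpd
  let NP : DRing.Cx P := (extCx (algebraMap R P)).obj K₀
  have hNPk : IsKFlatR NP := isKFlatR_extCx _ _ hK₀
  have hNPfl : DRing.TermwiseFlat NP := termwiseFlat_extCx K₀ hK₀fl
  obtain ⟨J, α, hJ, hα, -, hJinj⟩ :=
    Groth.Agent.Lib.Helper25.KInjMain.exists_kInjective_resolution (I ⊗ NP)
  haveI := hJ
  haveI := hα
  haveI : ∀ j, Injective (J.X j) := hJinj
  have hΘ : QuasiIso (ΘB ψ' α) := quasiIso_ΘB ψ' α hNPfl d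
  haveI : CochainComplex.IsKInjective (Gc ψ' I) := isKInjective_map_of_adj (adjm ψ') I
  haveI : CochainComplex.IsKInjective (Gc ψ' J) := isKInjective_map_of_adj (adjm ψ') J
  haveI : QuasiIso (u ▷ NP) := quasiIso_whiskerRight_of_isKFlatR NP hNPk u
  haveI : QuasiIso ((λ_ NP).inv ≫ u ▷ NP) := inferInstance
  let e1 : (DRing.LBaseChange (algebraMap R P)).obj (Q.obj K₀) ≅ Q.obj J :=
    lbcQIso K₀ ≪≫ asIso (Q.map ((λ_ NP).inv ≫ u ▷ NP)) ≪≫ asIso (Q.map α)
  let e2 : Rψ.obj ((DRing.LBaseChange (algebraMap R P)).obj (Q.obj K₀)) ≅ Q.obj (Gc ψ' J) :=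
    Rψ.mapIso e1 ≪≫ (compIso (adjm ψ') Rψ adj J).symm
  let NA : DRing.Cx A := (extCx ψ').obj NP
  let e3 : Q.obj (Gc ψ' J) ≅ Q.obj (Gc ψ' I ⊗ NA) := (asIso (Q.map (ΘB ψ' α))).symm
  exact ⟨(shiftFunctor (Dual.D A) (n : ℤ)).mapIso (e2 ≪≫ e3)⟩

end LemmaA

end Groth.Agent.Lib.helper23.TBC
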