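import Mathlib
import Groth.Prelude.Def_Wider
import Groth.Prelude.Def_DDual2
import Groth.Prelude.Def_DualSh
import Groth.Prelude.Def_DTen6
import Groth.Agent.Lib.Helper23.TBC11
import Groth.Agent.Lib.Helper23.FBCR7
import Groth.Agent.Lib.Helper23.LTenKFlat
import Groth.Agent.Lib.Helper23.RHomEx
import Groth.Agent.Lib.Helper13.DTenC
import Groth.Agent.Lib.Helper13.RKF2

/-!
# Base change for the algebraic upper shriek of a flat ring map of finite type (helper23)

`shriekVia_baseChange_of_flat`: for `R → A` flat of finite type between Noetherian rings, `R → R'` any map of Noetherian rings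
with `A' = R' ⊗_R A` Noetherian, and any `K ∈ D(R)`: `(R → A)^!(K) ⊗^L_A A' ≅ (R' → A')^!(K ⊗^L_R R')`.
-/

set_option autoImplicit false
universe u
open CategoryTheory CategoryTheory.Limits DerivedCategory Pretriangulated TensorProduct MonoidalCategory

attribute [local instance] HasDerivedCategory.standard

namespace Groth.Agent.Lib.helper23.TBC

open Groth.Agent.Lib.helper23.FBC Groth.Agent.Lib.helper23.RAdj Groth.Agent.Lib.helper23.Kz
  Groth.Agent.Lib.helper23.PerfT Groth.Agent.Lib.helper13.ExtKFlat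
  Groth.Agent.Lib.helper13.KFlat Groth.Agent.Lib.helper13.RKF

attribute [local instance] MvPolynomial.algebraMvPolynomial
attribute [local instance] Algebra.TensorProduct.rightAlgebra

theorem shriekVia_baseChange_of_flat (R R' A : Type u) [CommRing R] [CommRing R'] [CommRing A]
    [IsNoetherianRing R] [IsNoetherianRing R'] [IsNoetherianRing A] [Algebra R R']
    [Algebra R A] [Module.Flat R A] [IsNoetherianRing (R' ⊗[R] A)] (n : ℕ)
    (ψ : MvPolynomial (Fin n) R →ₐ[R] A) (hψ : Function.Surjective ψ)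
    [DRing.HasLBaseChange (algebraMap R (MvPolynomial (Fin n) R))]
    (Rψ : Dual.D (MvPolynomial (Fin n) R) ⥤ Dual.D A) (adj : DRing.restrictD ψ.toRingHom ⊣ Rψ)
    (m : ℕ) (ψ' : MvPolynomial (Fin m) R' →ₐ[R'] (R' ⊗[R] A)) (hψ' : Function.Surjective ψ')
    [DRing.HasLBaseChange (algebraMap R' (MvPolynomial (Fin m) R'))]
    (Rψ' : Dual.D (MvPolynomial (Fin m) R') ⥤ Dual.D (R' ⊗[R] A))
    (adj' : DRing.restrictD ψ'.toRingHom ⊣ Rψ')
    [DRing.HasLBaseChange (Algebra.TensorProduct.includeRight : A →ₐ[R] R' ⊗[R] A).toRingHom]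
    [DRing.HasLBaseChange (algebraMap R R')] (K : Dual.D R) :
    Nonempty ((DRing.LBaseChange
        (Algebra.TensorProduct.includeRight : A →ₐ[R] R' ⊗[R] A).toRingHom).obj
        (Dual2.shriekVia n Rψ K) ≅
      Dual2.shriekVia m Rψ' ((DRing.LBaseChange (algebraMap R R')).obj K)) := by
  classical
  let A' := R' ⊗[R] A
  let P := MvPolynomial (Fin n) R
  let P' := MvPolynomial (Fin n) R'
  letI algPA : Algebra P A := ψ.toRingHom.toAlgebra
  let ψ'' : P' →ₐ[R'] A' := MvPolynomial.aeval (fun i => (1 : R') ⊗ₜ[R] ψ (MvPolynomial.X i))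
  letI algP'A' : Algebra P' A' := ψ''.toRingHom.toAlgebra
  letI algPA' : Algebra P A' := ((algebraMap A A').comp (algebraMap P A)).toAlgebra
  haveI t1 : IsScalarTower P A A' := IsScalarTower.of_algebraMap_eq (fun _ => rfl)
  have hcomm : (algebraMap A A').comp (algebraMap P A) = (algebraMap P' A').comp (algebraMap P P') := by
    apply MvPolynomial.ringHom_ext
    · intro r
      show (1 : R') ⊗ₜ[R] ψ (MvPolynomial.C r) = ψ'' (MvPolynomial.map (algebraMap R R') (MvPolynomial.C r))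
      rw [MvPolynomial.map_C]
      have h1 : ψ (MvPolynomial.C r) = algebraMap R A r := ψ.commutes r
      have h2 : ψ'' (MvPolynomial.C (algebraMap R R' r)) = algebraMap R' A' (algebraMap R R' r) :=
        ψ''.commutes _
      rw [h1, h2]
      have h3 : (1 : R') ⊗ₜ[R] (algebraMap R A r) = algebraMap R A' r :=
        (Algebra.TensorProduct.includeRight (R := R) (A := R') (B := A)).commutes r
      rw [h3, ← IsScalarTower.algebraMap_apply]
    · intro i
      show (1 : R') ⊗ₜ[R] ψ (MvPolynomial.X i) = ψ'' (MvPolynomial.map (algebraMap R R') (MvPolynomial.X i))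
      rw [MvPolynomial.map_X, MvPolynomial.aeval_X]
  haveI t2 : IsScalarTower P P' A' :=
    IsScalarTower.of_algebraMap_eq (fun x => congrArg (fun f : P →+* A' => f x) hcomm)
  haveI t3 : IsScalarTower R' P' A' :=
    IsScalarTower.of_algebraMap_eq (fun r => (ψ''.commutes r).symm)
  haveI t4 : IsScalarTower R P' A' := by
    refine IsScalarTower.of_algebraMap_eq (fun r => ?_)
    rw [IsScalarTower.algebraMap_apply R R' A', IsScalarTower.algebraMap_apply R R' P',
      ← IsScalarTower.algebraMap_apply R' P' A']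
  haveI t5 : IsScalarTower R P A := IsScalarTower.of_algebraMap_eq (fun r => (ψ.commutes r).symm)
  haveI hpo : Algebra.IsPushout P P' A A' := by
    have h0 : Algebra.IsPushout R A R' A' := inferInstance
    exact ((Algebra.IsPushout.comp_iff R P R' P' (T := A) (T' := A')).1 h0).symm
  -- surjectivity of the base-changed presentation
  have hψ'' : Function.Surjective ψ'' := by
    intro z
    induction z using TensorProduct.induction_on with
    | zero => exact ⟨0, map_zero _⟩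
    | tmul r a =>
      obtain ⟨p, hp⟩ := hψ a
      refine ⟨r • algebraMap P P' p, ?_⟩
      rw [map_smul]
      have h1 : ψ'' (algebraMap P P' p) = (1 : R') ⊗ₜ[R] ψ p :=
        (congrArg (fun f : P →+* A' => f p) hcomm).symm
      rw [h1, hp, TensorProduct.smul_tmul', smul_eq_mul, mul_one]
    | add x y hx hy =>
      obtain ⟨p, hp⟩ := hx
      obtain ⟨q, hq⟩ := hy
      exact ⟨p + q, by rw [map_add, hp, hq]⟩
  haveI : Module.Flat R' A' := inferInstance
  haveI : Module.Flat R P := inferInstance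
  haveI : IsNoetherianRing P := inferInstance
  -- finiteness and projective dimension
  obtain ⟨hfin, d, hpd⟩ := exists_hasProjectiveDimensionLT_of_flat R A n ψ hψ
  haveI : Module.Finite P (BA (algebraMap P A)) := hfin
  haveI : HasProjectiveDimensionLT (BA (algebraMap P A)) (d + 1) := hpd
  -- K-injective resolutions of the units
  obtain ⟨I, u, hI, hu, -, hIinj⟩ :=
    Groth.Agent.Lib.Helper25.KInjMain.exists_kInjective_resolution (𝟙_ (DRing.Cx P))
  obtain ⟨I', u', hI', hu', -, hI'inj⟩ :=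
    Groth.Agent.Lib.Helper25.KInjMain.exists_kInjective_resolution (𝟙_ (DRing.Cx P'))
  haveI := hI
  haveI := hu
  haveI : ∀ j, Injective (I.X j) := hIinj
  haveI := hI'
  haveI := hu'
  haveI : ∀ j, Injective (I'.X j) := hI'inj
  obtain ⟨F, hFk, f, hf, c, hc⟩ := baseChange_core (R := R) (R' := R') (P := P) (P' := P')
    (A := A) (A' := A') d I u I' u'
  haveI := hf
  haveI := hc
  -- a K-flat representative of `K`
  obtain ⟨K₀, hK₀, hK₀fl, ⟨eK⟩⟩ := LTenK.exists_kflat_rep K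
  let h : A →+* A' := algebraMap A A'
  let NP : DRing.Cx P := (extCx (algebraMap R P)).obj K₀
  let NA : DRing.Cx A := (extCx (algebraMap P A)).obj NP
  have hNP : IsKFlatR NP := isKFlatR_extCx _ _ hK₀
  have hNA : IsKFlatR NA := isKFlatR_extCx _ _ hNP
  -- the left hand side
  obtain ⟨a1⟩ := shriekVia_iso_of_kflat R A n ψ hψ Rψ adj I u K₀ hK₀ hK₀fl
  let a0 : Dual2.shriekVia n Rψ K ≅ Dual2.shriekVia n Rψ (Q.obj K₀) :=
    (shiftFunctor (Dual.D A) (n : ℤ)).mapIso
      (Rψ.mapIso ((DRing.LBaseChange (algebraMap R P)).mapIso eK.symm))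
  haveI : QuasiIso (f ▷ NA) := quasiIso_whiskerRight_of_isKFlatR NA hNA f
  let a2 : (Q.obj (Gc (algebraMap P A) I ⊗ NA))⟦(n : ℤ)⟧ ≅ (Q.obj (F ⊗ NA))⟦(n : ℤ)⟧ :=
    (shiftFunctor (Dual.D A) (n : ℤ)).mapIso (asIso (Q.map (f ▷ NA))).symm
  let a3 : (Q.obj (F ⊗ NA))⟦(n : ℤ)⟧ ≅ Q.obj ((F ⊗ NA)⟦(n : ℤ)⟧) :=
    ((Q.commShiftIso (n : ℤ)).app (F ⊗ NA)).symm
  have hFN : IsKFlatR (F ⊗ NA) := Groth.Agent.Lib.helper13.DTenA.isKFlatR_tensor _ _ hFk hNA
  have hFNs : IsKFlatR ((F ⊗ NA)⟦(n : ℤ)⟧) := isKFlatR_shift _ _ hFN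
  obtain ⟨b1⟩ := LTenK.nonempty_iso_LBaseChange_of_kflat
    (Algebra.TensorProduct.includeRight : A →ₐ[R] R' ⊗[R] A).toRingHom ((F ⊗ NA)⟦(n : ℤ)⟧) hFNs
  let b2 : (extCx h).obj ((F ⊗ NA)⟦(n : ℤ)⟧) ≅ ((extCx h).obj (F ⊗ NA))⟦(n : ℤ)⟧ :=
    ((extCx h).commShiftIso (n : ℤ)).app (F ⊗ NA)
  let b3 : Q.obj (((extCx h).obj (F ⊗ NA))⟦(n : ℤ)⟧) ≅ (Q.obj ((extCx h).obj (F ⊗ NA)))⟦(n : ℤ)⟧ :=
    (Q.commShiftIso (n : ℤ)).app _
  let b4 : (extCx h).obj (F ⊗ NA) ≅ (extCx h).obj F ⊗ (extCx h).obj NA := DTen.extTenCxIso h F NA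
  have hNA' : IsKFlatR ((extCx h).obj NA) := isKFlatR_extCx _ _ hNA
  haveI : QuasiIso (c ▷ (extCx h).obj NA) := quasiIso_whiskerRight_of_isKFlatR _ hNA' c
  let b5 : Q.obj ((extCx h).obj F ⊗ (extCx h).obj NA) ≅
      Q.obj (Gc (algebraMap P' A') I' ⊗ (extCx h).obj NA) := asIso (Q.map (c ▷ (extCx h).obj NA))
  -- the two extensions of scalars of `K₀` to `A'`
  let K₀' : DRing.Cx R' := (extCx (algebraMap R R')).obj K₀
  let NP' : DRing.Cx P' := (extCx (algebraMap R' P')).obj K₀'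
  let NA' : DRing.Cx A' := (extCx (algebraMap P' A')).obj NP'
  have e1 : algebraMap R A = (algebraMap P A).comp (algebraMap R P) :=
    RingHom.ext (fun r => IsScalarTower.algebraMap_apply R P A r)
  have e2 : algebraMap R A' = h.comp (algebraMap R A) :=
    RingHom.ext (fun r =>
      ((Algebra.TensorProduct.includeRight (R := R) (A := R') (B := A)).commutes r).symm)
  have e3 : algebraMap R P' = (algebraMap R' P').comp (algebraMap R R') :=
    RingHom.ext (fun r => IsScalarTower.algebraMap_apply R R' P' r)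
  have e4 : algebraMap R A' = (algebraMap P' A').comp (algebraMap R P') :=
    RingHom.ext (fun r => IsScalarTower.algebraMap_apply R P' A' r)
  let c1 := extCxCompIso (algebraMap R P) (algebraMap P A) (algebraMap R A) e1 K₀
  let c2 := extCxCompIso (algebraMap R A) h (algebraMap R A') e2 K₀
  let c3 := extCxCompIso (algebraMap R R') (algebraMap R' P') (algebraMap R P') e3 K₀
  let c4 := extCxCompIso (algebraMap R P') (algebraMap P' A') (algebraMap R A') e4 K₀
  let b6 : (extCx h).obj NA ≅ NA' :=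
    (extCx h).mapIso c1.symm ≪≫ c2.symm ≪≫ c4 ≪≫ (extCx (algebraMap P' A')).mapIso c3
  let b7 : Q.obj (Gc (algebraMap P' A') I' ⊗ (extCx h).obj NA) ≅
      Q.obj (Gc (algebraMap P' A') I' ⊗ NA') :=
    Q.mapIso (whiskerLeftIso (Gc (algebraMap P' A') I') b6)
  -- the right hand side
  obtain ⟨Rψ'', ⟨adj''⟩⟩ := RHomEx.exists_rightAdjoint_restrictD ψ''.toRingHom
  haveI : DRing.HasLBaseChange (algebraMap R' (MvPolynomial (Fin n) R')) :=
    Groth.Agent.Lib.helper13.RKF.hasLBaseChange _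
  let K' : Dual.D R' := (DRing.LBaseChange (algebraMap R R')).obj K
  obtain ⟨j2⟩ := shriekVia_independent n ψ'' hψ'' Rψ'' adj'' m ψ' hψ' Rψ' adj' K'
  obtain ⟨r1⟩ := LTenK.nonempty_iso_LBaseChange_of_kflat (algebraMap R R') K₀ hK₀
  let r0 : K' ≅ Q.obj K₀' := (DRing.LBaseChange (algebraMap R R')).mapIso eK.symm ≪≫ r1
  have hK₀' : IsKFlatR K₀' := isKFlatR_extCx _ _ hK₀
  have hK₀'fl : DRing.TermwiseFlat K₀' := termwiseFlat_extCx K₀ hK₀fl
  obtain ⟨r2⟩ := shriekVia_iso_of_kflat R' A' n ψ'' hψ'' Rψ'' adj'' I' u' K₀' hK₀' hK₀'fl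
  let r3 : Dual2.shriekVia n Rψ'' K' ≅ Dual2.shriekVia n Rψ'' (Q.obj K₀') :=
    (shiftFunctor (Dual.D A') (n : ℤ)).mapIso
      (Rψ''.mapIso ((DRing.LBaseChange (algebraMap R' P')).mapIso r0))
  exact ⟨(DRing.LBaseChange
      (Algebra.TensorProduct.includeRight : A →ₐ[R] R' ⊗[R] A).toRingHom).mapIso
      (a0 ≪≫ a1 ≪≫ a2 ≪≫ a3) ≪≫ b1 ≪≫ Q.mapIso b2 ≪≫ b3 ≪≫
    (shiftFunctor (Dual.D A') (n : ℤ)).mapIso (Q.mapIso b4 ≪≫ b5 ≪≫ b7) ≪≫
    r2.symm ≪≫ r3.symm ≪≫ j2⟩

end Groth.Agent.Lib.helper23.TBC
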