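import Mathlib
import Groth.Prelude.Def_DRing4
import Groth.Prelude.Def_DualSh
import Groth.Agent.Lib.Helper23.TBC12
import Groth.Agent.Lib.Helper23.RegDual
import Groth.Agent.Lib.Helper23.FBC10
import Groth.Agent.S1782

/-!
# The fibres of `φ^!(R)` are dualizing complexes, `φ : R → A` flat of finite type (helper23)
-/

set_option autoImplicit false
universe u
open CategoryTheory CategoryTheory.Limits MonoidalCategory Opposite DerivedCategory TensorProduct

attribute [local instance] HasDerivedCategory.standard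

namespace Groth.Agent.Lib.helper23.RelDual

open Groth.Agent.Lib.helper23.TBC Groth.Agent.Lib.helper23.PerfT Groth.Agent.Lib.helper13.ExtKFlat
  Groth.Agent.Lib.helper13.KFlat Groth.Agent.Lib.helper13.RKF

/-- the base change of a presentation -/
theorem exists_presentation_baseChange (R R' A : Type u) [CommRing R] [CommRing R'] [CommRing A]
    [Algebra R R'] [Algebra R A] (n : ℕ) (ψ : MvPolynomial (Fin n) R →ₐ[R] A)
    (hψ : Function.Surjective ψ) :
    ∃ ψ'' : MvPolynomial (Fin n) R' →ₐ[R'] (R' ⊗[R] A), Function.Surjective ψ'' := by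
  let A' := R' ⊗[R] A
  let ψ'' : MvPolynomial (Fin n) R' →ₐ[R'] A' :=
    MvPolynomial.aeval (fun i => (1 : R') ⊗ₜ[R] ψ (MvPolynomial.X i))
  refine ⟨ψ'', ?_⟩
  have hcomm : (Algebra.TensorProduct.includeRight : A →ₐ[R] R' ⊗[R] A).toRingHom.comp ψ.toRingHom =
      ψ''.toRingHom.comp (MvPolynomial.map (algebraMap R R')) := by
    apply MvPolynomial.ringHom_ext
    · intro r
      show (1 : R') ⊗ₜ[R] ψ (MvPolynomial.C r) =
        ψ'' (MvPolynomial.map (algebraMap R R') (MvPolynomial.C r))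
      rw [MvPolynomial.map_C]
      have h1 : ψ (MvPolynomial.C r) = algebraMap R A r := ψ.commutes r
      have h2 : ψ'' (MvPolynomial.C (algebraMap R R' r)) = algebraMap R' A' (algebraMap R R' r) :=
        ψ''.commutes _
      rw [h1, h2]
      have h3 : (1 : R') ⊗ₜ[R] (algebraMap R A r) = algebraMap R A' r :=
        (Algebra.TensorProduct.includeRight (R := R) (A := R') (B := A)).commutes r
      rw [h3, ← IsScalarTower.algebraMap_apply]
    · intro i
      show (1 : R') ⊗ₜ[R] ψ (MvPolynomial.X i) =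
        ψ'' (MvPolynomial.map (algebraMap R R') (MvPolynomial.X i))
      rw [MvPolynomial.map_X, MvPolynomial.aeval_X]
  intro z
  induction z using TensorProduct.induction_on with
  | zero => exact ⟨0, map_zero _⟩
  | tmul r a =>
    obtain ⟨p, hp⟩ := hψ a
    refine ⟨r • MvPolynomial.map (algebraMap R R') p, ?_⟩
    rw [map_smul]
    have h1 : ψ'' (MvPolynomial.map (algebraMap R R') p) = (1 : R') ⊗ₜ[R] ψ p :=
      (congrArg (fun f : MvPolynomial (Fin n) R →+* A' => f p) hcomm).symm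
    rw [h1, hp, TensorProduct.smul_tmul', smul_eq_mul, mul_one]
  | add x y hx hy =>
    obtain ⟨p, hp⟩ := hx
    obtain ⟨q, hq⟩ := hy
    exact ⟨p + q, by rw [map_add, hp, hq]⟩

/-- the unit complex is K-flat -/
theorem isKFlatR_unit (A : Type u) [CommRing A] : IsKFlatR (𝟙_ (DRing.Cx A)) := by
  refine isKFlatR_of_bounded_above _ 0 ?_ ?_
  · intro i hi
    exact HomologicalComplex.isZero_single_obj_X _ _ _ _ (by omega)
  · intro i
    by_cases hi : i = 0
    · subst hi
      exact Module.Flat.of_linearEquiv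
        (HomologicalComplex.singleObjXSelf (ComplexShape.up ℤ) 0
          (𝟙_ (ModuleCat.{u} A))).toLinearEquiv
    · haveI : Subsingleton ((𝟙_ (DRing.Cx A)).X i) :=
        ModuleCat.subsingleton_of_isZero
          (HomologicalComplex.isZero_single_obj_X _ _ _ _ hi)
      infer_instance

/-- derived base change of the unit along any ring map -/
theorem nonempty_lbc_unit_iso {R k : Type u} [CommRing R] [CommRing k] [Algebra R k]
    [DRing.HasLBaseChange (algebraMap R k)] :
    Nonempty ((DRing.LBaseChange (algebraMap R k)).obj (Dual.inD R R) ≅ Dual.inD k k) := by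
  obtain ⟨e1⟩ := LTenK.nonempty_iso_LBaseChange_of_kflat (algebraMap R k) (𝟙_ (DRing.Cx R))
    (isKFlatR_unit R)
  let e0 : Dual.inD R R ≅ Q.obj (𝟙_ (DRing.Cx R)) :=
    (DerivedCategory.singleFunctorIsoCompQ (ModuleCat.{u} R) 0).app (ModuleCat.of R R)
  let e2 : Q.obj ((extCx (algebraMap R k)).obj (𝟙_ (DRing.Cx R))) ≅ Q.obj (𝟙_ (DRing.Cx k)) :=
    Q.mapIso (ε₀ R k)
  let e3 : Q.obj (𝟙_ (DRing.Cx k)) ≅ Dual.inD k k :=
    ((DerivedCategory.singleFunctorIsoCompQ (ModuleCat.{u} k) 0).app (ModuleCat.of k k)).symm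
  exact ⟨(DRing.LBaseChange (algebraMap R k)).mapIso e0 ≪≫ e1 ≪≫ e2 ≪≫ e3⟩

/-- a field is a dualizing complex over itself -/
theorem isDualizing_field (k : Type u) [Field k] : Dual.IsDualizing k (Dual.inD k k) := by
  refine Groth.Agent.Lib.helper23.RegGap.isDualizing_self_of_regular k (fun p => inferInstance) ?_
  rw [ringKrullDim_eq_zero_of_field]
  exact WithBot.coe_lt_coe.2 (WithTop.coe_lt_top _)

theorem isDualizing_baseChange_field (R A : Type u) [CommRing R] [CommRing A]
    [IsNoetherianRing R] [IsNoetherianRing A] [Algebra R A] [Module.Flat R A] (n : ℕ)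
    (ψ : MvPolynomial (Fin n) R →ₐ[R] A) (hψ : Function.Surjective ψ)
    [DRing.HasLBaseChange (algebraMap R (MvPolynomial (Fin n) R))]
    (Rψ : Dual.D (MvPolynomial (Fin n) R) ⥤ Dual.D A) (adj : DRing.restrictD ψ.toRingHom ⊣ Rψ)
    (k : Type u) [Field k] [Algebra R k]
    [DRing.HasLBaseChange (Algebra.TensorProduct.includeRight : A →ₐ[R] k ⊗[R] A).toRingHom] :
    Dual.IsDualizing (k ⊗[R] A) ((DRing.LBaseChange
      (Algebra.TensorProduct.includeRight : A →ₐ[R] k ⊗[R] A).toRingHom).obj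
      (Dual2.shriekVia n Rψ (Dual.inD R R))) := by
  obtain ⟨ψ'', hψ''⟩ := exists_presentation_baseChange R k A n ψ hψ
  haveI : IsNoetherianRing (k ⊗[R] A) :=
    isNoetherianRing_of_surjective _ _ ψ''.toRingHom hψ''
  obtain ⟨Rψ'', ⟨adj''⟩⟩ := RHomEx.exists_rightAdjoint_restrictD ψ''.toRingHom
  haveI : DRing.HasLBaseChange (algebraMap k (MvPolynomial (Fin n) k)) :=
    Groth.Agent.Lib.helper13.RKF.hasLBaseChange _
  haveI : DRing.HasLBaseChange (algebraMap R k) := Groth.Agent.Lib.helper13.RKF.hasLBaseChange _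
  obtain ⟨j⟩ := shriekVia_baseChange_of_flat R k A n ψ hψ Rψ adj n ψ'' hψ'' Rψ'' adj''
    (Dual.inD R R)
  obtain ⟨e1⟩ := nonempty_lbc_unit_iso (R := R) (k := k)
  have h3 : Dual.IsDualizing (k ⊗[R] A) (Dual2.shriekVia n Rψ'' (Dual.inD k k)) :=
    Groth.Agent.S1782.result k (k ⊗[R] A) n ψ'' hψ'' Rψ'' adj'' (Dual.inD k k) (isDualizing_field k)
  let e4 : Dual2.shriekVia n Rψ'' ((DRing.LBaseChange (algebraMap R k)).obj (Dual.inD R R)) ≅
      Dual2.shriekVia n Rψ'' (Dual.inD k k) :=
    (shiftFunctor (Dual.D (k ⊗[R] A)) (n : ℤ)).mapIso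
      (Rψ''.mapIso ((DRing.LBaseChange (algebraMap k (MvPolynomial (Fin n) k))).mapIso e1))
  exact FBC.isDualizing_of_iso (j ≪≫ e4).symm h3

end Groth.Agent.Lib.helper23.RelDual
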