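import Mathlib
import Groth.Prelude.Def_Wider
import Groth.Prelude.Def_DDual2
import Groth.Prelude.Def_DRing2
import Groth.Agent.Lib.Helper23.NilDesc1
import Groth.Agent.Lib.Helper23.LBCComp
import Groth.Agent.Lib.Helper23.DRingPC7
import Groth.Agent.Lib.Helper23.TA12

/-!
# helper23: descent of tor amplitude and of cohomological bounds along a finite family of surjections whose kernels
have product zero (`φ i : R →+* Rf i`, `∏ i, ker (φ i) = ⊥`)

* `finite_of_finite_quotients_prod`: Nakayama for such a family (`M / I_i M` finite for all `i` ⇒ `M` finite).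
* `nonempty_homology_extCx_iso`: top cohomology commutes with extension of scalars;
  `finite_quotient_of_finite_extend`.
* `hasTorAmplitudeIn_of_family`: `K ⊗^L Rf i` of tor amplitude `[a,b]` for all `i` ⇒ `K` of tor amplitude `[a,b]`.
* `isZero_homology_of_family`: `K ⊗^L Rf i ∈ D^{≤ b}` for all `i` ⇒ `K ∈ D^{≤ b}`.
* `isZero_homology_LBaseChange`: derived base change is right t-exact.
* `finite_top_homology_of_family`: for `K ∈ D^{≤ b}`, `H^b(K ⊗^L Rf i)` finite for all `i` ⇒ `H^b(K)` finite.
-/

set_option autoImplicit false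
universe u
open CategoryTheory CategoryTheory.Limits MonoidalCategory

attribute [local instance] HasDerivedCategory.standard

namespace Groth.Agent.Lib.helper23.NilDesc

open Groth.Agent.Lib.helper13.KFlat Groth.Agent.Lib.helper13.RKF Groth.Agent.Lib.helper13.DerAdjL
  Groth.Agent.Lib.Helper25.LDerAdapted Groth.Agent.Lib.helper23.TensSES
  Groth.Agent.Lib.helper23.LTenK Groth.Agent.Lib.helper23.TA Groth.Agent.Lib.helper23.PosVan
  Groth.Agent.Lib.helper13.ExtKFlat

section Nakayama

variable {R : Type u} [CommRing R] {M : Type u} [AddCommGroup M] [Module R M]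

/-- `M / IM` is finitely generated iff some finitely generated submodule generates `M` modulo `I`. -/
lemma exists_fg_sup_smul_eq_top (I : Ideal R)
    (h : Module.Finite R (M ⧸ (I • ⊤ : Submodule R M))) :
    ∃ M₀ : Submodule R M, M₀.FG ∧ M₀ ⊔ I • ⊤ = ⊤ := by
  classical
  obtain ⟨s, hs⟩ := h.fg_top
  choose f hf using fun y : M ⧸ (I • ⊤ : Submodule R M) => Submodule.Quotient.mk_surjective _ y
  refine ⟨Submodule.span R (s.image f : Set M), Submodule.fg_span (Finset.finite_toSet _), ?_⟩
  have h1 : (Submodule.span R (s.image f : Set M)).map (I • ⊤ : Submodule R M).mkQ = ⊤ := by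
    rw [Submodule.map_span, ← hs]
    congr 1
    ext y
    simp only [Finset.coe_image, Set.mem_image, Finset.mem_coe, Submodule.mkQ_apply,
      exists_exists_and_eq_and]
    constructor
    · rintro ⟨z, hz, rfl⟩
      rwa [hf z]
    · intro hy
      exact ⟨y, hy, hf y⟩
  have h2 := congrArg (Submodule.comap (I • ⊤ : Submodule R M).mkQ) h1
  rwa [Submodule.comap_map_eq, Submodule.ker_mkQ, Submodule.comap_top] at h2

lemma sup_mul_smul_eq_top (I J : Ideal R) (M₀ : Submodule R M) (hI : M₀ ⊔ I • ⊤ = ⊤)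
    (hJ : M₀ ⊔ J • ⊤ = ⊤) : M₀ ⊔ (I * J) • ⊤ = ⊤ := by
  rw [eq_top_iff]
  calc (⊤ : Submodule R M) = M₀ ⊔ I • (M₀ ⊔ J • ⊤) := by rw [hJ, hI]
    _ = M₀ ⊔ (I • M₀ ⊔ I • J • ⊤) := by rw [Submodule.smul_sup]
    _ ≤ M₀ ⊔ (I * J) • ⊤ := by
      rw [← sup_assoc, Submodule.mul_smul]
      exact sup_le_sup_right (sup_le le_rfl Submodule.smul_le_right) _

/-- Nakayama for a finite family of ideals with product zero. -/
theorem finite_of_finite_quotients_prod {k : ℕ} (I : Fin k → Ideal R) (hprod : ∏ i, I i = ⊥)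
    (h : ∀ i, Module.Finite R (M ⧸ (I i • ⊤ : Submodule R M))) : Module.Finite R M := by
  choose M₀ hfg hM₀ using fun i => exists_fg_sup_smul_eq_top (I i) (h i)
  let N₀ : Submodule R M := ⨆ i, M₀ i
  have hN₀ : N₀.FG := by
    have : N₀ = Finset.univ.sup M₀ := by
      rw [Finset.sup_univ_eq_iSup]
    rw [this]
    exact Submodule.fg_finset_sup _ _ (fun i _ => hfg i)
  have key : ∀ s : Finset (Fin k), N₀ ⊔ (∏ i ∈ s, I i) • ⊤ = ⊤ := by
    intro s
    induction s using Finset.induction_on with
    | empty =>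
      rw [Finset.prod_empty, Ideal.one_eq_top, Submodule.top_smul, sup_top_eq]
    | insert a s ha ih =>
      rw [Finset.prod_insert ha]
      refine sup_mul_smul_eq_top _ _ _ ?_ ih
      exact eq_top_iff.2 (le_trans (hM₀ a).ge (sup_le_sup_right (le_iSup M₀ a) _))
  have h1 := key Finset.univ
  rw [hprod, Submodule.bot_smul, sup_bot_eq] at h1
  rw [Module.finite_def, ← h1]
  exact hN₀

end Nakayama

variable {R : Type u} [CommRing R]

section Top

variable {S : Type u} [CommRing S] (φ : R →+* S)

/-- top cohomology commutes with extension of scalars. -/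
theorem nonempty_homology_extCx_iso (P : DRing.Cx R) (b : ℤ) (hP : IsZero (P.X (b + 1))) :
    Nonempty (((extCx φ).obj P).homology b ≅
      (ModuleCat.extendScalars.{u, u, u} φ).obj (P.homology b)) := by
  have hn : (ComplexShape.up ℤ).next b = b + 1 := CochainComplex.next ℤ b
  have hg : (P.sc b).g = 0 := by
    apply IsZero.eq_of_tgt
    show IsZero (P.X ((ComplexShape.up ℤ).next b))
    rw [hn]
    exact hP
  haveI : PreservesColimits (ModuleCat.extendScalars.{u, u, u} φ) :=
    (ModuleCat.extendRestrictScalarsAdj.{u, u, u} φ).leftAdjoint_preservesColimits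
  haveI := Functor.preservesLeftHomology_of_zero_g (ModuleCat.extendScalars.{u, u, u} φ) (P.sc b) hg
  exact ⟨(P.sc b).mapHomologyIso (ModuleCat.extendScalars.{u, u, u} φ)⟩

/-- `R ⧸ ker φ` is the target of a surjection, as `R`-modules. -/
noncomputable def quotKerEquivAR (hφ : Function.Surjective φ) :
    (R ⧸ RingHom.ker φ) ≃ₗ[R] (AR φ) :=
  let f : R →ₗ[R] (AR φ) :=
    { toFun := fun r => φ r
      map_add' := map_add φ
      map_smul' := fun r x => map_mul φ r x }
  (Submodule.quotEquivOfEq (RingHom.ker φ) (LinearMap.ker f) (by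
    ext x
    rfl)).trans (f.quotKerEquivOfSurjective hφ)

/-- `H / (ker φ) H` is finite over `R` if `S ⊗ H` is finite over `S`. -/
theorem finite_quotient_of_finite_extend (hφ : Function.Surjective φ) (H : ModuleCat.{u} R)
    (h : Module.Finite S ((ModuleCat.extendScalars.{u, u, u} φ).obj H)) :
    Module.Finite R (H ⧸ (RingHom.ker φ • ⊤ : Submodule R H)) := by
  haveI : Module.Finite R ((ModuleCat.restrictScalars.{u} φ).obj
      ((ModuleCat.extendScalars.{u, u, u} φ).obj H)) :=
    (Groth.Agent.Lib.helper23.DRingPC.finite_restrict_iff φ hφ _).2 h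
  exact Module.Finite.equiv ((extResLE φ H).trans
    ((TensorProduct.congr (quotKerEquivAR φ hφ).symm (LinearEquiv.refl R H)).trans
      (TensorProduct.quotTensorEquivQuotSMul H (RingHom.ker φ))))

/-- derived base change is right t-exact. -/
theorem isZero_homology_LBaseChange [DRing.HasLBaseChange φ] (K : Dual.D R) (b : ℤ)
    (hK : ∀ j : ℤ, b < j → IsZero ((DerivedCategory.homologyFunctor _ j).obj K)) (j : ℤ)
    (hj : b < j) :
    IsZero ((DerivedCategory.homologyFunctor _ j).obj ((DRing.LBaseChange φ).obj K)) := by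
  obtain ⟨P, -, hPb, hPfl, ⟨e⟩⟩ := exists_projective_rep hK
  obtain ⟨e1⟩ := Groth.Agent.Lib.helper23.LBCComp.lbc_iso φ P b hPb hPfl
  have h1 : ((extCx φ).obj P).ExactAt j :=
    HomologicalComplex.ExactAt.of_isZero (vanishesAbove_extend φ P b hPb j hj)
  rw [HomologicalComplex.exactAt_iff_isZero_homology] at h1
  exact h1.of_iso ((DerivedCategory.homologyFunctor _ j).mapIso
    ((DRing.LBaseChange φ).mapIso e.symm ≪≫ e1) ≪≫
    (DerivedCategory.homologyFunctorFactors _ j).app _)

end Top

section Family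

variable {k : ℕ} (Rf : Fin k → Type u) [∀ i, CommRing (Rf i)] (φ : ∀ i, R →+* Rf i)
  (hφ : ∀ i, Function.Surjective (φ i)) (hprod : ∏ i, RingHom.ker (φ i) = ⊥)

include hφ hprod in
/-- tor amplitude descends along the family. -/
theorem hasTorAmplitudeIn_of_family [∀ i, DRing.HasLBaseChange (φ i)] (K : Dual.D R) (a b : ℤ)
    (h : ∀ i, DRing.HasTorAmplitudeIn (Rf i) a b ((DRing.LBaseChange (φ i)).obj K)) :
    DRing.HasTorAmplitudeIn R a b K := by
  obtain ⟨F, hKF, hfl, ⟨eF⟩⟩ := exists_kflat_rep K
  have hG : ∀ (j : ℤ), (j < a ∨ b < j) → ∀ (i : Fin k) (N' : ModuleCat.{u} (Rf i)),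
      (((tensorRight N').mapHomologicalComplex (ComplexShape.up ℤ)).obj
        ((extCx (φ i)).obj F)).ExactAt j := by
    intro j hj i N'
    obtain ⟨e1⟩ := nonempty_iso_LBaseChange_of_kflat (φ i) F hKF
    refine exactAt_tensorRight_of_amp _ (isKFlatR_extCx (φ i) F hKF) a b ?_ N' j hj
    exact hasTorAmplitudeIn_of_iso ((DRing.LBaseChange (φ i)).mapIso eF.symm ≪≫ e1) (h i)
  haveI : ∀ M : ModuleCat.{u} R, DRing.HasLTensor R M := hasLTensor
  rw [hasTorAmplitudeIn_iff_LTensor]
  intro M i hi
  obtain ⟨e2⟩ := nonempty_iso_LTensor_of_kflat M F hKF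
  have h3 : ((tensF F).obj (ModuleCat.of R M)).ExactAt i :=
    exactAt_tensF_of_family Rf φ hφ hprod F hfl i (hG i hi) M
  have h4 : (((tensorLeft M).mapHomologicalComplex (ComplexShape.up ℤ)).obj F).ExactAt i :=
    TensSES.exactAt_of_iso F (Iso.refl M : ModuleCat.of R M ≅ M) i h3
  rw [TA.exactAt_tensorLeft_iff, HomologicalComplex.exactAt_iff_isZero_homology] at h4
  exact h4.of_iso ((DerivedCategory.homologyFunctor _ i).mapIso
    ((DRing.LTensor R M).mapIso eF.symm ≪≫ e2) ≪≫
    (DerivedCategory.homologyFunctorFactors _ i).app _)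

include hφ hprod in
/-- cohomological bounds descend along the family. -/
theorem isZero_homology_of_family [∀ i, DRing.HasLBaseChange (φ i)] (K : Dual.D R) (b : ℤ)
    (h : ∀ i, ∀ j : ℤ, b < j →
      IsZero ((DerivedCategory.homologyFunctor _ j).obj ((DRing.LBaseChange (φ i)).obj K)))
    (j : ℤ) (hj : b < j) : IsZero ((DerivedCategory.homologyFunctor _ j).obj K) := by
  obtain ⟨F, hKF, hfl, ⟨eF⟩⟩ := exists_kflat_rep K
  have hG : ∀ (i : Fin k) (N' : ModuleCat.{u} (Rf i)),
      (((tensorRight N').mapHomologicalComplex (ComplexShape.up ℤ)).obj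
        ((extCx (φ i)).obj F)).ExactAt j := by
    intro i N'
    obtain ⟨e1⟩ := nonempty_iso_LBaseChange_of_kflat (φ i) F hKF
    refine exactAt_tensorRight_of_bddAbove _ (isKFlatR_extCx (φ i) F hKF) b (fun l hl => ?_) N' j hj
    rw [HomologicalComplex.exactAt_iff_isZero_homology]
    exact (h i l hl).of_iso (((DerivedCategory.homologyFunctorFactors _ l).app _).symm ≪≫
      (DerivedCategory.homologyFunctor _ l).mapIso
        (e1.symm ≪≫ (DRing.LBaseChange (φ i)).mapIso eF))
  have h3 : ((tensF F).obj (ModuleCat.of R R)).ExactAt j :=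
    exactAt_tensF_of_family Rf φ hφ hprod F hfl j hG R
  have h4 : F.ExactAt j := exactAt_of_tensorLeft_unit F j h3
  rw [HomologicalComplex.exactAt_iff_isZero_homology] at h4
  exact h4.of_iso ((DerivedCategory.homologyFunctor _ j).mapIso eF.symm ≪≫
    (DerivedCategory.homologyFunctorFactors _ j).app _)

include hφ hprod in
/-- finiteness of the top cohomology descends along the family. -/
theorem finite_top_homology_of_family [∀ i, DRing.HasLBaseChange (φ i)] (K : Dual.D R) (b : ℤ)
    (hK : ∀ j : ℤ, b < j → IsZero ((DerivedCategory.homologyFunctor _ j).obj K))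
    (h : ∀ i, Module.Finite (Rf i)
      ((DerivedCategory.homologyFunctor (ModuleCat.{u} (Rf i)) b).obj
        ((DRing.LBaseChange (φ i)).obj K))) :
    Module.Finite R ((DerivedCategory.homologyFunctor (ModuleCat.{u} R) b).obj K) := by
  obtain ⟨P, -, hPb, hPfl, ⟨e⟩⟩ := exists_projective_rep hK
  have hq : ∀ i, Module.Finite R
      (P.homology b ⧸ (RingHom.ker (φ i) • ⊤ : Submodule R (P.homology b))) := by
    intro i
    obtain ⟨e1⟩ := Groth.Agent.Lib.helper23.LBCComp.lbc_iso (φ i) P b hPb hPfl
    obtain ⟨e2⟩ := nonempty_homology_extCx_iso (φ i) P b (hPb (b + 1) (by omega))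
    refine finite_quotient_of_finite_extend (φ i) (hφ i) (P.homology b) ?_
    haveI := h i
    exact Module.Finite.equiv ((DerivedCategory.homologyFunctor _ b).mapIso
      ((DRing.LBaseChange (φ i)).mapIso e.symm ≪≫ e1) ≪≫
      (DerivedCategory.homologyFunctorFactors _ b).app _ ≪≫ e2).toLinearEquiv
  haveI : Module.Finite R ((HomologicalComplex.homologyFunctor (ModuleCat.{u} R)
      (ComplexShape.up ℤ) b).obj P) :=
    finite_of_finite_quotients_prod (fun i => RingHom.ker (φ i)) hprod hq
  exact Module.Finite.equiv (((DerivedCategory.homologyFunctorFactors _ b).app P).symm ≪≫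
    (DerivedCategory.homologyFunctor _ b).mapIso e).toLinearEquiv

end Family

end Groth.Agent.Lib.helper23.NilDesc
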