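import Mathlib
import Groth.Prelude.Def_PCoh
import Groth.Agent.Lib.Helper23.PCohReflect2

/-!
# helper23: reflection of `n`-pseudo-coherence along a finite family of triangulated functors which are only right
t-exact (variant of `PCohReflect2.npc_of_npc_map_family` with hypotheses "above a bound": fits derived base change)

* `npc_of_npc_map_family'`.
-/

set_option autoImplicit false
universe w v u w' v' u'
open CategoryTheory CategoryTheory.Limits HomologicalComplex CochainComplex
open CategoryTheory.Pretriangulated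

namespace Groth.Agent.Lib.helper23.PCohCore

open Groth.Agent.Lib.helper23.NQuasiIso Groth.Agent.Lib.helper23.PCohAmp

section Family'

variable {ι : Type} [Finite ι]
  {C : Type u} [Category.{v} C] [Abelian C] [HasDerivedCategory.{w} C]
  {C' : ι → Type u'} [∀ i, Category.{v'} (C' i)] [∀ i, Abelian (C' i)]
  [∀ i, HasDerivedCategory.{w'} (C' i)]
  (F : ∀ i, DerivedCategory C ⥤ DerivedCategory (C' i)) [∀ i, (F i).CommShift ℤ]
  [∀ i, (F i).IsTriangulated]
  (P : ObjectProperty C) [P.IsClosedUnderIsomorphisms] [P.ContainsZero]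
  (P' : ∀ i, ObjectProperty (C' i)) [∀ i, (P' i).IsClosedUnderIsomorphisms]
  [∀ i, (P' i).ContainsZero]
  (hsum : ∀ X Y : C, P X → P Y → P (X ⨯ Y))
  (hqs : PCoh.IsQuasiStableUnderKernels P) (hql : PCoh.IsQuasiLiftable P)
  (hsum' : ∀ i, ∀ X Y : C' i, P' i X → P' i Y → P' i (X ⨯ Y))
  (hqs' : ∀ i, PCoh.IsQuasiStableUnderKernels (P' i))
  (hql' : ∀ i, PCoh.IsQuasiLiftable (P' i))

include hsum hqs hql hsum' hqs' hql' in
theorem npc_of_npc_map_family_aux'
    (ha : ∀ i, ∀ E : C, P E → ∀ a : ℤ,
      NPC (P' i) a ((F i).obj ((DerivedCategory.singleFunctor C 0).obj E)))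
    (hb1 : ∀ i, ∀ (X : DerivedCategory C) (b : ℤ),
      (∀ j : ℤ, b < j → IsZero ((DerivedCategory.homologyFunctor C j).obj X)) →
        ∀ j : ℤ, b < j → IsZero ((DerivedCategory.homologyFunctor (C' i) j).obj ((F i).obj X)))
    (hc : ∀ (X : DerivedCategory C) (b : ℤ),
      (∀ j : ℤ, b < j → IsZero ((DerivedCategory.homologyFunctor C j).obj X)) →
      (∀ i, PCoh.IsOfFiniteType (P' i)
        ((DerivedCategory.homologyFunctor (C' i) b).obj ((F i).obj X))) →
        PCoh.IsOfFiniteType P ((DerivedCategory.homologyFunctor C b).obj X))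
    (n : ℤ) : ∀ (k : ℕ) (b : ℤ), b ≤ n - 1 + k → ∀ X : DerivedCategory C,
      (∀ j : ℤ, b < j → IsZero ((DerivedCategory.homologyFunctor C j).obj X)) →
      (∀ i, NPC (P' i) n ((F i).obj X)) → NPC P n X := by
  intro k
  induction k with
  | zero =>
    intro b hbk X hac _
    exact NPC.of_acyclic P n X (fun i hi => hac i (by simp at hbk; omega))
  | succ k ih =>
    intro b hbk X hac h
    by_cases hb' : b ≤ n - 1 + k
    · exact ih b hb' X hac h
    have hnb : n ≤ b := by push_cast at hbk; omega
    have hft := hc X b hac (fun i =>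
      (npc_iff_isOfFiniteType (P' i) (hsum' i) (hqs' i) (hql' i) b ((F i).obj X)
        (fun j hj => hb1 i X b hac j hj)).1 ((h i).mono hnb))
    let X₀ := DerivedCategory.Q.objPreimage X
    let eX : DerivedCategory.Q.obj X₀ ≅ X := DerivedCategory.Q.objObjPreimageIso X
    have eH : X₀.homology b ≅ (DerivedCategory.homologyFunctor C b).obj X :=
      ((DerivedCategory.homologyFunctorFactors C b).app X₀).symm ≪≫
        (DerivedCategory.homologyFunctor C b).mapIso eX
    obtain ⟨L, hL, ζ, hζ⟩ := exists_single_hom_epi_of_finiteType P hql X₀ b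
      (isOfFiniteType_of_iso P eH.symm hft)
    have hs : Epi ((DerivedCategory.homologyFunctor C b).map
        (DerivedCategory.Q.map ζ ≫ eX.hom)) := by
      rw [CategoryTheory.Functor.map_comp]
      haveI := (epi_homologyFunctor_map_Q_iff ζ b).2 hζ
      infer_instance
    have hSz : ∀ i : ℤ, b < i → IsZero ((DerivedCategory.homologyFunctor C i).obj
        (DerivedCategory.Q.obj ((HomologicalComplex.single C (ComplexShape.up ℤ) b).obj L))) :=
      fun i hi => ((HomologicalComplex.exactAt_single_obj _ _ _ _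
        (by omega)).isZero_homology).of_iso ((DerivedCategory.homologyFunctorFactors C i).app _)
    have hSnpc : ∀ m : ℤ, NPC P m (DerivedCategory.Q.obj
        ((HomologicalComplex.single C (ComplexShape.up ℤ) b).obj L)) := fun m =>
      ⟨_, ⟨⟨b, fun i hi => HomologicalComplex.isZero_single_obj_X _ _ _ _ (by omega)⟩,
        fun i _ => by
          by_cases h : i = b
          · subst h
            exact P.prop_of_iso (HomologicalComplex.singleObjXSelf (ComplexShape.up ℤ) i L).symm hL
          · exact P.prop_of_isZero (HomologicalComplex.isZero_single_obj_X _ _ _ _ h)⟩,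
        ⟨Iso.refl _⟩⟩
    obtain ⟨N, g, h', hT, hz⟩ :=
      exists_cone_top_vanish (DerivedCategory.Q.map ζ ≫ eX.hom) b hs hSz hac
    have h3 : ∀ i, NPC (P' i) n ((F i).obj N) := fun i =>
      NPC.cone (P' i) (hsum' i) (hqs' i) (hql' i) n _ ((F i).map_distinguished _ hT)
        (npc_map_single (F i) (P' i) L (ha i L hL) b (n + 1)) (h i)
    have hN : NPC P n N := ih (b - 1) (by push_cast at hbk; omega) N
      (fun i hi => hz i (by omega)) h3
    exact (NPC.two_of_three P hsum hqs hql n _ hT).2.1 (hSnpc n) hN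

include hsum hqs hql hsum' hqs' hql' in
/-- reflection of `n`-pseudo-coherence along a jointly conservative finite family of triangulated
functors. -/
theorem npc_of_npc_map_family'
    (ha : ∀ i, ∀ E : C, P E → ∀ a : ℤ,
      NPC (P' i) a ((F i).obj ((DerivedCategory.singleFunctor C 0).obj E)))
    (hb1 : ∀ i, ∀ (X : DerivedCategory C) (b : ℤ),
      (∀ j : ℤ, b < j → IsZero ((DerivedCategory.homologyFunctor C j).obj X)) →
        ∀ j : ℤ, b < j → IsZero ((DerivedCategory.homologyFunctor (C' i) j).obj ((F i).obj X)))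
    (hb2 : ∀ (X : DerivedCategory C) (b : ℤ),
      (∀ i, ∀ j : ℤ, b < j →
        IsZero ((DerivedCategory.homologyFunctor (C' i) j).obj ((F i).obj X))) →
        ∀ j : ℤ, b < j → IsZero ((DerivedCategory.homologyFunctor C j).obj X))
    (hc : ∀ (X : DerivedCategory C) (b : ℤ),
      (∀ j : ℤ, b < j → IsZero ((DerivedCategory.homologyFunctor C j).obj X)) →
      (∀ i, PCoh.IsOfFiniteType (P' i)
        ((DerivedCategory.homologyFunctor (C' i) b).obj ((F i).obj X))) →
        PCoh.IsOfFiniteType P ((DerivedCategory.homologyFunctor C b).obj X))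
    (n : ℤ) (X : DerivedCategory C) (h : ∀ i, NPC (P' i) n ((F i).obj X)) : NPC P n X := by
  choose bi hbi1 hbi2 using fun i => (h i).exists_bound
  obtain ⟨b₀, hb₀⟩ := (Set.finite_range bi).bddAbove
  let b := max b₀ (n - 1)
  have hbb : ∀ i, bi i ≤ b := fun i => le_trans (hb₀ ⟨i, rfl⟩) (le_max_left _ _)
  refine npc_of_npc_map_family_aux' F P P' hsum hqs hql hsum' hqs' hql' ha hb1 hc n
    (b - (n - 1)).toNat b ?_ X
    (fun j hj => hb2 X b (fun i j hj => hbi2 i j (lt_of_le_of_lt (hbb i) hj)) j hj) h
  have : n - 1 ≤ b := le_max_right _ _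
  rw [Int.toNat_of_nonneg (by omega)]
  omega

end Family'

end Groth.Agent.Lib.helper23.PCohCore
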