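import Mathlib
import Groth.Prelude.Def_Wider
import Groth.Prelude.Def_DDual2
import Groth.Prelude.Def_DRing2
import Groth.Agent.Lib.Helper23.NilDesc2
import Groth.Agent.Lib.Helper23.PCohReflect3
import Groth.Agent.Lib.Helper23.LDer4
import Groth.Agent.Lib.Helper23.DRingPC

/-!
# helper23: descent of pseudo-coherence along a finite family of surjections whose kernels have product zero

* `isPseudoCoherent'_of_family`: `K ⊗^L Rf i` pseudo-coherent for all `i` ⇒ `K` pseudo-coherent
  (`φ i : R →+* Rf i` surjective, `∏ i, ker (φ i) = ⊥`).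
-/

set_option autoImplicit false
universe u
open CategoryTheory CategoryTheory.Limits MonoidalCategory

attribute [local instance] HasDerivedCategory.standard

namespace Groth.Agent.Lib.helper23.NilDesc

open Groth.Agent.Lib.helper23.PCohCore Groth.Agent.Lib.helper23.DRingPC

variable {R : Type u} [CommRing R]

section Family

variable {k : ℕ} (Rf : Fin k → Type u) [∀ i, CommRing (Rf i)] (φ : ∀ i, R →+* Rf i)
  (hφ : ∀ i, Function.Surjective (φ i)) (hprod : ∏ i, RingHom.ker (φ i) = ⊥)

include hφ hprod in
/-- `m`-pseudo-coherence descends along the family. -/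
theorem npc_of_family [∀ i, DRing.HasLBaseChange (φ i)] (K : Dual.D R) (m : ℤ)
    (h : ∀ i, NPC (FF (Rf i)) m ((DRing.LBaseChange (φ i)).obj K)) : NPC (FF R) m K := by
  choose adj _ using fun i => Groth.Agent.Lib.helper13.RKF.exists_adjunction (φ i)
  letI : ∀ i, (DRing.LBaseChange (φ i)).CommShift ℤ := fun i => (adj i).leftAdjointCommShift ℤ
  haveI : ∀ i, (adj i).CommShift ℤ := fun i => (adj i).commShift_of_rightAdjoint ℤ
  haveI : ∀ i, (DRing.LBaseChange (φ i)).IsTriangulated :=
    fun i => (adj i).isTriangulated_leftAdjoint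
  haveI : ∀ i, (DRing.LBaseChange (φ i)).IsRightKanExtension
      ((DRing.baseChangeKh (φ i)).totalLeftDerivedCounit DerivedCategory.Qh
        (HomotopyCategory.quasiIso (ModuleCat.{u} R) (ComplexShape.up ℤ))) := fun i =>
    CategoryTheory.Functor.IsLeftDerivedFunctor.isRightKanExtension _ _
      (HomotopyCategory.quasiIso (ModuleCat.{u} R) (ComplexShape.up ℤ))
  refine npc_of_npc_map_family' (ι := Fin k) (C := ModuleCat.{u} R)
    (C' := fun i => ModuleCat.{u} (Rf i)) (fun i => DRing.LBaseChange (φ i)) (FF R)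
    (fun i => FF (Rf i)) (FF_sum R) (FF_hqs R) (FF_hql R) (fun i => FF_sum (Rf i))
    (fun i => FF_hqs (Rf i)) (fun i => FF_hql (Rf i)) ?_ ?_ ?_ ?_ m K h
  · intro i E hE a
    exact Groth.Agent.Lib.helper23.LDer.npc_leftDerived_baseChange (φ i) (DRing.LBaseChange (φ i))
      ((DRing.baseChangeKh (φ i)).totalLeftDerivedCounit DerivedCategory.Qh
        (HomotopyCategory.quasiIso (ModuleCat.{u} R) (ComplexShape.up ℤ))) _ a
      (NPC.single_of_prop (FF R) hE 0 a)
  · intro i X b hX j hj
    exact isZero_homology_LBaseChange (φ i) X b hX j hj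
  · intro X b hX j hj
    exact isZero_homology_of_family Rf φ hφ hprod X b hX j hj
  · intro X b hX hfin
    rw [isOfFiniteType_iff_finite]
    exact finite_top_homology_of_family Rf φ hφ hprod X b hX
      (fun i => (isOfFiniteType_iff_finite (Rf i) _).1 (hfin i))

include hφ hprod in
/-- pseudo-coherence descends along the family. -/
theorem isPseudoCoherent'_of_family [∀ i, DRing.HasLBaseChange (φ i)] (K : Dual.D R)
    (h : ∀ i, DRing.IsPseudoCoherent' (Rf i) ((DRing.LBaseChange (φ i)).obj K)) :
    DRing.IsPseudoCoherent' R K := by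
  rw [isPseudoCoherent'_iff_npc]
  intro m
  exact npc_of_family Rf φ hφ hprod K m
    (fun i => (isPseudoCoherent'_iff_npc (Rf i) _).1 (h i) m)

end Family

end Groth.Agent.Lib.helper23.NilDesc
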