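import Mathlib
import Groth.Prelude.Def_DRing4
import Groth.Agent.Lib.Helper7.TorAPI
import Groth.Agent.Lib.Helper7.TorAPI2
import Groth.Agent.Lib.Helper13.RKF1
import Groth.Agent.Lib.Helper13.KFlat9
import Groth.Agent.Lib.Helper23.TBC4

/-!
# Tor-independence on the level of complexes (helper23)

* `quasiIsoAt_zero_iff`: for a morphism `f : K ⟶ L` of cochain complexes with `d_K⁰ = 0`, `d_L⁰ = 0`, `d_L⁻¹ = 0`,
  `f` is a quasi-isomorphism in degree `0` iff `K⁻¹ ⟶ K⁰ ⟶ L⁰ ⟶ 0` is exact.
* `exactAt_ext_complex`, `exactAt_ext_cochainComplex`: vanishing of `Tor_{q+1}(A, X)` gives exactness of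
  `A ⊗_R P` in degree `q+1`, for a projective resolution `P` of `X`.
* `quasiIso_extCx_map_π'`: if `Tor_{q+1}(A, X) = 0` for all `q`, then `A ⊗_R P ⟶ A ⊗_R X` is a quasi-isomorphism.
* `exists_torIndep_resolution`: tor-independence data for `R → A`, `R → R'`.
-/

set_option autoImplicit false
universe u
open CategoryTheory CategoryTheory.Limits MonoidalCategory Opposite
open HomologicalComplex

namespace Groth.Agent.Lib.helper23.TIB

section Deg0

variable {C : Type*} [Category C] [Abelian C]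

lemma isIso_opcyclesMap_iff_quasiIsoAt {K L : CochainComplex C ℤ} (f : K ⟶ L)
    (hK : K.d 0 1 = 0) (hL : L.d 0 1 = 0) :
    IsIso (HomologicalComplex.opcyclesMap f 0) ↔ QuasiIsoAt f 0 := by
  rw [quasiIsoAt_iff_isIso_homologyMap]
  haveI := K.isIso_homologyι 0 1 (by simp) hK
  haveI := L.isIso_homologyι 0 1 (by simp) hL
  have h := HomologicalComplex.homologyι_naturality f 0
  constructor
  · intro hf
    have h2 : HomologicalComplex.homologyMap f 0 =
        K.homologyι 0 ≫ HomologicalComplex.opcyclesMap f 0 ≫ inv (L.homologyι 0) := by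
      rw [← Category.assoc, ← h, Category.assoc, IsIso.hom_inv_id, Category.comp_id]
    rw [h2]
    infer_instance
  · intro hf
    have h2 : HomologicalComplex.opcyclesMap f 0 =
        inv (K.homologyι 0) ≫ HomologicalComplex.homologyMap f 0 ≫ L.homologyι 0 := by
      rw [h, IsIso.inv_hom_id_assoc]
    rw [h2]
    infer_instance

lemma isIso_opcyclesMap_iff_exact {K L : CochainComplex C ℤ} (f : K ⟶ L)
    (hL' : L.d (-1) 0 = 0) (w : K.d (-1) 0 ≫ f.f 0 = 0) :
    IsIso (HomologicalComplex.opcyclesMap f 0) ↔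
      ((ShortComplex.mk (K.d (-1) 0) (f.f 0) w).Exact ∧ Epi (f.f 0)) := by
  haveI := L.isIso_pOpcycles (-1) 0 (by simp) hL'
  have hp := HomologicalComplex.p_opcyclesMap f 0
  rw [ShortComplex.exact_and_epi_g_iff_g_is_cokernel]
  constructor
  · intro hf
    have h2 : f.f 0 = K.pOpcycles 0 ≫
        (HomologicalComplex.opcyclesMap f 0 ≫ inv (L.pOpcycles 0)) := by
      rw [← Category.assoc, hp, Category.assoc, IsIso.hom_inv_id, Category.comp_id]
    refine ⟨IsColimit.ofIsoColimit (K.opcyclesIsCokernel (-1) 0 (by simp))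
      (Cofork.ext (asIso (HomologicalComplex.opcyclesMap f 0 ≫ inv (L.pOpcycles 0))) ?_)⟩
    exact h2.symm
  · rintro ⟨hc⟩
    let e := IsColimit.coconePointUniqueUpToIso (K.opcyclesIsCokernel (-1) 0 (by simp)) hc
    have he : K.pOpcycles 0 ≫ e.hom = f.f 0 :=
      IsColimit.comp_coconePointUniqueUpToIso_hom (K.opcyclesIsCokernel (-1) 0 (by simp)) hc
        WalkingParallelPair.one
    have h2 : HomologicalComplex.opcyclesMap f 0 = e.hom ≫ L.pOpcycles 0 := by
      rw [← cancel_epi (K.pOpcycles 0), hp, ← Category.assoc, he]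
    rw [h2]
    infer_instance

/-- a morphism of complexes `K ⟶ L` with `d_K⁰ = 0`, `d_L⁰ = 0`, `d_L⁻¹ = 0` is a quasi-isomorphism in degree `0`
iff `K⁻¹ ⟶ K⁰ ⟶ L⁰ ⟶ 0` is exact -/
lemma quasiIsoAt_zero_iff {K L : CochainComplex C ℤ} (f : K ⟶ L)
    (hK : K.d 0 1 = 0) (hL : L.d 0 1 = 0) (hL' : L.d (-1) 0 = 0) (w : K.d (-1) 0 ≫ f.f 0 = 0) :
    QuasiIsoAt f 0 ↔ ((ShortComplex.mk (K.d (-1) 0) (f.f 0) w).Exact ∧ Epi (f.f 0)) := by
  rw [← isIso_opcyclesMap_iff_quasiIsoAt f hK hL, isIso_opcyclesMap_iff_exact f hL' w]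

end Deg0

section Tor

open Groth.Agent.Lib.helper7.TorAPI Groth.Agent.Lib.helper13.RKF Groth.Agent.Lib.helper13.ExtKFlat

variable {R A : Type u} [CommRing R] [CommRing A] (φ : R →+* A)
variable {X : ModuleCat.{u} R} (P : ProjectiveResolution X)

/-- vanishing of `Tor_{q+1}(A, X)` gives exactness of `A ⊗_R P` in degree `q+1` (chain complex) -/
lemma exactAt_ext_complex (q : ℕ) (h : IsZero ((T (q + 1) (AR φ)).obj X)) :
    (((ModuleCat.extendScalars.{u, u, u} φ).mapHomologicalComplex (ComplexShape.down ℕ)).obj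
      P.complex).ExactAt (q + 1) := by
  have e := P.isoLeftDerivedObj (tF (AR φ)) (q + 1)
  have h1 : IsZero ((((tF (AR φ)).mapHomologicalComplex (ComplexShape.down ℕ)).obj
      P.complex).homology (q + 1)) := h.of_iso e.symm
  have e2 := (NatIso.mapHomologicalComplex (extResIso φ) (ComplexShape.down ℕ)).app P.complex
  have h2 : IsZero ((((ModuleCat.extendScalars.{u, u, u} φ ⋙
      ModuleCat.restrictScalars.{u} φ).mapHomologicalComplex (ComplexShape.down ℕ)).obj
        P.complex).homology (q + 1)) :=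
    h1.of_iso ((HomologicalComplex.homologyFunctor _ _ (q + 1)).mapIso e2)
  rw [← HomologicalComplex.exactAt_iff_isZero_homology] at h2
  exact (ShortComplex.exact_map_iff_of_faithful
    ((((ModuleCat.extendScalars.{u, u, u} φ).mapHomologicalComplex (ComplexShape.down ℕ)).obj
      P.complex).sc (q + 1)) (ModuleCat.restrictScalars.{u} φ)).1 h2

/-- vanishing of `Tor_{q+1}(A, X)` gives exactness of `A ⊗_R P` in degree `-(q+1)` (cochain complex) -/
lemma exactAt_ext_cochainComplex (q : ℕ) (h : IsZero ((T (q + 1) (AR φ)).obj X)) :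
    ((extCx φ).obj P.cochainComplex).ExactAt (-((q : ℤ) + 1)) := by
  have h1 := exactAt_ext_complex φ P q h
  rw [HomologicalComplex.exactAt_iff' _ (q + 2) (q + 1) q (by simp) (by simp)] at h1
  rw [HomologicalComplex.exactAt_iff' _ (-((q : ℤ) + 2)) (-((q : ℤ) + 1)) (-(q : ℤ))
    (by simp; omega) (by simp)]
  refine (ShortComplex.exact_iff_of_iso ?_).2 h1
  refine ShortComplex.isoMk
    ((ModuleCat.extendScalars.{u, u, u} φ).mapIso
      (P.cochainComplexXIso (-((q : ℤ) + 2)) (q + 2) (by push_cast; ring)))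
    ((ModuleCat.extendScalars.{u, u, u} φ).mapIso
      (P.cochainComplexXIso (-((q : ℤ) + 1)) (q + 1) (by push_cast; ring)))
    ((ModuleCat.extendScalars.{u, u, u} φ).mapIso
      (P.cochainComplexXIso (-(q : ℤ)) q rfl)) ?_ ?_
  · change (ModuleCat.extendScalars.{u, u, u} φ).map _ ≫
        (ModuleCat.extendScalars.{u, u, u} φ).map (P.complex.d (q + 2) (q + 1)) =
      (ModuleCat.extendScalars.{u, u, u} φ).map
        (P.cochainComplex.d (-((q : ℤ) + 2)) (-((q : ℤ) + 1))) ≫
        (ModuleCat.extendScalars.{u, u, u} φ).map _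
    rw [← Functor.map_comp, ← Functor.map_comp]
    congr 1
    rw [P.cochainComplex_d (-((q : ℤ) + 2)) (-((q : ℤ) + 1)) (q + 2) (q + 1)
      (by push_cast; ring) (by push_cast; ring)]
    simp
  · change (ModuleCat.extendScalars.{u, u, u} φ).map _ ≫
        (ModuleCat.extendScalars.{u, u, u} φ).map (P.complex.d (q + 1) q) =
      (ModuleCat.extendScalars.{u, u, u} φ).map
        (P.cochainComplex.d (-((q : ℤ) + 1)) (-(q : ℤ))) ≫
        (ModuleCat.extendScalars.{u, u, u} φ).map _
    rw [← Functor.map_comp, ← Functor.map_comp]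
    congr 1
    rw [P.cochainComplex_d (-((q : ℤ) + 1)) (-(q : ℤ)) (q + 1) q
      (by push_cast; ring) rfl]
    simp

lemma quasiIsoAt_ext_zero {N : DRing.Cx R} (hN : IsZero (N.X 1)) (ν : N ⟶ (CochainComplex.singleFunctor (ModuleCat.{u} R) 0).obj X)
    [QuasiIsoAt ν 0] : QuasiIsoAt ((extCx φ).map ν) 0 := by
  have hd : N.d 0 1 = 0 := hN.eq_of_tgt _ _
  have hL : ((CochainComplex.singleFunctor (ModuleCat.{u} R) 0).obj X).d 0 1 = 0 :=
    HomologicalComplex.single_obj_d _ _ _ _ _
  have hL' : ((CochainComplex.singleFunctor (ModuleCat.{u} R) 0).obj X).d (-1) 0 = 0 :=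
    HomologicalComplex.single_obj_d _ _ _ _ _
  have w : N.d (-1) 0 ≫ ν.f 0 = 0 := by
    rw [← ν.comm (-1) 0, hL', comp_zero]
  obtain ⟨h1, h2⟩ := (quasiIsoAt_zero_iff ν hd hL hL' w).1 inferInstance
  have hd' : ((extCx φ).obj N).d 0 1 = 0 := by
    change (ModuleCat.extendScalars.{u, u, u} φ).map (N.d 0 1) = 0
    rw [hd, Functor.map_zero]
  have hL2 : ((extCx φ).obj ((CochainComplex.singleFunctor (ModuleCat.{u} R) 0).obj X)).d 0 1 = 0 := by
    change (ModuleCat.extendScalars.{u, u, u} φ).map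
      (((CochainComplex.singleFunctor (ModuleCat.{u} R) 0).obj X).d 0 1) = 0
    rw [hL, Functor.map_zero]
  have hL2' : ((extCx φ).obj ((CochainComplex.singleFunctor (ModuleCat.{u} R) 0).obj X)).d (-1) 0 = 0 := by
    change (ModuleCat.extendScalars.{u, u, u} φ).map
      (((CochainComplex.singleFunctor (ModuleCat.{u} R) 0).obj X).d (-1) 0) = 0
    rw [hL', Functor.map_zero]
  have w' : ((extCx φ).obj N).d (-1) 0 ≫ ((extCx φ).map ν).f 0 = 0 := by
    change (ModuleCat.extendScalars.{u, u, u} φ).map (N.d (-1) 0) ≫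
      (ModuleCat.extendScalars.{u, u, u} φ).map (ν.f 0) = 0
    rw [← Functor.map_comp, w, Functor.map_zero]
  rw [quasiIsoAt_zero_iff _ hd' hL2 hL2' w']
  haveI := h2
  refine ⟨?_, ?_⟩
  · exact h1.map_of_epi_of_preservesCokernel (ModuleCat.extendScalars.{u, u, u} φ) h2 inferInstance
  · change Epi ((ModuleCat.extendScalars.{u, u, u} φ).map (ν.f 0))
    infer_instance

/-- if `Tor_{q+1}(A, X) = 0` for all `q`, then `A ⊗_R P ⟶ A ⊗_R X` is a quasi-isomorphism, for a projective
resolution `P` of `X` -/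
theorem quasiIso_extCx_map_π' (h : ∀ q : ℕ, IsZero ((T (q + 1) (AR φ)).obj X)) :
    QuasiIso ((extCx φ).map P.π') := by
  rw [quasiIso_iff]
  intro n
  have hz : ∀ m : ℤ, m ≠ 0 →
      IsZero (((extCx φ).obj ((CochainComplex.singleFunctor (ModuleCat.{u} R) 0).obj X)).X m) := by
    intro m hm
    change IsZero ((ModuleCat.extendScalars.{u, u, u} φ).obj
      (((HomologicalComplex.single (ModuleCat.{u} R) (ComplexShape.up ℤ) 0).obj X).X m))
    exact Functor.map_isZero _ (HomologicalComplex.isZero_single_obj_X _ _ _ _ hm)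
  rcases lt_trichotomy n 0 with hn | hn | hn
  · obtain ⟨q, rfl⟩ : ∃ q : ℕ, n = -((q : ℤ) + 1) := ⟨(-n - 1).toNat, by omega⟩
    rw [quasiIsoAt_iff_exactAt _ _ (exactAt_ext_cochainComplex φ P q (h q))]
    exact HomologicalComplex.ExactAt.of_isZero (hz _ (by omega))
  · subst hn
    exact quasiIsoAt_ext_zero φ (CochainComplex.isZero_of_isStrictlyLE _ 0 1 (by omega)) P.π'
  · have h1 : ((extCx φ).obj P.cochainComplex).ExactAt n := by
      apply HomologicalComplex.ExactAt.of_isZero
      change IsZero ((ModuleCat.extendScalars.{u, u, u} φ).obj (P.cochainComplex.X n))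
      exact Functor.map_isZero _ (CochainComplex.isZero_of_isStrictlyLE _ 0 n hn)
    rw [quasiIsoAt_iff_exactAt _ _ h1]
    exact HomologicalComplex.ExactAt.of_isZero (hz _ (by omega))

end Tor

section Final

open Groth.Agent.Lib.helper7.TorAPI Groth.Agent.Lib.helper13.RKF Groth.Agent.Lib.helper13.ExtKFlat
  Groth.Agent.Lib.helper13.KFlat Groth.Agent.Lib.helper23.TBC

variable (R A : Type u) [CommRing R] [CommRing A] [Algebra R A]

/-- `A` with its algebra module structure is `AR (algebraMap R A)` -/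
noncomputable def ofIsoAR : ModuleCat.of R A ≅ AR (algebraMap R A) :=
  LinearEquiv.toModuleIso
    ({ toFun := fun a => a
       invFun := fun a => a
       map_add' := fun _ _ => rfl
       map_smul' := fun r a => Algebra.smul_def r a
       left_inv := fun _ => rfl
       right_inv := fun _ => rfl } : A ≃ₗ[R] (AR (algebraMap R A)))

variable (R' : Type u) [CommRing R'] [Algebra R R']

/-- **Tor-independence data**: if `Tor_p^R(A, R') = 0` for `p ≥ 1`, there is a K-flat resolution `ν : N ⟶ R'` over `R`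
such that `A ⊗_R ν` is a quasi-isomorphism. -/
theorem exists_torIndep_resolution (htor : ∀ p : ℕ, 1 ≤ p → Subsingleton (DRing.Tor R p A R')) :
    ∃ (N : DRing.Cx R) (ν : N ⟶ SR (algebraMap R R')), IsKFlatR N ∧ DRing.TermwiseFlat N ∧
      QuasiIso ν ∧ QuasiIso ((extCx (algebraMap R A)).map ν) := by
  let X := AR (algebraMap R R')
  let P : ProjectiveResolution X := projectiveResolution X
  have hT : ∀ q : ℕ, IsZero ((T (q + 1) (AR (algebraMap R A))).obj X) := by
    intro q
    haveI := htor (q + 1) (by omega)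
    have h0 : IsZero (((Tor (ModuleCat.{u} R) (q + 1)).obj (ModuleCat.of R A)).obj
        (ModuleCat.of R R')) := ModuleCat.isZero_of_subsingleton _
    have e1 := ((Tor (ModuleCat.{u} R) (q + 1)).mapIso (ofIsoAR R A)).app (ModuleCat.of R R')
    have e2 := ((Tor (ModuleCat.{u} R) (q + 1)).obj (AR (algebraMap R A))).mapIso (ofIsoAR R R')
    exact h0.of_iso (e1 ≪≫ e2).symm
  have hfl : DRing.TermwiseFlat P.cochainComplex := fun i => flat_of_projective _
  have hq : QuasiIso P.π' := inferInstance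
  refine ⟨P.cochainComplex, P.π', ?_, hfl, hq, quasiIso_extCx_map_π' _ P hT⟩
  exact isKFlatR_of_bounded_above _ 0
    (fun i hi => CochainComplex.isZero_of_isStrictlyLE _ 0 i hi) hfl

end Final

end Groth.Agent.Lib.helper23.TIB
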