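import Mathlib
import Groth.Prelude.Def_DRing4
import Groth.Agent.Lib.Helper23.TBC4
import Groth.Agent.Lib.Helper23.TBC5
import Groth.Agent.Lib.Helper23.TBC6

/-!
# Tor-independent base change on the level of complexes (helper23)

`quasiIso_extCx_map_of_torIndep`: let `P → A`, `P → P'` be ring maps and `ν : N ⟶ P'` a K-flat resolution over `P` such
that `A ⊗_P ν` is a quasi-isomorphism (tor-independence).  If `F` is a K-flat complex of `A`-modules and
`γ : G ⟶ F|_P` a K-flat resolution over `P`, then `P' ⊗_P γ` is a quasi-isomorphism.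
-/

set_option autoImplicit false
universe u
open CategoryTheory CategoryTheory.Limits MonoidalCategory Opposite
open HomologicalComplex

namespace Groth.Agent.Lib.helper23.TIB

open Groth.Agent.Lib.helper13.ExtKFlat Groth.Agent.Lib.helper13.RKF Groth.Agent.Lib.helper13.KFlat
  Groth.Agent.Lib.helper23.TBC

variable {P P' A : Type u} [CommRing P] [CommRing P'] [CommRing A] (ρ : P →+* P') (φ : P →+* A)

theorem quasiIso_extCx_map_of_torIndep {N : DRing.Cx P} (ν : N ⟶ SR ρ) (hN : IsKFlatR N)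
    [QuasiIso ν] [QuasiIso ((extCx φ).map ν)] (F : DRing.Cx A) (hF : IsKFlatR F) {G : DRing.Cx P}
    (hG : IsKFlatR G) (γ : G ⟶ (resCx φ).obj F) [QuasiIso γ] :
    QuasiIso ((extCx ρ).map γ) := by
  -- `F|_P ◁ ν` is a quasi-isomorphism
  haveI h1 : QuasiIso (F ◁ (extCx φ).map ν) := quasiIso_whiskerLeft_kflat F hF _
  haveI h2 : QuasiIso ((resCx φ).map (F ◁ (extCx φ).map ν)) := by
    show QuasiIso (((ModuleCat.restrictScalars.{u} φ).mapHomologicalComplex
      (ComplexShape.up ℤ)).map (F ◁ (extCx φ).map ν))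
    infer_instance
  have n1 := resTenExtIso_naturality_right φ F ν
  haveI h3 : QuasiIso ((resTenExtIso φ F N).hom ≫ ((resCx φ).obj F ◁ ν)) := by
    rw [← n1]
    infer_instance
  haveI h4 : QuasiIso ((resCx φ).obj F ◁ ν) := quasiIso_of_comp_left (resTenExtIso φ F N).hom _
  -- the square
  haveI h5 : QuasiIso (G ◁ ν) := quasiIso_whiskerLeft_kflat G hG ν
  haveI h6 : QuasiIso (γ ▷ N) := quasiIso_whiskerRight_of_isKFlatR N hN γ
  have sq : (G ◁ ν) ≫ (γ ▷ SR ρ) = (γ ▷ N) ≫ ((resCx φ).obj F ◁ ν) := whisker_exchange γ ν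
  haveI h7 : QuasiIso ((G ◁ ν) ≫ (γ ▷ SR ρ)) := by
    rw [sq]
    infer_instance
  haveI h8 : QuasiIso (γ ▷ SR ρ) := quasiIso_of_comp_left (G ◁ ν) _
  -- transport along `Ξ`
  have n2 := Ξ_naturality ρ γ
  haveI h9 : QuasiIso ((Ξ ρ G).hom ≫ (resCx ρ).map ((extCx ρ).map γ)) := by
    rw [← n2]
    infer_instance
  haveI h10 : QuasiIso ((resCx ρ).map ((extCx ρ).map γ)) := quasiIso_of_comp_left (Ξ ρ G).hom _
  have h11 : QuasiIso (((ModuleCat.restrictScalars.{u} ρ).mapHomologicalComplex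
      (ComplexShape.up ℤ)).map ((extCx ρ).map γ)) := h10
  exact (HomologicalComplex.quasiIso_map_iff_of_preservesHomology _
    (ModuleCat.restrictScalars.{u} ρ)).1 h11

end Groth.Agent.Lib.helper23.TIB
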