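import Mathlib
import Groth.Prelude.Def_TrivBC
import Groth.Prelude.Def_DTen4

/-!
# The base change comparison map for derived categories of rings: generalities (helper23)

For a commutative square of rings `φ : R → A`, `ρ : R → R'`, `α : A → A'`, `φ' : R' → A'`:
* `eqC h Y : Y|_A|_R ≅ Y|_{R'}|_R` (termwise) and `resComm_hom_app_Q`: the value of `TrivBC.resComm h` on `Q.obj Y`;
* `cmpG h adj bdj K`: the comparison map `L (K|_R) ⟶ (M K)|_{R'}` for arbitrary left adjoints `L`, `M` of the
  restriction functors (`TrivBC.cmp` is the case of `DRing.LBaseChange`), its naturality `cmpG_naturality` and its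
  independence of the adjunctions `cmpG_uniq`, `isIso_cmpG_of_isIso`;
* `cmpG_fac`: for `DTen.LBase`, the comparison map at `Q.obj F` is computed on complexes.
-/

set_option autoImplicit false
universe u
open CategoryTheory CategoryTheory.Limits
attribute [local instance] HasDerivedCategory.standard

namespace Groth.Agent.Lib.helper23.TIB

open DTen TrivBC

variable {R A R' A' : Type u} [CommRing R] [CommRing A] [CommRing R'] [CommRing A']
  {φ : R →+* A} {ρ : R →+* R'} {α : A →+* A'} {φ' : R' →+* A'} (h : α.comp φ = φ'.comp ρ)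

/-- the termwise identification `Y|_A|_R ≅ Y|_{R'}|_R` of complexes -/
noncomputable def eqC (Y : DRing.Cx A') :
    (resCx φ).obj ((resCx α).obj Y) ≅ (resCx ρ).obj ((resCx φ').obj Y) :=
  (NatIso.mapHomologicalComplex (resCommMod h) (ComplexShape.up ℤ)).app Y

section
variable {B C E : Type u} [CommRing B] [CommRing C] [CommRing E] (g : C →+* E) (f : B →+* C)

lemma liftingRes₂_iso_hom_app (Y : DRing.Cx E) :
    (liftingRes₂ g f).1.hom.app Y =
      (DRing.restrictD f).map ((resFactors g).hom.app Y) ≫ (resFactors f).hom.app ((resCx g).obj Y) := by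
  change ((Functor.associator _ _ _).symm ≪≫
    Functor.isoWhiskerRight (ModuleCat.restrictScalars.{u} g).mapDerivedCategoryFactors _ ≪≫
      Functor.associator _ _ _ ≪≫
        Functor.isoWhiskerLeft _ (ModuleCat.restrictScalars.{u} f).mapDerivedCategoryFactors).hom.app Y = _
  simp

lemma liftingRes₂_iso_inv_app (Y : DRing.Cx E) :
    (liftingRes₂ g f).1.inv.app Y =
      (resFactors f).inv.app ((resCx g).obj Y) ≫ (DRing.restrictD f).map ((resFactors g).inv.app Y) := by
  change ((Functor.associator _ _ _).symm ≪≫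
    Functor.isoWhiskerRight (ModuleCat.restrictScalars.{u} g).mapDerivedCategoryFactors _ ≪≫
      Functor.associator _ _ _ ≪≫
        Functor.isoWhiskerLeft _ (ModuleCat.restrictScalars.{u} f).mapDerivedCategoryFactors).inv.app Y = _
  simp

end

lemma resComm_hom_app_Q (Y : DRing.Cx A') :
    (resComm h).hom.app (DerivedCategory.Q.obj Y) =
      (DRing.restrictD φ).map ((resFactors α).hom.app Y) ≫
        (resFactors φ).hom.app ((resCx α).obj Y) ≫ DerivedCategory.Q.map (eqC h Y).hom ≫
          (resFactors ρ).inv.app ((resCx φ').obj Y) ≫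
            (DRing.restrictD ρ).map ((resFactors φ').inv.app Y) := by
  letI i1 := liftingRes₂ α φ
  letI i2 := liftingRes₂ φ' ρ
  have h0 := Localization.liftNatTrans_app DerivedCategory.Q
    (HomologicalComplex.quasiIso (ModuleCat.{u} A') (ComplexShape.up ℤ)) _ _
    (DRing.restrictD α ⋙ DRing.restrictD φ) (DRing.restrictD φ' ⋙ DRing.restrictD ρ)
    (resCommCx h).hom Y
  refine Eq.trans h0 ?_
  have e1 : (Localization.Lifting.iso DerivedCategory.Q
      (HomologicalComplex.quasiIso (ModuleCat.{u} A') (ComplexShape.up ℤ)) _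
      (DRing.restrictD α ⋙ DRing.restrictD φ)).hom.app Y = _ := liftingRes₂_iso_hom_app α φ Y
  have e2 : (Localization.Lifting.iso DerivedCategory.Q
      (HomologicalComplex.quasiIso (ModuleCat.{u} A') (ComplexShape.up ℤ)) _
      (DRing.restrictD φ' ⋙ DRing.restrictD ρ)).inv.app Y = _ := liftingRes₂_iso_inv_app φ' ρ Y
  rw [e1, e2]
  have e3 : (resCommCx h).hom.app Y = DerivedCategory.Q.map (eqC h Y).hom := by
    dsimp [resCommCx, eqC]
    congr 1
  rw [e3]
  simp only [Category.assoc]

section CmpG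

variable {L : Dual.D R ⥤ Dual.D R'} {M : Dual.D A ⥤ Dual.D A'}
  (adj : L ⊣ DRing.restrictD ρ) (bdj : M ⊣ DRing.restrictD α)

/-- the base change comparison map for arbitrary left adjoints of the restriction functors -/
noncomputable def cmpG (K : Dual.D A) :
    L.obj ((DRing.restrictD φ).obj K) ⟶ (DRing.restrictD φ').obj (M.obj K) :=
  (adj.homEquiv _ _).symm
    ((DRing.restrictD φ).map (bdj.unit.app K) ≫ (resComm h).hom.app (M.obj K))

lemma homEquiv_cmpG (K : Dual.D A) :
    adj.homEquiv _ _ (cmpG h adj bdj K) =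
      (DRing.restrictD φ).map (bdj.unit.app K) ≫ (resComm h).hom.app (M.obj K) :=
  Equiv.apply_symm_apply _ _

lemma cmpG_naturality {K K' : Dual.D A} (k : K ⟶ K') :
    L.map ((DRing.restrictD φ).map k) ≫ cmpG h adj bdj K' =
      cmpG h adj bdj K ≫ (DRing.restrictD φ').map (M.map k) := by
  apply (adj.homEquiv _ _).injective
  rw [Adjunction.homEquiv_naturality_left, Adjunction.homEquiv_naturality_right, homEquiv_cmpG,
    homEquiv_cmpG]
  have h1 := bdj.unit.naturality k
  have h2 := (resComm h).hom.naturality (M.map k)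
  dsimp at h1 h2
  rw [← Category.assoc, ← Functor.map_comp, h1, Functor.map_comp, Category.assoc, Category.assoc,
    h2]

end CmpG

section Uniq

variable {L₁ L₂ : Dual.D R ⥤ Dual.D R'} {M₁ M₂ : Dual.D A ⥤ Dual.D A'}
  (adj₁ : L₁ ⊣ DRing.restrictD ρ) (adj₂ : L₂ ⊣ DRing.restrictD ρ)
  (bdj₁ : M₁ ⊣ DRing.restrictD α) (bdj₂ : M₂ ⊣ DRing.restrictD α)

lemma cmpG_uniq (K : Dual.D A) :
    cmpG h adj₁ bdj₁ K ≫ (DRing.restrictD φ').map ((bdj₁.leftAdjointUniq bdj₂).hom.app K) =
      (adj₁.leftAdjointUniq adj₂).hom.app _ ≫ cmpG h adj₂ bdj₂ K := by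
  apply (adj₁.homEquiv _ _).injective
  rw [Adjunction.homEquiv_naturality_right, homEquiv_cmpG]
  have e1 : adj₁.homEquiv _ _ ((adj₁.leftAdjointUniq adj₂).hom.app _ ≫ cmpG h adj₂ bdj₂ K) =
      adj₂.homEquiv _ _ (cmpG h adj₂ bdj₂ K) := by
    rw [Adjunction.homEquiv_unit, Adjunction.homEquiv_unit, Functor.map_comp, ← Category.assoc,
      Adjunction.unit_leftAdjointUniq_hom_app adj₁ adj₂]
  rw [e1, homEquiv_cmpG]
  have h2 := (resComm h).hom.naturality ((bdj₁.leftAdjointUniq bdj₂).hom.app K)
  dsimp at h2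
  rw [Category.assoc, ← h2, ← Category.assoc, ← Functor.map_comp,
    Adjunction.unit_leftAdjointUniq_hom_app bdj₁ bdj₂]

lemma isIso_cmpG_of_isIso (K : Dual.D A) [IsIso (cmpG h adj₂ bdj₂ K)] :
    IsIso (cmpG h adj₁ bdj₁ K) := by
  have e := cmpG_uniq h adj₁ adj₂ bdj₁ bdj₂ K
  have e2 : cmpG h adj₁ bdj₁ K = ((adj₁.leftAdjointUniq adj₂).hom.app _ ≫ cmpG h adj₂ bdj₂ K) ≫
      inv ((DRing.restrictD φ').map ((bdj₁.leftAdjointUniq bdj₂).hom.app K)) := by
    rw [← e, Category.assoc, IsIso.hom_inv_id, Category.comp_id]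
  rw [e2]
  infer_instance

end Uniq

section Fac

variable [DTen.HasLBase ρ] [DTen.HasLBase α]

/-- the comparison map at `Q.obj F`, computed on complexes -/
theorem cmpG_fac (F : DRing.Cx A) {G : DRing.Cx R} (γ : G ⟶ (resCx φ).obj F)
    (Λ : (extCx ρ).obj ((resCx φ).obj F) ⟶ (resCx φ').obj ((extCx α).obj F))
    (hΛ : (unitCx ρ).app ((resCx φ).obj F) ≫ (resCx ρ).map Λ =
      (resCx φ).map ((unitCx α).app F) ≫ (eqC h ((extCx α).obj F)).hom) :
    (LBase ρ).map (DerivedCategory.Q.map γ ≫ (resFactors φ).inv.app F) ≫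
        cmpG h (baseAdj ρ) (baseAdj α) (DerivedCategory.Q.obj F) ≫
          (DRing.restrictD φ').map ((baseCmp α).app F) ≫
            (resFactors φ').hom.app ((extCx α).obj F) =
      (baseCmp ρ).app G ≫ DerivedCategory.Q.map ((extCx ρ).map γ ≫ Λ) := by
  apply ((baseAdj ρ).homEquiv _ _).injective
  -- the chain level identity
  have key : (unitCx ρ).app G ≫ (resCx ρ).map ((extCx ρ).map γ ≫ Λ) =
      γ ≫ (resCx φ).map ((unitCx α).app F) ≫ (eqC h ((extCx α).obj F)).hom := by
    have n1 := (unitCx ρ).naturality γ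
    dsimp at n1
    rw [Functor.map_comp, ← Category.assoc, ← n1, Category.assoc, hΛ]
  -- right hand side
  have rhs : (baseAdj ρ).homEquiv _ _
      ((baseCmp ρ).app G ≫ DerivedCategory.Q.map ((extCx ρ).map γ ≫ Λ)) =
      DerivedCategory.Q.map (γ ≫ (resCx φ).map ((unitCx α).app F) ≫
        (eqC h ((extCx α).obj F)).hom) ≫
        (resFactors ρ).inv.app ((resCx φ').obj ((extCx α).obj F)) := by
    rw [Adjunction.homEquiv_naturality_right, Adjunction.homEquiv_unit, baseCmp_fac]
    have n2 := (resFactors ρ).inv.naturality ((extCx ρ).map γ ≫ Λ)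
    dsimp at n2
    dsimp [baseγ]
    rw [Category.assoc, ← n2, ← Category.assoc, ← Functor.map_comp, key]
  refine Eq.trans ?_ rhs.symm
  -- left hand side
  rw [Adjunction.homEquiv_naturality_left, Adjunction.homEquiv_naturality_right]
  erw [homEquiv_cmpG h (baseAdj ρ) (baseAdj α) (DerivedCategory.Q.obj F)]
  have n3 := (resComm h).hom.naturality ((baseCmp α).app F)
  dsimp at n3
  have n4 := baseCmp_fac α F
  have n5 := (resFactors φ).hom.naturality ((unitCx α).app F)
  dsimp at n5
  simp only [Functor.map_comp, Category.assoc]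
  rw [← reassoc_of% n3, ← Functor.map_comp_assoc, n4, resComm_hom_app_Q]
  dsimp [baseγ]
  simp only [Functor.map_comp, Category.assoc]
  have c1 : (DRing.restrictD φ).map ((resFactors α).inv.app ((extCx α).obj F)) ≫
      (DRing.restrictD φ).map ((resFactors α).hom.app ((extCx α).obj F)) = 𝟙 _ := by
    rw [← Functor.map_comp, Iso.inv_hom_id_app, CategoryTheory.Functor.map_id]
  have c2 : (DRing.restrictD ρ).map ((resFactors φ').inv.app ((extCx α).obj F)) ≫
      (DRing.restrictD ρ).map ((resFactors φ').hom.app ((extCx α).obj F)) = 𝟙 _ := by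
    rw [← Functor.map_comp, Iso.inv_hom_id_app, CategoryTheory.Functor.map_id]
  rw [reassoc_of% c1, c2]
  erw [Category.comp_id]
  rw [reassoc_of% n5, Iso.inv_hom_id_app_assoc]

end Fac

end Groth.Agent.Lib.helper23.TIB
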