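import Mathlib
import Groth.Prelude.Def_TrivBC
import Groth.Prelude.Def_DTen4
import Groth.Agent.Lib.Helper13.RKF2
import Groth.Agent.Lib.Helper23.TIB1
import Groth.Agent.Lib.Helper23.TIB2
import Groth.Agent.Lib.Helper23.TIB3

/-!
# Tor-independent base change in derived categories of rings (helper23)

`isIso_cmp`: for a cocartesian square `R → A`, `R → R'`, `A' = A ⊗_R R'` with `Tor_p^R(A, R') = 0` for `p ≥ 1`, the
comparison map `(K|_R) ⊗^L_R R' ⟶ (K ⊗^L_A A')|_{R'}` is an isomorphism for every `K` in `D(A)`.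
-/

set_option autoImplicit false
universe u
open CategoryTheory CategoryTheory.Limits
attribute [local instance] HasDerivedCategory.standard

namespace Groth.Agent.Lib.helper23.TIB

open DTen TrivBC Groth.Agent.Lib.helper23.TBC Groth.Agent.Lib.helper13.RKF
  Groth.Agent.Lib.helper13.KFlat

variable {R A R' A' : Type u} [CommRing R] [CommRing A] [CommRing R'] [CommRing A']
  [Algebra R A] [Algebra R R'] [Algebra A A'] [Algebra R' A'] [Algebra R A']
  [IsScalarTower R A A'] [IsScalarTower R R' A']

lemma eqC_eq_eqY (h : (algebraMap A A').comp (algebraMap R A) =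
    (algebraMap R' A').comp (algebraMap R R')) (Y : DRing.Cx A') :
    (eqC h Y).hom = (eqY R R' Y).hom := by
  ext n : 1
  rfl

lemma unitCx_eq {S T : Type u} [CommRing S] [CommRing T] (f : S →+* T) (K : DRing.Cx S) :
    (unitCx f).app K = (adjCx (adjE f)).unit.app K := by
  ext n : 1
  rfl

variable [Algebra.IsPushout R R' A A']

lemma unit_comp_Λ (h : (algebraMap A A').comp (algebraMap R A) =
    (algebraMap R' A').comp (algebraMap R R')) (F : DRing.Cx A) :
    (unitCx (algebraMap R R')).app ((resCx (algebraMap R A)).obj F) ≫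
        (resCx (algebraMap R R')).map (Λ R R' A' F).hom =
      (resCx (algebraMap R A)).map ((unitCx (algebraMap A A')).app F) ≫
        (eqC h ((extCx (algebraMap A A')).obj F)).hom := by
  let c : F ⟶ (Groth.Agent.Lib.helper13.ExtKFlat.resCx (algebraMap A A')).obj
      ((Groth.Agent.Lib.helper13.ExtKFlat.extCx (algebraMap A A')).obj F) :=
    (adjCx (adjE (algebraMap A A'))).unit.app F
  have h1 := Λ_comp_transpose (P := R) (P' := R') (A' := A') (F := F)
    (Y' := (Groth.Agent.Lib.helper13.ExtKFlat.extCx (algebraMap A A')).obj F) c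
  have h2 : ((adjCx (adjE (algebraMap A A'))).homEquiv F
      ((Groth.Agent.Lib.helper13.ExtKFlat.extCx (algebraMap A A')).obj F)).symm c = 𝟙 _ := by
    rw [Equiv.symm_apply_eq, Adjunction.homEquiv_id]
  rw [h2, CategoryTheory.Functor.map_id, Category.comp_id] at h1
  rw [unitCx_eq, unitCx_eq, eqC_eq_eqY]
  have h3 := (Adjunction.homEquiv_unit (adj := adjCx (adjE (algebraMap R R')))
    (f := (Λ R R' A' F).hom)).symm
  refine Eq.trans h3 ?_
  rw [h1, Equiv.apply_symm_apply]

/-- the comparison map at a K-flat complex, given tor-independence data -/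
theorem isIso_cmpG_Q (h : (algebraMap A A').comp (algebraMap R A) =
      (algebraMap R' A').comp (algebraMap R R'))
    [DTen.HasLBase (algebraMap R R')] [DTen.HasLBase (algebraMap A A')]
    {N : DRing.Cx R} (ν : N ⟶ SR (algebraMap R R')) (hN : IsKFlatR N) [QuasiIso ν]
    [QuasiIso ((Groth.Agent.Lib.helper13.ExtKFlat.extCx (algebraMap R A)).map ν)]
    (F : DRing.Cx A) (hF : IsKFlatR F) :
    IsIso (cmpG h (baseAdj (algebraMap R R')) (baseAdj (algebraMap A A'))
      (DerivedCategory.Q.obj F)) := by
  obtain ⟨G, γ, hG, hγ⟩ := exists_res ((resCx (algebraMap R A)).obj F)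
  haveI := hγ
  have fac := cmpG_fac h F γ (Λ R R' A' F).hom (unit_comp_Λ h F)
  haveI q1 : QuasiIso ((extCx (algebraMap R R')).map γ) :=
    quasiIso_extCx_map_of_torIndep (algebraMap R R') (algebraMap R A) ν hN F hF hG γ
  haveI i1 : IsIso (DerivedCategory.Q.map γ) := by
    rw [DerivedCategory.isIso_Q_map_iff_quasiIso]
    infer_instance
  haveI i2 : IsIso ((baseCmp (algebraMap A A')).app F) := isIso_baseCmp _ F hF
  haveI i3 : IsIso ((baseCmp (algebraMap R R')).app G) := isIso_baseCmp _ G hG
  haveI i4 : IsIso (DerivedCategory.Q.map ((extCx (algebraMap R R')).map γ ≫ (Λ R R' A' F).hom)) := by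
    rw [DerivedCategory.isIso_Q_map_iff_quasiIso]
    infer_instance
  haveI i5 : IsIso ((LBase (algebraMap R R')).map
      (DerivedCategory.Q.map γ ≫ (resFactors (algebraMap R A)).inv.app F)) := inferInstance
  haveI i6 : IsIso ((DRing.restrictD (algebraMap R' A')).map ((baseCmp (algebraMap A A')).app F) ≫
      (resFactors (algebraMap R' A')).hom.app ((extCx (algebraMap A A')).obj F)) := inferInstance
  have i7 : IsIso ((LBase (algebraMap R R')).map
      (DerivedCategory.Q.map γ ≫ (resFactors (algebraMap R A)).inv.app F) ≫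
        cmpG h (baseAdj (algebraMap R R')) (baseAdj (algebraMap A A')) (DerivedCategory.Q.obj F) ≫
          (DRing.restrictD (algebraMap R' A')).map ((baseCmp (algebraMap A A')).app F) ≫
            (resFactors (algebraMap R' A')).hom.app ((extCx (algebraMap A A')).obj F)) := by
    rw [fac]
    infer_instance
  have i8 := @IsIso.of_isIso_comp_left _ _ _ _ _ _ _ i5 i7
  exact @IsIso.of_isIso_comp_right _ _ _ _ _ _ _ i6 i8

end Groth.Agent.Lib.helper23.TIB

namespace Groth.Agent.Lib.helper23.TIB

open DTen TrivBC Groth.Agent.Lib.helper23.TBC Groth.Agent.Lib.helper13.RKF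
  Groth.Agent.Lib.helper13.KFlat

/-- **tor-independent base change**: the comparison map `(K|_R) ⊗^L_R R' ⟶ (K ⊗^L_A A')|_{R'}` is an isomorphism -/
theorem isIso_cmp (R A R' A' : Type u) [CommRing R] [CommRing A] [CommRing R'] [CommRing A']
    [Algebra R A] [Algebra R R'] [Algebra A A'] [Algebra R' A'] [Algebra R A'] [IsScalarTower R A A']
    [IsScalarTower R R' A'] [Algebra.IsPushout R A R' A']
    (htor : ∀ p : ℕ, 1 ≤ p → Subsingleton (DRing.Tor R p A R'))
    [DRing.HasLBaseChange (algebraMap R R')] [DRing.HasLBaseChange (algebraMap A A')]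
    (adjρ : DRing.LBaseChange (algebraMap R R') ⊣ DRing.restrictD (algebraMap R R'))
    (adjα : DRing.LBaseChange (algebraMap A A') ⊣ DRing.restrictD (algebraMap A A'))
    (h : (algebraMap A A').comp (algebraMap R A) = (algebraMap R' A').comp (algebraMap R R'))
    (K : Dual.D A) : IsIso (TrivBC.cmp adjρ adjα h K) := by
  haveI : Algebra.IsPushout R R' A A' := Algebra.IsPushout.symm inferInstance
  haveI : DTen.HasLBase (algebraMap R R') := ⟨adjρ.isRightAdjoint⟩
  haveI : DTen.HasLBase (algebraMap A A') := ⟨adjα.isRightAdjoint⟩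
  obtain ⟨N, ν, hN, -, hν, hν'⟩ := exists_torIndep_resolution R A R' htor
  obtain ⟨F₀, ⟨e₀⟩⟩ : ∃ F₀ : DRing.Cx A, Nonempty (DerivedCategory.Q.obj F₀ ≅ K) :=
    ⟨_, ⟨DerivedCategory.Q.objObjPreimageIso K⟩⟩
  obtain ⟨F, f, hF, hf⟩ := exists_res F₀
  haveI i0 : IsIso (DerivedCategory.Q.map f) := by
    rw [DerivedCategory.isIso_Q_map_iff_quasiIso]
    exact hf
  let e : DerivedCategory.Q.obj F ≅ K := asIso (DerivedCategory.Q.map f) ≪≫ e₀
  haveI i1 := isIso_cmpG_Q h ν hN F hF
  have nat := cmpG_naturality h (baseAdj (algebraMap R R')) (baseAdj (algebraMap A A')) e.hom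
  haveI i2 : IsIso (cmpG h (baseAdj (algebraMap R R')) (baseAdj (algebraMap A A')) K) := by
    have e2 : cmpG h (baseAdj (algebraMap R R')) (baseAdj (algebraMap A A')) K =
        inv ((LBase (algebraMap R R')).map ((DRing.restrictD (algebraMap R A)).map e.hom)) ≫
          cmpG h (baseAdj (algebraMap R R')) (baseAdj (algebraMap A A')) (DerivedCategory.Q.obj F) ≫
            (DRing.restrictD (algebraMap R' A')).map ((LBase (algebraMap A A')).map e.hom) := by
      rw [← nat, IsIso.inv_hom_id_assoc]
    rw [e2]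
    infer_instance
  exact isIso_cmpG_of_isIso h adjρ (baseAdj (algebraMap R R')) adjα (baseAdj (algebraMap A A')) K

end Groth.Agent.Lib.helper23.TIB
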