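import Mathlib
import Groth.Prelude.Def_TrivBC
import Groth.Prelude.Def_DualSh
import Groth.Agent.Lib.Helper23.TIB4
import Groth.Agent.Lib.Helper23.NilDesc3
import Groth.Agent.Lib.Helper7.TorAPI2

/-!
# Relative perfectness lifts along a nilpotent thickening of the base (helper23)

`R' → A'` flat, `R' → R` surjective with nilpotent kernel, `A = R ⊗_{R'} A'`.
* `includeRight_surjective`, `prod_ker_includeRight`: `A' → A` is surjective with nilpotent kernel;
* `isRelPerfect_of_LBaseChange`: if `K' ⊗^L_{A'} A` is `R`-perfect then `K'` is `R'`-perfect.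
-/

set_option autoImplicit false
universe u
open CategoryTheory CategoryTheory.Limits TensorProduct
attribute [local instance] HasDerivedCategory.standard

namespace Groth.Agent.Lib.helper23.TIB

attribute [local instance] Algebra.TensorProduct.rightAlgebra

section Ring

variable {R' A' R : Type u} [CommRing R'] [CommRing A'] [Algebra R' A'] [CommRing R] [Algebra R' R]

lemma includeRight_surjective (hs : Function.Surjective (algebraMap R' R)) :
    Function.Surjective (Algebra.TensorProduct.includeRight : A' →ₐ[R'] R ⊗[R'] A') := by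
  intro x
  induction x using TensorProduct.induction_on with
  | zero => exact ⟨0, map_zero _⟩
  | tmul r a =>
    obtain ⟨r', rfl⟩ := hs r
    refine ⟨r' • a, ?_⟩
    rw [Algebra.TensorProduct.includeRight_apply, Algebra.algebraMap_eq_smul_one,
      TensorProduct.smul_tmul]
  | add x y hx hy =>
    obtain ⟨p, rfl⟩ := hx
    obtain ⟨q, rfl⟩ := hy
    exact ⟨p + q, map_add _ _ _⟩

lemma ker_includeRight_le (hs : Function.Surjective (algebraMap R' R)) :
    RingHom.ker (Algebra.TensorProduct.includeRight.toRingHom : A' →+* R ⊗[R'] A') ≤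
      (RingHom.ker (algebraMap R' R)).map (algebraMap R' A') := by
  intro x hx
  let I := RingHom.ker (algebraMap R' R)
  -- the `R'`-linear map `R → R'/I`
  let e : R ≃+* R' ⧸ I := (RingHom.quotientKerEquivOfSurjective hs).symm
  let g : R →ₗ[R'] R' ⧸ I :=
    { toFun := e
      map_add' := map_add e
      map_smul' := fun r' r => by
        obtain ⟨s, rfl⟩ := hs r
        show e (r' • algebraMap R' R s) = r' • e (algebraMap R' R s)
        have h1 : ∀ t : R', e (algebraMap R' R t) = Ideal.Quotient.mk I t := by
          intro t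
          show (RingHom.quotientKerEquivOfSurjective hs).symm (algebraMap R' R t) = _
          rw [RingEquiv.symm_apply_eq]
          rfl
        have h2 : r' • algebraMap R' R s = algebraMap R' R (r' * s) := by
          rw [Algebra.smul_def, map_mul]
        rw [h2, h1, h1, map_mul]
        rfl }
  have hg1 : g 1 = 1 := map_one e
  have h0 : (1 : R) ⊗ₜ[R'] x = 0 := hx
  have h1 : (g.rTensor A') ((1 : R) ⊗ₜ[R'] x) = 0 := by rw [h0, map_zero]
  rw [LinearMap.rTensor_tmul, hg1] at h1
  have h2 := congrArg (TensorProduct.quotTensorEquivQuotSMul A' I) h1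
  rw [TensorProduct.quotTensorEquivQuotSMul_mk_one_tmul, map_zero,
    Submodule.Quotient.mk_eq_zero, Ideal.smul_top_eq_map] at h2
  exact h2

lemma prod_ker_includeRight (hs : Function.Surjective (algebraMap R' R)) (n : ℕ)
    (hn : RingHom.ker (algebraMap R' R) ^ n = 0) :
    ∏ _i : Fin n, RingHom.ker
      (Algebra.TensorProduct.includeRight.toRingHom : A' →+* R ⊗[R'] A') = ⊥ := by
  rw [Finset.prod_const, Finset.card_univ, Fintype.card_fin, eq_bot_iff]
  refine (Ideal.pow_right_mono (ker_includeRight_le hs) n).trans ?_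
  rw [← Ideal.map_pow, hn, Ideal.zero_eq_bot, Ideal.map_bot]

end Ring

section Main

open Groth.Agent.Lib.helper23.NilDesc Groth.Agent.Lib.helper13.RKF Groth.Agent.Lib.helper7.TorAPI
  Groth.Agent.Lib.helper23.TA

theorem isRelPerfect_of_LBaseChange (R' A' R : Type u) [CommRing R'] [CommRing A'] [Algebra R' A']
    [CommRing R] [Algebra R' R] [Module.Flat R' A']
    (hs : Function.Surjective (algebraMap R' R)) (hn : IsNilpotent (RingHom.ker (algebraMap R' R)))
    [DRing.HasLBaseChange (Algebra.TensorProduct.includeRight.toRingHom : A' →+* R ⊗[R'] A')]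
    (K' : Dual.D A')
    (hK : Dual2.IsRelPerfect R (R ⊗[R'] A')
      ((DRing.LBaseChange
        (Algebra.TensorProduct.includeRight.toRingHom : A' →+* R ⊗[R'] A')).obj K')) :
    Dual2.IsRelPerfect R' A' K' := by
  obtain ⟨n, hn⟩ := hn
  obtain ⟨hpc, a, b, hab⟩ := hK
  refine ⟨?_, a, b, ?_⟩
  · -- pseudo-coherence
    exact isPseudoCoherent'_of_family (k := n) (fun _ => R ⊗[R'] A')
      (fun _ => (Algebra.TensorProduct.includeRight.toRingHom : A' →+* R ⊗[R'] A'))
      (fun _ => includeRight_surjective hs) (prod_ker_includeRight hs n hn) K' (fun _ => hpc)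
  · -- tor amplitude
    haveI : DRing.HasLBaseChange (algebraMap R' R) := hasLBaseChange _
    haveI : DRing.HasLBaseChange (algebraMap A' (R ⊗[R'] A')) :=
      (inferInstance : DRing.HasLBaseChange
        (Algebra.TensorProduct.includeRight.toRingHom : A' →+* R ⊗[R'] A'))
    obtain ⟨adjρ, -⟩ := exists_adjunction (algebraMap R' R)
    obtain ⟨adjα, -⟩ := exists_adjunction (algebraMap A' (R ⊗[R'] A'))
    haveI p1 : Algebra.IsPushout R' A' R (R ⊗[R'] A') := TensorProduct.isPushout'
    have h : (algebraMap A' (R ⊗[R'] A')).comp (algebraMap R' A') =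
        (algebraMap R (R ⊗[R'] A')).comp (algebraMap R' R) := by
      rw [← IsScalarTower.algebraMap_eq, ← IsScalarTower.algebraMap_eq]
    have htor : ∀ p : ℕ, 1 ≤ p → Subsingleton (DRing.Tor R' p A' R) := by
      intro p hp
      obtain ⟨q, rfl⟩ : ∃ q, p = q + 1 := ⟨p - 1, by omega⟩
      haveI : Module.Flat R' (ModuleCat.of R' A') := inferInstanceAs (Module.Flat R' A')
      exact ModuleCat.subsingleton_of_isZero
        (isZero_T_flat (ModuleCat.of R' A') (ModuleCat.of R' R) q)
    haveI := isIso_cmp R' A' R (R ⊗[R'] A') htor adjρ adjα h K'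
    have hab' : DRing.HasTorAmplitudeIn R a b ((DRing.LBaseChange (algebraMap R' R)).obj
        ((DRing.restrictD (algebraMap R' A')).obj K')) :=
      hasTorAmplitudeIn_of_iso (asIso (TrivBC.cmp adjρ adjα h K')).symm hab
    refine hasTorAmplitudeIn_of_family (k := n) (fun _ => R) (fun _ => algebraMap R' R)
      (fun _ => hs) ?_ _ a b (fun _ => hab')
    rw [Finset.prod_const, Finset.card_univ, Fintype.card_fin, hn, Ideal.zero_eq_bot]

end Main

end Groth.Agent.Lib.helper23.TIB
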