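import Mathlib

/-!
# Restriction of scalars along a ring epimorphism (helper23)

* `map_smul_of_isEpi`: for an epi `R → S` of commutative rings, `R`-linear maps between `S`-modules are `S`-linear.
* `exists_preimage`: `ModuleCat.restrictScalars φ` is full for `φ` an epimorphism of commutative rings.
* `isKInjective_of_restrict`: a complex of `S`-modules whose restriction to `R` is K-injective is K-injective.
-/

open CategoryTheory TensorProduct

universe u

namespace Groth.Agent.Lib.helper23.EpiRes

theorem map_smul_of_isEpi {R S : Type*} [CommRing R] [CommRing S] [Algebra R S] [Algebra.IsEpi R S]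
    {M N : Type*} [AddCommGroup M] [AddCommGroup N] [Module R M] [Module S M] [IsScalarTower R S M]
    [Module R N] [Module S N] [IsScalarTower R S N] (g : M →ₗ[R] N) (s : S) (m : M) :
    g (s • m) = s • g m := by
  let B : S ⊗[R] S →ₗ[R] N := TensorProduct.lift
    { toFun := fun a =>
        { toFun := fun b => a • g (b • m)
          map_add' := fun b b' => by simp [add_smul]
          map_smul' := fun r b => by simp [smul_comm a r] }
      map_add' := fun a a' => by ext b; simp [add_smul]
      map_smul' := fun r a => by ext b; simp }
  have h := congrArg B ((Algebra.isEpi_iff_forall_one_tmul_eq R S).mp inferInstance s)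
  simpa [B] using h

variable {R S : Type u} [CommRing R] [CommRing S] (φ : R →+* S)
  (hφ : Epi (CommRingCat.ofHom φ))

include hφ in
theorem exists_preimage (M N : ModuleCat.{u} S)
    (g : (ModuleCat.restrictScalars φ).obj M ⟶ (ModuleCat.restrictScalars φ).obj N) :
    ∃ g' : M ⟶ N, (ModuleCat.restrictScalars φ).map g' = g := by
  letI := φ.toAlgebra
  haveI : Algebra.IsEpi R S := CommRingCat.epi_iff_epi.mp hφ
  letI : Module R M := Module.compHom M φ
  letI : Module R N := Module.compHom N φ
  haveI : IsScalarTower R S M :=
    ⟨fun r s m => by show (φ r * s) • m = φ r • (s • m); rw [mul_smul]⟩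
  haveI : IsScalarTower R S N :=
    ⟨fun r s m => by show (φ r * s) • m = φ r • (s • m); rw [mul_smul]⟩
  let g₀ : M →ₗ[R] N := g.hom
  refine ⟨ModuleCat.ofHom
    { toFun := g₀, map_add' := g₀.map_add, map_smul' := fun s m => map_smul_of_isEpi g₀ s m }, ?_⟩
  ext m
  rfl

include hφ in
theorem isKInjective_of_restrict (I : CochainComplex (ModuleCat.{u} S) ℤ)
    [CochainComplex.IsKInjective
      (((ModuleCat.restrictScalars φ).mapHomologicalComplex (ComplexShape.up ℤ)).obj I)] :
    CochainComplex.IsKInjective I := by
  refine ⟨fun {M} f hM => ?_⟩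
  have hM' : (((ModuleCat.restrictScalars φ).mapHomologicalComplex (ComplexShape.up ℤ)).obj
      M).Acyclic := by
    intro i
    have h := hM i
    rw [HomologicalComplex.exactAt_iff] at h ⊢
    exact h.map (ModuleCat.restrictScalars φ)
  obtain ⟨h0⟩ := CochainComplex.IsKInjective.nonempty_homotopy_zero
    (((ModuleCat.restrictScalars φ).mapHomologicalComplex (ComplexShape.up ℤ)).map f) hM'
  choose lift hlift using fun (i j : ℤ) =>
    exists_preimage φ hφ (M.X i) (I.X j) (h0.hom i j)
  refine ⟨{ hom := lift, zero := ?_, comm := ?_ }⟩
  · intro i j hij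
    apply (ModuleCat.restrictScalars φ).map_injective
    rw [hlift, h0.zero i j hij]
    exact ((ModuleCat.restrictScalars φ).map_zero _ _).symm
  · intro i
    apply (ModuleCat.restrictScalars φ).map_injective
    have := h0.comm i
    rw [dNext_eq _ (show (ComplexShape.up ℤ).Rel i (i + 1) from rfl),
      prevD_eq _ (show (ComplexShape.up ℤ).Rel (i - 1) i by simp)] at this ⊢
    simp only [Functor.map_add, Functor.map_comp, hlift, HomologicalComplex.zero_f,
      Functor.map_zero]
    exact this

end Groth.Agent.Lib.helper23.EpiRes
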