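import Mathlib
import Groth.Prelude.Def_Wider
import Groth.Prelude.Def_DDual2
import Groth.Agent.Lib.Helper23.EpiRes
import Groth.Agent.Lib.Helper23.Kz1
import Groth.Agent.Lib.Helper23.Kz5
import Groth.Agent.Lib.Helper23.FlatBC1
import Groth.Agent.Lib.Helper13.RKF2

/-!
# Restriction of scalars along a flat ring epimorphism, on derived categories (helper23)

For `φ : A → B` a flat epimorphism of commutative rings:
* `resExtIso`: `B ⊗_A N ≅ N` naturally in the `B`-module `N`.
* `resExtDIso`: `restrictD φ ⋙ extD φ ≅ 𝟭` on `D(B)`.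
* `adjE`: the adjunction `extD φ ⊣ restrictD φ`.
* `fullyFaithfulRestrictD`: `restrictD φ : D(B) ⥤ D(A)` is fully faithful.
* `isIso_extD_map_unit`: `extD φ` inverts the unit of `adjE`.
* `bijective_comp_unit`: if `Hom(T, Z) = 0` for all `Z` with `Z ⊗_A B = 0`, then
  `Hom(T, L) → Hom(T, (L ⊗_A B)|_A)` is bijective.
* `IsUniv.of_bijective_comp`: transport of a universal arrow along such a map.
-/

set_option autoImplicit false
universe u
open CategoryTheory CategoryTheory.Limits DerivedCategory Pretriangulated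

attribute [local instance] HasDerivedCategory.standard

namespace Groth.Agent.Lib.helper23.OpenImm

open Groth.Agent.Lib.helper23.Kz

section Univ

variable {𝒜 ℬ : Type*} [Category 𝒜] [Category ℬ]

/-- transport of a universal arrow along a map of targets inducing bijections on `Hom(F -, -)`. -/
lemma IsUniv.of_bijective_comp {F : 𝒜 ⥤ ℬ} {L L₂ : ℬ} {X : 𝒜} {ε₂ : F.obj X ⟶ L₂}
    (h : IsUniv F L₂ X ε₂) (u : L ⟶ L₂)
    (hu : ∀ Y : 𝒜, Function.Bijective (fun g : F.obj Y ⟶ L => g ≫ u)) :
    ∃ ε : F.obj X ⟶ L, IsUniv F L X ε := by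
  obtain ⟨ε, hε⟩ := (hu X).2 ε₂
  dsimp only at hε
  refine ⟨ε, fun M => ?_⟩
  have h1 : (fun g : F.obj M ⟶ L => g ≫ u) ∘ (fun f : M ⟶ X => F.map f ≫ ε) =
      (fun f : M ⟶ X => F.map f ≫ ε₂) := by
    funext f
    simp only [Function.comp_apply, Category.assoc, hε]
  have h2 : Function.Bijective
      ((fun g : F.obj M ⟶ L => g ≫ u) ∘ (fun f : M ⟶ X => F.map f ≫ ε)) := by
    rw [h1]
    exact h M
  exact (Function.Bijective.of_comp_iff' (hu M) _).1 h2

end Univ

section Epi

variable {A B : Type u} [CommRing A] [CommRing B] (φ : A →+* B)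
  (hφ : Epi (CommRingCat.ofHom φ))

include hφ in
/-- restriction of scalars along an epimorphism is full. -/
lemma full_restrictScalars : (ModuleCat.restrictScalars.{u} φ).Full :=
  ⟨fun {M N} g => EpiRes.exists_preimage φ hφ M N g⟩

/-- `B ⊗_A N ≅ N` for `B`-modules `N`, when `A → B` is an epimorphism. -/
noncomputable def resExtIso :
    ModuleCat.restrictScalars.{u} φ ⋙ ModuleCat.extendScalars.{u, u, u} φ ≅
      𝟭 (ModuleCat.{u} B) :=
  haveI := full_restrictScalars φ hφ
  asIso (ModuleCat.extendRestrictScalarsAdj.{u, u, u} φ).counit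

variable [PreservesFiniteLimits (ModuleCat.extendScalars.{u, u, u} φ)]

/-- `restrictD φ ⋙ extD φ ≅ 𝟭` on `D(B)`, for a flat epimorphism. -/
noncomputable def resExtDIso :
    DRing.restrictD φ ⋙ FlatBC.extD φ ≅ 𝟭 (Dual.D B) :=
  (mapDCComp (ModuleCat.restrictScalars.{u} φ) (ModuleCat.extendScalars.{u, u, u} φ)).symm ≪≫
    mapDCIso (resExtIso φ hφ) ≪≫ mapDCId _

/-- the adjunction `- ⊗_A B ⊣ restriction` on derived categories, for flat `φ`. -/
noncomputable def adjE : FlatBC.extD φ ⊣ DRing.restrictD φ :=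
  haveI := Groth.Agent.Lib.helper13.RKF.hasLBaseChange φ
  (Groth.Agent.Lib.helper13.RKF.exists_adjunction φ).choose.ofNatIsoLeft (FlatBC.lbcIso φ)

include hφ in
lemma isIso_counit_adjE : IsIso (adjE φ).counit :=
  (adjE φ).isIso_counit_of_iso (resExtDIso φ hφ)

/-- restriction of scalars along a flat epimorphism is fully faithful on derived categories. -/
noncomputable def fullyFaithfulRestrictD : (DRing.restrictD φ).FullyFaithful :=
  (adjE φ).fullyFaithfulROfCompIsoId (resExtDIso φ hφ)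

include hφ in
lemma isIso_extD_map_unit (L : Dual.D A) :
    IsIso ((FlatBC.extD φ).map ((adjE φ).unit.app L)) := by
  haveI := isIso_counit_adjE φ hφ
  have h := (adjE φ).left_triangle_components L
  haveI : IsIso ((FlatBC.extD φ).map ((adjE φ).unit.app L) ≫
      (adjE φ).counit.app ((FlatBC.extD φ).obj L)) := by
    rw [h]
    exact IsIso.id _
  exact IsIso.of_isIso_comp_right _ ((adjE φ).counit.app ((FlatBC.extD φ).obj L))

include hφ in
/-- if `T` has no nonzero maps to objects killed by `- ⊗_A B`, then composing with the unit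
`L ⟶ (L ⊗_A B)|_A` is bijective on `Hom(T, -)`. -/
theorem bijective_comp_unit {T : Dual.D A}
    (hT : ∀ Z : Dual.D A, IsZero ((FlatBC.extD φ).obj Z) → ∀ g : T ⟶ Z, g = 0) (L : Dual.D A) :
    Function.Bijective (fun g : T ⟶ L => g ≫ (adjE φ).unit.app L) := by
  obtain ⟨C, a, b, hTri⟩ := distinguished_cocone_triangle ((adjE φ).unit.app L)
  have hEC : IsZero ((FlatBC.extD φ).obj C) := by
    have hd := (FlatBC.extD φ).map_distinguished _ hTri
    haveI := isIso_extD_map_unit φ hφ L
    exact (Triangle.isZero₃_iff_isIso₁ _ hd).2 this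
  have hEC' : IsZero ((FlatBC.extD φ).obj (C⟦(-1 : ℤ)⟧)) :=
    ((shiftFunctor (Dual.D B) (-1 : ℤ)).map_isZero hEC).of_iso
      (((FlatBC.extD φ).commShiftIso (-1 : ℤ)).app C)
  constructor
  · intro g₁ g₂ h12
    dsimp only at h12
    have hg : (g₁ - g₂) ≫ (adjE φ).unit.app L = 0 := by
      rw [Preadditive.sub_comp, h12, sub_self]
    have hd' := inv_rot_of_distTriang _ hTri
    obtain ⟨g', hg'⟩ := Triangle.coyoneda_exact₂ _ hd' (g₁ - g₂) hg
    have h0 : g' = 0 := hT _ hEC' g'
    rw [h0, zero_comp] at hg'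
    exact sub_eq_zero.1 hg'
  · intro h
    have h0 : h ≫ a = 0 := hT _ hEC (h ≫ a)
    obtain ⟨g, hg⟩ := Triangle.coyoneda_exact₂ _ hTri h h0
    exact ⟨g, hg.symm⟩

end Epi

end Groth.Agent.Lib.helper23.OpenImm
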