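import Mathlib
import Groth.Prelude.Def_Wider
import Groth.Prelude.Def_DDual2
import Groth.Agent.Lib.Helper23.OpenImm1
import Groth.Agent.Lib.Helper23.HomNat
import Groth.Agent.Lib.Helper23.FlatBC2
import Groth.Agent.Lib.Helper23.RAdj2

/-!
# The vanishing lemma for open immersions (helper23)

* `bijective_one_sub_smul`: `1 - j` is bijective on a module on which `j` is locally nilpotent.
* `exists_locally_nilpotent`: for `R → R'` flat with open image on spectra and `ψ : P → R'` a surjection of
  `R`-algebras there is `j ∈ P` with `ψ j = 1`, locally nilpotent on every `P`-module `N` with `R' ⊗_R N = 0`.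
* `subsingleton_tensor_of_isPushout`: `P' ⊗_P N = 0 ⇒ R' ⊗_R N = 0` for `P' = P ⊗_R R'`.
* `flat_mvPolynomial`: `R'[x]` is flat over `R[x]` for `R'` flat over `R`.
* `eq_zero_of_isZero_extD`: `Hom_{D(R[x])}(Y|_{R[x]}, Z) = 0` for `Y ∈ D(R')`, `Z ⊗ R'[x] = 0`.
-/

set_option autoImplicit false
universe u
open CategoryTheory CategoryTheory.Limits DerivedCategory Pretriangulated TensorProduct

attribute [local instance] HasDerivedCategory.standard

namespace Groth.Agent.Lib.helper23.OpenImm

/-- `1 - j` acts bijectively on a module on which `j` is locally nilpotent. -/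
lemma bijective_one_sub_smul {P N : Type*} [CommRing P] [AddCommGroup N] [Module P N] (j : P)
    (h : ∀ c : N, ∃ M : ℕ, j ^ M • c = 0) : Function.Bijective (fun c : N => (1 - j) • c) := by
  constructor
  · intro c c' hcc
    dsimp only at hcc
    have hd : (1 - j) • (c - c') = 0 := by rw [smul_sub, hcc, sub_self]
    have hd' : j • (c - c') = c - c' := by
      rw [sub_smul, one_smul, sub_eq_zero] at hd
      exact hd.symm
    have hpow : ∀ M : ℕ, j ^ M • (c - c') = c - c' := by
      intro M
      induction M with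
      | zero => rw [pow_zero, one_smul]
      | succ M ih => rw [pow_succ, mul_smul, hd', ih]
    obtain ⟨M, hM⟩ := h (c - c')
    rw [hpow M] at hM
    exact sub_eq_zero.1 hM
  · intro c
    obtain ⟨M, hM⟩ := h c
    refine ⟨(∑ k ∈ Finset.range M, j ^ k) • c, ?_⟩
    dsimp only
    rw [← mul_smul, mul_neg_geom_sum, sub_smul, one_smul, hM, sub_zero]

/-- the key element: `j ∈ P` with `ψ j = 1`, locally nilpotent on modules killed by `- ⊗_R R'`. -/
theorem exists_locally_nilpotent (R R' P : Type u) [CommRing R] [CommRing R'] [CommRing P]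
    [IsNoetherianRing R] [Algebra R R'] [Module.Flat R R'] [Algebra R P]
    (ψ : P →ₐ[R] R') (hψ : Function.Surjective ψ)
    (hopen : IsOpen (Set.range (PrimeSpectrum.comap (algebraMap R R')))) :
    ∃ j : P, ψ j = 1 ∧ ∀ (N : Type u) [AddCommGroup N] [Module R N] [Module P N]
      [IsScalarTower R P N], Subsingleton (R' ⊗[R] N) → ∀ c : N, ∃ M : ℕ, j ^ M • c = 0 := by
  set U := Set.range (PrimeSpectrum.comap (algebraMap R R')) with hU
  let 𝔞 : Ideal R := PrimeSpectrum.vanishingIdeal Uᶜ
  have hZ : PrimeSpectrum.zeroLocus (𝔞 : Set R) = Uᶜ := by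
    rw [PrimeSpectrum.zeroLocus_vanishingIdeal_eq_closure]
    exact hopen.isClosed_compl.closure_eq
  -- `𝔞 R' = R'`
  have h1 : Ideal.map (algebraMap R R') 𝔞 = ⊤ := by
    by_contra hne
    obtain ⟨𝔪, hmax, hle⟩ := Ideal.exists_le_maximal _ hne
    let x' : PrimeSpectrum R' := ⟨𝔪, hmax.isPrime⟩
    have hx : PrimeSpectrum.comap (algebraMap R R') x' ∈ Uᶜ := by
      rw [← hZ, PrimeSpectrum.mem_zeroLocus]
      intro a ha
      show algebraMap R R' a ∈ 𝔪
      exact hle (Ideal.mem_map_of_mem _ ha)
    exact hx ⟨x', rfl⟩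
  -- the element `j`
  let J : Ideal P := Ideal.map (algebraMap R P) 𝔞
  have h2 : Ideal.map ψ.toRingHom J = ⊤ := by
    rw [Ideal.map_map, ← h1]
    congr 1
    exact ψ.comp_algebraMap
  have h3 : J ⊔ RingHom.ker ψ.toRingHom = ⊤ := by
    have := Ideal.comap_map_of_surjective ψ.toRingHom hψ J
    rw [h2, Ideal.comap_top] at this
    exact this.symm
  obtain ⟨j, hj, i, hi, hji⟩ := Submodule.mem_sup.1 (h3 ▸ (Submodule.mem_top : (1 : P) ∈ ⊤))
  refine ⟨j, ?_, ?_⟩
  · have : ψ (j + i) = 1 := by rw [hji, map_one]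
    rw [map_add] at this
    have hi' : ψ i = 0 := hi
    rwa [hi', add_zero] at this
  · intro N _ _ _ _ hN c
    let f : R →ₗ[R] N := LinearMap.toSpanSingleton R N c
    let 𝔟 : Ideal R := LinearMap.ker f
    -- `𝔟 R' = R'` by flatness
    have h4 : Ideal.map (algebraMap R R') 𝔟 = ⊤ := by
      let fbar : (R ⧸ 𝔟) →ₗ[R] N := Submodule.liftQ 𝔟 f le_rfl
      have hinj : Function.Injective fbar := by
        rw [← LinearMap.ker_eq_bot]
        exact Submodule.ker_liftQ_eq_bot _ _ _ le_rfl
      have hinj' : Function.Injective (fbar.lTensor R') :=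
        Module.Flat.lTensor_preserves_injective_linearMap fbar hinj
      haveI : Subsingleton (R' ⊗[R] (R ⧸ 𝔟)) := hinj'.subsingleton
      haveI : Subsingleton (R' ⧸ Ideal.map (algebraMap R R') 𝔟) :=
        (Algebra.TensorProduct.quotIdealMapEquivTensorQuot R' 𝔟).toEquiv.subsingleton
      exact Ideal.Quotient.subsingleton_iff.1 this
    -- `V(𝔟) ⊆ V(𝔞)`
    have h5 : PrimeSpectrum.zeroLocus (𝔟 : Set R) ⊆ PrimeSpectrum.zeroLocus (𝔞 : Set R) := by
      intro x hx
      rw [hZ]
      rintro ⟨x', rfl⟩
      have hle : Ideal.map (algebraMap R R') 𝔟 ≤ x'.asIdeal := by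
        rw [Ideal.map_le_iff_le_comap]
        exact hx
      rw [h4] at hle
      exact x'.isPrime.ne_top (top_le_iff.1 hle)
    have h6 : 𝔞 ≤ 𝔟.radical := (PrimeSpectrum.zeroLocus_subset_zeroLocus_iff _ _).1 h5
    obtain ⟨M, hM⟩ := Ideal.exists_pow_le_of_le_radical_of_fg h6 (IsNoetherian.noetherian 𝔞)
    refine ⟨M, ?_⟩
    have h7 : j ^ M ∈ Ideal.map (algebraMap R P) 𝔟 := by
      have := Ideal.pow_mem_pow hj M
      rw [← Ideal.map_pow] at this
      exact Ideal.map_mono hM this
    let g : P →ₗ[P] N := LinearMap.toSpanSingleton P N c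
    have h8 : Ideal.map (algebraMap R P) 𝔟 ≤ LinearMap.ker g := by
      rw [Ideal.map_le_iff_le_comap]
      intro b hb
      show algebraMap R P b • c = 0
      rw [algebraMap_smul]
      exact hb
    exact h8 h7

section Pushout

variable (R R' P P' : Type u) [CommRing R] [CommRing R'] [CommRing P] [CommRing P']
  [Algebra R R'] [Algebra R P] [Algebra P P'] [Algebra R' P'] [Algebra R P']
  [IsScalarTower R P P'] [IsScalarTower R R' P'] [Algebra.IsPushout R P R' P']

/-- `P' ⊗_P N = 0` implies `R' ⊗_R N = 0` when `P' = P ⊗_R R'`. -/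
lemma subsingleton_tensor_of_isPushout (N : Type u) [AddCommGroup N] [Module R N] [Module P N]
    [IsScalarTower R P N] [Subsingleton (P' ⊗[P] N)] : Subsingleton (R' ⊗[R] N) := by
  have hbc : IsBaseChange P (IsScalarTower.toAlgHom R R' P').toLinearMap :=
    Algebra.IsPushout.out
  let e1 : P ⊗[R] R' ≃ₗ[P] P' := hbc.equiv
  haveI s1 : Subsingleton (N ⊗[P] P') := (TensorProduct.comm P N P').toEquiv.subsingleton
  haveI s2 : Subsingleton (N ⊗[P] (P ⊗[R] R')) := (LinearEquiv.lTensor N e1).toEquiv.subsingleton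
  haveI s3 : Subsingleton (N ⊗[R] R') :=
    (TensorProduct.AlgebraTensorModule.cancelBaseChange R P P N R').symm.toEquiv.subsingleton
  exact (TensorProduct.comm R R' N).toEquiv.subsingleton

end Pushout

section Vanish

attribute [local instance] MvPolynomial.algebraMvPolynomial
attribute [local instance] FlatBC.preservesFiniteLimits_extendScalars_algebraMap

variable (R R' : Type u) [CommRing R] [CommRing R'] [Algebra R R'] (n : ℕ)

/-- `R'[x] = R[x] ⊗_R R'` is flat over `R[x]` when `R'` is flat over `R`. -/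
theorem flat_mvPolynomial [Module.Flat R R'] :
    Module.Flat (MvPolynomial (Fin n) R) (MvPolynomial (Fin n) R') :=
  Module.Flat.isBaseChange R (MvPolynomial (Fin n) R) R' (MvPolynomial (Fin n) R')
    (Algebra.IsPushout.out (R := R) (S := MvPolynomial (Fin n) R) (R' := R')
      (S' := MvPolynomial (Fin n) R'))

attribute [local instance] flat_mvPolynomial

variable [Module.Flat R R']

/-- the cohomology modules of `Z ∈ D(R[x])` with `Z ⊗ R'[x] = 0` are killed by `- ⊗_R R'`. -/
lemma subsingleton_tensor_homology (Z : Dual.D (MvPolynomial (Fin n) R))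
    (hZ : IsZero ((FlatBC.extD (algebraMap (MvPolynomial (Fin n) R)
      (MvPolynomial (Fin n) R'))).obj Z)) (q : ℤ) :
    letI : Module R ((homologyFunctor (ModuleCat.{u} (MvPolynomial (Fin n) R)) q).obj Z) :=
      Module.compHom _ (algebraMap R (MvPolynomial (Fin n) R))
    Subsingleton (R' ⊗[R] ((homologyFunctor (ModuleCat.{u} (MvPolynomial (Fin n) R)) q).obj Z)) := by
  let P := MvPolynomial (Fin n) R
  let P' := MvPolynomial (Fin n) R'
  let N := (homologyFunctor (ModuleCat.{u} P) q).obj Z
  letI : Module R N := Module.compHom _ (algebraMap R P)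
  haveI : IsScalarTower R P N := ⟨fun r p c => by
    show (r • p) • c = algebraMap R P r • (p • c)
    rw [Algebra.smul_def, mul_smul]⟩
  have h1 : IsZero ((homologyFunctor (ModuleCat.{u} P') q).obj
      ((FlatBC.extD (algebraMap P P')).obj Z)) :=
    (homologyFunctor (ModuleCat.{u} P') q).map_isZero hZ
  have h2 : IsZero ((ModuleCat.extendScalars.{u, u, u} (algebraMap P P')).obj N) :=
    h1.of_iso (FlatBC.homologyExtDIso (algebraMap P P') Z q).symm
  haveI : Subsingleton (P' ⊗[P] N) := ModuleCat.subsingleton_of_isZero h2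
  exact subsingleton_tensor_of_isPushout R R' P P' N

/-- **Vanishing**: there are no nonzero maps in `D(R[x])` from a complex of `R'`-modules to a
complex killed by `- ⊗_R R'`, when `Spec R' → Spec R` is flat with open image and `R[x] → R'` is
surjective. -/
theorem eq_zero_of_isZero_extD [IsNoetherianRing R] (ψ : MvPolynomial (Fin n) R →ₐ[R] R')
    (hψ : Function.Surjective ψ)
    (hopen : IsOpen (Set.range (PrimeSpectrum.comap (algebraMap R R'))))
    (Y : Dual.D R') (Z : Dual.D (MvPolynomial (Fin n) R))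
    (hZ : IsZero ((FlatBC.extD (algebraMap (MvPolynomial (Fin n) R)
      (MvPolynomial (Fin n) R'))).obj Z))
    (g : (DRing.restrictD ψ.toRingHom).obj Y ⟶ Z) : g = 0 := by
  let P := MvPolynomial (Fin n) R
  obtain ⟨j, hj1, hj⟩ := exists_locally_nilpotent R R' P ψ hψ hopen
  have hiso : IsIso ((1 - j) • 𝟙 Z) := by
    rw [DerivedCategory.isIso_iff]
    intro q
    rw [Functor.map_smul, CategoryTheory.Functor.map_id]
    let N := (homologyFunctor (ModuleCat.{u} P) q).obj Z
    letI : Module R N := Module.compHom _ (algebraMap R P)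
    haveI : IsScalarTower R P N := ⟨fun r p c => by
      show (r • p) • c = algebraMap R P r • (p • c)
      rw [Algebra.smul_def, mul_smul]⟩
    have hsub := subsingleton_tensor_homology R R' n Z hZ q
    have hb := bijective_one_sub_smul (N := N) j (hj N hsub)
    have hfun : ⇑(ModuleCat.Hom.hom ((1 - j) • 𝟙 N)) = fun c : N => (1 - j) • c := by
      funext c
      rw [ModuleCat.hom_smul, LinearMap.smul_apply, ModuleCat.hom_id, LinearMap.id_apply]
    rw [ConcreteCategory.isIso_iff_bijective]
    show Function.Bijective ⇑(ModuleCat.Hom.hom ((1 - j) • 𝟙 N))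
    rw [hfun]
    exact hb
  have h0 : (1 - j) • 𝟙 ((DRing.restrictD ψ.toRingHom).obj Y) = 0 := by
    rw [← RAdj.restrictD_map_smul_id]
    have : ψ.toRingHom (1 - j) = 0 := by
      show ψ (1 - j) = 0
      rw [map_sub, map_one, hj1, sub_self]
    rw [this, zero_smul, Functor.map_zero]
  have h1 : g ≫ ((1 - j) • 𝟙 Z) = 0 := by
    rw [Linear.comp_smul, Category.comp_id, ← Category.id_comp g, ← Linear.smul_comp, h0,
      zero_comp]
  exact (cancel_mono ((1 - j) • 𝟙 Z)).1 (h1.trans zero_comp.symm)

end Vanish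

end Groth.Agent.Lib.helper23.OpenImm
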