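import Mathlib
import Groth.Prelude.Def_Wider
import Groth.Prelude.Def_DDual2
import Groth.Prelude.Def_DualSh
import Groth.Agent.Lib.Helper23.OpenImm2
import Groth.Agent.Lib.Helper23.Kz7
import Groth.Agent.Lib.Helper23.FBCR6

/-!
# Upper shriek along an open immersion of affine schemes (helper23)

* `epi_mvPolynomial_map`: `R[x] → R'[x]` is an epimorphism when `R → R'` is.
* `shriekVia_iso_LBaseChange`: for `R → R'` flat, an epimorphism, with open image on spectra (e.g. an open
  immersion `Spec R' → Spec R`), `φ^!(K) ≅ K ⊗^L_R R'` for every `K ∈ D(R)` (unbounded).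
* `flat_epi_open_of_isOpenImmersion`: an open immersion `Spec R' → Spec R` is flat, epi, with open image.
-/

set_option autoImplicit false
universe u
open CategoryTheory CategoryTheory.Limits DerivedCategory Pretriangulated TensorProduct

attribute [local instance] HasDerivedCategory.standard

namespace Groth.Agent.Lib.helper23.OpenImm

open Groth.Agent.Lib.helper23.FBC Groth.Agent.Lib.helper23.RAdj Groth.Agent.Lib.helper23.Kz
  Groth.Agent.Lib.helper23.FBCR

attribute [local instance] FlatBC.preservesFiniteLimits_extendScalars_algebraMap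
attribute [local instance] MvPolynomial.algebraMvPolynomial
attribute [local instance] flat_mvPolynomial

/-- `R[x] → R'[x]` is an epimorphism of commutative rings when `R → R'` is. -/
lemma epi_mvPolynomial_map (R R' : Type u) [CommRing R] [CommRing R'] [Algebra R R']
    (hepi : Epi (CommRingCat.ofHom (algebraMap R R'))) (n : ℕ) :
    Epi (CommRingCat.ofHom
      (algebraMap (MvPolynomial (Fin n) R) (MvPolynomial (Fin n) R'))) := by
  refine ⟨fun {T} g h hgh => ?_⟩
  have key : ∀ x : MvPolynomial (Fin n) R,
      g.hom (MvPolynomial.map (algebraMap R R') x) = h.hom (MvPolynomial.map (algebraMap R R') x) :=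
    fun x => ConcreteCategory.congr_hom hgh x
  have hC : CommRingCat.ofHom (MvPolynomial.C : R' →+* MvPolynomial (Fin n) R') ≫ g =
      CommRingCat.ofHom (MvPolynomial.C : R' →+* MvPolynomial (Fin n) R') ≫ h := by
    rw [← cancel_epi (CommRingCat.ofHom (algebraMap R R'))]
    ext r
    have := key (MvPolynomial.C r)
    rw [MvPolynomial.map_C] at this
    exact this
  apply CommRingCat.hom_ext
  apply MvPolynomial.ringHom_ext
  · intro r'
    exact ConcreteCategory.congr_hom hC r'
  · intro i
    have := key (MvPolynomial.X i)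
    rw [MvPolynomial.map_X] at this
    exact this

/-- **Upper shriek of a flat epimorphism with open image is the base change.** -/
theorem shriekVia_iso_LBaseChange (R R' : Type u) [CommRing R] [CommRing R']
    [IsNoetherianRing R] [Algebra R R'] [Module.Flat R R']
    (hepi : Epi (CommRingCat.ofHom (algebraMap R R')))
    (hopen : IsOpen (Set.range (PrimeSpectrum.comap (algebraMap R R'))))
    (n : ℕ) (ψ : MvPolynomial (Fin n) R →ₐ[R] R') (hψ : Function.Surjective ψ)
    [DRing.HasLBaseChange (algebraMap R (MvPolynomial (Fin n) R))]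
    (Rψ : Dual.D (MvPolynomial (Fin n) R) ⥤ Dual.D R') (adj : DRing.restrictD ψ.toRingHom ⊣ Rψ)
    [DRing.HasLBaseChange (algebraMap R R')] (K : Dual.D R) :
    Nonempty (Dual2.shriekVia n Rψ K ≅ (DRing.LBaseChange (algebraMap R R')).obj K) := by
  let P := MvPolynomial (Fin n) R
  let P' := MvPolynomial (Fin n) R'
  let α : P →+* P' := algebraMap P P'
  let ψ' : P' →ₐ[R'] R' := MvPolynomial.aeval (fun i => ψ (MvPolynomial.X i))
  have hcomm : ψ.toRingHom = ψ'.toRingHom.comp α := by
    apply MvPolynomial.ringHom_ext
    · intro r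
      show ψ (MvPolynomial.C r) = ψ' (MvPolynomial.map (algebraMap R R') (MvPolynomial.C r))
      rw [MvPolynomial.map_C]
      have h1 : ψ (MvPolynomial.C r) = algebraMap R R' r := ψ.commutes r
      have h2 : ψ' (MvPolynomial.C (algebraMap R R' r)) =
          algebraMap R' R' (algebraMap R R' r) := ψ'.commutes _
      rw [h1, h2]
      rfl
    · intro i
      show ψ (MvPolynomial.X i) = ψ' (MvPolynomial.map (algebraMap R R') (MvPolynomial.X i))
      rw [MvPolynomial.map_X, MvPolynomial.aeval_X]
  have hα : Epi (CommRingCat.ofHom α) := epi_mvPolynomial_map R R' hepi n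
  haveI : Module.Flat R P' := Module.Flat.trans R R' P'
  let K' : Dual.D R' := (DRing.LBaseChange (algebraMap R R')).obj K
  let L : Dual.D P := ((EE R P).obj K)⟦(n : ℤ)⟧
  -- the universal arrow over `R'[x]`
  obtain ⟨ε₂, u₂⟩ := kGood_mvPolynomial R' n ψ' K'
  let G := DRing.restrictD α
  haveI : G.Full := (fullyFaithfulRestrictD α hα).full
  haveI : G.Faithful := (fullyFaithfulRestrictD α hα).faithful
  have u₃ := (u₂.postcomp G).of_natIso (restrictDCompIso α ψ'.toRingHom ψ.toRingHom hcomm)
  let i : (EE P P').obj L ≅ ((EE R' P').obj K')⟦(n : ℤ)⟧ :=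
    ((EE P P').commShiftIso (n : ℤ)).app ((EE R P).obj K) ≪≫
      (shiftFunctor (Dual.D P') (n : ℤ)).mapIso
        (((EEcompIso R P P').app K).symm ≪≫ (EEcompIso R R' P').app K ≪≫
          (EE R' P').mapIso ((FlatBC.lbcIso (algebraMap R R')).app K).symm)
  have u₄ := u₃.of_iso_target (G.mapIso i.symm)
  -- composing with the unit is bijective
  have hbij : ∀ Y : Dual.D R', Function.Bijective
      (fun g : (DRing.restrictD ψ.toRingHom).obj Y ⟶ L => g ≫ (adjE α).unit.app L) :=
    fun Y => bijective_comp_unit α hα
      (fun Z hZ g => eq_zero_of_isZero_extD R R' n ψ hψ hopen Y Z hZ g) L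
  obtain ⟨ε, u₅⟩ := IsUniv.of_bijective_comp u₄ ((adjE α).unit.app L) hbij
  obtain ⟨ε₁, u₁⟩ := isUniv_shriekVia₀ n ψ Rψ adj K
  exact u₁.iso u₅

open AlgebraicGeometry in
/-- an open immersion `Spec R' → Spec R` is flat, an epimorphism of rings, with open image. -/
theorem flat_epi_open_of_isOpenImmersion (R R' : Type u) [CommRing R] [CommRing R'] [Algebra R R']
    (hopen : IsOpenImmersion (Spec.map (CommRingCat.ofHom (algebraMap R R')))) :
    Module.Flat R R' ∧ Epi (CommRingCat.ofHom (algebraMap R R')) ∧
      IsOpen (Set.range (PrimeSpectrum.comap (algebraMap R R'))) := by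
  refine ⟨?_, ?_, ?_⟩
  · have h1 : AlgebraicGeometry.Flat (Spec.map (CommRingCat.ofHom (algebraMap R R'))) :=
      inferInstance
    have h2 := (HasRingHomProperty.Spec_iff (P := @AlgebraicGeometry.Flat)).1 h1
    exact (RingHom.flat_algebraMap_iff).1 h2
  · haveI : Mono (Spec.map (CommRingCat.ofHom (algebraMap R R'))) := inferInstance
    have h1 : Mono (Scheme.Spec.map (CommRingCat.ofHom (algebraMap R R')).op) := this
    have h2 : Mono (CommRingCat.ofHom (algebraMap R R')).op := Scheme.Spec.mono_of_mono_map h1
    exact unop_epi_of_mono (CommRingCat.ofHom (algebraMap R R')).op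
  · exact hopen.base_open.isOpen_range

end Groth.Agent.Lib.helper23.OpenImm
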