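import Mathlib
import Groth.Prelude.Def_Wider
import Groth.Prelude.Def_DDual2
import Groth.Agent.Lib.Helper23.FBCR5

/-!
# Flat base change for `RHom_P(B, -)`, `B` finite projective over `P`, no boundedness (helper23)

* `isUniv_baseChange_proj`: as `FBCR.isUniv_baseChange`, for `B` finite projective over an arbitrary
  ring `P` and an arbitrary (unbounded) object `L` of `D(P)`.
-/

set_option autoImplicit false
universe u
open CategoryTheory CategoryTheory.Limits DerivedCategory TensorProduct

attribute [local instance] HasDerivedCategory.standard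

namespace Groth.Agent.Lib.helper23.FBCR

open Groth.Agent.Lib.helper23.FBC Groth.Agent.Lib.helper23.RAdj Groth.Agent.Lib.helper23.Kz

attribute [local instance 50] homModuleA
attribute [local instance] FlatBC.preservesFiniteLimits_extendScalars_algebraMap

variable {P P' B B' : Type u} [CommRing P] [CommRing P'] [CommRing B] [CommRing B']
  [Algebra P P'] [Algebra P B] [Algebra B B'] [Algebra P' B'] [Algebra P B']
  [IsScalarTower P B B'] [IsScalarTower P P' B'] [Algebra.IsPushout P P' B B']
  [Module.Flat P P'] [Module.Flat B B']

variable (P') in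
lemma BB_res_Nj_proj [Module.Finite P B] [Module.Projective P B] (L : Dual.D P)
    (j : ℤ) : BB P' ((DRing.restrictD (algebraMap P B)).obj (Nj B j)) L := by
  let M : ModuleCat.{u} P := (ModuleCat.restrictScalars.{u} (algebraMap P B)).obj (ModuleCat.of B B)
  haveI : Module.Finite P M := Module.Finite.equiv (ExtSc.e₀ (A := P) (B := B)).symm
  haveI : Module.Projective P M := Module.Projective.of_equiv (ExtSc.e₀ (A := P) (B := B)).symm
  haveI : Projective M := (IsProjective.iff_projective (R := P) (P := M)).1 inferInstance
  haveI : Module.FinitePresentation P M := Module.finitePresentation_of_projective P M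
  have h0 : BB P' (sg M) (L⟦-j⟧) := BB_single_projective M _
  let eX : (sg M)⟦j⟧ ≅ (DRing.restrictD (algebraMap P B)).obj (Nj B j) :=
    (shiftFunctor (Dual.D P) j).mapIso
      (((ModuleCat.restrictScalars.{u} (algebraMap P B)).mapDerivedCategorySingleFunctor 0).app
        (ModuleCat.of B B)).symm ≪≫
      (((DRing.restrictD (algebraMap P B)).commShiftIso j).app (sgR (R := B))).symm
  exact BB.of_iso eX ((shiftFunctorCompIsoId (Dual.D P) (-j) j (by omega)).app L)
    (BB.shift j h0)

/-- **flat base change of universal arrows of restriction of scalars**, projective case. -/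
theorem isUniv_baseChange_proj [Module.Finite P B] [Module.Projective P B]
    (X : Dual.D B) (L : Dual.D P)
    (ε : (DRing.restrictD (algebraMap P B)).obj X ⟶ L)
    (h : IsUniv (DRing.restrictD (algebraMap P B)) L X ε) :
    IsUniv (DRing.restrictD (algebraMap P' B')) ((EE P P').obj L) ((EE B B').obj X)
      (ε' P' B' ε) := by
  obtain ⟨R', ⟨adj'⟩⟩ := RHomEx.exists_rightAdjoint_restrictD (algebraMap P' B')
  let cc : (EE B B').obj X ⟶ R'.obj ((EE P P').obj L) := adj'.homEquiv _ _ (ε' P' B' ε)
  have hcc : IsIso cc := by
    refine isIso_of_bijective_comp cc (fun j => (EE B B').obj (Nj B j)) (eT B B') (fun j => ?_)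
    have h1 := bijective_Ψ' (P' := P') (B' := B') (Nj B j) X L ε (h (Nj B j)) (BB_Nj B' X j)
      (BB_res_Nj_proj P' L j)
    have h2 : (fun g : (EE B B').obj (Nj B j) ⟶ (EE B B').obj X => g ≫ cc) =
        (adj'.homEquiv _ _) ∘ (fun g : (EE B B').obj (Nj B j) ⟶ (EE B B').obj X =>
          (DRing.restrictD (algebraMap P' B')).map g ≫ ε' P' B' ε) := by
      funext g
      exact (adj'.homEquiv_naturality_left g (ε' P' B' ε)).symm
    rw [h2]
    exact (adj'.homEquiv _ _).bijective.comp h1
  have h3 := (IsUniv.of_adj adj' ((EE P P').obj L)).of_iso_source (asIso cc)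
  have h4 : (DRing.restrictD (algebraMap P' B')).map (asIso cc).hom ≫
      adj'.counit.app ((EE P P').obj L) = ε' P' B' ε := by
    rw [asIso_hom]
    exact (adj'.homEquiv_counit _ _ cc).symm.trans ((adj'.homEquiv _ _).symm_apply_apply _)
  rw [h4] at h3
  exact h3

end Groth.Agent.Lib.helper23.FBCR
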