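import Mathlib

/-!
# helper23: integral elements lift to a finite free algebra

`exists_finite_free_cover`: for `a₁, …, aₙ` integral elements of an `R`-algebra `A` there are a finite
free `R`-algebra `B` (an iterated `AdjoinRoot` of monic polynomials), elements `bᵢ ∈ B` and an
`R`-algebra map `β : B → A` with `β bᵢ = aᵢ`.
-/

set_option autoImplicit false
universe u
open Polynomial

namespace Groth.Agent.Lib.helper23.FinFreeCover

theorem exists_finite_free_cover (R A : Type u) [CommRing R] [CommRing A] [Algebra R A] :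
    ∀ (n : ℕ) (a : Fin n → A), (∀ i, IsIntegral R (a i)) →
      ∃ (B : Type u) (_ : CommRing B) (_ : Algebra R B) (_ : Module.Finite R B)
        (_ : Module.Free R B) (b : Fin n → B) (β : B →ₐ[R] A), ∀ i, β (b i) = a i := by
  intro n
  induction n with
  | zero =>
    intro a _
    exact ⟨R, inferInstance, inferInstance, inferInstance, inferInstance, Fin.elim0,
      Algebra.ofId R A, fun i => Fin.elim0 i⟩
  | succ n ih =>
    intro a ha
    obtain ⟨B₀, iB₀, iAlg, iFin, iFree, b₀, β₀, hb₀⟩ :=
      ih (fun i => a (Fin.castSucc i)) (fun i => ha (Fin.castSucc i))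
    obtain ⟨f, hf, hroot⟩ := ha (Fin.last n)
    let g : B₀[X] := f.map (algebraMap R B₀)
    have hg : g.Monic := hf.map _
    have hg0 : g.eval₂ (β₀ : B₀ →+* A) (a (Fin.last n)) = 0 := by
      rw [Polynomial.eval₂_map]
      have : (β₀ : B₀ →+* A).comp (algebraMap R B₀) = algebraMap R A := β₀.comp_algebraMap
      rw [this]
      exact hroot
    haveI : Module.Free B₀ (AdjoinRoot g) := hg.free_adjoinRoot
    haveI : Module.Finite B₀ (AdjoinRoot g) := hg.finite_adjoinRoot
    haveI : Module.Free R (AdjoinRoot g) := Module.Free.trans (R := R) (S := B₀)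
    haveI : Module.Finite R (AdjoinRoot g) := Module.Finite.trans B₀ (AdjoinRoot g)
    let β : AdjoinRoot g →ₐ[R] A := AdjoinRoot.liftAlgHom g β₀ (a (Fin.last n)) hg0
    refine ⟨AdjoinRoot g, inferInstance, inferInstance, inferInstance, inferInstance,
      Fin.snoc (fun i => AdjoinRoot.of g (b₀ i)) (AdjoinRoot.root g), β, fun i => ?_⟩
    refine Fin.lastCases ?_ (fun j => ?_) i
    · rw [Fin.snoc_last]
      exact AdjoinRoot.liftAlgHom_root g β₀ _ hg0
    · rw [Fin.snoc_castSucc]
      exact (AdjoinRoot.liftAlgHom_of g β₀ _ hg0 (b₀ j)).trans (hb₀ j)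

end Groth.Agent.Lib.helper23.FinFreeCover
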