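import Mathlib
import Groth.Prelude.Def_Wider
import Groth.Prelude.Def_DDual2
import Groth.Prelude.Def_DualSh
import Groth.Agent.Lib.Helper23.FBCR6
import Groth.Agent.Lib.Helper23.FBCRProj
import Groth.Agent.Lib.Helper23.FinFreeCover
import Groth.Agent.Lib.Helper23.Kz6
import Groth.Agent.Lib.Helper13.RKF2

/-!
# The algebraic upper shriek of an integral (e.g. finite) ring map is `RHom(A, -)` (helper23, S1784)

`shriekVia_iso_rightAdjoint_of_integral`: for `R → A` integral, presented by `ψ : R[x₁..xₙ] → A`, and ANY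
`K ∈ D(R)` (no boundedness): `RHom_P(A, K ⊗_R P)[n] ≅ RHom_R(A, K)`, both sides formed with arbitrary right
adjoints of the restrictions of scalars.  No Noetherian hypotheses.
-/

set_option autoImplicit false
universe u
open CategoryTheory CategoryTheory.Limits DerivedCategory Pretriangulated

attribute [local instance] HasDerivedCategory.standard

namespace Groth.Agent.Lib.helper23.FBCR

open Groth.Agent.Lib.helper23.FBC Groth.Agent.Lib.helper23.RAdj Groth.Agent.Lib.helper23.Kz
  Groth.Agent.Lib.helper23.FinFreeCover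

attribute [local instance] FlatBC.preservesFiniteLimits_extendScalars_algebraMap
attribute [local instance] MvPolynomial.algebraMvPolynomial

theorem shriekVia_iso_rightAdjoint_of_integral (R A : Type u) [CommRing R] [CommRing A]
    [Algebra R A] [Algebra.IsIntegral R A] (n : ℕ) (ψ : MvPolynomial (Fin n) R →ₐ[R] A)
    [DRing.HasLBaseChange (algebraMap R (MvPolynomial (Fin n) R))]
    (Rψ : Dual.D (MvPolynomial (Fin n) R) ⥤ Dual.D A) (adj : DRing.restrictD ψ.toRingHom ⊣ Rψ)
    (R' : Dual.D R ⥤ Dual.D A) (adjR : DRing.restrictD (algebraMap R A) ⊣ R') (K : Dual.D R) :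
    Nonempty (Dual2.shriekVia n Rψ K ≅ R'.obj K) := by
  obtain ⟨B, iB, iAlg, iFin, iFree, b, β, hb⟩ := exists_finite_free_cover R A n
    (fun i => ψ (MvPolynomial.X i)) (fun i => Algebra.IsIntegral.isIntegral _)
  letI := iB
  letI := iAlg
  haveI := iFin
  haveI := iFree
  let P := MvPolynomial (Fin n) R
  let Q := MvPolynomial (Fin n) B
  obtain ⟨R'B, ⟨adjB⟩⟩ := RHomEx.exists_rightAdjoint_restrictD (algebraMap R B)
  have u1 : IsUniv (DRing.restrictD (algebraMap R B)) K (R'B.obj K) (adjB.counit.app K) :=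
    IsUniv.of_adj adjB K
  have u1' : IsUniv (DRing.restrictD (algebraMap P Q)) ((EE R P).obj K)
      ((EE B Q).obj (R'B.obj K)) (ε' P Q (adjB.counit.app K)) :=
    isUniv_baseChange_proj (P' := P) (B' := Q) (R'B.obj K) K _ u1
  obtain ⟨ε1'', u1''⟩ := exists_isUniv_shift (algebraMap P Q) u1' (n : ℤ)
  let π : Q →ₐ[B] B := MvPolynomial.aeval b
  obtain ⟨ε2, u2⟩ := kGood_mvPolynomial B n π (R'B.obj K)
  let α : P →+* B := π.toRingHom.comp (algebraMap P Q)
  have u3 := (u2.comp u1'').of_natIso (restrictDCompIso (algebraMap P Q) π.toRingHom α rfl)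
  obtain ⟨Rβ, ⟨adjβ⟩⟩ := RHomEx.exists_rightAdjoint_restrictD β.toRingHom
  have u4 : IsUniv (DRing.restrictD β.toRingHom) (R'B.obj K) (Rβ.obj (R'B.obj K))
      (adjβ.counit.app _) := IsUniv.of_adj adjβ _
  have hψ : ψ.toRingHom = β.toRingHom.comp α := by
    apply MvPolynomial.ringHom_ext
    · intro r
      show ψ (MvPolynomial.C r) = β (π (algebraMap P Q (MvPolynomial.C r)))
      have h1 : ψ (MvPolynomial.C r) = algebraMap R A r := ψ.commutes r
      have h2 : algebraMap P Q (MvPolynomial.C r) = MvPolynomial.C (algebraMap R B r) := by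
        rw [MvPolynomial.algebraMap_def, MvPolynomial.map_C]
      have h3 : π (MvPolynomial.C (algebraMap R B r)) = algebraMap R B r := by
        show MvPolynomial.aeval b (MvPolynomial.C (algebraMap R B r)) = _
        rw [MvPolynomial.aeval_C]
        rfl
      rw [h1, h2, h3, β.commutes]
    · intro i
      show ψ (MvPolynomial.X i) = β (π (algebraMap P Q (MvPolynomial.X i)))
      have h2 : algebraMap P Q (MvPolynomial.X i) = MvPolynomial.X i := by
        rw [MvPolynomial.algebraMap_def, MvPolynomial.map_X]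
      have h3 : π (MvPolynomial.X i) = b i := MvPolynomial.aeval_X b i
      rw [h2, h3, hb]
  have u5 := (u4.comp u3).of_natIso (restrictDCompIso α β.toRingHom ψ.toRingHom hψ)
  obtain ⟨ε0, u0⟩ := isUniv_shriekVia₀ n ψ Rψ adj K
  obtain ⟨j1⟩ := u0.iso u5
  have hβ : algebraMap R A = β.toRingHom.comp (algebraMap R B) := by
    ext r
    exact (β.commutes r).symm
  have u6 := (u4.comp u1).of_natIso
    (restrictDCompIso (algebraMap R B) β.toRingHom (algebraMap R A) hβ)
  obtain ⟨j2⟩ := (IsUniv.of_adj adjR K).iso u6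
  exact ⟨j1 ≪≫ j2.symm⟩

end Groth.Agent.Lib.helper23.FBCR
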