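import Mathlib
import Groth.Prelude.Def_Wider
import Groth.Prelude.Def_DDual2
import Groth.Agent.Lib.Helper23.GorInv3
import Groth.Agent.Lib.Helper23.RAdj2
import Groth.Agent.Lib.Helper13.RKF2

/-!
# The criterion `X ≅ C[t]` through a surjection of local rings (helper23)

`nonempty_iso_shift_of_surjective`: let `θ : C → B` be a surjection of Noetherian local rings and `X` an
object of `D(C)`, bounded above with finite cohomology. If `Hom_{D(B)}(X ⊗^L_C B, Y'⟦j⟧)` vanishes for
`j ≠ t₀` and is nonzero cyclic for `j = t₀`, where `Y' ≅ κ_B[0]`, then `X ≅ C[0]⟦t₀⟧`.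
-/

set_option autoImplicit false
universe u
open CategoryTheory CategoryTheory.Limits DerivedCategory Pretriangulated

attribute [local instance] HasDerivedCategory.standard

namespace Groth.Agent.Lib.helper23.GorInv

open IsLocalRing

variable {C B : Type u} [CommRing C] [CommRing B] [IsLocalRing C] [IsLocalRing B]

/-- the residue field of `B` restricted along a surjection `C → B` is the residue field of `C` -/
noncomputable def residueRestrictIso (θ : C →+* B) (hθ : Function.Surjective θ) :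
    (ModuleCat.restrictScalars.{u} θ).obj (ModuleCat.of B (B ⧸ maximalIdeal B)) ≅
      ModuleCat.of C (C ⧸ maximalIdeal C) := by
  haveI : IsLocalHom θ := IsLocalHom.of_surjective θ hθ
  let ℓ : C →ₗ[C] ((ModuleCat.restrictScalars.{u} θ).obj (ModuleCat.of B (B ⧸ maximalIdeal B))) :=
    { toFun := fun c => (show (ModuleCat.restrictScalars.{u} θ).obj
          (ModuleCat.of B (B ⧸ maximalIdeal B)) from Ideal.Quotient.mk (maximalIdeal B) (θ c))
      map_add' := fun a b => by
        show Ideal.Quotient.mk (maximalIdeal B) (θ (a + b)) =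
          Ideal.Quotient.mk (maximalIdeal B) (θ a) + Ideal.Quotient.mk (maximalIdeal B) (θ b)
        rw [map_add, map_add]
      map_smul' := fun a b => by
        show Ideal.Quotient.mk (maximalIdeal B) (θ (a * b)) =
          θ a • Ideal.Quotient.mk (maximalIdeal B) (θ b)
        rw [map_mul, map_mul, Algebra.smul_def]
        rfl }
  have hsurj : Function.Surjective ℓ := by
    intro x
    obtain ⟨b, rfl⟩ := Ideal.Quotient.mk_surjective (I := maximalIdeal B) x
    obtain ⟨c, rfl⟩ := hθ b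
    exact ⟨c, rfl⟩
  have hker : LinearMap.ker ℓ = maximalIdeal C := by
    ext c
    rw [LinearMap.mem_ker]
    show Ideal.Quotient.mk (maximalIdeal B) (θ c) = 0 ↔ _
    rw [Ideal.Quotient.eq_zero_iff_mem, ← Ideal.mem_comap, IsLocalRing.maximalIdeal_comap]
  exact ((Submodule.quotEquivOfEq _ _ hker).symm ≪≫ₗ
    LinearMap.quotKerEquivOfSurjective ℓ hsurj).toModuleIso.symm

variable [IsNoetherianRing C]

theorem nonempty_iso_shift_of_surjective (θ : C →+* B) (hθ : Function.Surjective θ)
    [DRing.HasLBaseChange θ] (X : Dual.D C) (b : ℤ) [X.IsLE b]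
    (hfin : ∀ i : ℤ, Module.Finite C ((homologyFunctor (ModuleCat.{u} C) i).obj X))
    (Y' : Dual.D B) (eY' : Y' ≅ Dual.inD B (B ⧸ maximalIdeal B)) (t₀ : ℤ)
    (hv : ∀ j : ℤ, j ≠ t₀ → Subsingleton ((DRing.LBaseChange θ).obj X ⟶ Y'⟦j⟧))
    (hcyc : IsCyc B ((DRing.LBaseChange θ).obj X ⟶ Y'⟦t₀⟧)) :
    Nonempty (X ≅ (Dual.inD C C)⟦t₀⟧) := by
  obtain ⟨adj, -⟩ := Groth.Agent.Lib.helper13.RKF.exists_adjunction θ
  let Y : Dual.D C := (DRing.restrictD θ).obj Y'
  let eY : Y ≅ sg0 (kk C) :=
    (DRing.restrictD θ).mapIso eY' ≪≫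
      ((ModuleCat.restrictScalars.{u} θ).mapDerivedCategorySingleFunctor 0).app
        (ModuleCat.of B (B ⧸ maximalIdeal B)) ≪≫
      (singleFunctor (ModuleCat.{u} C) 0).mapIso (residueRestrictIso θ hθ)
  -- the adjunction bijections
  let Φ : ∀ j : ℤ, ((DRing.LBaseChange θ).obj X ⟶ Y'⟦j⟧) ≃+ (X ⟶ Y⟦j⟧) := fun j =>
    { toFun := fun ψ => adj.homEquiv X (Y'⟦j⟧) ψ ≫ ((DRing.restrictD θ).commShiftIso j).hom.app Y'
      invFun := fun φ => (adj.homEquiv X (Y'⟦j⟧)).symm
        (φ ≫ ((DRing.restrictD θ).commShiftIso j).inv.app Y')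
      left_inv := fun ψ => by simp
      right_inv := fun φ => by
        simp only [Equiv.apply_symm_apply, Category.assoc, Iso.inv_hom_id_app]
        exact Category.comp_id _
      map_add' := fun ψ ψ' => by
        rw [adj.homEquiv_unit, adj.homEquiv_unit, adj.homEquiv_unit, Functor.map_add,
          Preadditive.comp_add, Preadditive.add_comp] }
  have hΦ : ∀ (j : ℤ) (c : C) (ψ : (DRing.LBaseChange θ).obj X ⟶ Y'⟦j⟧),
      Φ j (θ c • ψ) = c • Φ j ψ := by
    intro j c ψ
    show adj.homEquiv X (Y'⟦j⟧) (θ c • ψ) ≫ _ = c • (adj.homEquiv X (Y'⟦j⟧) ψ ≫ _)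
    rw [adj.homEquiv_unit, adj.homEquiv_unit, RAdj.restrictD_map_smul, Linear.comp_smul,
      Linear.smul_comp]
  refine nonempty_iso_shift_of_hom_residue X b hfin Y eY t₀ (fun j hj => ?_) ?_
  · haveI := hv j hj
    exact (Φ j).symm.toEquiv.subsingleton
  · exact hcyc.of_semilinear θ hθ (Φ t₀) (hΦ t₀)

end Groth.Agent.Lib.helper23.GorInv
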