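import Mathlib
import Groth.Prelude.Def_Wider
import Groth.Prelude.Def_DDual2
import Groth.Agent.Lib.Helper23.GorInv2
import Groth.Agent.Lib.Helper23.GorInv4
import Groth.Agent.Lib.Helper23.Kz5
import Groth.Agent.Lib.Helper23.FBC10
import Groth.Agent.Lib.Helper23.FlatBC2
import Groth.Agent.Lib.Helper23.FBC6

/-!
# A complex which becomes dualizing over a Gorenstein local quotient is locally a shift (helper23)

* `nonempty_lbcCompIso`: derived base change is compatible with composition;
* `nonempty_iso_shift_atPrime`: let `ω` be bounded above with finite cohomology over the Noetherian ring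
  `A`, `q` a prime of `A`, and `θ : A → B` a ring map to a Noetherian local ring `B` such that `B[0]` is
  dualizing, the induced map `A_q → B` is surjective and `ω ⊗^L_A B` is dualizing.  Then
  `ω ⊗_A A_q ≅ A_q[t]` for some `t`.
-/

set_option autoImplicit false
universe u
open CategoryTheory CategoryTheory.Limits DerivedCategory Pretriangulated

attribute [local instance] HasDerivedCategory.standard

namespace Groth.Agent.Lib.helper23.GorInv

open Groth.Agent.Lib.helper23.Kz

section Comp

variable {A B C : Type u} [CommRing A] [CommRing B] [CommRing C]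

/-- derived base change along a composite -/
theorem nonempty_lbcCompIso (φ : A →+* B) (ψ : B →+* C) (χ : A →+* C) (h : χ = ψ.comp φ)
    [DRing.HasLBaseChange φ] [DRing.HasLBaseChange ψ] [DRing.HasLBaseChange χ] :
    Nonempty (DRing.LBaseChange χ ≅ DRing.LBaseChange φ ⋙ DRing.LBaseChange ψ) := by
  obtain ⟨adjφ, -⟩ := Groth.Agent.Lib.helper13.RKF.exists_adjunction φ
  obtain ⟨adjψ, -⟩ := Groth.Agent.Lib.helper13.RKF.exists_adjunction ψ
  obtain ⟨adjχ, -⟩ := Groth.Agent.Lib.helper13.RKF.exists_adjunction χ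
  have adj2 : DRing.LBaseChange φ ⋙ DRing.LBaseChange ψ ⊣ DRing.restrictD ψ ⋙ DRing.restrictD φ :=
    adjφ.comp adjψ
  have adj3 : DRing.LBaseChange φ ⋙ DRing.LBaseChange ψ ⊣ DRing.restrictD χ :=
    adj2.ofNatIsoRight (restrictDCompIso φ ψ χ h)
  exact ⟨adjχ.leftAdjointUniq adj3⟩

end Comp

section Transport

variable {B : Type u} [CommRing B]

lemma IsCyc.of_iso_left {X X' W : Dual.D B} (e : X ≅ X') (h : IsCyc B (X ⟶ W)) :
    IsCyc B (X' ⟶ W) :=
  h.of_linearEquiv (Linear.homCongr B e (Iso.refl W))

lemma subsingleton_of_iso_left {X X' W : Dual.D B} (e : X ≅ X') (h : Subsingleton (X ⟶ W)) :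
    Subsingleton (X' ⟶ W) :=
  (Linear.homCongr B e (Iso.refl W)).symm.toEquiv.subsingleton

end Transport

section AtPrime

attribute [local instance] FlatBC.preservesFiniteLimits_extendScalars_algebraMap

variable (A : Type u) [CommRing A] [IsNoetherianRing A]

theorem nonempty_iso_shift_atPrime (ω : Dual.D A) (b : ℤ) [ω.IsLE b]
    (hfin : ∀ i : ℤ, Module.Finite A ((homologyFunctor (ModuleCat.{u} A) i).obj ω))
    (q : Ideal A) [q.IsPrime]
    [DRing.HasLBaseChange (algebraMap A (Localization.AtPrime q))]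
    (B : Type u) [CommRing B] [IsLocalRing B] [IsNoetherianRing B]
    (hB : Dual.IsDualizing B (Dual.inD B B))
    (θ : A →+* B) [DRing.HasLBaseChange θ]
    (θq : Localization.AtPrime q →+* B) [DRing.HasLBaseChange θq]
    (hθq : θq.comp (algebraMap A (Localization.AtPrime q)) = θ) (hsurj : Function.Surjective θq)
    (hω : Dual.IsDualizing B ((DRing.LBaseChange θ).obj ω)) :
    ∃ t : ℤ, Nonempty ((DRing.LBaseChange (algebraMap A (Localization.AtPrime q))).obj ω ≅
      (Dual.inD (Localization.AtPrime q) (Localization.AtPrime q))⟦t⟧) := by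
  let C := Localization.AtPrime q
  haveI : IsNoetherianRing C := IsLocalization.isNoetherianRing q.primeCompl C inferInstance
  haveI : Module.Flat A C := IsLocalization.flat C q.primeCompl
  let X : Dual.D C := (DRing.LBaseChange (algebraMap A C)).obj ω
  let eX : X ≅ (FlatBC.extD (algebraMap A C)).obj ω := (FlatBC.lbcIso (algebraMap A C)).app ω
  haveI : ((FlatBC.extD (algebraMap A C)).obj ω).IsLE b := FBC.isLE_EE C ω b
  haveI : X.IsLE b := (TStructure.t (C := ModuleCat.{u} C)).isLE_of_iso eX.symm b
  have hfinX : ∀ i : ℤ, Module.Finite C ((homologyFunctor (ModuleCat.{u} C) i).obj X) := by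
    intro i
    haveI := FlatBC.finite_homology_extD (algebraMap A C) ω i (hfin i)
    exact Module.Finite.equiv
      ((homologyFunctor (ModuleCat.{u} C) i).mapIso eX).toLinearEquiv.symm
  obtain ⟨eL⟩ := nonempty_lbcCompIso (algebraMap A C) θq θ hθq.symm
  let e1 : (DRing.LBaseChange θ).obj ω ≅ (DRing.LBaseChange θq).obj X := eL.app ω
  obtain ⟨Y', t₀, ⟨eY'⟩, hv, hcyc⟩ := exists_residue_hom_data B ((DRing.LBaseChange θ).obj ω) hω hB
  refine ⟨t₀, nonempty_iso_shift_of_surjective θq hsurj X b hfinX Y' eY' t₀ (fun j hj => ?_) ?_⟩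
  · exact subsingleton_of_iso_left e1 (hv j hj)
  · exact IsCyc.of_iso_left e1 hcyc

end AtPrime

end Groth.Agent.Lib.helper23.GorInv
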