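import Mathlib
import Groth.Prelude.Def_DRing4
import Groth.Prelude.Def_DualSh
import Groth.Agent.Lib.Helper23.RelDual5
import Groth.Agent.Lib.Helper23.RAdj5
import Groth.Agent.Lib.Helper23.PerfT8
import Groth.Agent.Lib.Helper23.PerfT9

/-!
# `A → RHom_A(ω, ω)` is an isomorphism for `ω = φ^!(R)`, `φ : R → A` flat of finite type (helper23)
-/

set_option autoImplicit false
universe u
open CategoryTheory CategoryTheory.Limits MonoidalCategory Opposite DerivedCategory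

attribute [local instance] HasDerivedCategory.standard

namespace Groth.Agent.Lib.helper23.RelDual

open Groth.Agent.Lib.helper23.DualD Groth.Agent.Lib.helper23.RAdj Groth.Agent.Lib.helper23.PerfT

theorem end_shriekVia_self (R A : Type u) [CommRing R] [CommRing A]
    [IsNoetherianRing R] [Algebra R A] [Module.Flat R A] (n : ℕ)
    (ψ : MvPolynomial (Fin n) R →ₐ[R] A) (hψ : Function.Surjective ψ)
    [DRing.HasLBaseChange (algebraMap R (MvPolynomial (Fin n) R))]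
    (Rψ : Dual.D (MvPolynomial (Fin n) R) ⥤ Dual.D A) (adj : DRing.restrictD ψ.toRingHom ⊣ Rψ) :
    Function.Bijective (fun a : A => a • 𝟙 (Dual2.shriekVia n Rψ (Dual.inD R R))) ∧
      ∀ i : ℤ, i ≠ 0 → Subsingleton (Dual2.shriekVia n Rψ (Dual.inD R R) ⟶
        (Dual2.shriekVia n Rψ (Dual.inD R R))⟦i⟧) := by
  classical
  let P := MvPolynomial (Fin n) R
  let ψ' : P →+* A := ψ.toRingHom
  obtain ⟨hfin, d, hpd⟩ := exists_hasProjectiveDimensionLT_of_flat R A n ψ hψ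
  haveI := hfin
  haveI := hpd
  haveI : IsNoetherianRing P := inferInstance
  obtain ⟨I, u, hI, hu, -, hIinj⟩ :=
    Groth.Agent.Lib.Helper25.KInjMain.exists_kInjective_resolution (𝟙_ (DRing.Cx P))
  haveI := hI
  haveI := hu
  haveI : ∀ j, Injective (I.X j) := hIinj
  haveI : CochainComplex.IsKInjective (Gc ψ' I) := isKInjective_map_of_adj (adjm ψ') I
  let eu : Q.obj (𝟙_ (DRing.Cx P)) ≅ Q.obj I := asIso (Q.map u)
  let ωP : Dual.D P := (DRing.LBaseChange (algebraMap R P)).obj (Dual.inD R R)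
  let e : Q.obj I ≅ ωP := (lbcUnitIso ≪≫ eu).symm
  have hgood : (setup I).Good (BA ψ') := good_of_resolution I u d (BA ψ')
  have h1 : Function.Bijective (fun b : A => b • 𝟙 (Rψ.obj ωP)) :=
    bijective_smul_id ψ' I Rψ adj e hgood.1
  have h2 : ∀ i : ℤ, i ≠ 0 → Subsingleton (Rψ.obj ωP ⟶ (Rψ.obj ωP)⟦i⟧) :=
    fun i hi => subsingleton_ext ψ' I Rψ adj e i (hgood.2 i hi)
  constructor
  · have h3 : (fun a : A => a • 𝟙 ((Rψ.obj ωP)⟦(n : ℤ)⟧)) =
        (fun f : Rψ.obj ωP ⟶ Rψ.obj ωP => f⟦(n : ℤ)⟧') ∘ (fun a : A => a • 𝟙 (Rψ.obj ωP)) := by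
      funext a
      show a • 𝟙 ((Rψ.obj ωP)⟦(n : ℤ)⟧) = (shiftFunctor (Dual.D A) (n : ℤ)).map (a • 𝟙 (Rψ.obj ωP))
      rw [Functor.map_smul, CategoryTheory.Functor.map_id]
    show Function.Bijective (fun a : A => a • 𝟙 ((Rψ.obj ωP)⟦(n : ℤ)⟧))
    rw [h3]
    refine Function.Bijective.comp ?_ h1
    exact ⟨fun f g hfg => (shiftFunctor (Dual.D A) (n : ℤ)).map_injective hfg,
      fun f => (shiftFunctor (Dual.D A) (n : ℤ)).map_surjective f⟩
  · intro i hi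
    haveI := h2 i hi
    show Subsingleton ((Rψ.obj ωP)⟦(n : ℤ)⟧ ⟶ ((Rψ.obj ωP)⟦(n : ℤ)⟧)⟦i⟧)
    refine ⟨fun f g => ?_⟩
    have key : ∀ f : (Rψ.obj ωP)⟦(n : ℤ)⟧ ⟶ ((Rψ.obj ωP)⟦(n : ℤ)⟧)⟦i⟧, f = 0 := by
      intro f
      obtain ⟨f', hf'⟩ := (shiftFunctor (Dual.D A) (n : ℤ)).map_surjective
        (f ≫ ((shiftFunctorComm (Dual.D A) (n : ℤ) i).app (Rψ.obj ωP)).hom)
      have h0 : f' = 0 := Subsingleton.elim _ _
      rw [h0, Functor.map_zero] at hf'
      have h4 : f = (f ≫ ((shiftFunctorComm (Dual.D A) (n : ℤ) i).app (Rψ.obj ωP)).hom) ≫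
          ((shiftFunctorComm (Dual.D A) (n : ℤ) i).app (Rψ.obj ωP)).inv := by
        simp
      rw [h4, ← hf', zero_comp]
    rw [key f, key g]

end Groth.Agent.Lib.helper23.RelDual
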