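import Mathlib
import Groth.Prelude.Def_Wider
import Groth.Prelude.Def_DDual2
import Groth.Prelude.Def_DualSh
import Groth.Prelude.Def_CAlg
import Groth.Agent.Lib.Helper23.GorInv5
import Groth.Agent.Lib.Helper23.GFA3
import Groth.Agent.Lib.Helper23.RelDual7
import Groth.Agent.Lib.Helper23.FBC8
import Groth.Agent.S11179
import Groth.Agent.S1801

/-!
# Gorenstein fibres: the relative dualizing complex is a shift of the structure sheaf at each prime
(helper23)

`nonempty_iso_shift_atPrime_of_gorenstein_fibres`: for `R → A` flat of finite type between Noetherian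
rings with Gorenstein fibres, `ω_{A/R} ⊗_A A_q ≅ A_q[t]` for every prime `q` of `A`.
-/

set_option autoImplicit false
universe u
open CategoryTheory CategoryTheory.Limits DerivedCategory Pretriangulated TensorProduct

attribute [local instance] HasDerivedCategory.standard

namespace Groth.Agent.Lib.helper23.GorInv

section Surj

variable (R A : Type u) [CommRing R] [CommRing A] [Algebra R A]

/-- `A_q → (κ(p) ⊗_R A)_{q'}` is surjective -/
theorem surjective_localRingHom_fiber (p : Ideal R) [p.IsPrime]
    (q' : Ideal (p.Fiber A)) [q'.IsPrime] (q : Ideal A) [q.IsPrime]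
    (hq : q = q'.comap (Algebra.TensorProduct.includeRight : A →ₐ[R] p.Fiber A).toRingHom) :
    Function.Surjective (Localization.localRingHom q q'
      (Algebra.TensorProduct.includeRight : A →ₐ[R] p.Fiber A).toRingHom hq) := by
  intro y
  obtain ⟨x, s, rfl⟩ := IsLocalization.exists_mk'_eq q'.primeCompl y
  obtain ⟨r, hr, a, ha⟩ := Ideal.Fiber.exists_smul_eq_one_tmul p x
  obtain ⟨r', hr', a', ha'⟩ := Ideal.Fiber.exists_smul_eq_one_tmul p (s : p.Fiber A)
  let incl : A →+* p.Fiber A := (Algebra.TensorProduct.includeRight : A →ₐ[R] p.Fiber A).toRingHom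
  have hincl : ∀ (c : R) (z : A), incl (c • z) = c • incl z := fun c z =>
    map_smul (Algebra.TensorProduct.includeRight : A →ₐ[R] p.Fiber A) c z
  have hnum : incl (r' • a) = r' • r • x := by
    rw [hincl, ha]
    rfl
  have hden : incl (r • a') = r • r' • (s : p.Fiber A) := by
    rw [hincl, ha']
    rfl
  have hdenq : r • a' ∈ q.primeCompl := by
    intro hmem
    rw [hq] at hmem
    change incl (r • a') ∈ q' at hmem
    rw [hden, smul_smul, Algebra.smul_def] at hmem
    rcases Ideal.IsPrime.mem_or_mem inferInstance hmem with h | h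
    · have h1 : r * r' ∈ q'.under R := h
      rw [← Ideal.over_def q' p] at h1
      rcases Ideal.IsPrime.mem_or_mem inferInstance h1 with h2 | h2
      · exact hr h2
      · exact hr' h2
    · exact s.2 h
  refine ⟨IsLocalization.mk' _ (r' • a) ⟨r • a', hdenq⟩, ?_⟩
  rw [Localization.localRingHom_mk']
  apply IsLocalization.mk'_eq_of_eq
  show incl (r • a') * x = (s : p.Fiber A) * incl (r' • a)
  rw [hnum, hden]
  simp only [Algebra.smul_def]
  ring

end Surj

section Main

variable (R A : Type u) [CommRing R] [CommRing A] [IsNoetherianRing R] [IsNoetherianRing A]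
  [Algebra R A] [Module.Flat R A]

theorem nonempty_iso_shift_atPrime_of_gorenstein_fibres (n : ℕ)
    (ψ : MvPolynomial (Fin n) R →ₐ[R] A) (hψ : Function.Surjective ψ)
    [DRing.HasLBaseChange (algebraMap R (MvPolynomial (Fin n) R))]
    (Rψ : Dual.D (MvPolynomial (Fin n) R) ⥤ Dual.D A) (adj : DRing.restrictD ψ.toRingHom ⊣ Rψ)
    (hG : ∀ p : PrimeSpectrum R, LocCoh.IsGorensteinRing (A ⊗[R] p.asIdeal.ResidueField))
    (q : Ideal A) [q.IsPrime] [DRing.HasLBaseChange (algebraMap A (Localization.AtPrime q))] :
    ∃ t : ℤ, Nonempty ((DRing.LBaseChange (algebraMap A (Localization.AtPrime q))).obj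
        (Dual2.shriekVia n Rψ (Dual.inD R R)) ≅
      (Dual.inD (Localization.AtPrime q) (Localization.AtPrime q))⟦t⟧) := by
  let ω : Dual.D A := Dual2.shriekVia n Rψ (Dual.inD R R)
  obtain ⟨⟨a, b, hab⟩, hfin, -, -, hfield⟩ := Groth.Agent.S1801.result R A n ψ hψ Rψ adj
  haveI : ω.IsLE b := by
    rw [isLE_iff]
    intro i hi
    haveI := hab i (Or.inr hi)
    exact ModuleCat.isZero_of_subsingleton _
  let p : Ideal R := q.under R
  haveI : p.IsPrime := Ideal.IsPrime.under R q
  let incl : A →+* p.Fiber A := (Algebra.TensorProduct.includeRight : A →ₐ[R] p.Fiber A).toRingHom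
  obtain ⟨q', hq'p, hq'⟩ : ∃ q' : Ideal (p.Fiber A), q'.IsPrime ∧
      q'.comap (Algebra.TensorProduct.includeRight : A →ₐ[R] p.Fiber A) = q := by
    let P : PrimeSpectrum R := ⟨p, inferInstance⟩
    let Q : (PrimeSpectrum.comap (algebraMap R A)) ⁻¹' {P} :=
      ⟨⟨q, inferInstance⟩, rfl⟩
    let q'' := PrimeSpectrum.preimageEquivFiber R A P Q
    refine ⟨q''.asIdeal, q''.isPrime, ?_⟩
    have h := (PrimeSpectrum.preimageEquivFiber R A P).symm_apply_apply Q
    exact congrArg (fun z => z.1.asIdeal) h
  have hq : q = q'.comap incl := hq'.symm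
  let B' := Localization.AtPrime q'
  haveI := Groth.Agent.Lib.helper13.RKF.hasLBaseChange (R := A) (A := p.Fiber A) incl
  have hωB : Dual.IsDualizing (p.Fiber A) ((DRing.LBaseChange incl).obj ω) :=
    hfield p.ResidueField
  haveI := hωB.isNoetherianRing
  haveI : IsNoetherianRing B' := IsLocalization.isNoetherianRing q'.primeCompl B' inferInstance
  have hGor : LocCoh.IsGorensteinLocalRing B' :=
    GFA.isGorensteinLocalRing_localization_of_ringEquiv
      (Algebra.TensorProduct.comm R A p.ResidueField).toRingEquiv (hG ⟨p, inferInstance⟩) q'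
  have hB' : Dual.IsDualizing B' (Dual.inD B' B') := (Groth.Agent.S11179.result B').1 hGor
  haveI := Groth.Agent.Lib.helper13.RKF.hasLBaseChange (R := p.Fiber A) (A := B')
    (algebraMap (p.Fiber A) B')
  have hω' : Dual.IsDualizing B' ((DRing.LBaseChange (algebraMap (p.Fiber A) B')).obj
      ((DRing.LBaseChange incl).obj ω)) :=
    FBC.isDualizing_LBaseChange_localization (p.Fiber A) q'.primeCompl _ hωB
  let θ : A →+* B' := (algebraMap (p.Fiber A) B').comp incl
  haveI := Groth.Agent.Lib.helper13.RKF.hasLBaseChange (R := A) (A := B') θ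
  obtain ⟨eL⟩ := nonempty_lbcCompIso (A := A) (B := p.Fiber A) (C := B') incl
    (algebraMap (p.Fiber A) B') θ rfl
  have hωθ : Dual.IsDualizing B' ((DRing.LBaseChange θ).obj ω) :=
    FBC.isDualizing_of_iso (eL.app ω).symm hω'
  let θq : Localization.AtPrime q →+* B' := Localization.localRingHom q q' incl hq
  haveI := Groth.Agent.Lib.helper13.RKF.hasLBaseChange (R := Localization.AtPrime q) (A := B') θq
  have hθq : θq.comp (algebraMap A (Localization.AtPrime q)) = θ := by
    ext x
    exact Localization.localRingHom_to_map q q' incl hq x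
  exact nonempty_iso_shift_atPrime A ω b hfin q B' hB' θ θq hθq
    (surjective_localRingHom_fiber R A p q' q hq) hωθ

end Main

end Groth.Agent.Lib.helper23.GorInv
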