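import Mathlib
import Groth.Prelude.Def_Wider
import Groth.Prelude.Def_DDual2
import Groth.Agent.Lib.Helper23.GorInv0
import Groth.Agent.Lib.Helper23.ExtSc2
import Groth.Agent.Lib.Helper23.FBC4
import Groth.Agent.Lib.Helper23.FlatBC2

/-!
# Spreading out an isomorphism `ω ⊗ A_q ≅ A_q[t]` to a principal open neighbourhood (helper23)
-/

set_option autoImplicit false
universe u
open CategoryTheory CategoryTheory.Limits DerivedCategory Pretriangulated TensorProduct

attribute [local instance] HasDerivedCategory.standard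

namespace Groth.Agent.Lib.helper23.GorInv

attribute [local instance 50] FBC.homModuleA'
attribute [local instance] FlatBC.preservesFiniteLimits_extendScalars_algebraMap

variable {A : Type u} [CommRing A]

/-- extension of scalars on modules -/
noncomputable abbrev Fx (A : Type u) [CommRing A] (B : Type u) [CommRing B] [Algebra A B] :
    ModuleCat.{u} A ⥤ ModuleCat.{u} B :=
  ModuleCat.extendScalars.{u, u, u} (algebraMap A B)

/-- a finite module vanishing at `q` is killed by some `f ∉ q` -/
lemma exists_smul_eq_zero_of_isZero_atPrime (N : ModuleCat.{u} A) [Module.Finite A N]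
    (q : Ideal A) [q.IsPrime] (h : IsZero ((Fx A (Localization.AtPrime q)).obj N)) :
    ∃ f : A, f ∉ q ∧ ∀ x : N, f • x = 0 := by
  haveI h0 : Subsingleton ((Fx A (Localization.AtPrime q)).obj N) :=
    ModuleCat.subsingleton_of_isZero h
  haveI h1 : Subsingleton (Localization.AtPrime q ⊗[A] N) :=
    (ExtSc.subsingleton_extend_iff N).1 h0
  have h2 : Subsingleton (LocalizedModule q.primeCompl N) :=
    (IsLocalizedModule.linearEquiv q.primeCompl (LocalizedModule.mkLinearMap q.primeCompl N)
      (TensorProduct.mk A (Localization.AtPrime q) N 1)).toEquiv.subsingleton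
  have h3 : (⟨q, inferInstance⟩ : PrimeSpectrum A) ∉ Module.support A N :=
    Module.notMem_support_iff.2 h2
  rw [Module.support_eq_zeroLocus, PrimeSpectrum.mem_zeroLocus, SetLike.coe_subset_coe] at h3
  obtain ⟨f, hf, hfq⟩ := SetLike.not_le_iff_exists.1 h3
  exact ⟨f, hfq, fun x => Module.mem_annihilator.1 hf x⟩

/-- a module killed by `f` vanishes after inverting `f` -/
lemma isZero_extendScalars_of_smul_eq_zero (N : ModuleCat.{u} A) (f : A)
    (hf : ∀ x : N, f • x = 0) (D : Type u) [CommRing D] [Algebra A D]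
    (hu : IsUnit (algebraMap A D f)) : IsZero ((Fx A D).obj N) := by
  haveI : Subsingleton (D ⊗[A] N) := by
    refine ⟨fun a b => ?_⟩
    have key : ∀ z : D ⊗[A] N, z = 0 := by
      intro z
      induction z using TensorProduct.induction_on with
      | zero => rfl
      | tmul d x =>
        obtain ⟨v, hv⟩ := hu.exists_right_inv
        have h1 : d = f • (d * v) := by
          rw [Algebra.smul_def, mul_comm d v, ← mul_assoc, hv, one_mul]
        rw [h1, TensorProduct.smul_tmul, hf x, TensorProduct.tmul_zero]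
      | add x y hx hy => rw [hx, hy, add_zero]
    rw [key a, key b]
  haveI := (ExtSc.subsingleton_extend_iff (B := D) N).2 inferInstance
  exact ModuleCat.isZero_of_subsingleton _

/-- a local isomorphism between base changes is induced, up to a unit, by a global map -/
lemma exists_hom_isIso_extendScalars (q : Ideal A) [q.IsPrime] (P M : ModuleCat.{u} A)
    [Module.FinitePresentation A P]
    (γ : (Fx A (Localization.AtPrime q)).obj P ⟶ (Fx A (Localization.AtPrime q)).obj M)
    [IsIso γ] : ∃ g : P ⟶ M, IsIso ((Fx A (Localization.AtPrime q)).map g) := by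
  let C := Localization.AtPrime q
  haveI : Module.Flat A C := IsLocalization.flat C q.primeCompl
  obtain ⟨y, hy⟩ := (FBC.bcBij_ℓmod (B := C) P M).2 γ
  obtain ⟨⟨g, s⟩, hs⟩ := IsLocalizedModule.surj q.primeCompl
    (TensorProduct.mk A C (P ⟶ M) 1) y
  refine ⟨g, ?_⟩
  have h1 : (Fx A C).map g = algebraMap A C (s : A) • γ := by
    have hs' : algebraMap A C (s : A) • y = (1 : C) ⊗ₜ[A] g := by
      rw [algebraMap_smul]
      exact hs
    have h2 := congrArg ((FBC.ℓmod (B := C) P M).liftBaseChange C) hs'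
    rw [map_smul, hy, LinearMap.liftBaseChange_tmul, one_smul] at h2
    rw [h2]
    rfl
  have hu : IsUnit (algebraMap A C (s : A)) := IsLocalization.map_units C s
  obtain ⟨v, hv⟩ := hu.exists_left_inv
  rw [h1]
  refine ⟨⟨v • inv γ, ?_, ?_⟩⟩
  · rw [Linear.smul_comp, Linear.comp_smul, IsIso.hom_inv_id, smul_smul, mul_comm, hv, one_smul]
  · rw [Linear.smul_comp, Linear.comp_smul, IsIso.inv_hom_id, smul_smul, hv, one_smul]

/-- a map of finite modules which is an isomorphism at `q` is one over a principal open neighbourhood -/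
lemma exists_away_isIso [IsNoetherianRing A] (q : Ideal A) [q.IsPrime] (P M : ModuleCat.{u} A)
    [Module.Finite A P] [Module.Finite A M] (g : P ⟶ M)
    (hg : IsIso ((Fx A (Localization.AtPrime q)).map g)) :
    ∃ f : A, f ∉ q ∧ ∀ (D : Type u) [CommRing D] [Algebra A D] [Module.Flat A D],
      IsUnit (algebraMap A D f) → IsIso ((Fx A D).map g) := by
  haveI : Module.Flat A (Localization.AtPrime q) :=
    IsLocalization.flat (Localization.AtPrime q) q.primeCompl
  haveI : Module.Finite A (kernel g : ModuleCat.{u} A) := by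
    haveI : IsNoetherian A P := isNoetherian_of_isNoetherianRing_of_finite A P
    haveI : Module.Finite A (LinearMap.ker g.hom) := Module.IsNoetherian.finite A _
    exact Module.Finite.equiv (ModuleCat.kernelIsoKer g).toLinearEquiv.symm
  haveI : Module.Finite A (cokernel g : ModuleCat.{u} A) :=
    Module.Finite.equiv (ModuleCat.cokernelIsoRangeQuotient g).toLinearEquiv.symm
  have hK : IsZero ((Fx A (Localization.AtPrime q)).obj (kernel g)) := by
    haveI := hg
    exact (isZero_kernel_of_mono ((Fx A (Localization.AtPrime q)).map g)).of_iso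
      (PreservesKernel.iso (Fx A (Localization.AtPrime q)) g)
  have hQ : IsZero ((Fx A (Localization.AtPrime q)).obj (cokernel g)) := by
    haveI := hg
    exact (isZero_cokernel_of_epi ((Fx A (Localization.AtPrime q)).map g)).of_iso
      (PreservesCokernel.iso (Fx A (Localization.AtPrime q)) g)
  obtain ⟨f₁, hf₁q, hf₁⟩ := exists_smul_eq_zero_of_isZero_atPrime (kernel g) q hK
  obtain ⟨f₂, hf₂q, hf₂⟩ := exists_smul_eq_zero_of_isZero_atPrime (cokernel g) q hQ
  refine ⟨f₁ * f₂, fun h => (Ideal.IsPrime.mem_or_mem inferInstance h).elim hf₁q hf₂q, ?_⟩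
  intro D _ _ _ hu
  rw [map_mul] at hu
  have hu₁ : IsUnit (algebraMap A D f₁) := isUnit_of_mul_isUnit_left hu
  have hu₂ : IsUnit (algebraMap A D f₂) := isUnit_of_mul_isUnit_right hu
  have hK' : IsZero (kernel ((Fx A D).map g)) :=
    (isZero_extendScalars_of_smul_eq_zero (kernel g) f₁ hf₁ D hu₁).of_iso
      (PreservesKernel.iso (Fx A D) g).symm
  have hQ' : IsZero (cokernel ((Fx A D).map g)) :=
    (isZero_extendScalars_of_smul_eq_zero (cokernel g) f₂ hf₂ D hu₂).of_iso
      (PreservesCokernel.iso (Fx A D) g).symm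
  haveI : Mono ((Fx A D).map g) := Preadditive.mono_of_isZero_kernel _ hK'
  haveI : Epi ((Fx A D).map g) := Preadditive.epi_of_isZero_cokernel _ hQ'
  exact isIso_of_mono_of_epi _

/-- `B ⊗_A A ≅ B` in `ModuleCat B`. -/
noncomputable def extendSelfIso' (B : Type u) [CommRing B] [Algebra A B] :
    (Fx A B).obj (ModuleCat.of A A) ≅ ModuleCat.of B B :=
  ((ExtSc.extendObjEquiv (B := B) (ModuleCat.of A A)).trans
    (TensorProduct.AlgebraTensorModule.rid A B B)).toModuleIso

/-- cohomology of a flat derived base change -/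
noncomputable def homologyLbcIso (D : Type u) [CommRing D] [Algebra A D] [Module.Flat A D]
    [DRing.HasLBaseChange (algebraMap A D)] (ω : Dual.D A) (i : ℤ) :
    (homologyFunctor (ModuleCat.{u} D) i).obj ((DRing.LBaseChange (algebraMap A D)).obj ω) ≅
      (Fx A D).obj ((homologyFunctor (ModuleCat.{u} A) i).obj ω) :=
  (homologyFunctor (ModuleCat.{u} D) i).mapIso ((FlatBC.lbcIso (algebraMap A D)).app ω) ≪≫
    FlatBC.homologyExtDIso (algebraMap A D) ω i

/-- cohomology of a shift of `D[0]` away from the relevant degree -/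
lemma isZero_homology_shift_self (D : Type u) [CommRing D] (t i : ℤ) (h : i ≠ -t) :
    IsZero ((homologyFunctor (ModuleCat.{u} D) i).obj ((Dual.inD D D)⟦t⟧)) := by
  refine IsZero.of_iso ?_ (FlatBC.homologyShiftIso (Dual.inD D D) t i (t + i) rfl)
  rcases lt_or_gt_of_ne (show t + i ≠ 0 by omega) with h1 | h1
  · exact isZero_of_isGE (Dual.inD D D) 0 (t + i) h1
  · exact isZero_of_isLE (Dual.inD D D) 0 (t + i) h1

/-- cohomology of a shift of `D[0]` in the relevant degree -/
noncomputable def homologyShiftSelfIso (D : Type u) [CommRing D] (t : ℤ) :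
    (homologyFunctor (ModuleCat.{u} D) (-t)).obj ((Dual.inD D D)⟦t⟧) ≅ ModuleCat.of D D :=
  FlatBC.homologyShiftIso (Dual.inD D D) t (-t) 0 (by omega) ≪≫
    (singleFunctorCompHomologyFunctorIso (ModuleCat.{u} D) 0).app (ModuleCat.of D D)

theorem exists_away_iso_of_atPrime [IsNoetherianRing A] (ω : Dual.D A) (a b : ℤ)
    (hab : ∀ i : ℤ, (i < a ∨ b < i) → IsZero ((homologyFunctor (ModuleCat.{u} A) i).obj ω))
    (hfin : ∀ i : ℤ, Module.Finite A ((homologyFunctor (ModuleCat.{u} A) i).obj ω))
    (q : Ideal A) [q.IsPrime] [DRing.HasLBaseChange (algebraMap A (Localization.AtPrime q))]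
    (t : ℤ)
    (e : Nonempty ((DRing.LBaseChange (algebraMap A (Localization.AtPrime q))).obj ω ≅
      (Dual.inD (Localization.AtPrime q) (Localization.AtPrime q))⟦t⟧))
    [hL : ∀ f : A, DRing.HasLBaseChange (algebraMap A (Localization.Away f))] :
    ∃ f : A, f ∉ q ∧
      Nonempty ((DRing.LBaseChange (algebraMap A (Localization.Away f))).obj ω ≅
        (Dual.inD (Localization.Away f) (Localization.Away f))⟦t⟧) := by
  obtain ⟨e⟩ := e
  let C := Localization.AtPrime q
  haveI : Module.Flat A C := IsLocalization.flat C q.primeCompl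
  let H : ℤ → ModuleCat.{u} A := fun i => (homologyFunctor (ModuleCat.{u} A) i).obj ω
  -- the cohomology at `q`
  have hq : ∀ i : ℤ, (Fx A C).obj (H i) ≅
      (homologyFunctor (ModuleCat.{u} C) i).obj ((Dual.inD C C)⟦t⟧) := fun i =>
    (homologyLbcIso C ω i).symm ≪≫ (homologyFunctor (ModuleCat.{u} C) i).mapIso e
  have hkill : ∀ i : ℤ, ∃ f : A, f ∉ q ∧ (i ≠ -t → ∀ x : H i, f • x = 0) := by
    intro i
    by_cases hi : i = -t
    · exact ⟨1, fun h => Ideal.IsPrime.ne_top inferInstance ((Ideal.eq_top_iff_one q).2 h),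
        fun h => absurd hi h⟩
    · haveI : Module.Finite A (H i) := hfin i
      obtain ⟨f, hf, hf'⟩ := exists_smul_eq_zero_of_isZero_atPrime (H i) q
        ((isZero_homology_shift_self C t i hi).of_iso (hq i))
      exact ⟨f, hf, fun _ => hf'⟩
  choose fi hfiq hfi using hkill
  let φ : A := ∏ i ∈ Finset.Icc a b, fi i
  have hφq : φ ∉ q := by
    intro h
    obtain ⟨i, -, hi⟩ := (Ideal.IsPrime.prod_mem_iff (hp := inferInstance)).1 h
    exact hfiq i hi
  -- the top module
  let M : ModuleCat.{u} A := H (-t)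
  haveI : Module.Finite A M := hfin (-t)
  let ε : (Fx A C).obj M ≅ ModuleCat.of C C := hq (-t) ≪≫ homologyShiftSelfIso C t
  let γ : (Fx A C).obj (ModuleCat.of A A) ⟶ (Fx A C).obj M := (extendSelfIso' C).hom ≫ ε.inv
  haveI : IsIso γ := by dsimp only [γ]; infer_instance
  obtain ⟨g, hg⟩ := exists_hom_isIso_extendScalars q (ModuleCat.of A A) M γ
  obtain ⟨f₀, hf₀q, hf₀⟩ := exists_away_isIso q (ModuleCat.of A A) M g hg
  refine ⟨f₀ * φ, fun h => (Ideal.IsPrime.mem_or_mem inferInstance h).elim hf₀q hφq, ?_⟩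
  let D := Localization.Away (f₀ * φ)
  haveI : Module.Flat A D := IsLocalization.flat D (Submonoid.powers (f₀ * φ))
  have hu : IsUnit (algebraMap A D (f₀ * φ)) := IsLocalization.Away.algebraMap_isUnit (f₀ * φ)
  have hu' := hu
  rw [map_mul] at hu'
  have hu₀ : IsUnit (algebraMap A D f₀) := isUnit_of_mul_isUnit_left hu'
  have huφ : IsUnit (algebraMap A D φ) := isUnit_of_mul_isUnit_right hu'
  have hui : ∀ i : ℤ, i ∈ Finset.Icc a b → IsUnit (algebraMap A D (fi i)) := by
    intro i hi
    have hdvd : algebraMap A D (fi i) ∣ algebraMap A D φ :=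
      map_dvd (algebraMap A D) (Finset.dvd_prod_of_mem fi hi)
    exact isUnit_of_dvd_unit hdvd huφ
  have hz : ∀ i : ℤ, i ≠ -t → IsZero ((homologyFunctor (ModuleCat.{u} D) i).obj
      ((DRing.LBaseChange (algebraMap A D)).obj ω)) := by
    intro i hi
    refine IsZero.of_iso ?_ (homologyLbcIso D ω i)
    by_cases hmem : i ∈ Finset.Icc a b
    · exact isZero_extendScalars_of_smul_eq_zero (H i) (fi i) (hfi i hi) D (hui i hmem)
    · have : i < a ∨ b < i := by
        rw [Finset.mem_Icc] at hmem
        omega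
      exact (Fx A D).map_isZero (hab i this)
  haveI := hf₀ D hu₀
  have htop : (homologyFunctor (ModuleCat.{u} D) (-t)).obj
      ((DRing.LBaseChange (algebraMap A D)).obj ω) ≅ ModuleCat.of D D :=
    homologyLbcIso D ω (-t) ≪≫ (asIso ((Fx A D).map g)).symm ≪≫ extendSelfIso' D
  obtain ⟨e1⟩ := nonempty_iso_single ((DRing.LBaseChange (algebraMap A D)).obj ω) (-t)
    (ModuleCat.of D D) hz ⟨htop⟩
  exact ⟨e1 ≪≫ (((singleFunctors (ModuleCat.{u} D)).shiftIso t (-t) 0 (by omega)).app
    (ModuleCat.of D D)).symm⟩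

end Groth.Agent.Lib.helper23.GorInv
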