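import Mathlib
import Groth.Prelude.Def_Wider
import Groth.Prelude.Def_DDual2
import Groth.Prelude.Def_DualSh
import Groth.Prelude.Def_CAlg
import Groth.Agent.Lib.Helper23.GorInv5
import Groth.Agent.Lib.Helper23.GFA3
import Groth.Agent.Lib.Helper23.RelDual7
import Groth.Agent.Lib.Helper23.DShift
import Groth.Agent.S11179
import Groth.Agent.S1801

/-!
# If the relative dualizing complex is locally a shift of the structure sheaf then the fibres are
Gorenstein (helper23)
-/

set_option autoImplicit false
universe u
open CategoryTheory CategoryTheory.Limits DerivedCategory Pretriangulated TensorProduct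

attribute [local instance] HasDerivedCategory.standard

namespace Groth.Agent.Lib.helper23.GorInv

section Local

variable {A B : Type u} [CommRing A] [CommRing B]

/-- a local ring over which some complex that is locally a shift of the structure sheaf becomes
dualizing is Gorenstein -/
theorem isDualizing_self_of_away_iso_shift [IsLocalRing B] [IsNoetherianRing B] (ω : Dual.D A)
    (θ : A →+* B) [DRing.HasLBaseChange θ] (hω : Dual.IsDualizing B ((DRing.LBaseChange θ).obj ω))
    (f : A) (hf : IsUnit (θ f)) [DRing.HasLBaseChange (algebraMap A (Localization.Away f))] (m : ℤ)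
    (e : (DRing.LBaseChange (algebraMap A (Localization.Away f))).obj ω ≅
      (Dual.inD (Localization.Away f) (Localization.Away f))⟦m⟧) :
    Dual.IsDualizing B (Dual.inD B B) := by
  let Af := Localization.Away f
  let χ : Af →+* B := IsLocalization.Away.lift f hf
  have hχ : χ.comp (algebraMap A Af) = θ := IsLocalization.Away.lift_comp f hf
  haveI := Groth.Agent.Lib.helper13.RKF.hasLBaseChange (R := Af) (A := B) χ
  obtain ⟨adjχ, -⟩ := Groth.Agent.Lib.helper13.RKF.exists_adjunction χ
  letI : (DRing.LBaseChange χ).CommShift ℤ := adjχ.leftAdjointCommShift ℤ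
  obtain ⟨eL⟩ := nonempty_lbcCompIso (algebraMap A Af) χ θ hχ.symm
  letI : Algebra Af B := χ.toAlgebra
  haveI : DRing.HasLBaseChange (algebraMap Af B) := inferInstanceAs (DRing.HasLBaseChange χ)
  obtain ⟨e1⟩ := RelDual.nonempty_lbc_unit_iso (R := Af) (k := B)
  have e1' : (DRing.LBaseChange χ).obj (Dual.inD Af Af) ≅ Dual.inD B B := e1
  let e2 : (DRing.LBaseChange θ).obj ω ≅ (Dual.inD B B)⟦m⟧ :=
    eL.app ω ≪≫ (DRing.LBaseChange χ).mapIso e ≪≫
      ((DRing.LBaseChange χ).commShiftIso m).app (Dual.inD Af Af) ≪≫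
      (shiftFunctor (Dual.D B) m).mapIso e1'
  have h1 : Dual.IsDualizing B ((Dual.inD B B)⟦m⟧) := FBC.isDualizing_of_iso e2 hω
  have h2 : Dual.IsDualizing B (((Dual.inD B B)⟦m⟧)⟦-m⟧) := FBC.isDualizing_shift _ (-m) h1
  exact FBC.isDualizing_of_iso (shiftShiftNeg (Dual.inD B B) m) h2

end Local

section Main

variable (R A : Type u) [CommRing R] [CommRing A] [IsNoetherianRing R] [IsNoetherianRing A]
  [Algebra R A] [Module.Flat R A]

theorem isGorensteinRing_fibre_of_locally_shift (n : ℕ)
    (ψ : MvPolynomial (Fin n) R →ₐ[R] A) (hψ : Function.Surjective ψ)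
    [DRing.HasLBaseChange (algebraMap R (MvPolynomial (Fin n) R))]
    (Rψ : Dual.D (MvPolynomial (Fin n) R) ⥤ Dual.D A) (adj : DRing.restrictD ψ.toRingHom ⊣ Rψ)
    [hL : ∀ f : A, DRing.HasLBaseChange (algebraMap A (Localization.Away f))]
    (h : ∀ q : PrimeSpectrum A, ∃ (f : A) (_ : f ∉ q.asIdeal) (m : ℤ),
      Nonempty ((DRing.LBaseChange (algebraMap A (Localization.Away f))).obj
        (Dual2.shriekVia n Rψ (Dual.inD R R)) ≅
        (Dual.inD (Localization.Away f) (Localization.Away f))⟦m⟧))
    (p : PrimeSpectrum R) : LocCoh.IsGorensteinRing (A ⊗[R] p.asIdeal.ResidueField) := by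
  let ω : Dual.D A := Dual2.shriekVia n Rψ (Dual.inD R R)
  obtain ⟨-, -, -, -, hfield⟩ := Groth.Agent.S1801.result R A n ψ hψ Rψ adj
  let k := p.asIdeal.ResidueField
  let T' := k ⊗[R] A
  let incl : A →+* T' := (Algebra.TensorProduct.includeRight : A →ₐ[R] k ⊗[R] A).toRingHom
  haveI := Groth.Agent.Lib.helper13.RKF.hasLBaseChange (R := A) (A := T') incl
  have hωB : Dual.IsDualizing T' ((DRing.LBaseChange incl).obj ω) := hfield k
  haveI hT'N : IsNoetherianRing T' := hωB.isNoetherianRing
  have hT' : LocCoh.IsGorensteinRing T' := by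
    refine { isGorensteinLocalRing_localization := fun q' hq' => ?_ }
    let B' := Localization.AtPrime q'
    haveI : IsNoetherianRing B' := IsLocalization.isNoetherianRing q'.primeCompl B' inferInstance
    haveI := Groth.Agent.Lib.helper13.RKF.hasLBaseChange (R := T') (A := B') (algebraMap T' B')
    have hω' : Dual.IsDualizing B' ((DRing.LBaseChange (algebraMap T' B')).obj
        ((DRing.LBaseChange incl).obj ω)) :=
      FBC.isDualizing_LBaseChange_localization T' q'.primeCompl _ hωB
    let θ : A →+* B' := (algebraMap T' B').comp incl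
    haveI := Groth.Agent.Lib.helper13.RKF.hasLBaseChange (R := A) (A := B') θ
    obtain ⟨eL⟩ := nonempty_lbcCompIso (A := A) (B := T') (C := B') incl (algebraMap T' B') θ rfl
    have hωθ : Dual.IsDualizing B' ((DRing.LBaseChange θ).obj ω) :=
      FBC.isDualizing_of_iso (eL.app ω).symm hω'
    let q : Ideal A := q'.comap incl
    haveI : q.IsPrime := Ideal.comap_isPrime incl q'
    obtain ⟨f, hfq, m, ⟨e⟩⟩ := h ⟨q, inferInstance⟩
    have hf : IsUnit (θ f) := IsLocalization.map_units B' (⟨incl f, hfq⟩ : q'.primeCompl)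
    exact (Groth.Agent.S11179.result B').2
      (isDualizing_self_of_away_iso_shift ω θ hωθ f hf m e)
  haveI : IsNoetherianRing (A ⊗[R] k) :=
    isNoetherianRing_of_ringEquiv T' (Algebra.TensorProduct.comm R k A).toRingEquiv
  refine { isGorensteinLocalRing_localization := fun P hP => ?_ }
  exact GFA.isGorensteinLocalRing_localization_of_ringEquiv
    (Algebra.TensorProduct.comm R k A).toRingEquiv hT' P

end Main

end Groth.Agent.Lib.helper23.GorInv
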