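import Mathlib
import Groth.Prelude.Def_RDerDelta
import Groth.Agent.Lib.Helper27.Horseshoe7

/-!
# Dimension shifting along a complex (helper23, block B1 of helper20's PLAN-S11924)

`C`, `D` abelian, `C` with injective resolutions, `F : C ⥤ D` additive, `K : CochainComplex C ℕ`.

* `sesB K n`: the short exact sequence `0 → Z^n → K^n → B^{n+1} → 0`, `B^{n+1} = im (K^n → Z^{n+1})`.
* `sesH K n`: the short exact sequence `0 → B^{n+1} → Z^{n+1} → H^{n+1} → 0`.
* `exists_mono`: if `K` is exact in degrees `< p`, `p ≤ c`, and `R^q F (K^j) = 0` for `q < c`,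
  `1 ≤ j ≤ p + 1`, then there is a monomorphism `R^0 F (H^p K) ⟶ R^p F (K^0)`, which is an
  isomorphism if moreover `p = c` and `R^c F (d^0) = 0`.
-/

set_option autoImplicit false

namespace Groth.Agent.Lib.helper23.DimShift

open CategoryTheory Limits Groth.Agent.Lib.helper27

universe v u v' u'

variable {C : Type u} [Category.{v} C] [Abelian C] {D : Type u'} [Category.{v'} D] [Abelian D]

section steps

variable [HasInjectiveResolutions C] {F : C ⥤ D} [F.Additive] (Δ : RDer.DerivedLES F)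

lemma mono_δ (S : ShortComplex C) (hS : S.ShortExact) (m : ℕ)
    (h : IsZero ((F.rightDerived m).obj S.X₂)) : Mono (Δ.δ S hS m (m + 1) rfl) :=
  (Δ.exact₃ S hS m (m + 1) rfl).mono_g (h.eq_of_src _ _)

lemma epi_δ (S : ShortComplex C) (hS : S.ShortExact) (m : ℕ)
    (h : (F.rightDerived (m + 1)).map S.f = 0) : Epi (Δ.δ S hS m (m + 1) rfl) :=
  (Δ.exact₁ S hS m (m + 1) rfl).epi_f h

include Δ in
lemma mono_map_f (S : ShortComplex C) (hS : S.ShortExact) (m : ℕ)
    (h : IsZero ((F.rightDerived m).obj S.X₃)) : Mono ((F.rightDerived (m + 1)).map S.f) :=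
  (Δ.exact₁ S hS m (m + 1) rfl).mono_g (h.eq_of_src _ _)

end steps

section cx

variable (K : CochainComplex C ℕ)

/-- `B^{n+1}`, the image of `K^n ⟶ Z^{n+1}` -/
noncomputable abbrev bd (n : ℕ) : C := Abelian.image (K.toCycles n (n + 1))

/-- `K^n ⟶ B^{n+1}` -/
noncomputable abbrev toBd (n : ℕ) : K.X n ⟶ bd K n := Abelian.factorThruImage (K.toCycles n (n + 1))

/-- `B^{n+1} ⟶ Z^{n+1}` -/
noncomputable abbrev bdι (n : ℕ) : bd K n ⟶ K.cycles (n + 1) := Abelian.image.ι (K.toCycles n (n + 1))

@[reassoc]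
lemma toBd_bdι (n : ℕ) : toBd K n ≫ bdι K n = K.toCycles n (n + 1) := Abelian.image.fac _

@[reassoc]
lemma toBd_bdι_iCycles (n : ℕ) : toBd K n ≫ bdι K n ≫ K.iCycles (n + 1) = K.d n (n + 1) := by
  rw [← Category.assoc, toBd_bdι, K.toCycles_i]

lemma iCycles_toBd (n : ℕ) : K.iCycles n ≫ toBd K n = 0 := by
  rw [← cancel_mono (bdι K n ≫ K.iCycles (n + 1)), Category.assoc, toBd_bdι_iCycles, zero_comp,
    K.iCycles_d]

lemma bdι_homologyπ (n : ℕ) : bdι K n ≫ K.homologyπ (n + 1) = 0 := by
  rw [← cancel_epi (toBd K n), ← Category.assoc, toBd_bdι, comp_zero, K.toCycles_comp_homologyπ]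

/-- `0 → Z^n → K^n → B^{n+1} → 0` -/
noncomputable abbrev sesB (n : ℕ) : ShortComplex C :=
  ShortComplex.mk (K.iCycles n) (toBd K n) (iCycles_toBd K n)

/-- `0 → B^{n+1} → Z^{n+1} → H^{n+1} → 0` -/
noncomputable abbrev sesH (n : ℕ) : ShortComplex C :=
  ShortComplex.mk (bdι K n) (K.homologyπ (n + 1)) (bdι_homologyπ K n)

lemma sesB_shortExact (n : ℕ) : (sesB K n).ShortExact := by
  have hk : IsLimit (KernelFork.ofι (K.iCycles n) (K.iCycles_d n (n + 1))) :=
    K.cyclesIsKernel n (n + 1) (by simp)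
  have hk' : IsLimit (KernelFork.ofι (K.iCycles n) (iCycles_toBd K n)) :=
    isKernelOfComp (f := toBd K n) (bdι K n ≫ K.iCycles (n + 1)) (K.d n (n + 1)) hk
      (iCycles_toBd K n) (toBd_bdι_iCycles K n)
  have hex : (sesB K n).Exact := ShortComplex.exact_of_f_is_kernel _ hk'
  have h1 : Mono (sesB K n).f := inferInstanceAs (Mono (K.iCycles n))
  have h2 : Epi (sesB K n).g := inferInstanceAs (Epi (toBd K n))
  exact ShortComplex.ShortExact.mk' hex h1 h2

lemma sesH_shortExact (n : ℕ) : (sesH K n).ShortExact := by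
  have hk : IsColimit (CokernelCofork.ofπ (K.homologyπ (n + 1))
      (K.toCycles_comp_homologyπ n (n + 1))) := K.homologyIsCokernel n (n + 1) (by simp)
  have hk' : IsColimit (CokernelCofork.ofπ (K.homologyπ (n + 1)) (bdι_homologyπ K n)) :=
    isCokernelOfComp (f := bdι K n) (toBd K n) (K.toCycles n (n + 1)) hk
      (bdι_homologyπ K n) (toBd_bdι K n)
  have hex : (sesH K n).Exact := ShortComplex.exact_of_g_is_cokernel _ hk'
  have h1 : Mono (sesH K n).f := inferInstanceAs (Mono (bdι K n))
  have h2 : Epi (sesH K n).g := inferInstanceAs (Epi (K.homologyπ (n + 1)))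
  exact ShortComplex.ShortExact.mk' hex h1 h2

lemma isIso_bdι (n : ℕ) (h : K.ExactAt (n + 1)) : IsIso (bdι K n) := by
  have hz : IsZero (K.homology (n + 1)) := (K.exactAt_iff_isZero_homology (n + 1)).1 h
  have he : Epi (sesH K n).f := (sesH_shortExact K n).exact.epi_f (hz.eq_of_tgt _ _)
  have he' : Epi (bdι K n) := he
  exact isIso_of_mono_of_epi _

lemma isIso_toBd_zero (h : K.ExactAt 0) : IsIso (toBd K 0) := by
  have hz : IsZero (K.cycles 0) :=
    ((K.exactAt_iff_isZero_homology 0).1 h).of_iso K.isoHomologyπ₀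
  have hk : IsLimit (KernelFork.ofι (K.iCycles 0) (K.iCycles_d 0 1)) :=
    K.cyclesIsKernel 0 1 (by simp)
  have hm : Mono (K.d 0 1) := by
    apply Preadditive.mono_of_cancel_zero
    intro P g hg
    have := KernelFork.IsLimit.lift' hk g hg
    rw [← this.2, hz.eq_of_tgt this.1 0, zero_comp]
  have hm2 : Mono (toBd K 0 ≫ bdι K 0 ≫ K.iCycles 1) := by
    rw [toBd_bdι_iCycles]; exact hm
  have hm3 : Mono (toBd K 0) := mono_of_mono _ (bdι K 0 ≫ K.iCycles 1)
  exact isIso_of_mono_of_epi _

end cx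

section main

variable [HasInjectiveResolutions C] (F : C ⥤ D) [F.Additive] (K : CochainComplex C ℕ)

theorem psi (Δ : RDer.DerivedLES F) (n : ℕ) : (∀ i, i ≤ n → K.ExactAt i) → ∀ m t : ℕ, m + n = t →
    (∀ i, 1 ≤ i → i ≤ n → IsZero ((F.rightDerived (t - i)).obj (K.X i))) →
    ∃ ψ : (F.rightDerived m).obj (bd K n) ⟶ (F.rightDerived t).obj (K.X 0), Mono ψ ∧
      ((∀ i, 2 ≤ i → i ≤ n → IsZero ((F.rightDerived (t - i + 1)).obj (K.X i))) →
        (1 ≤ n → (F.rightDerived t).map (K.d 0 1) = 0) → IsIso ψ) := by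
  induction n with
  | zero =>
    intro hex m t hmt _
    have hm : m = t := by omega
    subst hm
    have := isIso_toBd_zero K (hex 0 le_rfl)
    refine ⟨(F.rightDerived m).map (inv (toBd K 0)), inferInstance, fun _ _ => inferInstance⟩
  | succ n ih =>
    intro hex m t hmt hv
    obtain ⟨ψ', hψ'm, hψ'i⟩ := ih (fun i hi => hex i (by omega)) (m + 1) t (by omega)
      (fun i h1 h2 => hv i h1 (by omega))
    have hS := sesB_shortExact K (n + 1)
    have hι := isIso_bdι K n (hex (n + 1) le_rfl)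
    have hz : IsZero ((F.rightDerived m).obj (sesB K (n + 1)).X₂) := by
      have := hv (n + 1) (by omega) le_rfl
      have e : t - (n + 1) = m := by omega
      rw [e] at this
      exact this
    have hδm : Mono (Δ.δ _ hS m (m + 1) rfl) := mono_δ Δ _ hS m hz
    refine ⟨Δ.δ _ hS m (m + 1) rfl ≫ (F.rightDerived (m + 1)).map (inv (bdι K n)) ≫ ψ',
      inferInstance, fun hv2 hd => ?_⟩
    have hd' := hd (by omega)
    have hψ'iso : IsIso ψ' := hψ'i (fun i h1 h2 => hv2 i h1 (by omega)) (fun _ => hd')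
    have hδe : Epi (Δ.δ _ hS m (m + 1) rfl) := by
      apply epi_δ Δ _ hS m
      show (F.rightDerived (m + 1)).map (K.iCycles (n + 1)) = 0
      rcases Nat.eq_zero_or_pos n with rfl | hn
      · -- n = 0 : use `d 0 1`
        have e : m + 1 = t := by omega
        have h0 := isIso_toBd_zero K (hex 0 (by omega))
        have h1 : (F.rightDerived t).map (toBd K 0) ≫ (F.rightDerived t).map (bdι K 0) ≫
            (F.rightDerived t).map (K.iCycles 1) = 0 := by
          rw [← Functor.map_comp, ← Functor.map_comp, toBd_bdι_iCycles]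
          exact hd'
        rw [e]
        rw [← cancel_epi ((F.rightDerived t).map (bdι K 0)),
          ← cancel_epi ((F.rightDerived t).map (toBd K 0)), h1, comp_zero, comp_zero]
      · have := hv2 (n + 1) (by omega) le_rfl
        have e : t - (n + 1) + 1 = m + 1 := by omega
        rw [e] at this
        exact this.eq_of_tgt _ _
    have : IsIso (Δ.δ _ hS m (m + 1) rfl) := isIso_of_mono_of_epi _
    infer_instance

theorem exists_mono (p c : ℕ) (hpc : p ≤ c) (hex : ∀ j, j < p → K.ExactAt j)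
    (hvan : ∀ q j : ℕ, q < c → 1 ≤ j → j ≤ p + 1 → IsZero ((F.rightDerived q).obj (K.X j))) :
    ∃ φ : (F.rightDerived 0).obj (K.homology p) ⟶ (F.rightDerived p).obj (K.X 0),
      Mono φ ∧ (p = c → (F.rightDerived c).map (K.d 0 1) = 0 → IsIso φ) := by
  let Δ := Horseshoe.derivedLES F
  cases p with
  | zero =>
    have hlex : PreservesFiniteLimits (F.rightDerived 0) :=
      Horseshoe.rightDerived_zero_preservesFiniteLimits F
    refine ⟨(F.rightDerived 0).map (K.isoHomologyπ₀.inv ≫ K.iCycles 0), inferInstance, ?_⟩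
    intro hc hd
    subst hc
    have hS := sesB_shortExact K 0
    have hmono : Mono ((F.rightDerived 0).map (bdι K 0 ≫ K.iCycles 1)) := inferInstance
    have h0 : (F.rightDerived 0).map (toBd K 0) = 0 := by
      rw [← cancel_mono ((F.rightDerived 0).map (bdι K 0 ≫ K.iCycles 1)), ← Functor.map_comp,
        toBd_bdι_iCycles, zero_comp]
      exact hd
    have he : Epi ((F.rightDerived 0).map (K.iCycles 0)) :=
      (Δ.exact₂ _ hS 0).epi_f h0
    have : IsIso ((F.rightDerived 0).map (K.iCycles 0)) := isIso_of_mono_of_epi _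
    rw [Functor.map_comp]
    infer_instance
  | succ n =>
    have hH := sesH_shortExact K n
    have hc0 : 0 < c := by omega
    obtain ⟨ψ, hψm, hψi⟩ := psi F K Δ n (fun i hi => hex i (by omega)) 1 (n + 1) (by omega)
      (fun i h1 h2 => hvan (n + 1 - i) i (by omega) h1 (by omega))
    have hlex : PreservesFiniteLimits (F.rightDerived 0) :=
      Horseshoe.rightDerived_zero_preservesFiniteLimits F
    -- `R^0 F (Z^{n+1}) = 0`
    have hZ : IsZero ((F.rightDerived 0).obj (sesH K n).X₂) := by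
      have hm : Mono ((F.rightDerived 0).map (K.iCycles (n + 1))) := inferInstance
      exact IsZero.of_mono ((F.rightDerived 0).map (K.iCycles (n + 1)))
        (hvan 0 (n + 1) hc0 (by omega) (by omega))
    have hδm : Mono (Δ.δ _ hH 0 1 rfl) := mono_δ Δ _ hH 0 hZ
    refine ⟨Δ.δ _ hH 0 1 rfl ≫ ψ, inferInstance, fun hc hd => ?_⟩
    subst hc
    have hψiso : IsIso ψ := hψi (fun i h1 h2 => hvan (n + 1 - i + 1) i (by omega) (by omega)
      (by omega)) (fun _ => hd)
    have hδe : Epi (Δ.δ _ hH 0 1 rfl) := by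
      apply epi_δ Δ _ hH 0
      show (F.rightDerived 1).map (bdι K n) = 0
      -- `R^1 F (Z^{n+1} ⟶ K^{n+1})` is mono
      have hB : IsZero ((F.rightDerived 0).obj (sesB K (n + 1)).X₃) := by
        have hm : Mono ((F.rightDerived 0).map (bdι K (n + 1) ≫ K.iCycles (n + 1 + 1))) :=
          inferInstance
        exact IsZero.of_mono ((F.rightDerived 0).map (bdι K (n + 1) ≫ K.iCycles (n + 1 + 1)))
          (hvan 0 (n + 1 + 1) hc0 (by omega) (by omega))
      have hm1 : Mono ((F.rightDerived 1).map (K.iCycles (n + 1))) :=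
        mono_map_f Δ _ (sesB_shortExact K (n + 1)) 0 hB
      rw [← cancel_mono ((F.rightDerived 1).map (K.iCycles (n + 1))), zero_comp,
        ← Functor.map_comp]
      rcases Nat.eq_zero_or_pos n with rfl | hn
      · have h0 := isIso_toBd_zero K (hex 0 (by omega))
        rw [← cancel_epi ((F.rightDerived 1).map (toBd K 0)), ← Functor.map_comp,
          toBd_bdι_iCycles, comp_zero]
        exact hd
      · exact (hvan 1 (n + 1) (by omega) (by omega) (by omega)).eq_of_tgt _ _
    have : IsIso (Δ.δ _ hH 0 1 rfl) := isIso_of_mono_of_epi _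
    infer_instance

end main

end Groth.Agent.Lib.helper23.DimShift
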