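import Mathlib

/-!
Helper lemmas about isometries of anisotropic quadratic forms (helper23).
-/

set_option autoImplicit false
universe u v

namespace Groth.Agent.Lib.helper23

/-- A nonzero nilpotent endomorphism `N` has a vector `v` with `N v ≠ 0` and `N (N v) = 0`. -/
lemma exists_ne_zero_of_nilpotent {K : Type u} {V : Type v} [Semiring K] [AddCommMonoid V] [Module K V]
    (N : V →ₗ[K] V) (hN : IsNilpotent N) (h0 : N ≠ 0) :
    ∃ v : V, N v ≠ 0 ∧ N (N v) = 0 := by
  classical
  obtain ⟨k, hk⟩ := hN
  -- minimal exponent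
  let k0 := Nat.find (⟨k, hk⟩ : ∃ k, N ^ k = 0)
  have hk0 : N ^ k0 = 0 := Nat.find_spec (⟨k, hk⟩ : ∃ k, N ^ k = 0)
  have hmin : ∀ m, m < k0 → N ^ m ≠ 0 := fun m hm => Nat.find_min (⟨k, hk⟩ : ∃ k, N ^ k = 0) hm
  have h2 : 2 ≤ k0 := by
    by_contra hlt
    replace hlt : k0 < 2 := not_le.mp hlt
    interval_cases h : k0
    · -- N^0 = 1 = 0, so N = 0
      apply h0
      have h1 : (1 : V →ₗ[K] V) = 0 := by simpa using hk0
      calc N = N * 1 := (mul_one N).symm
        _ = 0 := by rw [h1, mul_zero]
    · apply h0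
      simpa using hk0
  obtain ⟨j, hj⟩ : ∃ j, k0 = j + 2 := ⟨k0 - 2, by omega⟩
  have hne : N ^ (j + 1) ≠ 0 := hmin (j + 1) (by omega)
  obtain ⟨w, hw⟩ : ∃ w, (N ^ (j + 1)) w ≠ 0 := by
    by_contra hcon
    exact hne (LinearMap.ext fun w => by_contra fun h => hcon ⟨w, h⟩)
  refine ⟨(N ^ j) w, ?_, ?_⟩
  · rwa [pow_succ', Module.End.mul_apply] at hw
  · have : (N ^ (j + 2)) w = 0 := by rw [← hj, hk0]; rfl
    rwa [pow_succ', pow_succ', Module.End.mul_apply, Module.End.mul_apply] at this

/-- A unipotent isometry of an anisotropic quadratic form (over a field where `2 ≠ 0`)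
is the identity. -/
lemma eq_one_of_isNilpotent_sub_one {K : Type u} {V : Type v} [Field K] [AddCommGroup V] [Module K V]
    (h2 : (2 : K) ≠ 0) (q : QuadraticForm K V) (hq : q.Anisotropic)
    (f : V →ₗ[K] V) (hf : ∀ x : V, q (f x) = q x) (hn : IsNilpotent (f - 1)) : f = 1 := by
  by_contra hne
  have h0 : f - 1 ≠ 0 := fun h => hne (sub_eq_zero.mp h)
  obtain ⟨v, hv1, hv2⟩ := exists_ne_zero_of_nilpotent (f - 1) hn h0
  set u := (f - 1) v with hu
  have hfv : f v = v + u := by
    simp [hu, LinearMap.sub_apply]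
  have hfu : f u = u := by
    have : (f - 1) u = 0 := hv2
    simpa [LinearMap.sub_apply, sub_eq_zero] using this
  have e1 : q (v + u) = q v := by rw [← hfv, hf]
  have e2 : q (v + u + u) = q v := by
    have : f (v + u) = v + u + u := by rw [map_add, hfv, hfu]
    rw [← this, hf, e1]
  have e1' : q u + QuadraticMap.polar q v u = 0 := by
    have := QuadraticMap.map_add q v u
    rw [e1] at this
    linear_combination (-1 : K) * this
  have e2' : q u + QuadraticMap.polar q (v + u) u = 0 := by
    have := QuadraticMap.map_add q (v + u) u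
    rw [e2, e1] at this
    linear_combination (-1 : K) * this
  have e3 : QuadraticMap.polar q (v + u) u = QuadraticMap.polar q v u + QuadraticMap.polar q u u :=
    QuadraticMap.polar_add_left q v u u
  have e4 : QuadraticMap.polar q u u = 2 * q u := by
    simp [QuadraticMap.polar_self q u]
  have e5 : 2 * q u = 0 := by
    rw [e3, e4] at e2'
    linear_combination e2' - e1'
  have : q u = 0 := by
    rcases mul_eq_zero.mp e5 with h | h
    · exact absurd h h2
    · exact h
  exact hv1 (hq u this)

open Polynomial in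
lemma sq_eq_one_of_pow_eq_one {K : Type u} {V : Type v} [Field K] [AddCommGroup V] [Module K V]
    [FiniteDimensional K V]
    (h2 : (2 : K) ≠ 0) (q : QuadraticForm K V) (hq : q.Anisotropic)
    (f : Module.End K V) (hf : ∀ x : V, q (f x) = q x) (m : ℕ) (hm : 0 < m) (hmK : (m : K) ≠ 0)
    (hsplit : (X ^ m - 1 : K[X]).Splits) (hfm : f ^ m = 1) : f ^ 2 = 1 := by
  classical
  set P : K[X] := X ^ m - 1 with hP
  have hP0 : P ≠ 0 := by
    have : P.Monic := by
      rw [hP]; exact monic_X_pow_sub_C (1 : K) hm.ne'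
    exact this.ne_zero
  have haeval : aeval f P = 0 := by simp [hP, hfm]
  have hdvd : minpoly K f ∣ P := minpoly.dvd K f haeval
  have hsep : P.Separable := by
    have := separable_X_pow_sub_C (1 : K) hmK one_ne_zero
    simpa [hP] using this
  have hμsep : (minpoly K f).Separable := hsep.of_dvd hdvd
  have hμsplit : (minpoly K f).Splits := hsplit.of_dvd hP0 hdvd
  have hint : IsIntegral K f := Algebra.IsIntegral.isIntegral f
  have hμmonic : (minpoly K f).Monic := minpoly.monic hint
  have hroots : ∀ a ∈ (minpoly K f).roots, a = 1 ∨ a = -1 := by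
    intro a ha
    have hroot : (minpoly K f).IsRoot a := (mem_roots hμmonic.ne_zero).mp ha
    have hev := Module.End.hasEigenvalue_of_isRoot hroot
    obtain ⟨v, hv⟩ := hev.exists_hasEigenvector
    have hfv : f v = a • v := hv.apply_eq_smul
    have hv0 : v ≠ 0 := hv.2
    have hq1 : q v = (a * a) * q v := by
      conv_lhs => rw [← hf v, hfv, QuadraticMap.map_smul]
      simp [smul_eq_mul]
    have hqv : q v ≠ 0 := fun h => hv0 (hq v h)
    have : a * a = 1 := by
      have h3 : (a * a - 1) * q v = 0 := by linear_combination -hq1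
      rcases mul_eq_zero.mp h3 with h | h
      · linear_combination h
      · exact absurd h hqv
    have h4 : (a - 1) * (a + 1) = 0 := by linear_combination this
    rcases mul_eq_zero.mp h4 with h | h
    · left; linear_combination h
    · right; linear_combination h
  have hnodup : (minpoly K f).roots.Nodup := nodup_roots hμsep
  have h1ne : (1 : K) ≠ -1 := by
    intro h
    apply h2
    linear_combination h
  have hle : (minpoly K f).roots ≤ ({1, -1} : Multiset K) := by
    rw [Multiset.le_iff_subset hnodup]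
    intro a ha
    rcases hroots a ha with h | h <;> simp [h]
  have hμdvd : minpoly K f ∣ X ^ 2 - 1 := by
    rw [hμsplit.eq_prod_roots_of_monic hμmonic]
    have := Multiset.prod_dvd_prod_of_le (Multiset.map_le_map (f := fun a : K => X - C a) hle)
    refine this.trans ?_
    simp only [Multiset.insert_eq_cons, Multiset.map_cons, Multiset.map_singleton,
      Multiset.prod_cons, Multiset.prod_singleton, map_one, map_neg]
    exact dvd_of_eq (by ring)
  have : aeval f (X ^ 2 - 1 : K[X]) = 0 := by
    obtain ⟨c, hc⟩ := hμdvd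
    rw [hc, map_mul, minpoly.aeval, zero_mul]
  have h5 : f ^ 2 - 1 = 0 := by simpa using this
  exact sub_eq_zero.mp h5

open Polynomial in
lemma sq_eq_one_of_finite_order {K : Type u} {V : Type v} [Field K] [AddCommGroup V] [Module K V]
    [FiniteDimensional K V]
    (hK : ∀ n : ℕ, 0 < n → (X ^ n - 1 : K[X]).Splits)
    (h2 : (2 : K) ≠ 0) (q : QuadraticForm K V) (hq : q.Anisotropic)
    (f : Module.End K V) (hf : ∀ x : V, q (f x) = q x) (d : ℕ) (hd : 0 < d)
    (hfd : f ^ d = 1) : f ^ 2 = 1 := by
  obtain ⟨p, hp⟩ := CharP.exists K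
  rcases CharP.char_is_prime_or_zero K p with hpp | hp0
  · have : Fact p.Prime := ⟨hpp⟩
    obtain ⟨a, m, hm, hdm⟩ := Nat.exists_eq_pow_mul_and_not_dvd hd.ne' p hpp.ne_one
    have hm0 : 0 < m := by
      rcases Nat.eq_zero_or_pos m with h | h
      · exact absurd (h ▸ dvd_zero p) hm
      · exact h
    have hmK : (m : K) ≠ 0 := by
      rwa [Ne, CharP.cast_eq_zero_iff K p]
    have hiso : ∀ x : V, q ((f ^ m) x) = q x := by
      have : ∀ (k : ℕ) (x : V), q ((f ^ k) x) = q x := by
        intro k
        induction k with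
        | zero => intro x; simp
        | succ k ih =>
          intro x
          rw [pow_succ, Module.End.mul_apply, ih, hf]
      exact this m
    have hnil : IsNilpotent (f ^ m - 1) := by
      refine ⟨p ^ a, ?_⟩
      have hpoly : ((X - 1 : K[X])) ^ (p ^ a) = X ^ (p ^ a) - 1 := by
        rw [sub_pow_char_pow, one_pow]
      have := congrArg (aeval (f ^ m)) hpoly
      have h3 : (f ^ m) ^ (p ^ a) = 1 := by rw [← pow_mul, mul_comm, ← hdm, hfd]
      simpa [h3] using this
    have hfm : f ^ m = 1 := eq_one_of_isNilpotent_sub_one h2 q hq (f ^ m) hiso hnil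
    exact sq_eq_one_of_pow_eq_one h2 q hq f hf m hm0 hmK (hK m hm0) hfm
  · subst hp0
    have : CharZero K := CharP.charP_to_charZero K
    exact sq_eq_one_of_pow_eq_one h2 q hq f hf d hd (Nat.cast_ne_zero.mpr hd.ne') (hK d hd) hfd

end Groth.Agent.Lib.helper23
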