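import Mathlib
import Groth.Prelude.Def_DRing2
import Groth.Prelude.Def_DerCA
import Groth.Agent.Lib.Helper23.BaseChg4
import Groth.Agent.Lib.Helper23.RelFP2

set_option autoImplicit false
universe u
open CategoryTheory CategoryTheory.Limits TensorProduct

attribute [local instance] HasDerivedCategory.standard

namespace Groth.Agent.Lib.helper23.BaseChg

open Groth.Agent.Lib.helper23.ExtSc Groth.Agent.Lib.helper23.PCohCore
  Groth.Agent.Lib.helper23.DRingPC

section Single

variable {A : Type u} [CommRing A] (M : Type u) [AddCommGroup M] [Module A M]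

/-- the complex `M[0]`. -/
noncomputable abbrev singleCx : DRing.Cx A :=
  (HomologicalComplex.single (ModuleCat.{u} A) (ComplexShape.up ℤ) 0).obj (ModuleCat.of A M)

/-- `M[0]` as an object of `D(A)`. -/
noncomputable def toDSingleIso :
    DRing.toD (singleCx (A := A) M) ≅
      (DerivedCategory.singleFunctor (ModuleCat.{u} A) 0).obj (ModuleCat.of A M) :=
  ((DerivedCategory.singleFunctorIsoCompQ (ModuleCat.{u} A) 0).app (ModuleCat.of A M)).symm

/-- the localization of `M[0]`. -/
noncomputable def extendSingleIso (f : A) :
    DRing.toD (((ModuleCat.extendScalars.{u, u, u}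
      (algebraMap A (Localization.Away f))).mapHomologicalComplex (ComplexShape.up ℤ)).obj
        (singleCx (A := A) M)) ≅
      (DerivedCategory.singleFunctor (ModuleCat.{u} (Localization.Away f)) 0).obj
        (ModuleCat.of (Localization.Away f) (LocalizedModule (Submonoid.powers f) M)) :=
  DerivedCategory.Q.mapIso ((HomologicalComplex.singleMapHomologicalComplex
      (ModuleCat.extendScalars.{u, u, u} (algebraMap A (Localization.Away f)))
      (ComplexShape.up ℤ) 0).app (ModuleCat.of A M)) ≪≫
    ((DerivedCategory.singleFunctorIsoCompQ (ModuleCat.{u} (Localization.Away f)) 0).app _).symm ≪≫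
    (DerivedCategory.singleFunctor (ModuleCat.{u} (Localization.Away f)) 0).mapIso
      ((extendObjEquiv (B := Localization.Away f) (ModuleCat.of A M)).trans
        (LocalizedModule.equivTensorProduct (Submonoid.powers f) M).symm).toModuleIso

end Single

section Modules

variable {R A : Type u} [CommRing R] [CommRing A] [Algebra R A] {n : ℕ}
  (α : MvPolynomial (Fin n) R →ₐ[R] A) (hα : Function.Surjective α)
  (M : Type u) [AddCommGroup M] [Module A M]

include hα in
/-- finite presentation through a presentation localizes. -/
theorem fp_localizedModule (g : A) {k : ℕ}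
    (γ : MvPolynomial (Fin k) R →ₐ[R] Localization.Away g) (hγ : Function.Surjective γ)
    (h : @Module.FinitePresentation (MvPolynomial (Fin n) R) M _ _
      (Module.compHom M α.toRingHom)) :
    @Module.FinitePresentation (MvPolynomial (Fin k) R)
      (LocalizedModule (Submonoid.powers g) M) _ _
      (Module.compHom (LocalizedModule (Submonoid.powers g) M) γ.toRingHom) := by
  rw [fp_compHom_iff_isRelPseudoCoherent γ hγ]
  rw [fp_compHom_iff_isRelPseudoCoherent α hα M] at h
  obtain ⟨F, hF⟩ := hα g
  haveI : IsLocalization.Away ((α : MvPolynomial (Fin n) R →+* A) F)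
      (Localization.Away g) := by
    show IsLocalization.Away (α F) _
    rw [hF]
    infer_instance
  exact isRelPseudoCoherent_of_iso (extendSingleIso M g) _
    (isRelPseudoCoherent_extend α hα F (Localization.Away g) (singleCx M) (-1)
      (isRelPseudoCoherent_of_iso (toDSingleIso M).symm _ h))

include hα in
/-- S7007 for a general finite index type. -/
theorem fp_local_iff {ι : Type} [Finite ι] (f : ι → A) (hf : Ideal.span (Set.range f) = ⊤)
    (k : ι → ℕ) (γ : ∀ i, MvPolynomial (Fin (k i)) R →ₐ[R] Localization.Away (f i))
    (hγ : ∀ i, Function.Surjective (γ i)) :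
    @Module.FinitePresentation (MvPolynomial (Fin n) R) M _ _ (Module.compHom M α.toRingHom) ↔
      ∀ i, @Module.FinitePresentation (MvPolynomial (Fin (k i)) R)
        (LocalizedModule (Submonoid.powers (f i)) M) _ _
        (Module.compHom (LocalizedModule (Submonoid.powers (f i)) M) (γ i).toRingHom) := by
  constructor
  · intro h i
    exact fp_localizedModule α hα M (f i) (γ i) (hγ i) h
  · intro h
    rw [fp_compHom_iff_isRelPseudoCoherent α hα M]
    refine isRelPseudoCoherent_of_iso (toDSingleIso M) _
      (isRelPseudoCoherent_of_cover α hα f hf (singleCx M) (-1) (fun i => ?_))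
    have hi := (fp_compHom_iff_isRelPseudoCoherent (γ i) (hγ i) _).1 (h i)
    exact isRelPseudoCoherent_of_iso (extendSingleIso M (f i)).symm _ hi

end Modules

end Groth.Agent.Lib.helper23.BaseChg
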