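import Mathlib
import Groth.Agent.Lib.Helper13.Adapted2D

/-!
# Existence of left derived functors from adapted data (helper23)

Complements helper13's `Adapted2` (which computes a derived functor that is known to exist):

* `exists_isLeftDerivedFunctor` : for `IsAdapted L W ι W'` and `Φ : C ⥤ H` such that `ι ⋙ Φ` inverts `W'`, a left
  derived functor of `Φ` along `L` exists.
* `isLeftDerivedFunctor_cx` : a left derived functor of `Fh` along `L` gives a left derived functor of `F ≅ q ⋙ Fh`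
  along `L₀ ≅ q ⋙ L`, for `q` a localization.
* `hasLeftDerivedFunctor_cx`, `hasLeftDerivedFunctor₂`, `hasLeftDerivedFunctor₃` : existence of derived functors of
  several variables on complexes, from adapted classes.
-/

set_option autoImplicit false
universe v₁ v₂ v₃ v₄ v₅ u₁ u₂ u₃ u₄ u₅
open CategoryTheory

namespace Groth.Agent.Lib.helper23.Binders

open Groth.Agent.Lib.helper13.Adapted2

section B1

variable {C : Type u₁} [Category.{v₁} C] {D : Type u₂} [Category.{v₂} D]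
  {H : Type u₃} [Category.{v₃} H] {A' : Type u₄} [Category.{v₄} A']
  {L : C ⥤ D} {W : MorphismProperty C} {ι : A' ⥤ C} {W' : MorphismProperty A'}

/-- existence of a left derived functor from adapted data -/
theorem exists_isLeftDerivedFunctor (h : IsAdapted L W ι W') [L.IsLocalization W] (Φ : C ⥤ H)
    (hinv : W'.IsInvertedBy (ι ⋙ Φ)) :
    ∃ (G : D ⥤ H) (β : L ⋙ G ⟶ Φ), G.IsLeftDerivedFunctor β W := by
  classical
  haveI := h.full
  haveI := h.faithful
  haveI hloc := h.isLocalization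
  let G : D ⥤ H := Localization.lift (ι ⋙ Φ) hinv (ι ⋙ L)
  let e₀ : (ι ⋙ L) ⋙ G ≅ ι ⋙ Φ := Localization.fac (ι ⋙ Φ) hinv (ι ⋙ L)
  have hres := h.hres
  choose R s hs using hres
  haveI : ∀ X, IsIso (L.map (s X)) := fun X => Localization.inverts L W _ (hs X)
  let βapp : ∀ X : C, G.obj (L.obj X) ⟶ Φ.obj X := fun X =>
    inv (G.map (L.map (s X))) ≫ e₀.hom.app (R X) ≫ Φ.map (s X)
  have e₀nat : ∀ {P P' : A'} (g : P ⟶ P'),
      G.map (L.map (ι.map g)) ≫ e₀.hom.app P' = e₀.hom.app P ≫ Φ.map (ι.map g) := by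
    intro P P' g
    exact e₀.hom.naturality g
  have βnat : ∀ {X Y : C} (f : X ⟶ Y), G.map (L.map f) ≫ βapp Y = βapp X ≫ Φ.map f := by
    intro X Y f
    obtain ⟨P'', t, g, ht, fac⟩ := h.harrow f (R X) (R Y) (s X) (s Y) (hs Y)
    haveI : IsIso (L.map (ι.map t)) := Localization.inverts L W _ ht
    have h1 : G.map (L.map f) ≫ inv (G.map (L.map (s Y))) =
        inv (G.map (L.map (s X))) ≫ inv (G.map (L.map (ι.map t))) ≫ G.map (L.map (ι.map g)) := by
      rw [IsIso.comp_inv_eq, Category.assoc, Category.assoc, IsIso.eq_inv_comp, IsIso.eq_inv_comp]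
      simp only [← Functor.map_comp]
      rw [fac]
    have h2 := e₀nat g
    have h3 := e₀nat t
    have h4 : inv (G.map (L.map (ι.map t))) ≫ e₀.hom.app P'' ≫ Φ.map (ι.map t) =
        e₀.hom.app (R X) := by
      rw [IsIso.inv_comp_eq, h3]
    calc G.map (L.map f) ≫ βapp Y
        = (G.map (L.map f) ≫ inv (G.map (L.map (s Y)))) ≫ e₀.hom.app (R Y) ≫
            Φ.map (s Y) := by simp only [βapp, Category.assoc]
      _ = inv (G.map (L.map (s X))) ≫ inv (G.map (L.map (ι.map t))) ≫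
            (G.map (L.map (ι.map g)) ≫ e₀.hom.app (R Y)) ≫ Φ.map (s Y) := by
          rw [h1]; simp only [Category.assoc]
      _ = inv (G.map (L.map (s X))) ≫ inv (G.map (L.map (ι.map t))) ≫
            e₀.hom.app P'' ≫ Φ.map (ι.map g ≫ s Y) := by
          rw [h2]; simp only [Category.assoc, Functor.map_comp]
      _ = inv (G.map (L.map (s X))) ≫ (inv (G.map (L.map (ι.map t))) ≫
            e₀.hom.app P'' ≫ Φ.map (ι.map t)) ≫ Φ.map (s X) ≫ Φ.map f := by
          rw [← fac]; simp only [Category.assoc, Functor.map_comp]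
      _ = βapp X ≫ Φ.map f := by
          rw [h4]; simp only [βapp, Category.assoc]
  let β : L ⋙ G ⟶ Φ := { app := βapp, naturality := fun X Y f => βnat f }
  have βA : ∀ (Q : A'), β.app (ι.obj Q) = e₀.hom.app Q := by
    intro Q
    obtain ⟨g, hg⟩ := ι.map_surjective (s (ι.obj Q))
    have := e₀nat g
    rw [hg] at this
    change inv (G.map (L.map (s (ι.obj Q)))) ≫ e₀.hom.app (R (ι.obj Q)) ≫ Φ.map (s (ι.obj Q)) = _
    rw [IsIso.inv_comp_eq, this]
  refine ⟨G, β, ?_⟩
  rw [Functor.isLeftDerivedFunctor_iff_isRightKanExtension]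
  -- the lift
  let γ : ∀ (G' : D ⥤ H) (_ : L ⋙ G' ⟶ Φ), G' ⟶ G := fun G' β' =>
    Localization.liftNatTrans (ι ⋙ L) W' ((ι ⋙ L) ⋙ G') ((ι ⋙ L) ⋙ G) G' G
      ((Functor.associator _ _ _).hom ≫ Functor.whiskerLeft ι β' ≫ e₀.inv)
  have hγ : ∀ (G' : D ⥤ H) (β' : L ⋙ G' ⟶ Φ) (Q : A'),
      (γ G' β').app (L.obj (ι.obj Q)) = β'.app (ι.obj Q) ≫ e₀.inv.app Q := by
    intro G' β' Q
    have := Localization.liftNatTrans_app (ι ⋙ L) W' ((ι ⋙ L) ⋙ G') ((ι ⋙ L) ⋙ G) G' G
      ((Functor.associator _ _ _).hom ≫ Functor.whiskerLeft ι β' ≫ e₀.inv) Q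
    simpa [γ] using this
  have hlift : ∀ (G' : D ⥤ H) (β' : L ⋙ G' ⟶ Φ), Functor.whiskerLeft L (γ G' β') ≫ β = β' := by
    intro G' β'
    ext X
    rw [NatTrans.comp_app, Functor.whiskerLeft_app]
    haveI : IsIso (G'.map (L.map (s X))) := inferInstance
    rw [← cancel_epi (G'.map (L.map (s X)))]
    have n1 := (γ G' β').naturality (L.map (s X))
    have n2 : G.map (L.map (s X)) ≫ β.app X = β.app (ι.obj (R X)) ≫ Φ.map (s X) :=
      β.naturality (s X)
    have n3 : G'.map (L.map (s X)) ≫ β'.app X = β'.app (ι.obj (R X)) ≫ Φ.map (s X) :=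
      β'.naturality (s X)
    rw [reassoc_of% n1, n2, n3, hγ, βA, Category.assoc, Iso.inv_hom_id_app_assoc]
  have huniq : ∀ (G' : D ⥤ H) (γ₁ γ₂ : G' ⟶ G),
      Functor.whiskerLeft L γ₁ ≫ β = Functor.whiskerLeft L γ₂ ≫ β → γ₁ = γ₂ := by
    intro G' γ₁ γ₂ hh
    apply Localization.natTrans_ext (ι ⋙ L) W'
    intro Q
    have h' := congr_app hh (ι.obj Q)
    rw [NatTrans.comp_app, NatTrans.comp_app, Functor.whiskerLeft_app, Functor.whiskerLeft_app, βA] at h'
    exact (cancel_mono _).1 h'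
  refine ⟨⟨Limits.IsTerminal.ofUniqueHom
    (fun E => CostructuredArrow.homMk _ (hlift E.left E.hom)) (fun E m => ?_)⟩⟩
  apply CostructuredArrow.ext
  apply huniq
  have := CostructuredArrow.w m
  exact this.trans (hlift E.left E.hom).symm

end B1

section B2

variable {C₀ : Type u₁} [Category.{v₁} C₀] {C : Type u₂} [Category.{v₂} C]
  {D : Type u₃} [Category.{v₃} D] {H : Type u₄} [Category.{v₄} H]
  (q : C₀ ⥤ C) (Wq : MorphismProperty C₀) [q.IsLocalization Wq]
  (L : C ⥤ D) (W : MorphismProperty C) [L.IsLocalization W]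
  (L₀ : C₀ ⥤ D) (W₀ : MorphismProperty C₀) [L₀.IsLocalization W₀] (eL : q ⋙ L ≅ L₀)
  (F : C₀ ⥤ H) (Fh : C ⥤ H) (eF : q ⋙ Fh ≅ F)
  (G : D ⥤ H) (β : L ⋙ G ⟶ Fh)

/-- the natural transformation on `C₀` induced by `β : L ⋙ G ⟶ Fh` -/
def liftε : L₀ ⋙ G ⟶ F where
  app X := G.map (eL.inv.app X) ≫ β.app (q.obj X) ≫ eF.hom.app X
  naturality X Y f := by
    have h1 := eL.inv.naturality f
    have h2 := β.naturality (q.map f)
    have h3 := eF.hom.naturality f
    dsimp at h1 h2 h3 ⊢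
    rw [← G.map_comp_assoc, h1, G.map_comp_assoc, reassoc_of% h2, h3]
    simp only [Category.assoc]

include Wq in
/-- a left derived functor along `L` is a left derived functor along `L₀ ≅ q ⋙ L` -/
theorem isLeftDerivedFunctor_liftε [G.IsLeftDerivedFunctor β W] :
    G.IsLeftDerivedFunctor (liftε q L L₀ eL F Fh eF G β) W₀ := by
  rw [Functor.isLeftDerivedFunctor_iff_isRightKanExtension]
  set β₀ := liftε q L L₀ eL F Fh eF G β with hβ₀
  have happ : ∀ X, β₀.app X = G.map (eL.inv.app X) ≫ β.app (q.obj X) ≫ eF.hom.app X := fun X => rfl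
  let βh : ∀ (G' : D ⥤ H) (_ : L₀ ⋙ G' ⟶ F), L ⋙ G' ⟶ Fh := fun G' β' =>
    descε q Wq L L₀ eL F Fh eF G' β'
  have hβh : ∀ (G' : D ⥤ H) (β' : L₀ ⋙ G' ⟶ F) (X : C₀),
      (βh G' β').app (q.obj X) = G'.map (eL.hom.app X) ≫ β'.app X ≫ eF.inv.app X :=
    fun G' β' X => descε_app q Wq L L₀ eL F Fh eF G' β' X
  have hlift : ∀ (G' : D ⥤ H) (β' : L₀ ⋙ G' ⟶ F),
      Functor.whiskerLeft L₀ (G.leftDerivedLift β W G' (βh G' β')) ≫ β₀ = β' := by
    intro G' β'
    ext X
    have hγ := G.leftDerived_fac_app β W G' (βh G' β') (q.obj X)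
    have hn := ((G.leftDerivedLift β W G' (βh G' β')).naturality (eL.inv.app X)).symm
    dsimp at hn
    rw [NatTrans.comp_app, Functor.whiskerLeft_app, happ, reassoc_of% hn, reassoc_of% hγ, hβh]
    simp only [Category.assoc, Iso.inv_hom_id_app, Category.comp_id]
    rw [← G'.map_comp_assoc, Iso.inv_hom_id_app]
    erw [G'.map_id, Category.id_comp]
  have huniq : ∀ (G' : D ⥤ H) (γ₁ γ₂ : G' ⟶ G),
      Functor.whiskerLeft L₀ γ₁ ≫ β₀ = Functor.whiskerLeft L₀ γ₂ ≫ β₀ → γ₁ = γ₂ := by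
    intro G' γ₁ γ₂ hh
    apply G.leftDerived_ext β W
    apply Localization.natTrans_ext q Wq
    intro X
    have h' := congr_app hh X
    rw [NatTrans.comp_app, NatTrans.comp_app, Functor.whiskerLeft_app, Functor.whiskerLeft_app,
      happ] at h'
    have hn₁ := (γ₁.naturality (eL.inv.app X)).symm
    have hn₂ := (γ₂.naturality (eL.inv.app X)).symm
    dsimp at hn₁ hn₂
    rw [reassoc_of% hn₁, reassoc_of% hn₂] at h'
    have h'' := (cancel_epi _).1 h'
    simp only [← Category.assoc] at h''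
    have h3 := (cancel_mono _).1 h''
    simpa using h3
  refine ⟨⟨Limits.IsTerminal.ofUniqueHom
    (fun E => CostructuredArrow.homMk _ (hlift E.left E.hom)) (fun E m => ?_)⟩⟩
  apply CostructuredArrow.ext
  apply huniq
  have := CostructuredArrow.w m
  exact this.trans (hlift E.left E.hom).symm

end B2

section Main

variable {C₀ : Type u₁} [Category.{v₁} C₀] {C : Type u₂} [Category.{v₂} C]
  {D : Type u₃} [Category.{v₃} D] {H : Type u₄} [Category.{v₄} H]
  {A' : Type u₅} [Category.{v₅} A']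
  {q : C₀ ⥤ C} (Wq : MorphismProperty C₀) [q.IsLocalization Wq]
  {L : C ⥤ D} {W : MorphismProperty C} [L.IsLocalization W]
  {L₀ : C₀ ⥤ D} (W₀ : MorphismProperty C₀) [L₀.IsLocalization W₀]
  {ι : A' ⥤ C} {W' : MorphismProperty A'} {P₀ : ObjectProperty C₀}
  {W₀c : MorphismProperty C₀} {o : A' → C₀} {e : ∀ P, ι.obj P ≅ q.obj (o P)}

/-- **Existence of derived functors of several variables from adapted tuples** (abstract form). -/
theorem hasLeftDerivedFunctor_cx (eL : q ⋙ L ≅ L₀) (h : IsAdapted L W ι W')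
    (h₀ : IsAdaptedCx q ι W' P₀ W₀c o e)
    (F : C₀ ⥤ H) (hFq : Wq.IsInvertedBy F)
    (hF₀ : ∀ {X X' : C₀} (f : X ⟶ X'), P₀ X → P₀ X' → W₀c f → IsIso (F.map f)) :
    F.HasLeftDerivedFunctor W₀ := by
  let Fh : C ⥤ H := Localization.lift F hFq q
  let eF : q ⋙ Fh ≅ F := Localization.fac F hFq q
  have hinv : W'.IsInvertedBy (ι ⋙ Fh) := by
    intro P P' t ht
    obtain ⟨f, hf, fac⟩ := h₀.lift_map t ht
    haveI : IsIso (F.map f) := hF₀ f (h₀.ho P) (h₀.ho P') hf
    have h1 : Fh.map (q.map f) = eF.hom.app _ ≫ F.map f ≫ eF.inv.app _ := by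
      have := eF.hom.naturality f
      dsimp at this
      rw [← reassoc_of% this, Iso.hom_inv_id_app]
      exact (Category.comp_id _).symm
    haveI : IsIso (Fh.map (q.map f)) := by rw [h1]; infer_instance
    have h2 : ι.map t = (e P).hom ≫ q.map f ≫ (e P').inv := by
      rw [fac]; simp
    change IsIso (Fh.map (ι.map t))
    rw [h2, Functor.map_comp, Functor.map_comp]
    infer_instance
  obtain ⟨G, β, hG⟩ := exists_isLeftDerivedFunctor h Fh hinv
  haveI := isLeftDerivedFunctor_liftε q Wq L W L₀ W₀ eL F Fh eF G β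
  exact Functor.HasLeftDerivedFunctor.mk' (L := L₀) (LF := G) (α := liftε q L L₀ eL F Fh eF G β)

end Main

section Cx

open Groth.Agent.Lib.Helper25.LDerAdapted HomotopyCategory

universe w v u v' u'

variable {A₁ : Type u} [Category.{v} A₁] [Abelian A₁] [HasDerivedCategory.{w} A₁]
  {A₂ : Type u} [Category.{v} A₂] [Abelian A₂] [HasDerivedCategory.{w} A₂]
  {A₃ : Type u} [Category.{v} A₃] [Abelian A₃] [HasDerivedCategory.{w} A₃]
  {H : Type u'} [Category.{v'} H]

section Two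

variable (P₁ : ObjectProperty (CochainComplex A₁ ℤ)) (hP₁ : IsAdaptedClass P₁)
  (P₂ : ObjectProperty (CochainComplex A₂ ℤ)) (hP₂ : IsAdaptedClass P₂)
  (F : CochainComplex A₁ ℤ × CochainComplex A₂ ℤ ⥤ H)
  (hFq : ((HomologicalComplex.homotopyEquivalences A₁ (ComplexShape.up ℤ)).prod
    (HomologicalComplex.homotopyEquivalences A₂ (ComplexShape.up ℤ))).IsInvertedBy F)
  (hF₀ : ∀ {X X' : CochainComplex A₁ ℤ × CochainComplex A₂ ℤ} (f : X ⟶ X'),
    P₁ X.1 → P₂ X.2 → P₁ X'.1 → P₂ X'.2 → QuasiIso f.1 → QuasiIso f.2 → IsIso (F.map f))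

include hP₁ hP₂ hFq hF₀ in
/-- existence of the left derived functor of a functor of two complexes, from adapted classes -/
theorem hasLeftDerivedFunctor₂ :
    F.HasLeftDerivedFunctor ((HomologicalComplex.quasiIso A₁ (ComplexShape.up ℤ)).prod
      (HomologicalComplex.quasiIso A₂ (ComplexShape.up ℤ))) := by
  have a₁ := isAdapted_strictP P₁ hP₁.hzero hP₁.hshift hP₁.hcone hP₁.hres₀
  have a₂ := isAdapted_strictP P₂ hP₂.hzero hP₂.hshift hP₂.hcone hP₂.hres₀
  have c₁ := isAdaptedCx_strictP P₁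
  have c₂ := isAdaptedCx_strictP P₂
  let eL : ((quotient A₁ (ComplexShape.up ℤ)).prod (quotient A₂ (ComplexShape.up ℤ))) ⋙
      (DerivedCategory.Qh.prod DerivedCategory.Qh) ≅
      (DerivedCategory.Q.prod DerivedCategory.Q : _ ⥤ DerivedCategory A₁ × DerivedCategory A₂) :=
    NatIso.prod (DerivedCategory.quotientCompQhIso A₁) (DerivedCategory.quotientCompQhIso A₂)
  exact hasLeftDerivedFunctor_cx
    ((HomologicalComplex.homotopyEquivalences A₁ (ComplexShape.up ℤ)).prod
      (HomologicalComplex.homotopyEquivalences A₂ (ComplexShape.up ℤ)))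
    ((HomologicalComplex.quasiIso A₁ (ComplexShape.up ℤ)).prod
      (HomologicalComplex.quasiIso A₂ (ComplexShape.up ℤ)))
    eL (a₁.prod a₂) (c₁.prod c₂) F hFq
    (fun f hX hX' hf => hF₀ f hX.1 hX.2 hX'.1 hX'.2
      ((HomologicalComplex.mem_quasiIso_iff _).1 hf.1)
      ((HomologicalComplex.mem_quasiIso_iff _).1 hf.2))

end Two

section Three

variable (P₁ : ObjectProperty (CochainComplex A₁ ℤ)) (hP₁ : IsAdaptedClass P₁)
  (P₂ : ObjectProperty (CochainComplex A₂ ℤ)) (hP₂ : IsAdaptedClass P₂)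
  (P₃ : ObjectProperty (CochainComplex A₃ ℤ)) (hP₃ : IsAdaptedClass P₃)
  (F : CochainComplex A₁ ℤ × (CochainComplex A₂ ℤ × CochainComplex A₃ ℤ) ⥤ H)
  (hFq : ((HomologicalComplex.homotopyEquivalences A₁ (ComplexShape.up ℤ)).prod
    ((HomologicalComplex.homotopyEquivalences A₂ (ComplexShape.up ℤ)).prod
      (HomologicalComplex.homotopyEquivalences A₃ (ComplexShape.up ℤ)))).IsInvertedBy F)
  (hF₀ : ∀ {X X' : CochainComplex A₁ ℤ × (CochainComplex A₂ ℤ × CochainComplex A₃ ℤ)}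
    (f : X ⟶ X'), P₁ X.1 → P₂ X.2.1 → P₃ X.2.2 → P₁ X'.1 → P₂ X'.2.1 → P₃ X'.2.2 →
    QuasiIso f.1 → QuasiIso f.2.1 → QuasiIso f.2.2 → IsIso (F.map f))

include hP₁ hP₂ hP₃ hFq hF₀ in
/-- existence of the left derived functor of a functor of three complexes, from adapted classes -/
theorem hasLeftDerivedFunctor₃ :
    F.HasLeftDerivedFunctor ((HomologicalComplex.quasiIso A₁ (ComplexShape.up ℤ)).prod
      ((HomologicalComplex.quasiIso A₂ (ComplexShape.up ℤ)).prod
        (HomologicalComplex.quasiIso A₃ (ComplexShape.up ℤ)))) := by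
  have a₁ := isAdapted_strictP P₁ hP₁.hzero hP₁.hshift hP₁.hcone hP₁.hres₀
  have a₂ := isAdapted_strictP P₂ hP₂.hzero hP₂.hshift hP₂.hcone hP₂.hres₀
  have a₃ := isAdapted_strictP P₃ hP₃.hzero hP₃.hshift hP₃.hcone hP₃.hres₀
  have c₁ := isAdaptedCx_strictP P₁
  have c₂ := isAdaptedCx_strictP P₂
  have c₃ := isAdaptedCx_strictP P₃
  let eL : ((quotient A₁ (ComplexShape.up ℤ)).prod
        ((quotient A₂ (ComplexShape.up ℤ)).prod (quotient A₃ (ComplexShape.up ℤ)))) ⋙
      ((DerivedCategory.Qh (C := A₁)).prod ((DerivedCategory.Qh (C := A₂)).prod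
        (DerivedCategory.Qh (C := A₃)))) ≅
      ((DerivedCategory.Q (C := A₁)).prod ((DerivedCategory.Q (C := A₂)).prod
        (DerivedCategory.Q (C := A₃)))) :=
    NatIso.prod (DerivedCategory.quotientCompQhIso A₁)
      (NatIso.prod (DerivedCategory.quotientCompQhIso A₂) (DerivedCategory.quotientCompQhIso A₃))
  exact hasLeftDerivedFunctor_cx
    ((HomologicalComplex.homotopyEquivalences A₁ (ComplexShape.up ℤ)).prod
      ((HomologicalComplex.homotopyEquivalences A₂ (ComplexShape.up ℤ)).prod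
        (HomologicalComplex.homotopyEquivalences A₃ (ComplexShape.up ℤ))))
    ((HomologicalComplex.quasiIso A₁ (ComplexShape.up ℤ)).prod
      ((HomologicalComplex.quasiIso A₂ (ComplexShape.up ℤ)).prod
        (HomologicalComplex.quasiIso A₃ (ComplexShape.up ℤ))))
    eL (a₁.prod (a₂.prod a₃)) (c₁.prod (c₂.prod c₃)) F hFq
    (fun f hX hX' hf => hF₀ f hX.1 hX.2.1 hX.2.2 hX'.1 hX'.2.1 hX'.2.2
      ((HomologicalComplex.mem_quasiIso_iff _).1 hf.1)
      ((HomologicalComplex.mem_quasiIso_iff _).1 hf.2.1)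
      ((HomologicalComplex.mem_quasiIso_iff _).1 hf.2.2))

end Three

end Cx

end Groth.Agent.Lib.helper23.Binders
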