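import Mathlib
import Groth.Prelude.Def_DTen5

/-!
# Tensor products of complexes with a factor concentrated in degree `0` (helper23)

* `isIso_ιTensorObj_left`, `isIso_ιTensorObj_right`: if `X` (resp. `Y`) is concentrated in degree `0`, the inclusion of
  the summand `X^0 ⊗ Y^n` (resp. `X^n ⊗ Y^0`) into `(X ⊗ Y)^n` is an isomorphism.
-/

set_option autoImplicit false
universe u
open CategoryTheory CategoryTheory.Limits MonoidalCategory HomologicalComplex

namespace Groth.Agent.Lib.helper23.TrD

variable {R : Type u} [CommRing R]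

lemma isZero_tensor_of_left {M N : ModuleCat.{u} R} (h : IsZero M) : IsZero (M ⊗ N) := by
  have := (tensorRight N).map_isZero h
  exact this

lemma isZero_tensor_of_right {M N : ModuleCat.{u} R} (h : IsZero N) : IsZero (M ⊗ N) := by
  have := (tensorLeft M).map_isZero h
  exact this

/-- auxiliary family for the inverse of the summand inclusion -/
noncomputable def descL (X Y : DRing.Cx R) (n : ℤ) (p q : ℤ) (h : p + q = n) :
    ((curriedTensor (ModuleCat.{u} R)).obj (X.X p)).obj (Y.X q) ⟶ X.X 0 ⊗ Y.X n :=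
  if hp : p = 0 then eqToHom (by
    subst hp
    have hq : q = n := by omega
    subst hq
    rfl) else 0

/-- auxiliary family for the inverse of the summand inclusion -/
noncomputable def descR (X Y : DRing.Cx R) (n : ℤ) (p q : ℤ) (h : p + q = n) :
    ((curriedTensor (ModuleCat.{u} R)).obj (X.X p)).obj (Y.X q) ⟶ X.X n ⊗ Y.X 0 :=
  if hq : q = 0 then eqToHom (by
    subst hq
    have hp : p = n := by omega
    subst hp
    rfl) else 0

/-- the inclusion of the summand `X^0 ⊗ Y^n` is an isomorphism if `X` is concentrated in degree `0` -/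
lemma isIso_ιTensorObj_left (X Y : DRing.Cx R) (hX : ∀ p : ℤ, p ≠ 0 → IsZero (X.X p)) (n : ℤ) :
    IsIso (ιTensorObj X Y 0 n n (zero_add n)) := by
  let g : (X ⊗ Y).X n ⟶ X.X 0 ⊗ Y.X n :=
    mapBifunctorDesc (K₁ := X) (K₂ := Y) (F := curriedTensor (ModuleCat.{u} R)) (c := ComplexShape.up ℤ)
      (j := n) (descL X Y n)
  have h0 : ιTensorObj X Y 0 n n (zero_add n) ≫ g = 𝟙 _ := by
    have := ι_mapBifunctorDesc (K₁ := X) (K₂ := Y) (F := curriedTensor (ModuleCat.{u} R))
      (c := ComplexShape.up ℤ) (j := n) (descL X Y n) 0 n (zero_add n)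
    refine this.trans ?_
    simp [descL]
  refine ⟨g, h0, ?_⟩
  refine mapBifunctor.hom_ext (fun p q h => ?_)
  by_cases hp : p = 0
  · subst hp
    obtain rfl : q = n := by
      change (0 : ℤ) + q = n at h
      omega
    erw [reassoc_of% h0]
    exact (Category.comp_id _).symm
  · exact (isZero_tensor_of_left (hX p hp)).eq_of_src _ _

/-- the inclusion of the summand `X^n ⊗ Y^0` is an isomorphism if `Y` is concentrated in degree `0` -/
lemma isIso_ιTensorObj_right (X Y : DRing.Cx R) (hY : ∀ p : ℤ, p ≠ 0 → IsZero (Y.X p)) (n : ℤ) :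
    IsIso (ιTensorObj X Y n 0 n (add_zero n)) := by
  let g : (X ⊗ Y).X n ⟶ X.X n ⊗ Y.X 0 :=
    mapBifunctorDesc (K₁ := X) (K₂ := Y) (F := curriedTensor (ModuleCat.{u} R)) (c := ComplexShape.up ℤ)
      (j := n) (descR X Y n)
  have h0 : ιTensorObj X Y n 0 n (add_zero n) ≫ g = 𝟙 _ := by
    have := ι_mapBifunctorDesc (K₁ := X) (K₂ := Y) (F := curriedTensor (ModuleCat.{u} R))
      (c := ComplexShape.up ℤ) (j := n) (descR X Y n) n 0 (add_zero n)
    refine this.trans ?_
    simp [descR]
  refine ⟨g, h0, ?_⟩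
  refine mapBifunctor.hom_ext (fun p q h => ?_)
  by_cases hq : q = 0
  · subst hq
    obtain rfl : p = n := by
      change p + (0 : ℤ) = n at h
      omega
    erw [reassoc_of% h0]
    exact (Category.comp_id _).symm
  · exact (isZero_tensor_of_right (hY q hq)).eq_of_src _ _

end Groth.Agent.Lib.helper23.TrD
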