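import Mathlib
import Groth.Prelude.Def_DTen5
import Groth.Agent.Lib.Helper13.RhomBC1
import Groth.Agent.Lib.Helper23.TrD1

/-!
# The actions of `B|_R` on restricted complexes (helper23)

For a ring map `f : R → B`, `U f = (B[0])|_R` (the restriction of the unit complex), and for a complex `P` of
`B`-modules:
* `actT f P : U f ⊗ P|_R ⟶ P|_R` and `actM f P : P|_R ⊗ U f ⟶ P|_R`, the left and right actions (from the lax monoidal
  structure `DTen.resTenCx` of restriction and the unitors), natural in `P`, with their summand formulas;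
* `tauL f P : U f ⊗ P ≅ (P ⊗_R B)|_R` and `tauR f P : P ⊗ U f ≅ (P ⊗_R B)|_R` for a complex `P` of `R`-modules (the unit
  of extension/restriction followed by the action) are isomorphisms of complexes.
-/

set_option autoImplicit false
universe u
open CategoryTheory CategoryTheory.Limits MonoidalCategory HomologicalComplex

namespace Groth.Agent.Lib.helper23.TrD

open DTen Groth.Agent.Lib.helper13.RhomBC

variable {R B : Type u} [CommRing R] [CommRing B] (f : R →+* B)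

/-- the unit complex of `B`, restricted to `R` -/
noncomputable abbrev U : DRing.Cx R := (resCx f).obj (𝟙_ (DRing.Cx B))

/-- degree `0` of the unit complex -/
noncomputable abbrev s₀ (B : Type u) [CommRing B] : (𝟙_ (DRing.Cx B)).X 0 ≅ 𝟙_ (ModuleCat.{u} B) :=
  singleObjXSelf (ComplexShape.up ℤ) 0 (𝟙_ (ModuleCat.{u} B))

lemma isZero_unit_X (B : Type u) [CommRing B] (p : ℤ) (hp : p ≠ 0) : IsZero ((𝟙_ (DRing.Cx B)).X p) :=
  isZero_single_obj_X (ComplexShape.up ℤ) 0 (𝟙_ (ModuleCat.{u} B)) p hp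

lemma isZero_U_X (p : ℤ) (hp : p ≠ 0) : IsZero ((U f).X p) :=
  (resM f).map_isZero (isZero_unit_X B p hp)

/-- the left action `U ⊗ P|_R ⟶ P|_R` -/
noncomputable def actT (P : DRing.Cx B) : U f ⊗ (resCx f).obj P ⟶ (resCx f).obj P :=
  resTenCx f (𝟙_ (DRing.Cx B)) P ≫ (resCx f).map (λ_ P).hom

/-- the right action `P|_R ⊗ U ⟶ P|_R` -/
noncomputable def actM (P : DRing.Cx B) : (resCx f).obj P ⊗ U f ⟶ (resCx f).obj P :=
  resTenCx f P (𝟙_ (DRing.Cx B)) ≫ (resCx f).map (ρ_ P).hom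

@[reassoc]
lemma actT_naturality {P P' : DRing.Cx B} (g : P ⟶ P') :
    (U f ◁ (resCx f).map g) ≫ actT f P' = actT f P ≫ (resCx f).map g := by
  have h1 := resTenCx_naturality f (𝟙 (𝟙_ (DRing.Cx B))) g
  have h2 := MonoidalCategory.leftUnitor_naturality g
  dsimp only [actT]
  rw [← id_tensorHom, ← (resCx f).map_id, reassoc_of% h1, Category.assoc, ← Functor.map_comp,
    ← Functor.map_comp, id_tensorHom, h2]

@[reassoc]
lemma actM_naturality {P P' : DRing.Cx B} (g : P ⟶ P') :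
    ((resCx f).map g ▷ U f) ≫ actM f P' = actM f P ≫ (resCx f).map g := by
  have h1 := resTenCx_naturality f g (𝟙 (𝟙_ (DRing.Cx B)))
  have h2 := MonoidalCategory.rightUnitor_naturality g
  dsimp only [actM]
  rw [← tensorHom_id, ← (resCx f).map_id, reassoc_of% h1, Category.assoc, ← Functor.map_comp,
    ← Functor.map_comp, tensorHom_id, h2]

lemma ι_leftUnitor_hom (P : DRing.Cx B) (n : ℤ) :
    ιTensorObj (𝟙_ (DRing.Cx B)) P 0 n n (zero_add n) ≫ (λ_ P).hom.f n =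
      ((s₀ B).hom ▷ P.X n) ≫ (λ_ (P.X n)).hom := by
  have h := leftUnitor'_inv P n
  have h2 : (λ_ P).inv.f n ≫ (λ_ P).hom.f n = 𝟙 _ := by
    rw [← HomologicalComplex.comp_f, Iso.inv_hom_id, HomologicalComplex.id_f]
  have h3 : (λ_ P).inv.f n = (leftUnitor' P).inv n := rfl
  rw [h3, h] at h2
  simp only [Category.assoc] at h2
  have h4 : ιTensorObj (𝟙_ (DRing.Cx B)) P 0 n n (zero_add n) ≫ (λ_ P).hom.f n =
      ((s₀ B).hom ▷ P.X n) ≫ (λ_ (P.X n)).hom ≫ ((λ_ (P.X n)).inv ≫ ((s₀ B).inv ▷ P.X n) ≫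
        ιTensorObj (𝟙_ (DRing.Cx B)) P 0 n n (zero_add n) ≫ (λ_ P).hom.f n) := by
    simp
  rw [h4]
  erw [h2]
  simp

lemma ι_rightUnitor_hom (P : DRing.Cx B) (n : ℤ) :
    ιTensorObj P (𝟙_ (DRing.Cx B)) n 0 n (add_zero n) ≫ (ρ_ P).hom.f n =
      (P.X n ◁ (s₀ B).hom) ≫ (ρ_ (P.X n)).hom := by
  have h := rightUnitor'_inv P n
  have h2 : (ρ_ P).inv.f n ≫ (ρ_ P).hom.f n = 𝟙 _ := by
    rw [← HomologicalComplex.comp_f, Iso.inv_hom_id, HomologicalComplex.id_f]
  have h3 : (ρ_ P).inv.f n = (rightUnitor' P).inv n := rfl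
  rw [h3, h] at h2
  simp only [Category.assoc] at h2
  have h4 : ιTensorObj P (𝟙_ (DRing.Cx B)) n 0 n (add_zero n) ≫ (ρ_ P).hom.f n =
      (P.X n ◁ (s₀ B).hom) ≫ (ρ_ (P.X n)).hom ≫ ((ρ_ (P.X n)).inv ≫ (P.X n ◁ (s₀ B).inv) ≫
        ιTensorObj P (𝟙_ (DRing.Cx B)) n 0 n (add_zero n) ≫ (ρ_ P).hom.f n) := by
    simp
  rw [h4]
  erw [h2]
  simp

/-- the left action on the summand `(0, n)` -/
lemma ι_actT (P : DRing.Cx B) (n : ℤ) :
    ιTensorObj (U f) ((resCx f).obj P) 0 n n (zero_add n) ≫ (actT f P).f n =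
      resTen₀app f ((𝟙_ (DRing.Cx B)).X 0) (P.X n) ≫
        (resM f).map (((s₀ B).hom ▷ P.X n) ≫ (λ_ (P.X n)).hom) := by
  dsimp only [actT]
  rw [HomologicalComplex.comp_f]
  erw [ι_resTenCx_assoc f (𝟙_ (DRing.Cx B)) P 0 n n (zero_add n)]
  rw [← ι_leftUnitor_hom, Functor.map_comp]
  rfl

/-- the right action on the summand `(n, 0)` -/
lemma ι_actM (P : DRing.Cx B) (n : ℤ) :
    ιTensorObj ((resCx f).obj P) (U f) n 0 n (add_zero n) ≫ (actM f P).f n =
      resTen₀app f (P.X n) ((𝟙_ (DRing.Cx B)).X 0) ≫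
        (resM f).map ((P.X n ◁ (s₀ B).hom) ≫ (ρ_ (P.X n)).hom) := by
  dsimp only [actM]
  rw [HomologicalComplex.comp_f]
  erw [ι_resTenCx_assoc f P (𝟙_ (DRing.Cx B)) n 0 n (add_zero n)]
  rw [← ι_rightUnitor_hom, Functor.map_comp]
  rfl

end Groth.Agent.Lib.helper23.TrD
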