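import Mathlib
import Groth.Prelude.Def_DTen5
import Groth.Agent.Lib.Helper23.TrD2

/-!
# `B|_R ⊗ P ≅ (P ⊗_R B)|_R` for complexes (helper23)

`isIso_tauL`, `isIso_tauR`: for a complex `P` of `R`-modules, the maps `U f ⊗ P ⟶ (P ⊗_R B)|_R` and
`P ⊗ U f ⟶ (P ⊗_R B)|_R` (unit of extension/restriction followed by the action) are isomorphisms of complexes.
-/

set_option autoImplicit false
universe u
open CategoryTheory CategoryTheory.Limits MonoidalCategory HomologicalComplex

namespace Groth.Agent.Lib.helper23.TrD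

open DTen Groth.Agent.Lib.helper13.RhomBC

variable {R B : Type u} [CommRing R] [CommRing B] (f : R →+* B)

section Module

variable (M : ModuleCat.{u} R)

/-- `B|_R ⊗_R M` -/
noncomputable abbrev Src : ModuleCat.{u} R := (resM f).obj (𝟙_ (ModuleCat.{u} B)) ⊗ M
/-- `(M ⊗_R B)|_R` -/
noncomputable abbrev Tgt : ModuleCat.{u} R := (resM f).obj ((ModuleCat.extendScalars.{u, u, u} f).obj M)

/-- the identity of the underlying tensor product -/
def toTgt (x : Src f M) : Tgt f M := x

lemma toTgt_smul (r : R) (x : Src f M) : toTgt f M (r • x) = r • toTgt f M x := by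
  induction x using TensorProduct.induction_on with
  | zero =>
    have h1 : r • (0 : Src f M) = 0 := smul_zero r
    have h2 : r • (0 : Tgt f M) = 0 := smul_zero r
    rw [h1]
    exact h2.symm
  | tmul b m => rfl
  | add x y hx hy =>
    have h1 : r • (x + y : Src f M) = r • x + r • y := smul_add r x y
    have h2 : r • (toTgt f M x + toTgt f M y) = r • toTgt f M x + r • toTgt f M y := smul_add r _ _
    rw [h1]
    change toTgt f M (r • x) + toTgt f M (r • y) = r • (toTgt f M x + toTgt f M y)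
    rw [h2, hx, hy]

/-- the identity-like equivalence `B|_R ⊗_R M ≃ (M ⊗_R B)|_R` -/
noncomputable def cEquiv : Src f M ≃ₗ[R] Tgt f M where
  toFun x := toTgt f M x
  invFun x := x
  left_inv _ := rfl
  right_inv _ := rfl
  map_add' _ _ := rfl
  map_smul' r x := toTgt_smul f M r x

/-- the identity-like isomorphism `B|_R ⊗_R M ≅ (M ⊗_R B)|_R` -/
noncomputable def cIso : Src f M ≅ Tgt f M := (cEquiv f M).toModuleIso

open ChangeOfRings in
lemma smul_one_tmul (b : B) (m : M) :
    b • (show (ModuleCat.extendScalars.{u, u, u} f).obj M from (1 : B) ⊗ₜ[R, f] m) =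
      (show (ModuleCat.extendScalars.{u, u, u} f).obj M from b ⊗ₜ[R, f] m) := by
  have := ModuleCat.ExtendScalars.smul_tmul f (M := M) b 1 m
  rw [mul_one] at this
  exact this

lemma cIso_hom_apply (x : Src f M) : (cIso f M).hom.hom x = toTgt f M x := rfl

lemma tauL_mod (X : ModuleCat.{u} B) (s : X ≅ 𝟙_ (ModuleCat.{u} B)) :
    ((resM f).obj X ◁ (ModuleCat.extendRestrictScalarsAdj.{u, u, u} f).unit.app M) ≫
      resTen₀app f X ((ModuleCat.extendScalars.{u, u, u} f).obj M) ≫
        (resM f).map ((s.hom ▷ _) ≫ (λ_ _).hom) =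
      ((resM f).map s.hom ▷ M) ≫ (cIso f M).hom := by
  ext : 1
  refine TensorProduct.ext' (fun x m => ?_)
  have := smul_one_tmul (f := f) (M := M) (s.hom.hom x) m
  refine Eq.trans ?_ (this.trans ?_)
  · rfl
  · exact (cIso_hom_apply f M
      ((show (resM f).obj (𝟙_ (ModuleCat.{u} B)) from s.hom.hom x) ⊗ₜ[R] m)).symm

lemma tauR_mod (X : ModuleCat.{u} B) (s : X ≅ 𝟙_ (ModuleCat.{u} B)) :
    ((ModuleCat.extendRestrictScalarsAdj.{u, u, u} f).unit.app M ▷ (resM f).obj X) ≫
      resTen₀app f ((ModuleCat.extendScalars.{u, u, u} f).obj M) X ≫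
        (resM f).map ((_ ◁ s.hom) ≫ (ρ_ _).hom) =
      (M ◁ (resM f).map s.hom) ≫ (β_ M ((resM f).obj (𝟙_ (ModuleCat.{u} B)))).hom ≫ (cIso f M).hom := by
  ext : 1
  refine TensorProduct.ext' (fun m x => ?_)
  have := smul_one_tmul (f := f) (M := M) (s.hom.hom x) m
  refine Eq.trans ?_ (this.trans ?_)
  · rfl
  · exact (cIso_hom_apply f M
      ((show (resM f).obj (𝟙_ (ModuleCat.{u} B)) from s.hom.hom x) ⊗ₜ[R] m)).symm

end Module

variable (P : DRing.Cx R)

/-- `U ⊗ P ⟶ (P ⊗_R B)|_R` -/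
noncomputable def tauL : U f ⊗ P ⟶ (resCx f).obj ((extCx f).obj P) :=
  (U f ◁ (unitCx f).app P) ≫ actT f ((extCx f).obj P)

/-- `P ⊗ U ⟶ (P ⊗_R B)|_R` -/
noncomputable def tauR : P ⊗ U f ⟶ (resCx f).obj ((extCx f).obj P) :=
  ((unitCx f).app P ▷ U f) ≫ actM f ((extCx f).obj P)

lemma ι_tauL (n : ℤ) :
    ιTensorObj (U f) P 0 n n (zero_add n) ≫ (tauL f P).f n =
      ((resM f).map (s₀ B).hom ▷ P.X n) ≫ (cIso f (P.X n)).hom := by
  dsimp only [tauL]
  rw [HomologicalComplex.comp_f, ← id_tensorHom]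
  erw [reassoc_of% (ι_tensorHom (𝟙 (U f)) ((unitCx f).app P) 0 n n (zero_add n))]
  erw [ι_actT f ((extCx f).obj P) n]
  rw [HomologicalComplex.id_f, id_tensorHom]
  exact tauL_mod f (P.X n) _ (s₀ B)

lemma ι_tauR (n : ℤ) :
    ιTensorObj P (U f) n 0 n (add_zero n) ≫ (tauR f P).f n =
      (P.X n ◁ (resM f).map (s₀ B).hom) ≫ (β_ (P.X n) ((resM f).obj (𝟙_ (ModuleCat.{u} B)))).hom ≫
        (cIso f (P.X n)).hom := by
  dsimp only [tauR]
  rw [HomologicalComplex.comp_f, ← tensorHom_id]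
  erw [reassoc_of% (ι_tensorHom ((unitCx f).app P) (𝟙 (U f)) n 0 n (add_zero n))]
  erw [ι_actM f ((extCx f).obj P) n]
  rw [HomologicalComplex.id_f, tensorHom_id]
  exact tauR_mod f (P.X n) _ (s₀ B)

instance isIso_tauL : IsIso (tauL f P) := by
  haveI : ∀ n, IsIso ((tauL f P).f n) := fun n => by
    haveI i1 : IsIso (ιTensorObj (U f) P 0 n n (zero_add n)) :=
      isIso_ιTensorObj_left (U f) P (isZero_U_X f) n
    have i2 : IsIso (ιTensorObj (U f) P 0 n n (zero_add n) ≫ (tauL f P).f n) := by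
      rw [ι_tauL]
      haveI j1 : IsIso ((resM f).map (s₀ B).hom) := inferInstance
      haveI j2 : IsIso ((resM f).map (s₀ B).hom ▷ P.X n) := inferInstance
      exact IsIso.comp_isIso' j2 inferInstance
    exact IsIso.of_isIso_comp_left (ιTensorObj (U f) P 0 n n (zero_add n)) _
  exact HomologicalComplex.Hom.isIso_of_components _

instance isIso_tauR : IsIso (tauR f P) := by
  haveI : ∀ n, IsIso ((tauR f P).f n) := fun n => by
    haveI i1 : IsIso (ιTensorObj P (U f) n 0 n (add_zero n)) :=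
      isIso_ιTensorObj_right P (U f) (isZero_U_X f) n
    have i2 : IsIso (ιTensorObj P (U f) n 0 n (add_zero n) ≫ (tauR f P).f n) := by
      rw [ι_tauR]
      haveI j1 : IsIso ((resM f).map (s₀ B).hom) := inferInstance
      haveI j2 : IsIso (P.X n ◁ (resM f).map (s₀ B).hom) := inferInstance
      exact IsIso.comp_isIso' j2 (IsIso.comp_isIso' inferInstance inferInstance)
    exact IsIso.of_isIso_comp_left (ιTensorObj P (U f) n 0 n (add_zero n)) _
  exact HomologicalComplex.Hom.isIso_of_components _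

end Groth.Agent.Lib.helper23.TrD
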