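import Mathlib
import Groth.Prelude.Def_DTen5
import Groth.Agent.Lib.Helper23.TrD2

/-!
# The derived actions of `B|_R` on restricted objects (helper23)

For `f : R → B` and `T f = (B[0])|_R ∈ D(R)`: natural transformations
`actL f : T f ⊗^L (Y|_R) ⟶ Y|_R` and `actR f : (Y|_R) ⊗^L T f ⟶ Y|_R` for `Y ∈ D(B)`, computed on images of complexes by
the complex-level actions `actT`, `actM` (`actL_app_Q`, `actR_app_Q`).
-/

set_option autoImplicit false
universe u
open CategoryTheory CategoryTheory.Limits MonoidalCategory
attribute [local instance] HasDerivedCategory.standard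

namespace Groth.Agent.Lib.helper23.TrD

open DTen

variable {R B : Type u} [CommRing R] [CommRing B] (f : R →+* B) [HasLTen R]

/-- `B[0]` restricted to `R`, in the derived category -/
noncomputable abbrev T : Dual.D R := (DRing.restrictD f).obj (DTen.unit B)

/-- `T f` is the image of the complex `U f` -/
noncomputable abbrev tU : T f ≅ DerivedCategory.Q.obj (U f) := (resFactors f).app (𝟙_ (DRing.Cx B))

/-- (plumbing) the left action on images of complexes -/
noncomputable def actL₀ :
    DerivedCategory.Q ⋙ (DRing.restrictD f ⋙ (LTen R).obj (T f)) ⟶ DerivedCategory.Q ⋙ DRing.restrictD f where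
  app P := (LTen₂ R).map (Prod.mkHom (tU f).hom ((resFactors f).hom.app P)) ≫
    (ε R).app (U f, (resCx f).obj P) ≫ DerivedCategory.Q.map (actT f P) ≫ (resFactors f).inv.app P
  naturality P P' g := by
    have e1 := (resFactors f).hom.naturality g
    have e2 := (ε R).naturality (Prod.mkHom (𝟙 (U f)) ((resCx f).map g))
    have e3 := actT_naturality f g
    have e4 := (resFactors f).inv.naturality g
    dsimp at e1 e2 e4 ⊢
    simp only [Category.assoc]
    rw [← e4, ← Functor.map_comp_assoc DerivedCategory.Q, ← e3, Functor.map_comp_assoc]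
    rw [MonoidalCategory.id_whiskerRight, Category.id_comp] at e2
    rw [← reassoc_of% e2, ← Functor.map_comp_assoc, ← Functor.map_comp_assoc]
    congr 2
    simp only [prod_comp, Prod.mkHom, Category.id_comp, Category.comp_id]
    rw [CategoryTheory.Functor.map_id, Category.comp_id, e1]

/-- the left action `T f ⊗^L (Y|_R) ⟶ Y|_R`, natural in `Y ∈ D(B)` -/
noncomputable def actL : DRing.restrictD f ⋙ (LTen R).obj (T f) ⟶ DRing.restrictD f :=
  Localization.liftNatTrans DerivedCategory.Q (qis B)
    (DerivedCategory.Q ⋙ (DRing.restrictD f ⋙ (LTen R).obj (T f))) (DerivedCategory.Q ⋙ DRing.restrictD f)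
    (DRing.restrictD f ⋙ (LTen R).obj (T f)) (DRing.restrictD f) (actL₀ f)

lemma actL_app_Q (P : DRing.Cx B) :
    (actL f).app (DerivedCategory.Q.obj P) =
      (LTen₂ R).map (Prod.mkHom (tU f).hom ((resFactors f).hom.app P)) ≫
        (ε R).app (U f, (resCx f).obj P) ≫ DerivedCategory.Q.map (actT f P) ≫ (resFactors f).inv.app P := by
  dsimp [actL]
  rw [Localization.liftNatTrans_app]
  dsimp [actL₀, Localization.Lifting.iso]
  erw [Category.id_comp, Category.comp_id]

/-- (plumbing) the right action on images of complexes -/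
noncomputable def actR₀ :
    DerivedCategory.Q ⋙ (DRing.restrictD f ⋙ (LTen R).flip.obj (T f)) ⟶ DerivedCategory.Q ⋙ DRing.restrictD f where
  app P := (LTen₂ R).map (Prod.mkHom ((resFactors f).hom.app P) (tU f).hom) ≫
    (ε R).app ((resCx f).obj P, U f) ≫ DerivedCategory.Q.map (actM f P) ≫ (resFactors f).inv.app P
  naturality P P' g := by
    have e1 := (resFactors f).hom.naturality g
    have e2 := (ε R).naturality (Prod.mkHom ((resCx f).map g) (𝟙 (U f)))
    have e3 := actM_naturality f g
    have e4 := (resFactors f).inv.naturality g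
    dsimp at e1 e2 e4 ⊢
    simp only [Category.assoc]
    rw [← e4, ← Functor.map_comp_assoc DerivedCategory.Q, ← e3, Functor.map_comp_assoc]
    rw [MonoidalCategory.whiskerLeft_id, Category.comp_id] at e2
    rw [← reassoc_of% e2, ← Functor.map_comp_assoc, ← Functor.map_comp_assoc]
    congr 2
    simp only [prod_comp, Prod.mkHom, Category.id_comp, Category.comp_id]
    rw [CategoryTheory.Functor.map_id, Category.comp_id, e1]

/-- the right action `(Y|_R) ⊗^L T f ⟶ Y|_R`, natural in `Y ∈ D(B)` -/
noncomputable def actR : DRing.restrictD f ⋙ (LTen R).flip.obj (T f) ⟶ DRing.restrictD f :=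
  Localization.liftNatTrans DerivedCategory.Q (qis B)
    (DerivedCategory.Q ⋙ (DRing.restrictD f ⋙ (LTen R).flip.obj (T f))) (DerivedCategory.Q ⋙ DRing.restrictD f)
    (DRing.restrictD f ⋙ (LTen R).flip.obj (T f)) (DRing.restrictD f) (actR₀ f)

lemma actR_app_Q (P : DRing.Cx B) :
    (actR f).app (DerivedCategory.Q.obj P) =
      (LTen₂ R).map (Prod.mkHom ((resFactors f).hom.app P) (tU f).hom) ≫
        (ε R).app ((resCx f).obj P, U f) ≫ DerivedCategory.Q.map (actM f P) ≫ (resFactors f).inv.app P := by
  dsimp [actR]
  rw [Localization.liftNatTrans_app]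
  dsimp [actR₀, Localization.Lifting.iso]
  erw [Category.id_comp, Category.comp_id]

end Groth.Agent.Lib.helper23.TrD
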