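import Mathlib
import Groth.Prelude.Def_DTen5
import Groth.Agent.Lib.Helper13.DTenA
import Groth.Agent.Lib.Helper13.TorLow3
import Groth.Agent.Lib.Helper13.LTenCx1
import Groth.Agent.Lib.Helper13.RKF2
import Groth.Agent.Lib.Helper23.TrD3
import Groth.Agent.Lib.Helper23.TrD5

/-!
# The projection formulas `T f ⊗^L X ≅ (X ⊗^L_R B)|_R ≅ X ⊗^L T f` (helper23)

For `f : R → B`, `T f = (B[0])|_R` and any left adjoint `L` of restriction `D(B) ⥤ D(R)`:
* `projL f adj : T f ⊗^L - ⟶ L ⋙ restriction` (unit, then the left action) is an isomorphism (`isIso_projL_app`);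
* `projR f adj : - ⊗^L T f ⟶ L ⋙ restriction` likewise (`isIso_projR_app`).
-/

set_option autoImplicit false
universe u
open CategoryTheory CategoryTheory.Limits MonoidalCategory
attribute [local instance] HasDerivedCategory.standard

namespace Groth.Agent.Lib.helper23.TrD

open DTen Groth.Agent.Lib.helper13.KFlat Groth.Agent.Lib.helper13.RKF Groth.Agent.Lib.helper13.DTenA
  Groth.Agent.Lib.helper13.Adapted2 Groth.Agent.Lib.helper13.TorLow Groth.Agent.Lib.helper13.LTenCx

section EpsLeft

variable {A : Type u} [CommRing A]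

lemma isIso_tensor₂_map_left {X X' : DRing.Cx A × DRing.Cx A} (g : X ⟶ X')
    (h : IsKFlatR X.1) (h' : IsKFlatR X'.1) (hg₁ : QuasiIso g.1) (hg₂ : QuasiIso g.2) :
    IsIso ((DTen.tensor₂ A).map g) := by
  change IsIso (DerivedCategory.Q.map ((DTen.tensorT A).map g))
  have : (DTen.tensorT A).map g = g.1 ▷ X.2 ≫ X'.1 ◁ g.2 := rfl
  rw [this]
  haveI : QuasiIso (g.1 ▷ X.2) := quasiIso_whiskerRight_kflat h h' g.1 X.2
  haveI : QuasiIso (X'.1 ◁ g.2) := quasiIso_whiskerLeft_of_isKFlatR' X'.1 h' g.2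
  infer_instance

/-- The counit `QK ⊗^L QL ⟶ Q(K ⊗ L)` of the derived tensor product is invertible for `K` K-flat. -/
theorem isIso_ε_left [DTen.HasLTen A] (K L : DRing.Cx A) (hK : IsKFlatR K) :
    IsIso ((DTen.ε A).app (K, L)) :=
  isIso_counit_app₂ (fun K : DRing.Cx A => IsKFlatR K) isAdaptedClass_kflat
    (fun _ : DRing.Cx A => True) isAdaptedClass_top (DTen.tensor₂ A)
    isInvertedBy_tensor₂
    (fun g h _ h' _ hg₁ hg₂ => isIso_tensor₂_map_left g h h' hg₁ hg₂)
    (DTen.LTen₂ A) (DTen.ε A) K L hK trivial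

end EpsLeft

variable {R B : Type u} [CommRing R] [CommRing B] (f : R →+* B) [HasLTen R]

section General

variable {L : Dual.D R ⥤ Dual.D B} (adj : L ⊣ DRing.restrictD f)

/-- `T f ⊗^L X ⟶ (L X)|_R` -/
noncomputable def projL : (LTen R).obj (T f) ⟶ L ⋙ DRing.restrictD f where
  app X := ((LTen R).obj (T f)).map (adj.unit.app X) ≫ (actL f).app (L.obj X)
  naturality X Y g := by
    have e1 := adj.unit.naturality g
    have e2 := (actL f).naturality (L.map g)
    dsimp only [Functor.id_obj, Functor.id_map, Functor.comp_obj, Functor.comp_map] at e1 e2 ⊢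
    rw [Category.assoc, ← e2, ← Category.assoc, ← Category.assoc, ← Functor.map_comp, ← Functor.map_comp, e1]

/-- `X ⊗^L T f ⟶ (L X)|_R` -/
noncomputable def projR : (LTen R).flip.obj (T f) ⟶ L ⋙ DRing.restrictD f where
  app X := ((LTen R).flip.obj (T f)).map (adj.unit.app X) ≫ (actR f).app (L.obj X)
  naturality X Y g := by
    have e1 := adj.unit.naturality g
    have e2 := (actR f).naturality (L.map g)
    dsimp only [Functor.id_obj, Functor.id_map, Functor.comp_obj, Functor.comp_map] at e1 e2 ⊢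
    rw [Category.assoc, ← e2, ← Category.assoc, ← Category.assoc, ← Functor.map_comp, ← Functor.map_comp, e1]

end General

section Base

variable [DTen.HasLBase f]

lemma LTen_obj_map (X : Dual.D R) {Y Y' : Dual.D R} (g : Y ⟶ Y') :
    ((LTen R).obj X).map g = (LTen₂ R).map (Prod.mkHom (𝟙 X) g) := rfl

lemma LTen_flip_obj_map (X : Dual.D R) {Y Y' : Dual.D R} (g : Y ⟶ Y') :
    ((LTen R).flip.obj X).map g = (LTen₂ R).map (Prod.mkHom g (𝟙 X)) := rfl

lemma projL_fac (P : DRing.Cx R) :
    (projL f (baseAdj f)).app (DerivedCategory.Q.obj P) ≫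
        (DRing.restrictD f).map ((baseCmp f).app P) ≫ (resFactors f).hom.app ((extCx f).obj P) =
      (LTen₂ R).map (Prod.mkHom (tU f).hom (𝟙 (DerivedCategory.Q.obj P))) ≫ (ε R).app (U f, P) ≫
        DerivedCategory.Q.map (tauL f P) := by
  have e1 := (actL f).naturality ((baseCmp f).app P)
  have e2 := baseCmp_fac f P
  have e3 := actL_app_Q f ((extCx f).obj P)
  have e4 : (LTen₂ R).map (Prod.mkHom (𝟙 (DerivedCategory.Q.obj (U f)))
        (DerivedCategory.Q.map ((unitCx f).app P))) ≫ (ε R).app (U f, (resCx f).obj ((extCx f).obj P)) =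
      (ε R).app (U f, P) ≫ DerivedCategory.Q.map (U f ◁ (unitCx f).app P) := by
    have := (ε R).naturality (Prod.mkHom (𝟙 (U f)) ((unitCx f).app P))
    dsimp at this
    simpa using this
  dsimp only [Functor.comp_obj, Functor.comp_map] at e1
  dsimp only [projL]
  rw [Category.assoc, ← reassoc_of% e1, ← Functor.map_comp_assoc, e2, e3]
  dsimp only [baseγ]
  rw [LTen_obj_map]
  dsimp only [tauL]
  have k1 : (LTen₂ R).map (Prod.mkHom (𝟙 (T f))
        (DerivedCategory.Q.map ((unitCx f).app P) ≫ (resFactors f).inv.app ((extCx f).obj P))) ≫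
      (LTen₂ R).map (Prod.mkHom (tU f).hom ((resFactors f).hom.app ((extCx f).obj P))) =
      (LTen₂ R).map (Prod.mkHom (tU f).hom (DerivedCategory.Q.map ((unitCx f).app P))) := by
    rw [← Functor.map_comp]
    congr 1
    simp [Prod.mkHom]
  have k2 : (LTen₂ R).map (Prod.mkHom (tU f).hom (𝟙 (DerivedCategory.Q.obj P))) ≫
      (LTen₂ R).map (Prod.mkHom (𝟙 (DerivedCategory.Q.obj (U f)))
        (DerivedCategory.Q.map ((unitCx f).app P))) =
      (LTen₂ R).map (Prod.mkHom (tU f).hom (DerivedCategory.Q.map ((unitCx f).app P))) := by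
    rw [← Functor.map_comp]
    congr 1
    simp [Prod.mkHom]
  simp only [Category.assoc, Iso.inv_hom_id_app]
  rw [reassoc_of% k1, Functor.map_comp, ← reassoc_of% e4, reassoc_of% k2]
  erw [Category.comp_id]

lemma projR_fac (P : DRing.Cx R) :
    (projR f (baseAdj f)).app (DerivedCategory.Q.obj P) ≫
        (DRing.restrictD f).map ((baseCmp f).app P) ≫ (resFactors f).hom.app ((extCx f).obj P) =
      (LTen₂ R).map (Prod.mkHom (𝟙 (DerivedCategory.Q.obj P)) (tU f).hom) ≫ (ε R).app (P, U f) ≫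
        DerivedCategory.Q.map (tauR f P) := by
  have e1 := (actR f).naturality ((baseCmp f).app P)
  have e2 := baseCmp_fac f P
  have e3 := actR_app_Q f ((extCx f).obj P)
  have e4 : (LTen₂ R).map (Prod.mkHom (DerivedCategory.Q.map ((unitCx f).app P))
        (𝟙 (DerivedCategory.Q.obj (U f)))) ≫ (ε R).app ((resCx f).obj ((extCx f).obj P), U f) =
      (ε R).app (P, U f) ≫ DerivedCategory.Q.map ((unitCx f).app P ▷ U f) := by
    have := (ε R).naturality (Prod.mkHom ((unitCx f).app P) (𝟙 (U f)))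
    dsimp at this
    simpa using this
  dsimp only [Functor.comp_obj, Functor.comp_map] at e1
  dsimp only [projR]
  rw [Category.assoc, ← reassoc_of% e1, ← Functor.map_comp_assoc, e2, e3]
  dsimp only [baseγ]
  rw [LTen_flip_obj_map]
  dsimp only [tauR]
  have k1 : (LTen₂ R).map (Prod.mkHom
        (DerivedCategory.Q.map ((unitCx f).app P) ≫ (resFactors f).inv.app ((extCx f).obj P)) (𝟙 (T f))) ≫
      (LTen₂ R).map (Prod.mkHom ((resFactors f).hom.app ((extCx f).obj P)) (tU f).hom) =
      (LTen₂ R).map (Prod.mkHom (DerivedCategory.Q.map ((unitCx f).app P)) (tU f).hom) := by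
    rw [← Functor.map_comp]
    congr 1
    simp [Prod.mkHom]
  have k2 : (LTen₂ R).map (Prod.mkHom (𝟙 (DerivedCategory.Q.obj P)) (tU f).hom) ≫
      (LTen₂ R).map (Prod.mkHom (DerivedCategory.Q.map ((unitCx f).app P))
        (𝟙 (DerivedCategory.Q.obj (U f)))) =
      (LTen₂ R).map (Prod.mkHom (DerivedCategory.Q.map ((unitCx f).app P)) (tU f).hom) := by
    rw [← Functor.map_comp]
    congr 1
    simp [Prod.mkHom]
  simp only [Category.assoc, Iso.inv_hom_id_app]
  rw [reassoc_of% k1, Functor.map_comp, ← reassoc_of% e4, reassoc_of% k2]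
  erw [Category.comp_id]

lemma isIso_LTen₂_map {X X' Y Y' : Dual.D R} (a : X ⟶ X') (b : Y ⟶ Y') [IsIso a] [IsIso b] :
    IsIso ((LTen₂ R).map (Prod.mkHom a b)) := by
  haveI : IsIso (Prod.mkHom a b) := (isIso_prod_iff _ _).2 ⟨inferInstanceAs (IsIso a), inferInstanceAs (IsIso b)⟩
  infer_instance

theorem isIso_projL_base_Q (P : DRing.Cx R) (hP : IsKFlatR P) :
    IsIso ((projL f (baseAdj f)).app (DerivedCategory.Q.obj P)) := by
  have fac := projL_fac f P
  haveI i1 : IsIso ((baseCmp f).app P) := isIso_baseCmp f P hP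
  haveI i2 : IsIso ((ε R).app (U f, P)) := isIso_ε_right (U f) P hP
  haveI i4 : IsIso ((LTen₂ R).map (Prod.mkHom (tU f).hom (𝟙 (DerivedCategory.Q.obj P)))) :=
    isIso_LTen₂_map _ _
  have i5 : IsIso ((projL f (baseAdj f)).app (DerivedCategory.Q.obj P) ≫
      (DRing.restrictD f).map ((baseCmp f).app P) ≫ (resFactors f).hom.app ((extCx f).obj P)) := by
    rw [fac]
    infer_instance
  exact IsIso.of_isIso_comp_right _
    ((DRing.restrictD f).map ((baseCmp f).app P) ≫ (resFactors f).hom.app ((extCx f).obj P))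

theorem isIso_projR_base_Q (P : DRing.Cx R) (hP : IsKFlatR P) :
    IsIso ((projR f (baseAdj f)).app (DerivedCategory.Q.obj P)) := by
  have fac := projR_fac f P
  haveI i1 : IsIso ((baseCmp f).app P) := isIso_baseCmp f P hP
  haveI i2 : IsIso ((ε R).app (P, U f)) := isIso_ε_left P (U f) hP
  haveI i4 : IsIso ((LTen₂ R).map (Prod.mkHom (𝟙 (DerivedCategory.Q.obj P)) (tU f).hom)) :=
    isIso_LTen₂_map _ _
  have i5 : IsIso ((projR f (baseAdj f)).app (DerivedCategory.Q.obj P) ≫
      (DRing.restrictD f).map ((baseCmp f).app P) ≫ (resFactors f).hom.app ((extCx f).obj P)) := by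
    rw [fac]
    infer_instance
  exact IsIso.of_isIso_comp_right _
    ((DRing.restrictD f).map ((baseCmp f).app P) ≫ (resFactors f).hom.app ((extCx f).obj P))

omit [HasLTen R] in
lemma exists_kflat_iso (X : Dual.D R) :
    ∃ P : DRing.Cx R, IsKFlatR P ∧ Nonempty (DerivedCategory.Q.obj P ≅ X) := by
  obtain ⟨F₀, ⟨e₀⟩⟩ : ∃ F₀ : DRing.Cx R, Nonempty (DerivedCategory.Q.obj F₀ ≅ X) :=
    ⟨_, ⟨DerivedCategory.Q.objObjPreimageIso X⟩⟩
  obtain ⟨F, g, hF, hg⟩ := exists_res F₀
  haveI i0 : IsIso (DerivedCategory.Q.map g) := by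
    rw [DerivedCategory.isIso_Q_map_iff_quasiIso]
    exact hg
  exact ⟨F, hF, ⟨asIso (DerivedCategory.Q.map g) ≪≫ e₀⟩⟩

theorem isIso_projL_base (X : Dual.D R) : IsIso ((projL f (baseAdj f)).app X) := by
  obtain ⟨P, hP, ⟨e⟩⟩ := exists_kflat_iso X
  haveI := isIso_projL_base_Q f P hP
  exact (NatTrans.isIso_app_iff_of_iso (projL f (baseAdj f)) e).1 inferInstance

theorem isIso_projR_base (X : Dual.D R) : IsIso ((projR f (baseAdj f)).app X) := by
  obtain ⟨P, hP, ⟨e⟩⟩ := exists_kflat_iso X
  haveI := isIso_projR_base_Q f P hP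
  exact (NatTrans.isIso_app_iff_of_iso (projR f (baseAdj f)) e).1 inferInstance

end Base

section Uniq

variable {L : Dual.D R ⥤ Dual.D B} (adj : L ⊣ DRing.restrictD f)

theorem isIso_projL_app (X : Dual.D R) : IsIso ((projL f adj).app X) := by
  haveI : DTen.HasLBase f := ⟨adj.isRightAdjoint⟩
  haveI := isIso_projL_base f X
  have e : (projL f adj).app X = (projL f (baseAdj f)).app X ≫
      (DRing.restrictD f).map (((baseAdj f).leftAdjointUniq adj).hom.app X) := by
    have e2 := (actL f).naturality (((baseAdj f).leftAdjointUniq adj).hom.app X)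
    dsimp only [Functor.comp_obj, Functor.comp_map] at e2
    dsimp only [projL]
    rw [Category.assoc, ← e2, ← Category.assoc, ← Functor.map_comp,
      Adjunction.unit_leftAdjointUniq_hom_app (baseAdj f) adj]
  rw [e]
  infer_instance

theorem isIso_projR_app (X : Dual.D R) : IsIso ((projR f adj).app X) := by
  haveI : DTen.HasLBase f := ⟨adj.isRightAdjoint⟩
  haveI := isIso_projR_base f X
  have e : (projR f adj).app X = (projR f (baseAdj f)).app X ≫
      (DRing.restrictD f).map (((baseAdj f).leftAdjointUniq adj).hom.app X) := by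
    have e2 := (actR f).naturality (((baseAdj f).leftAdjointUniq adj).hom.app X)
    dsimp only [Functor.comp_obj, Functor.comp_map] at e2
    dsimp only [projR]
    rw [Category.assoc, ← e2, ← Category.assoc, ← Functor.map_comp,
      Adjunction.unit_leftAdjointUniq_hom_app (baseAdj f) adj]
  rw [e]
  infer_instance

end Uniq

end Groth.Agent.Lib.helper23.TrD
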