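import Mathlib
import Groth.Prelude.Def_DTen5
import Groth.Agent.Lib.Helper23.Binders1
import Groth.Agent.Lib.Helper13.DTenC
import Groth.Agent.Lib.Helper13.PerfInd4
import Groth.Agent.Lib.Helper23.TrD6
import Groth.Agent.S13576
import Groth.Agent.S13577

/-!
# The binders `DTen.HasLTen`, `DTen.HasLTen₃`, `DTen.HasLTenMix`, `DTen.IsSymMonoidal` hold for every ring (helper23)

* `hasLTen A : DTen.HasLTen A`
* `hasLTen₃ A : DTen.HasLTen₃ A`
* `hasLTenMix φ : DTen.HasLTenMix φ`
* `isSymMonoidal A : DTen.IsSymMonoidal A` (given the first two as instances)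
-/

set_option autoImplicit false
universe u
open CategoryTheory CategoryTheory.Limits MonoidalCategory
attribute [local instance] HasDerivedCategory.standard

namespace Groth.Agent.Lib.helper23.Binders

open Groth.Agent.Lib.helper13.Adapted2 Groth.Agent.Lib.helper13.DTenA Groth.Agent.Lib.helper13.KFlat
  Groth.Agent.Lib.helper13.RKF

/-- the derived tensor product of two variables exists -/
theorem hasLTen (A : Type u) [CommRing A] : DTen.HasLTen A :=
  hasLeftDerivedFunctor₂ (fun _ : DRing.Cx A => True) isAdaptedClass_top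
    (fun K : DRing.Cx A => IsKFlatR K) isAdaptedClass_kflat (DTen.tensor₂ A)
    isInvertedBy_tensor₂
    (fun f _ h _ h' hf₁ hf₂ => isIso_tensor₂_map f h h' hf₁ hf₂)

/-- the derived tensor product of three variables exists -/
theorem hasLTen₃ (A : Type u) [CommRing A] : DTen.HasLTen₃ A :=
  hasLeftDerivedFunctor₃ (fun _ : DRing.Cx A => True) isAdaptedClass_top
    (fun K : DRing.Cx A => IsKFlatR K) isAdaptedClass_kflat
    (fun K : DRing.Cx A => IsKFlatR K) isAdaptedClass_kflat (DTen.tensor₃ A)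
    isInvertedBy_tensor₃
    (fun f _ h₂ h₃ _ h₂' h₃' hf₁ hf₂ hf₃ => isIso_tensor₃_map f h₂ h₃ h₂' h₃' hf₁ hf₂ hf₃)

/-- the mixed derived tensor product exists -/
theorem hasLTenMix {R A : Type u} [CommRing R] [CommRing A] (φ : R →+* A) : DTen.HasLTenMix φ :=
  hasLeftDerivedFunctor₂ (fun K : DRing.Cx R => IsKFlatR K) isAdaptedClass_kflat
    (fun K : DRing.Cx A => IsKFlatR K) isAdaptedClass_kflat (DTen.mix₂ φ)
    (isInvertedBy_mix₂ φ)
    (fun f h₁ h₂ h₁' h₂' hf₁ hf₂ => isIso_mix₂_map φ f h₁ h₂ h₁' h₂' hf₁ hf₂)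

section Sym

variable (A : Type u) [CommRing A] [DTen.HasLTen A]

lemma isIso_unitL : IsIso (DTen.unitL A) := by
  haveI : ∀ L, IsIso ((DTen.unitL A).app L) := by
    intro L
    obtain ⟨L₀, ⟨e⟩⟩ : ∃ L₀ : DRing.Cx A, Nonempty (DerivedCategory.Q.obj L₀ ≅ L) :=
      ⟨_, ⟨DerivedCategory.Q.objObjPreimageIso L⟩⟩
    haveI : IsIso ((DTen.unitL A).app (DerivedCategory.Q.obj L₀)) := by
      rw [DTen.unitL_app]
      haveI := Groth.Agent.Lib.helper23.TrD.isIso_ε_left (𝟙_ (DRing.Cx A)) L₀
        Groth.Agent.Lib.helper13.PerfInd.isKFlatR_tensorUnit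
      infer_instance
    exact (NatTrans.isIso_app_iff_of_iso (DTen.unitL A) e).1 inferInstance
  exact NatIso.isIso_of_isIso_app _

lemma isIso_unitR : IsIso (DTen.unitR A) := by
  haveI : ∀ L, IsIso ((DTen.unitR A).app L) := by
    intro L
    obtain ⟨L₀, ⟨e⟩⟩ : ∃ L₀ : DRing.Cx A, Nonempty (DerivedCategory.Q.obj L₀ ≅ L) :=
      ⟨_, ⟨DerivedCategory.Q.objObjPreimageIso L⟩⟩
    haveI : IsIso ((DTen.unitR A).app (DerivedCategory.Q.obj L₀)) := by
      rw [DTen.unitR_app]
      haveI := isIso_ε_right L₀ (𝟙_ (DRing.Cx A))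
        Groth.Agent.Lib.helper13.PerfInd.isKFlatR_tensorUnit
      infer_instance
    exact (NatTrans.isIso_app_iff_of_iso (DTen.unitR A) e).1 inferInstance
  exact NatIso.isIso_of_isIso_app _

variable [DTen.HasLTen₃ A]

/-- the five structure maps of the derived tensor product are isomorphisms -/
theorem isSymMonoidal : DTen.IsSymMonoidal A where
  isIso_symm := by
    haveI : ∀ X, IsIso ((DTen.symm A).app X) := fun X => Groth.Agent.S13576.result A X.1 X.2
    exact NatIso.isIso_of_isIso_app _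
  isIso_unitL := isIso_unitL A
  isIso_unitR := isIso_unitR A
  isIso_assocL := by
    haveI : ∀ X, IsIso ((DTen.assocL A).app X) := fun X =>
      (Groth.Agent.S13577.result A X.1 X.2.1 X.2.2).1
    exact NatIso.isIso_of_isIso_app _
  isIso_assocR := by
    haveI : ∀ X, IsIso ((DTen.assocR A).app X) := fun X =>
      (Groth.Agent.S13577.result A X.1 X.2.1 X.2.2).2
    exact NatIso.isIso_of_isIso_app _

end Sym

end Groth.Agent.Lib.helper23.Binders
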