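import Mathlib
import Groth.Prelude.Def_DTen5
import Groth.Agent.Lib.Helper23.TensHom3
import Groth.Agent.Lib.Helper23.RAdj1

/-!
# The tensor-Hom adjunction on complexes, up to homotopy (helper23)

* `evCx L M : Hom•(L, M) ⊗ L ⟶ M`, the evaluation map;
* `ofHom_whiskerRight_comp_evCx`: `(h ▷ L) ≫ evCx = toT (ofHom h)`;
* `exists_adjunct`: every `g : X ⊗ L ⟶ M` is `(h ▷ L) ≫ evCx` for some `h`;
* `homotopy_of_homotopy_adjunct`: `h` is determined up to homotopy by the homotopy class of `(h ▷ L) ≫ evCx`.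
-/

set_option autoImplicit false
universe u
open CategoryTheory CategoryTheory.Limits MonoidalCategory
open CochainComplex.HomComplex HomologicalComplex

namespace Groth.Agent.Lib.helper23.Binders

open Groth.Agent.Lib.helper23.TensHom

variable {A : Type u} [CommRing A]

section Cx

variable (L M : DRing.Cx A)

lemma toT_zero {K : DRing.Cx A} (n : ℤ) : toT (0 : Cochain K (DRing.homCx L M) n) = 0 :=
  map_zero (toTLin K L M n)

lemma δ_toT_ofHom {K : DRing.Cx A} (h : K ⟶ DRing.homCx L M) : δ 0 1 (toT (Cochain.ofHom h)) = 0 := by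
  rw [δ_toT (zero_add 1), δ_ofHom, toT_zero]

/-- the evaluation map `Hom•(L, M) ⊗ L ⟶ M` -/
noncomputable def evCx : DRing.homCx L M ⊗ L ⟶ M :=
  Cocycle.homOf (Cocycle.mk (toT (Cochain.ofHom (𝟙 (DRing.homCx L M)))) 1 (zero_add 1)
    (δ_toT_ofHom L M _))

lemma ofHom_evCx : Cochain.ofHom (evCx L M) = toT (Cochain.ofHom (𝟙 (DRing.homCx L M))) :=
  Cocycle.cochain_ofHom_homOf_eq_coe _

variable {L M}

lemma ι_whiskerRight' {K K' : DRing.Cx A} (g : K ⟶ K') (L : DRing.Cx A) (p q n : ℤ) (h : p + q = n) :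
    ιTensorObj K L p q n h ≫ (g ▷ L).f n = (g.f p ▷ L.X q) ≫ ιTensorObj K' L p q n h := by
  rw [← tensorHom_id]
  change ιMapBifunctor K L (curriedTensor (ModuleCat.{u} A)) (ComplexShape.up ℤ) p q n h ≫
    (mapBifunctorMap g (𝟙 L) (curriedTensor (ModuleCat.{u} A)) (ComplexShape.up ℤ)).f n = _
  rw [ι_mapBifunctorMap]
  simp

lemma whiskerRight_comp₂ {K K' : DRing.Cx A} (f : K' ⟶ K) {n : ℤ} (z : Cochain K (DRing.homCx L M) n)
    (p q m' : ℤ) (h : p + q + n = m') :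
    (f.f p ▷ L.X q) ≫ comp₂ z p q m' h = comp₂ ((Cochain.ofHom f).comp z (zero_add n)) p q m' h := by
  apply ModuleCat.hom_ext
  apply TensorProduct.ext'
  intro x y
  have e : ((Cochain.ofHom f).comp z (zero_add n)).v p (p + n) rfl = f.f p ≫ z.v p (p + n) rfl := by
    rw [Cochain.zero_cochain_comp_v, Cochain.ofHom_v]
  have e1 : (comp₂ ((Cochain.ofHom f).comp z (zero_add n)) p q m' h).hom (x ⊗ₜ[A] y) =
      ((((z.v p (p + n) rfl).hom ((f.f p).hom x) : Cochain L M (p + n))).v q m' (by omega)).hom y := by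
    rw [comp₂_tmul, e]
    rfl
  have e2 : ((f.f p ▷ L.X q) ≫ comp₂ z p q m' h).hom (x ⊗ₜ[A] y) =
      (comp₂ z p q m' h).hom (((f.f p).hom x) ⊗ₜ[A] y) := rfl
  rw [e1, e2, comp₂_tmul]

lemma toT_precomp {K K' : DRing.Cx A} (f : K' ⟶ K) {n : ℤ} (z : Cochain K (DRing.homCx L M) n) :
    toT ((Cochain.ofHom f).comp z (zero_add n)) = (Cochain.ofHom (f ▷ L)).comp (toT z) (zero_add n) := by
  refine Cochain.ext _ _ (fun m m' hm => ?_)
  apply mapBifunctor.hom_ext
  intro p q hpq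
  have hpq' : p + q = m := hpq
  subst hpq'
  rw [ι_toT_v _ p q (p + q) m' rfl hm, Cochain.zero_cochain_comp_v, Cochain.ofHom_v]
  erw [reassoc_of% (ι_whiskerRight' f L p q (p + q) rfl), ι_toT_v _ p q (p + q) m' rfl hm]
  exact (whiskerRight_comp₂ f z p q m' (by omega)).symm

lemma ofHom_whiskerRight_comp_evCx {X : DRing.Cx A} (h : X ⟶ DRing.homCx L M) :
    Cochain.ofHom ((h ▷ L) ≫ evCx L M) = toT (Cochain.ofHom h) := by
  rw [Cochain.ofHom_comp, ofHom_evCx, ← toT_precomp]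
  congr 1
  exact Cochain.comp_id _

lemma fromT_add {K : DRing.Cx A} {n : ℤ} (u u' : Cochain (K ⊗ L) M n) :
    fromT (u + u') = fromT u + fromT u' :=
  map_add (toTLin K L M n).symm u u'

lemma fromT_zero {K : DRing.Cx A} (n : ℤ) : fromT (0 : Cochain (K ⊗ L) M n) = 0 :=
  map_zero (toTLin K L M n).symm

/-- every map `X ⊗ L ⟶ M` is the adjunct of a map `X ⟶ Hom•(L, M)` -/
lemma exists_adjunct {X : DRing.Cx A} (g : X ⊗ L ⟶ M) :
    ∃ h : X ⟶ DRing.homCx L M, (h ▷ L) ≫ evCx L M = g := by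
  have hz : δ 0 1 (fromT (Cochain.ofHom g)) = 0 := by
    rw [fromT_δ (zero_add 1), δ_ofHom, fromT_zero]
  refine ⟨Cocycle.homOf (Cocycle.mk (fromT (Cochain.ofHom g)) 1 (zero_add 1) hz), ?_⟩
  apply Cochain.ofHom_injective
  rw [ofHom_whiskerRight_comp_evCx, Cocycle.cochain_ofHom_homOf_eq_coe]
  exact toT_fromT _

/-- a map `X ⟶ Hom•(L, M)` is determined up to homotopy by the homotopy class of its adjunct -/
lemma homotopy_of_homotopy_adjunct {X : DRing.Cx A} (h h' : X ⟶ DRing.homCx L M)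
    (H : Homotopy ((h ▷ L) ≫ evCx L M) ((h' ▷ L) ≫ evCx L M)) : Nonempty (Homotopy h h') := by
  obtain ⟨w, hw⟩ := Cochain.equivHomotopy _ _ H
  rw [ofHom_whiskerRight_comp_evCx, ofHom_whiskerRight_comp_evCx] at hw
  refine ⟨(Cochain.equivHomotopy _ _).symm ⟨fromT w, ?_⟩⟩
  have e := congrArg fromT hw
  rw [fromT_toT, fromT_add, fromT_toT, ← fromT_δ (by omega : (-1 : ℤ) + 1 = 0)] at e
  exact e

end Cx

end Groth.Agent.Lib.helper23.Binders
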