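import Mathlib
import Groth.Prelude.Def_DTen3
import Groth.Agent.Lib.Helper13.PerfInd3

/-!
# Complex-level bimodules give derived-level bimodules (helper23)

`bimod_of_cx`: let `T₀, W₀, M₀` be complexes with maps `aT : T₀ ⊗ W₀ ⟶ W₀`, `aM : W₀ ⊗ M₀ ⟶ W₀` such that
`α ≫ (T₀ ◁ aM) ≫ aT = (aT ▷ M₀) ≫ aM`. For objects `T ≅ Q T₀`, `W ≅ Q W₀`, `M ≅ Q M₀` of `D(R)`, the induced maps
`AL : T ⊗^L W ⟶ W`, `AR : W ⊗^L M ⟶ W` satisfy `associator ≫ (T ⊗^L AR) ≫ AL = (AL ⊗^L M) ≫ AR`.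
-/

set_option autoImplicit false
universe u
open CategoryTheory CategoryTheory.Limits MonoidalCategory
attribute [local instance] HasDerivedCategory.standard

namespace Groth.Agent.Lib.helper23.TrD

open DTen Groth.Agent.Lib.helper13.PerfInd

variable {R : Type u} [CommRing R] [HasLTen R] [HasLTen₃ R] [IsSymMonoidal R]

/-- the associator on images of complexes -/
lemma associator_hom_βR (T₀ W₀ M₀ : DRing.Cx R) :
    (associator (DerivedCategory.Q.obj T₀) (DerivedCategory.Q.obj W₀) (DerivedCategory.Q.obj M₀)).hom ≫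
        tmap (𝟙 (DerivedCategory.Q.obj T₀)) ((ε R).app (W₀, M₀)) ≫ (ε R).app (T₀, W₀ ⊗ M₀) =
      tmap ((ε R).app (T₀, W₀)) (𝟙 (DerivedCategory.Q.obj M₀)) ≫ (ε R).app (T₀ ⊗ W₀, M₀) ≫
        DerivedCategory.Q.map (α_ T₀ W₀ M₀).hom := by
  have h1 := assocR_fac R (T₀, (W₀, M₀))
  have h2 := assocL_fac R (T₀, (W₀, M₀))
  have h3 := associator_hom_assocR (DerivedCategory.Q.obj T₀) (DerivedCategory.Q.obj W₀)
    (DerivedCategory.Q.obj M₀)
  have h4 : (βR R).app (T₀, (W₀, M₀)) =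
      tmap (𝟙 (DerivedCategory.Q.obj T₀)) ((ε R).app (W₀, M₀)) ≫ (ε R).app (T₀, W₀ ⊗ M₀) := rfl
  have h5 : (βL R).app (T₀, (W₀, M₀)) =
      tmap ((ε R).app (T₀, W₀)) (𝟙 (DerivedCategory.Q.obj M₀)) ≫ (ε R).app (T₀ ⊗ W₀, M₀) ≫
        DerivedCategory.Q.map (α_ T₀ W₀ M₀).hom := rfl
  rw [← h4, ← h5, ← h1, ← h2]
  erw [reassoc_of% h3]
  rfl

omit [HasLTen₃ R] [IsSymMonoidal R] in
lemma ε_naturality {K K' L L' : DRing.Cx R} (a : K ⟶ K') (b : L ⟶ L') :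
    tmap (DerivedCategory.Q.map a) (DerivedCategory.Q.map b) ≫ (ε R).app (K', L') =
      (ε R).app (K, L) ≫ DerivedCategory.Q.map (a ⊗ₘ b) := by
  have := (ε R).naturality (Prod.mkHom a b)
  dsimp at this
  rw [← MonoidalCategory.tensorHom_def] at this
  exact this

variable {T W M : Dual.D R} {T₀ W₀ M₀ : DRing.Cx R}
  (t : T ≅ DerivedCategory.Q.obj T₀) (w : W ≅ DerivedCategory.Q.obj W₀) (m : M ≅ DerivedCategory.Q.obj M₀)
  (aT : T₀ ⊗ W₀ ⟶ W₀) (aM : W₀ ⊗ M₀ ⟶ W₀)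

theorem bimod_of_cx (hb : (α_ T₀ W₀ M₀).hom ≫ (T₀ ◁ aM) ≫ aT = (aT ▷ M₀) ≫ aM) :
    (associator T W M).hom ≫
        tmap (𝟙 T) (tmap w.hom m.hom ≫ (ε R).app (W₀, M₀) ≫ DerivedCategory.Q.map aM ≫ w.inv) ≫
          (tmap t.hom w.hom ≫ (ε R).app (T₀, W₀) ≫ DerivedCategory.Q.map aT ≫ w.inv) =
      tmap (tmap t.hom w.hom ≫ (ε R).app (T₀, W₀) ≫ DerivedCategory.Q.map aT ≫ w.inv) (𝟙 M) ≫
        (tmap w.hom m.hom ≫ (ε R).app (W₀, M₀) ≫ DerivedCategory.Q.map aM ≫ w.inv) := by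
  -- right hand side
  have r1 : tmap (tmap t.hom w.hom ≫ (ε R).app (T₀, W₀) ≫ DerivedCategory.Q.map aT ≫ w.inv) (𝟙 M) ≫
      tmap w.hom m.hom =
      tmap (tmap t.hom w.hom) m.hom ≫ tmap ((ε R).app (T₀, W₀)) (𝟙 _) ≫
        tmap (DerivedCategory.Q.map aT) (DerivedCategory.Q.map (𝟙 M₀)) := by
    rw [← tmap_comp, ← tmap_comp, ← tmap_comp]
    congr 1
    · simp
    · simp
  have r2 := ε_naturality aT (𝟙 M₀)
  rw [tensorHom_id] at r2
  -- left hand side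
  have l1 : tmap (𝟙 T) (tmap w.hom m.hom ≫ (ε R).app (W₀, M₀) ≫ DerivedCategory.Q.map aM ≫ w.inv) ≫
      tmap t.hom w.hom =
      tmap t.hom (tmap w.hom m.hom) ≫ tmap (𝟙 _) ((ε R).app (W₀, M₀)) ≫
        tmap (DerivedCategory.Q.map (𝟙 T₀)) (DerivedCategory.Q.map aM) := by
    rw [← tmap_comp, ← tmap_comp, ← tmap_comp]
    congr 1
    · simp
    · simp
  have l2 := ε_naturality (𝟙 T₀) aM
  rw [id_tensorHom] at l2
  have l3 := associator_naturality t.hom w.hom m.hom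
  have l4 := associator_hom_βR T₀ W₀ M₀
  rw [reassoc_of% r1, reassoc_of% r2, reassoc_of% l1, reassoc_of% l2, ← reassoc_of% l3, reassoc_of% l4]
  rw [← Functor.map_comp_assoc, ← Functor.map_comp_assoc, ← Functor.map_comp_assoc, Category.assoc, hb]
  simp only [Functor.map_comp, Category.assoc]

end Groth.Agent.Lib.helper23.TrD
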