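import Mathlib
import Groth.Prelude.Def_DTen5
import Groth.Agent.Lib.Helper23.Binders3
import Groth.Agent.Lib.Helper13.DTenB
import Groth.Agent.Lib.Helper23.TrD7

/-!
# `D(A)` is closed: the binder `DTen.HasRHom A` holds for every ring (helper23)

For `L` a K-flat complex and `I` a K-injective complex, `Q(Hom•(L, I))` represents `X ↦ Hom(X ⊗^L QL, QI)`
(`bijective_evD`).  Hence `- ⊗^L L'` has a right adjoint for every `L' ∈ D(A)` (`hasRHom`).
-/

set_option autoImplicit false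
universe u
open CategoryTheory CategoryTheory.Limits MonoidalCategory
attribute [local instance] HasDerivedCategory.standard

namespace Groth.Agent.Lib.helper23.Binders

open DTen Groth.Agent.Lib.helper13.PerfInd Groth.Agent.Lib.helper13.KFlat Groth.Agent.Lib.helper13.DTenA
  Groth.Agent.Lib.helper23.TensHom Groth.Agent.Lib.helper23.TrD

variable {A : Type u} [CommRing A] [HasLTen A]

lemma isIso_tmap {X X' Y Y' : Dual.D A} (a : X ⟶ X') (b : Y ⟶ Y') [IsIso a] [IsIso b] :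
    IsIso (tmap a b) := by
  haveI : IsIso (Prod.mkHom a b) := (isIso_prod_iff _ _).2 ⟨inferInstanceAs (IsIso a), inferInstanceAs (IsIso b)⟩
  dsimp only [tmap]
  infer_instance

omit [HasLTen A] in
lemma tmap_id_right_comp_assoc' [HasLTen A] (X : Dual.D A) {Y Y' Y'' Z : Dual.D A} (g : Y ⟶ Y') (g' : Y' ⟶ Y'')
    (k : (LTen₂ A).obj (Y'', X) ⟶ Z) :
    tmap g (𝟙 X) ≫ tmap g' (𝟙 X) ≫ k = tmap (g ≫ g') (𝟙 X) ≫ k := by
  rw [← Category.assoc, ← tmap_comp, Category.comp_id]

section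

variable (L I : DRing.Cx A)

/-- the evaluation map `Q Hom•(L, I) ⊗^L Q L ⟶ Q I` -/
noncomputable def evD :
    (LTen₂ A).obj (DerivedCategory.Q.obj (DRing.homCx L I), DerivedCategory.Q.obj L) ⟶
      DerivedCategory.Q.obj I :=
  (ε A).app (DRing.homCx L I, L) ≫ DerivedCategory.Q.map (evCx L I)

lemma tmap_Q_map_comp_evD {X₀ : DRing.Cx A} (h₀ : X₀ ⟶ DRing.homCx L I) :
    tmap (DerivedCategory.Q.map h₀) (𝟙 (DerivedCategory.Q.obj L)) ≫ evD L I =
      (ε A).app (X₀, L) ≫ DerivedCategory.Q.map ((h₀ ▷ L) ≫ evCx L I) := by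
  have e := ε_naturality h₀ (𝟙 L)
  rw [CategoryTheory.Functor.map_id, tensorHom_id] at e
  dsimp only [evD]
  rw [reassoc_of% e, Functor.map_comp]

variable (hL : IsKFlatR L) [I.IsKInjective]

include hL in
theorem bijective_evD_Q (X₀ : DRing.Cx A) :
    Function.Bijective (fun h : DerivedCategory.Q.obj X₀ ⟶ DerivedCategory.Q.obj (DRing.homCx L I) =>
      tmap h (𝟙 (DerivedCategory.Q.obj L)) ≫ evD L I) := by
  haveI : IsIso ((ε A).app (X₀, L)) := isIso_ε_right X₀ L hL
  haveI : (DRing.homCx L I).IsKInjective := isKInjective_homCx L I hL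
  constructor
  · intro h h' hh
    obtain ⟨h₀, rfl⟩ := RAdj.exists_Q_map_eq h
    obtain ⟨h₀', rfl⟩ := RAdj.exists_Q_map_eq h'
    have hh' : tmap (DerivedCategory.Q.map h₀) (𝟙 (DerivedCategory.Q.obj L)) ≫ evD L I =
        tmap (DerivedCategory.Q.map h₀') (𝟙 (DerivedCategory.Q.obj L)) ≫ evD L I := hh
    rw [tmap_Q_map_comp_evD, tmap_Q_map_comp_evD, cancel_epi] at hh'
    have h2 : DerivedCategory.Q.map ((h₀ ▷ L) ≫ evCx L I - (h₀' ▷ L) ≫ evCx L I) = 0 := by
      rw [Functor.map_sub, hh', sub_self]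
    obtain ⟨H⟩ := (RAdj.Q_map_eq_zero_iff _).1 h2
    obtain ⟨H'⟩ := homotopy_of_homotopy_adjunct h₀ h₀' (Homotopy.equivSubZero.symm H)
    exact DerivedCategory.Q_map_eq_of_homotopy _ H'
  · intro g
    obtain ⟨g₀, hg₀⟩ := RAdj.exists_Q_map_eq (inv ((ε A).app (X₀, L)) ≫ g)
    obtain ⟨h₀, hh₀⟩ := exists_adjunct g₀
    refine ⟨DerivedCategory.Q.map h₀, ?_⟩
    change tmap (DerivedCategory.Q.map h₀) (𝟙 (DerivedCategory.Q.obj L)) ≫ evD L I = g
    rw [tmap_Q_map_comp_evD, hh₀, hg₀, IsIso.hom_inv_id_assoc]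

include hL in
theorem bijective_evD (X : Dual.D A) :
    Function.Bijective (fun h : X ⟶ DerivedCategory.Q.obj (DRing.homCx L I) =>
      tmap h (𝟙 (DerivedCategory.Q.obj L)) ≫ evD L I) := by
  obtain ⟨X₀, ⟨e⟩⟩ : ∃ X₀ : DRing.Cx A, Nonempty (DerivedCategory.Q.obj X₀ ≅ X) :=
    ⟨_, ⟨DerivedCategory.Q.objObjPreimageIso X⟩⟩
  have hb := bijective_evD_Q L I hL X₀
  have e1 : (fun h : X ⟶ DerivedCategory.Q.obj (DRing.homCx L I) =>
      tmap h (𝟙 (DerivedCategory.Q.obj L)) ≫ evD L I) =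
      (fun g => tmap e.inv (𝟙 (DerivedCategory.Q.obj L)) ≫ g) ∘
        (fun h : DerivedCategory.Q.obj X₀ ⟶ DerivedCategory.Q.obj (DRing.homCx L I) =>
          tmap h (𝟙 (DerivedCategory.Q.obj L)) ≫ evD L I) ∘ (fun h => e.hom ≫ h) := by
    funext h
    dsimp only [Function.comp]
    rw [← Category.assoc, ← tmap_comp, Category.comp_id, Iso.inv_hom_id_assoc]
  rw [e1]
  refine Function.Bijective.comp ?_ (Function.Bijective.comp hb ?_)
  · haveI : IsIso (tmap e.inv (𝟙 (DerivedCategory.Q.obj L))) := isIso_tmap _ _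
    exact ⟨fun a b hab => (cancel_epi _).1 hab, fun g =>
      ⟨inv (tmap e.inv (𝟙 (DerivedCategory.Q.obj L))) ≫ g, IsIso.hom_inv_id_assoc _ _⟩⟩
  · exact ⟨fun a b hab => (cancel_epi _).1 hab, fun g => ⟨e.inv ≫ g, Iso.hom_inv_id_assoc _ _⟩⟩

end

section Closed

variable (A)

/-- `- ⊗^L L'` has a right adjoint, for every `L' ∈ D(A)` -/
theorem isLeftAdjoint_tensorRightD (L' : Dual.D A) : (tensorRightD A L').IsLeftAdjoint := by
  classical
  obtain ⟨L, hL, ⟨b'⟩⟩ := exists_iso_Q_kflat L'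
  let b : DerivedCategory.Q.obj L ≅ L' := b'.symm
  have hK : ∀ M : Dual.D A, ∃ (I : DRing.Cx A), I.IsKInjective ∧
      Nonempty (DerivedCategory.Q.obj I ≅ M) := by
    intro M
    obtain ⟨I, f, hI, hf⟩ := Groth.Agent.Lib.helper23.RHomEx.hKinj A (DerivedCategory.Q.objPreimage M)
    haveI : IsIso (DerivedCategory.Q.map f) := by
      rw [DerivedCategory.isIso_Q_map_iff_quasiIso]
      exact hf
    exact ⟨I, hI, ⟨(asIso (DerivedCategory.Q.map f)).symm ≪≫ DerivedCategory.Q.objObjPreimageIso M⟩⟩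
  choose I hI a using hK
  let a' : ∀ M, DerivedCategory.Q.obj (I M) ≅ M := fun M => (a M).some
  let G_obj : Dual.D A → Dual.D A := fun M => DerivedCategory.Q.obj (DRing.homCx L (I M))
  let evM : ∀ M, (LTen₂ A).obj (G_obj M, L') ⟶ M := fun M =>
    tmap (𝟙 (G_obj M)) b.inv ≫ evD L (I M) ≫ (a' M).hom
  have hbij : ∀ X M, Function.Bijective (fun h : X ⟶ G_obj M => tmap h (𝟙 L') ≫ evM M) := by
    intro X M
    haveI := hI M
    have hb := bijective_evD L (I M) hL X
    have e1 : (fun h : X ⟶ G_obj M => tmap h (𝟙 L') ≫ evM M) =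
        (fun g => tmap (𝟙 X) b.inv ≫ g ≫ (a' M).hom) ∘
          (fun h : X ⟶ DerivedCategory.Q.obj (DRing.homCx L (I M)) =>
            tmap h (𝟙 (DerivedCategory.Q.obj L)) ≫ evD L (I M)) := by
      funext h
      dsimp only [Function.comp, evM]
      have x1 : tmap h (𝟙 L') ≫ tmap (𝟙 (G_obj M)) b.inv = tmap h b.inv := by
        rw [← tmap_comp, Category.comp_id, Category.id_comp]
      have x2 : tmap (𝟙 X) b.inv ≫ tmap h (𝟙 (DerivedCategory.Q.obj L)) = tmap h b.inv := by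
        rw [← tmap_comp, Category.comp_id, Category.id_comp]
      rw [reassoc_of% x1]
      simp only [Category.assoc]
      rw [reassoc_of% x2]
    rw [e1]
    refine Function.Bijective.comp ?_ hb
    haveI : IsIso (tmap (𝟙 X) b.inv) := isIso_tmap _ _
    constructor
    · intro g g' hgg
      have := (cancel_epi _).1 hgg
      exact (cancel_mono _).1 this
    · intro g
      refine ⟨inv (tmap (𝟙 X) b.inv) ≫ g ≫ (a' M).inv, ?_⟩
      simp
  let e : ∀ X M, ((tensorRightD A L').obj X ⟶ M) ≃ (X ⟶ G_obj M) := fun X M =>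
    (Equiv.ofBijective _ (hbij X M)).symm
  have he : ∀ X' X M (f : X' ⟶ X) (g : (tensorRightD A L').obj X ⟶ M),
      e X' M ((tensorRightD A L').map f ≫ g) = f ≫ e X M g := by
    intro X' X M f g
    apply (Equiv.ofBijective _ (hbij X' M)).injective
    change (Equiv.ofBijective _ (hbij X' M)) ((Equiv.ofBijective _ (hbij X' M)).symm _) = _
    rw [Equiv.apply_symm_apply]
    change _ = tmap (f ≫ e X M g) (𝟙 L') ≫ evM M
    have h1 : tmap (e X M g) (𝟙 L') ≫ evM M = g :=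
      (Equiv.ofBijective _ (hbij X M)).apply_symm_apply g
    rw [tensorRightD_map, ← tmap_id_right_comp_assoc', h1]
  exact (Adjunction.adjunctionOfEquivRight e he).isLeftAdjoint

/-- **`D(A)` is closed**: the binder `DTen.HasRHom A` holds for every commutative ring. -/
theorem hasRHom : DTen.HasRHom A := ⟨fun L' => isLeftAdjoint_tensorRightD A L'⟩

end Closed

end Groth.Agent.Lib.helper23.Binders
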