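import Mathlib
import Groth.Prelude.Def_DTen5
import Groth.Agent.Lib.Helper23.TIB1

/-!
# `A|_R`, as an object of `D(R)`, is `A[0]` (helper23)

* `unitRestrictIso : (restrictD (algebraMap R A)).obj (DTen.unit A) ≅ Dual.inD R A`;
* `isPerfect_restrict_unit`, `isPseudoCoherent_restrict_unit`: transport of perfectness / pseudo-coherence of the module.
-/

set_option autoImplicit false
universe u
open CategoryTheory CategoryTheory.Limits MonoidalCategory
attribute [local instance] HasDerivedCategory.standard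

namespace Groth.Agent.Lib.helper23.Binders

open DTen Groth.Agent.Lib.helper13.RKF

variable (R A : Type u) [CommRing R] [CommRing A] [Algebra R A]

/-- `A|_R ≅ A[0]` in `D(R)` -/
noncomputable def unitRestrictIso :
    (DRing.restrictD (algebraMap R A)).obj (DTen.unit A) ≅ Dual.inD R A :=
  (resFactors (algebraMap R A)).app (𝟙_ (DRing.Cx A)) ≪≫
    DerivedCategory.Q.mapIso
      ((HomologicalComplex.singleMapHomologicalComplex (ModuleCat.restrictScalars.{u} (algebraMap R A))
        (ComplexShape.up ℤ) 0).app (ModuleCat.of A A) ≪≫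
        (HomologicalComplex.single (ModuleCat.{u} R) (ComplexShape.up ℤ) 0).mapIso
          (Groth.Agent.Lib.helper23.TIB.ofIsoAR R A).symm) ≪≫
    ((DerivedCategory.singleFunctorIsoCompQ (ModuleCat.{u} R) 0).app (ModuleCat.of R A)).symm

variable {R A}

lemma isPerfect_restrict_unit (h : DRing.IsPerfectModule R A) :
    DRing.IsPerfect R ((DRing.restrictD (algebraMap R A)).obj (DTen.unit A)) := by
  obtain ⟨E, a, b, h1, h2, ⟨e⟩⟩ := h
  exact ⟨E, a, b, h1, h2, ⟨e ≪≫ (unitRestrictIso R A).symm⟩⟩

lemma isPseudoCoherent_restrict_unit (h : DRing.IsPseudoCoherentModule' R A) :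
    DRing.IsPseudoCoherent' R ((DRing.restrictD (algebraMap R A)).obj (DTen.unit A)) := by
  obtain ⟨E, b, h1, h2, ⟨e⟩⟩ := h
  exact ⟨E, b, h1, h2, ⟨e ≪≫ (unitRestrictIso R A).symm⟩⟩

end Groth.Agent.Lib.helper23.Binders
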