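import Mathlib
import Groth.Prelude.Def_DTen6
import Groth.Agent.Lib.Helper13.RhomBC6
import Groth.Agent.Lib.Helper13.PerfInd7

/-!
# `evalTen T K M` is an isomorphism for `M` pseudo-coherent, `K` bounded below and `T ⊗^L -` of bounded
cohomological amplitude (helper23)

Adaptation of helper13's `isIso_fMap_of_isPseudoCoherent`.
-/

set_option autoImplicit false
universe u
open CategoryTheory Limits MonoidalCategory HomologicalComplex Pretriangulated

attribute [local instance] HasDerivedCategory.standard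

namespace Groth.Agent.Lib.helper23.Binders
open DTen Groth.Agent.Lib.helper13.DTenA Groth.Agent.Lib.helper13.KFlat
  Groth.Agent.Lib.helper13.RKF Groth.Agent.Lib.helper13.PerfInd Groth.Agent.Lib.helper13.PCohEval
  Groth.Agent.Lib.helper13.RhomBC

variable {R : Type u} [CommRing R] [HasLTen R] [HasLTen₃ R] [IsSymMonoidal R] [HasRHom R]

/-- If `T ⊗^L -` sends `D^{≥ r}` into `D^{≥ r - d}`, then `evalTen T K M : T ⊗^L RHom(M, K) ⟶ RHom(M, T ⊗^L K)` is
invertible for `M` pseudo-coherent and `K` bounded below. -/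
theorem isIso_evalTen_of_isPseudoCoherent (T : Dual.D R) (d : ℤ)
    (hd : ∀ (X : Dual.D R) (r : ℤ), X.IsGE r → ((LTen₂ R).obj (T, X)).IsGE (r - d))
    (K M : Dual.D R) (hM : DRing.IsPseudoCoherent' R M) (n₀ : ℤ) [K.IsGE n₀] :
    IsIso (evalTen T K M) := by
  -- bound for `F(C) = T ⊗ RHom(C, K)`
  have hF : ∀ (C : Dual.D R) (m : ℤ), C.IsLE m →
      ((LTen₂ R).obj (T, (RHomR R C).obj K)).IsGE (n₀ - d - m) := by
    intro C m hC
    haveI := isGE_RHom' C K m n₀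
    haveI := hd ((RHomR R C).obj K) (n₀ - m) inferInstance
    exact DerivedCategory.TStructure.t.isGE_of_ge _ (n₀ - d - m) (n₀ - m - d) (by omega)
  -- bound for `G(C) = RHom(C, T ⊗ K)`
  have hG : ∀ (C : Dual.D R) (m : ℤ), C.IsLE m →
      ((RHomR R C).obj ((LTen₂ R).obj (T, K))).IsGE (n₀ - d - m) := by
    intro C m hC
    haveI := hd K n₀ inferInstance
    exact isGE_RHom' C ((LTen₂ R).obj (T, K)) m (n₀ - d)
  refine isIso_of_bijective_tst _ (fun n => ?_)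
  obtain ⟨Tr, hT, ⟨e⟩, hP, hC⟩ := exists_perfect_triangle M hM (n₀ - d + n - 2)
  obtain ⟨a₀, ha₀⟩ : ∃ a₀ : Tr.obj₃⟦(-1 : ℤ)⟧ ⟶ Tr.obj₁, a₀ = Tr.invRotate.mor₁ := ⟨_, rfl⟩
  have hT' := inv_rot_of_distTriang _ hT
  have e0 := coMidExact_of_distinguished Tr hT
  have e' : CoMidExact a₀ Tr.mor₁ := by rw [ha₀]; exact coMidExact_of_distinguished _ hT'
  haveI hC' : (Tr.obj₃⟦(-1 : ℤ)⟧).IsLE (n₀ - d + n - 1) :=
    DerivedCategory.TStructure.t.isLE_shift Tr.obj₃ (n₀ - d + n - 2) (-1) _ (by omega)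
  -- the four vanishing statements
  have v1 : ∀ x : (tst n : Dual.D R) ⟶ (LTen₂ R).obj (T, (RHomR R Tr.obj₃).obj K), x = 0 := by
    haveI := hF _ _ hC
    exact fun x => tst_hom_zero_of_isGE n (n₀ - d - (n₀ - d + n - 2)) (by omega) _ x
  have v2 : ∀ x : (tst n : Dual.D R) ⟶
      (LTen₂ R).obj (T, (RHomR R (Tr.obj₃⟦(-1 : ℤ)⟧)).obj K), x = 0 := by
    haveI := hF _ _ hC'
    exact fun x => tst_hom_zero_of_isGE n (n₀ - d - (n₀ - d + n - 1)) (by omega) _ x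
  have v3 : ∀ x : (tst n : Dual.D R) ⟶
      (RHomR R Tr.obj₃).obj ((LTen₂ R).obj (T, K)), x = 0 := by
    haveI := hG _ _ hC
    exact fun x => tst_hom_zero_of_isGE n (n₀ - d - (n₀ - d + n - 2)) (by omega) _ x
  have v4 : ∀ x : (tst n : Dual.D R) ⟶
      (RHomR R (Tr.obj₃⟦(-1 : ℤ)⟧)).obj ((LTen₂ R).obj (T, K)), x = 0 := by
    haveI := hG _ _ hC'
    exact fun x => tst_hom_zero_of_isGE n (n₀ - d - (n₀ - d + n - 1)) (by omega) _ x
  have bF := bijective_of_midExact (tmap (𝟙 T) (RHomMap Tr.mor₂ K))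
    (tmap (𝟙 T) (RHomMap Tr.mor₁ K)) (tmap (𝟙 T) (RHomMap a₀ K))
    (MidExact.of_coMidExact (coMidExact_tensorLeft' T
      (CoMidExact.of_midExact (midExact_RHomMap' e0 K))))
    (MidExact.of_coMidExact (coMidExact_tensorLeft' T
      (CoMidExact.of_midExact (midExact_RHomMap' e' K)))) (tst n) v1 v2
  have bG := bijective_of_midExact (RHomMap Tr.mor₂ ((LTen₂ R).obj (T, K)))
    (RHomMap Tr.mor₁ ((LTen₂ R).obj (T, K)))
    (RHomMap a₀ ((LTen₂ R).obj (T, K)))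
    (midExact_RHomMap' e0 _)
    (midExact_RHomMap' e' _) (tst n) v3 v4
  haveI : IsIso (evalTen T K Tr.obj₁) := isIso_evalTen_of_isPerfect_hom T K _ hP
  have nat1 : tmap (𝟙 T) (RHomMap Tr.mor₁ K) ≫ evalTen T K Tr.obj₁ =
      evalTen T K Tr.obj₂ ≫ RHomMap Tr.mor₁ ((LTen₂ R).obj (T, K)) :=
    evalTen_naturality_hom Tr.mor₁ T K
  -- bijectivity for `Tr.obj₂`
  have b2 : Function.Bijective (fun x : (tst n : Dual.D R) ⟶
      (LTen₂ R).obj (T, (RHomR R Tr.obj₂).obj K) => x ≫ evalTen T K Tr.obj₂) := by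
    constructor
    · intro x y hxy
      have hxy' : x ≫ evalTen T K Tr.obj₂ = y ≫ evalTen T K Tr.obj₂ := hxy
      apply bF.1
      change x ≫ tmap (𝟙 T) (RHomMap Tr.mor₁ K) = y ≫ tmap (𝟙 T) (RHomMap Tr.mor₁ K)
      rw [← cancel_mono (evalTen T K Tr.obj₁), Category.assoc, Category.assoc, nat1,
        reassoc_of% hxy']
    · intro z
      obtain ⟨x, hx⟩ := bF.2 ((z ≫ RHomMap Tr.mor₁ ((LTen₂ R).obj (T, K))) ≫
        inv (evalTen T K Tr.obj₁))
      have hx' : x ≫ tmap (𝟙 T) (RHomMap Tr.mor₁ K) =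
          (z ≫ RHomMap Tr.mor₁ ((LTen₂ R).obj (T, K))) ≫ inv (evalTen T K Tr.obj₁) := hx
      refine ⟨x, ?_⟩
      apply bG.1
      change (x ≫ evalTen T K Tr.obj₂) ≫ RHomMap Tr.mor₁ ((LTen₂ R).obj (T, K)) =
        z ≫ RHomMap Tr.mor₁ ((LTen₂ R).obj (T, K))
      rw [Category.assoc, ← nat1, reassoc_of% hx', IsIso.inv_hom_id, Category.comp_id]
  -- transport along `e : Tr.obj₂ ≅ M`
  have nat2 : tmap (𝟙 T) (RHomMap e.hom K) ≫ evalTen T K Tr.obj₂ =
      evalTen T K M ≫ RHomMap e.hom ((LTen₂ R).obj (T, K)) :=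
    evalTen_naturality_hom e.hom T K
  haveI i1 : IsIso (RHomMap e.hom K) := isIso_RHomMap_of_isIso e.hom K
  haveI i2 : IsIso (RHomMap e.hom ((LTen₂ R).obj (T, K))) := isIso_RHomMap_of_isIso _ _
  haveI i3 : IsIso (tmap (𝟙 T) (RHomMap e.hom K)) := by
    haveI : IsIso (Prod.mkHom (𝟙 T) (RHomMap e.hom K)) :=
      (isIso_prod_iff _ _).2 ⟨inferInstanceAs (IsIso (𝟙 T)), i1⟩
    dsimp only [tmap]
    infer_instance
  constructor
  · intro x y hxy
    have hxy' : x ≫ evalTen T K M = y ≫ evalTen T K M := hxy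
    have h1 : (x ≫ tmap (𝟙 T) (RHomMap e.hom K)) ≫ evalTen T K Tr.obj₂ =
        (y ≫ tmap (𝟙 T) (RHomMap e.hom K)) ≫ evalTen T K Tr.obj₂ := by
      rw [Category.assoc, Category.assoc, nat2, reassoc_of% hxy']
    exact (cancel_mono _).1 (b2.1 h1)
  · intro z
    obtain ⟨x, hx⟩ := b2.2 (z ≫ RHomMap e.hom ((LTen₂ R).obj (T, K)))
    have hx' : x ≫ evalTen T K Tr.obj₂ = z ≫ RHomMap e.hom ((LTen₂ R).obj (T, K)) := hx
    refine ⟨x ≫ inv (tmap (𝟙 T) (RHomMap e.hom K)), ?_⟩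
    change (x ≫ inv (tmap (𝟙 T) (RHomMap e.hom K))) ≫ evalTen T K M = z
    rw [← cancel_mono (RHomMap e.hom ((LTen₂ R).obj (T, K))), Category.assoc,
      Category.assoc, ← nat2, IsIso.inv_hom_id_assoc, hx']

end Groth.Agent.Lib.helper23.Binders
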