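import Mathlib
import Groth.Prelude.Def_Wider
import Groth.Agent.Lib.Helper23.DCoprod6

/-!
# Maps from `R[0]` into a termwise coproduct of complexes have finite support (helper23)
-/

set_option autoImplicit false
universe u
open CategoryTheory Limits

namespace Groth.Agent.Lib.helper23.CPerf

open Groth.Agent.Lib.helper23.DCoprod

variable {R : Type u} [CommRing R]

section ModCoprod

variable {J : Type u} (Z : J → ModuleCat.{u} R)

open Classical in
/-- every element of a coproduct of modules is a finite sum of elements of the summands -/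
lemma exists_finset_sum (x : (∐ Z : ModuleCat.{u} R)) :
    ∃ (S : Finset J) (σ : ∀ j, Z j), x = ∑ j ∈ S, (Sigma.ι Z j).hom (σ j) := by
  let e := ModuleCat.coprodIsoDirectSum Z
  let w : DirectSum J (fun j => Z j) := e.hom.hom x
  refine ⟨w.support, fun j => w j, ?_⟩
  have h1 : x = e.inv.hom w := by
    change x = (e.hom ≫ e.inv).hom x
    rw [Iso.hom_inv_id]
    rfl
  have h2 : w = ∑ j ∈ w.support, DirectSum.lof R J (fun j => Z j) j (w j) :=
    (DirectSum.sum_support_of w).symm
  rw [h1]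
  conv_lhs => rw [h2]
  rw [map_sum]
  refine Finset.sum_congr rfl (fun j _ => ?_)
  have h3 := ModuleCat.lof_coprodIsoDirectSum_inv Z j
  exact congrArg (fun k : ModuleCat.of R (Z j) ⟶ ∐ Z => k.hom (w j)) h3

open Classical in
lemma exists_finset_sum_π (x : (∐ Z : ModuleCat.{u} R)) :
    ∃ (S : Finset J), x = ∑ j ∈ S, (Sigma.ι Z j).hom ((Sigma.π Z j).hom x) := by
  obtain ⟨S, σ, hσ⟩ := exists_finset_sum Z x
  refine ⟨S, ?_⟩
  conv_lhs => rw [hσ]
  refine Finset.sum_congr rfl (fun j hj => ?_)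
  congr 1
  rw [hσ, map_sum, Finset.sum_eq_single j]
  · change σ j = (Sigma.ι Z j ≫ Sigma.π Z j).hom (σ j)
    rw [Sigma.ι_π_eq_id]
    rfl
  · intro k _ hkj
    change (Sigma.ι Z k ≫ Sigma.π Z j).hom (σ k) = 0
    rw [Sigma.ι_π_of_ne Z hkj]
    rfl
  · intro h
    exact absurd hj h

open Classical in
/-- maps from `R` into a coproduct of modules have finite support -/
lemma exists_finset_hom (φ : ModuleCat.of R R ⟶ ∐ Z) :
    ∃ (S : Finset J), φ = ∑ j ∈ S, φ ≫ Sigma.π Z j ≫ Sigma.ι Z j := by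
  obtain ⟨S, hS⟩ := exists_finset_sum_π Z (φ.hom (1 : R))
  refine ⟨S, ?_⟩
  apply ModuleCat.hom_ext
  apply LinearMap.ext_ring
  conv_lhs => rw [hS]
  rw [ModuleCat.hom_sum, LinearMap.sum_apply]
  refine Finset.sum_congr rfl (fun j _ => ?_)
  rfl

end ModCoprod

section Cx

variable {J : Type u} (K : J → CochainComplex (ModuleCat.{u} R) ℤ)

open Classical in
/-- projection of the termwise coproduct of complexes onto a summand -/
noncomputable def sigπ (j : J) : sig K ⟶ K j :=
  sigDesc (fun i => if h : i = j then eqToHom (by rw [h]) else 0)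

lemma sigι_π_self (j : J) : sigι K j ≫ sigπ K j = 𝟙 _ := by
  rw [sigπ, sigι_desc]
  simp

open Classical in
lemma sigπ_f (j : J) (n : ℤ) : (sigπ K j).f n = Sigma.π (fun i => (K i).X n) j := by
  apply Sigma.hom_ext (f := fun i => (K i).X n)
  intro i
  have h1 : Sigma.ι (fun i => (K i).X n) i ≫ (sigπ K j).f n =
      (if h : i = j then eqToHom (by rw [h]) else (0 : K i ⟶ K j)).f n :=
    Sigma.ι_desc _ _
  rw [h1, Sigma.ι_π]
  by_cases h : i = j
  · subst h
    simp
  · rw [dif_neg h, dif_neg h]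
    rfl

open Classical in
/-- chain maps from `R[0]` into a termwise coproduct of complexes have finite support -/
lemma exists_finset_cx
    (f : (HomologicalComplex.single (ModuleCat.{u} R) (ComplexShape.up ℤ) 0).obj (ModuleCat.of R R) ⟶
      sig K) :
    ∃ S : Finset J, f = ∑ j ∈ S, f ≫ sigπ K j ≫ sigι K j := by
  let s := HomologicalComplex.singleObjXSelf (ComplexShape.up ℤ) (0 : ℤ) (ModuleCat.of R R)
  obtain ⟨S, hS⟩ := exists_finset_hom (fun i => (K i).X 0) (s.inv ≫ f.f 0)
  refine ⟨S, ?_⟩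
  apply HomologicalComplex.from_single_hom_ext
  rw [← cancel_epi s.inv]
  have h2 : (∑ j ∈ S, f ≫ sigπ K j ≫ sigι K j).f 0 =
      ∑ j ∈ S, (f ≫ sigπ K j ≫ sigι K j).f 0 :=
    map_sum (HomologicalComplex.Hom.fAddMonoidHom (0 : ℤ)) _ _
  rw [h2, Preadditive.comp_sum]
  refine hS.trans (Finset.sum_congr rfl (fun j _ => ?_))
  rw [HomologicalComplex.comp_f, HomologicalComplex.comp_f, sigπ_f, Category.assoc]
  rfl

end Cx

end Groth.Agent.Lib.helper23.CPerf
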