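import Mathlib
import Groth.Prelude.Def_Wider
import Groth.Agent.Lib.Helper23.CPerf1
import Groth.Agent.Lib.Helper25.FinFac
import Groth.Agent.Lib.Helper14.KProjLift

/-!
# `R[0]` is a compact object of `D(R)` (finite factorisation form) (helper23)
-/

set_option autoImplicit false
universe u
open CategoryTheory Limits DerivedCategory

attribute [local instance] HasDerivedCategory.standard

namespace Groth.Agent.Lib.helper23.CPerf

open Groth.Agent.Lib.helper23.DCoprod Groth.Agent.Lib.Helper25.FinFac

variable (R : Type u) [CommRing R]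

/-- `R[0]` as a complex -/
noncomputable abbrev R0 : CochainComplex (ModuleCat.{u} R) ℤ :=
  (HomologicalComplex.single (ModuleCat.{u} R) (ComplexShape.up ℤ) 0).obj (ModuleCat.of R R)

instance projective_R0_X (n : ℤ) : Projective ((R0 R).X n) := by
  by_cases h : n = 0
  · subst h
    haveI : Projective (ModuleCat.of R R) :=
      (IsProjective.iff_projective (R := R) (P := R)).1 inferInstance
    exact Projective.of_iso
      (HomologicalComplex.singleObjXSelf (ComplexShape.up ℤ) (0 : ℤ) (ModuleCat.of R R)).symm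
      inferInstance
  · have hz : IsZero ((R0 R).X n) := HomologicalComplex.isZero_single_obj_X _ _ _ _ h
    exact Projective.of_iso hz.isoZero.symm inferInstance

instance isKProjective_R0 : (R0 R).IsKProjective :=
  CochainComplex.isKProjective_of_projective _ 0

/-- `R[0]` in `D(R)` -/
noncomputable def inDIso : Dual.inD R R ≅ Q.obj (R0 R) :=
  (DerivedCategory.singleFunctorIsoCompQ (ModuleCat.{u} R) 0).app (ModuleCat.of R R)

instance hasCoproductsOfShape_D (J : Type u) : HasCoproductsOfShape J (Dual.D R) :=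
  Groth.Agent.Lib.helper23.DCoprod.hasCoproductsOfShape

/-- maps from `R[0]` into a coproduct in `D(R)` have finite support -/
theorem ff_inD (P : Dual.D R → Prop) : FF.{u} P (Dual.inD R R) := by
  classical
  apply ff_of_exists_sum
  intro J M _ A g hc x
  let K : J → CochainComplex (ModuleCat.{u} R) ℤ := fun j => Q.objPreimage (M j)
  let e : ∀ j, Q.obj (K j) ≅ M j := fun j => Q.objObjPreimageIso (M j)
  let θh : Q.obj (sig K) ⟶ A :=
    Cofan.IsColimit.desc (isColimitCofan K) (fun j => (e j).hom ≫ g j)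
  have hθh : ∀ j, Q.map (sigι K j) ≫ θh = (e j).hom ≫ g j := fun j =>
    Cofan.IsColimit.fac (isColimitCofan K) _ j
  let θi : A ⟶ Q.obj (sig K) :=
    Cofan.IsColimit.desc hc (fun j => (e j).inv ≫ Q.map (sigι K j))
  have hθi : ∀ j, g j ≫ θi = (e j).inv ≫ Q.map (sigι K j) := fun j =>
    Cofan.IsColimit.fac hc _ j
  have hid : θi ≫ θh = 𝟙 A := by
    apply Cofan.IsColimit.hom_ext hc
    intro j
    change g j ≫ θi ≫ θh = g j ≫ 𝟙 A
    rw [← Category.assoc, hθi, Category.assoc, hθh, Iso.inv_hom_id_assoc, Category.comp_id]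
  obtain ⟨f, hf⟩ := Groth.Agent.Lib.Helper14.KProjLift.Q_map_surjective_of_isKProjective
    (R0 R) (sig K) ((inDIso R).inv ≫ x ≫ θi)
  obtain ⟨S, hS⟩ := exists_finset_cx K f
  refine ⟨S, fun j => (inDIso R).hom ≫ Q.map (f ≫ sigπ K j) ≫ (e j).hom, ?_⟩
  have hx : x = (inDIso R).hom ≫ Q.map f ≫ θh := by
    rw [hf]
    simp only [Category.assoc, Iso.hom_inv_id_assoc, hid, Category.comp_id]
  rw [hx]
  conv_lhs => rw [hS]
  rw [Functor.map_sum, Preadditive.sum_comp, Preadditive.comp_sum]
  refine Finset.sum_congr rfl (fun j _ => ?_)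
  rw [Functor.map_comp, Functor.map_comp]
  show _ = ((inDIso R).hom ≫ Q.map (f ≫ sigπ K j) ≫ (e j).hom) ≫ g j
  rw [Functor.map_comp]
  simp only [Category.assoc]
  rw [hθh]

end Groth.Agent.Lib.helper23.CPerf
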