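import Mathlib
import Groth.Prelude.Def_Wider
import Groth.Prelude.Def_CohDer
import Groth.Agent.Lib.Helper23.CPerf2
import Groth.Agent.Lib.Helper23.FBC8
import Groth.Agent.Lib.Helper23.PerfDev
import Groth.Agent.S7010
import Groth.Agent.Lib.Helper25.BrownSub3
import Groth.Agent.Lib.Helper25.DEquiv
import Groth.Agent.Lib.Helper25.TriRetract
import Groth.Agent.Lib.Helper27.DerSmall
import Groth.Agent.Lib.Helper1.HomSum

/-!
# Perfect objects of `D(R)` are exactly the compact objects (helper23)

* `Sm`, `DS`, `Ψ` : the small model of the derived category of a Grothendieck abelian category (copied from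
  helper25's `DQCohSmall`, which has a heavy scheme-level import closure).
* `ff_of_isPerfect`, `isPerfect_of_ff`: `K ∈ D(R)` is perfect iff maps from `K` into `u`-small coproducts have
  finite support (helper25's `FinFac.FF`); the second uses helper25's `BrownSub.thick_of_ff` (Neeman).
* `isPerfect_iff_compact`: the statement S6978.
-/

set_option autoImplicit false
universe u
open CategoryTheory Limits DerivedCategory Pretriangulated

attribute [local instance] HasDerivedCategory.standard

namespace Groth.Agent.Lib.helper23.CPerf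

open Groth.Agent.Lib.helper23.DCoprod Groth.Agent.Lib.Helper25.FinFac

/-- a type synonym of an abelian category, which carries the derived category with small morphism types -/
def Sm (A : Type (u + 1)) : Type (u + 1) := A

section Sm

variable (A : Type (u + 1)) [Category.{u} A] [Abelian A] [IsGrothendieckAbelian.{u} A]

instance : Category.{u} (Sm A) := inferInstanceAs (Category.{u} A)
instance : Abelian (Sm A) := inferInstanceAs (Abelian A)
instance : IsGrothendieckAbelian.{u} (Sm A) := inferInstanceAs (IsGrothendieckAbelian.{u} A)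

noncomputable instance (priority := 10000) hasDerivedCategorySm : HasDerivedCategory.{u} (Sm A) :=
  Groth.Agent.Lib.helper27.DerSmall.hasDerivedCategorySmall (Sm A)

/-- the identity equivalence -/
def smEquiv : A ≌ Sm A := (CategoryTheory.Equivalence.refl : A ≌ A)

instance : (smEquiv A).functor.Additive := inferInstanceAs (𝟭 A).Additive

/-- the small model of the derived category -/
abbrev DS : Type (u + 1) := DerivedCategory (Sm A)

/-- the comparison functor from the small model -/
noncomputable abbrev Ψ : DS A ⥤ DerivedCategory A := (smEquiv A).inverse.mapDerivedCategory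

noncomputable example : (Ψ A).CommShift ℤ := inferInstance
example : (Ψ A).IsTriangulated := inferInstance
example : (Ψ A).IsEquivalence := inferInstance

lemma exactCoprod (J : Type u) : HasExactColimitsOfShape (Discrete J) A := by
  haveI : HasFiniteBiproducts A := Abelian.hasFiniteBiproducts
  haveI : AB5OfSize.{u, u} A := inferInstance
  haveI : HasFilteredColimitsOfSize.{u, u} A := inferInstance
  haveI h4 : AB4OfSize.{u} A := AB4.of_AB5 A
  exact h4.ofShape J

instance hasCoproducts_DS : HasCoproducts.{u} (DS A) := fun J => by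
  haveI : HasCoproductsOfShape J (Sm A) := inferInstance
  haveI : HasExactColimitsOfShape (Discrete J) (Sm A) := exactCoprod (Sm A) J
  exact Groth.Agent.Lib.helper23.DCoprod.hasCoproductsOfShape

end Sm

section Top

variable {C : Type*} [Category C] [Preadditive C] [HasZeroObject C] [HasShift C ℤ]
  [∀ n : ℤ, (shiftFunctor C n).Additive] [Pretriangulated C]

open ZeroObject in
instance top_isTriangulated : (⊤ : ObjectProperty C).IsTriangulated where
  exists_zero := ⟨0, isZero_zero _, trivial⟩
  isStableUnderShiftBy _ := ⟨fun _ _ => trivial⟩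
  toIsTriangulatedClosed₂ := ObjectProperty.IsTriangulatedClosed₂.mk' (fun _ _ _ _ => trivial)

end Top

variable (R : Type u) [CommRing R]

/-- perfect objects, as an object property -/
abbrev PerfP : ObjectProperty (Dual.D R) := fun K => DRing.IsPerfect R K

instance : (PerfP R).IsClosedUnderIsomorphisms where
  of_iso e h := Groth.Agent.Lib.helper23.PerfDev.isPerfect_of_iso R e h

open ZeroObject in
instance : (PerfP R).IsTriangulated where
  exists_zero := ⟨0, isZero_zero _,
    Groth.Agent.Lib.helper23.PerfDev.isPerfect_of_isZero R (isZero_zero _)⟩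
  isStableUnderShiftBy n :=
    ⟨fun K hK => Groth.Agent.Lib.helper23.PerfDev.isPerfect_shift R K n hK⟩
  toIsTriangulatedClosed₂ := ObjectProperty.IsTriangulatedClosed₂.mk' (fun T hT h₁ h₃ =>
    (Groth.Agent.Lib.helper23.PerfDev.isPerfect_two_of_three R T hT).2.1 h₁ h₃)

instance : (PerfP R).IsStableUnderRetracts where
  of_retract {X Y} r h := by
    obtain ⟨N, ⟨e⟩⟩ := Groth.Agent.Lib.Helper25.TriRetract.exists_biprod_of_retract r.i r.r r.retract
    exact (Groth.Agent.Lib.helper23.PerfDev.isPerfect_summand R X N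
      (Groth.Agent.Lib.helper23.PerfDev.isPerfect_of_iso R e h)).1

variable {R}

lemma subsingleton_hom_shift_of_forall (K : Dual.D R)
    (h : ∀ (n : ℤ) (φ : (Dual.inD R R)⟦n⟧ ⟶ K), φ = 0) (i : ℤ) :
    Subsingleton (Dual.inD R R ⟶ K⟦i⟧) := by
  have h0 : ∀ f : Dual.inD R R ⟶ K⟦i⟧, f = 0 := by
    intro f
    have h1 := h (-i) (f⟦-i⟧' ≫ (shiftFunctorCompIsoId (Dual.D R) i (-i) (by simp)).hom.app K)
    apply (shiftFunctor (Dual.D R) (-i)).map_injective
    rw [Functor.map_zero,
      ← cancel_mono ((shiftFunctorCompIsoId (Dual.D R) i (-i) (by simp)).hom.app K), zero_comp]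
    exact h1
  exact ⟨fun f g => (h0 f).trans (h0 g).symm⟩

lemma isZero_of_forall (K : Dual.D R)
    (h : ∀ (n : ℤ) (φ : (Dual.inD R R)⟦n⟧ ⟶ K), φ = 0) : IsZero K := by
  haveI : K.IsGE 1 := Groth.Agent.Lib.helper23.FBC.isGE_of_vanishing K 1
    (fun i _ => subsingleton_hom_shift_of_forall K h i)
  haveI : K.IsLE 0 := Groth.Agent.Lib.helper23.FBC.isLE_of_vanishing K 0
    (fun i _ => subsingleton_hom_shift_of_forall K h i)
  exact DerivedCategory.TStructure.t.isZero K 0 1 (by omega)

lemma isPerfect_inD : DRing.IsPerfect R (Dual.inD R R) := by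
  refine ⟨R0 R, 0, 0, fun i hi => ?_, fun i => ?_, ⟨(inDIso R).symm⟩⟩
  · exact HomologicalComplex.isZero_single_obj_X _ _ _ _ (by omega)
  · by_cases h : i = 0
    · subst h
      let e : ((R0 R).X 0) ≃ₗ[R] R :=
        (HomologicalComplex.singleObjXSelf (ComplexShape.up ℤ) (0 : ℤ)
          (ModuleCat.of R R)).toLinearEquiv
      exact ⟨Module.Finite.equiv e.symm, Module.Projective.of_equiv e.symm⟩
    · have hz : IsZero ((R0 R).X i) := HomologicalComplex.isZero_single_obj_X _ _ _ _ h
      haveI : Subsingleton ((R0 R).X i) := ModuleCat.subsingleton_of_isZero hz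
      exact ⟨inferInstance, inferInstance⟩

/-- finite support implies perfect -/
theorem isPerfect_of_ff (K : Dual.D R) (hK : FF.{u} (⊤ : ObjectProperty (Dual.D R)) K) :
    DRing.IsPerfect R K :=
  Groth.Agent.Lib.Helper25.BrownSub.thick_of_ff (Ψ (ModuleCat.{u} R)) (⊤ : ObjectProperty (Dual.D R))
    (Dual.inD R R) trivial (fun K _ h => isZero_of_forall K h) (ff_inD R _) (PerfP R)
    isPerfect_inD K trivial hK

/-- perfect implies finite support -/
theorem ff_of_isPerfect (K : Dual.D R) (hK : DRing.IsPerfect R K) :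
    FF.{u} (⊤ : ObjectProperty (Dual.D R)) K := by
  let P : ObjectProperty (Dual.D R) := fun K => FF.{u} (⊤ : ObjectProperty (Dual.D R)) K
  haveI : P.IsClosedUnderIsomorphisms := ⟨fun e h => ff_of_iso e h⟩
  refine Groth.Agent.S7010.result R P (ff_inD R _) (fun K n h => ff_shift (fun _ _ _ => trivial) h n)
    (fun T hT h1 h3 => ff_of_triangle T hT h1 h3) (fun X Y _ h => ?_) K hK
  refine ff_of_jointly_epi (κ := Unit) (fun _ => X ⊞ Y) (fun _ => biprod.fst) ?_ (fun _ => h)
  intro B x y hxy
  have := hxy ()
  exact (cancel_epi _).1 this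

section Convert

variable (K : Dual.D R)

instance hasCoproductsOfShape_ulift (I : Type u) :
    HasCoproductsOfShape (ULift.{u + 1} I) (Dual.D R) :=
  hasColimitsOfShape_of_equivalence (Discrete.equivalence (Equiv.ulift.{u + 1, u} (α := I)).symm)

open Groth.Agent.H1.HomSum in
/-- finite support implies the bijectivity in the form of `CohDer.homSumToHomCoprod` -/
theorem bijective_of_ff (hK : FF.{u} (⊤ : ObjectProperty (Dual.D R)) K) (I : Type u)
    (E : I → Dual.D R) [HasCoproduct fun i : ULift.{u + 1} I => E i.down] :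
    Function.Bijective (CohDer.homSumToHomCoprod K (fun i : ULift.{u + 1} I => E i.down)) := by
  classical
  let X : ULift.{u + 1} I → Dual.D R := fun i => E i.down
  rw [homSumToHomCoprod_eq]
  constructor
  · rw [injective_iff]
    intro S σ hσ i hi
    have h1 := congrArg (fun x => x ≫ Sigma.π X i) hσ
    simp only [zero_comp, Preadditive.sum_comp, Category.assoc] at h1
    rw [Finset.sum_eq_single i] at h1
    · change σ i ≫ Sigma.ι X i ≫ Sigma.π X i = 0 at h1
      rwa [Sigma.ι_π_eq_id, Category.comp_id] at h1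
    · intro k _ hki
      change σ k ≫ Sigma.ι X k ≫ Sigma.π X i = 0
      rw [Sigma.ι_π_of_ne X hki, comp_zero]
    · intro h
      exact absurd hi h
  · rw [surjective_iff]
    intro x
    let g : ∀ i : I, E i ⟶ ∐ X := fun i => Sigma.ι X ⟨i⟩
    have hc : IsColimit (Cofan.mk (∐ X) g) :=
      Cofan.IsColimit.mk _ (fun s => Sigma.desc (fun i : ULift.{u + 1} I => s.inj i.down))
        (fun s i => by
          change Sigma.ι X ⟨i⟩ ≫ _ = _
          rw [Sigma.ι_desc])
        (fun s m hm => by
          refine Sigma.hom_ext (f := X) _ _ (fun i => ?_)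
          rw [Sigma.ι_desc]
          exact hm i.down)
    obtain ⟨S, σ, hσ⟩ := hK.exists_sum (fun _ => trivial) g hc x
    refine ⟨S.map ⟨ULift.up, ULift.up_injective⟩, fun i => σ i.down, ?_⟩
    rw [Finset.sum_map]
    exact hσ

open Groth.Agent.H1.HomSum in
/-- the bijectivity in the form of `CohDer.homSumToHomCoprod` implies finite support -/
theorem ff_of_bijective
    (h : ∀ (I : Type u) (E : I → Dual.D R) [HasCoproduct fun i : ULift.{u + 1} I => E i.down],
      Function.Bijective (CohDer.homSumToHomCoprod K (fun i : ULift.{u + 1} I => E i.down))) :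
    FF.{u} (⊤ : ObjectProperty (Dual.D R)) K := by
  classical
  apply ff_of_exists_sum
  intro I M _ A g hc x
  let X : ULift.{u + 1} I → Dual.D R := fun i => M i.down
  have hb := (h I M).2
  rw [homSumToHomCoprod_eq, surjective_iff] at hb
  let θ : A ⟶ ∐ X := Cofan.IsColimit.desc hc (fun i => Sigma.ι X ⟨i⟩)
  have hθ : ∀ i, g i ≫ θ = Sigma.ι X ⟨i⟩ := fun i => Cofan.IsColimit.fac hc _ i
  let θ' : ∐ X ⟶ A := Sigma.desc (fun i : ULift.{u + 1} I => g i.down)
  have hid : θ ≫ θ' = 𝟙 A := by
    apply Cofan.IsColimit.hom_ext hc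
    intro i
    change g i ≫ θ ≫ θ' = g i ≫ 𝟙 A
    rw [← Category.assoc, hθ, Sigma.ι_desc, Category.comp_id]
  obtain ⟨S, σ, hσ⟩ := hb (x ≫ θ)
  refine ⟨S.map ⟨ULift.down, ULift.down_injective⟩, fun i => σ ⟨i⟩, ?_⟩
  rw [Finset.sum_map]
  have hx : x = (x ≫ θ) ≫ θ' := by rw [Category.assoc, hid, Category.comp_id]
  rw [hx, hσ, Preadditive.sum_comp]
  refine Finset.sum_congr rfl (fun i _ => ?_)
  change (σ i ≫ Sigma.ι X i) ≫ θ' = σ i ≫ g i.down
  rw [Category.assoc, Sigma.ι_desc]

end Convert

/-- **S6978**: perfect iff compact in `D(R)` -/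
theorem isPerfect_iff_compact (K : Dual.D R) :
    DRing.IsPerfect R K ↔
      ∀ (I : Type u) (E : I → Dual.D R) [HasCoproduct fun i : ULift.{u + 1} I => E i.down],
        Function.Bijective (CohDer.homSumToHomCoprod K (fun i : ULift.{u + 1} I => E i.down)) :=
  ⟨fun h I E _ => bijective_of_ff K (ff_of_isPerfect K h) I E,
    fun h => isPerfect_of_ff K (ff_of_bijective K h)⟩

end Groth.Agent.Lib.helper23.CPerf
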