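import Mathlib
import Groth.Prelude.Def_CohDer

/-!
# Compactness and preservation of coproducts by `Hom(K, -)`
-/

set_option autoImplicit false
universe w v u
open CategoryTheory Limits Opposite

namespace Groth.Agent.Lib.helper23.CompactSeq

section Ab

variable {ι : Type w} [DecidableEq ι]

/-- The canonical map from the direct sum to the point of a cocone. -/
noncomputable def sumToPt {F : Discrete ι ⥤ AddCommGrpCat.{v}} (c : Cocone F) :
    DirectSum ι (fun i => F.obj ⟨i⟩) →+ c.pt :=
  DirectSum.toAddMonoid (fun i : ι => ((c.ι.app ⟨i⟩).hom : F.obj ⟨i⟩ →+ c.pt))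

lemma sumToPt_of {F : Discrete ι ⥤ AddCommGrpCat.{v}} (c : Cocone F) (i : ι) (x : F.obj ⟨i⟩) :
    sumToPt c (DirectSum.of (fun i => F.obj ⟨i⟩) i x) = (c.ι.app ⟨i⟩).hom x := by
  unfold sumToPt
  rw [DirectSum.toAddMonoid_of]

/-- A cocone over a discrete diagram of abelian groups is a colimit when the canonical map from
the direct sum is bijective. -/
noncomputable def isColimitOfBijective {F : Discrete ι ⥤ AddCommGrpCat.{v}} (c : Cocone F)
    (hc : Function.Bijective (sumToPt c)) : IsColimit c := by
  let φ := AddEquiv.ofBijective _ hc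
  have hφ : ∀ ξ, φ ξ = sumToPt c ξ := fun _ => rfl
  refine
    { desc := fun s => AddCommGrpCat.ofHom ((sumToPt s).comp φ.symm.toAddMonoidHom)
      fac := ?_
      uniq := ?_ }
  · rintro s ⟨i⟩
    ext x
    have h1 : φ.symm ((c.ι.app ⟨i⟩).hom x) = DirectSum.of (fun i => F.obj ⟨i⟩) i x := by
      rw [AddEquiv.symm_apply_eq, hφ, sumToPt_of]
    show sumToPt s (φ.symm ((c.ι.app ⟨i⟩).hom x)) = _
    rw [h1, sumToPt_of]
  · intro s m hm
    ext y
    obtain ⟨ξ, rfl⟩ := φ.surjective y
    show m.hom (φ ξ) = sumToPt s (φ.symm (φ ξ))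
    rw [AddEquiv.symm_apply_apply]
    have : (m.hom.comp φ.toAddMonoidHom) = sumToPt s := by
      apply DirectSum.addHom_ext
      intro i x
      rw [sumToPt_of]
      show m.hom (φ (DirectSum.of _ i x)) = _
      rw [hφ, sumToPt_of]
      exact congrArg (fun f => f.hom x) (hm ⟨i⟩)
    exact DFunLike.congr_fun this ξ

end Ab

section Pre

variable {D : Type u} [Category.{v} D] [Preadditive D]

/-- If the canonical map `⊕ Hom(K, E i) ⟶ Hom(K, ∐ E)` is bijective, then `Hom(K, -)` preserves
the coproduct of `E`. -/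
lemma preservesColimit_of_bijective (K : D) {ι : Type v} (E : ι → D) [HasCoproduct E]
    (h : Function.Bijective (CohDer.homSumToHomCoprod K E)) :
    PreservesColimit (Discrete.functor E) (preadditiveCoyoneda.obj (op K)) := by
  classical
  refine preservesColimit_of_preserves_colimit_cocone (colimit.isColimit (Discrete.functor E)) ?_
  apply isColimitOfBijective
  exact h

end Pre

end Groth.Agent.Lib.helper23.CompactSeq
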