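import Mathlib
import Groth.Prelude.Def_DRing2
import Groth.Agent.Lib.Helper23.CompactSeq1
import Groth.Agent.Lib.Helper23.DCoprod6
import Groth.Agent.Lib.Helper27.TelescopeDer

/-!
# Maps from a countably-compact object of `D(R)` into a sequential colimit of complexes
-/

set_option autoImplicit false
universe u
open CategoryTheory Limits Opposite
attribute [local instance] HasDerivedCategory.standard

namespace Groth.Agent.Lib.helper23.CompactSeq

variable (R : Type u) [CommRing R]

instance i1 : HasExactColimitsOfShape ℕ (ModuleCat.{u} R) := by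
  haveI : AB5OfSize.{0, 0} (ModuleCat.{u} R) := AB5OfSize_shrink.{0, 0, u, u} _
  infer_instance

instance i2 : HasExactColimitsOfShape (Discrete (ULift.{u+1} ℕ)) (ModuleCat.{u} R) :=
  HasExactColimitsOfShape.of_domain_equivalence _
    (Discrete.equivalence (Equiv.ulift.{u+1, 0} (α := ℕ)).symm)

instance i3 : HasExactColimitsOfShape ℕ (AddCommGrpCat.{u+1}) := by
  haveI : AB5OfSize.{0, 0} (AddCommGrpCat.{u+1}) := AB5OfSize_shrink.{0, 0, u+1, u+1} _
  infer_instance

instance i4 : HasCoproductsOfShape ℕ (Dual.D R) :=
  Groth.Agent.Lib.helper23.DCoprod.hasCoproductsOfShape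

instance i5 : HasCoproductsOfShape (ULift.{u+1} ℕ) (Dual.D R) :=
  Groth.Agent.Lib.helper23.DCoprod.hasCoproductsOfShape

variable {R}

/-- Countable compactness implies that `Hom(K, -)` preserves countable coproducts. -/
lemma preservesColimitsOfShape_nat (K : Dual.D R)
    (hK : ∀ (E : ℕ → Dual.D R) [HasCoproduct fun i : ULift.{u + 1} ℕ => E i.down],
      Function.Bijective (CohDer.homSumToHomCoprod K (fun i : ULift.{u + 1} ℕ => E i.down))) :
    PreservesColimitsOfShape (Discrete ℕ) (preadditiveCoyoneda.obj (op K)) := by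
  haveI : PreservesColimitsOfShape (Discrete (ULift.{u+1} ℕ)) (preadditiveCoyoneda.obj (op K)) :=
    ⟨fun {F} => by
      haveI : PreservesColimit (Discrete.functor (F.obj ∘ Discrete.mk))
          (preadditiveCoyoneda.obj (op K)) :=
        preservesColimit_of_bijective K (F.obj ∘ Discrete.mk) (hK (fun n => F.obj ⟨⟨n⟩⟩))
      exact preservesColimit_of_iso_diagram _ (Discrete.natIsoFunctor (F := F)).symm⟩
  exact preservesColimitsOfShape_of_equiv
    (Discrete.equivalence (Equiv.ulift.{u+1, 0} (α := ℕ))) _

end Groth.Agent.Lib.helper23.CompactSeq
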