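import Mathlib
import Groth.Agent.Lib.Helper23.CompactSeq2

/-!
# Maps from a countably-compact object of `D(R)` into a sequential colimit of complexes
-/

set_option autoImplicit false
universe u
open CategoryTheory Limits Opposite DerivedCategory
attribute [local instance] HasDerivedCategory.standard

namespace Groth.Agent.Lib.helper23.CompactSeq

variable {R : Type u} [CommRing R]

lemma ofSequence_map_eq {C : Type*} [Category C] (G : ℕ ⥤ C) {n m : ℕ} (h : n ≤ m) :
    (Functor.ofSequence (fun n => G.map (homOfLE (Nat.le_succ n)))).map (homOfLE h) =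
      G.map (homOfLE h) := by
  let τ : Functor.ofSequence (fun n => G.map (homOfLE (Nat.le_succ n))) ⟶ G :=
    NatTrans.ofSequence (fun n => 𝟙 (G.obj n)) (fun n => by
      rw [Functor.ofSequence_map_homOfLE_succ]
      exact (Category.comp_id _).trans (Category.id_comp _).symm)
  have := τ.naturality (homOfLE h)
  exact ((Category.comp_id _).symm.trans this).trans (Category.id_comp _)

theorem hom_colimit (K : Dual.D R)
    (hK : ∀ (E : ℕ → Dual.D R) [HasCoproduct fun i : ULift.{u + 1} ℕ => E i.down],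
      Function.Bijective (CohDer.homSumToHomCoprod K (fun i : ULift.{u + 1} ℕ => E i.down)))
    (L : ℕ ⥤ DRing.Cx R) :
    (∀ x : K ⟶ Q.obj (colimit L), ∃ (n : ℕ) (y : K ⟶ Q.obj (L.obj n)),
        y ≫ Q.map (colimit.ι L n) = x) ∧
      (∀ (n : ℕ) (y : K ⟶ Q.obj (L.obj n)), y ≫ Q.map (colimit.ι L n) = 0 →
        ∃ (m : ℕ) (h : n ≤ m), y ≫ Q.map (L.map (homOfLE h)) = 0) := by
  haveI := preservesColimitsOfShape_nat K hK
  let H := preadditiveCoyoneda.obj (op K)
  obtain ⟨e, he⟩ := Groth.Agent.Lib.helper27.hocolim_homological H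
    (fun n => Q.obj (L.obj n)) (fun n => Q.map (L.map (homOfLE (Nat.le_succ n))))
    (Q.obj (colimit L)) (fun n => Q.map (colimit.ι L n))
    (Groth.Agent.Lib.helper27.Q_colimit_isHocolim L)
  let G : ℕ ⥤ AddCommGrpCat.{u+1} := L ⋙ Q ⋙ H
  let Fs : ℕ ⥤ AddCommGrpCat.{u+1} :=
    Functor.ofSequence (fun n => G.map (homOfLE (Nat.le_succ n)))
  have hFs : ∀ {n m : ℕ} (h : n ≤ m), Fs.map (homOfLE h) = G.map (homOfLE h) :=
    fun h => ofSequence_map_eq G h
  change colimit Fs ≅ H.obj (Q.obj (colimit L)) at e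
  change ∀ n, colimit.ι Fs n ≫ e.hom = H.map (Q.map (colimit.ι L n)) at he
  have he' : ∀ (n : ℕ) (y : K ⟶ Q.obj (L.obj n)),
      e.hom (colimit.ι Fs n y) = y ≫ Q.map (colimit.ι L n) := fun n y => by
    have := congrArg (fun f => f y) (he n)
    exact this
  haveI : PreservesFilteredColimitsOfSize.{0, 0} (forget AddCommGrpCat.{u+1}) :=
    preservesSmallestFilteredColimits_of_preservesFilteredColimits.{u+1, u+1} _
  haveI : PreservesColimit Fs (forget AddCommGrpCat.{u+1}) := inferInstance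
  constructor
  · intro x
    obtain ⟨n, y, hy⟩ := Concrete.colimit_exists_rep Fs (e.inv x)
    refine ⟨n, y, ?_⟩
    rw [← he' n y, hy]
    exact congrArg (fun f => f x) e.inv_hom_id
  · intro n y hy
    have h0 : colimit.ι Fs n y = colimit.ι Fs n 0 := by
      have h1 : e.hom (colimit.ι Fs n y) = 0 := (he' n y).trans hy
      have h2 : colimit.ι Fs n y = e.inv (e.hom (colimit.ι Fs n y)) :=
        (congrArg (fun f => f (colimit.ι Fs n y)) e.hom_inv_id).symm
      rw [h2, h1, map_zero, map_zero]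
    obtain ⟨m, f, g, hfg⟩ := Concrete.colimit_exists_of_rep_eq Fs y 0 h0
    refine ⟨m, leOfHom f, ?_⟩
    have hf : f = homOfLE (leOfHom f) := Subsingleton.elim _ _
    rw [map_zero, hf, hFs] at hfg
    exact hfg

theorem hom_colimit_cocone (K : Dual.D R)
    (hK : ∀ (E : ℕ → Dual.D R) [HasCoproduct fun i : ULift.{u + 1} ℕ => E i.down],
      Function.Bijective (CohDer.homSumToHomCoprod K (fun i : ULift.{u + 1} ℕ => E i.down)))
    (L : ℕ ⥤ DRing.Cx R) (c : Cocone L) (hc : IsColimit c) :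
    (∀ x : K ⟶ Q.obj c.pt, ∃ (n : ℕ) (y : K ⟶ Q.obj (L.obj n)),
        y ≫ Q.map (c.ι.app n) = x) ∧
      (∀ (n : ℕ) (y : K ⟶ Q.obj (L.obj n)), y ≫ Q.map (c.ι.app n) = 0 →
        ∃ (m : ℕ) (h : n ≤ m), y ≫ Q.map (L.map (homOfLE h)) = 0) := by
  obtain ⟨h1, h2⟩ := hom_colimit K hK L
  let e₀ : c.pt ≅ colimit L := hc.coconePointUniqueUpToIso (colimit.isColimit L)
  have he₀ : ∀ n, c.ι.app n ≫ e₀.hom = colimit.ι L n := fun n =>
    hc.comp_coconePointUniqueUpToIso_hom (colimit.isColimit L) n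
  constructor
  · intro x
    obtain ⟨n, y, hy⟩ := h1 (x ≫ Q.map e₀.hom)
    refine ⟨n, y, ?_⟩
    rw [← cancel_mono (Q.map e₀.hom), Category.assoc, ← Q.map_comp, he₀, hy]
  · intro n y hy
    apply h2 n y
    rw [← he₀, Q.map_comp, reassoc_of% hy, zero_comp]

end Groth.Agent.Lib.helper23.CompactSeq
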