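import Mathlib
import Groth.Prelude.Def_DDual2
import Groth.Prelude.Def_DRing3
import Groth.Agent.Lib.Helper23.DC7

/-!
# Unique extension of linear maps to the completion, for derived complete targets (helper23)

`A` Noetherian, `M` an `A`-module with `M[0]` derived complete.  For any `A`-module `P`,
restriction along `P → A^ ⊗_A P` is a bijection `Hom_A(A^ ⊗_A P, M) ≃ Hom_A(P, M)`.
-/

set_option autoImplicit false
universe u
open CategoryTheory CategoryTheory.Limits DerivedCategory Pretriangulated TensorProduct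

attribute [local instance] HasDerivedCategory.standard

namespace Groth.Agent.Lib.helper23.DC

open Groth.Agent.Lib.helper23.FBC

section Heart

variable {C : Type*} [Category C] [Abelian C] [HasDerivedCategory C]

/-- `H^0` is bijective on maps from an object of the heart to an object in degree `0` -/
lemma bijective_homology_map_of_heart (X₁ M₁ : C) (Z : DerivedCategory C)
    (e : Z ≅ (singleFunctor C 0).obj X₁) :
    Function.Bijective (fun ψ : Z ⟶ (singleFunctor C 0).obj M₁ =>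
      (homologyFunctor C 0).map ψ) := by
  let σ := singleFunctorCompHomologyFunctorIso C 0
  let H := homologyFunctor C 0
  let sg := singleFunctor C 0
  have hσ : ∀ {X Y : C} (k : X ⟶ Y),
      H.map (sg.map k) = σ.hom.app X ≫ k ≫ σ.inv.app Y := by
    intro X Y k
    have h1 : H.map (sg.map k) ≫ σ.hom.app Y = σ.hom.app X ≫ k := σ.hom.naturality k
    have h2 : σ.hom.app Y ≫ σ.inv.app Y = 𝟙 (H.obj (sg.obj Y)) := σ.hom_inv_id_app Y
    calc H.map (sg.map k) = H.map (sg.map k) ≫ σ.hom.app Y ≫ σ.inv.app Y := by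
          rw [h2]; exact (Category.comp_id _).symm
      _ = σ.hom.app X ≫ k ≫ σ.inv.app Y := by rw [← Category.assoc, h1, Category.assoc]
  constructor
  · intro ψ₁ ψ₂ h
    have h' : H.map ψ₁ = H.map ψ₂ := h
    obtain ⟨k₁, hk₁⟩ := sg.map_surjective (e.inv ≫ ψ₁)
    obtain ⟨k₂, hk₂⟩ := sg.map_surjective (e.inv ≫ ψ₂)
    have h1 : H.map (sg.map k₁) = H.map (sg.map k₂) := by
      rw [hk₁, hk₂, Functor.map_comp, Functor.map_comp, h']
    rw [hσ, hσ] at h1
    have h2 : k₁ = k₂ := by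
      have := (cancel_epi (σ.hom.app X₁)).1 h1
      exact (cancel_mono (σ.inv.app M₁)).1 this
    rw [← cancel_epi e.inv, ← hk₁, ← hk₂, h2]
  · intro h
    let k : X₁ ⟶ M₁ := σ.inv.app X₁ ≫ H.map e.inv ≫ h ≫ σ.hom.app M₁
    refine ⟨e.hom ≫ sg.map k, ?_⟩
    show H.map (e.hom ≫ sg.map k) = h
    rw [Functor.map_comp, hσ]
    have h3 : σ.hom.app X₁ ≫ k ≫ σ.inv.app M₁ = H.map e.inv ≫ h := by
      simp only [k, Category.assoc]
      rw [Iso.hom_inv_id_app]
      erw [Category.comp_id]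
      rw [Iso.hom_inv_id_app_assoc]
    rw [h3, ← Category.assoc, ← Functor.map_comp, Iso.hom_inv_id, CategoryTheory.Functor.map_id,
      Category.id_comp]

end Heart

section UE

variable {A : Type u} [CommRing A] [IsNoetherianRing A] (I : Ideal A)

attribute [local instance] FlatBC.preservesFiniteLimits_extendScalars_algebraMap

/-- `((P[0]) ⊗ A^)|_A ≅ ((A^ ⊗ P)|_A)[0]` -/
noncomputable def isoRESingle (P₁ : ModuleCat.{u} A) :
    (DRing.restrictD (algebraMap A (AdicCompletion I A))).obj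
      ((EE A (AdicCompletion I A)).obj ((singleFunctor (ModuleCat.{u} A) 0).obj P₁)) ≅
      (singleFunctor (ModuleCat.{u} A) 0).obj
        ((ER (algebraMap A (AdicCompletion I A))).obj P₁) :=
  (DRing.restrictD (algebraMap A (AdicCompletion I A))).mapIso
    (((ModuleCat.extendScalars.{u, u, u}
      (algebraMap A (AdicCompletion I A))).mapDerivedCategorySingleFunctor 0).app P₁) ≪≫
    ((ModuleCat.restrictScalars.{u}
      (algebraMap A (AdicCompletion I A))).mapDerivedCategorySingleFunctor 0).app _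

/-- **unique extension**: for `M[0]` derived complete, maps `(A^ ⊗ P)|_A ⟶ M` correspond to maps
`P ⟶ M` by restriction along `p ↦ 1 ⊗ p`. -/
theorem bijective_unit_comp (P₁ M₁ : ModuleCat.{u} A)
    (hc : DRing.IsDerivedComplete I ((singleFunctor (ModuleCat.{u} A) 0).obj M₁)) :
    Function.Bijective (fun g : (ER (algebraMap A (AdicCompletion I A))).obj P₁ ⟶ M₁ =>
      (ModuleCat.extendRestrictScalarsAdj.{u, u, u}
        (algebraMap A (AdicCompletion I A))).unit.app P₁ ≫ g) := by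
  let φ := algebraMap A (AdicCompletion I A)
  let adj := ModuleCat.extendRestrictScalarsAdj.{u, u, u} φ
  let sg := singleFunctor (ModuleCat.{u} A) 0
  let H := homologyFunctor (ModuleCat.{u} A) 0
  let σ := singleFunctorCompHomologyFunctorIso (ModuleCat.{u} A) 0
  let Y : Dual.D A := sg.obj P₁
  let W : Dual.D A := sg.obj M₁
  let Z : Dual.D A := (DRing.restrictD φ).obj ((EE A (AdicCompletion I A)).obj Y)
  have β := bijective_precomp_uB I Y 0 W hc
  have hZ := bijective_homology_map_of_heart ((ER φ).obj P₁) M₁ Z (isoRESingle I P₁)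
  have hY := bijective_homology_map_of_heart P₁ M₁ Y (Iso.refl _)
  obtain ⟨θ, hθ⟩ := exists_iso_homology_unit φ Y 0
  -- the transfer `g ↦ H^0 ψ`
  let T : ((ER φ).obj P₁ ⟶ M₁) → (H.obj Z ⟶ H.obj W) := fun g =>
    θ.hom ≫ (ER φ).map (σ.hom.app P₁) ≫ g ≫ σ.inv.app M₁
  have hT_inj : Function.Injective T := by
    intro g₁ g₂ h
    have h1 : θ.hom ≫ (ER φ).map (σ.hom.app P₁) ≫ g₁ ≫ σ.inv.app M₁ =
      θ.hom ≫ (ER φ).map (σ.hom.app P₁) ≫ g₂ ≫ σ.inv.app M₁ := h
    have h2 := (Iso.cancel_iso_hom_left θ _ _).1 h1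
    have h3 := (Iso.cancel_iso_hom_left ((ER φ).mapIso (σ.app P₁)) _ _).1 h2
    exact (Iso.cancel_iso_inv_right _ _ (σ.app M₁)).1 h3
  have key : ∀ (ψ : Z ⟶ W) (g : (ER φ).obj P₁ ⟶ M₁), H.map ψ = T g →
      H.map (uB (AdicCompletion I A) Y ≫ ψ) = σ.hom.app P₁ ≫ (adj.unit.app P₁ ≫ g) ≫
        σ.inv.app M₁ := by
    intro ψ g hψ
    have hnat : σ.hom.app P₁ ≫ adj.unit.app P₁ =
        adj.unit.app (H.obj Y) ≫ (ER φ).map (σ.hom.app P₁) := adj.unit.naturality (σ.hom.app P₁)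
    rw [Functor.map_comp, hψ]
    show H.map (uB (AdicCompletion I A) Y) ≫ θ.hom ≫ (ER φ).map (σ.hom.app P₁) ≫ g ≫
      σ.inv.app M₁ = _
    rw [reassoc_of% hθ, Category.assoc, reassoc_of% hnat]
    rfl
  have hsg : ∀ f : P₁ ⟶ M₁, H.map (sg.map f) = σ.hom.app P₁ ≫ f ≫ σ.inv.app M₁ := by
    intro f
    have h1 : H.map (sg.map f) ≫ σ.hom.app M₁ = σ.hom.app P₁ ≫ f := σ.hom.naturality f
    have h2 : σ.hom.app M₁ ≫ σ.inv.app M₁ = 𝟙 (H.obj (sg.obj M₁)) := σ.hom_inv_id_app M₁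
    calc H.map (sg.map f) = H.map (sg.map f) ≫ σ.hom.app M₁ ≫ σ.inv.app M₁ := by
          rw [h2]; exact (Category.comp_id _).symm
      _ = σ.hom.app P₁ ≫ f ≫ σ.inv.app M₁ := by rw [← Category.assoc, h1, Category.assoc]
  constructor
  · intro g₁ g₂ h
    have h' : adj.unit.app P₁ ≫ g₁ = adj.unit.app P₁ ≫ g₂ := h
    obtain ⟨ψ₁, hψ₁⟩ := hZ.2 (T g₁)
    obtain ⟨ψ₂, hψ₂⟩ := hZ.2 (T g₂)
    have h1 : uB (AdicCompletion I A) Y ≫ ψ₁ = uB (AdicCompletion I A) Y ≫ ψ₂ := by
      apply hY.1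
      show H.map _ = H.map _
      rw [key ψ₁ g₁ hψ₁, key ψ₂ g₂ hψ₂, h']
    have h2 : ψ₁ = ψ₂ := β.1 h1
    apply hT_inj
    have h3 : H.map ψ₁ = T g₁ := hψ₁
    have h4 : H.map ψ₂ = T g₂ := hψ₂
    rw [← h3, ← h4, h2]
  · intro f
    obtain ⟨ψ, hψ⟩ := β.2 (sg.map f)
    have hψ' : uB (AdicCompletion I A) Y ≫ ψ = sg.map f := hψ
    let g : (ER φ).obj P₁ ⟶ M₁ :=
      (ER φ).map (σ.inv.app P₁) ≫ θ.inv ≫ H.map ψ ≫ σ.hom.app M₁
    have hg : H.map ψ = T g := by
      show H.map ψ = θ.hom ≫ (ER φ).map (σ.hom.app P₁) ≫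
        ((ER φ).map (σ.inv.app P₁) ≫ θ.inv ≫ H.map ψ ≫ σ.hom.app M₁) ≫ σ.inv.app M₁
      simp only [Category.assoc]
      rw [← (ER φ).map_comp_assoc, Iso.hom_inv_id_app]
      erw [CategoryTheory.Functor.map_id]
      rw [Category.id_comp, Iso.hom_inv_id_assoc, Iso.hom_inv_id_app]
      exact (Category.comp_id _).symm
    refine ⟨g, ?_⟩
    have h1 := key ψ g hg
    rw [hψ', hsg] at h1
    have h2 := (Iso.cancel_iso_hom_left (σ.app P₁) _ _).1 h1
    exact ((Iso.cancel_iso_inv_right _ _ (σ.app M₁)).1 h2).symm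

/-- `(A^ ⊗ P)|_A ≃ A^ ⊗_A P` (the identity) -/
noncomputable def erTensorEquiv (P₁ : ModuleCat.{u} A) :
    ((ER (algebraMap A (AdicCompletion I A))).obj P₁) ≃ₗ[A] AdicCompletion I A ⊗[A] P₁ :=
  (Groth.Agent.Lib.helper13.RKF.extResLE (algebraMap A (AdicCompletion I A)) P₁) ≪≫ₗ
    (ExtSc.T (B := AdicCompletion I A) P₁)

lemma erTensorEquiv_unit (P₁ : ModuleCat.{u} A) (x : P₁) :
    erTensorEquiv I P₁ ((ModuleCat.extendRestrictScalarsAdj.{u, u, u}
      (algebraMap A (AdicCompletion I A))).unit.app P₁ x) = (1 : AdicCompletion I A) ⊗ₜ[A] x :=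
  rfl

/-- **unique extension**, linear form: for `M[0]` derived complete, restriction along
`p ↦ 1 ⊗ p` is a bijection `Hom_A(A^ ⊗_A P, M) ≃ Hom_A(P, M)`. -/
theorem bijective_comp_mk (P M : Type u) [AddCommGroup P] [Module A P] [AddCommGroup M]
    [Module A M] (hc : DRing.IsDerivedComplete I (Dual.inD A M)) :
    Function.Bijective (fun g : AdicCompletion I A ⊗[A] P →ₗ[A] M =>
      g ∘ₗ TensorProduct.mk A (AdicCompletion I A) P 1) := by
  have hb := bijective_unit_comp I (ModuleCat.of A P) (ModuleCat.of A M) hc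
  let ε := erTensorEquiv I (ModuleCat.of A P)
  constructor
  · intro g₁ g₂ h
    have h' : g₁ ∘ₗ TensorProduct.mk A (AdicCompletion I A) P 1 =
      g₂ ∘ₗ TensorProduct.mk A (AdicCompletion I A) P 1 := h
    have h1 : ModuleCat.ofHom (g₁ ∘ₗ ε.toLinearMap) = ModuleCat.ofHom (g₂ ∘ₗ ε.toLinearMap) := by
      apply hb.1
      apply ModuleCat.hom_ext
      apply LinearMap.ext
      intro x
      exact LinearMap.congr_fun h' x
    have h2 : g₁ ∘ₗ ε.toLinearMap = g₂ ∘ₗ ε.toLinearMap :=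
      congrArg ModuleCat.Hom.hom h1
    apply LinearMap.ext
    intro y
    obtain ⟨z, rfl⟩ := ε.surjective y
    exact LinearMap.congr_fun h2 z
  · intro f
    obtain ⟨k, hk⟩ := hb.2 (ModuleCat.ofHom f)
    refine ⟨k.hom ∘ₗ ε.symm.toLinearMap, ?_⟩
    apply LinearMap.ext
    intro x
    have h1 := congrArg (fun t => t.hom x) hk
    show k.hom (ε.symm ((1 : AdicCompletion I A) ⊗ₜ[A] x)) = f x
    rw [← erTensorEquiv_unit I (ModuleCat.of A P) x, LinearEquiv.symm_apply_apply]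
    exact h1

end UE

end Groth.Agent.Lib.helper23.DC
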