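import Mathlib
import Groth.Prelude.Def_DDual2
import Groth.Prelude.Def_DRing3
import Groth.Agent.Lib.Helper23.DC8
import Groth.Agent.S7049
import Groth.Agent.S7051
import Groth.Agent.S7053
import Groth.Agent.S0542

/-!
# Derived complete modules with `M/IM` finite over a Noetherian ring (helper23)

`A` Noetherian, `M[0]` derived complete, `M/IM` finite.  Then `M` is `I`-adically complete and
`M^` is a finite `A^`-module (S7059).
-/

set_option autoImplicit false
universe u
open CategoryTheory CategoryTheory.Limits DerivedCategory TensorProduct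

attribute [local instance] HasDerivedCategory.standard

namespace Groth.Agent.Lib.helper23.DC

variable {A : Type u} [CommRing A]

/-- derived completeness is invariant under linear equivalences -/
lemma isDerivedComplete_inD_of_linearEquiv (I : Ideal A) {M M' : Type u} [AddCommGroup M]
    [Module A M] [AddCommGroup M'] [Module A M'] (e : M ≃ₗ[A] M')
    (h : DRing.IsDerivedComplete I (Dual.inD A M)) : DRing.IsDerivedComplete I (Dual.inD A M') :=
  Groth.Agent.Lib.helper13.DComp.isDerivedComplete_of_iso I
    ((singleFunctor (ModuleCat.{u} A) 0).mapIso e.toModuleIso) h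

variable [IsNoetherianRing A] (I : Ideal A)

/-- `A^ ⊗_A P` is derived complete for `P` finite -/
lemma isDerivedComplete_tensor (P : Type u) [AddCommGroup P] [Module A P] [Module.Finite A P] :
    DRing.IsDerivedComplete I (Dual.inD A (AdicCompletion I A ⊗[A] P)) := by
  haveI : IsAdicComplete I (AdicCompletion I P) :=
    AdicCompletion.isAdicComplete (IsNoetherian.noetherian I)
  exact isDerivedComplete_inD_of_linearEquiv I
    ((AdicCompletion.ofTensorProductEquivOfFiniteNoetherian I P).restrictScalars A).symm
    (isDerivedComplete_inD_of_isAdicComplete I (AdicCompletion I P))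

section Main

variable (M : Type u) [AddCommGroup M] [Module A M]
  (hc : DRing.IsDerivedComplete I (Dual.inD A M))

include hc

/-- a map `P → M` which is surjective modulo `I` extends to a surjection `A^ ⊗ P → M` -/
theorem exists_surjective_extension (P : Type u) [AddCommGroup P] [Module A P] [Module.Finite A P]
    (f : P →ₗ[A] M) (hf : LinearMap.range f ⊔ I • (⊤ : Submodule A M) = ⊤) :
    ∃ q : AdicCompletion I A ⊗[A] P →ₗ[A] M,
      q ∘ₗ TensorProduct.mk A (AdicCompletion I A) P 1 = f ∧ Function.Surjective q := by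
  obtain ⟨q, hq⟩ := (bijective_comp_mk I P M hc).2 f
  have hq' : q ∘ₗ TensorProduct.mk A (AdicCompletion I A) P 1 = f := hq
  refine ⟨q, hq', ?_⟩
  have hQ := (Groth.Agent.S7051.result I _ M q (isDerivedComplete_tensor I P) hc).2
  have hle : LinearMap.range f ≤ LinearMap.range q := by
    rw [← hq']
    exact LinearMap.range_comp_le_range _ _
  have htop : I • (⊤ : Submodule A (M ⧸ LinearMap.range q)) = ⊤ := by
    rw [eq_top_iff]
    intro x _
    obtain ⟨y, rfl⟩ := (LinearMap.range q).mkQ_surjective x
    have hy : y ∈ LinearMap.range f ⊔ I • (⊤ : Submodule A M) := by rw [hf]; trivial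
    obtain ⟨y₁, hy₁, y₂, hy₂, rfl⟩ := Submodule.mem_sup.1 hy
    have h1 : (LinearMap.range q).mkQ y₁ = 0 := by
      rw [Submodule.mkQ_apply, Submodule.Quotient.mk_eq_zero]
      exact hle hy₁
    rw [map_add, h1, zero_add]
    have h2 : (LinearMap.range q).mkQ y₂ ∈ Submodule.map (LinearMap.range q).mkQ
        (I • (⊤ : Submodule A M)) := Submodule.mem_map_of_mem hy₂
    rw [Submodule.map_smul''] at h2
    exact Submodule.smul_mono le_rfl le_top h2
  haveI := Groth.Agent.S7053.result I (IsNoetherian.noetherian I) _ hQ htop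
  rw [← LinearMap.range_eq_top, ← Submodule.Quotient.subsingleton_iff]
  infer_instance

/-- `A`-linear maps from `A^`-modules to derived complete modules kill `A^`-multiples of their
kernel -/
theorem map_smul_eq_zero_of_map_eq_zero (F : Type u) [AddCommGroup F] [Module A F]
    [Module (AdicCompletion I A) F] [IsScalarTower A (AdicCompletion I A) F] (q : F →ₗ[A] M)
    (b : AdicCompletion I A) (y : F) (hy : q y = 0) : q (b • y) = 0 := by
  let g : AdicCompletion I A →ₗ[A] M :=
    q ∘ₗ ((LinearMap.toSpanSingleton (AdicCompletion I A) F y).restrictScalars A)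
  let G : AdicCompletion I A ⊗[A] A →ₗ[A] M :=
    g ∘ₗ (TensorProduct.rid A (AdicCompletion I A)).toLinearMap
  have hG : G = 0 := by
    apply (bijective_comp_mk I A M hc).1
    show G ∘ₗ TensorProduct.mk A (AdicCompletion I A) A 1 =
      (0 : AdicCompletion I A ⊗[A] A →ₗ[A] M) ∘ₗ TensorProduct.mk A (AdicCompletion I A) A 1
    apply LinearMap.ext
    intro a
    show q ((TensorProduct.rid A (AdicCompletion I A) ((1 : AdicCompletion I A) ⊗ₜ[A] a)) • y) = 0
    rw [TensorProduct.rid_tmul, smul_assoc, one_smul, map_smul, hy, smul_zero]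
  have h1 : G (b ⊗ₜ[A] (1 : A)) = q (b • y) := by
    show q ((TensorProduct.rid A (AdicCompletion I A) (b ⊗ₜ[A] (1 : A))) • y) = q (b • y)
    rw [TensorProduct.rid_tmul, one_smul]
  rw [← h1, hG]
  rfl

/-- a derived complete quotient of a finite `A^`-module is `I`-adically separated -/
theorem isHausdorff_of_surjective (F : Type u) [AddCommGroup F] [Module A F]
    [Module (AdicCompletion I A) F] [IsScalarTower A (AdicCompletion I A) F]
    [Module.Finite (AdicCompletion I A) F] (q : F →ₗ[A] M) (hq : Function.Surjective q) :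
    IsHausdorff I M := by
  have hI : I.FG := IsNoetherian.noetherian I
  let N' : Submodule (AdicCompletion I A) F :=
    { carrier := {y | q y = 0}
      add_mem' := fun {x y} hx hy => by
        show q (x + y) = 0
        rw [map_add, hx, hy, add_zero]
      zero_mem' := map_zero q
      smul_mem' := fun b y hy => map_smul_eq_zero_of_map_eq_zero I M hc F q b y hy }
  haveI : IsNoetherianRing (AdicCompletion I A) := Groth.Agent.S0542.result A I hI
  haveI : IsAdicComplete (I.map (algebraMap A (AdicCompletion I A))) (AdicCompletion I A) :=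
    AdicCompletion.isAdicComplete_self I hI
  have h1 : IsHausdorff (I.map (algebraMap A (AdicCompletion I A))) (F ⧸ N') :=
    IsHausdorff.of_le_jacobson _ _ (IsAdicComplete.le_jacobson_bot _)
  have h2 : IsHausdorff I (F ⧸ N') := IsHausdorff.map_algebraMap_iff.1 h1
  refine ⟨fun x hx => ?_⟩
  obtain ⟨y, rfl⟩ := hq x
  have h3 : (N'.mkQ y) = 0 := by
    apply h2.haus
    intro n
    rw [SModEq.zero]
    have hxn := hx n
    rw [SModEq.zero] at hxn
    have h4 : (I ^ n • ⊤ : Submodule A M) = Submodule.map q (I ^ n • ⊤) := by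
      rw [Submodule.map_smul'', Submodule.map_top, LinearMap.range_eq_top.2 hq]
    rw [h4] at hxn
    obtain ⟨y', hy', hyy'⟩ := hxn
    have h5 : N'.mkQ y = N'.mkQ y' := by
      rw [Submodule.mkQ_apply, Submodule.mkQ_apply, Submodule.Quotient.eq]
      show q (y - y') = 0
      rw [map_sub, hyy', sub_self]
    rw [h5]
    have h6 : (N'.mkQ.restrictScalars A) y' ∈ Submodule.map (N'.mkQ.restrictScalars A)
        (I ^ n • ⊤ : Submodule A F) := Submodule.mem_map_of_mem hy'
    rw [Submodule.map_smul''] at h6
    exact Submodule.smul_mono le_rfl le_top h6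
  have h7 : y ∈ N' := by
    rw [Submodule.mkQ_apply, Submodule.Quotient.mk_eq_zero] at h3
    exact h3
  exact h7

/-- **S7059** -/
theorem isAdicComplete_and_finite (hf : Module.Finite A (M ⧸ I • (⊤ : Submodule A M))) :
    IsAdicComplete I M ∧ Module.Finite (AdicCompletion I A) (AdicCompletion I M) := by
  have hI : I.FG := IsNoetherian.noetherian I
  obtain ⟨t, g, hg⟩ := Module.Finite.exists_fin' A (M ⧸ I • (⊤ : Submodule A M))
  obtain ⟨f, hfg⟩ := Module.projective_lifting_property (I • (⊤ : Submodule A M)).mkQ g
    (Submodule.mkQ_surjective _)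
  have hf' : LinearMap.range f ⊔ I • (⊤ : Submodule A M) = ⊤ := by
    rw [sup_comm, ← Submodule.map_mkQ_eq_top, ← LinearMap.range_comp, hfg,
      LinearMap.range_eq_top.2 hg]
  obtain ⟨q, hq, hsurj⟩ := exists_surjective_extension I M hc (Fin t → A) f hf'
  have haus : IsHausdorff I M :=
    isHausdorff_of_surjective I M hc (AdicCompletion I A ⊗[A] (Fin t → A)) q hsurj
  have hofs : Function.Surjective (AdicCompletion.of I M) := Groth.Agent.S7049.result I hI M hc
  have prec : IsPrecomplete I M := AdicCompletion.of_surjective_iff.1 hofs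
  refine ⟨{ toIsHausdorff := haus, toIsPrecomplete := prec }, ?_⟩
  haveI : IsAdicComplete I (AdicCompletion I M) := AdicCompletion.isAdicComplete hI
  have hM' : DRing.IsDerivedComplete I (Dual.inD A (AdicCompletion I M)) :=
    isDerivedComplete_inD_of_isAdicComplete I (AdicCompletion I M)
  let Φ : AdicCompletion I A ⊗[A] (Fin t → A) →ₗ[A] AdicCompletion I M :=
    (AdicCompletion.of I M) ∘ₗ q
  let Ψ : AdicCompletion I A ⊗[A] (Fin t → A) →ₗ[AdicCompletion I A] AdicCompletion I M :=
    LinearMap.liftBaseChange (AdicCompletion I A) ((AdicCompletion.of I M) ∘ₗ f)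
  have hΦΨ : Φ = Ψ.restrictScalars A := by
    apply (bijective_comp_mk I (Fin t → A) (AdicCompletion I M) hM').1
    show Φ ∘ₗ TensorProduct.mk A (AdicCompletion I A) (Fin t → A) 1 =
      (Ψ.restrictScalars A) ∘ₗ TensorProduct.mk A (AdicCompletion I A) (Fin t → A) 1
    apply LinearMap.ext
    intro c
    show AdicCompletion.of I M (q ((1 : AdicCompletion I A) ⊗ₜ[A] c)) =
      Ψ ((1 : AdicCompletion I A) ⊗ₜ[A] c)
    rw [LinearMap.liftBaseChange_tmul, one_smul]
    have := LinearMap.congr_fun hq c
    show AdicCompletion.of I M (q ((1 : AdicCompletion I A) ⊗ₜ[A] c)) =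
      AdicCompletion.of I M (f c)
    congr 1
  have hΨ : Function.Surjective Ψ := by
    intro z
    obtain ⟨m, rfl⟩ := hofs z
    obtain ⟨y, rfl⟩ := hsurj m
    refine ⟨y, ?_⟩
    have := LinearMap.congr_fun hΦΨ y
    exact this.symm
  exact Module.Finite.of_surjective Ψ hΨ

end Main

end Groth.Agent.Lib.helper23.DC
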