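import Mathlib
import Groth.Agent.Lib.Helper23.DCompl8
import Groth.Agent.Lib.Helper2.Henselian

set_option autoImplicit false
universe u
open CategoryTheory CategoryTheory.Limits

attribute [local instance] HasDerivedCategory.standard

namespace Groth.Agent.Lib.helper23.DCompl

section Hens

variable {A : Type u} [CommRing A]

theorem henselian_principal (f : A) (h0 : En f 0 A) (h1 : En f 1 A) :
    HenselianRing A (Ideal.span {f}) := by
  classical
  set J : Ideal A := ⨅ n : ℕ, Ideal.span {f ^ n} with hJ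
  have hJmem : ∀ x : A, x ∈ J ↔ ∀ n : ℕ, ∃ b : A, x = f ^ n * b := by
    intro x
    rw [hJ, Submodule.mem_iInf]
    refine forall_congr' fun n => ?_
    rw [Ideal.mem_span_singleton]
    exact Iff.rfl
  have hJn : ∀ n : ℕ, J ≤ Ideal.span {f ^ n} := fun n => iInf_le _ n
  have hJ2 : ∀ x ∈ J, ∀ y ∈ J, x * y = 0 := by
    intro x hx y hy
    have := smul_eq_zero_of_approx (M := A) f h0 x (fun n => by
      obtain ⟨b, hb⟩ := (hJmem x).1 hx n
      exact ⟨b, fun z => by rw [hb, sub_self, zero_smul]⟩) y (fun n => by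
      obtain ⟨b, hb⟩ := (hJmem y).1 hy n
      exact ⟨b, by rw [hb, smul_eq_mul]⟩)
    rwa [smul_eq_mul] at this
  have HJ : HenselianRing A J :=
    Groth.Agent.Lib.helper2.henselianRing_of_locally_nilpotent J
      (fun x hx => ⟨2, by rw [pow_two]; exact hJ2 x hx x hx⟩)
  have hJle : J ≤ Ideal.span {f} := by
    have := hJn 1
    rwa [pow_one] at this
  set 𝔟 : Ideal (A ⧸ J) := (Ideal.span {f}).map (Ideal.Quotient.mk J) with h𝔟
  have hpowA : ∀ n : ℕ, ((Ideal.span {f}) ^ n • ⊤ : Submodule A A) = Ideal.span {f ^ n} := by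
    intro n
    rw [smul_eq_mul, Ideal.mul_top, Ideal.span_singleton_pow]
  have hpowB : ∀ n : ℕ, (𝔟 ^ n • ⊤ : Submodule (A ⧸ J) (A ⧸ J)) =
      (Ideal.span {f ^ n}).map (Ideal.Quotient.mk J) := by
    intro n
    rw [smul_eq_mul, Ideal.mul_top, h𝔟, ← Ideal.map_pow, Ideal.span_singleton_pow]
  have K1 : ∀ (a : A) (n : ℕ), Ideal.Quotient.mk J a ∈ (𝔟 ^ n • ⊤ : Submodule (A ⧸ J) (A ⧸ J)) ↔
      a ∈ Ideal.span {f ^ n} := by
    intro a n
    rw [hpowB]
    constructor
    · intro h
      rw [Ideal.mem_map_iff_of_surjective _ Ideal.Quotient.mk_surjective] at h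
      obtain ⟨c, hc, hca⟩ := h
      have h2 : c - a ∈ J := Ideal.Quotient.eq.mp hca
      have h3 : a = c - (c - a) := by ring
      rw [h3]
      exact Ideal.sub_mem _ hc (hJn n h2)
    · intro h
      exact Ideal.mem_map_of_mem _ h
  have hHaus : IsHausdorff 𝔟 (A ⧸ J) := by
    refine ⟨fun x hx => ?_⟩
    obtain ⟨a, rfl⟩ := Ideal.Quotient.mk_surjective x
    rw [Ideal.Quotient.eq_zero_iff_mem, hJ, Submodule.mem_iInf]
    intro n
    have := hx n
    rw [SModEq.zero] at this
    exact (K1 a n).1 this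
  have hPreA : IsPrecomplete (Ideal.span {f}) A := by
    have := isPrecomplete_of_En (M := A) ({f} : Finset A) (fun g hg => by
      rw [Finset.mem_singleton] at hg
      subst hg
      exact h1)
    rwa [Finset.coe_singleton] at this
  have hPre : IsPrecomplete 𝔟 (A ⧸ J) := by
    refine ⟨fun x hx => ?_⟩
    choose a ha using fun n => Ideal.Quotient.mk_surjective (x n)
    have hCauchy : ∀ {m n : ℕ}, m ≤ n →
        a m ≡ a n [SMOD ((Ideal.span {f}) ^ m • ⊤ : Submodule A A)] := by
      intro m n hmn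
      rw [SModEq.sub_mem, hpowA]
      have := hx hmn
      rw [SModEq.sub_mem, ← ha m, ← ha n, ← map_sub] at this
      exact (K1 _ m).1 this
    obtain ⟨L, hL⟩ := hPreA.prec' a hCauchy
    refine ⟨Ideal.Quotient.mk J L, fun n => ?_⟩
    rw [SModEq.sub_mem, ← ha n, ← map_sub, K1, ← hpowA]
    have := hL n
    rwa [SModEq.sub_mem] at this
  haveI : IsAdicComplete 𝔟 (A ⧸ J) := { toIsHausdorff := hHaus, toIsPrecomplete := hPre }
  have HQ : HenselianRing (A ⧸ J) 𝔟 := inferInstance
  exact Groth.Agent.Lib.helper2.henselianRing_of_quotient hJle HJ HQ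

theorem henselian_of_principal (I : Ideal A) (hp : ∀ f ∈ I, HenselianRing A (Ideal.span {f})) :
    HenselianRing A I := by
  rw [Groth.Agent.Lib.helper2.henselianRing_iff]
  have hjac : I ≤ Ideal.jacobson ⊥ := fun f hf =>
    (hp f hf).jac (Ideal.mem_span_singleton_self f)
  refine ⟨hjac, fun F hF a₀ h0 hu => ?_⟩
  have := (Groth.Agent.Lib.helper2.henselianRing_iff _).1 (hp (F.eval a₀) h0)
  obtain ⟨a, ha, haI⟩ := this.2 F hF a₀ (Ideal.mem_span_singleton_self _) hu
  exact ⟨a, ha, ((Ideal.span_singleton_le_iff_mem _).2 h0) haI⟩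

end Hens

end Groth.Agent.Lib.helper23.DCompl
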