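import Mathlib
import Groth.Agent.Lib.Helper23.DTwoTerm

set_option autoImplicit false
universe u
open CategoryTheory CategoryTheory.Limits DerivedCategory Pretriangulated

attribute [local instance] HasDerivedCategory.standard

namespace Groth.Agent.Lib.helper23.DTwoTerm

variable {R : Type u} [CommRing R]

/-- the two-term complex `N → P` (in degrees `-1, 0`), as a mapping cone -/
noncomputable abbrev twoTerm {N P : ModuleCat.{u} R} (d : N ⟶ P) : CochainComplex (ModuleCat.{u} R) ℤ :=
  CochainComplex.mappingCone ((CochainComplex.singleFunctor (ModuleCat.{u} R) 0).map d)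

lemma twoTerm_isZero {N P : ModuleCat.{u} R} (d : N ⟶ P) (i : ℤ) (hi : i < -1 ∨ 0 < i) :
    IsZero ((twoTerm d).X i) := by
  refine HomologicalComplex.homotopyCofiber.isZero_X
    ((CochainComplex.singleFunctor (ModuleCat.{u} R) 0).map d) i ?_ ?_
  · apply HomologicalComplex.isZero_single_obj_X
    omega
  · intro j hj
    apply HomologicalComplex.isZero_single_obj_X
    simp only [ComplexShape.up_Rel] at hj
    omega

noncomputable def biprodIsoOfIsZeroLeft {C : Type*} [Category C] [Preadditive C]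
    [HasBinaryBiproducts C] {A B : C} (hA : IsZero A) : A ⊞ B ≅ B where
  hom := biprod.snd
  inv := biprod.inr
  hom_inv_id := biprod.hom_ext _ _ (hA.eq_of_tgt _ _) (by simp)
  inv_hom_id := by simp

noncomputable def biprodIsoOfIsZeroRight {C : Type*} [Category C] [Preadditive C]
    [HasBinaryBiproducts C] {A B : C} (hB : IsZero B) : A ⊞ B ≅ A where
  hom := biprod.fst
  inv := biprod.inl
  hom_inv_id := biprod.hom_ext _ _ (by simp) (hB.eq_of_tgt _ _)
  inv_hom_id := by simp

noncomputable def twoTermX0Iso {N P : ModuleCat.{u} R} (d : N ⟶ P) : (twoTerm d).X 0 ≅ P :=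
  HomologicalComplex.homotopyCofiber.XIsoBiprod
    ((CochainComplex.singleFunctor (ModuleCat.{u} R) 0).map d) 0 1 (by simp) ≪≫
  biprodIsoOfIsZeroLeft (HomologicalComplex.isZero_single_obj_X _ _ _ _ (by decide)) ≪≫
  (HomologicalComplex.singleObjXSelf (ComplexShape.up ℤ) 0 P)

noncomputable def twoTermXNegOneIso {N P : ModuleCat.{u} R} (d : N ⟶ P) :
    (twoTerm d).X (-1) ≅ N :=
  HomologicalComplex.homotopyCofiber.XIsoBiprod
    ((CochainComplex.singleFunctor (ModuleCat.{u} R) 0).map d) (-1) 0 (by simp) ≪≫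
  biprodIsoOfIsZeroRight (HomologicalComplex.isZero_single_obj_X _ _ _ _ (by decide)) ≪≫
  (HomologicalComplex.singleObjXSelf (ComplexShape.up ℤ) 0 N)

theorem exists_rep (K : DerivedCategory (ModuleCat.{u} R))
    (hK : ∀ i : ℤ, i ≠ -1 → i ≠ 0 → Subsingleton ((HH R i).obj K))
    (P : ModuleCat.{u} R) [Projective P] (π : P ⟶ (HH R 0).obj K) [Epi π] :
    ∃ (N : ModuleCat.{u} R) (d : N ⟶ P), Nonempty (Q.obj (twoTerm d) ≅ K) ∧
      (IsNoetherian R ((HH R (-1)).obj K) → IsNoetherian R P → IsNoetherian R N) := by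
  let a : (HH R 0).obj ((SS R).obj P) ≅ P :=
    (singleFunctorCompHomologyFunctorIso (ModuleCat.{u} R) 0).app P
  obtain ⟨φ, hφ⟩ := (ProjHom.bijective_homologyFunctor_map (P := P) K).2 (a.hom ≫ π)
  have hφ' : (HH R 0).map φ = a.hom ≫ π := hφ
  obtain ⟨C', β, γ, hT⟩ := distinguished_cocone_triangle φ
  have hP : ∀ i : ℤ, i ≠ 0 → IsZero ((HH R i).obj ((SS R).obj P)) := by
    intro i hi
    rcases lt_or_gt_of_ne hi with h | h
    · exact isZero_of_isGE ((SS R).obj P) 0 i h
    · exact isZero_of_isLE ((SS R).obj P) 0 i h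
  have hC : ∀ i : ℤ, i ≠ -1 → IsZero ((HH R i).obj C') := by
    intro i hi
    by_cases h0 : i = 0
    · subst h0
      refine Conc.isZero_homology₃_of_epi _ hT 0 1 rfl ?_ (hP 1 (by decide))
      show Epi ((HH R 0).map φ)
      rw [hφ']
      infer_instance
    · refine Conc.isZero_homology₃ _ hT i (i + 1) rfl ?_ (hP (i + 1) (by omega))
      rw [ModuleCat.isZero_iff_subsingleton]
      exact hK i hi h0
  obtain ⟨N, ⟨eC⟩⟩ := Conc.exists_single_iso C' (-1) hC
  -- the inverse rotation
  have hT' := inv_rot_of_distTriang _ hT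
  let e₁ : C'⟦(-1 : ℤ)⟧ ≅ (SS R).obj N :=
    (shiftFunctor (DerivedCategory (ModuleCat.{u} R)) (-1 : ℤ)).mapIso eC ≪≫
      ((DerivedCategory.singleFunctors (ModuleCat.{u} R)).shiftIso (-1) 0 (-1) (by simp)).app N
  let g : (SS R).obj N ⟶ (SS R).obj P := e₁.inv ≫ (Triangle.mk φ β γ).invRotate.mor₁
  obtain ⟨d, hd⟩ := (SS R).map_surjective g
  refine ⟨N, d, ?_, ?_⟩
  · have hT₂ := mappingCone_triangle_distinguished
      ((CochainComplex.singleFunctor (ModuleCat.{u} R) 0).map d)
    have iso := isoTriangleOfIso₁₂ _ _ hT' hT₂ e₁ (Iso.refl _) (by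
      show (Triangle.mk φ β γ).invRotate.mor₁ ≫ 𝟙 _ = e₁.hom ≫ (SS R).map d
      rw [hd, Category.comp_id, Iso.hom_inv_id_assoc])
    exact ⟨(Triangle.π₃.mapIso iso).symm⟩
  · intro h1 h2
    -- `N ≅ H^{-1}(C')`
    let eN : (HH R (-1)).obj C' ≅ N :=
      (HH R (-1)).mapIso eC ≪≫
        (singleFunctorCompHomologyFunctorIso (ModuleCat.{u} R) (-1)).app N
    have hex := HomologySequence.exact₃ _ hT (-1) 0 (by simp)
    have hre : LinearMap.range ((HH R (-1)).map β).hom =
        LinearMap.ker (HomologySequence.δ (Triangle.mk φ β γ) (-1) 0 (by simp)).hom :=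
      hex.moduleCat_range_eq_ker
    have hN0 : IsNoetherian R ((HH R 0).obj (Triangle.mk φ β γ).obj₁) :=
      isNoetherian_of_linearEquiv a.symm.toLinearEquiv
    have hN1 : IsNoetherian R ((HH R (-1)).obj C') :=
      isNoetherian_of_range_eq_ker _ _ hre
    exact isNoetherian_of_linearEquiv eN.toLinearEquiv

end Groth.Agent.Lib.helper23.DTwoTerm
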