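import Mathlib
import Groth.Agent.Lib.Helper23.DTwoTerm2

set_option autoImplicit false
universe u
open CategoryTheory CategoryTheory.Limits DerivedCategory Pretriangulated

attribute [local instance] HasDerivedCategory.standard

namespace Groth.Agent.Lib.helper23.DTwoTerm

variable {R : Type u} [CommRing R]

/-- the cone of `α` (iso on `H⁰`, epi on `H⁻¹`) is in `D^{≤ -2}` -/
theorem cone_isLE {K K' : DerivedCategory (ModuleCat.{u} R)} (α : K ⟶ K')
    (hK : ∀ i : ℤ, i ≠ -1 → i ≠ 0 → Subsingleton ((HH R i).obj K))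
    (hK' : ∀ i : ℤ, i ≠ -1 → i ≠ 0 → Subsingleton ((HH R i).obj K'))
    (h0 : IsIso ((HH R 0).map α)) (h1 : Epi ((HH R (-1)).map α))
    {C' : DerivedCategory (ModuleCat.{u} R)} (β : K' ⟶ C') (γ : C' ⟶ K⟦(1 : ℤ)⟧)
    (hT : Triangle.mk α β γ ∈ distTriang _) : C'.IsLE (-2) := by
  rw [isLE_iff]
  intro i hi
  have hKz : ∀ i : ℤ, i ≠ -1 → i ≠ 0 → IsZero ((HH R i).obj K) := fun i h1 h2 => by
    rw [ModuleCat.isZero_iff_subsingleton]; exact hK i h1 h2
  have hK'z : ∀ i : ℤ, i ≠ -1 → i ≠ 0 → IsZero ((HH R i).obj K') := fun i h1 h2 => by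
    rw [ModuleCat.isZero_iff_subsingleton]; exact hK' i h1 h2
  by_cases hm1 : i = -1
  · subst hm1
    refine (HomologySequence.exact₃ _ hT (-1) 0 (by simp)).isZero_of_both_zeros ?_ ?_
    · exact (HomologySequence.epi_homologyMap_mor₁_iff _ hT (-1)).1 h1
    · exact (HomologySequence.mono_homologyMap_mor₁_iff _ hT (-1) 0 (by simp)).1
        (by show Mono ((HH R 0).map α); infer_instance)
  · by_cases h00 : i = 0
    · subst h00
      refine Conc.isZero_homology₃_of_epi _ hT 0 1 rfl ?_ (hKz 1 (by decide) (by decide))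
      show Epi ((HH R 0).map α)
      infer_instance
    · exact Conc.isZero_homology₃ _ hT i (i + 1) rfl (hK'z i hm1 h00)
        (hKz (i + 1) (by omega) (by omega))

theorem smul_id_eq_zero {K K' : DerivedCategory (ModuleCat.{u} R)} (α : K ⟶ K')
    (hK : ∀ i : ℤ, i ≠ -1 → i ≠ 0 → Subsingleton ((HH R i).obj K))
    (hK' : ∀ i : ℤ, i ≠ -1 → i ≠ 0 → Subsingleton ((HH R i).obj K'))
    (h0 : IsIso ((HH R 0).map α)) (h1 : Epi ((HH R (-1)).map α))
    (f : R) (hf : f • (𝟙 K) = 0) : f • (𝟙 K') = 0 := by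
  obtain ⟨C', β, γ, hT⟩ := distinguished_cocone_triangle α
  haveI := cone_isLE α hK hK' h0 h1 β γ hT
  haveI : K'.IsGE (-1) := (isGE_iff K' (-1)).2 (fun i hi => by
    rw [ModuleCat.isZero_iff_subsingleton]
    exact hK' i (by omega) (by omega))
  have h2 : α ≫ (f • 𝟙 K') = 0 := by
    rw [Linear.comp_smul, Category.comp_id, ← Category.id_comp α, ← Linear.smul_comp, hf, zero_comp]
  obtain ⟨g, hg⟩ : ∃ g : C' ⟶ K', f • 𝟙 K' = β ≫ g := Triangle.yoneda_exact₂ _ hT (f • 𝟙 K') h2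
  have hg0 : g = 0 := DerivedCategory.TStructure.t.zero g (-2) (-1) (by decide)
  rw [hg, hg0]
  exact comp_zero

theorem smul_ext_eq_zero {K K' : DerivedCategory (ModuleCat.{u} R)} (α : K ⟶ K')
    (hK : ∀ i : ℤ, i ≠ -1 → i ≠ 0 → Subsingleton ((HH R i).obj K))
    (hK' : ∀ i : ℤ, i ≠ -1 → i ≠ 0 → Subsingleton ((HH R i).obj K'))
    (h0 : IsIso ((HH R 0).map α)) (h1 : Epi ((HH R (-1)).map α))
    (N : ModuleCat.{u} R) (a : R)
    (ha : ∀ ξ : K ⟶ ((SS R).obj N)⟦(1 : ℤ)⟧, a • ξ = 0)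
    (ξ : K' ⟶ ((SS R).obj N)⟦(1 : ℤ)⟧) : a • ξ = 0 := by
  obtain ⟨C', β, γ, hT⟩ := distinguished_cocone_triangle α
  haveI := cone_isLE α hK hK' h0 h1 β γ hT
  haveI : DerivedCategory.TStructure.t.IsGE (((SS R).obj N)⟦(1 : ℤ)⟧) (-1) :=
    DerivedCategory.TStructure.t.isGE_shift _ 0 1 (-1) (by lia)
  have h2 : α ≫ (a • ξ) = 0 := by
    rw [Linear.comp_smul]
    exact ha (α ≫ ξ)
  obtain ⟨g, hg⟩ : ∃ g : C' ⟶ ((SS R).obj N)⟦(1 : ℤ)⟧, a • ξ = β ≫ g :=
    Triangle.yoneda_exact₂ _ hT (a • ξ) h2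
  have hg0 : g = 0 := DerivedCategory.TStructure.t.zero g (-2) (-1) (by decide)
  rw [hg, hg0]
  exact comp_zero

end Groth.Agent.Lib.helper23.DTwoTerm
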