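import Mathlib
import Groth.Agent.Lib.Helper23.DTwoTerm3

set_option autoImplicit false
universe u
open CategoryTheory CategoryTheory.Limits DerivedCategory Pretriangulated

attribute [local instance] HasDerivedCategory.standard

namespace Groth.Agent.Lib.helper23.DTwoTerm

variable {R : Type u} [CommRing R]

variable (R) in
/-- `H⁰(M[0]) ≅ M` -/
noncomputable abbrev aa (M : ModuleCat.{u} R) : (HH R 0).obj ((SS R).obj M) ≅ M :=
  (singleFunctorCompHomologyFunctorIso (ModuleCat.{u} R) 0).app M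

lemma aa_naturality {M M' : ModuleCat.{u} R} (v : M ⟶ M') :
    (HH R 0).map ((SS R).map v) ≫ (aa R M').hom = (aa R M).hom ≫ v :=
  (singleFunctorCompHomologyFunctorIso (ModuleCat.{u} R) 0).hom.naturality v

/-- triangle presentation of an object with cohomology in `[-1,0]` -/
theorem exists_triangle (K : DerivedCategory (ModuleCat.{u} R))
    (hK : ∀ i : ℤ, i ≠ -1 → i ≠ 0 → Subsingleton ((HH R i).obj K))
    (P : ModuleCat.{u} R) [Projective P] (π : P ⟶ (HH R 0).obj K) [Epi π] :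
    ∃ (N : ModuleCat.{u} R) (d : N ⟶ P) (ι : (SS R).obj P ⟶ K)
      (ξ₀ : K ⟶ ((SS R).obj N)⟦(1 : ℤ)⟧),
      Triangle.mk ((SS R).map d) ι ξ₀ ∈ distTriang _ ∧ (HH R 0).map ι = (aa R P).hom ≫ π := by
  obtain ⟨φ, hφ⟩ := (ProjHom.bijective_homologyFunctor_map (P := P) K).2 ((aa R P).hom ≫ π)
  have hφ' : (HH R 0).map φ = (aa R P).hom ≫ π := hφ
  obtain ⟨C', β, γ, hT⟩ := distinguished_cocone_triangle φ
  have hP : ∀ i : ℤ, i ≠ 0 → IsZero ((HH R i).obj ((SS R).obj P)) := by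
    intro i hi
    rcases lt_or_gt_of_ne hi with h | h
    · exact isZero_of_isGE ((SS R).obj P) 0 i h
    · exact isZero_of_isLE ((SS R).obj P) 0 i h
  have hC : ∀ i : ℤ, i ≠ -1 → IsZero ((HH R i).obj C') := by
    intro i hi
    by_cases h0 : i = 0
    · subst h0
      refine Conc.isZero_homology₃_of_epi _ hT 0 1 rfl ?_ (hP 1 (by decide))
      show Epi ((HH R 0).map φ)
      rw [hφ']
      infer_instance
    · refine Conc.isZero_homology₃ _ hT i (i + 1) rfl ?_ (hP (i + 1) (by omega))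
      rw [ModuleCat.isZero_iff_subsingleton]
      exact hK i hi h0
  obtain ⟨N, ⟨eC⟩⟩ := Conc.exists_single_iso C' (-1) hC
  have hT' := inv_rot_of_distTriang _ hT
  let e₁ : C'⟦(-1 : ℤ)⟧ ≅ (SS R).obj N :=
    (shiftFunctor (DerivedCategory (ModuleCat.{u} R)) (-1 : ℤ)).mapIso eC ≪≫
      ((DerivedCategory.singleFunctors (ModuleCat.{u} R)).shiftIso (-1) 0 (-1) (by simp)).app N
  let g : (SS R).obj N ⟶ (SS R).obj P := e₁.inv ≫ (Triangle.mk φ β γ).invRotate.mor₁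
  obtain ⟨d, hd⟩ := (SS R).map_surjective g
  let ξ₀ : K ⟶ ((SS R).obj N)⟦(1 : ℤ)⟧ :=
    (Triangle.mk φ β γ).invRotate.mor₃ ≫ e₁.hom⟦(1 : ℤ)⟧'
  refine ⟨N, d, φ, ξ₀, ?_, hφ'⟩
  refine isomorphic_distinguished _ hT' _ (Iso.symm ?_)
  refine Triangle.isoMk _ _ e₁ (Iso.refl _) (Iso.refl _) ?_ ?_ ?_
  · show (Triangle.mk φ β γ).invRotate.mor₁ ≫ 𝟙 _ = e₁.hom ≫ (SS R).map d
    rw [hd, Category.comp_id, Iso.hom_inv_id_assoc]
  · show (Triangle.mk φ β γ).invRotate.mor₂ ≫ 𝟙 _ = 𝟙 _ ≫ φ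
    rw [Category.comp_id, Category.id_comp]
    rfl
  · show (Triangle.mk φ β γ).invRotate.mor₃ ≫ e₁.hom⟦(1 : ℤ)⟧' = 𝟙 _ ≫ ξ₀
    exact (Category.id_comp _).symm

end Groth.Agent.Lib.helper23.DTwoTerm
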