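import Mathlib
import Groth.Agent.Lib.Helper23.DTwoTerm4

set_option autoImplicit false
universe u
open CategoryTheory CategoryTheory.Limits DerivedCategory Pretriangulated

attribute [local instance] HasDerivedCategory.standard

namespace Groth.Agent.Lib.helper23.DTwoTerm

variable {R : Type u} [CommRing R]

lemma homologyMap_smul_id (K' : CochainComplex (ModuleCat.{u} R) ℤ) (i : ℤ) (a : R) :
    HomologicalComplex.homologyMap (a • 𝟙 K') i = a • 𝟙 _ := by
  have h : (HomologicalComplex.shortComplexFunctor (ModuleCat.{u} R) (ComplexShape.up ℤ) i).map (a • 𝟙 K')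
      = a • 𝟙 _ := by
    ext <;> rfl
  show ShortComplex.homologyMap _ = _
  rw [h, ShortComplex.homologyMap_smul, ShortComplex.homologyMap_id]
  rfl

lemma HH_map_smul_id (i : ℤ) (a : R) (K : DerivedCategory (ModuleCat.{u} R)) :
    (HH R i).map (a • 𝟙 K) = a • 𝟙 ((HH R i).obj K) := by
  let K' := (DerivedCategory.Q (C := ModuleCat.{u} R)).objPreimage K
  let e : Q.obj K' ≅ K := Q.objObjPreimageIso K
  have h1 : a • 𝟙 K = e.inv ≫ Q.map (a • 𝟙 K') ≫ e.hom := by
    rw [CategoryTheory.Functor.map_smul, CategoryTheory.Functor.map_id, Linear.smul_comp,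
      Linear.comp_smul, Category.id_comp, Iso.inv_hom_id]
  have h2 : (HH R i).map (Q.map (a • 𝟙 K')) = a • 𝟙 ((HH R i).obj (Q.obj K')) := by
    let φ : (HH R i).obj (Q.obj K') ⟶ K'.homology i :=
      (homologyFunctorFactors (ModuleCat.{u} R) i).hom.app K'
    haveI : IsIso φ := inferInstanceAs (IsIso ((homologyFunctorFactors (ModuleCat.{u} R) i).hom.app K'))
    have h5 : (HH R i).map (Q.map (a • 𝟙 K')) ≫ φ = φ ≫ HomologicalComplex.homologyMap (a • 𝟙 K') i :=
      (homologyFunctorFactors (ModuleCat.{u} R) i).hom.naturality (a • 𝟙 K')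
    rw [homologyMap_smul_id, Linear.comp_smul (R := R) (C := ModuleCat.{u} R), Category.comp_id] at h5
    rw [← cancel_mono φ, h5, Linear.smul_comp (R := R) (C := ModuleCat.{u} R), Category.id_comp]
  rw [h1, CategoryTheory.Functor.map_comp, CategoryTheory.Functor.map_comp, h2,
    Linear.smul_comp (R := R) (C := ModuleCat.{u} R),
    Linear.comp_smul (R := R) (C := ModuleCat.{u} R), Category.id_comp,
    ← CategoryTheory.Functor.map_comp, Iso.inv_hom_id, CategoryTheory.Functor.map_id]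

lemma HH_smul_id_apply (i : ℤ) (a : R) (K : DerivedCategory (ModuleCat.{u} R))
    (x : (HH R i).obj K) : ((HH R i).map (a • 𝟙 K)).hom x = a • x := by
  rw [HH_map_smul_id]
  rfl

/-- an object concentrated in one degree whose cohomology is killed by `a` is killed by `a` -/
theorem smul_id_eq_zero_of_conc (W : DerivedCategory (ModuleCat.{u} R)) (n : ℤ)
    (hW : ∀ i : ℤ, i ≠ n → IsZero ((HH R i).obj W)) (a : R)
    (h : ∀ y : (HH R n).obj W, a • y = 0) : a • 𝟙 W = 0 := by
  obtain ⟨L, ⟨e⟩⟩ := Conc.exists_single_iso W n hW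
  let φ : (HH R n).obj W ≅ L :=
    (HH R n).mapIso e ≪≫ (singleFunctorCompHomologyFunctorIso (ModuleCat.{u} R) n).app L
  have hL : ∀ l : L, a • l = 0 := by
    intro l
    have h1 : φ.hom.hom (φ.inv.hom l) = l := by
      rw [← ModuleCat.comp_apply, Iso.inv_hom_id]
      rfl
    rw [← h1, ← map_smul, h, map_zero]
  have hid : a • 𝟙 L = 0 := by
    ext l
    exact hL l
  have h2 : a • 𝟙 W = e.hom ≫ (DerivedCategory.singleFunctor (ModuleCat.{u} R) n).map (a • 𝟙 L) ≫
      e.inv := by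
    rw [CategoryTheory.Functor.map_smul, CategoryTheory.Functor.map_id, Linear.smul_comp,
      Linear.comp_smul, Category.id_comp, Iso.hom_inv_id]
  rw [h2, hid, CategoryTheory.Functor.map_zero, zero_comp, comp_zero]

theorem exists_rho (K : DerivedCategory (ModuleCat.{u} R))
    (hK : ∀ i : ℤ, i ≠ -1 → i ≠ 0 → Subsingleton ((HH R i).obj K)) :
    ∃ ρ : K ⟶ (SS R).obj ((HH R 0).obj K), IsIso ((HH R 0).map ρ) := by
  let N0 : ModuleCat.{u} R := (HH R 0).obj K
  let P : ModuleCat.{u} R := ModuleCat.of R (N0 →₀ R)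
  let π : P ⟶ N0 := ModuleCat.ofHom (Finsupp.linearCombination R id)
  haveI hπ : Epi π :=
    (ModuleCat.epi_iff_surjective _).2 (Finsupp.linearCombination_id_surjective R N0)
  haveI : Projective P := (IsProjective.iff_projective (R := R) (N0 →₀ R)).1 inferInstance
  obtain ⟨N, d, ι, ξ₀, hT, hι⟩ := exists_triangle K hK P π
  have hdι : (SS R).map d ≫ ι = 0 := comp_distTriang_mor_zero₁₂ _ hT
  have hdπ : d ≫ π = 0 := by
    have h1 := aa_naturality d
    have h2 : (aa R N).hom ≫ d ≫ π = 0 := by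
      rw [← Category.assoc, ← h1, Category.assoc, ← hι, ← CategoryTheory.Functor.map_comp, hdι,
        CategoryTheory.Functor.map_zero]
    exact (cancel_epi (aa R N).hom).1 (by rw [h2, comp_zero])
  have hdπ' : (SS R).map d ≫ (SS R).map π = 0 := by
    rw [← CategoryTheory.Functor.map_comp, hdπ, CategoryTheory.Functor.map_zero]
  obtain ⟨ρ, hρ⟩ : ∃ ρ : K ⟶ (SS R).obj N0, (SS R).map π = ι ≫ ρ :=
    Triangle.yoneda_exact₂ _ hT ((SS R).map π) hdπ'
  refine ⟨ρ, ?_⟩
  have h3 : (HH R 0).map ρ ≫ (aa R N0).hom = 𝟙 _ := by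
    have h4 := aa_naturality π
    rw [hρ, CategoryTheory.Functor.map_comp, hι, Category.assoc, Category.assoc] at h4
    have h5 := (cancel_epi (aa R P).hom).1 h4
    exact (cancel_epi π).1 (by rw [h5, Category.comp_id])
  have h6 : (HH R 0).map ρ = (aa R N0).inv := by
    rw [← Category.comp_id ((HH R 0).map ρ), ← (aa R N0).hom_inv_id, ← Category.assoc, h3,
      Category.id_comp]
  rw [h6]
  infer_instance

/-- (⇒)(a) -/
theorem smul_homology_eq_zero (K : DerivedCategory (ModuleCat.{u} R))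
    (hK : ∀ i : ℤ, i ≠ -1 → i ≠ 0 → Subsingleton ((HH R i).obj K)) (a : R)
    (ha : ∀ (N : ModuleCat.{u} R) (ξ : K ⟶ ((SS R).obj N)⟦(1 : ℤ)⟧), a • ξ = 0)
    (x : (HH R (-1)).obj K) : a • x = 0 := by
  let N0 : ModuleCat.{u} R := (HH R 0).obj K
  let P : ModuleCat.{u} R := ModuleCat.of R (N0 →₀ R)
  let π : P ⟶ N0 := ModuleCat.ofHom (Finsupp.linearCombination R id)
  haveI hπ : Epi π :=
    (ModuleCat.epi_iff_surjective _).2 (Finsupp.linearCombination_id_surjective R N0)
  haveI : Projective P := (IsProjective.iff_projective (R := R) (N0 →₀ R)).1 inferInstance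
  obtain ⟨N, d, ι, ξ₀, hT, hι⟩ := exists_triangle K hK P π
  have hrot := rot_of_distTriang _ hT
  have hex := HomologySequence.exact₂ _ hrot (-1)
  have hP0 : IsZero ((HH R (-1)).obj ((SS R).obj P)) :=
    isZero_of_isGE ((SS R).obj P) 0 (-1) (by decide)
  have hmono : Mono ((HH R (-1)).map ξ₀) := hex.mono_g (hP0.eq_of_src _ _)
  have h1 : (HH R (-1)).map (a • 𝟙 K) ≫ (HH R (-1)).map ξ₀ = 0 := by
    rw [← CategoryTheory.Functor.map_comp, Linear.smul_comp, Category.id_comp, ha N ξ₀,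
      CategoryTheory.Functor.map_zero]
  have h2 : (HH R (-1)).map (a • 𝟙 K) = 0 :=
    (cancel_mono ((HH R (-1)).map ξ₀)).1 (by rw [h1, zero_comp])
  rw [← HH_smul_id_apply, h2]
  rfl

/-- (⇐) -/
theorem mul_smul_ext_eq_zero (K : DerivedCategory (ModuleCat.{u} R))
    (hK : ∀ i : ℤ, i ≠ -1 → i ≠ 0 → Subsingleton ((HH R i).obj K)) (a b : R)
    (ha : ∀ x : (HH R (-1)).obj K, a • x = 0) (N : ModuleCat.{u} R)
    (hb : ∀ η : (SS R).obj ((HH R 0).obj K) ⟶ ((SS R).obj N)⟦(1 : ℤ)⟧, b • η = 0)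
    (ξ : K ⟶ ((SS R).obj N)⟦(1 : ℤ)⟧) : (a * b) • ξ = 0 := by
  obtain ⟨ρ, hρ⟩ := exists_rho K hK
  obtain ⟨W, γ', β', hT⟩ := distinguished_cocone_triangle₁ ρ
  have hM : ∀ i : ℤ, i ≠ 0 → IsZero ((HH R i).obj ((SS R).obj ((HH R 0).obj K))) := by
    intro i hi
    rcases lt_or_gt_of_ne hi with h | h
    · exact isZero_of_isGE ((SS R).obj _) 0 i h
    · exact isZero_of_isLE ((SS R).obj _) 0 i h
  have hKz : ∀ i : ℤ, i ≠ -1 → i ≠ 0 → IsZero ((HH R i).obj K) := fun i h1 h2 => by
    rw [ModuleCat.isZero_iff_subsingleton]; exact hK i h1 h2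
  have hW : ∀ i : ℤ, i ≠ -1 → IsZero ((HH R i).obj W) := by
    intro i hi
    refine (HomologySequence.exact₁ _ hT (i - 1) i (by omega)).isZero_of_both_zeros ?_ ?_
    · by_cases h1 : i = 1
      · subst h1
        exact (HomologySequence.epi_homologyMap_mor₂_iff _ hT 0 1 rfl).1
          (by show Epi ((HH R 0).map ρ); infer_instance)
      · exact (hM (i - 1) (by omega)).eq_of_src _ _
    · by_cases h0 : i = 0
      · subst h0
        exact (HomologySequence.mono_homologyMap_mor₂_iff _ hT 0).1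
          (by show Mono ((HH R 0).map ρ); infer_instance)
      · exact (hKz i hi h0).eq_of_tgt _ _
  have hmono : Mono ((HH R (-1)).map γ') :=
    (HomologySequence.exact₁ _ hT (-2) (-1) (by simp)).mono_g
      ((hM (-2) (by decide)).eq_of_src _ _)
  have haW : a • 𝟙 W = 0 := smul_id_eq_zero_of_conc W (-1) hW a (fun y => by
    have h1 : ((HH R (-1)).map γ').hom (a • y) = 0 := by
      rw [map_smul, ha]
    exact (ModuleCat.mono_iff_injective _).1 hmono (h1.trans (map_zero _).symm))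
  have h1 : γ' ≫ (a • ξ) = 0 := by
    rw [Linear.comp_smul, ← Linear.smul_comp, ← Category.id_comp γ', ← Linear.smul_comp, haW,
      zero_comp, zero_comp]
  obtain ⟨η, hη⟩ : ∃ η : (SS R).obj ((HH R 0).obj K) ⟶ ((SS R).obj N)⟦(1 : ℤ)⟧, a • ξ = ρ ≫ η :=
    Triangle.yoneda_exact₂ _ hT (a • ξ) h1
  rw [mul_comm, mul_smul, hη, ← Linear.comp_smul, hb η, comp_zero]

end Groth.Agent.Lib.helper23.DTwoTerm
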