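import Mathlib
import Groth.Agent.Lib.Helper23.DTwoTerm5

set_option autoImplicit false
universe u
open CategoryTheory CategoryTheory.Limits DerivedCategory Pretriangulated
open CochainComplex HomComplex

attribute [local instance] HasDerivedCategory.standard

namespace Groth.Agent.Lib.helper23.DTwoTerm

variable {R : Type u} [CommRing R]

/-- the chain map `E⁰[0] ⟶ E` for a complex with `E¹ = 0` -/
noncomputable def iota0 (E : CochainComplex (ModuleCat.{u} R) ℤ) (hE1 : IsZero (E.X 1)) :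
    (CochainComplex.singleFunctor (ModuleCat.{u} R) 0).obj (E.X 0) ⟶ E :=
  HomologicalComplex.mkHomFromSingle (𝟙 (E.X 0)) (fun k hk => by
    obtain rfl : k = 1 := by simpa using hk.symm
    exact hE1.eq_of_tgt _ _)

lemma ofHom_iota0 (E : CochainComplex (ModuleCat.{u} R) ℤ) (hE1 : IsZero (E.X 1)) :
    Cochain.ofHom (iota0 E hE1) =
      Cochain.fromSingleMk (𝟙 (E.X 0)) (show (0 : ℤ) + 0 = 0 by simp) := by
  apply (Cochain.fromSingleEquiv (X := E.X 0) (K := E) (show (0 : ℤ) + 0 = 0 by simp)).injective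
  simp [Cochain.fromSingleEquiv, iota0]

/-- comparison map `twoTerm (E.d (-1) 0) ⟶ E` -/
noncomputable def twoTermDesc (E : CochainComplex (ModuleCat.{u} R) ℤ) (hE1 : IsZero (E.X 1)) :
    twoTerm (E.d (-1) 0) ⟶ E :=
  mappingCone.desc _
    (Cochain.fromSingleMk (𝟙 (E.X (-1))) (show (0 : ℤ) + (-1) = -1 by simp))
    (iota0 E hE1)
    (by
      rw [Cochain.δ_fromSingleMk _ _ 0 0 (by simp), Cochain.ofHom_comp, ofHom_iota0,
        ← Cochain.fromSingleMk_precomp, Category.id_comp, Category.comp_id])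

lemma isIso_twoTermDesc (E : CochainComplex (ModuleCat.{u} R) ℤ)
    (hE : ∀ i : ℤ, i < -1 ∨ 0 < i → IsZero (E.X i)) :
    IsIso (twoTermDesc E (hE 1 (Or.inr (by decide)))) := by
  have hcomp : ∀ i : ℤ, IsIso ((twoTermDesc E (hE 1 (Or.inr (by decide)))).f i) := by
    intro i
    by_cases h0 : i = 0
    · subst h0
      -- degree 0
      let φ := (CochainComplex.singleFunctor (ModuleCat.{u} R) 0).map (E.d (-1) 0)
      have hf : (twoTermDesc E (hE 1 (Or.inr (by decide)))).f 0 =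
          (mappingCone.snd φ).v 0 0 (add_zero 0) ≫ (iota0 E (hE 1 (Or.inr (by decide)))).f 0 := by
        rw [twoTermDesc, mappingCone.desc_f _ _ _ _ 0 1 (by simp),
          Cochain.fromSingleMk_v_eq_zero _ _ 1 0 (by simp) (by decide), comp_zero, zero_add]
      have h1 : IsIso ((mappingCone.snd φ).v 0 0 (add_zero 0)) := by
        refine ⟨(mappingCone.inr φ).f 0, ?_, mappingCone.inr_f_snd_v φ 0⟩
        have := mappingCone.id_X φ 0 1 (by simp)
        have hz : (mappingCone.fst φ).1.v 0 1 (by simp) = 0 :=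
          (HomologicalComplex.isZero_single_obj_X (ComplexShape.up ℤ) 0 (E.X (-1)) 1
            (by decide)).eq_of_tgt _ _
        rw [hz, zero_comp, zero_add] at this
        exact this
      have h2 : IsIso ((iota0 E (hE 1 (Or.inr (by decide)))).f 0) := by
        rw [iota0, HomologicalComplex.mkHomFromSingle_f, Category.comp_id]
        infer_instance
      rw [hf]
      infer_instance
    · by_cases h1 : i = -1
      · subst h1
        let φ := (CochainComplex.singleFunctor (ModuleCat.{u} R) 0).map (E.d (-1) 0)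
        have hf : (twoTermDesc E (hE 1 (Or.inr (by decide)))).f (-1) =
            (mappingCone.fst φ).1.v (-1) 0 (by simp) ≫
              (HomologicalComplex.singleObjXSelf (ComplexShape.up ℤ) 0 (E.X (-1))).hom := by
          rw [twoTermDesc, mappingCone.desc_f _ _ _ _ (-1) 0 (by simp),
            Cochain.fromSingleMk_v, Category.comp_id]
          have hz : (mappingCone.snd φ).v (-1) (-1) (add_zero (-1)) = 0 :=
            (HomologicalComplex.isZero_single_obj_X (ComplexShape.up ℤ) 0 (E.X 0) (-1)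
              (by decide)).eq_of_tgt _ _
          rw [hz, zero_comp, add_zero]
        have h1 : IsIso ((mappingCone.fst φ).1.v (-1) 0 (by simp)) := by
          refine ⟨(mappingCone.inl φ).v 0 (-1) (by simp), ?_, mappingCone.inl_v_fst_v φ 0 (-1) (by simp)⟩
          have := mappingCone.id_X φ (-1) 0 (by simp)
          have hz : (mappingCone.snd φ).v (-1) (-1) (add_zero (-1)) = 0 :=
            (HomologicalComplex.isZero_single_obj_X (ComplexShape.up ℤ) 0 (E.X 0) (-1)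
              (by decide)).eq_of_tgt _ _
          rw [hz, zero_comp, add_zero] at this
          exact this
        rw [hf]
        infer_instance
      · have hi : i < -1 ∨ 0 < i := by omega
        exact ⟨0, (twoTerm_isZero (E.d (-1) 0) i hi).eq_of_src _ _, (hE i hi).eq_of_src _ _⟩
  exact HomologicalComplex.Hom.isIso_of_components _

/-- **Fact B**: the distinguished triangle of a two-term complex. -/
theorem exists_triangle_of_twoTerm (E : CochainComplex (ModuleCat.{u} R) ℤ)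
    (hE : ∀ i : ℤ, i < -1 ∨ 0 < i → IsZero (E.X i)) :
    ∃ (ι : (SS R).obj (E.X 0) ⟶ Q.obj E) (ξ : Q.obj E ⟶ ((SS R).obj (E.X (-1)))⟦(1 : ℤ)⟧),
      Triangle.mk ((SS R).map (E.d (-1) 0)) ι ξ ∈ distTriang _ := by
  haveI := isIso_twoTermDesc E hE
  let ψ := twoTermDesc E (hE 1 (Or.inr (by decide)))
  let φ := (CochainComplex.singleFunctor (ModuleCat.{u} R) 0).map (E.d (-1) 0)
  let e : Q.obj (twoTerm (E.d (-1) 0)) ≅ Q.obj E := Q.mapIso (asIso ψ)
  let m₂ : (SS R).obj (E.X 0) ⟶ Q.obj (twoTerm (E.d (-1) 0)) :=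
    (Q.mapTriangle.obj (mappingCone.triangle φ)).mor₂
  let m₃ : Q.obj (twoTerm (E.d (-1) 0)) ⟶ ((SS R).obj (E.X (-1)))⟦(1 : ℤ)⟧ :=
    (Q.mapTriangle.obj (mappingCone.triangle φ)).mor₃
  have hT : Triangle.mk ((SS R).map (E.d (-1) 0)) m₂ m₃ ∈ distTriang _ :=
    mappingCone_triangle_distinguished φ
  refine ⟨m₂ ≫ e.hom, e.inv ≫ m₃, ?_⟩
  refine isomorphic_distinguished _ hT _ ?_
  refine Triangle.isoMk _ _ (Iso.refl _) (Iso.refl _) e.symm ?_ ?_ ?_
  · show (SS R).map (E.d (-1) 0) ≫ 𝟙 _ = 𝟙 _ ≫ (SS R).map (E.d (-1) 0)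
    rw [Category.comp_id, Category.id_comp]
  · show (m₂ ≫ e.hom) ≫ e.inv = 𝟙 _ ≫ m₂
    rw [Category.assoc, Iso.hom_inv_id, Category.comp_id, Category.id_comp]
  · show (e.inv ≫ m₃) ≫
      (CategoryTheory.shiftFunctor (DerivedCategory (ModuleCat.{u} R)) (1 : ℤ)).map (𝟙 _) =
      e.inv ≫ m₃
    rw [CategoryTheory.Functor.map_id, Category.comp_id]

lemma hom_proj_shift_eq_zero (P : ModuleCat.{u} R) [Projective P] (N : ModuleCat.{u} R)
    (f : (SS R).obj P ⟶ ((SS R).obj N)⟦(1 : ℤ)⟧) : f = 0 := by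
  have hW : IsZero ((HH R 0).obj (((SS R).obj N)⟦(1 : ℤ)⟧)) := by
    have iso : (HH R 0).obj (((SS R).obj N)⟦(1 : ℤ)⟧) ≅ (HH R 1).obj ((SS R).obj N) :=
      ((HH R 0).shiftIso (1 : ℤ) (0 : ℤ) (1 : ℤ) (by simp)).app ((SS R).obj N)
    exact (isZero_of_isLE ((SS R).obj N) 0 1 (by simp)).of_iso iso
  exact (ProjHom.bijective_homologyFunctor_map (P := P) _).1 (hW.eq_of_tgt _ _)

theorem factor_of_smul_eq_zero (E : CochainComplex (ModuleCat.{u} R) ℤ)
    (hE : ∀ i : ℤ, i < -1 ∨ 0 < i → IsZero (E.X i)) (a : R)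
    (ha : ∀ ξ : Q.obj E ⟶ ((SS R).obj (E.X (-1)))⟦(1 : ℤ)⟧, a • ξ = 0) :
    ∃ h : E.X 0 ⟶ E.X (-1), E.d (-1) 0 ≫ h = a • 𝟙 (E.X (-1)) := by
  obtain ⟨ι, ξ, hT⟩ := exists_triangle_of_twoTerm E hE
  have hrot := rot_of_distTriang _ hT
  have h0 : ξ ≫ (a • 𝟙 (((SS R).obj (E.X (-1)))⟦(1 : ℤ)⟧)) = 0 := by
    rw [Linear.comp_smul, Category.comp_id]
    exact ha ξ
  obtain ⟨g, hg⟩ : ∃ g : ((SS R).obj (E.X 0))⟦(1 : ℤ)⟧ ⟶ ((SS R).obj (E.X (-1)))⟦(1 : ℤ)⟧,
      a • 𝟙 (((SS R).obj (E.X (-1)))⟦(1 : ℤ)⟧) = (-((SS R).map (E.d (-1) 0))⟦(1 : ℤ)⟧') ≫ g :=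
    Triangle.yoneda_exact₃ _ hrot _ h0
  obtain ⟨g', rfl⟩ := (CategoryTheory.shiftFunctor (DerivedCategory (ModuleCat.{u} R))
    (1 : ℤ)).map_surjective g
  obtain ⟨h', rfl⟩ := (SS R).map_surjective g'
  refine ⟨-h', ?_⟩
  apply (SS R).map_injective
  apply (CategoryTheory.shiftFunctor (DerivedCategory (ModuleCat.{u} R)) (1 : ℤ)).map_injective
  rw [CategoryTheory.Functor.map_smul, CategoryTheory.Functor.map_smul,
    CategoryTheory.Functor.map_id, CategoryTheory.Functor.map_id, hg]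
  simp

theorem smul_eq_zero_of_factor (E : CochainComplex (ModuleCat.{u} R) ℤ)
    (hE : ∀ i : ℤ, i < -1 ∨ 0 < i → IsZero (E.X i)) [Projective (E.X 0)] (a : R)
    (h : E.X 0 ⟶ E.X (-1)) (hh : E.d (-1) 0 ≫ h = a • 𝟙 (E.X (-1))) (N : ModuleCat.{u} R)
    (ξ : Q.obj E ⟶ ((SS R).obj N)⟦(1 : ℤ)⟧) : a • ξ = 0 := by
  obtain ⟨ι, ξE, hT⟩ := exists_triangle_of_twoTerm E hE
  have h1 : ι ≫ ξ = 0 := hom_proj_shift_eq_zero _ _ _
  obtain ⟨w, hw⟩ : ∃ w : ((SS R).obj (E.X (-1)))⟦(1 : ℤ)⟧ ⟶ ((SS R).obj N)⟦(1 : ℤ)⟧,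
      ξ = ξE ≫ w := Triangle.yoneda_exact₃ _ hT ξ h1
  have h2 : ξE ≫ ((SS R).map (E.d (-1) 0))⟦(1 : ℤ)⟧' = 0 := comp_distTriang_mor_zero₃₁ _ hT
  have h3 : a • 𝟙 (((SS R).obj (E.X (-1)))⟦(1 : ℤ)⟧) =
      ((SS R).map (E.d (-1) 0))⟦(1 : ℤ)⟧' ≫ ((SS R).map h)⟦(1 : ℤ)⟧' := by
    rw [← CategoryTheory.Functor.map_comp, ← CategoryTheory.Functor.map_comp, hh,
      CategoryTheory.Functor.map_smul, CategoryTheory.Functor.map_smul,
      CategoryTheory.Functor.map_id, CategoryTheory.Functor.map_id]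
  calc a • ξ = ξE ≫ (a • 𝟙 _) ≫ w := by
        rw [hw, Linear.smul_comp, Category.id_comp, Linear.comp_smul]
    _ = 0 := by rw [h3, Category.assoc, ← Category.assoc, h2, zero_comp]

end Groth.Agent.Lib.helper23.DTwoTerm
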