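import Mathlib
import Groth.Agent.Lib.Helper23.DTwoTerm6

set_option autoImplicit false
universe u
open CategoryTheory CategoryTheory.Limits DerivedCategory Pretriangulated
open CochainComplex HomComplex

attribute [local instance] HasDerivedCategory.standard

namespace Groth.Agent.Lib.helper23.DTwoTerm

variable {R : Type u} [CommRing R]

/-- the map of single complexes `E⁻¹[0] ⟶ E⁰[0]` -/
noncomputable abbrev phiOf (E : CochainComplex (ModuleCat.{u} R) ℤ) :
    (CochainComplex.singleFunctor (ModuleCat.{u} R) 0).obj (E.X (-1)) ⟶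
      (CochainComplex.singleFunctor (ModuleCat.{u} R) 0).obj (E.X 0) :=
  (CochainComplex.singleFunctor (ModuleCat.{u} R) 0).map (E.d (-1) 0)

lemma phi_comm {M K : CochainComplex (ModuleCat.{u} R) ℤ} (a : M ⟶ K) :
    phiOf M ≫ (CochainComplex.singleFunctor (ModuleCat.{u} R) 0).map (a.f 0) =
      (CochainComplex.singleFunctor (ModuleCat.{u} R) 0).map (a.f (-1)) ≫ phiOf K := by
  rw [← CategoryTheory.Functor.map_comp, ← CategoryTheory.Functor.map_comp, a.comm (-1) 0]

lemma single_map_iota0 {M K : CochainComplex (ModuleCat.{u} R) ℤ} (a : M ⟶ K)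
    (hM1 : IsZero (M.X 1)) (hK1 : IsZero (K.X 1)) :
    (CochainComplex.singleFunctor (ModuleCat.{u} R) 0).map (a.f 0) ≫ iota0 K hK1 =
      iota0 M hM1 ≫ a := by
  apply HomologicalComplex.from_single_hom_ext
  simp [iota0, CochainComplex.singleFunctor, CochainComplex.singleFunctors,
    HomologicalComplex.single_map_f_self]

/-- chain-level compatibility of the comparison maps with a chain map -/
lemma map_twoTermDesc {M K : CochainComplex (ModuleCat.{u} R) ℤ} (a : M ⟶ K)
    (hM1 : IsZero (M.X 1)) (hK1 : IsZero (K.X 1)) :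
    mappingCone.map (phiOf M) (phiOf K)
        ((CochainComplex.singleFunctor (ModuleCat.{u} R) 0).map (a.f (-1)))
        ((CochainComplex.singleFunctor (ModuleCat.{u} R) 0).map (a.f 0)) (phi_comm a) ≫
      twoTermDesc K hK1 = twoTermDesc M hM1 ≫ a := by
  refine HomologicalComplex.hom_ext _ _ (fun n => ?_)
  rw [mappingCone.ext_from_iff _ (n + 1) n rfl]
  constructor
  · have h1 := Cochain.congr_v (Cochain.fromSingleMk_precomp (a.f (-1)) (𝟙 (K.X (-1)))
      (show (0 : ℤ) + (-1) = -1 by simp) (K := K)) (n + 1) n (by omega)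
    have h2 := Cochain.congr_v (Cochain.fromSingleMk_postcomp (𝟙 (M.X (-1)))
      (show (0 : ℤ) + (-1) = -1 by simp) a) (n + 1) n (by omega)
    rw [Category.comp_id] at h1
    rw [Category.id_comp] at h2
    simp only [HomologicalComplex.comp_f, twoTermDesc, mappingCone.map,
      mappingCone.inl_v_desc_f_assoc, mappingCone.inl_v_desc_f, Cochain.zero_cochain_comp_v,
      Cochain.ofHom_v, Category.assoc]
    rw [Cochain.zero_cochain_comp_v, Cochain.ofHom_v] at h1
    rw [Cochain.comp_zero_cochain_v, Cochain.ofHom_v] at h2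
    rw [← h1, ← h2]
  · have h3 := congrArg (fun f => f.f n) (single_map_iota0 a hM1 hK1)
    simp only [HomologicalComplex.comp_f] at h3
    simp only [HomologicalComplex.comp_f, twoTermDesc, mappingCone.map,
      mappingCone.inr_f_desc_f_assoc, mappingCone.inr_f_desc_f, Category.assoc]
    exact h3

noncomputable def m2 (E : CochainComplex (ModuleCat.{u} R) ℤ) :
    (SS R).obj (E.X 0) ⟶ Q.obj (twoTerm (E.d (-1) 0)) :=
  (Q.mapTriangle.obj (mappingCone.triangle (phiOf E))).mor₂

noncomputable def m3 (E : CochainComplex (ModuleCat.{u} R) ℤ) :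
    Q.obj (twoTerm (E.d (-1) 0)) ⟶ ((SS R).obj (E.X (-1)))⟦(1 : ℤ)⟧ :=
  (Q.mapTriangle.obj (mappingCone.triangle (phiOf E))).mor₃

lemma m_dist (E : CochainComplex (ModuleCat.{u} R) ℤ) :
    Triangle.mk ((SS R).map (E.d (-1) 0)) (m2 E) (m3 E) ∈ distTriang _ :=
  mappingCone_triangle_distinguished (phiOf E)

lemma map_m3 {M K : CochainComplex (ModuleCat.{u} R) ℤ} (a : M ⟶ K) :
    Q.map (mappingCone.map (phiOf M) (phiOf K)
        ((CochainComplex.singleFunctor (ModuleCat.{u} R) 0).map (a.f (-1)))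
        ((CochainComplex.singleFunctor (ModuleCat.{u} R) 0).map (a.f 0)) (phi_comm a)) ≫ m3 K =
      m3 M ≫ ((SS R).map (a.f (-1)))⟦(1 : ℤ)⟧' :=
  ((Q.mapTriangle.map (mappingCone.triangleMap (phiOf M) (phiOf K) _ _ (phi_comm a))).comm₃).symm

/-- the key identity -/
lemma key_identity {M K : CochainComplex (ModuleCat.{u} R) ℤ} (a : M ⟶ K)
    (hM1 : IsZero (M.X 1)) (hK1 : IsZero (K.X 1)) [IsIso (twoTermDesc K hK1)] :
    Q.map (twoTermDesc M hM1) ≫ Q.map a ≫ inv (Q.map (twoTermDesc K hK1)) ≫ m3 K =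
      m3 M ≫ ((SS R).map (a.f (-1)))⟦(1 : ℤ)⟧' := by
  rw [← map_m3 a, ← Category.assoc, ← CategoryTheory.Functor.map_comp, ← map_twoTermDesc a hM1 hK1,
    CategoryTheory.Functor.map_comp, Category.assoc, IsIso.hom_inv_id_assoc]

lemma isIso_twoTermDesc_f (E : CochainComplex (ModuleCat.{u} R) ℤ)
    (hE : ∀ i : ℤ, 0 < i → IsZero (E.X i)) (i : ℤ) (hi : -1 ≤ i) :
    IsIso ((twoTermDesc E (hE 1 (by decide))).f i) := by
  by_cases h0 : i = 0
  · subst h0
    let φ := (CochainComplex.singleFunctor (ModuleCat.{u} R) 0).map (E.d (-1) 0)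
    have hf : (twoTermDesc E (hE 1 (by decide))).f 0 =
        (mappingCone.snd φ).v 0 0 (add_zero 0) ≫ (iota0 E (hE 1 (by decide))).f 0 := by
      rw [twoTermDesc, mappingCone.desc_f _ _ _ _ 0 1 (by simp),
        Cochain.fromSingleMk_v_eq_zero _ _ 1 0 (by simp) (by decide), comp_zero, zero_add]
    have h1 : IsIso ((mappingCone.snd φ).v 0 0 (add_zero 0)) := by
      refine ⟨(mappingCone.inr φ).f 0, ?_, mappingCone.inr_f_snd_v φ 0⟩
      have := mappingCone.id_X φ 0 1 (by simp)
      have hz : (mappingCone.fst φ).1.v 0 1 (by simp) = 0 :=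
        (HomologicalComplex.isZero_single_obj_X (ComplexShape.up ℤ) 0 (E.X (-1)) 1
          (by decide)).eq_of_tgt _ _
      rw [hz, zero_comp, zero_add] at this
      exact this
    have h2 : IsIso ((iota0 E (hE 1 (by decide))).f 0) := by
      rw [iota0, HomologicalComplex.mkHomFromSingle_f, Category.comp_id]
      infer_instance
    rw [hf]
    infer_instance
  · by_cases h1 : i = -1
    · subst h1
      let φ := (CochainComplex.singleFunctor (ModuleCat.{u} R) 0).map (E.d (-1) 0)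
      have hf : (twoTermDesc E (hE 1 (by decide))).f (-1) =
          (mappingCone.fst φ).1.v (-1) 0 (by simp) ≫
            (HomologicalComplex.singleObjXSelf (ComplexShape.up ℤ) 0 (E.X (-1))).hom := by
        rw [twoTermDesc, mappingCone.desc_f _ _ _ _ (-1) 0 (by simp),
          Cochain.fromSingleMk_v, Category.comp_id]
        have hz : (mappingCone.snd φ).v (-1) (-1) (add_zero (-1)) = 0 :=
          (HomologicalComplex.isZero_single_obj_X (ComplexShape.up ℤ) 0 (E.X 0) (-1)
            (by decide)).eq_of_tgt _ _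
        rw [hz, zero_comp, add_zero]
      have h1 : IsIso ((mappingCone.fst φ).1.v (-1) 0 (by simp)) := by
        refine ⟨(mappingCone.inl φ).v 0 (-1) (by simp), ?_,
          mappingCone.inl_v_fst_v φ 0 (-1) (by simp)⟩
        have := mappingCone.id_X φ (-1) 0 (by simp)
        have hz : (mappingCone.snd φ).v (-1) (-1) (add_zero (-1)) = 0 :=
          (HomologicalComplex.isZero_single_obj_X (ComplexShape.up ℤ) 0 (E.X 0) (-1)
            (by decide)).eq_of_tgt _ _
        rw [hz, zero_comp, add_zero] at this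
        exact this
      rw [hf]
      infer_instance
    · have hi' : 0 < i := by omega
      exact ⟨0, (twoTerm_isZero (E.d (-1) 0) i (Or.inr hi')).eq_of_src _ _,
        (hE i hi').eq_of_src _ _⟩

lemma isIso_homologyMap_twoTermDesc (E : CochainComplex (ModuleCat.{u} R) ℤ)
    (hE : ∀ i : ℤ, 0 < i → IsZero (E.X i)) :
    IsIso (HomologicalComplex.homologyMap (twoTermDesc E (hE 1 (by decide))) 0) := by
  have h1 : IsIso ((twoTermDesc E (hE 1 (by decide))).f ((ComplexShape.up ℤ).prev 0)) :=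
    isIso_twoTermDesc_f E hE _ (by simp)
  have h2 : IsIso ((twoTermDesc E (hE 1 (by decide))).f 0) :=
    isIso_twoTermDesc_f E hE _ (by simp)
  have h3 : IsIso ((twoTermDesc E (hE 1 (by decide))).f ((ComplexShape.up ℤ).next 0)) :=
    isIso_twoTermDesc_f E hE _ (by simp)
  exact ShortComplex.isIso_homologyMap_of_epi_of_isIso_of_mono'
    ((HomologicalComplex.shortComplexFunctor (ModuleCat.{u} R) (ComplexShape.up ℤ) 0).map
      (twoTermDesc E (hE 1 (by decide))))
    (by show Epi ((twoTermDesc E (hE 1 (by decide))).f ((ComplexShape.up ℤ).prev 0)); infer_instance)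
    h2
    (by show Mono ((twoTermDesc E (hE 1 (by decide))).f ((ComplexShape.up ℤ).next 0)); infer_instance)

lemma epi_homologyMap_twoTermDesc (E : CochainComplex (ModuleCat.{u} R) ℤ)
    (hE : ∀ i : ℤ, 0 < i → IsZero (E.X i)) :
    Epi (HomologicalComplex.homologyMap (twoTermDesc E (hE 1 (by decide))) (-1)) := by
  have h2 : IsIso ((twoTermDesc E (hE 1 (by decide))).f (-1)) :=
    isIso_twoTermDesc_f E hE _ (by simp)
  have h3 : IsIso ((twoTermDesc E (hE 1 (by decide))).f ((ComplexShape.up ℤ).next (-1))) :=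
    isIso_twoTermDesc_f E hE _ (by simp)
  have hc : IsIso (ShortComplex.cyclesMap
      ((HomologicalComplex.shortComplexFunctor (ModuleCat.{u} R) (ComplexShape.up ℤ) (-1)).map
        (twoTermDesc E (hE 1 (by decide))))) :=
    ShortComplex.isIso_cyclesMap_of_isIso_of_mono' _ h2
      (by show Mono ((twoTermDesc E (hE 1 (by decide))).f ((ComplexShape.up ℤ).next (-1)));
          infer_instance)
  exact ShortComplex.epi_homologyMap_of_epi_cyclesMap' _ inferInstance

noncomputable def facIso (E : CochainComplex (ModuleCat.{u} R) ℤ) (i : ℤ) :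
    (HH R i).obj (Q.obj E) ≅ E.homology i :=
  (homologyFunctorFactors (ModuleCat.{u} R) i).app E

lemma HH_Q_map_eq {E M : CochainComplex (ModuleCat.{u} R) ℤ} (φ : E ⟶ M) (i : ℤ) :
    (HH R i).map (Q.map φ) =
      (facIso E i).hom ≫ HomologicalComplex.homologyMap φ i ≫ (facIso M i).inv := by
  have h5 : (HH R i).map (Q.map φ) ≫ (facIso M i).hom =
      (facIso E i).hom ≫ HomologicalComplex.homologyMap φ i :=
    (homologyFunctorFactors (ModuleCat.{u} R) i).hom.naturality φ
  rw [← Category.assoc, ← h5, Category.assoc, Iso.hom_inv_id, Category.comp_id]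

lemma isZero_HH_Q (M : CochainComplex (ModuleCat.{u} R) ℤ) (i : ℤ) (h : IsZero (M.X i)) :
    IsZero ((HH R i).obj (Q.obj M)) :=
  IsZero.of_iso (ShortComplex.isZero_homology_of_isZero_X₂ (M.sc i) h)
    ((homologyFunctorFactors (ModuleCat.{u} R) i).app M)

theorem precomp_injective_of_cone {K K' Y : DerivedCategory (ModuleCat.{u} R)} (α : K ⟶ K')
    (hK : ∀ i : ℤ, 0 < i → IsZero ((HH R i).obj K))
    (hK' : ∀ i : ℤ, 0 < i → IsZero ((HH R i).obj K'))
    (h0 : IsIso ((HH R 0).map α)) (h1 : Epi ((HH R (-1)).map α))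
    [DerivedCategory.TStructure.t.IsGE Y (-1)] (x : K' ⟶ Y) (hx : α ≫ x = 0) : x = 0 := by
  obtain ⟨C', β, γ, hT⟩ := distinguished_cocone_triangle α
  haveI : C'.IsLE (-2) := by
    rw [DerivedCategory.isLE_iff]
    intro i hi
    by_cases hm1 : i = -1
    · subst hm1
      refine (HomologySequence.exact₃ _ hT (-1) 0 (by simp)).isZero_of_both_zeros ?_ ?_
      · exact (HomologySequence.epi_homologyMap_mor₁_iff _ hT (-1)).1 h1
      · exact (HomologySequence.mono_homologyMap_mor₁_iff _ hT (-1) 0 (by simp)).1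
          (by show Mono ((HH R 0).map α); infer_instance)
    · by_cases h00 : i = 0
      · subst h00
        refine Conc.isZero_homology₃_of_epi _ hT 0 1 rfl ?_ (hK 1 (by decide))
        show Epi ((HH R 0).map α)
        infer_instance
      · exact Conc.isZero_homology₃ _ hT i (i + 1) rfl (hK' i (by omega)) (hK (i + 1) (by omega))
  obtain ⟨g, hg⟩ : ∃ g : C' ⟶ Y, x = β ≫ g := Triangle.yoneda_exact₂ _ hT x hx
  have hg0 : g = 0 := DerivedCategory.TStructure.t.zero g (-2) (-1) (by decide)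
  rw [hg, hg0, comp_zero]

/-- precomposition with `Q(twoTermDesc M)` is injective on maps into `N[1]` -/
theorem precomp_twoTermDesc_injective (M : CochainComplex (ModuleCat.{u} R) ℤ)
    (hM : ∀ i : ℤ, 0 < i → IsZero (M.X i)) (N : ModuleCat.{u} R)
    (x : Q.obj M ⟶ ((SS R).obj N)⟦(1 : ℤ)⟧)
    (hx : Q.map (twoTermDesc M (hM 1 (by decide))) ≫ x = 0) : x = 0 := by
  haveI : DerivedCategory.TStructure.t.IsGE (((SS R).obj N)⟦(1 : ℤ)⟧) (-1) :=
    DerivedCategory.TStructure.t.isGE_shift _ 0 1 (-1) (by lia)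
  refine precomp_injective_of_cone (Q.map (twoTermDesc M (hM 1 (by decide)))) ?_ ?_ ?_ ?_ x hx
  · intro i hi
    exact isZero_HH_Q _ i (twoTerm_isZero _ i (Or.inr hi))
  · intro i hi
    exact isZero_HH_Q _ i (hM i hi)
  · rw [HH_Q_map_eq]
    haveI := isIso_homologyMap_twoTermDesc M hM
    infer_instance
  · rw [HH_Q_map_eq]
    haveI := epi_homologyMap_twoTermDesc M hM
    infer_instance

lemma triangle_of_twoTerm_dist (E : CochainComplex (ModuleCat.{u} R) ℤ) (hE1 : IsZero (E.X 1))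
    [IsIso (twoTermDesc E hE1)] :
    Triangle.mk ((SS R).map (E.d (-1) 0)) (m2 E ≫ Q.map (twoTermDesc E hE1))
      (inv (Q.map (twoTermDesc E hE1)) ≫ m3 E) ∈ distTriang _ := by
  let e : Q.obj (twoTerm (E.d (-1) 0)) ≅ Q.obj E := asIso (Q.map (twoTermDesc E hE1))
  refine isomorphic_distinguished _ (m_dist E) _ ?_
  refine Triangle.isoMk _ _ (Iso.refl _) (Iso.refl _) e.symm ?_ ?_ ?_
  · show (SS R).map (E.d (-1) 0) ≫ 𝟙 _ = 𝟙 _ ≫ (SS R).map (E.d (-1) 0)
    rw [Category.comp_id, Category.id_comp]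
  · show (m2 E ≫ e.hom) ≫ e.inv = 𝟙 _ ≫ m2 E
    rw [Category.assoc, Iso.hom_inv_id, Category.comp_id, Category.id_comp]
  · show (e.inv ≫ m3 E) ≫
      (CategoryTheory.shiftFunctor (DerivedCategory (ModuleCat.{u} R)) (1 : ℤ)).map (𝟙 _) =
      e.inv ≫ m3 E
    rw [CategoryTheory.Functor.map_id, Category.comp_id]

theorem ext_one_map_zero_iff (M K : CochainComplex (ModuleCat.{u} R) ℤ)
    (hM : ∀ i : ℤ, 0 < i → IsZero (M.X i))
    (hK : ∀ i : ℤ, i ≠ -1 → i ≠ 0 → IsZero (K.X i)) [Projective (K.X 0)] (a : M ⟶ K) :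
    (∀ (N : ModuleCat.{u} R) (ξ : Q.obj K ⟶ ((SS R).obj N)⟦(1 : ℤ)⟧), Q.map a ≫ ξ = 0) ↔
      ∃ h : M.X 0 ⟶ K.X (-1), a.f (-1) + M.d (-1) 0 ≫ h = 0 := by
  have hK' : ∀ i : ℤ, i < -1 ∨ 0 < i → IsZero (K.X i) := fun i hi => hK i (by omega) (by omega)
  have hK1 : IsZero (K.X 1) := hK' 1 (Or.inr (by decide))
  have hM1 : IsZero (M.X 1) := hM 1 (by decide)
  haveI : IsIso (twoTermDesc K hK1) := isIso_twoTermDesc K hK'
  have hTK := triangle_of_twoTerm_dist K hK1
  have key := key_identity a hM1 hK1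
  constructor
  · intro h
    have h1 := h (K.X (-1)) (inv (Q.map (twoTermDesc K hK1)) ≫ m3 K)
    have h2 : m3 M ≫ ((SS R).map (a.f (-1)))⟦(1 : ℤ)⟧' = 0 := by
      rw [← key, h1, comp_zero]
    have hrot := rot_of_distTriang _ (m_dist M)
    obtain ⟨g, hg⟩ : ∃ g : ((SS R).obj (M.X 0))⟦(1 : ℤ)⟧ ⟶ ((SS R).obj (K.X (-1)))⟦(1 : ℤ)⟧,
        ((SS R).map (a.f (-1)))⟦(1 : ℤ)⟧' = (-((SS R).map (M.d (-1) 0))⟦(1 : ℤ)⟧') ≫ g :=
      Triangle.yoneda_exact₃ _ hrot _ h2
    obtain ⟨g', rfl⟩ := (CategoryTheory.shiftFunctor (DerivedCategory (ModuleCat.{u} R))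
      (1 : ℤ)).map_surjective g
    obtain ⟨h', rfl⟩ := (SS R).map_surjective g'
    refine ⟨h', ?_⟩
    apply (SS R).map_injective
    apply (CategoryTheory.shiftFunctor (DerivedCategory (ModuleCat.{u} R)) (1 : ℤ)).map_injective
    rw [CategoryTheory.Functor.map_add, CategoryTheory.Functor.map_add, hg]
    simp
  · rintro ⟨h, hh⟩ N ξ
    have h1 : (m2 K ≫ Q.map (twoTermDesc K hK1)) ≫ ξ = 0 := hom_proj_shift_eq_zero _ _ _
    obtain ⟨w, hw⟩ : ∃ w : ((SS R).obj (K.X (-1)))⟦(1 : ℤ)⟧ ⟶ ((SS R).obj N)⟦(1 : ℤ)⟧,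
        ξ = (inv (Q.map (twoTermDesc K hK1)) ≫ m3 K) ≫ w := Triangle.yoneda_exact₃ _ hTK ξ h1
    have hx : Q.map a ≫ inv (Q.map (twoTermDesc K hK1)) ≫ m3 K = 0 := by
      apply precomp_twoTermDesc_injective M hM
      rw [key]
      have h3 : a.f (-1) = - (M.d (-1) 0 ≫ h) := eq_neg_of_add_eq_zero_left hh
      rw [h3, CategoryTheory.Functor.map_neg, CategoryTheory.Functor.map_neg,
        CategoryTheory.Functor.map_comp, CategoryTheory.Functor.map_comp, Preadditive.comp_neg,
        ← Category.assoc]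
      have h4 : m3 M ≫ ((SS R).map (M.d (-1) 0))⟦(1 : ℤ)⟧' = 0 :=
        comp_distTriang_mor_zero₃₁ _ (m_dist M)
      rw [h4, zero_comp, neg_zero]
    rw [hw, ← Category.assoc, hx, zero_comp]

end Groth.Agent.Lib.helper23.DTwoTerm
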