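import Mathlib
import Groth.Agent.Lib.Helper23.DTwoTerm7

set_option autoImplicit false
universe u
open CategoryTheory CategoryTheory.Limits DerivedCategory Pretriangulated
open CochainComplex HomComplex

attribute [local instance] HasDerivedCategory.standard

namespace Groth.Agent.Lib.helper23.DTwoTerm

variable {R : Type u} [CommRing R]

/-- **Fact A**: chain maps from a complex in degrees `≤ 0` with projective top term to an acyclic
complex vanishing in degrees `≤ -3` are null-homotopic. -/
theorem homotopy_zero_of_acyclic {M A : CochainComplex (ModuleCat.{u} R) ℤ}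
    (hM : ∀ i : ℤ, 0 < i → IsZero (M.X i)) [Projective (M.X 0)]
    (hA : ∀ i : ℤ, i ≤ -3 → IsZero (A.X i)) (hAc : ∀ i : ℤ, A.ExactAt i) (f : M ⟶ A) :
    Nonempty (Homotopy f 0) := by
  have e0 : (A.sc' (-1) 0 1).Exact := (A.exactAt_iff' (-1) 0 1 (by simp) (by simp)).1 (hAc 0)
  have e1 : (A.sc' (-2) (-1) 0).Exact :=
    (A.exactAt_iff' (-2) (-1) 0 (by simp) (by simp)).1 (hAc (-1))
  have e2 : (A.sc' (-3) (-2) (-1)).Exact :=
    (A.exactAt_iff' (-3) (-2) (-1) (by simp) (by simp)).1 (hAc (-2))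
  have hmono : Mono (A.d (-2) (-1)) := e2.mono_g ((hA (-3) le_rfl).eq_of_src _ _)
  have hk0 : f.f 0 ≫ A.d 0 1 = 0 := by
    rw [f.comm 0 1, (hM 1 (by decide)).eq_of_tgt (M.d 0 1) 0, zero_comp]
  let h0 : M.X 0 ⟶ A.X (-1) := e0.liftFromProjective (f.f 0) hk0
  have hh0 : h0 ≫ A.d (-1) 0 = f.f 0 := e0.liftFromProjective_comp _ _
  let g : M.X (-1) ⟶ A.X (-1) := f.f (-1) - M.d (-1) 0 ≫ h0
  have hg : g ≫ A.d (-1) 0 = 0 := by
    simp only [g, Preadditive.sub_comp, Category.assoc, hh0, f.comm (-1) 0, sub_self]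
  haveI : Mono (A.sc' (-2) (-1) 0).f := hmono
  let h1 : M.X (-1) ⟶ A.X (-2) := e1.lift g hg
  have hh1 : h1 ≫ A.d (-2) (-1) = g := e1.lift_f _ _
  refine ⟨(Cochain.equivHomotopy f 0).symm
    ⟨Cochain.single h0 (-1) + Cochain.single h1 (-1), ?_⟩⟩
  rw [Cochain.ofHom_zero, add_zero]
  refine Cochain.ext₀ _ _ (fun p => ?_)
  rw [Cochain.ofHom_v]
  by_cases hp0 : p = 0
  · subst hp0
    rw [δ_v (-1) 0 (by simp) _ 0 0 (add_zero 0) (-1) 1 (by simp) (by simp)]
    simp only [Int.negOnePow_zero, one_smul, Cochain.add_v]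
    rw [Cochain.single_v, Cochain.single_v_eq_zero _ _ 0 (-1) (by simp) (by decide),
      (hM 1 (by decide)).eq_of_tgt (M.d 0 1) 0, zero_comp, add_zero, add_zero, hh0]
  · by_cases hp1 : p = -1
    · subst hp1
      rw [δ_v (-1) 0 (by simp) _ (-1) (-1) (add_zero (-1)) (-2) 0 (by simp) (by simp)]
      simp only [Int.negOnePow_zero, one_smul, Cochain.add_v]
      rw [Cochain.single_v, Cochain.single_v_eq_zero _ _ (-1) (-2) (by simp) (by decide),
        Cochain.single_v, Cochain.single_v_eq_zero _ _ 0 (-1) (by simp) (by decide),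
        zero_add, add_zero, hh1]
      simp only [g, sub_add_cancel]
    · by_cases hp2 : p = -2
      · subst hp2
        rw [δ_v (-1) 0 (by simp) _ (-2) (-2) (add_zero (-2)) (-3) (-1) (by simp) (by simp)]
        simp only [Int.negOnePow_zero, one_smul, Cochain.add_v]
        rw [(hA (-3) le_rfl).eq_of_tgt
            ((Cochain.single h0 (-1)).v (-2) (-3) (by simp) +
              (Cochain.single h1 (-1)).v (-2) (-3) (by simp)) 0, zero_comp, zero_add,
          Cochain.single_v, Cochain.single_v_eq_zero _ _ (-1) (-2) (by simp) (by decide),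
          zero_add, ← cancel_mono (A.d (-2) (-1)), Category.assoc, hh1]
        simp only [g, Preadditive.comp_sub, HomologicalComplex.d_comp_d_assoc, zero_comp,
          sub_zero, f.comm (-2) (-1)]
      · by_cases hpos : 0 < p
        · exact (hM p hpos).eq_of_src _ _
        · exact (hA p (by omega)).eq_of_tgt _ _

lemma exactAt_of_isZero_Q (A : CochainComplex (ModuleCat.{u} R) ℤ) (h : IsZero (Q.obj A))
    (i : ℤ) : A.ExactAt i := by
  rw [HomologicalComplex.exactAt_iff_isZero_homology]
  have h1 : IsZero ((HH R i).obj (Q.obj A)) := (HH R i).map_isZero h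
  exact h1.of_iso (facIso A i).symm

theorem Qh_map_surjective (M K : CochainComplex (ModuleCat.{u} R) ℤ)
    (hM : ∀ i : ℤ, 0 < i → IsZero (M.X i)) [Projective (M.X 0)]
    (hK : ∀ i : ℤ, i ≤ -2 → IsZero (K.X i)) :
    Function.Surjective
      (fun φ : (HomotopyCategory.quotient (ModuleCat.{u} R) (ComplexShape.up ℤ)).obj M ⟶
        (HomotopyCategory.quotient (ModuleCat.{u} R) (ComplexShape.up ℤ)).obj K =>
        DerivedCategory.Qh.map φ) := by
  intro y
  haveI : K.IsStrictlyGE (-1) :=
    (CochainComplex.isStrictlyGE_iff _ _).2 (fun i hi => hK i (by omega))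
  obtain ⟨K', hK', g, s, hs, hy⟩ :=
    left_fac_of_isStrictlyGE (X := M) (Y := K) y (-1)
  have hAz : IsZero (Q.obj (mappingCone s)) :=
    (Triangle.isZero₃_iff_isIso₁ _ (mappingCone_triangle_distinguished s)).2 hs
  have hAc := exactAt_of_isZero_Q _ hAz
  have hA : ∀ i : ℤ, i ≤ -3 → IsZero ((mappingCone s).X i) := by
    intro i hi
    refine HomologicalComplex.homotopyCofiber.isZero_X s i ?_ ?_
    · exact CochainComplex.isZero_of_isStrictlyGE K' (-1) i (by omega)
    · intro j hj
      simp only [ComplexShape.up_Rel] at hj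
      exact hK j (by omega)
  obtain ⟨H⟩ := homotopy_zero_of_acyclic hM hA hAc (g ≫ mappingCone.inr s)
  have hT := HomotopyCategory.mappingCone_triangleh_distinguished s
  obtain ⟨u, hu⟩ : ∃ u : (HomotopyCategory.quotient (ModuleCat.{u} R) (ComplexShape.up ℤ)).obj M ⟶
      (HomotopyCategory.quotient (ModuleCat.{u} R) (ComplexShape.up ℤ)).obj K,
      (HomotopyCategory.quotient _ _).map g = u ≫ (HomotopyCategory.quotient _ _).map s :=
    Triangle.coyoneda_exact₂ _ hT ((HomotopyCategory.quotient _ _).map g) (by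
      show (HomotopyCategory.quotient _ _).map g ≫
        (HomotopyCategory.quotient _ _).map (mappingCone.inr s) = 0
      rw [← CategoryTheory.Functor.map_comp, HomotopyCategory.eq_of_homotopy _ _ H,
        CategoryTheory.Functor.map_zero])
  refine ⟨u, ?_⟩
  obtain ⟨v, hv⟩ : ∃ v : Q.obj M ⟶ Q.obj K, v = Qh.map u := ⟨_, rfl⟩
  have h1 : v ≫ Q.map s = Q.map g := by
    rw [hv]
    show Qh.map u ≫ Qh.map ((HomotopyCategory.quotient _ _).map s) =
      Qh.map ((HomotopyCategory.quotient _ _).map g)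
    rw [← CategoryTheory.Functor.map_comp, ← hu]
  have h2 : v = Q.map g ≫ inv (Q.map s) := by
    rw [← h1, Category.assoc, IsIso.hom_inv_id, Category.comp_id]
  exact hv.symm.trans (h2.trans hy.symm)

theorem homotopy_zero_of_Q_map_eq_zero (M K : CochainComplex (ModuleCat.{u} R) ℤ)
    (hM : ∀ i : ℤ, 0 < i → IsZero (M.X i)) [Projective (M.X 0)]
    (hK : ∀ i : ℤ, i ≤ -2 → IsZero (K.X i)) (f : M ⟶ K) (hf : Q.map f = 0) :
    Nonempty (Homotopy f 0) := by
  haveI : K.IsStrictlyGE (-1) :=
    (CochainComplex.isStrictlyGE_iff _ _).2 (fun i hi => hK i (by omega))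
  have h := (MorphismProperty.map_eq_iff_postcomp Qh
    (HomotopyCategory.quasiIso (ModuleCat.{u} R) (ComplexShape.up ℤ))
    ((HomotopyCategory.quotient _ _).map f) 0).1 (by
      rw [CategoryTheory.Functor.map_zero]
      exact hf)
  obtain ⟨Z, s₀, hs₀, hfs⟩ := h
  obtain ⟨K'', rfl⟩ := HomotopyCategory.quotient_obj_surjective Z
  obtain ⟨s', rfl⟩ := (HomotopyCategory.quotient _ _).map_surjective s₀
  rw [HomotopyCategory.quotient_map_mem_quasiIso_iff] at hs₀
  have hqi : QuasiIso s' := hs₀
  have H0 : Homotopy (f ≫ s') 0 := HomotopyCategory.homotopyOfEq _ _ (by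
    rw [CategoryTheory.Functor.map_comp, hfs, zero_comp, CategoryTheory.Functor.map_zero])
  -- truncate
  let s : K ⟶ CochainComplex.truncGE K'' (-1) := CochainComplex.πTruncGE K (-1) ≫ CochainComplex.truncGEMap s' (-1)
  have hs : IsIso (Q.map s) := by
    have : IsIso (Q.map (CochainComplex.truncGEMap s' (-1))) := by
      rw [isIso_Q_map_iff_quasiIso, CochainComplex.quasiIso_truncGEMap_iff]
      intro i _
      infer_instance
    rw [Q.map_comp]
    infer_instance
  have hs_eq : s = s' ≫ CochainComplex.πTruncGE K'' (-1) := CochainComplex.πTruncGE_naturality s' (-1)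
  have H1 : Homotopy (f ≫ s) 0 := by
    have H2 := H0.compRight (CochainComplex.πTruncGE K'' (-1))
    rw [zero_comp, Category.assoc, ← hs_eq] at H2
    exact H2
  -- lift to the mapping cocone
  let z := (Cochain.equivHomotopy _ _ H1).1
  have hz : Cochain.ofHom (f ≫ s) = δ (-1) 0 z + Cochain.ofHom 0 :=
    (Cochain.equivHomotopy _ _ H1).2
  let v : M ⟶ mappingCocone s := mappingCocone.lift s f (-z) (by
    rw [δ_neg, hz, Cochain.ofHom_zero, add_zero, neg_add_cancel])
  have hv : v ≫ mappingCocone.fst s = f := mappingCocone.lift_fst _ _ _ _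
  have hAz : IsZero (Q.obj (mappingCocone s)) :=
    (Triangle.isZero₁_iff_isIso₂ _ (mappingCocone_triangle_distinguished s)).2 hs
  have hAc := exactAt_of_isZero_Q _ hAz
  have hA : ∀ i : ℤ, i ≤ -3 → IsZero ((mappingCocone s).X i) := by
    intro i hi
    show IsZero ((mappingCone s).X (i + -1))
    refine HomologicalComplex.homotopyCofiber.isZero_X s (i + -1) ?_ ?_
    · exact CochainComplex.isZero_of_isStrictlyGE (CochainComplex.truncGE K'' (-1)) (-1) (i + -1) (by omega)
    · intro j hj
      simp only [ComplexShape.up_Rel] at hj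
      exact hK j (by omega)
  obtain ⟨Hv⟩ := homotopy_zero_of_acyclic hM hA hAc v
  have H3 := Hv.compRight (mappingCocone.fst s)
  rw [zero_comp, hv] at H3
  exact ⟨H3⟩

end Groth.Agent.Lib.helper23.DTwoTerm
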