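import Mathlib
import Groth.Prelude.Def_Wider
import Groth.Prelude.Def_DDual2
import Groth.Prelude.Def_CAlg
import Groth.Agent.Lib.Helper23.DimFn24

/-!
# Finiteness of the set of primes with `depth M_p = k < dim M_p` for an `(S_k)` module (helper23)
-/

set_option autoImplicit false
universe u
open CategoryTheory CategoryTheory.Limits DerivedCategory Pretriangulated TensorProduct

attribute [local instance] HasDerivedCategory.standard

namespace Groth.Agent.Lib.helper23.DimFn

open Groth.Agent.Lib.helper23.FBC Groth.Agent.Lib.helper23.BassD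
open Groth.Agent.Lib.helper26.Depth
open scoped Pointwise

attribute [local instance 50] homModuleA
attribute [local instance] FlatBC.preservesFiniteLimits_extendScalars_algebraMap
attribute [local instance] flat_atPrime

variable {A : Type u} [CommRing A] [IsNoetherianRing A]

/-- S1715. -/
theorem finite_setOf_depth_eq_of_hasSk (ω : Dual.D A) (hω : Dual.IsDualizing A ω) (M : Type u)
    [AddCommGroup M] [Module A M] [Module.Finite A M] (k : ℕ) (hM : LocCoh.HasSk k A M) :
    Set.Finite {p : PrimeSpectrum A |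
      LocCoh.depth (Localization.AtPrime p.asIdeal) (LocalizedModule p.asIdeal.primeCompl M) = k ∧
      (k : WithBot ℕ∞) < Module.supportDim (Localization.AtPrime p.asIdeal)
        (LocalizedModule p.asIdeal.primeCompl M)} := by
  obtain ⟨a, hGE, n, hn1, hn2, hsm⟩ := exists_dimFn ω hω
  haveI := hGE
  obtain ⟨a', b, hab, hGE', hLE, hv⟩ := exists_bounds ω hω
  have hKa : ∀ j : ℤ, j < a → IsZero ((homologyFunctor (ModuleCat.{u} A) j).obj ω) :=
    (DerivedCategory.isGE_iff ω a).1 inferInstance
  have hfin := hω.finite_cohomology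
  haveI hMfin : Module.Finite A (ModuleCat.of A M) := inferInstanceAs (Module.Finite A M)
  have hsupp : ∀ (i : ℤ) (p : PrimeSpectrum A),
      p ∈ Module.support A (Dual.inD A M ⟶ ω⟦i⟧) → i ∈ Set.Icc a' b := by
    intro i p hp
    by_contra hi
    rw [Set.mem_Icc, not_and_or, not_le, not_le] at hi
    haveI := hv M i hi
    have : Module.support A (Dual.inD A M ⟶ ω⟦i⟧) = ∅ := Module.support_eq_empty
    rw [this] at hp
    exact hp
  have hclosed : ∀ i : ℤ, IsClosed (Module.support A (Dual.inD A M ⟶ ω⟦i⟧)) := by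
    intro i
    haveI : Module.Finite A (Dual.inD A M ⟶ ω⟦i⟧) :=
      FinHom.finite_hom_single_of_bddBelow (ModuleCat.of A M) ω a hKa hfin i
    exact Module.isClosed_support
  let S : Set (ℤ × ℤ) := {x | x.1 ∈ Set.Icc a' b ∧ x.2 ∈ Set.Icc a' b ∧ x.2 < x.1}
  have hS : S.Finite :=
    ((Set.finite_Icc a' b).prod (Set.finite_Icc a' b)).subset (fun x hx => ⟨hx.1, hx.2.1⟩)
  -- for each pair of degrees choose an ideal cutting out the intersection of the supports
  have hI : ∀ x : ℤ × ℤ, ∃ I : Ideal A, Module.support A (Dual.inD A M ⟶ ω⟦x.1⟧) ∩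
      Module.support A (Dual.inD A M ⟶ ω⟦x.2⟧) = PrimeSpectrum.zeroLocus (I : Set A) := fun x =>
    (PrimeSpectrum.isClosed_iff_zeroLocus_ideal _).1 ((hclosed x.1).inter (hclosed x.2))
  choose I hI using hI
  let G : ℤ × ℤ → Set (PrimeSpectrum A) := fun x => {w | w.asIdeal ∈ (I x).minimalPrimes}
  have hG : ∀ x, (G x).Finite := fun x =>
    Set.Finite.preimage (fun x _ y _ hxy => PrimeSpectrum.ext hxy)
      (Ideal.finite_minimalPrimes_of_isNoetherianRing A (I x))
  refine (hS.biUnion (fun x _ => hG x)).subset ?_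
  rintro p ⟨hdp, hdim⟩
  haveI hpp : p.asIdeal.IsPrime := p.2
  have hp : p ∈ Module.support A M := by
    by_contra hp
    rw [Module.mem_support_iff, not_nontrivial_iff_subsingleton] at hp
    haveI : Subsingleton (LocalizedModule p.asIdeal.primeCompl M) := hp
    rw [Module.supportDim_eq_bot_of_subsingleton] at hdim
    exact not_lt_bot hdim
  obtain ⟨δ, e, hδ, he, hδe, hb, h1, h2⟩ := support_ext_bounds ω hω a p (n p) (hn1 p) M hp
  have hδk : δ = k := by
    rw [hδ] at hdp
    exact_mod_cast hdp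
  have hke : k < e := by
    rw [he] at hdim
    exact_mod_cast hdim
  subst hδk
  simp only [Set.mem_iUnion, exists_prop]
  refine ⟨(n p - δ, n p - e), ⟨hsupp _ p h1, hsupp _ p h2, by simp only; omega⟩, ?_⟩
  show p.asIdeal ∈ (I (n p - δ, n p - e)).minimalPrimes
  have hpW : p ∈ PrimeSpectrum.zeroLocus ((I (n p - δ, n p - e) : Ideal A) : Set A) := by
    rw [← hI]
    exact ⟨h1, h2⟩
  rw [PrimeSpectrum.mem_zeroLocus, SetLike.coe_subset_coe] at hpW
  refine ⟨⟨p.2, hpW⟩, fun q' hq' hle => ?_⟩
  by_contra hnle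
  let Q : PrimeSpectrum A := ⟨q', hq'.1⟩
  have hlt : Q < p := by
    refine lt_of_le_of_ne ((PrimeSpectrum.asIdeal_le_asIdeal Q p).1 hle) ?_
    intro heq
    apply hnle
    rw [← heq]
  have hnQ := hsm hlt
  have hQW : Q ∈ Module.support A (Dual.inD A M ⟶ ω⟦n p - (δ : ℤ)⟧) ∩
      Module.support A (Dual.inD A M ⟶ ω⟦n p - (e : ℤ)⟧) := by
    have := hI (n p - δ, n p - e)
    simp only at this
    rw [this, PrimeSpectrum.mem_zeroLocus, SetLike.coe_subset_coe]
    exact hq'.2
  have hQM := mem_support_of_mem_support_hom ω a Q M _ hQW.1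
  obtain ⟨δ', e', hδ', he', hδe', hb', -, -⟩ :=
    support_ext_bounds ω hω a Q (n Q) (hn1 Q) M hQM
  have h3 := (hb' _ hQW.1).2
  have h4 := (hb' _ hQW.2).1
  haveI : Q.asIdeal.IsPrime := Q.2
  have h5 := hM Q.asIdeal
  rw [he', hδ'] at h5
  have h6 : δ ≤ δ' ∨ e' ≤ δ' := by
    rcases min_le_iff.1 h5 with h | h
    · left; exact_mod_cast h
    · right; exact_mod_cast h
  omega

end Groth.Agent.Lib.helper23.DimFn
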