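import Mathlib
import Groth.Prelude.Def_DRing4
import Groth.Agent.Lib.Helper23.CxBid13

/-!
# Characterization of dualizing complexes by `Ext(κ, -)`, part 1 (helper23)

Over a Noetherian local ring `A` possessing a dualizing complex `ω`: an object `K` of `D(A)` with
finite cohomology, bounded below, such that `Ext^i(κ, K)` vanishes for `i ≠ e''` and is a nonzero
cyclic module for `i = e''`, is isomorphic to a shift of `ω` (hence dualizing).
-/

set_option autoImplicit false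
universe u
open CategoryTheory CategoryTheory.Limits DerivedCategory Pretriangulated Opposite
open CochainComplex.HomComplex
open scoped ZeroObject

attribute [local instance] HasDerivedCategory.standard

namespace Groth.Agent.Lib.helper23.DualChar

open Groth.Agent.Lib.helper23.RHomCx Groth.Agent.Lib.helper23.GorInv Groth.Agent.Lib.helper23.FinHom
  Groth.Agent.Lib.helper23.DualD Groth.Agent.Lib.helper23.TensHom Groth.Agent.Lib.helper13.KFlat
  Groth.Agent.Lib.helper23.CxBid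

variable (A : Type u) [CommRing A] [IsLocalRing A] [IsNoetherianRing A]

theorem nonempty_homCx_iso_shift' (ω : Dual.D A) (hω : Dual.IsDualizing A ω) (M : Model ω)
    (ω' : Dual.D A) (I' : DRing.Cx A) [I'.IsKInjective] (eI' : Q.obj I' ≅ ω') (a' : ℤ)
    [(Q.obj I').IsGE a'] (hfI' : ∀ j, Module.Finite A (Hn I' j)) (e'' : ℤ)
    (hv'' : ∀ i : ℤ, i ≠ e'' →
      Subsingleton (Dual.inD A (A ⧸ IsLocalRing.maximalIdeal A) ⟶ ω'⟦i⟧))
    (hcyc : IsCyc A (Dual.inD A (A ⧸ IsLocalRing.maximalIdeal A) ⟶ ω'⟦e''⟧)) :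
    ∃ t₀ : ℤ, Nonempty (Q.obj (DRing.homCx I' M.I) ≅ (Dual.inD A A)⟦t₀⟧) := by
  let m := IsLocalRing.maximalIdeal A
  let κ : ModuleCat.{u} A := ModuleCat.of A (A ⧸ m)
  haveI := M.isKInjective
  let I := M.I
  obtain ⟨e', hv', ⟨ε'⟩⟩ := ext_residue_single_degree ω hω m
  let R : ProjectiveResolution κ := projectiveResolution κ
  let F : DRing.Cx A := R.cochainComplex
  haveI : F.IsKProjective := inferInstanceAs (R.cochainComplex.IsKProjective)
  have hF : IsKFlatR F := isKFlatR_cochainComplex R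
  let J : DRing.Cx A := DRing.homCx F I
  haveI : J.IsKInjective := isKInjective_homCx F I hF
  haveI : IsIso (Q.map R.π') := by
    rw [isIso_Q_map_iff_quasiIso]
    infer_instance
  let eF : Q.obj F ≅ Dual.inD A (A ⧸ m) :=
    asIso (Q.map R.π') ≪≫ ((singleFunctorIsoCompQ (ModuleCat.{u} A) 0).app κ).symm
  -- cohomology of `J`
  have hJ : ∀ n : ℤ, Nonempty (((homologyFunctor (ModuleCat.{u} A) n).obj (Q.obj J)) ≃ₗ[A]
      (Dual.inD A (A ⧸ m) ⟶ ω⟦n⟧)) := fun n =>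
    ⟨homologyQEquiv J n ≪≫ₗ homologyEquivCxOfKInjective F I n ≪≫ₗ
      hc eF ((Q.commShiftIso n).app I ≪≫ (shiftFunctor (Dual.D A) n).mapIso M.e)⟩
  have hJ0 : ∀ n : ℤ, n ≠ e' → IsZero ((homologyFunctor (ModuleCat.{u} A) n).obj (Q.obj J)) := by
    intro n hn
    obtain ⟨e⟩ := hJ n
    haveI := hv' n hn
    exact isZero_of_subsingleton_linearEquiv e
  obtain ⟨eJ⟩ : Nonempty (Q.obj J ≅ (singleFunctor (ModuleCat.{u} A) e').obj κ) := by
    obtain ⟨e⟩ := hJ e'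
    exact nonempty_iso_single (Q.obj J) e' κ hJ0 ⟨(e ≪≫ₗ ε').toModuleIso⟩
  -- the object `X`
  let DI' : DRing.Cx A := DRing.homCx I' I
  let X : Dual.D A := Q.obj DI'
  have hXfin : ∀ i : ℤ, Module.Finite A ((homologyFunctor (ModuleCat.{u} A) i).obj X) :=
    fun i => finite_homology_D hω M I' hfI' i
  have hamp : DRing.HasInjAmplitudeIn A M.a M.b (Q.obj I) := ⟨M.I, M.zero,
    fun j => (Module.injective_iff_injective_object A (M.I.X j)).2 (M.inj j), ⟨Iso.refl _⟩⟩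
  haveI : X.IsLE (M.b - a') := isLE_D_of_isGE I M.a M.b hamp I' a'
  -- biduality for `I'`
  haveI : IsIso (Q.map (ev I I')) := biduality_cx hω M I' hfI'
  haveI : QuasiIso (ev I I') := (isIso_Q_map_iff_quasiIso (φ := ev I I')).1 inferInstance
  haveI : QuasiIso (DRing.homCxMap F (ev I I')) := quasiIso_homCxMap_of_isKProjective F (ev I I')
  -- the main chain of isomorphisms
  have hchain : ∀ n : ℤ, Nonempty ((X ⟶ Q.obj (J⟦n⟧)) ≃ₗ[A]
      (Dual.inD A (A ⧸ m) ⟶ ω'⟦n⟧)) := fun n =>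
    ⟨(homologyEquivCxOfKInjective DI' J n).symm ≪≫ₗ
      homologyLinearEquivOfIso (swapIso DI' F I) n ≪≫ₗ
      (homologyLinearEquivOfQuasiIso A (DRing.homCxMap F (ev I I')) n).symm ≪≫ₗ
      homologyEquivCxOfKProjective F I' n ≪≫ₗ
      hc eF ((Q.commShiftIso n).app I' ≪≫ (shiftFunctor (Dual.D A) n).mapIso eI')⟩
  -- the object `Y`
  let Y : Dual.D A := (Q.obj J)⟦e'⟧
  let eY : Y ≅ Dual.inD A (A ⧸ m) :=
    (shiftFunctor (Dual.D A) e').mapIso eJ ≪≫
      ((singleFunctors (ModuleCat.{u} A)).shiftIso e' 0 e' (add_zero e')).app κ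
  have hY : ∀ j : ℤ, Nonempty ((X ⟶ Y⟦j⟧) ≃ₗ[A]
      (Dual.inD A (A ⧸ m) ⟶ ω'⟦e' + j⟧)) := fun j => by
    obtain ⟨e⟩ := hchain (e' + j)
    exact ⟨hc (Iso.refl X) ((shiftFunctorAdd' (Dual.D A) e' j (e' + j) rfl).symm.app (Q.obj J) ≪≫
      ((Q.commShiftIso (e' + j)).app J).symm) ≪≫ₗ e⟩
  refine ⟨e'' - e', ?_⟩
  refine nonempty_iso_shift_of_hom_residue X (M.b - a') hXfin Y eY (e'' - e') (fun j hj => ?_) ?_
  · obtain ⟨e⟩ := hY j
    haveI := hv'' (e' + j) (by omega)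
    exact e.toEquiv.subsingleton
  · obtain ⟨e⟩ := hY (e'' - e')
    have h1 : e' + (e'' - e') = e'' := by omega
    rw [← h1] at hcyc
    exact hcyc.of_linearEquiv e.symm

/-- an object with finite cohomology, bounded below, whose `Ext(κ, -)` is concentrated in one degree
and nonzero cyclic there, is a shift of the dualizing complex. -/
theorem exists_iso_shift_of_ext_residue (ω : Dual.D A) (hω : Dual.IsDualizing A ω)
    (K : Dual.D A) (hfin : ∀ i : ℤ, Module.Finite A (Dual.HD A K i)) (a' : ℤ) [K.IsGE a']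
    (e'' : ℤ)
    (hv'' : ∀ i : ℤ, i ≠ e'' →
      Subsingleton (Dual.inD A (A ⧸ IsLocalRing.maximalIdeal A) ⟶ K⟦i⟧))
    (hcyc : IsCyc A (Dual.inD A (A ⧸ IsLocalRing.maximalIdeal A) ⟶ K⟦e''⟧)) :
    ∃ n : ℤ, Nonempty (K ≅ ω⟦n⟧) := by
  obtain ⟨M⟩ := exists_model ω hω
  haveI := M.isKInjective
  obtain ⟨I', g, hI', hg⟩ := Groth.Agent.Lib.helper23.RHomEx.hKinj A (Q.objPreimage K)
  haveI := hI'
  haveI : IsIso (Q.map g) := by
    rw [isIso_Q_map_iff_quasiIso]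
    exact hg
  let eI' : Q.obj I' ≅ K := (asIso (Q.map g)).symm ≪≫ Q.objObjPreimageIso K
  haveI : (Q.obj I').IsGE a' := (TStructure.t (C := ModuleCat.{u} A)).isGE_of_iso eI'.symm a'
  have hfI' : ∀ j, Module.Finite A (Hn I' j) := fun j => by
    haveI := hfin j
    exact Module.Finite.equiv
      ((homologyFunctor (ModuleCat.{u} A) j).mapIso eI').toLinearEquiv.symm
  obtain ⟨t₀, ⟨eX⟩⟩ := nonempty_homCx_iso_shift' A ω hω M K I' eI' a' hfI' e'' hv'' hcyc
  haveI : IsIso (Q.map (ev M.I I')) := biduality_cx hω M I' hfI'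
  let P : DRing.Cx A := (CxBid.S₀ (ModuleCat.of A A))⟦t₀⟧
  have eP : Q.obj (DRing.homCx I' M.I) ≅ Q.obj P :=
    eX ≪≫ (shiftFunctor (Dual.D A) t₀).mapIso
      ((singleFunctorIsoCompQ (ModuleCat.{u} A) 0).app (ModuleCat.of A A)) ≪≫
      ((Q.commShiftIso t₀).app (CxBid.S₀ (ModuleCat.of A A))).symm
  obtain ⟨e1⟩ := nonempty_iso_D_of_iso M.I eP
  obtain ⟨e2⟩ := nonempty_homCx_shift_single_iso A M.I t₀
  exact ⟨-t₀, ⟨eI'.symm ≪≫ asIso (Q.map (ev M.I I')) ≪≫ e1 ≪≫ e2 ≪≫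
    (shiftFunctor (Dual.D A) (-t₀)).mapIso M.e⟩⟩

end Groth.Agent.Lib.helper23.DualChar
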