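import Mathlib
import Groth.Prelude.Def_Wider
import Groth.Prelude.Def_DDual2
import Groth.Agent.Lib.Helper23.FBC16
import Groth.Agent.Lib.Helper23.GorInv2

/-!
# Characterization of dualizing complexes by `Ext(κ, -)`, part 3 (helper23)

Faithfully flat local base change `A → B` with `m_A B = m_B`: the vanishing / nonzero-cyclicity of
`Ext^i_A(κ_A, K)` passes to `Ext^i_B(κ_B, K ⊗ B)` for `K` bounded below.
-/

set_option autoImplicit false
universe u
open CategoryTheory CategoryTheory.Limits DerivedCategory Pretriangulated TensorProduct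

attribute [local instance] HasDerivedCategory.standard

namespace Groth.Agent.Lib.helper23.DualChar

open Groth.Agent.Lib.helper23.FBC Groth.Agent.Lib.helper23.GorInv

attribute [local instance 50] homModuleA
attribute [local instance] FlatBC.preservesFiniteLimits_extendScalars_algebraMap

/-- base change of a nonzero cyclic module along a faithfully flat map is nonzero cyclic. -/
lemma isCyc_tensor (A B : Type*) [CommRing A] [CommRing B] [Algebra A B]
    [Module.FaithfullyFlat A B] (M : Type*) [AddCommGroup M] [Module A M] (h : IsCyc A M) :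
    IsCyc B (B ⊗[A] M) := by
  obtain ⟨m₀, h0, hm⟩ := h
  have hgen : ∀ x : B ⊗[A] M, ∃ b : B, x = b • ((1 : B) ⊗ₜ[A] m₀) := by
    intro x
    induction x using TensorProduct.induction_on with
    | zero => exact ⟨0, by rw [zero_smul]⟩
    | tmul b m =>
      obtain ⟨c, rfl⟩ := hm m
      refine ⟨c • b, ?_⟩
      rw [TensorProduct.smul_tmul', smul_eq_mul, mul_one, TensorProduct.smul_tmul]
    | add x y hx hy =>
      obtain ⟨b1, rfl⟩ := hx
      obtain ⟨b2, rfl⟩ := hy
      exact ⟨b1 + b2, (add_smul _ _ _).symm⟩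
  refine ⟨(1 : B) ⊗ₜ[A] m₀, fun h => ?_, hgen⟩
  haveI : Subsingleton (B ⊗[A] M) := ⟨fun x y => by
    obtain ⟨b1, rfl⟩ := hgen x
    obtain ⟨b2, rfl⟩ := hgen y
    rw [h, smul_zero, smul_zero]⟩
  haveI : Subsingleton M := Module.FaithfullyFlat.lTensor_reflects_triviality A B M
  exact h0 (Subsingleton.elim _ _)

variable (A B : Type u) [CommRing A] [CommRing B] [Algebra A B] [IsNoetherianRing A]
  [IsNoetherianRing B] [Module.FaithfullyFlat A B] [IsLocalRing A] [IsLocalRing B]

/-- `E(κ_A[0]) ≅ κ_B[0]` when `m_A B = m_B` -/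
noncomputable def EEresidueIso
    (hm : (IsLocalRing.maximalIdeal A).map (algebraMap A B) = IsLocalRing.maximalIdeal B) :
    (EE A B).obj (Dual.inD A (A ⧸ IsLocalRing.maximalIdeal A)) ≅
      Dual.inD B (B ⧸ IsLocalRing.maximalIdeal B) :=
  EEsingleIso B (ModuleCat.of A (A ⧸ IsLocalRing.maximalIdeal A)) ≪≫
    (singleFunctor (ModuleCat.{u} B) 0).mapIso
      ((Submodule.quotEquivOfEq _ _ hm.symm).toModuleIso ≪≫
        quotMapIso B (IsLocalRing.maximalIdeal A)).symm

variable {A B}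

theorem subsingleton_ext_residue_EE
    (hm : (IsLocalRing.maximalIdeal A).map (algebraMap A B) = IsLocalRing.maximalIdeal B)
    (K : Dual.D A) (a : ℤ) [K.IsGE a] (i : ℤ)
    (h : Subsingleton (Dual.inD A (A ⧸ IsLocalRing.maximalIdeal A) ⟶ K⟦i⟧)) :
    Subsingleton (Dual.inD B (B ⧸ IsLocalRing.maximalIdeal B) ⟶ ((EE A B).obj K)⟦i⟧) := by
  let kA : ModuleCat.{u} A := ModuleCat.of A (A ⧸ IsLocalRing.maximalIdeal A)
  haveI : Module.Finite A kA := inferInstanceAs (Module.Finite A (A ⧸ IsLocalRing.maximalIdeal A))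
  haveI : Subsingleton (sg kA ⟶ K⟦i⟧) := h
  haveI := subsingleton_of_BS (BB_single_finite' B K a i kA).2
  exact subsingleton_hom_of_iso (EEresidueIso A B hm) (EEshiftIso B K i)

theorem isCyc_ext_residue_EE
    (hm : (IsLocalRing.maximalIdeal A).map (algebraMap A B) = IsLocalRing.maximalIdeal B)
    (K : Dual.D A) (a : ℤ) [K.IsGE a] (i : ℤ)
    (h : IsCyc A (Dual.inD A (A ⧸ IsLocalRing.maximalIdeal A) ⟶ K⟦i⟧)) :
    IsCyc B (Dual.inD B (B ⧸ IsLocalRing.maximalIdeal B) ⟶ ((EE A B).obj K)⟦i⟧) := by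
  let kA : ModuleCat.{u} A := ModuleCat.of A (A ⧸ IsLocalRing.maximalIdeal A)
  haveI : Module.Finite A kA := inferInstanceAs (Module.Finite A (A ⧸ IsLocalRing.maximalIdeal A))
  have hBB : BB B (sg kA) (K⟦i⟧) := BB_single_finite' B K a i kA
  let eq : (B ⊗[A] (sg kA ⟶ K⟦i⟧)) ≃ₗ[B] ((EE A B).obj (sg kA) ⟶ (EE A B).obj (K⟦i⟧)) :=
    LinearEquiv.ofBijective _ hBB
  have h1 : IsCyc B (B ⊗[A] (sg kA ⟶ K⟦i⟧)) := isCyc_tensor A B _ h
  exact (h1.of_linearEquiv eq).of_linearEquiv
    (Linear.homCongr B (EEresidueIso A B hm) (EEshiftIso B K i))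

end Groth.Agent.Lib.helper23.DualChar
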