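import Mathlib
import Groth.Prelude.Def_DRing4
import Groth.Agent.Lib.Helper23.TensHom2

/-!
# Duals of complexes, part 1 (helper23)

* `cochainSingleEquiv`: `Cochain K (M[0]) n ≃ₗ Hom(K^p, M)` for `p + n = 0`;
* `evHom P M : P ⟶ Hom•(Hom•(P, M), M)`, the evaluation morphism (with the Koszul sign).
-/

set_option autoImplicit false
universe u
open CategoryTheory CategoryTheory.Limits
open CochainComplex.HomComplex HomologicalComplex

namespace Groth.Agent.Lib.helper23.DualPerf

open Groth.Agent.Lib.helper23.TensHom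

variable {A : Type u} [CommRing A]

/-- a module in degree `0` -/
noncomputable abbrev S0 (M : ModuleCat.{u} A) : DRing.Cx A :=
  (HomologicalComplex.single (ModuleCat.{u} A) (ComplexShape.up ℤ) 0).obj M

section Single

variable (K : DRing.Cx A) (M : ModuleCat.{u} A)

/-- the component of a cochain with values in `M[0]` -/
noncomputable def toDual (n p : ℤ) (hp : p + n = 0) :
    Cochain K (S0 M) n →ₗ[A] (K.X p →ₗ[A] M) where
  toFun z := (z.v p 0 hp ≫ (singleObjXSelf (ComplexShape.up ℤ) 0 M).hom).hom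
  map_add' z z' := by
    rw [Cochain.add_v, Preadditive.add_comp]
    rfl
  map_smul' a z := by
    rw [Cochain.smul_v, Linear.smul_comp]
    rfl

lemma toDual_apply (n p : ℤ) (hp : p + n = 0) (z : Cochain K (S0 M) n) (x : K.X p) :
    toDual K M n p hp z x =
      (singleObjXSelf (ComplexShape.up ℤ) 0 M).hom.hom ((z.v p 0 hp).hom x) := rfl

/-- the cochain attached to a linear form -/
noncomputable def ofDual (n p : ℤ) (φ : K.X p →ₗ[A] M) : Cochain K (S0 M) n :=
  Cochain.single (ModuleCat.ofHom φ ≫ (singleObjXSelf (ComplexShape.up ℤ) 0 M).inv) n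

lemma toDual_ofDual (n p : ℤ) (hp : p + n = 0) (φ : K.X p →ₗ[A] M) :
    toDual K M n p hp (ofDual K M n p φ) = φ := by
  apply LinearMap.ext
  intro x
  rw [toDual_apply]
  unfold ofDual
  rw [Cochain.single_v]
  change ((ModuleCat.ofHom φ ≫ (singleObjXSelf (ComplexShape.up ℤ) 0 M).inv) ≫
    (singleObjXSelf (ComplexShape.up ℤ) 0 M).hom).hom x = _
  rw [Category.assoc, Iso.inv_hom_id, Category.comp_id]
  rfl

lemma ofDual_toDual (n p : ℤ) (hp : p + n = 0) (z : Cochain K (S0 M) n) :
    ofDual K M n p (toDual K M n p hp z) = z := by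
  refine Cochain.ext _ _ (fun p' q' hpq' => ?_)
  by_cases hq : q' = 0
  · subst hq
    obtain rfl : p' = p := by omega
    unfold ofDual
    rw [Cochain.single_v]
    change ModuleCat.ofHom (z.v p' 0 hp ≫ (singleObjXSelf (ComplexShape.up ℤ) 0 M).hom).hom ≫
      (singleObjXSelf (ComplexShape.up ℤ) 0 M).inv = _
    rw [ModuleCat.ofHom_hom, Category.assoc, Iso.hom_inv_id, Category.comp_id]
  · exact (HomologicalComplex.isZero_single_obj_X _ _ _ _ hq).eq_of_tgt _ _

/-- `Cochain K (M[0]) n ≃ Hom(K^p, M)` for `p + n = 0` -/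
noncomputable def cochainSingleEquiv (n p : ℤ) (hp : p + n = 0) :
    Cochain K (S0 M) n ≃ₗ[A] (K.X p →ₗ[A] M) where
  __ := toDual K M n p hp
  invFun := ofDual K M n p
  left_inv := ofDual_toDual K M n p hp
  right_inv := toDual_ofDual K M n p hp

lemma cochainSingleEquiv_apply (n p : ℤ) (hp : p + n = 0) (z : Cochain K (S0 M) n) (x : K.X p) :
    cochainSingleEquiv K M n p hp z x =
      (singleObjXSelf (ComplexShape.up ℤ) 0 M).hom.hom ((z.v p 0 hp).hom x) := rfl

lemma cochainSingleEquiv_symm_apply (n p : ℤ) (hp : p + n = 0) (φ : K.X p →ₗ[A] M) :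
    (cochainSingleEquiv K M n p hp).symm φ = ofDual K M n p φ := rfl

lemma ofDual_v_apply (n p : ℤ) (hp : p + n = 0) (φ : K.X p →ₗ[A] M) (x : K.X p) :
    (singleObjXSelf (ComplexShape.up ℤ) 0 M).hom.hom (((ofDual K M n p φ).v p 0 hp).hom x) =
      φ x := by
  have := toDual_ofDual K M n p hp φ
  rw [← toDual_apply, this]

/-- cochains of degree `n` with values in `M[0]` vanish when `K^{-n}` does -/
lemma subsingleton_cochain_single (n p : ℤ) (hp : p + n = 0) (h : IsZero (K.X p)) :
    Subsingleton (Cochain K (S0 M) n) := by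
  haveI : Subsingleton (K.X p →ₗ[A] M) := by
    haveI := ModuleCat.subsingleton_of_isZero h
    infer_instance
  exact (cochainSingleEquiv K M n p hp).toEquiv.subsingleton

end Single

section Ev

variable (P M : DRing.Cx A)

/-- evaluation: `x ∈ P^n`, `z ∈ Hom^p(P, M)` give `z_n(x) ∈ M^{n+p}` -/
noncomputable def evB (n p q : ℤ) (h : n + p = q) :
    P.X n →ₗ[A] Cochain P M p →ₗ[A] M.X q :=
  (ev P M n q h).flip

lemma evB_apply (n p q : ℤ) (h : n + p = q) (x : P.X n) (z : Cochain P M p) :
    evB P M n p q h x z = (z.v n q h).hom x := rfl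

/-- evaluation at `x` as a morphism -/
noncomputable def evMor (n p q : ℤ) (h : n + p = q) (x : P.X n) :
    (DRing.homCx P M).X p ⟶ M.X q :=
  ModuleCat.ofHom (evB P M n p q h x)

lemma evMor_apply (n p q : ℤ) (h : n + p = q) (x : P.X n) (z : Cochain P M p) :
    (evMor P M n p q h x).hom z = (z.v n q h).hom x := rfl

/-- the evaluation cochain attached to `x ∈ P^n` -/
noncomputable def evCochain (n : ℤ) (x : P.X n) : Cochain (DRing.homCx P M) M n :=
  Cochain.mk (fun p q hpq => (n * p).negOnePow • evMor P M n p q (by omega) x)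

lemma evCochain_v_apply (n : ℤ) (x : P.X n) (p q : ℤ) (hpq : p + n = q) (z : Cochain P M p) :
    ((evCochain P M n x).v p q hpq).hom z = (n * p).negOnePow • (z.v n q (by omega)).hom x := by
  unfold evCochain
  rw [Cochain.mk_v, units_smul_hom_apply, evMor_apply]

/-- the evaluation, as a linear map -/
noncomputable def evLin (n : ℤ) : P.X n →ₗ[A] Cochain (DRing.homCx P M) M n where
  toFun := evCochain P M n
  map_add' x x' := by
    refine Cochain.ext _ _ (fun p q hpq => ?_)
    apply ModuleCat.hom_ext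
    apply LinearMap.ext
    intro (z : Cochain P M p)
    rw [Cochain.add_v, ModuleCat.hom_add, LinearMap.add_apply, evCochain_v_apply,
      evCochain_v_apply, evCochain_v_apply, map_add, smul_add]
  map_smul' a x := by
    refine Cochain.ext _ _ (fun p q hpq => ?_)
    apply ModuleCat.hom_ext
    apply LinearMap.ext
    intro (z : Cochain P M p)
    rw [RingHom.id_apply, Cochain.smul_v, ModuleCat.hom_smul, LinearMap.smul_apply,
      evCochain_v_apply, evCochain_v_apply, map_smul, smul_comm]

lemma evLin_apply (n : ℤ) (x : P.X n) : evLin P M n x = evCochain P M n x := rfl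

lemma sign_aux (a ν π : ℤˣ) {N : Type*} [AddCommGroup N] (X Y : N) :
    a • X + (-ν) • ((a * ν) • (X + (-π) • Y)) = (a * π) • Y := by
  rcases Int.units_eq_one_or a with rfl | rfl <;> rcases Int.units_eq_one_or ν with rfl | rfl <;>
    rcases Int.units_eq_one_or π with rfl | rfl <;> simp

lemma δ_evCochain (n : ℤ) (x : P.X n) :
    δ n (n + 1) (evCochain P M n x) = evCochain P M (n + 1) ((P.d n (n + 1)).hom x) := by
  refine Cochain.ext _ _ (fun p q hpq => ?_)
  apply ModuleCat.hom_ext
  apply LinearMap.ext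
  intro (z : Cochain P M p)
  rw [δ_v n (n + 1) rfl _ p q hpq (q - 1) (p + 1) rfl rfl, ModuleCat.hom_add,
    LinearMap.add_apply, units_smul_hom_apply, ModuleCat.hom_comp, LinearMap.comp_apply,
    ModuleCat.hom_comp, LinearMap.comp_apply, evCochain_v_apply, evCochain_v_apply]
  have h1 : ((DRing.homCx P M).d p (p + 1)).hom z = δ p (p + 1) z := rfl
  rw [h1, evCochain_v_apply,
    δ_v p (p + 1) rfl z n q (by omega) (q - 1) (n + 1) rfl rfl, ModuleCat.hom_add,
    LinearMap.add_apply, units_smul_hom_apply, ModuleCat.hom_comp, LinearMap.comp_apply,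
    ModuleCat.hom_comp, LinearMap.comp_apply, map_zsmul_unit]
  have s1 : (n * (p + 1)).negOnePow = (n * p).negOnePow * n.negOnePow := by
    rw [mul_add, mul_one, Int.negOnePow_add]
  have s2 : ((n + 1) * p).negOnePow = (n * p).negOnePow * p.negOnePow := by
    rw [add_mul, one_mul, Int.negOnePow_add]
  rw [s1, s2, Int.negOnePow_succ, Int.negOnePow_succ]
  exact sign_aux _ _ _ _ _

/-- the evaluation morphism `P ⟶ Hom•(Hom•(P, M), M)` -/
noncomputable def evHom : P ⟶ DRing.homCx (DRing.homCx P M) M where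
  f n := ModuleCat.ofHom (evLin P M n)
  comm' i j hij := by
    have hij' : i + 1 = j := hij
    subst hij'
    apply ModuleCat.hom_ext
    apply LinearMap.ext
    intro x
    exact (δ_evCochain P M i x)

lemma evHom_f_apply (n : ℤ) (x : P.X n) : ((evHom P M).f n).hom x = evCochain P M n x := rfl

end Ev

end Groth.Agent.Lib.helper23.DualPerf
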