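import Mathlib
import Groth.Prelude.Def_DRing4
import Groth.Agent.Lib.Helper23.DualPerf1

/-!
# Duals of complexes, part 2 (helper23): strictly perfect complexes

* `dualCx P = Hom•(P, A[0])`; it is bounded / termwise finite projective when `P` is;
* `isIso_evHom`: `P ⟶ (P^∨)^∨` is an isomorphism of complexes for `P` termwise finite projective.
-/

set_option autoImplicit false
universe u
open CategoryTheory CategoryTheory.Limits
open CochainComplex.HomComplex HomologicalComplex

namespace Groth.Agent.Lib.helper23.DualPerf

open Groth.Agent.Lib.helper23.TensHom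

variable {A : Type u} [CommRing A]

/-- the ring in degree `0` -/
noncomputable abbrev A0 (A : Type u) [CommRing A] : DRing.Cx A := S0 (ModuleCat.of A A)

/-- the dual complex `Hom•(P, A[0])` -/
noncomputable abbrev dualCx (P : DRing.Cx A) : DRing.Cx A := DRing.homCx P (A0 A)

/-- the terms of the dual complex -/
noncomputable def dualCxXEquiv (P : DRing.Cx A) (n p : ℤ) (hp : p + n = 0) :
    (dualCx P).X n ≃ₗ[A] Module.Dual A (P.X p) :=
  cochainSingleEquiv P (ModuleCat.of A A) n p hp

lemma vanishesOutside_dualCx (P : DRing.Cx A) (a b : ℤ) (h : DRing.VanishesOutside P a b) :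
    DRing.VanishesOutside (dualCx P) (-b) (-a) := by
  intro i hi
  have hz : IsZero (P.X (-i)) := h (-i) (by omega)
  haveI : Subsingleton ((dualCx P).X i) :=
    subsingleton_cochain_single P (ModuleCat.of A A) i (-i) (by omega) hz
  exact ModuleCat.isZero_of_subsingleton _

lemma termwiseFiniteProjective_dualCx (P : DRing.Cx A) (h : DRing.TermwiseFiniteProjective P) :
    DRing.TermwiseFiniteProjective (dualCx P) := by
  intro i
  haveI := (h (-i)).1
  haveI := (h (-i)).2
  exact ⟨Module.Finite.equiv (dualCxXEquiv P i (-i) (by omega)).symm,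
    Module.Projective.of_equiv (dualCxXEquiv P i (-i) (by omega)).symm⟩

theorem bijective_evLin (P : DRing.Cx A) (n : ℤ) [Module.Finite A (P.X n)]
    [Module.Projective A (P.X n)] : Function.Bijective (evLin P (A0 A) n) := by
  let e1 : Cochain (dualCx P) (A0 A) n ≃ₗ[A] Module.Dual A (Cochain P (A0 A) (-n)) :=
    cochainSingleEquiv (dualCx P) (ModuleCat.of A A) n (-n) (by omega)
  let e2 : Cochain P (A0 A) (-n) ≃ₗ[A] Module.Dual A (P.X n) :=
    cochainSingleEquiv P (ModuleCat.of A A) (-n) n (by omega)
  let f := e2.symm.dualMap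
  have key : ∀ (x : P.X n) (φ : Module.Dual A (P.X n)),
      f (e1 (evLin P (A0 A) n x)) φ = (n * -n).negOnePow • φ x := by
    intro x φ
    change e1 (evLin P (A0 A) n x) (e2.symm φ) = _
    change (singleObjXSelf (ComplexShape.up ℤ) 0 (ModuleCat.of A A)).hom.hom
      (((evCochain P (A0 A) n x).v (-n) 0 (by omega)).hom (e2.symm φ)) = _
    rw [evCochain_v_apply, map_zsmul_unit]
    congr 1
    exact ofDual_v_apply P (ModuleCat.of A A) (-n) n (by omega) φ x
  have hcomp : ∀ x : P.X n, f (e1 (evLin P (A0 A) n x)) =
      (n * -n).negOnePow • Module.Dual.eval A (P.X n) x := by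
    intro x
    apply LinearMap.ext
    intro φ
    rw [key]
    rfl
  have hbij : Function.Bijective (fun x : P.X n => f (e1 (evLin P (A0 A) n x))) := by
    have h0 := Module.bijective_dual_eval A (P.X n)
    have : (fun x : P.X n => f (e1 (evLin P (A0 A) n x))) =
        (fun ξ => (n * -n).negOnePow • ξ) ∘ (Module.Dual.eval A (P.X n)) := by
      funext x
      exact hcomp x
    rw [this]
    refine Function.Bijective.comp ?_ h0
    rcases Int.units_eq_one_or (n * -n).negOnePow with h | h
    · rw [h]
      have : (fun ξ : Module.Dual A (Module.Dual A (P.X n)) => (1 : ℤˣ) • ξ) = fun ξ => ξ := by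
        funext ξ
        simp
      rw [this]
      exact Function.bijective_id
    · rw [h]
      have : (fun ξ : Module.Dual A (Module.Dual A (P.X n)) => (-1 : ℤˣ) • ξ) = fun ξ => -ξ := by
        funext ξ
        simp
      rw [this]
      exact (Equiv.neg _).bijective
  have h2 : Function.Bijective (fun x : P.X n => (f.toEquiv.symm.trans e1.toEquiv.symm)
      (f (e1 (evLin P (A0 A) n x)))) :=
    Function.Bijective.comp (f.toEquiv.symm.trans e1.toEquiv.symm).bijective hbij
  have h3 : (fun x : P.X n => (f.toEquiv.symm.trans e1.toEquiv.symm)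
      (f (e1 (evLin P (A0 A) n x)))) = evLin P (A0 A) n := by
    funext x
    simp
  rw [← h3]
  exact h2

theorem isIso_evHom (P : DRing.Cx A) (h : DRing.TermwiseFiniteProjective P) :
    IsIso (evHom P (A0 A)) := by
  haveI : ∀ n, IsIso ((evHom P (A0 A)).f n) := by
    intro n
    haveI := (h n).1
    haveI := (h n).2
    exact (ConcreteCategory.isIso_iff_bijective _).2 (bijective_evLin P n)
  exact HomologicalComplex.Hom.isIso_of_components _

end Groth.Agent.Lib.helper23.DualPerf
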