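import Mathlib
import Groth.Prelude.Def_DRing4
import Groth.Agent.Lib.Helper23.DualPerf2
import Groth.Agent.Lib.Helper23.RHomCx2
import Groth.Agent.Lib.Helper23.RHomEx

/-!
# Duals of complexes, part 3 (helper23): the derived dual of a perfect complex

* `hasRHomCx_of_isKProjective`;
* `nonempty_RHomCx_iso_of_Q_iso`: `RHom(E, X) ≅ RHom(P, X)` when `Q(P) ≅ Q(E)` with `P` K-projective;
* `isPerfect_dual_and_double_dual`.
-/

set_option autoImplicit false
universe u
open CategoryTheory CategoryTheory.Limits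
open CochainComplex.HomComplex HomologicalComplex

attribute [local instance] HasDerivedCategory.standard

namespace Groth.Agent.Lib.helper23.DualPerf

open Groth.Agent.Lib.helper23.RHomCx DerivedCategory

variable {A : Type u} [CommRing A]

lemma hasRHomCx_of_isKProjective (P : DRing.Cx A) [P.IsKProjective] : DRing.HasRHomCx P := by
  haveI := Functor.hasPointwiseRightDerivedFunctor_of_inverts (DRing.homCxQ P)
    (isInvertedBy_homCxQ P)
  infer_instance

/-- `RHom(E, X) ≅ RHom(P, X)` when `Q(P) ≅ Q(E)` with `P` K-projective. -/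
theorem nonempty_RHomCx_iso_of_Q_iso (P E : DRing.Cx A) [P.IsKProjective] [DRing.HasRHomCx P]
    [DRing.HasRHomCx E] (e : Q.obj P ≅ Q.obj E) (X : Dual.D A) :
    Nonempty ((DRing.RHomCx E).obj X ≅ (DRing.RHomCx P).obj X) := by
  obtain ⟨h, hh⟩ := (CochainComplex.IsKProjective.Qh_map_bijective P
    ((HomotopyCategory.quotient _ _).obj E)).2 e.hom
  obtain ⟨f, rfl⟩ := (HomotopyCategory.quotient _ _).map_surjective h
  have hf : Q.map f = e.hom := hh
  haveI : QuasiIso f := by
    rw [← isIso_Q_map_iff_quasiIso, hf]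
    infer_instance
  obtain ⟨I, g, hI, hg⟩ := Groth.Agent.Lib.helper23.RHomEx.hKinj A (Q.objPreimage X)
  haveI := hI
  haveI : IsIso (Q.map g) := by
    rw [isIso_Q_map_iff_quasiIso]
    exact hg
  let eX : X ≅ Q.obj I := (Q.objObjPreimageIso X).symm ≪≫ asIso (Q.map g)
  haveI : QuasiIso (homCxMapLeft f I) := quasiIso_homCxMapLeft f I
  haveI : IsIso (Q.map (homCxMapLeft f I)) := by
    rw [isIso_Q_map_iff_quasiIso]
    infer_instance
  exact ⟨(DRing.RHomCx E).mapIso eX ≪≫ (RHomCxIso E I).symm ≪≫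
    asIso (Q.map (homCxMapLeft f I)) ≪≫ RHomCxIso P I ≪≫ (DRing.RHomCx P).mapIso eX.symm⟩

/-- bounded complexes of projectives are K-projective -/
lemma isKProjective_of_strictlyPerfect (P : DRing.Cx A) (a b : ℤ)
    (h : DRing.VanishesOutside P a b) (hP : DRing.TermwiseFiniteProjective P) :
    P.IsKProjective := by
  haveI : P.IsStrictlyLE b := by
    rw [CochainComplex.isStrictlyLE_iff]
    exact fun i hi => h i (Or.inr hi)
  haveI : ∀ n : ℤ, Projective (P.X n) := fun n => by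
    haveI := (hP n).2
    exact (IsProjective.iff_projective (P.X n)).1 inferInstance
  exact CochainComplex.isKProjective_of_projective P b

/-- `A[0]` in `D(A)` -/
noncomputable def inDIso (A : Type u) [CommRing A] : Dual.inD A A ≅ Q.obj (A0 A) :=
  (DerivedCategory.singleFunctorIsoCompQ (ModuleCat.{u} A) 0).app (ModuleCat.of A A)

/-- the derived dual of a strictly perfect complex -/
theorem nonempty_RHomCx_dual_iso (P : DRing.Cx A) [P.IsKProjective] [DRing.HasRHomCx P] :
    Nonempty ((DRing.RHomCx P).obj (Dual.inD A A) ≅ Q.obj (dualCx P)) := by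
  obtain ⟨e⟩ := nonempty_RHomCx_iso_of_isKProjective P (A0 A)
  exact ⟨(DRing.RHomCx P).mapIso (inDIso A) ≪≫ e⟩

theorem isPerfect_dual_and_double_dual (K : Dual.D A) (hK : DRing.IsPerfect A K)
    (E : DRing.Cx A) (eK : DRing.toD E ≅ K) [DRing.HasRHomCx E] :
    DRing.IsPerfect A ((DRing.RHomCx E).obj (Dual.inD A A)) ∧
      ∀ (E' : DRing.Cx A) (_ : DRing.toD E' ≅ (DRing.RHomCx E).obj (Dual.inD A A))
        [DRing.HasRHomCx E'], Nonempty ((DRing.RHomCx E').obj (Dual.inD A A) ≅ K) := by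
  obtain ⟨P, a, b, hab, hP, ⟨eP⟩⟩ := hK
  haveI : P.IsKProjective := isKProjective_of_strictlyPerfect P a b hab hP
  haveI : DRing.HasRHomCx P := hasRHomCx_of_isKProjective P
  obtain ⟨e1⟩ := nonempty_RHomCx_iso_of_Q_iso P E (eP ≪≫ eK.symm) (Dual.inD A A)
  obtain ⟨e2⟩ := nonempty_RHomCx_dual_iso P
  have hD1 := vanishesOutside_dualCx P a b hab
  have hD2 := termwiseFiniteProjective_dualCx P hP
  refine ⟨⟨dualCx P, -b, -a, hD1, hD2, ⟨(e1 ≪≫ e2).symm⟩⟩, ?_⟩
  intro E' eE' _
  haveI : (dualCx P).IsKProjective := isKProjective_of_strictlyPerfect _ _ _ hD1 hD2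
  haveI : DRing.HasRHomCx (dualCx P) := hasRHomCx_of_isKProjective _
  obtain ⟨e3⟩ := nonempty_RHomCx_iso_of_Q_iso (dualCx P) E' ((e1 ≪≫ e2).symm ≪≫ eE'.symm)
    (Dual.inD A A)
  obtain ⟨e4⟩ := nonempty_RHomCx_dual_iso (dualCx P)
  haveI := isIso_evHom P hP
  exact ⟨e3 ≪≫ e4 ≪≫ (Q.mapIso (asIso (evHom P (A0 A)))).symm ≪≫ eP⟩

end Groth.Agent.Lib.helper23.DualPerf
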