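import Mathlib
import Groth.Prelude.Def_DualSch
import Groth.Prelude.Def_FlatMod2
import Groth.Agent.Lib.Helper23.DimFn17
import Groth.Agent.Lib.Helper23.NCFree
import Groth.Agent.Lib.Helper24.FlatDepth5

/-!
# Dualizing complexes on schemes: stalks of the cohomology sheaves (helper23)
-/

set_option autoImplicit false
universe u
open CategoryTheory CategoryTheory.Limits AlgebraicGeometry

attribute [local instance] HasDerivedCategory.standard

namespace Groth.Agent.Lib.helper23.DualSch

variable {X : Scheme.{u}}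
  [∀ (U : Scheme.{u}) (j : U ⟶ X) [IsOpenImmersion j],
    PreservesFiniteLimits (Scheme.Modules.restrictFunctor j)]
  [∀ (R : CommRingCat.{u}), PreservesFiniteLimits (tilde.functor R)]

/-- the cohomology sheaves of `ω` restricted to an affine chart. -/
noncomputable def restrictHDIso (ω : DCoh.D X) (R : CommRingCat.{u})
    (j : Spec (CommRingCat.of R) ⟶ X) [IsOpenImmersion j]
    (ωA : DerivedCategory (ModuleCat.{u} R))
    (e : (DCoh.restrictD j).obj ω ≅ (DCoh.tildeD R).obj ωA) (i : ℤ) :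
    (Scheme.Modules.restrictFunctor j).obj (DCoh.HD ω i) ≅
      tilde ((DerivedCategory.homologyFunctor (ModuleCat.{u} R) i).obj ωA) :=
  (NCFree.homologyMapDerivedCategoryIso (Scheme.Modules.restrictFunctor j) ω i).symm ≪≫
    (DerivedCategory.homologyFunctor _ i).mapIso e ≪≫
    NCFree.homologyMapDerivedCategoryIso (tilde.functor R) ωA i

/-- the stalk of `H^i(ω)` at a point of an affine chart is nonzero iff the point is in the support
of `H^i(ω_A)`. -/
lemma nontrivial_stalk_HD_iff (ω : DCoh.D X) (R : CommRingCat.{u})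
    (j : Spec (CommRingCat.of R) ⟶ X) [IsOpenImmersion j]
    (ωA : DerivedCategory (ModuleCat.{u} R))
    (e : (DCoh.restrictD j).obj ω ≅ (DCoh.tildeD R).obj ωA) (i : ℤ)
    (y : PrimeSpectrum R) :
    Nontrivial ((DCoh.HD ω i).presheaf.stalk (j y)) ↔
      y ∈ Module.support R ((DerivedCategory.homologyFunctor (ModuleCat.{u} R) i).obj ωA) := by
  let M := (DerivedCategory.homologyFunctor (ModuleCat.{u} R) i).obj ωA
  let E1 := (Scheme.Modules.restrictStalkNatIso j y).app (DCoh.HD ω i)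
  let E2 := (Scheme.Modules.toPresheaf _ ⋙ TopCat.Presheaf.stalkFunctor Ab.{u} y).mapIso
    (restrictHDIso ω R j ωA e i)
  let E : (DCoh.HD ω i).presheaf.stalk (j y) ≅ (tilde M).presheaf.stalk y := E1.symm ≪≫ E2
  rw [(E.addCommGroupIsoToAddEquiv.toEquiv).nontrivial_congr, Module.mem_support_iff]
  exact ((IsLocalizedModule.iso y.asIdeal.primeCompl
    (tilde.toStalk M y).hom).toEquiv.nontrivial_congr).symm

/-- the local ring of `X` at a point of an affine chart. -/
noncomputable def stalkRingEquiv (R : CommRingCat.{u}) (j : Spec (CommRingCat.of R) ⟶ X)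
    [IsOpenImmersion j] (y : PrimeSpectrum R) :
    X.presheaf.stalk (j y) ≃+* Localization.AtPrime y.asIdeal :=
  (asIso (j.stalkMap y)).commRingCatIsoToRingEquiv.trans
    (StructureSheaf.stalkIso R y).symm.toRingEquiv

/-- Cohen–Macaulayness is invariant under ring isomorphisms. -/
lemma isCM_of_ringEquiv {S T : Type u} [CommRing S] [CommRing T] (e : S ≃+* T)
    (h : LocCoh.IsCohenMacaulayLocalRing S) : LocCoh.IsCohenMacaulayLocalRing T := by
  haveI : IsNoetherianRing S := h.toIsNoetherian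
  haveI : IsLocalRing S := h.toIsLocalRing
  haveI : IsNoetherianRing T := isNoetherianRing_of_ringEquiv S e
  haveI : IsLocalRing T := e.isLocalRing
  refine { supportDim_eq_depth := ?_ }
  have h1 := h.supportDim_eq_depth
  rw [Module.supportDim_self_eq_ringKrullDim] at h1 ⊢
  rw [← ringKrullDim_eq_of_ringEquiv e, Groth.Agent.Lib.Helper24.FlatDepth.depth_eq_of_ringEquiv e]
  exact h1

lemma isCM_iff_of_ringEquiv {S T : Type u} [CommRing S] [CommRing T] (e : S ≃+* T) :
    LocCoh.IsCohenMacaulayLocalRing S ↔ LocCoh.IsCohenMacaulayLocalRing T :=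
  ⟨isCM_of_ringEquiv e, isCM_of_ringEquiv e.symm⟩

open Groth.Agent.Lib.helper23.DimFn Groth.Agent.Lib.helper23.FBC in
/-- some cohomology module of a dualizing complex is supported at any given prime. -/
lemma exists_mem_support_HD {A : Type u} [CommRing A] [IsNoetherianRing A] (ωA : Dual.D A)
    (hωA : Dual.IsDualizing A ωA) (y : PrimeSpectrum A) :
    ∃ i : ℤ, y ∈ Module.support A (Dual.HD A ωA i) := by
  haveI := y.2
  have hK := isDualizing_EE_atPrime ωA hωA y.asIdeal
  haveI : IsNoetherianRing (Localization.AtPrime y.asIdeal) := hK.isNoetherianRing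
  obtain ⟨s, hK', hnorm'⟩ := exists_normalized_shift _ hK
  obtain ⟨δ, d, -, hd⟩ := exists_depth_dim _ hK
  have h1 := nontrivial_ext_neg_supportDim _ hK' hnorm' (Localization.AtPrime y.asIdeal) d hd
  refine ⟨s + -(d : ℤ), (mem_support_HD_iff ωA y _).2 ?_⟩
  refine (nontrivial_HD_shift_iff _ s _).1 ?_
  rw [← not_subsingleton_iff_nontrivial] at h1 ⊢
  intro hs
  exact h1 ((VZ_iff_subsingleton _ _ (ModuleCat.of _ _)).1 ((subsingleton_HD_iff _ _).1 hs))

open Groth.Agent.Lib.helper23.DimFn in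
/-- the affine-local statement. -/
lemma isCM_stalk_iff_chart (ω : DCoh.D X) (R : CommRingCat.{u})
    (j : Spec (CommRingCat.of R) ⟶ X) [IsOpenImmersion j]
    (ωA : DerivedCategory (ModuleCat.{u} R)) (hωA : Dual.IsDualizing R ωA)
    (e : (DCoh.restrictD j).obj ω ≅ (DCoh.tildeD R).obj ωA) (y : PrimeSpectrum R) :
    (LocCoh.IsCohenMacaulayLocalRing (X.presheaf.stalk (j y)) ↔
      LocCoh.IsCohenMacaulayLocalRing (Localization.AtPrime y.asIdeal)) ∧
    (LocCoh.IsCohenMacaulayLocalRing (X.presheaf.stalk (j y)) ↔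
      ∃! i : ℤ, Nontrivial ((DCoh.HD ω i).presheaf.stalk (j y))) := by
  haveI : IsNoetherianRing R := hωA.isNoetherianRing
  have h1 := isCM_iff_of_ringEquiv (stalkRingEquiv R j y)
  refine ⟨h1, ?_⟩
  rw [h1, isCM_atPrime_iff ωA hωA y]
  have h2 : ∀ i : ℤ, Nontrivial ((DCoh.HD ω i).presheaf.stalk (j y)) ↔
      y ∈ Module.support R (Dual.HD R ωA i) := fun i => nontrivial_stalk_HD_iff ω R j ωA e i y
  constructor
  · intro h
    obtain ⟨i, hi⟩ := exists_mem_support_HD ωA hωA y
    exact ⟨i, (h2 i).2 hi, fun k hk => h k i ((h2 k).1 hk) hi⟩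
  · rintro ⟨i, hi, huniq⟩ k l hk hl
    rw [huniq k ((h2 k).2 hk), huniq l ((h2 l).2 hl)]

open Groth.Agent.Lib.helper23.DimFn in
/-- S1809. -/
theorem isCM_stalk_iff_and_isOpen [IsLocallyNoetherian X] (ω : DCoh.D X)
    (hω : Dual2.IsDualizingSch X ω) :
    (∀ x : X, LocCoh.IsCohenMacaulayLocalRing (X.presheaf.stalk x) ↔
      ∃! i : ℤ, Nontrivial ((DCoh.HD ω i).presheaf.stalk x)) ∧
    IsOpen {x : X | LocCoh.IsCohenMacaulayLocalRing (X.presheaf.stalk x)} := by
  -- charts
  have hchart : ∀ x : X, ∃ (R : CommRingCat.{u}) (j : Spec (CommRingCat.of R) ⟶ X)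
      (_ : IsOpenImmersion j) (ωA : DerivedCategory (ModuleCat.{u} R)) (_ : Dual.IsDualizing R ωA)
      (_ : (DCoh.restrictD j).obj ω ≅ (DCoh.tildeD R).obj ωA) (y : PrimeSpectrum R), j y = x := by
    intro x
    obtain ⟨y, hy⟩ := X.affineOpenCover.covers x
    have hji : IsOpenImmersion (X.affineOpenCover.f (X.affineOpenCover.idx x)) := inferInstance
    obtain ⟨ωA, hωA, ⟨e⟩⟩ := @hω (X.affineOpenCover.X (X.affineOpenCover.idx x)) _
      (X.affineOpenCover.f (X.affineOpenCover.idx x)) hji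
    exact ⟨X.affineOpenCover.X (X.affineOpenCover.idx x),
      X.affineOpenCover.f (X.affineOpenCover.idx x), hji, ωA, hωA, e, y, hy⟩
  constructor
  · intro x
    obtain ⟨R, j, hj, ωA, hωA, e, y, rfl⟩ := hchart x
    exact (isCM_stalk_iff_chart ω R j ωA hωA e y).2
  · rw [isOpen_iff_forall_mem_open]
    intro x hx
    obtain ⟨R, j, hj, ωA, hωA, e, y, rfl⟩ := hchart x
    haveI : IsNoetherianRing R := hωA.isNoetherianRing
    have hopen := (cohenMacaulay_locus_open_dense ωA hωA).1
    refine ⟨j '' {p : PrimeSpectrum R |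
      LocCoh.IsCohenMacaulayLocalRing (Localization.AtPrime p.asIdeal)}, ?_, ?_, ?_⟩
    · rintro _ ⟨y', hy', rfl⟩
      exact (isCM_stalk_iff_chart ω R j ωA hωA e y').1.2 hy'
    · exact j.isOpenEmbedding.isOpenMap _ hopen
    · exact ⟨y, (isCM_stalk_iff_chart ω R j ωA hωA e y).1.1 hx, rfl⟩

end Groth.Agent.Lib.helper23.DualSch
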