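import Mathlib
import Groth.Prelude.Def_DualSch
import Groth.Prelude.Def_FlatMod2
import Groth.Agent.Lib.Helper23.DualSch1

/-!
# A scheme with a dualizing module is Cohen–Macaulay (helper23)
-/

set_option autoImplicit false
universe u
open CategoryTheory CategoryTheory.Limits AlgebraicGeometry

attribute [local instance] HasDerivedCategory.standard

namespace Groth.Agent.Lib.helper23.DualSch

variable {X : Scheme.{u}}
  [∀ (U : Scheme.{u}) (j : U ⟶ X) [IsOpenImmersion j],
    PreservesFiniteLimits (Scheme.Modules.restrictFunctor j)]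
  [∀ (R : CommRingCat.{u}), PreservesFiniteLimits (tilde.functor R)]

/-- affine charts for a dualizing complex. -/
lemma exists_chart (ω : DCoh.D X) (hω : Dual2.IsDualizingSch X ω) (x : X) :
    ∃ (R : CommRingCat.{u}) (j : Spec (CommRingCat.of R) ⟶ X)
      (_ : IsOpenImmersion j) (ωA : DerivedCategory (ModuleCat.{u} R)) (_ : Dual.IsDualizing R ωA)
      (_ : (DCoh.restrictD j).obj ω ≅ (DCoh.tildeD R).obj ωA) (y : PrimeSpectrum R), j y = x := by
  obtain ⟨y, hy⟩ := X.affineOpenCover.covers x
  have hji : IsOpenImmersion (X.affineOpenCover.f (X.affineOpenCover.idx x)) := inferInstance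
  obtain ⟨ωA, hωA, ⟨e⟩⟩ := @hω (X.affineOpenCover.X (X.affineOpenCover.idx x)) _
    (X.affineOpenCover.f (X.affineOpenCover.idx x)) hji
  exact ⟨X.affineOpenCover.X (X.affineOpenCover.idx x),
    X.affineOpenCover.f (X.affineOpenCover.idx x), hji, ωA, hωA, e, y, hy⟩

/-- S3675. -/
theorem isCM_of_dualizing_module [IsLocallyNoetherian X] (ω : X.Modules)
    (hD : Dual2.IsDualizingSch X (DCoh.inD X ω)) (x : X) :
    LocCoh.IsCohenMacaulayLocalRing (X.presheaf.stalk x) := by
  obtain ⟨R, j, hj, ωA, hωA, e, y, rfl⟩ := exists_chart (DCoh.inD X ω) hD x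
  haveI : IsNoetherianRing R := hωA.isNoetherianRing
  refine (isCM_stalk_iff_chart (DCoh.inD X ω) R j ωA hωA e y).2.2 ?_
  have hzero : ∀ i : ℤ, i ≠ 0 →
      ¬ Nontrivial ((DCoh.HD (DCoh.inD X ω) i).presheaf.stalk (j y)) := by
    intro i hi
    rw [nontrivial_stalk_HD_iff (DCoh.inD X ω) R j ωA e i y]
    have hz : IsZero (DCoh.HD (DCoh.inD X ω) i) := by
      rcases lt_or_gt_of_ne hi with hlt | hgt
      · exact DerivedCategory.isZero_of_isGE (DCoh.inD X ω) 0 i hlt
      · exact DerivedCategory.isZero_of_isLE (DCoh.inD X ω) 0 i hgt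
    have hz2 : IsZero (tilde ((DerivedCategory.homologyFunctor (ModuleCat.{u} R) i).obj ωA)) :=
      ((Scheme.Modules.restrictFunctor j).map_isZero hz).of_iso
        (restrictHDIso (DCoh.inD X ω) R j ωA e i).symm
    have hz3 : IsZero ((DerivedCategory.homologyFunctor (ModuleCat.{u} R) i).obj ωA) := by
      rw [IsZero.iff_id_eq_zero]
      apply (tilde.functor R).map_injective
      exact hz2.eq_of_src _ _
    haveI : Subsingleton ((DerivedCategory.homologyFunctor (ModuleCat.{u} R) i).obj ωA) :=
      ModuleCat.isZero_iff_subsingleton.1 hz3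
    rw [Module.support_eq_empty]
    exact Set.notMem_empty y
  obtain ⟨i, hi⟩ := exists_mem_support_HD ωA hωA y
  have hi' := (nontrivial_stalk_HD_iff (DCoh.inD X ω) R j ωA e i y).2 hi
  have hi0 : i = 0 := by
    by_contra hne
    exact hzero i hne hi'
  subst hi0
  refine ⟨0, hi', fun k hk => ?_⟩
  by_contra hne
  exact hzero k hne hk

end Groth.Agent.Lib.helper23.DualSch
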