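import Mathlib
import Groth.Prelude.Def_DualSch
import Groth.Prelude.Def_Dual3
import Groth.Prelude.Def_FlatMod2
import Groth.Agent.Lib.Helper23.DualSch2
import Groth.Agent.Lib.Helper23.DimFn5
import Groth.Agent.Lib.Helper17.GorIso
import Groth.Agent.Lib.Helper11.InvMod
import Groth.Agent.S11179

/-!
# On a Gorenstein scheme with a dualizing complex, the structure sheaf is dualizing (helper23)
-/

set_option autoImplicit false
universe u
open CategoryTheory CategoryTheory.Limits AlgebraicGeometry TensorProduct

attribute [local instance] HasDerivedCategory.standard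

namespace Groth.Agent.Lib.helper23.DualSch

open Groth.Agent.Lib.helper23.FBC Groth.Agent.Lib.helper23.DimFn

section Ring

variable (A : Type u) [CommRing A] [IsNoetherianRing A]

attribute [local instance 50] homModuleA
attribute [local instance] FlatBC.preservesFiniteLimits_extendScalars_algebraMap

/-- `B ⊗_A A ≅ B` in `ModuleCat B`. -/
noncomputable def extendSelfIso (B : Type u) [CommRing B] [Algebra A B] :
    (ModuleCat.extendScalars.{u, u, u} (algebraMap A B)).obj (ModuleCat.of A A) ≅
      ModuleCat.of B B :=
  ((ExtSc.extendObjEquiv (B := B) (ModuleCat.of A A)).trans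
    (TensorProduct.AlgebraTensorModule.rid A B B)).toModuleIso

/-- a Noetherian ring of finite Krull dimension all of whose local rings are Gorenstein has `A[0]`
as a dualizing complex. -/
theorem isDualizing_self_of_gorenstein (hdim : ringKrullDim A < ⊤)
    (hG : ∀ (q : Ideal A) [q.IsPrime], LocCoh.IsGorensteinLocalRing (Localization.AtPrime q)) :
    Dual.IsDualizing A (Dual.inD A A) := by
  haveI : (Dual.inD A A).IsGE 0 := by
    dsimp only [Dual.inD]
    infer_instance
  refine isDualizing_of_pointwise hdim (Dual.inD A A) 0
    (fun j => DualD.finite_homology_single (ModuleCat.of A A) j) (fun q hq => ?_)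
  haveI : Module.Flat A (Localization.AtPrime q) :=
    IsLocalization.flat (Localization.AtPrime q) q.primeCompl
  have h1 : Dual.IsDualizing (Localization.AtPrime q)
      (Dual.inD (Localization.AtPrime q) (Localization.AtPrime q)) :=
    (Groth.Agent.S11179.result (Localization.AtPrime q)).1 (hG q)
  refine isDualizing_of_iso ?_ h1
  exact ((DerivedCategory.singleFunctor (ModuleCat.{u} (Localization.AtPrime q)) 0).mapIso
    (extendSelfIso A (Localization.AtPrime q))).symm ≪≫
    (EEsingleIso (Localization.AtPrime q) (ModuleCat.of A A)).symm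

end Ring

section Sch

open Groth.Agent.Lib.helper11.InvMod

variable {X : Scheme.{u}}
  [∀ (U : Scheme.{u}) (j : U ⟶ X) [IsOpenImmersion j],
    PreservesFiniteLimits (Scheme.Modules.restrictFunctor j)]
  [∀ (R : CommRingCat.{u}), PreservesFiniteLimits (tilde.functor R)]

/-- the restriction of `O_X[0]` to an affine chart is `(R[0])~`. -/
noncomputable def restrictStructureIso (R : CommRingCat.{u})
    (j : Spec (CommRingCat.of R) ⟶ X) [IsOpenImmersion j] :
    (DCoh.restrictD j).obj (DCoh.inD X (Coh.structureModule X)) ≅
      (DCoh.tildeD R).obj (Dual.inD R R) :=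
  ((Scheme.Modules.restrictFunctor j).mapDerivedCategorySingleFunctor 0).app
      (Coh.structureModule X) ≪≫
    (DerivedCategory.singleFunctor _ 0).mapIso
      ((Scheme.Modules.restrictFunctorIsoPullback j).app (Coh.structureModule X) ≪≫
        pullbackUnitIso j ≪≫ (tildeSelf (R := R)).symm) ≪≫
    (((tilde.functor R).mapDerivedCategorySingleFunctor 0).app (ModuleCat.of R R)).symm

/-- S3622 (the nontrivial direction). -/
theorem isDualizingSch_structure_of_gorenstein (hX : Dual3.IsGorenstein X) (K : DCoh.D X)
    (hK : Dual2.IsDualizingSch X K) :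
    Dual2.IsDualizingSch X (DCoh.inD X (Coh.structureModule X)) := by
  intro A _ j _
  obtain ⟨ω, hω, -⟩ := hK A j
  haveI := hω.isNoetherianRing
  refine ⟨Dual.inD A A, isDualizing_self_of_gorenstein A (ringKrullDim_lt_top_of_dualizing ω hω)
    (fun q hq => ?_), ⟨restrictStructureIso (CommRingCat.of A) j⟩⟩
  exact Groth.Agent.Lib.helper17.GorIso.isGorensteinLocalRing_of_ringEquiv
    (stalkRingEquiv (CommRingCat.of A) j ⟨q, hq⟩).symm (hX.2 (j ⟨q, hq⟩))

end Sch

end Groth.Agent.Lib.helper23.DualSch
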