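import Mathlib
import Groth.Prelude.Def_CAlg
import Groth.Agent.Lib.Helper26.DepthLoc3
import Groth.Agent.Lib.Helper26.LocTrans

/-!
# `(S_k)` passes to abstract models of the localization at a prime (helper23)
-/

set_option autoImplicit false
universe u

open LocCoh

namespace Groth.Agent.Lib.helper23.SkLoc

open Groth.Agent.Lib.helper26.Depth

section

variable {R : Type u} [CommRing R] [IsNoetherianRing R] (p : Ideal R) [p.IsPrime]
  (M : Type u) [AddCommGroup M] [Module R M] [Module.Finite R M]
  (T : Type u) [CommRing T] [Algebra R T] [IsLocalization.AtPrime T p]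
  (N : Type u) [AddCommGroup N] [Module R N] [Module T N] [IsScalarTower R T N]

/-- localizing a model `N` of `M_p` at a prime `P` of the model `T` of `R_p` gives the localization
of `M` at `P ∩ R`. -/
theorem depth_supportDim_of_isLocalizedModule (f : M →ₗ[R] N) [IsLocalizedModule p.primeCompl f]
    (P : Ideal T) [P.IsPrime] :
    depth (Localization.AtPrime P) (LocalizedModule P.primeCompl N) =
      depth (Localization.AtPrime (P.comap (algebraMap R T)))
        (LocalizedModule (P.comap (algebraMap R T)).primeCompl M) ∧
    Module.supportDim (Localization.AtPrime P) (LocalizedModule P.primeCompl N) =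
      Module.supportDim (Localization.AtPrime (P.comap (algebraMap R T)))
        (LocalizedModule (P.comap (algebraMap R T)).primeCompl M) := by
  let g : N →ₗ[T] LocalizedModule P.primeCompl N := LocalizedModule.mkLinearMap P.primeCompl N
  have hf0 : IsBaseChange T f := IsLocalizedModule.isBaseChange p.primeCompl _ f
  have hg : IsBaseChange (Localization.AtPrime P) g :=
    IsLocalizedModule.isBaseChange P.primeCompl _ g
  have hfg := IsBaseChange.comp hf0 hg
  have hT : IsLocalization.AtPrime (Localization.AtPrime P) (P.comap (algebraMap R T)) :=
    IsLocalization.isLocalization_isLocalization_atPrime_isLocalization p.primeCompl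
      (Localization.AtPrime P) P
  have hloc : IsLocalizedModule (P.comap (algebraMap R T)).primeCompl
      ((g.restrictScalars R).comp f) :=
    (isLocalizedModule_iff_isBaseChange
      (P.comap (algebraMap R T)).primeCompl (Localization.AtPrime P) _).mpr hfg
  exact ⟨depth_eq_of_isLocalizedModule (P.comap (algebraMap R T)) M
      (Localization.AtPrime P) _ ((g.restrictScalars R).comp f),
    supportDim_eq_of_isLocalizedModule (P.comap (algebraMap R T)) M
      (Localization.AtPrime P) _ ((g.restrictScalars R).comp f)⟩

/-- `(S_k)` passes to any model of the localization at a prime. -/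
theorem hasSk_of_isLocalizedModule (k : ℕ) (f : M →ₗ[R] N) [IsLocalizedModule p.primeCompl f]
    (h : HasSk k R M) : HasSk k T N := by
  intro P _
  obtain ⟨h1, h2⟩ := depth_supportDim_of_isLocalizedModule p M T N f P
  rw [h1, h2]
  exact h _

end

end Groth.Agent.Lib.helper23.SkLoc
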