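import Mathlib
import Groth.Prelude.Def_CAlg
import Groth.Agent.Lib.Helper23.SkLoc

/-!
# `(S_k)` and torsion-freeness along semilinear models of a localization (helper23)
-/

set_option autoImplicit false
universe u

open LocCoh

namespace Groth.Agent.Lib.helper23.SkLoc

section Semilinear

/-- `(S_k)` passes from `(R, M)` to a model `(T, N)` of the localization of an isomorphic pair
`(R', M')` at a prime. -/
theorem hasSk_of_semilinear_localization {R : Type u} [CommRing R] [IsNoetherianRing R]
    (M : Type u) [AddCommGroup M] [Module R M] [Module.Finite R M]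
    {R' : Type u} [CommRing R'] (M' : Type u) [AddCommGroup M'] [Module R' M']
    (σ : R ≃+* R') (τ : M ≃+ M') (hτ : ∀ (r : R) (m : M), τ (r • m) = σ r • τ m)
    (p' : Ideal R') [p'.IsPrime]
    (T : Type u) [CommRing T] [Algebra R' T] [IsLocalization.AtPrime T p']
    (N : Type u) [AddCommGroup N] [Module R' N] [Module T N] [IsScalarTower R' T N]
    (f' : M' →ₗ[R'] N) [IsLocalizedModule p'.primeCompl f']
    (k : ℕ) (h : HasSk k R M) : HasSk k T N := by
  letI : Algebra R T := ((algebraMap R' T).comp (σ : R →+* R')).toAlgebra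
  letI : Module R N := Module.compHom N (σ : R →+* R')
  have hsm : ∀ (r : R) (n : N), r • n = σ r • n := fun r n => rfl
  have ham : ∀ r : R, algebraMap R T r = algebraMap R' T (σ r) := fun r => rfl
  haveI : IsScalarTower R T N := IsScalarTower.of_algebraMap_smul fun r n => by
    rw [ham, algebraMap_smul, hsm]
  let p : Ideal R := p'.comap (σ : R →+* R')
  haveI : p.IsPrime := Ideal.comap_isPrime _ _
  have hmem : ∀ r : R, r ∈ p.primeCompl ↔ σ r ∈ p'.primeCompl := fun r => Iff.rfl
  haveI : IsLocalization.AtPrime T p := by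
    refine ⟨⟨?_, ?_, ?_⟩⟩
    · rintro ⟨y, hy⟩
      rw [ham]
      exact IsLocalization.map_units T (⟨σ y, (hmem y).1 hy⟩ : p'.primeCompl)
    · intro z
      obtain ⟨⟨x, s⟩, hxs⟩ := IsLocalization.surj p'.primeCompl z
      refine ⟨⟨σ.symm x, ⟨σ.symm s.1, (hmem _).2 (by simpa using s.2)⟩⟩, ?_⟩
      show z * algebraMap R T (σ.symm s.1) = algebraMap R T (σ.symm x)
      rw [ham, ham, σ.apply_symm_apply, σ.apply_symm_apply]
      exact hxs
    · intro x y hxy
      rw [ham, ham] at hxy
      obtain ⟨c, hc⟩ := IsLocalization.exists_of_eq (M := p'.primeCompl) hxy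
      refine ⟨⟨σ.symm c.1, (hmem _).2 (by simpa using c.2)⟩, ?_⟩
      apply σ.injective
      show σ (σ.symm c.1 * x) = σ (σ.symm c.1 * y)
      rw [map_mul, map_mul, σ.apply_symm_apply]
      exact hc
  let f : M →ₗ[R] N :=
    { toFun := fun m => f' (τ m)
      map_add' := fun a b => by rw [map_add, map_add]
      map_smul' := fun r m => by
        rw [hτ, map_smul, RingHom.id_apply, hsm] }
  haveI : IsLocalizedModule p.primeCompl f := by
    refine ⟨?_, ?_, ?_⟩
    · rintro ⟨y, hy⟩
      have hu := IsLocalizedModule.map_units f' (⟨σ y, (hmem y).1 hy⟩ : p'.primeCompl)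
      rw [Module.End.isUnit_iff] at hu ⊢
      exact hu
    · intro n
      obtain ⟨⟨m', s⟩, hms⟩ := IsLocalizedModule.surj p'.primeCompl f' n
      refine ⟨⟨τ.symm m', ⟨σ.symm s.1, (hmem _).2 (by simpa using s.2)⟩⟩, ?_⟩
      show σ.symm s.1 • n = f' (τ (τ.symm m'))
      rw [hsm, σ.apply_symm_apply, τ.apply_symm_apply]
      exact hms
    · intro x₁ x₂ hx
      have hx' : f' (τ x₁) = f' (τ x₂) := hx
      obtain ⟨c, hc⟩ := IsLocalizedModule.exists_of_eq (S := p'.primeCompl) hx'
      refine ⟨⟨σ.symm c.1, (hmem _).2 (by simpa using c.2)⟩, ?_⟩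
      apply τ.injective
      show τ (σ.symm c.1 • x₁) = τ (σ.symm c.1 • x₂)
      rw [hτ, hτ, σ.apply_symm_apply]
      exact hc
  exact hasSk_of_isLocalizedModule p M T N k f h

end Semilinear

section TorsionFree

/-- torsion-freeness passes from `(R, M)` (`R` a domain) to a model `(T, N)` of the localization of
an isomorphic pair `(R', M')` at a prime. -/
theorem isTorsionFree_of_semilinear_localization {R : Type u} [CommRing R] [IsDomain R]
    (M : Type u) [AddCommGroup M] [Module R M]
    {R' : Type u} [CommRing R'] (M' : Type u) [AddCommGroup M'] [Module R' M']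
    (σ : R ≃+* R') (τ : M ≃+ M') (hτ : ∀ (r : R) (m : M), τ (r • m) = σ r • τ m)
    (p' : Ideal R') [p'.IsPrime]
    (T : Type u) [CommRing T] [Algebra R' T] [IsLocalization.AtPrime T p']
    (N : Type u) [AddCommGroup N] [Module R' N] [Module T N] [IsScalarTower R' T N]
    (f' : M' →ₗ[R'] N) [IsLocalizedModule p'.primeCompl f']
    (h : Module.IsTorsionFree R M) :
    Module.IsTorsionFree T N := by
  have key : ∀ (t : T) (n : N), t ≠ 0 → t • n = 0 → n = 0 := by
    intro t n ht htn
    obtain ⟨⟨x, s⟩, hxs⟩ := IsLocalization.surj p'.primeCompl t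
    obtain ⟨⟨m', s'⟩, hms⟩ := IsLocalizedModule.surj p'.primeCompl f' n
    -- `x ≠ 0`
    have hx0 : x ≠ 0 := by
      rintro rfl
      rw [map_zero] at hxs
      have hu : IsUnit (algebraMap R' T s.1) := IsLocalization.map_units T s
      exact ht (hu.mul_left_eq_zero.1 hxs)
    -- `f' (x • m') = 0`
    have h1 : f' (x • m') = 0 := by
      rw [map_smul, ← hms]
      show x • ((s' : R') • n) = 0
      calc x • ((s' : R') • n) = algebraMap R' T x • ((s' : R') • n) := by rw [algebraMap_smul]
        _ = (t * algebraMap R' T (s : R')) • ((s' : R') • n) := by rw [← hxs]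
        _ = t • ((s : R') • ((s' : R') • n)) := by rw [mul_smul, algebraMap_smul]
        _ = (s : R') • ((s' : R') • (t • n)) := by
            rw [smul_comm t (s : R'), smul_comm t (s' : R')]
        _ = 0 := by rw [htn, smul_zero, smul_zero]
    have h1' : f' (x • m') = f' 0 := by rw [h1, map_zero]
    obtain ⟨c, hc⟩ := IsLocalizedModule.exists_of_eq (S := p'.primeCompl) h1'
    rw [smul_zero] at hc
    have hc' : ((c : R') * x) • m' = 0 := by
      rw [mul_smul]
      exact hc
    -- transport to `M`
    have h3 : (σ.symm ((c : R') * x)) • τ.symm m' = 0 := by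
      apply τ.injective
      rw [hτ, σ.apply_symm_apply, τ.apply_symm_apply, map_zero]
      exact hc'
    have hcx : σ.symm ((c : R') * x) ≠ 0 := by
      intro h0
      have h4 : (c : R') * x = 0 := by
        have := congrArg σ h0
        rwa [σ.apply_symm_apply, map_zero] at this
      haveI : IsDomain R' := σ.symm.toMulEquiv.isDomain (B := R)
      rcases mul_eq_zero.1 h4 with hc0 | hx0'
      · exact c.2 (by rw [hc0]; exact p'.zero_mem)
      · exact hx0 hx0'
    have h5 : τ.symm m' = 0 := by
      have hreg := h.isSMulRegular (IsRegular.of_ne_zero hcx)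
      exact hreg (by
        show σ.symm ((c : R') * x) • τ.symm m' = σ.symm ((c : R') * x) • (0 : M)
        rw [h3, smul_zero])
    have h6 : m' = 0 := by
      have := congrArg τ h5
      rwa [τ.apply_symm_apply, map_zero] at this
    rw [h6, map_zero] at hms
    have hu := IsLocalizedModule.map_units f' s'
    rw [Module.End.isUnit_iff] at hu
    apply hu.injective
    show (s' : R') • n = (s' : R') • 0
    rw [smul_zero]
    exact hms
  refine @Module.IsTorsionFree.mk T N _ _ _ (fun t ht a b hab => ?_)
  have h1 : t • (a - b) = 0 := by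
    rw [smul_sub]
    exact sub_eq_zero.2 hab
  have ht0 : t ≠ 0 := by
    haveI : Nontrivial T := by
      haveI : Nontrivial R' := σ.symm.toMulEquiv.isDomain (B := R) |>.toNontrivial
      exact (IsLocalization.AtPrime.isLocalRing T p').toNontrivial
    exact ht.ne_zero
  exact sub_eq_zero.1 (key t (a - b) ht0 h1)

end TorsionFree

end Groth.Agent.Lib.helper23.SkLoc
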