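import Mathlib
import Groth.Prelude.Def_DualSch
import Groth.Prelude.Def_FlatMod2
import Groth.Agent.Lib.Helper23.DualSch2
import Groth.Agent.Lib.Helper23.DimFn30
import Groth.Agent.Lib.Helper23.SkLoc2
import Groth.Agent.Lib.Helper16.CohStalk
import Groth.Agent.Lib.Helper28.RestrictCover

/-!
# The dualizing sheaf of a dualizing complex on a scheme: `(S_2)` and torsion-freeness (helper23)
-/

set_option autoImplicit false
universe u
open CategoryTheory CategoryTheory.Limits AlgebraicGeometry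

attribute [local instance] HasDerivedCategory.standard

namespace Groth.Agent.Lib.helper23.DualSch

open Groth.Agent.Lib.helper23.DimFn Groth.Agent.Lib.helper23.SkLoc
open Groth.Agent.Lib.helper16.CohStalk

variable {X : Scheme.{u}}
  [∀ (U : Scheme.{u}) (j : U ⟶ X) [IsOpenImmersion j],
    PreservesFiniteLimits (Scheme.Modules.restrictFunctor j)]
  [∀ (R : CommRingCat.{u}), PreservesFiniteLimits (tilde.functor R)]

/-- the cohomology sheaves of a dualizing complex are quasi-coherent. -/
theorem isQuasicoherent_HD (K : DCoh.D X) (hK : Dual2.IsDualizingSch X K) (n : ℤ) :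
    (DCoh.HD K n).IsQuasicoherent := by
  refine Groth.Agent.Lib.helper28.RestrictCover.isQuasicoherent_of_restrict_cover (DCoh.HD K n)
    (fun i => Spec (X.affineOpenCover.X i)) (fun i => X.affineOpenCover.f i)
    (fun x => ⟨X.affineOpenCover.idx x, X.affineOpenCover.covers x⟩) (fun i => ?_)
  have hji : IsOpenImmersion (X.affineOpenCover.f i) := inferInstance
  obtain ⟨ωA, hωA, ⟨e⟩⟩ := @hK (X.affineOpenCover.X i) _ (X.affineOpenCover.f i) hji
  exact (SheafOfModules.isQuasicoherent (Spec (X.affineOpenCover.X i)).ringCatSheaf).prop_of_iso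
    (restrictHDIso K (X.affineOpenCover.X i) (X.affineOpenCover.f i) ωA e n).symm inferInstance

/-- `(S_2)` and torsion-freeness of the stalks of the bottom cohomology sheaf, on a chart. -/
theorem stalk_HD_bottom_chart (K : DCoh.D X) (n : ℤ) (R : CommRingCat.{u})
    (j : Spec (CommRingCat.of R) ⟶ X) [IsOpenImmersion j]
    (ωA : DerivedCategory (ModuleCat.{u} R))
    (hωA : Dual.IsDualizing R ωA) [ωA.IsGE n] [(DCoh.HD K n).IsQuasicoherent]
    (e : (DCoh.restrictD j).obj K ≅ (DCoh.tildeD R).obj ωA) (y : PrimeSpectrum R) :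
    LocCoh.HasSk 2 (X.presheaf.stalk (j y)) ((DCoh.HD K n).presheaf.stalk (j y)) ∧
      (IsDomain R → Module.IsTorsionFree (X.presheaf.stalk (j y))
        ((DCoh.HD K n).presheaf.stalk (j y))) := by
  haveI : IsNoetherianRing R := hωA.isNoetherianRing
  haveI : Module.Finite R ((DerivedCategory.homologyFunctor (ModuleCat.{u} R) n).obj ωA) :=
    hωA.finite_cohomology n
  let F := DCoh.HD K n
  let M := (DerivedCategory.homologyFunctor (ModuleCat.{u} R) n).obj ωA
  let φ := restrictHDIso K R j ωA e n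
  let G := (Scheme.Modules.restrictFunctor j).obj F
  let ψ : M ≅ moduleSpecΓFunctor.obj G :=
    tilde.toTildeΓNatIso.app M ≪≫ moduleSpecΓFunctor.mapIso φ.symm
  let U : X.Opens := j ''ᵁ ⊤
  have hU : IsAffineOpen U := (isAffineOpen_top (Spec (CommRingCat.of R))).image_of_isOpenImmersion j
  have hx : j y ∈ U := ⟨y, trivial, rfl⟩
  let σ : R ≃+* Γ(X, U) :=
    ((Scheme.ΓSpecIso R).symm ≪≫ (j.appIso ⊤).symm).commRingCatIsoToRingEquiv
  let τ : M ≃+ Γ(F, U) := ψ.toLinearEquiv.toAddEquiv
  have h3 : (Spec R).presheaf.map (⊤ : (Spec R).Opens).leTop.op = 𝟙 _ := by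
    have : (⊤ : (Spec R).Opens).leTop = 𝟙 _ := Subsingleton.elim _ _
    rw [this, op_id, CategoryTheory.Functor.map_id]
  have h4 : ∀ a : Γ(Spec R, ⊤), (Spec R).presheaf.map (⊤ : (Spec R).Opens).leTop.op a = a := by
    intro a
    rw [h3]
    rfl
  have hG : ∀ (a : Γ(Spec (CommRingCat.of R), ⊤)) (z : Γ(G, ⊤)),
      a • z = ((j.appIso ⊤).inv a) • (show Γ(F, U) from z) := fun a z => rfl
  have hR : ∀ (r : R) (z : Γ(G, ⊤)), r • z = ((Scheme.ΓSpecIso R).inv r) • z := by
    intro r z
    rw [Scheme.Modules.smul_Spec_def, h4]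
  have hτ : ∀ (r : R) (m : M), τ (r • m) = σ r • τ m := by
    intro r m
    have h1 : ψ.toLinearEquiv (r • m) = r • ψ.toLinearEquiv m := ψ.toLinearEquiv.map_smul r m
    exact h1.trans ((hR r _).trans (hG _ _))
  letI := TopCat.Presheaf.algebra_section_stalk X.presheaf (⟨j y, hx⟩ : U)
  letI := modStalk F (j y) hx
  haveI := isScalarTower_stalk F (j y) hx
  haveI : IsLocalization.AtPrime (X.presheaf.stalk (j y)) (hU.primeIdealOf ⟨j y, hx⟩).asIdeal :=
    hU.isLocalization_stalk ⟨j y, hx⟩
  haveI := isLocalizedModule_stalk F hU (j y) hx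
  refine ⟨hasSk_of_semilinear_localization M Γ(F, U) σ τ hτ (hU.primeIdealOf ⟨j y, hx⟩).asIdeal
    (X.presheaf.stalk (j y)) (F.presheaf.stalk (j y)) (germLin F (j y) hx) 2
    (hasSk_two_HD_bottom ωA hωA n), fun hdom => ?_⟩
  exact isTorsionFree_of_semilinear_localization M Γ(F, U) σ τ hτ
    (hU.primeIdealOf ⟨j y, hx⟩).asIdeal
    (X.presheaf.stalk (j y)) (F.presheaf.stalk (j y)) (germLin F (j y) hx)
    (isTorsionFree_HD_bottom ωA hωA n)


/-- S7873. -/
theorem dualizingSheaf_S2_torsionFree (K : DCoh.D X) (hK : Dual2.IsDualizingSch X K) (n : ℤ)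
    (hlt : ∀ i : ℤ, i < n → IsZero (DCoh.HD K i)) :
    (∀ x : X, LocCoh.HasSk 2 (X.presheaf.stalk x) ((DCoh.HD K n).presheaf.stalk x)) ∧
      (IsIntegral X → ∀ x : X, Module.IsTorsionFree (X.presheaf.stalk x)
        ((DCoh.HD K n).presheaf.stalk x)) := by
  haveI := isQuasicoherent_HD K hK n
  have key : ∀ x : X, LocCoh.HasSk 2 (X.presheaf.stalk x) ((DCoh.HD K n).presheaf.stalk x) ∧
      (IsIntegral X → Module.IsTorsionFree (X.presheaf.stalk x)
        ((DCoh.HD K n).presheaf.stalk x)) := by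
    intro x
    obtain ⟨R, j, hj, ωA, hωA, e, y, rfl⟩ := exists_chart K hK x
    haveI : ωA.IsGE n := by
      rw [DerivedCategory.isGE_iff]
      intro i hi
      have hz2 : IsZero (tilde ((DerivedCategory.homologyFunctor (ModuleCat.{u} R) i).obj ωA)) :=
        ((Scheme.Modules.restrictFunctor j).map_isZero (hlt i hi)).of_iso
          (restrictHDIso K R j ωA e i).symm
      rw [IsZero.iff_id_eq_zero]
      apply (tilde.functor R).map_injective
      exact hz2.eq_of_src _ _
    obtain ⟨h1, h2⟩ := stalk_HD_bottom_chart K n R j ωA hωA e y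
    refine ⟨h1, fun hint => h2 ?_⟩
    haveI : Nonempty (Spec (CommRingCat.of R)) := ⟨y⟩
    haveI : IsIntegral (Spec (CommRingCat.of R)) := isIntegral_of_isOpenImmersion j
    exact (affine_isIntegral_iff (CommRingCat.of R)).1 inferInstance
  exact ⟨fun x => (key x).1, fun hint x => (key x).2 hint⟩

end Groth.Agent.Lib.helper23.DualSch
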