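import Mathlib
import Groth.Prelude.Def_Wider
import Groth.Prelude.Def_DDual2
import Groth.Agent.Lib.Helper23.FBC13

/-!
# Descent of dualizing complexes: finite families (open covers, faithfully flat maps) (helper23)
-/

set_option autoImplicit false
universe u
open CategoryTheory CategoryTheory.Limits DerivedCategory Pretriangulated TensorProduct

attribute [local instance] HasDerivedCategory.standard

namespace Groth.Agent.Lib.helper23.FBC

attribute [local instance 50] homModuleA
attribute [local instance] FlatBC.preservesFiniteLimits_extendScalars_algebraMap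

section Finite

variable {A : Type u} [CommRing A] [IsNoetherianRing A] {Λ : Type*} [Finite Λ] (Bf : Λ → Type u)
  [∀ l, CommRing (Bf l)] [∀ l, Algebra A (Bf l)] [∀ l, Module.Flat A (Bf l)]

/-- **descent of dualizing complexes** along a finite jointly faithfully flat family. -/
theorem isDualizing_of_finite_family (hdet0 : Detects.{u} A Bf) (hdet1 : Detects.{u + 1} A Bf)
    (hfinDesc : ∀ (N : Type u) [AddCommGroup N] [Module A N],
      (∀ l, Module.Finite (Bf l) (Bf l ⊗[A] N)) → Module.Finite A N)
    (K : Dual.D A) (hE : ∀ l, Dual.IsDualizing (Bf l) ((EE A (Bf l)).obj K)) :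
    Dual.IsDualizing A K := by
  choose a_ b_ hab_ hGE_ hLE_ hv_ using fun l => exists_bounds _ (hE l)
  obtain ⟨a, ha⟩ := Finite.exists_ge a_
  obtain ⟨b₀, hb₀⟩ := Finite.exists_le b_
  have hab : a ≤ max a b₀ := le_max_left a b₀
  have hb : ∀ l, b_ l ≤ max a b₀ := fun l => le_trans (hb₀ l) (le_max_right a b₀)
  have hz : ∀ i : ℤ, (i < a ∨ max a b₀ < i) →
      IsZero ((homologyFunctor (ModuleCat.{u} A) i).obj K) := by
    intro i hi
    refine isZero_homology_of_family Bf hdet0 K i (fun l => ?_)
    haveI := hGE_ l
    haveI := hLE_ l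
    rcases hi with hi | hi
    · exact (DerivedCategory.isGE_iff _ (a_ l)).1 inferInstance i (lt_of_lt_of_le hi (ha l))
    · exact (DerivedCategory.isLE_iff _ (b_ l)).1 inferInstance i (lt_of_le_of_lt (hb l) hi)
  haveI : K.IsGE a := (DerivedCategory.isGE_iff K a).2 (fun i hi => hz i (Or.inl hi))
  haveI : K.IsLE (max a b₀) := (DerivedCategory.isLE_iff K _).2 (fun i hi => hz i (Or.inr hi))
  have hfin : ∀ i : ℤ, Module.Finite A (Dual.HD A K i) := fun i =>
    hfinDesc _ (fun l => finite_tensor_of_finite_EE K i ((hE l).finite_cohomology i))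
  refine isDualizing_of_family Bf hdet0 hdet1 K a (max a b₀) hfin
    ⟨a, max a b₀, fun M _ _ i hi => ?_⟩
    (fun l => (hE l).toEnd_bijective) (fun l i hi => (hE l).ext_self_subsingleton i hi)
  refine hinj_of_family Bf hdet1 K a (max a b₀) hab (fun l J => ?_) M i hi
  exact hcyc_of_vanishing K (max a b₀)
    (fun M' _ _ i' hi' => hv_ l M' i' (Or.inr (lt_of_le_of_lt (hb l) hi'))) J _ (by omega)

end Finite

section Away

variable (A : Type u) [CommRing A] [IsNoetherianRing A]

/-- S1787. -/
theorem isDualizing_of_away_cover (n : ℕ) (f : Fin n → A)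
    (hf : Ideal.span (Set.range f) = ⊤) (ω : Dual.D A)
    (h : ∀ i : Fin n, ∃ _ : DRing.HasLBaseChange (algebraMap A (Localization.Away (f i))),
      Dual.IsDualizing (Localization.Away (f i))
        ((DRing.LBaseChange (algebraMap A (Localization.Away (f i)))).obj ω)) :
    Dual.IsDualizing A ω := by
  haveI : ∀ l, Module.Flat A (BfAway A f l) := fun l =>
    IsLocalization.flat (Localization.Away (f l)) (Submonoid.powers (f l))
  have hE : ∀ l, Dual.IsDualizing (BfAway A f l) ((EE A (BfAway A f l)).obj ω) := fun l => by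
    obtain ⟨inst, hl⟩ := h l
    exact isDualizing_EE_of_LBaseChange ω hl
  refine isDualizing_of_finite_family (BfAway A f) (detects_away A f hf) (detects_away A f hf)
    (fun N _ _ hN => ?_) ω hE
  refine ExtSc.finite_of_localization_span N (Set.range f) hf (fun g => ?_)
  obtain ⟨_, i, rfl⟩ := g
  exact hN i

end Away

section FF

variable (A B : Type u) [CommRing A] [CommRing B] [Algebra A B] [IsNoetherianRing A]
  [Module.FaithfullyFlat A B]

/-- S1780. -/
theorem isDualizing_of_faithfullyFlat [DRing.HasLBaseChange (algebraMap A B)] (K : Dual.D A)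
    (hK : Dual.IsDualizing B ((DRing.LBaseChange (algebraMap A B)).obj K)) :
    Dual.IsDualizing A K := by
  haveI : ∀ l, Module.Flat A (BfOne B l) := fun _ => inferInstanceAs (Module.Flat A B)
  have hE : ∀ l, Dual.IsDualizing (BfOne B l) ((EE A (BfOne B l)).obj K) := fun _ =>
    isDualizing_EE_of_LBaseChange K hK
  refine isDualizing_of_finite_family (BfOne B) (detects_one A B) (detects_one A B)
    (fun N _ _ hN => ?_) K hE
  exact ExtSc.finite_of_faithfullyFlat N (hN ())

end FF

end Groth.Agent.Lib.helper23.FBC
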