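import Mathlib
import Groth.Prelude.Def_DRing4
import Groth.Agent.Lib.Helper23.TA8
import Groth.Agent.Lib.Helper23.DualD2

set_option autoImplicit false
universe u
open CategoryTheory CategoryTheory.Limits DerivedCategory Pretriangulated Opposite
open TensorProduct MonoidalCategory
open scoped ZeroObject

attribute [local instance] HasDerivedCategory.standard

namespace Groth.Agent.Lib.helper23.LocInv

variable {A : Type u} [CommRing A]

/-- `X ⊗ P'^∨ ≃ Hom(P', X)` for `P'` finite projective. -/
noncomputable def tensorDualEquiv (P' X : ModuleCat.{u} A) [Module.Finite A P']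
    [Module.Projective A P'] :
    (X ⊗[A] Module.Dual A P') ≃ₗ[A] (P' ⟶ X) :=
  (TensorProduct.comm A X (Module.Dual A P')) ≪≫ₗ
    LinearEquiv.ofBijective (dualTensorHom A P' X) dualTensorHom_bijective ≪≫ₗ
    ModuleCat.homLinearEquiv.symm

lemma tensorDualEquiv_tmul (P' X : ModuleCat.{u} A) [Module.Finite A P']
    [Module.Projective A P'] (x : X) (φ : Module.Dual A P') (p : P') :
    (tensorDualEquiv P' X (x ⊗ₜ φ)).hom p = φ p • x := rfl

noncomputable def tensorRightDualIso (P' : ModuleCat.{u} A) [Module.Finite A P']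
    [Module.Projective A P'] :
    tensorRight (ModuleCat.of A (Module.Dual A P')) ≅
      (linearCoyoneda A (ModuleCat.{u} A)).obj (op P') :=
  NatIso.ofComponents (fun X => (tensorDualEquiv P' X).toModuleIso) (by
    intro X Y f
    ext : 1
    apply TensorProduct.ext'
    intro x φ
    apply ModuleCat.hom_ext
    apply LinearMap.ext
    intro p
    show (φ : Module.Dual A P') p • f.hom x = f.hom ((φ : Module.Dual A P') p • x)
    exact (map_smul _ _ _).symm)

/-- `I ⊗ P'^∨ ≅ Hom(P', I)` on complexes. -/
noncomputable def tensorRightDualCxIso (P' : ModuleCat.{u} A) [Module.Finite A P']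
    [Module.Projective A P'] (I : DRing.Cx A) :
    ((tensorRight (ModuleCat.of A (Module.Dual A P'))).mapHomologicalComplex
      (ComplexShape.up ℤ)).obj I ≅ (DualD.homCx I).obj (op P') :=
  (NatIso.mapHomologicalComplex (tensorRightDualIso P') (ComplexShape.up ℤ)).app I

lemma quasiIso_tensorRight_of_flat (P : ModuleCat.{u} A) [Module.Flat A P]
    {X Y : DRing.Cx A} (f : X ⟶ Y) (hf : QuasiIso f) :
    QuasiIso (((tensorRight P).mapHomologicalComplex (ComplexShape.up ℤ)).map f) := by
  haveI : PreservesFiniteLimits (tensorRight P) := inferInstance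
  haveI : (tensorRight P).PreservesHomology := inferInstance
  exact HomologicalComplex.quasiIso_map_of_preservesHomology _ _ 

/-- `- ⊗^L P` for flat `P` is computed termwise on every complex. -/
theorem nonempty_iso_LTensor_of_flat_module (P : ModuleCat.{u} A) [Module.Flat A P]
    [DRing.HasLTensor A P] (X : DRing.Cx A) :
    Nonempty ((DRing.LTensor A P).obj (DerivedCategory.Q.obj X) ≅
      DerivedCategory.Q.obj (((tensorRight P).mapHomologicalComplex (ComplexShape.up ℤ)).obj X)) := by
  haveI : (DRing.LTensor A P).IsRightKanExtension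
      ((DRing.tensorKh A P).totalLeftDerivedCounit DerivedCategory.Qh
        (HomotopyCategory.quasiIso (ModuleCat.{u} A) (ComplexShape.up ℤ))) :=
    CategoryTheory.Functor.IsLeftDerivedFunctor.isRightKanExtension _ _
      (HomotopyCategory.quasiIso (ModuleCat.{u} A) (ComplexShape.up ℤ))
  exact TA.nonempty_iso_of_preserves_quasiIso (tensorRight P) (DRing.LTensor A P)
    ((DRing.tensorKh A P).totalLeftDerivedCounit DerivedCategory.Qh
      (HomotopyCategory.quasiIso (ModuleCat.{u} A) (ComplexShape.up ℤ)))
    (fun f hf => quasiIso_tensorRight_of_flat P f hf) X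

/-- `Q(I) ⊗^L P'^∨ ≅ Q(Hom(P', I))` for `P'` invertible. -/
theorem nonempty_LTensor_dual_iso (P' : ModuleCat.{u} A) [Module.Invertible A P']
    [DRing.HasLTensor A (ModuleCat.of A (Module.Dual A P'))] (I : DRing.Cx A) :
    Nonempty ((DRing.LTensor A (ModuleCat.of A (Module.Dual A P'))).obj (DerivedCategory.Q.obj I) ≅
      DerivedCategory.Q.obj ((DualD.homCx I).obj (op P'))) := by
  haveI : Module.Invertible A (ModuleCat.of A (Module.Dual A P')) :=
    (inferInstance : Module.Invertible A (Module.Dual A P'))
  haveI : Module.Flat A (ModuleCat.of A (Module.Dual A P')) := inferInstance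
  obtain ⟨e⟩ := nonempty_iso_LTensor_of_flat_module (ModuleCat.of A (Module.Dual A P')) I
  exact ⟨e ≪≫ DerivedCategory.Q.mapIso (tensorRightDualCxIso P' I)⟩

end Groth.Agent.Lib.helper23.LocInv
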