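import Mathlib
import Groth.Prelude.Def_DRing4
import Groth.Agent.Lib.Helper23.LocInv7
import Groth.Agent.Lib.Helper23.FlatBC1
import Groth.Agent.Lib.Helper23.ExtSc2
import Groth.Agent.Lib.Helper23.FBC14
import Groth.Agent.Lib.Helper13.RKF2

/-!
# Twisting by a module which becomes trivial after a flat base change (helper23)

* `nuIso`: if `B ⊗_A P ≅ B` then `(- ⊗_A P) ⊗_A B ≅ - ⊗_A B` as functors `Mod_A ⥤ Mod_B`;
* `nonempty_lbc_twist_iso`: for `A → B` flat, `(K ⊗^L_A P) ⊗^L_A B ≅ K ⊗^L_A B` for such flat `P`;
* `nonempty_extendScalars_iso_unit`: invertible modules are trivial on a principal open cover;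
* `isDualizing_LTensor_invertible`: `ω ⊗^L P` is dualizing for `ω` dualizing and `P` invertible.
-/

set_option autoImplicit false
universe u
open CategoryTheory CategoryTheory.Limits MonoidalCategory

attribute [local instance] HasDerivedCategory.standard

namespace Groth.Agent.Lib.helper23.DualTw

section Mod

variable {A B : Type u} [CommRing A] [CommRing B] (φ : A →+* B) (P : ModuleCat.{u} A)
  (e' : (ModuleCat.extendScalars.{u, u, u} φ).obj P ≅ 𝟙_ (ModuleCat.{u} B))

/-- `(M ⊗ P) ⊗_A B ≅ M ⊗_A B`, naturally in `M`, when `P ⊗_A B ≅ B` -/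
noncomputable def nuIso :
    tensorRight P ⋙ ModuleCat.extendScalars.{u, u, u} φ ≅ ModuleCat.extendScalars.{u, u, u} φ :=
  NatIso.ofComponents
    (fun M => (Functor.Monoidal.μIso (ModuleCat.extendScalars.{u, u, u} φ) M P).symm ≪≫
      whiskerLeftIso ((ModuleCat.extendScalars.{u, u, u} φ).obj M) e' ≪≫ ρ_ _)
    (by
      intro M M' g
      dsimp only [Functor.comp_obj, Functor.comp_map, Iso.trans_hom, Iso.symm_hom,
        whiskerLeftIso_hom]
      change (ModuleCat.extendScalars.{u, u, u} φ).map (g ▷ P) ≫ _ = _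
      simp only [Functor.Monoidal.μIso_inv, Category.assoc, MonoidalCategory.whiskerLeftIso_hom]
      rw [← Functor.OplaxMonoidal.δ_natural_left_assoc, ← whisker_exchange_assoc,
        rightUnitor_naturality]
      )

end Mod

section Derived

variable {A B : Type u} [CommRing A] [CommRing B] (φ : A →+* B)
  [PreservesFiniteLimits (ModuleCat.extendScalars.{u, u, u} φ)] [DRing.HasLBaseChange φ]
  (P : ModuleCat.{u} A) [Module.Flat A P] [DRing.HasLTensor A P]
  (e' : (ModuleCat.extendScalars.{u, u, u} φ).obj P ≅ 𝟙_ (ModuleCat.{u} B))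

include e' in
/-- `(K ⊗^L_A P) ⊗^L_A B ≅ K ⊗^L_A B` when `A → B` is flat, `P` is flat and `P ⊗_A B ≅ B`. -/
theorem nonempty_lbc_twist_iso (K : Dual.D A) :
    Nonempty ((DRing.LBaseChange φ).obj ((DRing.LTensor A P).obj K) ≅
      (DRing.LBaseChange φ).obj K) := by
  let X : DRing.Cx A := DerivedCategory.Q.objPreimage K
  let eX : DerivedCategory.Q.obj X ≅ K := DerivedCategory.Q.objObjPreimageIso K
  obtain ⟨e1⟩ := LocInv.nonempty_iso_LTensor_of_flat_module P X
  exact ⟨(DRing.LBaseChange φ).mapIso ((DRing.LTensor A P).mapIso eX.symm ≪≫ e1) ≪≫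
    (FlatBC.lbcIso φ).app _ ≪≫
    ((ModuleCat.extendScalars.{u, u, u} φ).mapDerivedCategoryFactors).app _ ≪≫
    DerivedCategory.Q.mapIso
      ((NatIso.mapHomologicalComplex (nuIso φ P e') (ComplexShape.up ℤ)).app X) ≪≫
    (((ModuleCat.extendScalars.{u, u, u} φ).mapDerivedCategoryFactors).app X).symm ≪≫
    ((FlatBC.lbcIso φ).app _).symm ≪≫ (DRing.LBaseChange φ).mapIso eX⟩

end Derived

section Main

open TensorProduct

/-- an invertible module becomes trivial after localizing at suitable `r`. -/
lemma nonempty_extendScalars_iso_unit {A : Type u} [CommRing A] (P : Type u) [AddCommGroup P]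
    [Module A P] [Module.Invertible A P] (r : A)
    (hr : Module.Free (Localization.Away r) (LocalizedModule.Away r P)) :
    Nonempty ((ModuleCat.extendScalars.{u, u, u} (algebraMap A (Localization.Away r))).obj
      (ModuleCat.of A P) ≅ 𝟙_ (ModuleCat.{u} (Localization.Away r))) := by
  obtain ⟨e3⟩ := Module.Invertible.free_iff_linearEquiv.1 hr
  let e1 := ExtSc.extendObjEquiv (B := Localization.Away r) (ModuleCat.of A P)
  let e2 := (IsLocalizedModule.isBaseChange (Submonoid.powers r) (Localization.Away r)
    (LocalizedModule.mkLinearMap (Submonoid.powers r) P)).equiv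
  exact ⟨(e1 ≪≫ₗ e2 ≪≫ₗ e3).toModuleIso⟩

/-- twisting a dualizing complex by an invertible module gives a dualizing complex. -/
theorem isDualizing_LTensor_invertible (A : Type u) [CommRing A] [IsNoetherianRing A]
    (ω : Dual.D A) (hω : Dual.IsDualizing A ω) (P : Type u) [AddCommGroup P] [Module A P]
    [Module.Invertible A P] [DRing.HasLTensor A (ModuleCat.of A P)] :
    Dual.IsDualizing A ((DRing.LTensor A (ModuleCat.of A P)).obj ω) := by
  classical
  obtain ⟨s, hs, hfree⟩ := Module.Invertible.exists_finset_free_localization A P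
  let f : Fin s.card → A := fun i => (s.equivFin.symm i : A)
  have hf : Ideal.span (Set.range f) = ⊤ := by
    have : Set.range f = (s : Set A) := by
      ext x
      constructor
      · rintro ⟨i, rfl⟩
        exact (s.equivFin.symm i).2
      · intro hx
        exact ⟨s.equivFin ⟨x, hx⟩, by simp [f]⟩
    rw [this, hs]
  refine FBC.isDualizing_of_away_cover A s.card f hf _ (fun i => ?_)
  haveI : DRing.HasLBaseChange (algebraMap A (Localization.Away (f i))) :=
    Groth.Agent.Lib.helper13.RKF.hasLBaseChange _
  refine ⟨inferInstance, ?_⟩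
  haveI : Module.Flat A (Localization.Away (f i)) :=
    IsLocalization.flat (Localization.Away (f i)) (Submonoid.powers (f i))
  haveI := FlatBC.preservesFiniteLimits_extendScalars_algebraMap (A := A)
    (B := Localization.Away (f i))
  haveI : Module.Flat A (ModuleCat.of A P) := (inferInstance : Module.Flat A P)
  obtain ⟨e'⟩ := nonempty_extendScalars_iso_unit P (f i) (hfree _ (s.equivFin.symm i).2)
  obtain ⟨e⟩ := nonempty_lbc_twist_iso (algebraMap A (Localization.Away (f i)))
    (ModuleCat.of A P) e' ω
  exact FBC.isDualizing_of_iso e.symm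
    (FBC.isDualizing_LBaseChange_localization A (Submonoid.powers (f i)) ω hω)

end Main

end Groth.Agent.Lib.helper23.DualTw
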