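import Mathlib
import Groth.Prelude.Def_DRing4
import Groth.Agent.Lib.Helper23.CxBid13
import Groth.Agent.Lib.Helper23.FBC10
import Groth.Agent.Lib.Helper23.GorInv7

/-!
# Invertibility of `RHom(ω', ω)` for two dualizing complexes, part 1: the local computation (helper23)
-/

set_option autoImplicit false
universe u
open CategoryTheory CategoryTheory.Limits DerivedCategory Pretriangulated Opposite
open CochainComplex.HomComplex TensorProduct
open scoped ZeroObject

attribute [local instance] HasDerivedCategory.standard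

namespace Groth.Agent.Lib.helper23.LocInv

open Groth.Agent.Lib.helper23.RHomCx Groth.Agent.Lib.helper23.GorInv Groth.Agent.Lib.helper23.FinHom
  Groth.Agent.Lib.helper23.DualD Groth.Agent.Lib.helper23.CxBid Groth.Agent.Lib.helper23.FBC
  Groth.Agent.Lib.helper23

section Shift

variable {C : Type u} [CommRing C] (W X : Dual.D C) (hW : Dual.IsDualizing C W) (n : ℤ)
  (e : X ≅ W⟦n⟧)

include hW e

lemma subsingleton_hom_of_iso_shift (j : ℤ) (hj : j ≠ n) : Subsingleton (X ⟶ W⟦j⟧) := by
  haveI := hW.ext_self_subsingleton (j - n) (by omega)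
  let φ : (X ⟶ W⟦j⟧) ≃ₗ[C] (W ⟶ W⟦j - n⟧) :=
    Linear.homCongr C e ((shiftFunctorAdd' (Dual.D C) (j - n) n j (by omega)).app W) ≪≫ₗ
      (shiftLinearEquiv W (W⟦j - n⟧) n).symm
  exact φ.toEquiv.subsingleton

lemma nonempty_hom_linearEquiv_of_iso_shift : Nonempty ((X ⟶ W⟦n⟧) ≃ₗ[C] C) := by
  let toEnd : C ≃ₗ[C] (W ⟶ W) := LinearEquiv.ofBijective
    { toFun := fun a => a • 𝟙 W
      map_add' := fun a b => add_smul a b _
      map_smul' := fun a b => by
        show (a • b) • 𝟙 W = a • (b • 𝟙 W)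
        rw [smul_smul]
        rfl } hW.toEnd_bijective
  exact ⟨Linear.homCongr C e (Iso.refl _) ≪≫ₗ (shiftLinearEquiv W W n).symm ≪≫ₗ toEnd.symm⟩

end Shift

end Groth.Agent.Lib.helper23.LocInv
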