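import Mathlib
import Groth.Prelude.Def_DRing4
import Groth.Agent.Lib.Helper23.LocInv1

set_option autoImplicit false
universe u
open CategoryTheory CategoryTheory.Limits DerivedCategory Pretriangulated Opposite
open CochainComplex.HomComplex TensorProduct
open scoped ZeroObject

attribute [local instance] HasDerivedCategory.standard

namespace Groth.Agent.Lib.helper23.LocInv

open Groth.Agent.Lib.helper23.RHomCx Groth.Agent.Lib.helper23.GorInv Groth.Agent.Lib.helper23.FinHom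
  Groth.Agent.Lib.helper23.DualD Groth.Agent.Lib.helper23.CxBid Groth.Agent.Lib.helper23.FBC
  Groth.Agent.Lib.helper23

attribute [local instance 50] FBC.homModuleA
attribute [local instance] FlatBC.preservesFiniteLimits_extendScalars_algebraMap

variable {A : Type u} [CommRing A] [IsNoetherianRing A]

/-- `H^j(E (RHom(ω', ω))) ≃ Hom(E ω', E(ω[j]))` for a flat `A`-algebra `C`. -/
theorem nonempty_homology_EE_homCx_equiv (C : Type u) [CommRing C] [Algebra A C] [Module.Flat A C]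
    {ω ω' : Dual.D A} (hω : Dual.IsDualizing A ω)
    (hω' : Dual.IsDualizing A ω') (M : Model ω) (M' : Model ω') (j : ℤ) :
    Nonempty (((homologyFunctor (ModuleCat.{u} C) j).obj
      ((EE A C).obj (Q.obj (DRing.homCx M'.I M.I)))) ≃ₗ[C]
        ((EE A C).obj ω' ⟶ (EE A C).obj (ω⟦j⟧))) := by
  haveI := M.isKInjective
  let L' : Dual.D A := Q.obj (DRing.homCx M'.I M.I)
  obtain ⟨a, b, hab, hGE, hLE, hv⟩ := exists_bounds ω hω
  obtain ⟨a', b', hab', hGE', hLE', hv'⟩ := exists_bounds ω' hω'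
  haveI := hGE
  haveI : (ω⟦j⟧).IsGE (a - j) :=
    (TStructure.t (C := ModuleCat.{u} A)).isGE_shift ω a j (a - j) (by omega)
  have hbb : BB C ω' (ω⟦j⟧) := BB_of_bounded_finite C ω' (ω⟦j⟧) (a - j) a' b'
    (fun i hi => by haveI := hGE'; exact isZero_of_isGE ω' a' i hi)
    (fun i hi => by haveI := hLE'; exact isZero_of_isLE ω' b' i hi)
    hω'.finite_cohomology
  let e1 : ((homologyFunctor (ModuleCat.{u} C) j).obj ((EE A C).obj L')) ≃ₗ[C]
      (ModuleCat.extendScalars.{u, u, u} (algebraMap A C)).obj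
        ((homologyFunctor (ModuleCat.{u} A) j).obj L') :=
    (FlatBC.homologyExtDIso (algebraMap A C) L' j).toLinearEquiv
  let e2 := ExtSc.extendObjEquiv (B := C) ((homologyFunctor (ModuleCat.{u} A) j).obj L')
  let e3 : ((homologyFunctor (ModuleCat.{u} A) j).obj L') ≃ₗ[A] (ω' ⟶ ω⟦j⟧) :=
    homologyDEquiv M.I M'.I j ≪≫ₗ hc M'.e ((shiftFunctor (Dual.D A) j).mapIso M.e)
  let e4 : C ⊗[A] ((homologyFunctor (ModuleCat.{u} A) j).obj L') ≃ₗ[C] C ⊗[A] (ω' ⟶ ω⟦j⟧) :=
    TensorProduct.AlgebraTensorModule.congr (LinearEquiv.refl C C) e3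
  let e5 : C ⊗[A] (ω' ⟶ ω⟦j⟧) ≃ₗ[C] ((EE A C).obj ω' ⟶ (EE A C).obj (ω⟦j⟧)) :=
    LinearEquiv.ofBijective _ hbb
  exact ⟨e1 ≪≫ₗ e2 ≪≫ₗ e4 ≪≫ₗ e5⟩

end Groth.Agent.Lib.helper23.LocInv
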