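import Mathlib
import Groth.Prelude.Def_DRing4
import Groth.Agent.Lib.Helper23.LocInv2

set_option autoImplicit false
universe u
open CategoryTheory CategoryTheory.Limits DerivedCategory Pretriangulated Opposite
open CochainComplex.HomComplex TensorProduct
open scoped ZeroObject

attribute [local instance] HasDerivedCategory.standard

namespace Groth.Agent.Lib.helper23.LocInv

open Groth.Agent.Lib.helper23.RHomCx Groth.Agent.Lib.helper23.GorInv Groth.Agent.Lib.helper23.FinHom
  Groth.Agent.Lib.helper23.DualD Groth.Agent.Lib.helper23.CxBid Groth.Agent.Lib.helper23.FBC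
  Groth.Agent.Lib.helper23

attribute [local instance 50] FBC.homModuleA
attribute [local instance] FlatBC.preservesFiniteLimits_extendScalars_algebraMap

variable {A : Type u} [CommRing A] [IsNoetherianRing A]

theorem exists_EE_iso_shift_atPrime {ω ω' : Dual.D A} (hω : Dual.IsDualizing A ω)
    (hω' : Dual.IsDualizing A ω') (M : Model ω) (M' : Model ω') (q : Ideal A) [q.IsPrime] :
    ∃ s : ℤ, Nonempty ((EE A (Localization.AtPrime q)).obj (Q.obj (DRing.homCx M'.I M.I)) ≅
      (Dual.inD (Localization.AtPrime q) (Localization.AtPrime q))⟦s⟧) := by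
  let C := Localization.AtPrime q
  haveI : IsNoetherianRing C := IsLocalization.isNoetherianRing q.primeCompl C inferInstance
  haveI : Module.Flat A C := IsLocalization.flat C q.primeCompl
  have hcyc := hcyc_of_map_comap C (fun J' => IsLocalization.map_under q.primeCompl C J')
  have hq : Dual.IsDualizing C ((EE A C).obj ω) := isDualizing_EE C hcyc ω hω
  have hq' : Dual.IsDualizing C ((EE A C).obj ω') := isDualizing_EE C hcyc ω' hω'
  obtain ⟨n, ⟨e⟩⟩ := exists_iso_shift_of_isDualizing_local C _ _ hq hq'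
  let X : Dual.D C := (EE A C).obj (Q.obj (DRing.homCx M'.I M.I))
  have hz : ∀ j : ℤ, j ≠ n → IsZero ((homologyFunctor (ModuleCat.{u} C) j).obj X) := by
    intro j hj
    obtain ⟨φ⟩ := nonempty_homology_EE_homCx_equiv C hω hω' M M' j
    haveI := subsingleton_hom_of_iso_shift ((EE A C).obj ω) ((EE A C).obj ω') hq n e j hj
    exact isZero_of_subsingleton_linearEquiv
      (φ ≪≫ₗ Linear.homCongr C (Iso.refl _) (EEshiftIso C ω j))
  have hn : Nonempty ((homologyFunctor (ModuleCat.{u} C) n).obj X ≅ ModuleCat.of C C) := by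
    obtain ⟨φ⟩ := nonempty_homology_EE_homCx_equiv C hω hω' M M' n
    obtain ⟨ψ⟩ := nonempty_hom_linearEquiv_of_iso_shift ((EE A C).obj ω) ((EE A C).obj ω') hq n e
    exact ⟨(φ ≪≫ₗ Linear.homCongr C (Iso.refl _) (EEshiftIso C ω n) ≪≫ₗ ψ).toModuleIso⟩
  obtain ⟨i⟩ := nonempty_iso_single X n (ModuleCat.of C C) hz hn
  exact ⟨-n, ⟨i ≪≫ (((singleFunctors (ModuleCat.{u} C)).shiftIso (-n) n 0 (by omega)).app
    (ModuleCat.of C C)).symm⟩⟩

end Groth.Agent.Lib.helper23.LocInv
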