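import Mathlib
import Groth.Prelude.Def_DRing4
import Groth.Agent.Lib.Helper23.LocInv3
import Groth.Agent.S12080

/-!
# Invertibility of `RHom(ω', ω)`, part 4: an object of `D(A)` locally isomorphic to shifts of the unit
on a connected Noetherian spectrum is a shifted invertible module (helper23)
-/

set_option autoImplicit false
universe u
open CategoryTheory CategoryTheory.Limits DerivedCategory Pretriangulated Opposite
open CochainComplex.HomComplex TensorProduct
open scoped ZeroObject

attribute [local instance] HasDerivedCategory.standard

namespace Groth.Agent.Lib.helper23.LocInv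

open Groth.Agent.Lib.helper23.RHomCx Groth.Agent.Lib.helper23.GorInv Groth.Agent.Lib.helper23.FinHom
  Groth.Agent.Lib.helper23.DualD Groth.Agent.Lib.helper23.CxBid Groth.Agent.Lib.helper23.FBC
  Groth.Agent.Lib.helper23

attribute [local instance 50] FBC.homModuleA
attribute [local instance] FlatBC.preservesFiniteLimits_extendScalars_algebraMap

variable {A : Type u} [CommRing A] [IsNoetherianRing A]

/-- a finite module all of whose localizations at primes vanish is zero -/
lemma isZero_of_forall_isZero_atPrime (N : ModuleCat.{u} A) [Module.Finite A N]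
    (h : ∀ (q : Ideal A) [q.IsPrime], IsZero ((Fx A (Localization.AtPrime q)).obj N)) :
    IsZero N := by
  have hann : Module.annihilator A N = ⊤ := by
    by_contra hne
    obtain ⟨m, hm, hle⟩ := Ideal.exists_le_maximal _ hne
    haveI := hm.isPrime
    obtain ⟨f, hfm, hf⟩ := exists_smul_eq_zero_of_isZero_atPrime N m (h m)
    exact hfm (hle (Module.mem_annihilator.2 hf))
  haveI : Subsingleton N := ⟨fun x y => by
    have h1 : (1 : A) ∈ Module.annihilator A N := by rw [hann]; trivial
    have h2 := fun z : N => Module.mem_annihilator.1 h1 z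
    rw [← one_smul A x, ← one_smul A y, h2 x, h2 y]⟩
  exact ModuleCat.isZero_of_subsingleton N

variable (L : Dual.D A)
  (hfin : ∀ j : ℤ, Module.Finite A ((homologyFunctor (ModuleCat.{u} A) j).obj L))

/-- the local cohomology of `L` at `q`, given `E_q L ≅ A_q[s]` -/
lemma isZero_Fx_homology_of_iso_shift (q : Ideal A) [q.IsPrime] (s : ℤ)
    (e : (EE A (Localization.AtPrime q)).obj L ≅
      (Dual.inD (Localization.AtPrime q) (Localization.AtPrime q))⟦s⟧) (j : ℤ) (hj : j ≠ -s) :
    IsZero ((Fx A (Localization.AtPrime q)).obj ((homologyFunctor (ModuleCat.{u} A) j).obj L)) := by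
  haveI : Module.Flat A (Localization.AtPrime q) :=
    IsLocalization.flat (Localization.AtPrime q) q.primeCompl
  exact (isZero_homology_shift_self (Localization.AtPrime q) s j hj).of_iso
    ((FlatBC.homologyExtDIso (algebraMap A (Localization.AtPrime q)) L j).symm ≪≫
      (homologyFunctor (ModuleCat.{u} (Localization.AtPrime q)) j).mapIso e)

/-- the local cohomology of `L` at `q` in the relevant degree -/
noncomputable def FxHomologyIsoOfIsoShift (q : Ideal A) [q.IsPrime] (s : ℤ)
    (e : (EE A (Localization.AtPrime q)).obj L ≅
      (Dual.inD (Localization.AtPrime q) (Localization.AtPrime q))⟦s⟧) :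
    (Fx A (Localization.AtPrime q)).obj ((homologyFunctor (ModuleCat.{u} A) (-s)).obj L) ≅
      ModuleCat.of (Localization.AtPrime q) (Localization.AtPrime q) :=
  haveI : Module.Flat A (Localization.AtPrime q) :=
    IsLocalization.flat (Localization.AtPrime q) q.primeCompl
  (FlatBC.homologyExtDIso (algebraMap A (Localization.AtPrime q)) L (-s)).symm ≪≫
    (homologyFunctor (ModuleCat.{u} (Localization.AtPrime q)) (-s)).mapIso e ≪≫
    homologyShiftSelfIso (Localization.AtPrime q) s

end Groth.Agent.Lib.helper23.LocInv
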