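import Mathlib
import Groth.Prelude.Def_DRing4
import Groth.Agent.Lib.Helper23.LocInv4

set_option autoImplicit false
universe u
open CategoryTheory CategoryTheory.Limits DerivedCategory Pretriangulated Opposite
open CochainComplex.HomComplex TensorProduct
open scoped ZeroObject

attribute [local instance] HasDerivedCategory.standard

namespace Groth.Agent.Lib.helper23.LocInv

open Groth.Agent.Lib.helper23.RHomCx Groth.Agent.Lib.helper23.GorInv Groth.Agent.Lib.helper23.FinHom
  Groth.Agent.Lib.helper23.DualD Groth.Agent.Lib.helper23.CxBid Groth.Agent.Lib.helper23.FBC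
  Groth.Agent.Lib.helper23

attribute [local instance 50] FBC.homModuleA
attribute [local instance] FlatBC.preservesFiniteLimits_extendScalars_algebraMap

variable {A : Type u} [CommRing A] [IsNoetherianRing A]

/-- spreading out: a finite module free of rank one at `q` is free of rank one after any flat base
change inverting a suitable `f ∉ q`. -/
lemma exists_away_iso_self (N : ModuleCat.{u} A) [Module.Finite A N] (q : Ideal A) [q.IsPrime]
    (γ : (Fx A (Localization.AtPrime q)).obj N ≅
      ModuleCat.of (Localization.AtPrime q) (Localization.AtPrime q)) :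
    ∃ f : A, f ∉ q ∧ ∀ (D : Type u) [CommRing D] [Algebra A D] [Module.Flat A D],
      IsUnit (algebraMap A D f) → Nonempty ((Fx A D).obj N ≅ ModuleCat.of D D) := by
  let C := Localization.AtPrime q
  let γ' : (Fx A C).obj (ModuleCat.of A A) ⟶ (Fx A C).obj N := (extendSelfIso' C).hom ≫ γ.inv
  haveI : IsIso γ' := by dsimp only [γ']; infer_instance
  obtain ⟨g, hg⟩ := exists_hom_isIso_extendScalars q (ModuleCat.of A A) N γ'
  haveI : Module.Finite A (ModuleCat.of A A) := inferInstanceAs (Module.Finite A A)
  obtain ⟨f, hfq, hf⟩ := exists_away_isIso q (ModuleCat.of A A) N g hg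
  refine ⟨f, hfq, fun D _ _ _ hu => ?_⟩
  haveI := hf D hu
  exact ⟨(asIso ((Fx A D).map g)).symm ≪≫ extendSelfIso' D⟩

end Groth.Agent.Lib.helper23.LocInv
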