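import Mathlib
import Groth.Prelude.Def_DRing4
import Groth.Agent.Lib.Helper23.LocInv5

set_option autoImplicit false
universe u
open CategoryTheory CategoryTheory.Limits DerivedCategory Pretriangulated Opposite
open CochainComplex.HomComplex TensorProduct
open scoped ZeroObject

attribute [local instance] HasDerivedCategory.standard

namespace Groth.Agent.Lib.helper23.LocInv

open Groth.Agent.Lib.helper23.RHomCx Groth.Agent.Lib.helper23.GorInv Groth.Agent.Lib.helper23.FinHom
  Groth.Agent.Lib.helper23.DualD Groth.Agent.Lib.helper23.CxBid Groth.Agent.Lib.helper23.FBC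
  Groth.Agent.Lib.helper23

attribute [local instance 50] FBC.homModuleA
attribute [local instance] FlatBC.preservesFiniteLimits_extendScalars_algebraMap

variable {A : Type u} [CommRing A] [IsNoetherianRing A]

/-- a nonzero ring is not a zero object -/
lemma not_isZero_of_nontrivial (D : Type u) [CommRing D] [Nontrivial D] {X : ModuleCat.{u} D}
    (e : X ≅ ModuleCat.of D D) : ¬ IsZero X := by
  intro h
  haveI : Subsingleton (ModuleCat.of D D) := ModuleCat.subsingleton_of_isZero (h.of_iso e.symm)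
  exact one_ne_zero (Subsingleton.elim (1 : D) 0)

theorem exists_iso_single_invertible [ConnectedSpace (PrimeSpectrum A)] (L : Dual.D A)
    (hfin : ∀ j : ℤ, Module.Finite A ((homologyFunctor (ModuleCat.{u} A) j).obj L))
    (hloc : ∀ q : PrimeSpectrum A, ∃ s : ℤ,
      Nonempty ((EE A (Localization.AtPrime q.asIdeal)).obj L ≅
        (Dual.inD (Localization.AtPrime q.asIdeal) (Localization.AtPrime q.asIdeal))⟦s⟧)) :
    ∃ (j₀ : ℤ) (P : ModuleCat.{u} A), Module.Invertible A P ∧
      Nonempty (L ≅ (singleFunctor (ModuleCat.{u} A) j₀).obj P) := by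
  classical
  choose σ hσ using hloc
  let N : ℤ → ModuleCat.{u} A := fun j => (homologyFunctor (ModuleCat.{u} A) j).obj L
  haveI : ∀ j, Module.Finite A (N j) := hfin
  -- the local description
  have hzero : ∀ (q : PrimeSpectrum A) (j : ℤ), j ≠ -σ q →
      IsZero ((Fx A (Localization.AtPrime q.asIdeal)).obj (N j)) := fun q j hj => by
    obtain ⟨e⟩ := hσ q
    exact isZero_Fx_homology_of_iso_shift L q.asIdeal (σ q) e j hj
  have hone : ∀ q : PrimeSpectrum A, Nonempty ((Fx A (Localization.AtPrime q.asIdeal)).obj (N (-σ q)) ≅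
      ModuleCat.of (Localization.AtPrime q.asIdeal) (Localization.AtPrime q.asIdeal)) := fun q => by
    obtain ⟨e⟩ := hσ q
    exact ⟨FxHomologyIsoOfIsoShift L q.asIdeal (σ q) e⟩
  -- spreading out
  have hspread : ∀ (q : PrimeSpectrum A) (j : ℤ), j = -σ q → ∃ f : A, f ∉ q.asIdeal ∧
      ∀ (D : Type u) [CommRing D] [Algebra A D] [Module.Flat A D],
        IsUnit (algebraMap A D f) → Nonempty ((Fx A D).obj (N j) ≅ ModuleCat.of D D) := by
    intro q j hj
    subst hj
    obtain ⟨γ⟩ := hone q
    exact exists_away_iso_self (N (-σ q)) q.asIdeal γ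
  -- local constancy
  have hlc : IsLocallyConstant σ := by
    rw [IsLocallyConstant.iff_exists_open]
    intro q
    obtain ⟨f, hfq, hf⟩ := hspread q (-σ q) rfl
    refine ⟨(PrimeSpectrum.basicOpen f : Set (PrimeSpectrum A)), (PrimeSpectrum.basicOpen f).isOpen,
      hfq, fun q' hq' => ?_⟩
    by_contra hne
    haveI : Module.Flat A (Localization.AtPrime q'.asIdeal) :=
      IsLocalization.flat _ q'.asIdeal.primeCompl
    obtain ⟨i⟩ := hf (Localization.AtPrime q'.asIdeal)
      (IsLocalization.map_units (Localization.AtPrime q'.asIdeal)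
        (⟨f, (PrimeSpectrum.mem_basicOpen f q').1 hq'⟩ : q'.asIdeal.primeCompl))
    exact not_isZero_of_nontrivial _ i (hzero q' (-σ q) (by omega))
  have hconst : ∀ q q' : PrimeSpectrum A, σ q = σ q' :=
    fun q q' => hlc.apply_eq_of_preconnectedSpace q q'
  obtain ⟨q₀⟩ : Nonempty (PrimeSpectrum A) := inferInstance
  let j₀ : ℤ := -σ q₀
  have hz : ∀ j : ℤ, j ≠ j₀ → IsZero (N j) := by
    intro j hj
    refine isZero_of_forall_isZero_atPrime (N j) (fun q _ => ?_)
    exact hzero ⟨q, inferInstance⟩ j (by rw [hconst ⟨q, inferInstance⟩ q₀]; exact hj)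
  -- invertibility
  have hsp : ∀ q : PrimeSpectrum A, ∃ f : A, f ∉ q.asIdeal ∧
      ∀ (D : Type u) [CommRing D] [Algebra A D] [Module.Flat A D],
        IsUnit (algebraMap A D f) → Nonempty ((Fx A D).obj (N j₀) ≅ ModuleCat.of D D) :=
    fun q => hspread q j₀ (by show -σ q₀ = -σ q; rw [hconst q₀ q])
  choose F hFq hF using hsp
  have hspan : Ideal.span (Set.range F) = ⊤ := by
    by_contra hne
    obtain ⟨m, hm, hle⟩ := Ideal.exists_le_maximal _ hne
    exact hFq ⟨m, hm.isPrime⟩ (hle (Ideal.subset_span ⟨⟨m, hm.isPrime⟩, rfl⟩))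
  have hinv : Module.Invertible A (N j₀) := by
    refine Groth.Agent.S12080.result A (N j₀) (Set.range F) hspan ?_
    rintro f ⟨q, rfl⟩
    haveI : Module.Flat A (Localization.Away (F q)) :=
      IsLocalization.flat _ (Submonoid.powers (F q))
    obtain ⟨i⟩ := hF q (Localization.Away (F q)) (IsLocalization.Away.algebraMap_isUnit (F q))
    exact ⟨LocalizedModule.equivTensorProduct (Submonoid.powers (F q)) (N j₀) ≪≫ₗ
      (ExtSc.extendObjEquiv (B := Localization.Away (F q)) (N j₀)).symm ≪≫ₗ i.toLinearEquiv⟩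
  exact ⟨j₀, N j₀, hinv, nonempty_iso_single L j₀ (N j₀) hz ⟨Iso.refl _⟩⟩

end Groth.Agent.Lib.helper23.LocInv
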