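import Mathlib
import Groth.Prelude.Def_DRing4
import Groth.Agent.Lib.Helper23.LocInv6
import Groth.Agent.Lib.Helper23.LocInv7

set_option autoImplicit false
universe u
open CategoryTheory CategoryTheory.Limits DerivedCategory Pretriangulated Opposite
open CochainComplex.HomComplex TensorProduct
open scoped ZeroObject

attribute [local instance] HasDerivedCategory.standard

namespace Groth.Agent.Lib.helper23.LocInv

open Groth.Agent.Lib.helper23.RHomCx Groth.Agent.Lib.helper23.GorInv Groth.Agent.Lib.helper23.FinHom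
  Groth.Agent.Lib.helper23.DualD Groth.Agent.Lib.helper23.CxBid Groth.Agent.Lib.helper23.FBC
  Groth.Agent.Lib.helper23

variable {A : Type u} [CommRing A]

/-- `Q (Hom•(P'[0]⟦t⟧, I)) ≅ (Q (Hom(P', I)))⟦-t⟧` -/
lemma nonempty_homCx_shift_S₀_iso (I : DRing.Cx A) (P' : ModuleCat.{u} A) (t : ℤ) :
    Nonempty (Q.obj (DRing.homCx ((CxBid.S₀ P')⟦t⟧) I) ≅ (Q.obj ((DualD.homCx I).obj (op P')))⟦-t⟧) :=
  ⟨Q.mapIso (asIso (homCxShiftHom (CxBid.S₀ P') I t)).symm ≪≫
    (Q.commShiftIso (-t)).app _ ≪≫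
    (shiftFunctor (Dual.D A) (-t)).mapIso (Q.mapIso ((asIso (θ I P')).symm))⟩

/-- **Uniqueness of dualizing complexes over a Noetherian ring with connected spectrum.** -/
theorem exists_invertible_shift_iso [IsNoetherianRing A] [ConnectedSpace (PrimeSpectrum A)]
    (ω ω' : Dual.D A) (hω : Dual.IsDualizing A ω) (hω' : Dual.IsDualizing A ω') :
    ∃ (P : ModuleCat.{u} A) (_ : Module.Invertible A P) (n : ℤ),
      ∀ [DRing.HasLTensor A P], Nonempty (ω' ≅ ((DRing.LTensor A P).obj ω)⟦n⟧) := by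
  obtain ⟨M⟩ := exists_model ω hω
  obtain ⟨M'⟩ := exists_model ω' hω'
  haveI := M.isKInjective
  have hfI' : ∀ j, Module.Finite A (Hn M'.I j) := fun j => by
    haveI : Module.Finite A ((homologyFunctor (ModuleCat.{u} A) j).obj ω') :=
      hω'.finite_cohomology j
    exact Module.Finite.equiv
      ((homologyFunctor (ModuleCat.{u} A) j).mapIso M'.e).toLinearEquiv.symm
  haveI : IsIso (Q.map (ev M.I M'.I)) := biduality_cx hω M M'.I hfI'
  obtain ⟨j₀, P', hP', ⟨eL⟩⟩ := exists_iso_single_invertible (Q.obj (DRing.homCx M'.I M.I))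
    (fun j => finite_homology_D hω M M'.I hfI' j)
    (fun q => exists_EE_iso_shift_atPrime hω hω' M M' q.asIdeal)
  haveI := hP'
  let t : ℤ := -j₀
  let E : DRing.Cx A := (CxBid.S₀ P')⟦t⟧
  have eP : Q.obj (DRing.homCx M'.I M.I) ≅ Q.obj E :=
    eL ≪≫ (((singleFunctors (ModuleCat.{u} A)).shiftIso t j₀ 0 (by omega)).app P').symm ≪≫
      (shiftFunctor (Dual.D A) t).mapIso
      ((singleFunctorIsoCompQ (ModuleCat.{u} A) 0).app P') ≪≫
      ((Q.commShiftIso t).app (CxBid.S₀ P')).symm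
  obtain ⟨e1⟩ := nonempty_iso_D_of_iso M.I eP
  obtain ⟨e2⟩ := nonempty_homCx_shift_S₀_iso M.I P' t
  refine ⟨ModuleCat.of A (Module.Dual A P'),
    (inferInstance : Module.Invertible A (Module.Dual A P')), -t, ?_⟩
  intro _
  obtain ⟨e3⟩ := nonempty_LTensor_dual_iso P' M.I
  exact ⟨M'.e.symm ≪≫ asIso (Q.map (ev M.I M'.I)) ≪≫ e1 ≪≫ e2 ≪≫
    (shiftFunctor (Dual.D A) (-t)).mapIso (e3.symm ≪≫
      (DRing.LTensor A (ModuleCat.of A (Module.Dual A P'))).mapIso M.e)⟩

end Groth.Agent.Lib.helper23.LocInv
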