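import Mathlib
import Groth.Prelude.Def_DRing4
import Groth.Agent.Lib.Helper23.LocInv8

/-!
# Uniqueness of the twist of a dualizing complex (helper23)

If `(ω ⊗^L P)[n] ≅ (ω ⊗^L P')[n']` for a dualizing complex `ω` over a nonzero Noetherian ring and
invertible modules `P`, `P'`, then `n = n'` and `P ≃ P'`.
-/

set_option autoImplicit false
universe u
open CategoryTheory CategoryTheory.Limits DerivedCategory Pretriangulated Opposite
open CochainComplex.HomComplex TensorProduct MonoidalCategory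
open scoped ZeroObject

attribute [local instance] HasDerivedCategory.standard

namespace Groth.Agent.Lib.helper23.DualTw

open Groth.Agent.Lib.helper23.RHomCx Groth.Agent.Lib.helper23.GorInv Groth.Agent.Lib.helper23.FinHom
  Groth.Agent.Lib.helper23.DualD Groth.Agent.Lib.helper23.CxBid Groth.Agent.Lib.helper23.FBC
  Groth.Agent.Lib.helper23

variable {A : Type u} [CommRing A]

/-- `P ≅ P^∨∨` in `ModuleCat`. -/
noncomputable def evalIso (P : Type u) [AddCommGroup P] [Module A P] [Module.Invertible A P] :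
    ModuleCat.of A P ≅
      ModuleCat.of A (Module.Dual A (ModuleCat.of A (Module.Dual A P))) :=
  (Module.evalEquiv A P).toModuleIso

/-- `(ω ⊗^L P)[-t] ≅ D(P^∨[t])`. -/
theorem nonempty_twist_iso_D {ω : Dual.D A} (M : Model ω) (P : Type u) [AddCommGroup P]
    [Module A P] [Module.Invertible A P] [DRing.HasLTensor A (ModuleCat.of A P)] (t : ℤ) :
    Nonempty (((DRing.LTensor A (ModuleCat.of A P)).obj ω)⟦-t⟧ ≅
      Q.obj (DRing.homCx ((CxBid.S₀ (ModuleCat.of A (Module.Dual A P)))⟦t⟧) M.I)) := by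
  haveI : Module.Flat A (ModuleCat.of A P) := (inferInstance : Module.Flat A P)
  obtain ⟨e1⟩ := LocInv.nonempty_iso_LTensor_of_flat_module (ModuleCat.of A P) M.I
  let L : ModuleCat.{u} A := ModuleCat.of A (Module.Dual A P)
  haveI : Module.Finite A L := (inferInstance : Module.Finite A (Module.Dual A P))
  haveI : Module.Projective A L := (inferInstance : Module.Projective A (Module.Dual A P))
  obtain ⟨e2⟩ := LocInv.nonempty_homCx_shift_S₀_iso M.I L t
  let c : ((tensorRight (ModuleCat.of A P)).mapHomologicalComplex (ComplexShape.up ℤ)).obj M.I ≅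
      ((tensorRight (ModuleCat.of A (Module.Dual A L))).mapHomologicalComplex
        (ComplexShape.up ℤ)).obj M.I :=
    (NatIso.mapHomologicalComplex ((tensoringRight (ModuleCat.{u} A)).mapIso (evalIso P))
      (ComplexShape.up ℤ)).app M.I
  exact ⟨(shiftFunctor (Dual.D A) (-t)).mapIso
    ((DRing.LTensor A (ModuleCat.of A P)).mapIso M.e.symm ≪≫ e1 ≪≫ Q.mapIso c ≪≫
      Q.mapIso (LocInv.tensorRightDualCxIso L M.I)) ≪≫ e2.symm⟩

/-- the duality functor reflects isomorphism classes of complexes with finite cohomology. -/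
theorem nonempty_Q_iso_of_D_iso [IsNoetherianRing A] {ω : Dual.D A} (hω : Dual.IsDualizing A ω)
    (M : Model ω) (E E' : DRing.Cx A) (hE : ∀ j, Module.Finite A (Hn E j))
    (hE' : ∀ j, Module.Finite A (Hn E' j))
    (e : Q.obj (DRing.homCx E M.I) ≅ Q.obj (DRing.homCx E' M.I)) :
    Nonempty (Q.obj E ≅ Q.obj E') := by
  haveI := M.isKInjective
  haveI : IsIso (Q.map (ev M.I E)) := biduality_cx hω M E hE
  obtain ⟨e1⟩ := nonempty_biduality_iso hω M E' hE' (DRing.homCx E M.I) e
  exact ⟨asIso (Q.map (ev M.I E)) ≪≫ e1⟩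

/-- `Q (N[0]⟦t⟧) ≅ N[t]`. -/
noncomputable def singleShiftIso (N : ModuleCat.{u} A) (t : ℤ) :
    Q.obj ((CxBid.S₀ N)⟦t⟧) ≅ (singleFunctor (ModuleCat.{u} A) (-t)).obj N :=
  (Q.commShiftIso t).app (CxBid.S₀ N) ≪≫
    (shiftFunctor (Dual.D A) t).mapIso ((singleFunctorIsoCompQ (ModuleCat.{u} A) 0).app N).symm ≪≫
    ((singleFunctors (ModuleCat.{u} A)).shiftIso t (-t) 0 (by omega)).app N

lemma eq_and_iso_of_single_iso (N N' : ModuleCat.{u} A) (hN : ¬ IsZero N) (j j' : ℤ)
    (e : (singleFunctor (ModuleCat.{u} A) j).obj N ≅ (singleFunctor (ModuleCat.{u} A) j').obj N') :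
    j = j' ∧ Nonempty (N ≅ N') := by
  have hj : j = j' := by
    by_contra hne
    apply hN
    have e2 : (homologyFunctor (ModuleCat.{u} A) j).obj
        ((singleFunctor (ModuleCat.{u} A) j).obj N) ≅ N :=
      (singleFunctorCompHomologyFunctorIso (ModuleCat.{u} A) j).app N
    refine IsZero.of_iso ?_ (e2.symm ≪≫ (homologyFunctor (ModuleCat.{u} A) j).mapIso e)
    rcases lt_or_gt_of_ne hne with h | h
    · exact isZero_of_isGE _ j' j h
    · exact isZero_of_isLE _ j' j h
  subst hj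
  exact ⟨rfl, ⟨((singleFunctorCompHomologyFunctorIso (ModuleCat.{u} A) j).app N).symm ≪≫
    (homologyFunctor (ModuleCat.{u} A) j).mapIso e ≪≫
    (singleFunctorCompHomologyFunctorIso (ModuleCat.{u} A) j).app N'⟩⟩

lemma finite_Hn_S₀_shift (N : ModuleCat.{u} A) [Module.Finite A N] (t j : ℤ) :
    Module.Finite A (Hn ((CxBid.S₀ N)⟦t⟧) j) := by
  by_cases hj : j = -t
  · subst hj
    have e2 : Hn ((CxBid.S₀ N)⟦t⟧) (-t) ≅ N :=
      (homologyFunctor (ModuleCat.{u} A) (-t)).mapIso (singleShiftIso N t) ≪≫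
        (singleFunctorCompHomologyFunctorIso (ModuleCat.{u} A) (-t)).app N
    exact Module.Finite.equiv e2.toLinearEquiv.symm
  · have hz : IsZero (Hn ((CxBid.S₀ N)⟦t⟧) j) := by
      refine IsZero.of_iso ?_ ((homologyFunctor (ModuleCat.{u} A) j).mapIso (singleShiftIso N t))
      rcases lt_or_gt_of_ne hj with h | h
      · exact isZero_of_isGE _ (-t) j h
      · exact isZero_of_isLE _ (-t) j h
    haveI := ModuleCat.subsingleton_of_isZero hz
    infer_instance

lemma not_isZero_of_invertible [Nontrivial A] (L : Type u) [AddCommGroup L] [Module A L]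
    [Module.Invertible A L] : ¬ IsZero (ModuleCat.of A L) := by
  intro h
  haveI : Subsingleton L := ModuleCat.subsingleton_of_isZero h
  exact one_ne_zero (α := A) (FaithfulSMul.eq_of_smul_eq_smul (M := A) (α := L)
    (fun x => Subsingleton.elim _ _))

/-- S11187. -/
theorem eq_and_nonempty_equiv_of_twist_iso (A : Type u) [CommRing A] [IsNoetherianRing A]
    [Nontrivial A] (ω : Dual.D A) (hω : Dual.IsDualizing A ω) (P P' : Type u) [AddCommGroup P]
    [Module A P] [Module.Invertible A P] [AddCommGroup P'] [Module A P'] [Module.Invertible A P']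
    [DRing.HasLTensor A (ModuleCat.of A P)] [DRing.HasLTensor A (ModuleCat.of A P')] (n n' : ℤ)
    (h : Nonempty (((DRing.LTensor A (ModuleCat.of A P)).obj ω)⟦n⟧ ≅
      ((DRing.LTensor A (ModuleCat.of A P')).obj ω)⟦n'⟧)) :
    n = n' ∧ Nonempty (P ≃ₗ[A] P') := by
  obtain ⟨M⟩ := exists_model ω hω
  obtain ⟨e⟩ := h
  obtain ⟨t, rfl⟩ : ∃ t, n = -t := ⟨-n, (neg_neg n).symm⟩
  obtain ⟨t', rfl⟩ : ∃ t', n' = -t' := ⟨-n', (neg_neg n').symm⟩
  obtain ⟨a⟩ := nonempty_twist_iso_D M P t
  obtain ⟨a'⟩ := nonempty_twist_iso_D M P' t'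
  let L : ModuleCat.{u} A := ModuleCat.of A (Module.Dual A P)
  let L' : ModuleCat.{u} A := ModuleCat.of A (Module.Dual A P')
  haveI : Module.Finite A L := (inferInstance : Module.Finite A (Module.Dual A P))
  haveI : Module.Finite A L' := (inferInstance : Module.Finite A (Module.Dual A P'))
  obtain ⟨b⟩ := nonempty_Q_iso_of_D_iso hω M ((CxBid.S₀ L)⟦t⟧) ((CxBid.S₀ L')⟦t'⟧)
    (finite_Hn_S₀_shift L t) (finite_Hn_S₀_shift L' t') (a.symm ≪≫ e ≪≫ a')
  obtain ⟨h1, ⟨c⟩⟩ := eq_and_iso_of_single_iso L L' (not_isZero_of_invertible (Module.Dual A P))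
    (-t) (-t') ((singleShiftIso L t).symm ≪≫ b ≪≫ singleShiftIso L' t')
  refine ⟨h1, ⟨?_⟩⟩
  exact (Module.evalEquiv A P) ≪≫ₗ (c.toLinearEquiv.symm.dualMap) ≪≫ₗ (Module.evalEquiv A P').symm

end Groth.Agent.Lib.helper23.DualTw
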