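import Mathlib
import Groth.Prelude.Def_DRing2
import Groth.Agent.Lib.Helper23.ExtAR2

/-!
# `Ext^i(K, M/IⁿM)` is essentially constant (S7164) (helper23)
-/

set_option autoImplicit false
universe u
open CategoryTheory CategoryTheory.Limits DerivedCategory

attribute [local instance] HasDerivedCategory.standard

namespace Groth.Agent.Lib.helper23.ExtAR

theorem main (A : Type u) [CommRing A] [IsNoetherianRing A]
    (I : Ideal A) (K : Dual.D A) (hK : DRing.IsPseudoCoherent' A K) (a : ℤ)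
    (htors : ∀ (M : Type u) [AddCommGroup M] [Module A M], Module.Finite A M → ∀ i : ℤ, a ≤ i →
      ∀ e : K ⟶ (Dual.inD A M)⟦i⟧, ∃ n : ℕ, ∀ x ∈ I ^ n, x • e = 0)
    (M : Type u) [AddCommGroup M] [Module A M] [Module.Finite A M] (i : ℤ) (hi : a ≤ i) :
    let Mq : ℕ → Submodule A M := fun n => I ^ n • ⊤
    let c : ∀ n : ℕ, (K ⟶ (Dual.inD A M)⟦i⟧) → (K ⟶ (Dual.inD A (M ⧸ Mq n))⟦i⟧) :=
      fun n e => e ≫ ((DerivedCategory.singleFunctor (ModuleCat.{u} A) 0).map (ModuleCat.ofHom (Mq n).mkQ))⟦i⟧'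
    let t : ∀ n m : ℕ, n ≤ m → (K ⟶ (Dual.inD A (M ⧸ Mq m))⟦i⟧) → (K ⟶ (Dual.inD A (M ⧸ Mq n))⟦i⟧) :=
      fun n m hnm e => e ≫ ((DerivedCategory.singleFunctor (ModuleCat.{u} A) 0).map (ModuleCat.ofHom
        (Submodule.mapQ (Mq m) (Mq n) (LinearMap.id : M →ₗ[A] M) (Submodule.smul_mono_left (Ideal.pow_le_pow_right hnm)))))⟦i⟧'
    (∃ m : ℕ, Function.Injective (c m)) ∧
      ∀ n : ℕ, ∃ (m' : ℕ) (hnm : n ≤ m'), Set.range (t n m' hnm) ⊆ Set.range (c n) := by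
  intro Mq c t
  obtain ⟨P, b, hb, hff, ⟨eK⟩⟩ := hK
  haveI : ∀ j, Module.Finite A (P.X j) := fun j => (hff j).1
  haveI : ∀ j, Module.Free A (P.X j) := fun j => (hff j).2
  haveI : ∀ n, Projective (P.X n) := fun n =>
    (IsProjective.iff_projective (R := A) (P.X n)).1 inferInstance
  haveI : P.IsStrictlyLE b := (CochainComplex.isStrictlyLE_iff _ _).2 hb
  haveI : P.IsKProjective := CochainComplex.isKProjective_of_projective P b
  obtain ⟨p, hp⟩ : ∃ p : ℤ, p = -i := ⟨_, rfl⟩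
  obtain ⟨p', hp'0⟩ : ∃ p' : ℤ, p' = p - 1 := ⟨_, rfl⟩
  obtain ⟨p'', hp''0⟩ : ∃ p'' : ℤ, p'' = p + 1 := ⟨_, rfl⟩
  have h : p + i = 0 := by omega
  have hp' : p' + 1 = p := by omega
  have hp'' : p + 1 = p'' := by omega
  have hdd : (P.d p p'').hom ∘ₗ (P.d p' p).hom = 0 := by
    have := congrArg ModuleCat.Hom.hom (P.d_comp_d p' p p'')
    rwa [ModuleCat.hom_comp] at this
  refine ⟨?_, ?_⟩
  · haveI : IsNoetherian A (P.X p →ₗ[A] M) := isNoetherian_of_isNoetherianRing_of_finite A _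
    obtain ⟨s, hs⟩ : (LinearMap.ker (LinearMap.lcomp A M (P.d p' p).hom)).FG :=
      IsNoetherian.noetherian _
    have hsZ : ∀ z ∈ s, z ∘ₗ (P.d p' p).hom = 0 := fun z hz => by
      have hz' : z ∈ LinearMap.ker (LinearMap.lcomp A M (P.d p' p).hom) :=
        hs ▸ Submodule.subset_span hz
      exact hz'
    have hex : ∀ z : (P.X p →ₗ[A] M), ∃ n : ℕ, z ∈ s → ∀ x ∈ I ^ n,
        x • z ∈ LinearMap.range (LinearMap.lcomp A M (P.d p p'').hom) := by
      intro z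
      by_cases hz : z ∈ s
      · obtain ⟨n, hn⟩ := htors M inferInstance i hi (Ψ P eK h hp' z (hsZ z hz))
        refine ⟨n, fun _ x hx => ?_⟩
        have h0 := hn x hx
        rw [smul_Ψ] at h0
        obtain ⟨g, hg⟩ := (Ψ_eq_zero_iff P eK h hp' hp'' _ _).1 h0
        exact ⟨g, hg⟩
      · exact ⟨0, fun h => absurd h hz⟩
    choose nz hnz using hex
    have ht : I ^ (s.sup nz) • LinearMap.ker (LinearMap.lcomp A M (P.d p' p).hom) ≤
        LinearMap.range (LinearMap.lcomp A M (P.d p p'').hom) := by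
      rw [Submodule.smul_le]
      intro x hx z hz
      rw [← hs] at hz
      induction hz using Submodule.span_induction with
      | mem z hz => exact hnz z hz x (Ideal.pow_le_pow_right (Finset.le_sup hz) hx)
      | zero => rw [smul_zero]; exact Submodule.zero_mem _
      | add z w _ _ hz hw => rw [smul_add]; exact Submodule.add_mem _ hz hw
      | smul r z _ hz => rw [smul_comm]; exact Submodule.smul_mem _ r hz
    obtain ⟨m, hm⟩ := exists_pow_coboundary I (P.d p' p).hom (P.d p p'').hom hdd (s.sup nz) ht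
    refine ⟨m, ?_⟩
    intro e₁ e₂ he
    have he' : c m (e₁ - e₂) = 0 := by
      show (e₁ - e₂) ≫ _ = 0
      rw [Preadditive.sub_comp]
      exact sub_eq_zero.2 he
    obtain ⟨f, hf, hΨ⟩ := Ψ_surjective P eK h hp' (e₁ - e₂)
    rw [← hΨ] at he'
    change Ψ P eK h hp' f hf ≫ _ = 0 at he'
    rw [Ψ_comp] at he'
    obtain ⟨hh, hhh⟩ := (Ψ_eq_zero_iff P eK h hp' hp'' _ _).1 he'
    obtain ⟨g, hg⟩ := hm f hf ⟨hh, hhh⟩
    have h0 : Ψ P eK h hp' f hf = 0 := (Ψ_eq_zero_iff P eK h hp' hp'' f hf).2 ⟨g, hg⟩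
    rw [hΨ] at h0
    exact sub_eq_zero.1 h0
  · intro n
    obtain ⟨m', hnm, H⟩ := exists_pow_lift_cocycle I (P.d p' p).hom (P.d p p'').hom (M := M) n
    refine ⟨m', hnm, ?_⟩
    rintro _ ⟨e', rfl⟩
    obtain ⟨fb, hfb, hΨ⟩ := Ψ_surjective P eK h hp' e'
    obtain ⟨f₂, hf₂, heq⟩ := H fb hfb
    refine ⟨Ψ P eK h hp' f₂ hf₂, ?_⟩
    show Ψ P eK h hp' f₂ hf₂ ≫ _ = e' ≫ _
    rw [← hΨ, Ψ_comp, Ψ_comp]
    exact Ψ_congr P eK h hp' _ _ _ heq

end Groth.Agent.Lib.helper23.ExtAR
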