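import Mathlib
import Groth.Prelude.Def_DRing2
import Groth.Agent.Lib.Helper23.ExtAR4

/-!
# The Artin–Rees statement for `Ext^p(K, IⁿM) → Ext^p(K, M)` (S7149) (helper23)
-/

set_option autoImplicit false
universe u
open CategoryTheory CategoryTheory.Limits DerivedCategory

attribute [local instance] HasDerivedCategory.standard

namespace Groth.Agent.Lib.helper23.ExtAR

theorem main_S7149 (A : Type u) [CommRing A] [IsNoetherianRing A] (I : Ideal A)
    (K : Dual.D A) (hK : DRing.IsPseudoCoherent' A K) (M : Type u) [AddCommGroup M] [Module A M] [Module.Finite A M]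
    (p : ℤ) :
    ∃ c : ℕ, ∀ n : ℕ, c ≤ n →
      ∀ e : K ⟶ (Dual.inD A ↥(I ^ n • ⊤ : Submodule A M))⟦p⟧,
        e ≫ ((DerivedCategory.singleFunctor (ModuleCat.{u} A) 0).map
              (ModuleCat.ofHom (I ^ n • ⊤ : Submodule A M).subtype))⟦p⟧' ∈
          (I ^ (n - c) • ⊤ : Submodule A (K ⟶ (Dual.inD A M)⟦p⟧)) := by
  obtain ⟨P, b, hb, hff, ⟨eK⟩⟩ := hK
  haveI : ∀ j, Module.Finite A (P.X j) := fun j => (hff j).1
  haveI : ∀ j, Module.Free A (P.X j) := fun j => (hff j).2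
  haveI : ∀ n, Projective (P.X n) := fun n =>
    (IsProjective.iff_projective (R := A) (P.X n)).1 inferInstance
  haveI : P.IsStrictlyLE b := (CochainComplex.isStrictlyLE_iff _ _).2 hb
  haveI : P.IsKProjective := CochainComplex.isKProjective_of_projective P b
  obtain ⟨q, hq⟩ : ∃ q : ℤ, q = -p := ⟨_, rfl⟩
  obtain ⟨q', hq'0⟩ : ∃ q' : ℤ, q' = q - 1 := ⟨_, rfl⟩
  have h : q + p = 0 := by omega
  have hq' : q' + 1 = q := by omega
  obtain ⟨k, hk⟩ := Ideal.exists_pow_inf_eq_pow_smul I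
    (LinearMap.ker (LinearMap.lcomp A M (P.d q' q).hom))
  refine ⟨k, fun n hn e => ?_⟩
  obtain ⟨f, hf, rfl⟩ := Ψ_surjective P eK h hq' e
  rw [Ψ_comp]
  set z : P.X q →ₗ[A] M := (I ^ n • ⊤ : Submodule A M).subtype ∘ₗ f with hz
  have hzZ : z ∈ LinearMap.ker (LinearMap.lcomp A M (P.d q' q).hom) := by
    rw [LinearMap.mem_ker]
    show z ∘ₗ (P.d q' q).hom = 0
    rw [hz, LinearMap.comp_assoc, hf, LinearMap.comp_zero]
  have hzI : z ∈ I ^ n • (⊤ : Submodule A (P.X q →ₗ[A] M)) :=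
    mem_smul_top_of_forall_mem (I ^ n) z (fun v => (f v).2)
  have hmem : z ∈ I ^ n • (⊤ : Submodule A (P.X q →ₗ[A] M)) ⊓
      LinearMap.ker (LinearMap.lcomp A M (P.d q' q).hom) := ⟨hzI, hzZ⟩
  rw [hk n hn] at hmem
  have h1 : z ∈ I ^ (n - k) • LinearMap.ker (LinearMap.lcomp A M (P.d q' q).hom) :=
    Submodule.smul_mono le_rfl inf_le_right hmem
  have h2 : I ^ (n - k) • LinearMap.ker (LinearMap.lcomp A M (P.d q' q).hom) =
      (I ^ (n - k) • (⊤ : Submodule A (LinearMap.ker (LinearMap.lcomp A M (P.d q' q).hom)))).map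
        (LinearMap.ker (LinearMap.lcomp A M (P.d q' q).hom)).subtype := by
    rw [Submodule.map_smul'', Submodule.map_subtype_top]
  rw [h2] at h1
  obtain ⟨z', hz'I, hz'⟩ := h1
  have h3 : ΨLin P eK h hq' M z' ∈
      (I ^ (n - k) • (⊤ : Submodule A (LinearMap.ker (LinearMap.lcomp A M (P.d q' q).hom)))).map
        (ΨLin P eK h hq' M) := Submodule.mem_map_of_mem hz'I
  rw [Submodule.map_smul''] at h3
  have h4 := Submodule.smul_mono (le_refl (I ^ (n - k))) le_top h3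
  have h5 : ΨLin P eK h hq' M z' = Ψ P eK h hq' z hzZ := by
    show Ψ P eK h hq' z'.1 z'.2 = _
    exact Ψ_congr P eK h hq' _ _ _ hz'
  rw [h5] at h4
  exact h4

end Groth.Agent.Lib.helper23.ExtAR
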