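import Mathlib
import Groth.Prelude.Def_Wider
import Groth.Agent.Lib.Helper19.LCBridge

/-!
# Transition maps kill `Ext^i(A/I^n, N)` above the cohomological dimension, uniformly (helper23)

S1744.  Universal element of `Ext^k(X, -)` + dimension shifting in the second variable.
-/

set_option autoImplicit false
universe u
open CategoryTheory CategoryTheory.Limits Abelian

namespace Groth.Agent.Lib.helper23.ExtCd

open Groth.Agent.Lib.helper19.LCBridge

variable {A : Type u} [CommRing A]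

lemma shortExact_kernel {X Y : ModuleCat.{u} A} (π : X ⟶ Y) [Epi π] :
    (ShortComplex.mk (kernel.ι π) π (kernel.condition π)).ShortExact := by
  have : Mono (ShortComplex.mk (kernel.ι π) π (kernel.condition π)).f := by
    dsimp; infer_instance
  have : Epi (ShortComplex.mk (kernel.ι π) π (kernel.condition π)).g := by
    dsimp; infer_instance
  refine ShortComplex.ShortExact.mk' ?_ ‹_› ‹_›
  apply ShortComplex.exact_of_f_is_kernel
  exact kernelIsKernel _

lemma shortExact_cokernel {X Y : ModuleCat.{u} A} (ι : X ⟶ Y) [Mono ι] :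
    (ShortComplex.mk ι (cokernel.π ι) (cokernel.condition ι)).ShortExact := by
  have : Mono (ShortComplex.mk ι (cokernel.π ι) (cokernel.condition ι)).f := by
    dsimp; infer_instance
  have : Epi (ShortComplex.mk ι (cokernel.π ι) (cokernel.condition ι)).g := by
    dsimp; infer_instance
  refine ShortComplex.ShortExact.mk' ?_ ‹_› ‹_›
  apply ShortComplex.exact_of_g_is_cokernel
  exact cokernelIsCokernel _

/-- universal element of `Ext^k(X, -)`. -/
theorem exists_universal (k : ℕ) : ∀ (X : ModuleCat.{u} A),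
    ∃ (Ω : ModuleCat.{u} A) (u : Ext.{u} X Ω k), ∀ (N : ModuleCat.{u} A) (φ : Ext.{u} X N k),
      ∃ f : Ω ⟶ N, φ = u.comp (Ext.mk₀ f) (add_zero k) := by
  induction k with
  | zero =>
    intro X
    refine ⟨X, Ext.mk₀ (𝟙 X), fun N φ => ?_⟩
    obtain ⟨f, rfl⟩ := (Ext.mk₀_bijective X N).2 φ
    exact ⟨f, by rw [Ext.mk₀_id_comp]⟩
  | succ k ih =>
    intro X
    have hS := shortExact_kernel (Projective.π X)
    obtain ⟨Ω, u', hu'⟩ := ih (kernel (Projective.π X))
    refine ⟨Ω, hS.extClass.comp u' (add_comm 1 k), fun N φ => ?_⟩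
    obtain ⟨ψ, hψ⟩ := Ext.contravariant_sequence_exact₃ hS N φ
      (Ext.eq_zero_of_projective (P := Projective.over X) _) (add_comm 1 k)
    obtain ⟨f, hf⟩ := hu' N ψ
    refine ⟨f, ?_⟩
    rw [← hψ, hf, Ext.comp_assoc_of_third_deg_zero]

/-- dimension shifting in the second variable. -/
theorem shift_second {X X' : ModuleCat.{u} A} (g : X' ⟶ X) (k : ℕ)
    (h : ∀ (N : ModuleCat.{u} A) (φ : Ext.{u} X N k), (Ext.mk₀ g).comp φ (zero_add k) = 0) :
    ∀ (N : ModuleCat.{u} A) (φ : Ext.{u} X N (k + 1)),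
      (Ext.mk₀ g).comp φ (zero_add (k + 1)) = 0 := by
  intro N φ
  have hS := shortExact_cokernel (Injective.ι N)
  obtain ⟨ψ, hψ⟩ := Ext.covariant_sequence_exact₁ X hS φ
    (Ext.eq_zero_of_injective (I := Injective.under N) _) (rfl : k + 1 = k + 1)
  rw [← hψ, ← Ext.comp_assoc (Ext.mk₀ g) ψ hS.extClass (zero_add k) rfl (by omega), h,
    Ext.zero_comp]

lemma quotMap_comp (I : Ideal A) {n m m' : ℕ} (h : n ≤ m) (h' : m ≤ m') :
    quotMap I h' ≫ quotMap I h = quotMap I (h.trans h') := by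
  apply ModuleCat.hom_ext
  apply LinearMap.ext
  intro x
  obtain ⟨x, rfl⟩ := Submodule.mkQ_surjective _ x
  rfl

theorem main_ext (I : Ideal A) (e : ℕ) (he : LocCoh.CdLE A I e) (n : ℕ) :
    ∃ (m : ℕ) (hm : n < m), ∀ (N : ModuleCat.{u} A) (i : ℕ), e < i → ∀ φ : Ext.{u} (Q I n) N i,
      (Ext.mk₀ (quotMap I (Nat.le_of_lt hm))).comp φ (zero_add i) = 0 := by
  obtain ⟨Ω, u, hu⟩ := exists_universal (A := A) (e + 1) (Q I n)
  haveI : Subsingleton ((localCohomology I (e + 1)).obj Ω : ModuleCat.{u} A) :=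
    he Ω (e + 1) (by omega)
  obtain ⟨m₀, h₀, hz⟩ := (toH'_eq_zero_iff I (e + 1) Ω u).1 (Subsingleton.elim _ _)
  refine ⟨max m₀ (n + 1), by omega, ?_⟩
  have hle : m₀ ≤ max m₀ (n + 1) := le_max_left _ _
  have hz' : (Ext.mk₀ (quotMap I (h₀.trans hle))).comp u (zero_add (e + 1)) = 0 := by
    rw [← quotMap_comp I h₀ hle, ← Ext.mk₀_comp_mk₀,
      Ext.comp_assoc (Ext.mk₀ (quotMap I hle)) (Ext.mk₀ (quotMap I h₀)) u (zero_add 0)
        (zero_add (e + 1)) (by omega), hz, Ext.comp_zero]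
  have key : ∀ (j : ℕ) (N : ModuleCat.{u} A) (φ : Ext.{u} (Q I n) N (e + 1 + j)),
      (Ext.mk₀ (quotMap I (h₀.trans hle))).comp φ (zero_add (e + 1 + j)) = 0 := by
    intro j
    induction j with
    | zero =>
      intro N φ
      obtain ⟨f, rfl⟩ := hu N φ
      rw [← Ext.comp_assoc (Ext.mk₀ (quotMap I (h₀.trans hle))) u (Ext.mk₀ f) (zero_add (e + 1))
        (add_zero (e + 1)) (by omega), hz', Ext.zero_comp]
    | succ j ih => exact shift_second _ _ ih
  intro N i hi φ
  obtain ⟨j, rfl⟩ : ∃ j, i = e + 1 + j := ⟨i - (e + 1), by omega⟩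
  exact key j N φ

end Groth.Agent.Lib.helper23.ExtCd
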