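import Mathlib

/-!
# Dimension shifting for `Hom_{D(C)}(X, Y[q])` along morphisms of short exact sequences (helper23)

Abstract step used for S7148.
-/

set_option autoImplicit false
universe w v u
open CategoryTheory CategoryTheory.Limits DerivedCategory Pretriangulated

namespace Groth.Agent.Lib.helper23.ExtRestr

variable {C : Type u} [Category.{v} C] [Abelian C] [HasDerivedCategory.{w} C]

/-- no positive Ext out of a projective object. -/
lemma hom_eq_zero_of_projective {P Y : C} [Projective P] (q : ℤ) (hq : 0 < q)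
    (φ : (singleFunctor C 0).obj P ⟶ ((singleFunctor C 0).obj Y)⟦q⟧) : φ = 0 := by
  rw [← cancel_mono (((singleFunctors C).shiftIso q (-q) 0 (by omega)).hom.app Y), zero_comp]
  exact from_singleFunctor_obj_eq_zero_of_projective
    (L := (CochainComplex.singleFunctor C (-q)).obj Y) (n := -q) _ (by omega)

/-- the abstract dimension-shifting step. -/
theorem step {S S' : ShortComplex C} (hS : S.ShortExact) (hS' : S'.ShortExact) (f : S' ⟶ S)
    [Projective S.X₂] {Y Y' : C} (ιY : Y' ⟶ Y) {W : C} (j : S'.X₁ ⟶ W) (ιW : W ⟶ S.X₁)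
    (hj : j ≫ ιW = f.τ₁) (q q' : ℤ) (hq : 0 ≤ q) (hq' : q + 1 = q')
    (IH : ∀ e₀ : (singleFunctor C 0).obj S.X₁ ⟶ ((singleFunctor C 0).obj Y)⟦q⟧,
      ∃ e₀' : (singleFunctor C 0).obj W ⟶ ((singleFunctor C 0).obj Y')⟦q⟧,
        e₀' ≫ ((singleFunctor C 0).map ιY)⟦q⟧' = (singleFunctor C 0).map ιW ≫ e₀)
    (e : (singleFunctor C 0).obj S.X₃ ⟶ ((singleFunctor C 0).obj Y)⟦q'⟧) :
    ∃ e' : (singleFunctor C 0).obj S'.X₃ ⟶ ((singleFunctor C 0).obj Y')⟦q'⟧,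
      e' ≫ ((singleFunctor C 0).map ιY)⟦q'⟧' = (singleFunctor C 0).map f.τ₃ ≫ e := by
  -- factor `e` through the connecting morphism
  have hz : (singleFunctor C 0).map S.g ≫ e = 0 :=
    hom_eq_zero_of_projective q' (by omega) _
  obtain ⟨e₁, he₁⟩ : ∃ e₁ : ((singleFunctor C 0).obj S.X₁)⟦(1 : ℤ)⟧ ⟶
      ((singleFunctor C 0).obj Y)⟦q'⟧, e = hS.singleδ ≫ e₁ :=
    Triangle.yoneda_exact₃ _ hS.singleTriangle_distinguished e hz
  obtain ⟨e₀, he₀⟩ : ∃ e₀ : (singleFunctor C 0).obj S.X₁ ⟶ ((singleFunctor C 0).obj Y)⟦q⟧,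
      e₀⟦(1 : ℤ)⟧' = e₁ ≫ (shiftFunctorAdd' (DerivedCategory C) q 1 q' hq').hom.app _ :=
    (shiftFunctor (DerivedCategory C) (1 : ℤ)).map_surjective
      (e₁ ≫ (shiftFunctorAdd' (DerivedCategory C) q 1 q' hq').hom.app _)
  obtain ⟨e₀', hIH⟩ := IH e₀
  have he : e = hS.singleδ ≫ e₀⟦(1 : ℤ)⟧' ≫
      (shiftFunctorAdd' (DerivedCategory C) q 1 q' hq').inv.app _ := by
    rw [he₁, he₀, Category.assoc, Iso.hom_inv_id_app, Category.comp_id]
  refine ⟨hS'.singleδ ≫ ((singleFunctor C 0).map j ≫ e₀')⟦(1 : ℤ)⟧' ≫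
      (shiftFunctorAdd' (DerivedCategory C) q 1 q' hq').inv.app _, ?_⟩
  have hcomm : hS'.singleδ ≫ ((singleFunctor C 0).map f.τ₁)⟦(1 : ℤ)⟧' =
      (singleFunctor C 0).map f.τ₃ ≫ hS.singleδ :=
    (ShortComplex.ShortExact.singleTriangle.map hS' hS f).comm₃
  have hnat : (((singleFunctor C 0).map ιY)⟦q⟧')⟦(1 : ℤ)⟧' ≫
      (shiftFunctorAdd' (DerivedCategory C) q 1 q' hq').inv.app _ =
      (shiftFunctorAdd' (DerivedCategory C) q 1 q' hq').inv.app _ ≫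
        ((singleFunctor C 0).map ιY)⟦q'⟧' :=
    (shiftFunctorAdd' (DerivedCategory C) q 1 q' hq').inv.naturality
      ((singleFunctor C 0).map ιY)
  have h1 : ((singleFunctor C 0).map j ≫ e₀')⟦(1 : ℤ)⟧' ≫
      (((singleFunctor C 0).map ιY)⟦q⟧')⟦(1 : ℤ)⟧' =
      ((singleFunctor C 0).map f.τ₁)⟦(1 : ℤ)⟧' ≫ e₀⟦(1 : ℤ)⟧' := by
    rw [← Functor.map_comp, ← Functor.map_comp, Category.assoc, hIH, ← Category.assoc,
      ← Functor.map_comp, hj]
  rw [Category.assoc, Category.assoc, ← hnat, reassoc_of% h1, reassoc_of% hcomm, he]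

/-- the degree-zero case. -/
theorem base {X X' Y Y' : C} (ιX : X' ⟶ X) (ιY : Y' ⟶ Y)
    (H : ∀ g : X ⟶ Y, ∃ g' : X' ⟶ Y', g' ≫ ιY = ιX ≫ g)
    (e : (singleFunctor C 0).obj X ⟶ ((singleFunctor C 0).obj Y)⟦(0 : ℤ)⟧) :
    ∃ e' : (singleFunctor C 0).obj X' ⟶ ((singleFunctor C 0).obj Y')⟦(0 : ℤ)⟧,
      e' ≫ ((singleFunctor C 0).map ιY)⟦(0 : ℤ)⟧' = (singleFunctor C 0).map ιX ≫ e := by
  let z := shiftFunctorZero (DerivedCategory C) ℤ
  obtain ⟨g, hg⟩ : ∃ g : X ⟶ Y, (singleFunctor C 0).map g =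
      e ≫ z.hom.app ((singleFunctor C 0).obj Y) :=
    (singleFunctor C 0).map_surjective _
  obtain ⟨g', hg'⟩ := H g
  have he : e = (singleFunctor C 0).map g ≫ z.inv.app ((singleFunctor C 0).obj Y) := by
    rw [hg, Category.assoc, Iso.hom_inv_id_app, Category.comp_id]
  have hnat : z.inv.app ((singleFunctor C 0).obj Y') ≫ ((singleFunctor C 0).map ιY)⟦(0 : ℤ)⟧' =
      (singleFunctor C 0).map ιY ≫ z.inv.app ((singleFunctor C 0).obj Y) :=
    (z.inv.naturality ((singleFunctor C 0).map ιY)).symm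
  refine ⟨(singleFunctor C 0).map g' ≫ z.inv.app ((singleFunctor C 0).obj Y'), ?_⟩
  rw [Category.assoc, hnat, he, ← Category.assoc, ← Category.assoc, ← Functor.map_comp,
    ← Functor.map_comp, hg']

end Groth.Agent.Lib.helper23.ExtRestr
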