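import Mathlib
import Groth.Prelude.Def_Wider
import Groth.Agent.Lib.Helper23.ExtRestr1

/-!
# `Ext^p(M, N) → Ext^p(IⁿM, N)` factors through `Ext^p(IⁿM, I^{n-c}N)` (helper23, S7148)
-/

set_option autoImplicit false
universe u
open CategoryTheory CategoryTheory.Limits DerivedCategory

attribute [local instance] HasDerivedCategory.standard

namespace Groth.Agent.Lib.helper23.ExtRestr

variable {A : Type u} [CommRing A]

section Mod

variable {X Y : Type u} [AddCommGroup X] [Module A X] [AddCommGroup Y] [Module A Y]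

/-- `J M` as a submodule of `M`. -/
abbrev JM (J : Ideal A) (M : Type u) [AddCommGroup M] [Module A M] : Submodule A M := J • ⊤

/-- the inclusion `J M → M` in `ModuleCat`. -/
abbrev ιJ (J : Ideal A) (M : Type u) [AddCommGroup M] [Module A M] :
    ModuleCat.of A ↥(J • ⊤ : Submodule A M) ⟶ ModuleCat.of A M :=
  ModuleCat.ofHom (J • ⊤ : Submodule A M).subtype

lemma map_mem_smul_top (J : Ideal A) (f : X →ₗ[A] Y) {x : X}
    (hx : x ∈ J • (⊤ : Submodule A X)) : f x ∈ J • (⊤ : Submodule A Y) := by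
  have h1 : f x ∈ (J • (⊤ : Submodule A X)).map f := Submodule.mem_map_of_mem hx
  rw [Submodule.map_smul''] at h1
  exact Submodule.smul_mono le_rfl le_top h1

/-- restriction of `f` to `J X → J Y`. -/
def restr (J : Ideal A) (f : X →ₗ[A] Y) :
    ↥(J • (⊤ : Submodule A X)) →ₗ[A] ↥(J • (⊤ : Submodule A Y)) :=
  (f ∘ₗ (J • (⊤ : Submodule A X)).subtype).codRestrict _
    (fun x => map_mem_smul_top J f x.2)

@[simp] lemma restr_apply_coe (J : Ideal A) (f : X →ₗ[A] Y) (x : ↥(J • (⊤ : Submodule A X))) :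
    ((restr J f x : ↥(J • (⊤ : Submodule A Y))) : Y) = f x.1 := rfl

lemma restr_surjective (J : Ideal A) (f : X →ₗ[A] Y) (hf : Function.Surjective f) :
    Function.Surjective (restr J f) := by
  rintro ⟨y, hy⟩
  have h1 : (J • (⊤ : Submodule A X)).map f = J • ⊤ := by
    rw [Submodule.map_smul'', Submodule.map_top, LinearMap.range_eq_top.mpr hf]
  rw [← h1] at hy
  obtain ⟨x, hx, rfl⟩ := hy
  exact ⟨⟨x, hx⟩, rfl⟩

/-- Artin–Rees, in the form needed. -/
lemma artinRees [IsNoetherianRing A] [Module.Finite A X] (I : Ideal A) (Ω : Submodule A X) :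
    ∃ k : ℕ, ∀ n m : ℕ, m + k = n → ∀ x : Ω, x.1 ∈ I ^ n • (⊤ : Submodule A X) →
      x ∈ I ^ m • (⊤ : Submodule A Ω) := by
  obtain ⟨k, hk⟩ := Ideal.exists_pow_inf_eq_pow_smul I Ω
  refine ⟨k, fun n m hnm x hx => ?_⟩
  have h1 : x.1 ∈ I ^ n • (⊤ : Submodule A X) ⊓ Ω := ⟨hx, x.2⟩
  rw [hk n (by omega)] at h1
  have h2 : I ^ (n - k) • (I ^ k • (⊤ : Submodule A X) ⊓ Ω) ≤
      (I ^ m • (⊤ : Submodule A Ω)).map Ω.subtype := by
    rw [Submodule.map_smul'', Submodule.map_top, Submodule.range_subtype]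
    have : n - k = m := by omega
    rw [this]
    exact Submodule.smul_mono le_rfl inf_le_right
  obtain ⟨z, hz, hzx⟩ := h2 h1
  have : z = x := Subtype.ext hzx
  rwa [← this]

end Mod

section SES

variable {F M : Type u} [AddCommGroup F] [Module A F] [AddCommGroup M] [Module A M]
  (J : Ideal A) (π : F →ₗ[A] M)

lemma ker_restr_mem (x : LinearMap.ker (restr J π)) : x.1.1 ∈ LinearMap.ker π := by
  have h1 : restr J π x.1 = 0 := LinearMap.mem_ker.mp x.2
  have h2 := congrArg Subtype.val h1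
  rw [restr_apply_coe] at h2
  exact LinearMap.mem_ker.mpr h2

/-- the comparison `ker (J F → J M) → ker (F → M)`. -/
def kerMap : LinearMap.ker (restr J π) →ₗ[A] LinearMap.ker π :=
  ((J • (⊤ : Submodule A F)).subtype ∘ₗ (LinearMap.ker (restr J π)).subtype).codRestrict _
    (fun x => ker_restr_mem J π x)

@[simp] lemma kerMap_coe (x : LinearMap.ker (restr J π)) : (kerMap J π x : F) = x.1.1 := rfl

/-- the morphism of short exact sequences. -/
noncomputable def sesMap : (restr J π).shortComplexKer ⟶ π.shortComplexKer where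
  τ₁ := ModuleCat.ofHom (kerMap J π)
  τ₂ := ModuleCat.ofHom (J • (⊤ : Submodule A F)).subtype
  τ₃ := ModuleCat.ofHom (J • (⊤ : Submodule A M)).subtype
  comm₁₂ := by
    apply ModuleCat.hom_ext
    ext x
    rfl
  comm₂₃ := by
    apply ModuleCat.hom_ext
    ext x
    rfl

end SES

section Main

variable [IsNoetherianRing A] (I : Ideal A) (N : Type u) [AddCommGroup N] [Module A N]

theorem claim (p : ℕ) :
    ∀ (M : Type u) [AddCommGroup M] [Module A M] [Module.Finite A M] (q : ℤ) (_ : (p : ℤ) = q),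
    ∃ c : ℕ, ∀ n r : ℕ, r + c = n → ∀ e : Dual.inD A M ⟶ (Dual.inD A N)⟦q⟧,
      ∃ e' : Dual.inD A ↥(I ^ n • ⊤ : Submodule A M) ⟶
          (Dual.inD A ↥(I ^ r • ⊤ : Submodule A N))⟦q⟧,
        e' ≫ ((singleFunctor (ModuleCat.{u} A) 0).map
            (ModuleCat.ofHom (I ^ r • ⊤ : Submodule A N).subtype))⟦q⟧' =
          (singleFunctor (ModuleCat.{u} A) 0).map
            (ModuleCat.ofHom (I ^ n • ⊤ : Submodule A M).subtype) ≫ e := by
  induction p with
  | zero =>
    intro M _ _ _ q hq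
    obtain rfl : q = 0 := by simpa using hq.symm
    refine ⟨0, fun n r hr e => ?_⟩
    obtain rfl : r = n := by omega
    refine base (ModuleCat.ofHom (I ^ r • ⊤ : Submodule A M).subtype)
      (ModuleCat.ofHom (I ^ r • ⊤ : Submodule A N).subtype) (fun g => ?_) e
    refine ⟨ModuleCat.ofHom (restr (I ^ r) g.hom), ?_⟩
    apply ModuleCat.hom_ext
    ext x
    rfl
  | succ p ih =>
    intro M _ _ _ q hq
    obtain ⟨t, π, hπ⟩ := Module.Finite.exists_fin' A M
    obtain ⟨k, hk⟩ := artinRees I (LinearMap.ker π)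
    obtain ⟨c', hc'⟩ := ih (LinearMap.ker π) (q - 1) (by push_cast at hq; omega)
    refine ⟨k + c', fun n r hr e => ?_⟩
    have hS := LinearMap.shortExact_shortComplexKer hπ
    have hS' := LinearMap.shortExact_shortComplexKer (restr_surjective (I ^ n) π hπ)
    have hproj : Projective (π.shortComplexKer).X₂ := by
      change Projective (ModuleCat.of A (Fin t → A))
      exact ModuleCat.projective_of_free (Pi.basisFun A (Fin t))
    -- the factorization of `ker (Iⁿ F → Iⁿ M) → ker π` through `I^{n-k} ker π`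
    let j : LinearMap.ker (restr (I ^ n) π) →ₗ[A] ↥(JM (I ^ (r + c')) (LinearMap.ker π)) :=
      (kerMap (I ^ n) π).codRestrict _ (fun x => hk n (r + c') (by omega) _ x.1.2)
    have hj : ModuleCat.ofHom j ≫ ιJ (I ^ (r + c')) (LinearMap.ker π) =
        (sesMap (I ^ n) π).τ₁ := by
      apply ModuleCat.hom_ext
      ext x
      rfl
    exact step hS hS' (sesMap (I ^ n) π)
      (ιJ (I ^ r) N) (ModuleCat.ofHom j) (ιJ (I ^ (r + c')) (LinearMap.ker π)) hj
      (q - 1) q (by push_cast at hq; omega) (by omega)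
      (fun e₀ => hc' (r + c') r rfl e₀) e

end Main

end Groth.Agent.Lib.helper23.ExtRestr
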