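import Mathlib
import Groth.Agent.Lib.Helper23.ExtSc4

set_option autoImplicit false
universe u
open CategoryTheory CategoryTheory.Limits Pretriangulated TensorProduct

attribute [local instance] HasDerivedCategory.standard

namespace Groth.Agent.Lib.helper23.ExtSc

open Groth.Agent.Lib.helper23.PCohCore Groth.Agent.Lib.helper23.DRingPC

variable {A B : Type u} [CommRing A] [CommRing B] [Algebra A B] [Module.Flat A B]

lemma finite_extend (φ : A →+* B) (X : ModuleCat.{u} A) [Module.Finite A X] :
    Module.Finite B ((ModuleCat.extendScalars.{u, u, u} φ).obj X) := by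
  letI : Algebra A B := φ.toAlgebra
  exact inferInstanceAs (Module.Finite B (TensorProduct A B X))

lemma projective_extend (φ : A →+* B) (X : ModuleCat.{u} A) [Module.Projective A X] :
    Module.Projective B ((ModuleCat.extendScalars.{u, u, u} φ).obj X) := by
  letI : Algebra A B := φ.toAlgebra
  exact inferInstanceAs (Module.Projective B (TensorProduct A B X))

lemma flat_extend (φ : A →+* B) (X : ModuleCat.{u} A) [Module.Flat A X] :
    Module.Flat B ((ModuleCat.extendScalars.{u, u, u} φ).obj X) := by
  letI : Algebra A B := φ.toAlgebra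
  exact inferInstanceAs (Module.Flat B (TensorProduct A B X))

/-- flat base change of a module represented by a complex. -/
theorem exists_rep_baseChange (M : ModuleCat.{u} A) (E : DRing.Cx A)
    (e : DRing.toD E ≅ (DerivedCategory.singleFunctor (ModuleCat.{u} A) 0).obj M) :
    Nonempty (DRing.toD (((ModuleCat.extendScalars.{u, u, u} (algebraMap A B)).mapHomologicalComplex
      (ComplexShape.up ℤ)).obj E) ≅ (DerivedCategory.singleFunctor (ModuleCat.{u} B) 0).obj
      (ModuleCat.of B (B ⊗[A] M))) := by
  have hflat : (algebraMap A B).Flat := by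
    rw [RingHom.flat_algebraMap_iff]
    infer_instance
  haveI := preservesFiniteLimits_extendScalars (algebraMap A B) hflat
  haveI := preservesFiniteColimits_extendScalars (algebraMap A B)
  have e1 := ((ModuleCat.extendScalars.{u, u, u} (algebraMap A B)).mapDerivedCategorySingleFunctor
    0).app M
  have e2 : (ModuleCat.extendScalars.{u, u, u} (algebraMap A B)).obj M ≅
      ModuleCat.of B (B ⊗[A] M) := (extendObjEquiv (B := B) M).toModuleIso
  exact ⟨(extendComplexIso (algebraMap A B) E).symm ≪≫
    (ModuleCat.extendScalars.{u, u, u} (algebraMap A B)).mapDerivedCategory.mapIso e ≪≫ e1 ≪≫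
    (DerivedCategory.singleFunctor (ModuleCat.{u} B) 0).mapIso e2⟩

end Groth.Agent.Lib.helper23.ExtSc
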