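import Mathlib

set_option autoImplicit false
universe w v u
open CategoryTheory CategoryTheory.Limits Abelian

namespace Groth.Agent.Lib.helper23.ExtShift

variable {𝒜 : Type u} [Category.{v} 𝒜] [Abelian 𝒜] [HasExt.{w} 𝒜] (Z : 𝒜)

lemma subsingleton_of_isZero {Y : 𝒜} (hY : IsZero Y) (n : ℕ) : Subsingleton (Ext Z Y n) := by
  suffices ∀ x : Ext Z Y n, x = 0 from ⟨fun a b => by rw [this a, this b]⟩
  intro x
  have : x.comp (Ext.mk₀ (𝟙 Y)) (add_zero n) = x := Ext.comp_mk₀_id x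
  rw [← this, hY.eq_of_src (𝟙 Y) 0, Ext.mk₀_zero, Ext.comp_zero]

lemma step (S : ShortComplex 𝒜) (hS : S.ShortExact) (n : ℕ)
    (h₂ : Subsingleton (Ext Z S.X₂ n)) (h₁ : Subsingleton (Ext Z S.X₁ (n+1))) :
    Subsingleton (Ext Z S.X₃ n) := by
  suffices ∀ x : Ext Z S.X₃ n, x = 0 from ⟨fun a b => by rw [this a, this b]⟩
  intro x
  obtain ⟨x₂, rfl⟩ := Ext.covariant_sequence_exact₃ Z hS x (n₁ := n+1) rfl (Subsingleton.elim _ _)
  rw [Subsingleton.elim x₂ 0, Ext.zero_comp]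

lemma surj (S : ShortComplex 𝒜) (hS : S.ShortExact)
    (h₁ : Subsingleton (Ext Z S.X₁ 1)) (x₃ : Ext Z S.X₃ 0) :
    ∃ x₂ : Ext Z S.X₂ 0, x₂.comp (Ext.mk₀ S.g) (add_zero 0) = x₃ :=
  Ext.covariant_sequence_exact₃ Z hS x₃ (n₁ := 1) rfl (Subsingleton.elim _ _)

/-- the short complex `ker d_{k+2} → F_{k+2} → ker d_{k+1}`. -/
noncomputable def kerSC (F : ChainComplex 𝒜 ℕ) (k : ℕ) : ShortComplex 𝒜 :=
  ShortComplex.mk (kernel.ι (F.d (k+2) (k+1)))
    (kernel.lift (F.d (k+1) k) (F.d (k+2) (k+1)) (F.d_comp_d _ _ _))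
    (by rw [← cancel_mono (kernel.ι (F.d (k+1) k))]; simp)

lemma kerSC_shortExact (F : ChainComplex 𝒜 ℕ) (k : ℕ) (hex : F.ExactAt (k+1)) :
    (kerSC F k).ShortExact := by
  have hexact : (F.sc' (k+2) (k+1) k).Exact := by
    rw [← F.exactAt_iff' (k+2) (k+1) k (by simp) (by simp)]
    exact hex
  have hepi : Epi (kernel.lift (F.d (k+1) k) (F.d (k+2) (k+1)) (F.d_comp_d _ _ _)) :=
    hexact.epi_kernelLift
  have : Mono (kerSC F k).f := by dsimp [kerSC]; infer_instance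
  have : Epi (kerSC F k).g := hepi
  refine ShortComplex.ShortExact.mk' ?_ ‹_› ‹_›
  apply ShortComplex.exact_of_f_is_kernel
  refine KernelFork.IsLimit.ofι' _ _ (fun {A} x hx => ?_)
  refine ⟨kernel.lift _ x ?_, kernel.lift_ι _ _ _⟩
  have := hx =≫ kernel.ι (F.d (k+1) k)
  rw [zero_comp] at this
  simpa [kerSC] using this

/-- the short complex `ker d_1 → F_1 → F_0`. -/
noncomputable def kerSC₀ (F : ChainComplex 𝒜 ℕ) : ShortComplex 𝒜 :=
  ShortComplex.mk (kernel.ι (F.d 1 0)) (F.d 1 0) (by simp)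

lemma kerSC₀_shortExact (F : ChainComplex 𝒜 ℕ) (hepi : Epi (F.d 1 0)) :
    (kerSC₀ F).ShortExact := by
  have : Mono (kerSC₀ F).f := by dsimp [kerSC₀]; infer_instance
  have : Epi (kerSC₀ F).g := hepi
  refine ShortComplex.ShortExact.mk' ?_ ‹_› ‹_›
  apply ShortComplex.exact_of_f_is_kernel
  exact kernelIsKernel _

theorem vanish (F : ChainComplex 𝒜 ℕ) (r : ℕ) (hmono : Mono (F.d r (r - 1)))
    (hex : ∀ j : ℕ, 1 ≤ j → j < r → F.ExactAt j)
    (hvan : ∀ j : ℕ, 2 ≤ j → j ≤ r → Subsingleton (Ext Z (F.X j) (j - 1))) :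
    ∀ m k : ℕ, k + 1 + m = r → Subsingleton (Ext Z (kernel (F.d (k+1) k)) (k+1)) := by
  intro m
  induction m with
  | zero =>
    intro k hk
    have hk' : r = k + 1 := by omega
    subst hk'
    have : Mono (F.d (k+1) k) := hmono
    exact subsingleton_of_isZero Z (isZero_kernel_of_mono _) _
  | succ m ih =>
    intro k hk
    have h1 := ih (k+1) (by omega)
    have h2 := hvan (k+2) (by omega) (by omega)
    exact step Z (kerSC F k) (kerSC_shortExact F k (hex (k+1) (by omega) (by omega))) (k+1) h2 h1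

theorem main (F : ChainComplex 𝒜 ℕ) (r : ℕ) (hr : 1 ≤ r) (hmono : Mono (F.d r (r - 1)))
    (hepi : Epi (F.d 1 0))
    (hex : ∀ j : ℕ, 1 ≤ j → j < r → F.ExactAt j)
    (hvan : ∀ j : ℕ, 2 ≤ j → j ≤ r → Subsingleton (Ext Z (F.X j) (j - 1)))
    (x : Ext Z (F.X 0) 0) : ∃ y : Ext Z (F.X 1) 0, y.comp (Ext.mk₀ (F.d 1 0)) (add_zero 0) = x := by
  have h := vanish Z F r hmono hex hvan (r - 1) 0 (by omega)
  exact surj Z (kerSC₀ F) (kerSC₀_shortExact F hepi) h x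

end Groth.Agent.Lib.helper23.ExtShift
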