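import Mathlib
import Groth.Prelude.Def_Wider
import Groth.Prelude.Def_DDual2
import Groth.Prelude.Def_Hensel
import Groth.Agent.Lib.Helper23.FBC16
import Groth.Agent.Lib.Helper24.HensRegular
import Groth.Agent.Lib.Helper24.StrictHensProps
import Groth.Agent.Lib.Helper24.HenselizationFlat

/-!
# Base change of dualizing complexes to the (strict) henselization (helper23)
-/

set_option autoImplicit false
universe u
open CategoryTheory CategoryTheory.Limits DerivedCategory Pretriangulated TensorProduct

attribute [local instance] HasDerivedCategory.standard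

namespace Groth.Agent.Lib.helper23.FBC

attribute [local instance 50] homModuleA
attribute [local instance] FlatBC.preservesFiniteLimits_extendScalars_algebraMap

/-- flat local homomorphism of Noetherian local rings with `m_A B = m_B`: dualizing complexes base
change to dualizing complexes. -/
theorem isDualizing_LBaseChange_of_map_maximalIdeal (A B : Type u) [CommRing A] [IsLocalRing A]
    [IsNoetherianRing A] [CommRing B] [IsLocalRing B] [IsNoetherianRing B] [Algebra A B]
    [Module.Flat A B]
    (hm : (IsLocalRing.maximalIdeal A).map (algebraMap A B) = IsLocalRing.maximalIdeal B)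
    [DRing.HasLBaseChange (algebraMap A B)] (ω : Dual.D A) (hω : Dual.IsDualizing A ω) :
    Dual.IsDualizing B ((DRing.LBaseChange (algebraMap A B)).obj ω) :=
  isDualizing_of_iso ((FlatBC.lbcIso (algebraMap A B)).app ω).symm
    (isDualizing_EE_of_maximal B (hmax_of_map_eq A B (fun m' hm' =>
      ⟨IsLocalRing.maximalIdeal A, hm.trans (IsLocalRing.eq_maximalIdeal hm').symm⟩)) ω hω)

/-- S1825. -/
theorem isDualizing_LBaseChange_henselization (A B : Type u) [CommRing A] [IsLocalRing A]
    [IsNoetherianRing A] [CommRing B] [IsLocalRing B] [IsNoetherianRing B] [Algebra A B]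
    [IsLocalHom (algebraMap A B)] [Hensel.IsHenselization A B]
    [DRing.HasLBaseChange (algebraMap A B)] (ω : Dual.D A) (hω : Dual.IsDualizing A ω) :
    Dual.IsDualizing B ((DRing.LBaseChange (algebraMap A B)).obj ω) := by
  haveI : Module.FaithfullyFlat A B :=
    Groth.Agent.Lib.helper24.Henselization.faithfullyFlat_of_isHenselization A B
  exact isDualizing_LBaseChange_of_map_maximalIdeal A B
    (Groth.Agent.Lib.Helper24.HensRegular.map_maximalIdeal_of_isHenselization A B) ω hω

/-- S1826. -/
theorem isDualizing_LBaseChange_strictHenselization (A B : Type u) [CommRing A] [IsLocalRing A]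
    [IsNoetherianRing A] [CommRing B] [IsLocalRing B] [IsNoetherianRing B] [Algebra A B]
    [IsLocalHom (algebraMap A B)] [Hensel.IsStrictHenselization A B]
    [DRing.HasLBaseChange (algebraMap A B)] (ω : Dual.D A) (hω : Dual.IsDualizing A ω) :
    Dual.IsDualizing B ((DRing.LBaseChange (algebraMap A B)).obj ω) := by
  haveI : Module.FaithfullyFlat A B :=
    Groth.Agent.Lib.Helper24.StrictHens.faithfullyFlat_of_isStrictHenselization A B
  exact isDualizing_LBaseChange_of_map_maximalIdeal A B
    (Groth.Agent.Lib.Helper24.StrictHens.map_maximalIdeal_of_isStrictHenselization A B) ω hω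

end Groth.Agent.Lib.helper23.FBC
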