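import Mathlib
import Groth.Prelude.Def_Wider
import Groth.Prelude.Def_DDual2
import Groth.Prelude.Def_DualSh
import Groth.Agent.Lib.Helper23.FBCR7

/-!
# Flat base change for the algebraic upper shriek (helper23)

`shriekVia_flat_baseChange`: for `R → R'` flat, `R → A` of finite type, `A' = R' ⊗_R A` and `K ∈ D^+(R)`,
`(R → A)^!(K) ⊗_A A' ≅ (R' → A')^!(K ⊗_R R')`, each upper shriek being formed from an arbitrary presentation.
-/

set_option autoImplicit false
universe u
open CategoryTheory CategoryTheory.Limits DerivedCategory Pretriangulated TensorProduct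

attribute [local instance] HasDerivedCategory.standard

namespace Groth.Agent.Lib.helper23.FBCR

open Groth.Agent.Lib.helper23.FBC Groth.Agent.Lib.helper23.RAdj Groth.Agent.Lib.helper23.Kz

attribute [local instance] FlatBC.preservesFiniteLimits_extendScalars_algebraMap
attribute [local instance] MvPolynomial.algebraMvPolynomial
attribute [local instance] Algebra.TensorProduct.rightAlgebra

theorem shriekVia_flat_baseChange (R R' A : Type u) [CommRing R] [CommRing R'] [CommRing A]
    [IsNoetherianRing R] [IsNoetherianRing R'] [IsNoetherianRing A] [Algebra R R']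
    [Module.Flat R R'] [Algebra R A] [IsNoetherianRing (R' ⊗[R] A)] (n : ℕ)
    (ψ : MvPolynomial (Fin n) R →ₐ[R] A) (hψ : Function.Surjective ψ)
    [DRing.HasLBaseChange (algebraMap R (MvPolynomial (Fin n) R))]
    (Rψ : Dual.D (MvPolynomial (Fin n) R) ⥤ Dual.D A) (adj : DRing.restrictD ψ.toRingHom ⊣ Rψ)
    (m : ℕ) (ψ' : MvPolynomial (Fin m) R' →ₐ[R'] (R' ⊗[R] A)) (hψ' : Function.Surjective ψ')
    [DRing.HasLBaseChange (algebraMap R' (MvPolynomial (Fin m) R'))]
    (Rψ' : Dual.D (MvPolynomial (Fin m) R') ⥤ Dual.D (R' ⊗[R] A))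
    (adj' : DRing.restrictD ψ'.toRingHom ⊣ Rψ')
    [DRing.HasLBaseChange (Algebra.TensorProduct.includeRight : A →ₐ[R] R' ⊗[R] A).toRingHom]
    [DRing.HasLBaseChange (algebraMap R R')] (K : Dual.D R) (c : ℤ)
    (hK : ∀ i : ℤ, i < c → Subsingleton (Dual.HD R K i)) :
    Nonempty ((DRing.LBaseChange
        (Algebra.TensorProduct.includeRight : A →ₐ[R] R' ⊗[R] A).toRingHom).obj
        (Dual2.shriekVia n Rψ K) ≅
      Dual2.shriekVia m Rψ' ((DRing.LBaseChange (algebraMap R R')).obj K)) := by
  let A' := R' ⊗[R] A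
  let P := MvPolynomial (Fin n) R
  let P' := MvPolynomial (Fin n) R'
  letI algPA : Algebra P A := ψ.toRingHom.toAlgebra
  let ψ'' : P' →ₐ[R'] A' := MvPolynomial.aeval (fun i => (1 : R') ⊗ₜ[R] ψ (MvPolynomial.X i))
  letI algP'A' : Algebra P' A' := ψ''.toRingHom.toAlgebra
  letI algPA' : Algebra P A' := ((algebraMap A A').comp (algebraMap P A)).toAlgebra
  haveI t1 : IsScalarTower P A A' := IsScalarTower.of_algebraMap_eq (fun _ => rfl)
  have hcomm : (algebraMap A A').comp (algebraMap P A) = (algebraMap P' A').comp (algebraMap P P') := by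
    apply MvPolynomial.ringHom_ext
    · intro r
      show (1 : R') ⊗ₜ[R] ψ (MvPolynomial.C r) = ψ'' (MvPolynomial.map (algebraMap R R') (MvPolynomial.C r))
      rw [MvPolynomial.map_C]
      have h1 : ψ (MvPolynomial.C r) = algebraMap R A r := ψ.commutes r
      have h2 : ψ'' (MvPolynomial.C (algebraMap R R' r)) = algebraMap R' A' (algebraMap R R' r) :=
        ψ''.commutes _
      rw [h1, h2]
      have h3 : (1 : R') ⊗ₜ[R] (algebraMap R A r) = algebraMap R A' r :=
        (Algebra.TensorProduct.includeRight (R := R) (A := R') (B := A)).commutes r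
      rw [h3, ← IsScalarTower.algebraMap_apply]
    · intro i
      show (1 : R') ⊗ₜ[R] ψ (MvPolynomial.X i) = ψ'' (MvPolynomial.map (algebraMap R R') (MvPolynomial.X i))
      rw [MvPolynomial.map_X, MvPolynomial.aeval_X]
  haveI t2 : IsScalarTower P P' A' :=
    IsScalarTower.of_algebraMap_eq (fun x => congrArg (fun f : P →+* A' => f x) hcomm)
  haveI t3 : IsScalarTower R' P' A' :=
    IsScalarTower.of_algebraMap_eq (fun r => (ψ''.commutes r).symm)
  haveI t4 : IsScalarTower R P' A' := by
    refine IsScalarTower.of_algebraMap_eq (fun r => ?_)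
    rw [IsScalarTower.algebraMap_apply R R' A', IsScalarTower.algebraMap_apply R R' P',
      ← IsScalarTower.algebraMap_apply R' P' A']
  haveI t5 : IsScalarTower R P A := IsScalarTower.of_algebraMap_eq (fun r => (ψ.commutes r).symm)
  haveI hpo : Algebra.IsPushout P P' A A' := by
    have h0 : Algebra.IsPushout R A R' A' := inferInstance
    exact ((Algebra.IsPushout.comp_iff R P R' P' (T := A) (T' := A')).1 h0).symm
  haveI : Module.Flat P P' := Module.Flat.isBaseChange R P R' P'
    (Algebra.IsPushout.out (R := R) (S := P) (R' := R') (S' := P'))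
  haveI : Module.Flat A A' := Module.Flat.isBaseChange R A R' A'
    (Algebra.IsPushout.out (R := R) (S := A) (R' := R') (S' := A'))
  haveI : Module.Flat R P' := Module.Flat.trans R R' P'
  haveI : Module.Finite P A := Module.Finite.of_surjective (Algebra.linearMap P A) hψ
  -- surjectivity of the base-changed presentation
  have hψ'' : Function.Surjective ψ'' := by
    intro z
    induction z using TensorProduct.induction_on with
    | zero => exact ⟨0, map_zero _⟩
    | tmul r a =>
      obtain ⟨p, hp⟩ := hψ a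
      refine ⟨r • algebraMap P P' p, ?_⟩
      rw [map_smul]
      have h1 : ψ'' (algebraMap P P' p) = (1 : R') ⊗ₜ[R] ψ p :=
        (congrArg (fun f : P →+* A' => f p) hcomm).symm
      rw [h1, hp, TensorProduct.smul_tmul', smul_eq_mul, mul_one]
    | add x y hx hy =>
      obtain ⟨p, hp⟩ := hx
      obtain ⟨q, hq⟩ := hy
      exact ⟨p + q, by rw [map_add, hp, hq]⟩
  haveI hKc : K.IsGE c := isGE_of_subsingleton_HD K c hK
  let X₁ : Dual.D A := Dual2.shriekVia n Rψ K
  obtain ⟨ε1, u1⟩ := isUniv_shriekVia₀ n ψ Rψ adj K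
  let L : Dual.D P := ((EE R P).obj K)⟦(n : ℤ)⟧
  haveI : ((EE R P).obj K).IsGE c := isGE_EE P K c
  haveI : L.IsGE (c - n) :=
    (TStructure.t (C := ModuleCat.{u} P)).isGE_shift ((EE R P).obj K) c (n : ℤ) (c - n) (by omega)
  have u1' : IsUniv (DRing.restrictD (algebraMap P' A')) ((EE P P').obj L) ((EE A A').obj X₁)
      (ε' P' A' ε1) := isUniv_baseChange (P' := P') (B' := A') X₁ L (c - n) ε1 u1
  let K' : Dual.D R' := (DRing.LBaseChange (algebraMap R R')).obj K
  let i : (EE P P').obj L ≅ ((EE R' P').obj K')⟦(n : ℤ)⟧ :=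
    ((EE P P').commShiftIso (n : ℤ)).app ((EE R P).obj K) ≪≫
      (shiftFunctor (Dual.D P') (n : ℤ)).mapIso
        (((EEcompIso R P P').app K).symm ≪≫ (EEcompIso R R' P').app K ≪≫
          (EE R' P').mapIso ((FlatBC.lbcIso (algebraMap R R')).app K).symm)
  have u2 := u1'.of_iso_target i
  obtain ⟨Rψ'', ⟨adj''⟩⟩ := RHomEx.exists_rightAdjoint_restrictD ψ''.toRingHom
  haveI : DRing.HasLBaseChange (algebraMap R' (MvPolynomial (Fin n) R')) :=
    Groth.Agent.Lib.helper13.RKF.hasLBaseChange _
  obtain ⟨ε7, u7⟩ := isUniv_shriekVia₀ n ψ'' Rψ'' adj'' K'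
  obtain ⟨j1⟩ := u2.iso u7
  obtain ⟨j2⟩ := shriekVia_independent n ψ'' hψ'' Rψ'' adj'' m ψ' hψ' Rψ' adj' K'
  haveI : PreservesFiniteLimits (ModuleCat.extendScalars.{u, u, u}
      (Algebra.TensorProduct.includeRight : A →ₐ[R] R' ⊗[R] A).toRingHom) :=
    FlatBC.preservesFiniteLimits_extendScalars_algebraMap (A := A) (B := A')
  let j0 : (DRing.LBaseChange
        (Algebra.TensorProduct.includeRight : A →ₐ[R] R' ⊗[R] A).toRingHom).obj X₁ ≅
      (EE A A').obj X₁ :=
    (FlatBC.lbcIso (Algebra.TensorProduct.includeRight : A →ₐ[R] R' ⊗[R] A).toRingHom).app X₁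
  exact ⟨j0 ≪≫ j1 ≪≫ j2⟩

end Groth.Agent.Lib.helper23.FBCR
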