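import Mathlib
import Groth.Prelude.Def_Wider
import Groth.Prelude.Def_DDual2
import Groth.Agent.Lib.Helper23.GFA3
import Groth.Agent.Lib.Helper23.CxBid13
import Groth.Agent.Lib.Helper23.DShift

/-!
# Base change of dualizing complexes: one is enough (helper23)

`isDualizing_EE_of_exists`: for a flat map `A → B` of Noetherian rings, `B` of finite Krull
dimension: if the base change of ONE dualizing complex of `A` is dualizing for `B`, then the base
change of EVERY dualizing complex of `A` is dualizing for `B`. (Local uniqueness of dualizing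
complexes + the pointwise criterion.)
-/

set_option autoImplicit false
universe u
open CategoryTheory CategoryTheory.Limits DerivedCategory Pretriangulated TensorProduct

attribute [local instance] HasDerivedCategory.standard

namespace Groth.Agent.Lib.helper23.FieldBC

open Groth.Agent.Lib.helper23.FBC Groth.Agent.Lib.helper23.DimFn

attribute [local instance 50] homModuleA
attribute [local instance] FlatBC.preservesFiniteLimits_extendScalars_algebraMap
attribute [local instance] DimFn.flat_atPrime

variable {A B : Type u} [CommRing A] [CommRing B] [Algebra A B] [IsNoetherianRing A]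
  [IsNoetherianRing B] [Module.Flat A B]

theorem isDualizing_EE_of_exists (hdimB : ringKrullDim B < ⊤)
    (ω₀ : Dual.D A) (hω₀ : Dual.IsDualizing A ω₀)
    (h₀ : Dual.IsDualizing B ((EE A B).obj ω₀))
    (ω : Dual.D A) (hω : Dual.IsDualizing A ω) : Dual.IsDualizing B ((EE A B).obj ω) := by
  obtain ⟨a, b, hab, hGE, hLE, hv⟩ := exists_bounds ω hω
  haveI := hGE
  haveI : ((EE A B).obj ω).IsGE a := isGE_EE B ω a
  refine isDualizing_of_pointwise hdimB ((EE A B).obj ω) a
    (fun j => FlatBC.finite_homology_extD (algebraMap A B) ω j (hω.finite_cohomology j))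
    (fun q hq => ?_)
  let p : Ideal A := q.under A
  haveI : q.LiesOver p := ⟨rfl⟩
  let Ap := Localization.AtPrime p
  let Bq := Localization.AtPrime q
  letI algApBq : Algebra Ap Bq := Localization.AtPrime.algebraOfLiesOver p q
  haveI : IsNoetherianRing Ap :=
    IsLocalization.isNoetherianRing p.primeCompl Ap inferInstance
  haveI : IsNoetherianRing Bq :=
    IsLocalization.isNoetherianRing q.primeCompl Bq inferInstance
  haveI : Module.Flat A Bq := Module.Flat.trans A B Bq
  haveI : IsLocalizedModule p.primeCompl (LinearMap.id : Bq →ₗ[A] Bq) :=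
    isLocalizedModule_id p.primeCompl Bq Ap
  haveI : Module.Flat Ap Bq :=
    Module.Flat.of_isLocalizedModule (R := A) (M := Bq) Ap p.primeCompl (LinearMap.id)
  -- local uniqueness over `A_p`
  have h1 : Dual.IsDualizing Ap ((EE A Ap).obj ω₀) := isDualizing_EE_atPrime ω₀ hω₀ p
  have h2 : Dual.IsDualizing Ap ((EE A Ap).obj ω) := isDualizing_EE_atPrime ω hω p
  obtain ⟨n, ⟨e⟩⟩ := Groth.Agent.Lib.helper23.CxBid.exists_iso_shift_of_isDualizing_local Ap
    ((EE A Ap).obj ω₀) ((EE A Ap).obj ω) h1 h2
  -- `E(ω₀)_q` is dualizing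
  have h3 : Dual.IsDualizing Bq ((EE B Bq).obj ((EE A B).obj ω₀)) :=
    isDualizing_EE_atPrime _ h₀ q
  have h4 : Dual.IsDualizing Bq ((EE Ap Bq).obj ((EE A Ap).obj ω₀)) :=
    isDualizing_of_iso (((EEcompIso A B Bq).app ω₀).symm ≪≫ (EEcompIso A Ap Bq).app ω₀) h3
  have h5 : Dual.IsDualizing Bq ((EE Ap Bq).obj ((EE A Ap).obj ω)) :=
    isDualizing_of_iso ((EE Ap Bq).mapIso e ≪≫ EEshiftIso Bq _ n).symm
      (isDualizing_shift _ n h4)
  exact isDualizing_of_iso (((EEcompIso A Ap Bq).app ω).symm ≪≫ (EEcompIso A B Bq).app ω) h5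

end Groth.Agent.Lib.helper23.FieldBC
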