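import Mathlib
import Groth.Prelude.Def_Wider
import Groth.Prelude.Def_DDual2
import Groth.Agent.Lib.Helper23.RAdj5

/-!
# The triangle `RHom_A(A/f, ω) → ω → ω →` for a nonzerodivisor `f` (helper23, S8941)
-/

set_option autoImplicit false
universe u
open CategoryTheory CategoryTheory.Limits DerivedCategory Opposite Pretriangulated

attribute [local instance] HasDerivedCategory.standard

namespace Groth.Agent.Lib.helper23.RAdj

open Groth.Agent.Lib.helper23.DualD

variable {A : Type u} [CommRing A]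

lemma homCx_map_smul_id (I : CochainComplex (ModuleCat.{u} A) ℤ) (N : ModuleCat.{u} A) (a : A) :
    (homCx I).map (a • 𝟙 N).op = a • 𝟙 ((homCx I).obj (op N)) := by
  ext j φ
  show (a • 𝟙 N) ≫ φ = a • φ
  rw [Linear.smul_comp, Category.id_comp]
  rfl

variable (f : A)

/-- the quotient map `A → A/(f)` as a map of `A`-modules. -/
noncomputable def quotπ :
    ModuleCat.of A A ⟶ BA (Ideal.Quotient.mk (Ideal.span {f})) :=
  (ModuleCat.homEquiv (M := ModuleCat.of A A)
    (N := BA (Ideal.Quotient.mk (Ideal.span {f})))).symm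
    { toFun := fun a => Ideal.Quotient.mk (Ideal.span {f}) a
      map_add' := fun a b => map_add _ a b
      map_smul' := fun a b => by
        show Ideal.Quotient.mk (Ideal.span {f}) (a * b) = _
        rw [map_mul]
        rfl }

lemma quotπ_apply (a : A) : (quotπ f).hom a = Ideal.Quotient.mk (Ideal.span {f}) a := rfl

/-- the short complex `0 → A → A → A/(f) → 0`. -/
noncomputable def quotSC : ShortComplex (ModuleCat.{u} A) :=
  ShortComplex.mk (f • 𝟙 (ModuleCat.of A A)) (quotπ f) (by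
    apply ModuleCat.hom_ext
    apply LinearMap.ext
    intro (x : A)
    show Ideal.Quotient.mk (Ideal.span {f}) (f • (x : A)) = 0
    rw [Ideal.Quotient.eq_zero_iff_mem]
    exact Ideal.mem_span_singleton'.2 ⟨x, mul_comm _ _⟩)

lemma quotSC_shortExact (hf : f ∈ nonZeroDivisors A) : (quotSC f).ShortExact := by
  have hex : (quotSC f).Exact := by
    rw [ShortComplex.moduleCat_exact_iff]
    intro (x : A) hx
    have hx' : Ideal.Quotient.mk (Ideal.span {f}) x = 0 := hx
    rw [Ideal.Quotient.eq_zero_iff_mem] at hx'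
    obtain ⟨y, hy⟩ := Ideal.mem_span_singleton'.1 hx'
    refine ⟨y, ?_⟩
    show f • y = x
    rw [← hy, smul_eq_mul, mul_comm]
  haveI : Mono (quotSC f).f := by
    rw [ModuleCat.mono_iff_injective]
    intro (x : A) (y : A) hxy
    have h1 : f * x = f * y := hxy
    have h2 : (x - y) * f = 0 := by
      rw [sub_mul, mul_comm x f, mul_comm y f, h1, sub_self]
    have h3 := (mem_nonZeroDivisors_iff_right.1 hf) _ h2
    exact sub_eq_zero.1 h3
  haveI : Epi (quotSC f).g := by
    rw [ModuleCat.epi_iff_surjective]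
    intro y
    obtain ⟨x, hx⟩ := Ideal.Quotient.mk_surjective y
    exact ⟨x, hx⟩
  exact ⟨hex⟩

variable (R : Dual.D A ⥤ Dual.D (A ⧸ Ideal.span {f}))
  (adj : DRing.restrictD (Ideal.Quotient.mk (Ideal.span {f})) ⊣ R)

include adj in
/-- S8941. -/
theorem exists_triangle_quotient [IsNoetherianRing A] (ω : Dual.D A)
    (hω : Dual.IsDualizing A ω) (hf : f ∈ nonZeroDivisors A) :
    ∃ (u : (DRing.restrictD (Ideal.Quotient.mk (Ideal.span {f}))).obj (R.obj ω) ⟶ ω)
      (w : ω ⟶ ((DRing.restrictD (Ideal.Quotient.mk (Ideal.span {f}))).obj (R.obj ω))⟦(1 : ℤ)⟧),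
      Triangle.mk u (f • 𝟙 ω) w ∈ distTriang (Dual.D A) := by
  obtain ⟨M⟩ := exists_model ω hω
  haveI := M.isKInjective
  haveI := M.isStrictlyGE
  haveI := isKInjective_Gc (Ideal.Quotient.mk (Ideal.span {f})) M.I M.a
  obtain ⟨h, hT⟩ : ∃ h : Q.obj ((homCx M.I).obj (op (ModuleCat.of A A))) ⟶
      (Q.obj ((homCx M.I).obj (op (BA (Ideal.Quotient.mk (Ideal.span {f}))))))⟦(1 : ℤ)⟧,
      Triangle.mk (Q.map ((homCx M.I).map (quotπ f).op))
        (Q.map ((homCx M.I).map (f • 𝟙 (ModuleCat.of A A)).op)) h ∈ distTriang (Dual.D A) :=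
    (setup M.I).tri (quotSC f) (quotSC_shortExact f hf)
  let α := σ (Ideal.Quotient.mk (Ideal.span {f})) M.I R adj M.e
  let β : ω ≅ Q.obj ((homCx M.I).obj (op (ModuleCat.of A A))) :=
    M.e.symm ≪≫ (asIso (Q.map (evCx M.I (ModuleCat.of A A) (1 : A)))).symm
  have hDf : Q.map ((homCx M.I).map (f • 𝟙 (ModuleCat.of A A)).op) =
      f • 𝟙 (Q.obj ((homCx M.I).obj (op (ModuleCat.of A A)))) := by
    rw [homCx_map_smul_id, Functor.map_smul, CategoryTheory.Functor.map_id]
  refine ⟨α.hom ≫ Q.map ((homCx M.I).map (quotπ f).op) ≫ β.inv,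
    β.hom ≫ h ≫ α.inv⟦(1 : ℤ)⟧', ?_⟩
  refine isomorphic_distinguished _ hT _ (Triangle.isoMk _ _ α β β ?_ ?_ ?_)
  · show (α.hom ≫ Q.map ((homCx M.I).map (quotπ f).op) ≫ β.inv) ≫ β.hom =
      α.hom ≫ Q.map ((homCx M.I).map (quotπ f).op)
    rw [Category.assoc, Category.assoc, Iso.inv_hom_id, Category.comp_id]
  · show (f • 𝟙 ω) ≫ β.hom = β.hom ≫ Q.map ((homCx M.I).map (f • 𝟙 (ModuleCat.of A A)).op)
    rw [hDf, Linear.smul_comp, Linear.comp_smul, Category.id_comp, Category.comp_id]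
  · show (β.hom ≫ h ≫ α.inv⟦(1 : ℤ)⟧') ≫ α.hom⟦(1 : ℤ)⟧' = β.hom ≫ h
    rw [Category.assoc, Category.assoc, ← Functor.map_comp, Iso.inv_hom_id,
      CategoryTheory.Functor.map_id, Category.comp_id]

end Groth.Agent.Lib.helper23.RAdj
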