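import Mathlib
import Groth.Prelude.Def_Wider
import Groth.Prelude.Def_DDual2
import Groth.Agent.Lib.Helper23.RAdj7
import Groth.Agent.Lib.Helper23.FinLenDual3

/-!
# helper23: the triangle `RHom_A(A/I, ω) → ω → Hom_A(I, E)[0] →` for `I` of finite length (S8945)
-/

set_option autoImplicit false
universe u
open CategoryTheory CategoryTheory.Limits DerivedCategory Opposite Pretriangulated

attribute [local instance] HasDerivedCategory.standard

namespace Groth.Agent.Lib.helper23.FinLenDual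

open Groth.Agent.Lib.helper23.RAdj Groth.Agent.Lib.helper23.DualD

section SC

variable {A : Type u} [CommRing A] (I : Ideal A)

/-- the quotient map `A → A/I` as a map of `A`-modules. -/
noncomputable def quotπI :
    ModuleCat.of A A ⟶ BA (Ideal.Quotient.mk I) :=
  (ModuleCat.homEquiv (M := ModuleCat.of A A)
    (N := BA (Ideal.Quotient.mk I))).symm
    { toFun := fun a => Ideal.Quotient.mk I a
      map_add' := fun a b => map_add _ a b
      map_smul' := fun a b => by
        show Ideal.Quotient.mk I (a * b) = _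
        rw [map_mul]
        rfl }

lemma quotπI_apply (a : A) : (quotπI I).hom a = Ideal.Quotient.mk I a := rfl

/-- the inclusion `I → A` as a map of `A`-modules. -/
noncomputable def inclI : ModuleCat.of A I ⟶ ModuleCat.of A A :=
  ModuleCat.ofHom (Submodule.subtype I)

lemma inclI_apply (x : I) : (inclI I).hom x = (x : A) := rfl

/-- the short complex `0 → I → A → A/I → 0`. -/
noncomputable def quotSCI : ShortComplex (ModuleCat.{u} A) :=
  ShortComplex.mk (inclI I) (quotπI I) (by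
    apply ModuleCat.hom_ext
    apply LinearMap.ext
    intro (x : I)
    show Ideal.Quotient.mk I (x : A) = 0
    rw [Ideal.Quotient.eq_zero_iff_mem]
    exact x.2)

lemma quotSCI_shortExact : (quotSCI I).ShortExact := by
  have hex : (quotSCI I).Exact := by
    rw [ShortComplex.moduleCat_exact_iff]
    intro (x : A) hx
    have hx' : Ideal.Quotient.mk I x = 0 := hx
    rw [Ideal.Quotient.eq_zero_iff_mem] at hx'
    exact ⟨(⟨x, hx'⟩ : I), rfl⟩
  haveI : Mono (quotSCI I).f := by
    rw [ModuleCat.mono_iff_injective]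
    intro (x : I) (y : I) hxy
    exact Subtype.ext hxy
  haveI : Epi (quotSCI I).g := by
    rw [ModuleCat.epi_iff_surjective]
    intro y
    obtain ⟨x, hx⟩ := Ideal.Quotient.mk_surjective y
    exact ⟨x, hx⟩
  exact ⟨hex⟩

end SC

section Tri

variable {A : Type u} [CommRing A] [IsLocalRing A] [IsNoetherianRing A]

/-- `Q(Hom_A(N, I^•)) ≅ Hom_A(N, E)[0]` for `N` of finite length and `ω` normalized dualizing. -/
theorem nonempty_iso_single (ω : Dual.D A) (hω : Dual.IsDualizing A ω)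
    (hn : Dual.IsNormalized A ω) (E : Type u) [AddCommGroup E] [Module A E]
    (f : IsLocalRing.ResidueField A →ₗ[A] E) (hf : InjHull.IsInjectiveHull f)
    (N : Type u) [AddCommGroup N] [Module A N] (hN : IsFiniteLength A N) (M : Model ω) :
    Nonempty (Q.obj ((homCx M.I).obj (op (ModuleCat.of A N))) ≅ Dual.inD A (N →ₗ[A] E)) := by
  haveI := M.isKInjective
  obtain ⟨hvan, ⟨e0⟩⟩ := main ω hω hn E f hf N hN
  set Y : DerivedCategory (ModuleCat.{u} A) :=
    Q.obj ((homCx M.I).obj (op (ModuleCat.of A N))) with hY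
  have hz : ∀ j : ℤ, j ≠ 0 →
      IsZero ((DerivedCategory.homologyFunctor (ModuleCat.{u} A) j).obj Y) := by
    intro j hj
    haveI := hvan j hj
    haveI : Subsingleton
        ((DerivedCategory.homologyFunctor (ModuleCat.{u} A) j).obj Y) :=
      (homologyEquiv'' M.I (ModuleCat.of A N) j M.e).toEquiv.subsingleton
    exact ModuleCat.isZero_of_subsingleton _
  haveI : Y.IsGE 0 := by
    rw [DerivedCategory.isGE_iff]
    intro i hi
    exact hz i (by omega)
  haveI : Y.IsLE 0 := by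
    rw [DerivedCategory.isLE_iff]
    intro i hi
    exact hz i (by omega)
  obtain ⟨e1⟩ := exists_iso_single_homology Y 0
  let l : ((DerivedCategory.homologyFunctor (ModuleCat.{u} A) 0).obj Y) ≃ₗ[A] (N →ₗ[A] E) :=
    homologyEquiv'' M.I (ModuleCat.of A N) 0 M.e ≪≫ₗ
      Linear.homCongr A (Iso.refl _) ((shiftFunctorZero (Dual.D A) ℤ).app ω) ≪≫ₗ e0
  exact ⟨e1 ≪≫ (DerivedCategory.singleFunctor (ModuleCat.{u} A) 0).mapIso
    (l.toModuleIso (X₂ := ModuleCat.of A (N →ₗ[A] E)))⟩

variable (I : Ideal A) (R : Dual.D A ⥤ Dual.D (A ⧸ I))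
  (adj : DRing.restrictD (Ideal.Quotient.mk I) ⊣ R)

include adj in
/-- S8945. -/
theorem exists_triangle_quotient_finiteLength (ω : Dual.D A) (hω : Dual.IsDualizing A ω)
    (hn : Dual.IsNormalized A ω) (hIl : IsFiniteLength A I)
    (E : Type u) [AddCommGroup E] [Module A E]
    (e : IsLocalRing.ResidueField A →ₗ[A] E) (he : InjHull.IsInjectiveHull e) :
    ∃ (u : (DRing.restrictD (Ideal.Quotient.mk I)).obj (R.obj ω) ⟶ ω)
      (v : ω ⟶ Dual.inD A (I →ₗ[A] E))
      (w : Dual.inD A (I →ₗ[A] E) ⟶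
        ((DRing.restrictD (Ideal.Quotient.mk I)).obj (R.obj ω))⟦(1 : ℤ)⟧),
      Triangle.mk u v w ∈ distTriang (Dual.D A) := by
  obtain ⟨M⟩ := exists_model ω hω
  haveI := M.isKInjective
  haveI := M.isStrictlyGE
  haveI := isKInjective_Gc (Ideal.Quotient.mk I) M.I M.a
  obtain ⟨h, hT⟩ : ∃ h : Q.obj ((homCx M.I).obj (op (ModuleCat.of A I))) ⟶
      (Q.obj ((homCx M.I).obj (op (BA (Ideal.Quotient.mk I)))))⟦(1 : ℤ)⟧,
      Triangle.mk (Q.map ((homCx M.I).map (quotπI I).op))
        (Q.map ((homCx M.I).map (inclI I).op)) h ∈ distTriang (Dual.D A) :=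
    (setup M.I).tri (quotSCI I) (quotSCI_shortExact I)
  let α := σ (Ideal.Quotient.mk I) M.I R adj M.e
  let β : ω ≅ Q.obj ((homCx M.I).obj (op (ModuleCat.of A A))) :=
    M.e.symm ≪≫ (asIso (Q.map (evCx M.I (ModuleCat.of A A) (1 : A)))).symm
  obtain ⟨γ'⟩ := nonempty_iso_single ω hω hn E e he I hIl M
  let γ : Dual.inD A (I →ₗ[A] E) ≅ Q.obj ((homCx M.I).obj (op (ModuleCat.of A I))) := γ'.symm
  refine ⟨α.hom ≫ Q.map ((homCx M.I).map (quotπI I).op) ≫ β.inv,
    β.hom ≫ Q.map ((homCx M.I).map (inclI I).op) ≫ γ.inv,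
    γ.hom ≫ h ≫ α.inv⟦(1 : ℤ)⟧', ?_⟩
  refine isomorphic_distinguished _ hT _ (Triangle.isoMk _ _ α β γ ?_ ?_ ?_)
  · show (α.hom ≫ Q.map ((homCx M.I).map (quotπI I).op) ≫ β.inv) ≫ β.hom =
      α.hom ≫ Q.map ((homCx M.I).map (quotπI I).op)
    rw [Category.assoc, Category.assoc, Iso.inv_hom_id, Category.comp_id]
  · show (β.hom ≫ Q.map ((homCx M.I).map (inclI I).op) ≫ γ.inv) ≫ γ.hom =
      β.hom ≫ Q.map ((homCx M.I).map (inclI I).op)
    rw [Category.assoc, Category.assoc, Iso.inv_hom_id, Category.comp_id]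
  · show (γ.hom ≫ h ≫ α.inv⟦(1 : ℤ)⟧') ≫ α.hom⟦(1 : ℤ)⟧' = γ.hom ≫ h
    rw [Category.assoc, Category.assoc, ← Functor.map_comp, Iso.inv_hom_id,
      CategoryTheory.Functor.map_id, Category.comp_id]

end Tri

end Groth.Agent.Lib.helper23.FinLenDual
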