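import Mathlib

/-!
Descent of "geometrically P" along field extensions, and behaviour of the locus of
points with geometrically-P fibre under base change (helper23).
-/

universe u

open AlgebraicGeometry CategoryTheory Limits

namespace Groth.Agent.Lib.helper23

theorem surjective_of_field_target {K : Type u} [Field K] {T : Scheme.{u}} [Nonempty T]
    (c : T ⟶ Spec (.of K)) : Surjective c := by
  refine ⟨fun x => ?_⟩
  obtain ⟨t⟩ := (inferInstance : Nonempty T)
  exact ⟨t, Subsingleton.elim (α := PrimeSpectrum K) _ _⟩

/-- If `P` passes to images of surjections, then "geometrically `P`" over a field descends along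
field extensions. -/
theorem geometrically_descend (P : ObjectProperty Scheme.{u})
    (hP : ∀ {Z Z' : Scheme.{u}} (p : Z' ⟶ Z), Function.Surjective p → P Z' → P Z)
    {k k' : Type u} [Field k] [Field k'] {W W' : Scheme.{u}} (h : W ⟶ Spec (.of k))
    (h' : W' ⟶ Spec (.of k')) (a : W' ⟶ W) (b : Spec (.of k') ⟶ Spec (.of k))
    (sq : IsPullback a h' h b) (H : geometrically P h') : geometrically P h := by
  intro K _ y Z fst snd hZ
  have hb : Surjective b := surjective_of_field_target b
  have hs : Surjective (pullback.fst y b) := inferInstance
  obtain ⟨z, -⟩ := hs.surj (default : PrimeSpectrum K)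
  let T := pullback y b
  let L := T.residueField z
  let c : Spec (.of L) ⟶ Spec (.of K) := T.fromSpecResidueField z ≫ pullback.fst y b
  let c' : Spec (.of L) ⟶ Spec (.of k') := T.fromSpecResidueField z ≫ pullback.snd y b
  have hcc : c ≫ y = c' ≫ b := by
    simp only [c, c', Category.assoc, pullback.condition]
  have hc : Surjective c := surjective_of_field_target c
  have hp1 : Surjective (pullback.fst snd c) := inferInstance
  have h1 : IsPullback (pullback.fst snd c ≫ fst) (pullback.snd snd c) h (c ≫ y) :=
    (IsPullback.of_hasPullback snd c).paste_horiz hZ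
  rw [hcc] at h1
  have h2 : IsPullback (sq.lift (pullback.fst snd c ≫ fst) (pullback.snd snd c ≫ c') h1.w)
      (pullback.snd snd c) h' c' :=
    IsPullback.of_right (by simpa using h1) (by simp) sq
  have h3 : P (pullback snd c) := H c' _ _ h2
  exact hP (pullback.fst snd c) hp1.surj h3

end Groth.Agent.Lib.helper23
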