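import Mathlib
import Groth.Agent.Lib.Helper27.DerivedTrunc

set_option autoImplicit false
universe w v u
open CategoryTheory CategoryTheory.Limits DerivedCategory Pretriangulated

namespace Groth.Agent.Lib.helper23.GhostComp

variable {C : Type u} [Category.{v} C] [Abelian C] [HasDerivedCategory.{w} C]

theorem comp_eq_zero_of_ghost {K₁ K₂ K₃ : DerivedCategory C} (φ : K₁ ⟶ K₂) (ψ : K₂ ⟶ K₃)
    (n n' : ℤ) (hn : n' + 1 = n) [K₁.IsLE n] [K₃.IsGE n']
    (hφ : (homologyFunctor C n).map φ = 0) (hψ : (homologyFunctor C n').map ψ = 0) :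
    φ ≫ ψ = 0 := by
  let L := Q.objPreimage K₂
  let e : Q.obj L ≅ K₂ := Q.objObjPreimageIso K₂
  have hφ' : (homologyFunctor C n).map (φ ≫ e.inv) = 0 := by
    rw [Functor.map_comp, hφ, zero_comp]
  obtain ⟨φ', hφ''⟩ := Groth.Agent.Lib.helper27.factors_truncLE_of_ghost K₁ n n' hn L (φ ≫ e.inv) hφ'
  have h2 : Q.map (L.ιTruncLE n') ≫ e.hom ≫ ψ = 0 := by
    apply Groth.Agent.Lib.helper27.ghost_zero n'
    rw [Functor.map_comp, Functor.map_comp, hψ, comp_zero, comp_zero]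
  calc φ ≫ ψ = (φ ≫ e.inv) ≫ e.hom ≫ ψ := by simp
    _ = (φ' ≫ Q.map (L.ιTruncLE n')) ≫ e.hom ≫ ψ := by rw [hφ'']
    _ = 0 := by rw [Category.assoc, h2, comp_zero]

end Groth.Agent.Lib.helper23.GhostComp
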