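import Mathlib
import Groth.Prelude.Def_Wider
import Groth.Prelude.Def_DDual2
import Groth.Prelude.Def_CAlg
import Groth.Agent.Lib.Helper23.GorInv2
import Groth.Agent.Lib.Helper23.GorInv3
import Groth.Agent.Lib.Helper23.GorInv7
import Groth.Agent.Lib.Helper23.GorInv8
import Groth.Agent.Lib.Helper23.FBC9
import Groth.Agent.Lib.Helper23.FBC10
import Groth.Agent.S11179

/-!
# Dualizing complexes over Gorenstein local rings; openness of the Gorenstein locus (helper23)

* `exists_iso_shift_of_gorenstein_local`: over a Noetherian local ring `B` such that `B[0]` is dualizing,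
  every dualizing complex is a shift of `B[0]`.
* `isOpen_gorensteinLocus`: the Gorenstein locus of a Noetherian ring with a dualizing complex is open.
-/

set_option autoImplicit false
universe u
open CategoryTheory CategoryTheory.Limits DerivedCategory Pretriangulated

attribute [local instance] HasDerivedCategory.standard

namespace Groth.Agent.Lib.helper23.GorInv

theorem exists_iso_shift_of_gorenstein_local (B : Type u) [CommRing B] [IsLocalRing B]
    [IsNoetherianRing B] (ω : Dual.D B) (hω : Dual.IsDualizing B ω)
    (hB : Dual.IsDualizing B (Dual.inD B B)) :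
    ∃ t : ℤ, Nonempty (ω ≅ (Dual.inD B B)⟦t⟧) := by
  obtain ⟨a, b, -, -, hLE, -⟩ := FBC.exists_bounds ω hω
  haveI := hLE
  obtain ⟨Y, t₀, ⟨eY⟩, hv, hcyc⟩ := exists_residue_hom_data B ω hω hB
  exact ⟨t₀, nonempty_iso_shift_of_hom_residue ω b hω.finite_cohomology Y eY t₀ hv hcyc⟩

theorem isOpen_gorensteinLocus (A : Type u) [CommRing A] [IsNoetherianRing A] (ω : Dual.D A)
    (hω : Dual.IsDualizing A ω) :
    IsOpen {p : PrimeSpectrum A | LocCoh.IsGorensteinLocalRing (Localization.AtPrime p.asIdeal)} := by
  rw [isOpen_iff_forall_mem_open]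
  intro p hp
  haveI hL : ∀ f : A, DRing.HasLBaseChange (algebraMap A (Localization.Away f)) := fun f =>
    Groth.Agent.Lib.helper13.RKF.hasLBaseChange _
  have hloc : ∀ p' : PrimeSpectrum A,
      DRing.HasLBaseChange (algebraMap A (Localization.AtPrime p'.asIdeal)) := fun p' =>
    Groth.Agent.Lib.helper13.RKF.hasLBaseChange _
  have hdual : ∀ p' : PrimeSpectrum A,
      haveI := hloc p'
      Dual.IsDualizing (Localization.AtPrime p'.asIdeal)
        ((DRing.LBaseChange (algebraMap A (Localization.AtPrime p'.asIdeal))).obj ω) := fun p' =>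
    haveI := hloc p'
    FBC.isDualizing_LBaseChange_localization A p'.asIdeal.primeCompl ω hω
  haveI := hloc p
  let C := Localization.AtPrime p.asIdeal
  haveI : IsNoetherianRing C := IsLocalization.isNoetherianRing p.asIdeal.primeCompl C inferInstance
  have hC : Dual.IsDualizing C (Dual.inD C C) := (Groth.Agent.S11179.result C).1 hp
  obtain ⟨t, e⟩ := exists_iso_shift_of_gorenstein_local C _ (hdual p) hC
  obtain ⟨a, b, -, hGE, hLE, -⟩ := FBC.exists_bounds ω hω
  haveI := hGE
  haveI := hLE
  obtain ⟨f, hfp, ⟨e'⟩⟩ := exists_away_iso_of_atPrime ω a b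
    (fun i hi => by
      rcases hi with hi | hi
      · exact isZero_of_isGE ω a i hi
      · exact isZero_of_isLE ω b i hi) hω.finite_cohomology p.asIdeal t e
  refine ⟨PrimeSpectrum.basicOpen f, ?_, (PrimeSpectrum.basicOpen f).isOpen, hfp⟩
  intro p' hp'
  haveI := hloc p'
  let C' := Localization.AtPrime p'.asIdeal
  haveI : IsNoetherianRing C' :=
    IsLocalization.isNoetherianRing p'.asIdeal.primeCompl C' inferInstance
  have hf : IsUnit (algebraMap A C' f) :=
    IsLocalization.map_units C' (⟨f, hp'⟩ : p'.asIdeal.primeCompl)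
  exact (Groth.Agent.S11179.result C').2
    (isDualizing_self_of_away_iso_shift ω (algebraMap A C') (hdual p') f hf t e')

end Groth.Agent.Lib.helper23.GorInv
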