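import Mathlib
import Groth.Prelude.Def_DualSch
import Groth.Agent.Lib.Helper23.GorInv9
import Groth.Agent.Lib.Helper23.DualSch1
import Groth.Agent.Lib.Helper17.GorIso

/-!
# Openness of the Gorenstein locus of a scheme with a dualizing complex (helper23)
-/

set_option autoImplicit false
universe u
open CategoryTheory CategoryTheory.Limits AlgebraicGeometry

attribute [local instance] HasDerivedCategory.standard

namespace Groth.Agent.Lib.helper23.GorInv

variable {X : Scheme.{u}}
  [∀ (U : Scheme.{u}) (j : U ⟶ X) [IsOpenImmersion j],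
    PreservesFiniteLimits (Scheme.Modules.restrictFunctor j)]
  [∀ (R : CommRingCat.{u}), PreservesFiniteLimits (tilde.functor R)]

theorem isOpen_gorensteinLocus_sch (K : DCoh.D X) (hK : Dual2.IsDualizingSch X K) :
    IsOpen {x : X | LocCoh.IsGorensteinLocalRing (X.presheaf.stalk x)} := by
  have hchart : ∀ x : X, ∃ (R : CommRingCat.{u}) (j : Spec (CommRingCat.of R) ⟶ X)
      (_ : IsOpenImmersion j) (ωA : DerivedCategory (ModuleCat.{u} R)) (_ : Dual.IsDualizing R ωA)
      (y : PrimeSpectrum R), j y = x := by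
    intro x
    obtain ⟨y, hy⟩ := X.affineOpenCover.covers x
    have hji : IsOpenImmersion (X.affineOpenCover.f (X.affineOpenCover.idx x)) := inferInstance
    obtain ⟨ωA, hωA, -⟩ := @hK (X.affineOpenCover.X (X.affineOpenCover.idx x)) _
      (X.affineOpenCover.f (X.affineOpenCover.idx x)) hji
    exact ⟨X.affineOpenCover.X (X.affineOpenCover.idx x),
      X.affineOpenCover.f (X.affineOpenCover.idx x), hji, ωA, hωA, y, hy⟩
  rw [isOpen_iff_forall_mem_open]
  intro x hx
  obtain ⟨R, j, hj, ωA, hωA, y, rfl⟩ := hchart x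
  haveI : IsNoetherianRing R := hωA.isNoetherianRing
  have hopen := isOpen_gorensteinLocus R ωA hωA
  refine ⟨j '' {p : PrimeSpectrum R |
    LocCoh.IsGorensteinLocalRing (Localization.AtPrime p.asIdeal)}, ?_, ?_, ?_⟩
  · rintro _ ⟨y', hy', rfl⟩
    exact Groth.Agent.Lib.helper17.GorIso.isGorensteinLocalRing_of_ringEquiv
      (DualSch.stalkRingEquiv R j y') hy'
  · exact j.isOpenEmbedding.isOpenMap _ hopen
  · exact ⟨y, Groth.Agent.Lib.helper17.GorIso.isGorensteinLocalRing_of_ringEquiv
      (DualSch.stalkRingEquiv R j y).symm hx, rfl⟩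

end Groth.Agent.Lib.helper23.GorInv
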