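import Mathlib
import Groth.Prelude.Def_DRing2
import Groth.Prelude.Def_DDual2
import Groth.Agent.Lib.Helper23.InjAmp2

/-!
# helper23: injective amplitude (S6965), part 3
-/

set_option autoImplicit false
universe u
open CategoryTheory CategoryTheory.Limits Pretriangulated ZeroObject

attribute [local instance] HasDerivedCategory.standard

namespace Groth.Agent.Lib.helper23.InjAmp

variable {R : Type u} [CommRing R]

lemma exists_factor_of_subsingleton' (L : DRing.Cx R) [L.IsKInjective] (N : ModuleCat.{u} R)
    (i j k : ℤ) (hij : i + 1 = j) (hjk : j + 1 = k)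
    (h : Subsingleton ((DerivedCategory.singleFunctor (ModuleCat.{u} R) j).obj N ⟶
      DerivedCategory.Q.obj L))
    (φ : N ⟶ L.X j) (hφ : φ ≫ L.d j k = 0) :
    ∃ h' : N ⟶ L.X i, φ = h' ≫ L.d i j := by
  obtain rfl : i = j - 1 := by omega
  obtain rfl : k = j + 1 := by omega
  exact exists_factor_of_subsingleton L N j h φ hφ

theorem hasInjAmplitudeIn_of_hom_vanish (K : Dual.D R) (a b : ℤ)
    (h : ∀ (I : Ideal R) (i : ℤ), (i < a ∨ b < i) →
      Subsingleton ((DerivedCategory.singleFunctor (ModuleCat.{u} R) i).obj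
        (ModuleCat.of R (R ⧸ I)) ⟶ K)) :
    DRing.HasInjAmplitudeIn R a b K := by
  have hsub : ∀ (K' : DRing.Cx R) (e : DerivedCategory.Q.obj K' ≅ K) (I : Ideal R) (i : ℤ),
      (i < a ∨ b < i) → Subsingleton ((DerivedCategory.singleFunctor (ModuleCat.{u} R) i).obj
        (ModuleCat.of R (R ⧸ I)) ⟶ DerivedCategory.Q.obj K') := by
    intro K' e I i hi
    exact ⟨fun f g => by
      rw [← cancel_mono e.hom]
      exact (h I i hi).elim _ _⟩
  have hex : ∀ (K' : DRing.Cx R) (e : DerivedCategory.Q.obj K' ≅ K) (i : ℤ),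
      (i < a ∨ b < i) → K'.ExactAt i := by
    intro K' e i hi
    exact exactAt_of_subsingleton_hom K' i (hsub K' e ⊥ i hi)
  haveI : K.IsGE a := by
    let K' := DerivedCategory.Q.objPreimage K
    let e : DerivedCategory.Q.obj K' ≅ K := DerivedCategory.Q.objObjPreimageIso K
    haveI : K'.IsGE a := by
      rw [CochainComplex.isGE_iff]
      intro i hi
      exact hex K' e i (Or.inl hi)
    haveI : (DerivedCategory.Q.obj K').IsGE a := (DerivedCategory.isGE_Q_obj_iff K' a).2 inferInstance
    exact DerivedCategory.TStructure.t.isGE_of_iso e a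
  obtain ⟨K'', hK'', ⟨e⟩⟩ := DerivedCategory.exists_iso_Q_obj_of_isGE K a
  obtain ⟨L, ι, hι, hLinj, hLge⟩ :=
    CochainComplex.Plus.modelCategoryQuillen.exists_quasiIso_injective K'' a
  haveI := hι
  haveI := hLinj
  haveI := hLge
  haveI : L.IsKInjective := CochainComplex.isKInjective_of_injective L a
  let eL : DerivedCategory.Q.obj L ≅ K := (asIso (DerivedCategory.Q.map ι)).symm ≪≫ e.symm
  have hLex : ∀ i, (i < a ∨ b < i) → L.ExactAt i := hex L eL
  haveI : L.IsLE b := by
    rw [CochainComplex.isLE_iff]
    intro i hi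
    exact hLex i (Or.inr hi)
  haveI : QuasiIso (L.ιTruncLE b) := (L.quasiIso_ιTruncLE_iff b).2 inferInstance
  refine ⟨L.truncLE b, ?_, ?_, ⟨asIso (DerivedCategory.Q.map (L.ιTruncLE b)) ≪≫ eL⟩⟩
  · intro i hi
    rcases lt_trichotomy i b with hib | rfl | hib
    · have hia : i < a := by omega
      exact (CochainComplex.isZero_of_isStrictlyGE L a i hia).of_iso (L.truncLEXIso b i hib)
    · have hia : i < a := by omega
      refine IsZero.of_iso ?_ (L.truncLEXIsoCycles i)
      exact IsZero.of_mono (L.iCycles i) (CochainComplex.isZero_of_isStrictlyGE L a i hia)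
    · exact CochainComplex.isZero_of_isStrictlyLE (L.truncLE b) b i hib
  · intro i
    refine (Module.injective_iff_injective_object R ((L.truncLE b).X i)).2 ?_
    show Injective ((L.truncLE b).X i)
    rcases lt_trichotomy i b with hib | rfl | hib
    · exact Injective.of_iso (L.truncLEXIso b i hib).symm (hLinj i)
    · refine Injective.of_iso (L.truncLEXIsoCycles i).symm ?_
      let eC : L.cycles i ≅ ModuleCat.of R (LinearMap.ker (L.d i (i + 1)).hom) :=
        IsLimit.conePointUniqueUpToIso (L.cyclesIsKernel i (i + 1) (by simp))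
          (ModuleCat.kernelIsLimit (L.d i (i + 1)))
      refine Injective.of_iso eC.symm ?_
      have hB : Module.Baer R (LinearMap.ker (L.d i (i + 1)).hom) := by
        refine injective_ker_of_lifts
          (Module.Baer.of_injective (Module.injective_module_of_injective_object R (L.X i)))
          (L.d i (i + 1)).hom (L.d (i + 1) (i + 2)).hom ?_ ?_
        · rw [← ModuleCat.hom_comp, L.d_comp_d]
          rfl
        · intro I φ hφ
          obtain ⟨h', hh'⟩ := exists_factor_of_subsingleton' L (ModuleCat.of R (R ⧸ I))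
            i (i + 1) (i + 2) rfl (by omega) (hsub L eL I (i + 1) (Or.inr (by omega)))
            (ModuleCat.ofHom φ) (by
              apply ModuleCat.hom_ext
              rw [ModuleCat.hom_comp]
              exact hφ)
          refine ⟨h'.hom, ?_⟩
          have := congrArg ModuleCat.Hom.hom hh'
          rw [ModuleCat.hom_comp] at this
          exact this
      haveI := Module.Baer.injective hB
      exact Module.injective_object_of_injective_module R _
    · exact (CochainComplex.isZero_of_isStrictlyLE (L.truncLE b) b i hib).injective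

theorem injectiveAmplitude_tfae (K : Dual.D R) (a b : ℤ) :
    [DRing.HasInjAmplitudeIn R a b K,
      ∀ (N : Type u) [AddCommGroup N] [Module R N] (i : ℤ), (i < a ∨ b < i) →
        Subsingleton (DRing.ExtD R (Dual.inD R N) K i),
      ∀ (I : Ideal R) (i : ℤ), (i < a ∨ b < i) →
        Subsingleton (DRing.ExtD R (Dual.inD R (R ⧸ I)) K i)].TFAE := by
  tfae_have 1 → 2 := by
    rintro ⟨E, hz, hinj, ⟨e⟩⟩ N _ _ i hi
    show Subsingleton ((DerivedCategory.singleFunctor (ModuleCat.{u} R) 0).obj (ModuleCat.of R N) ⟶
      K⟦i⟧)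
    rw [subsingleton_extD_iff]
    have h1 := subsingleton_hom_single_of_injective E a b hz hinj (ModuleCat.of R N) i hi
    exact ⟨fun f g => by
      rw [← cancel_mono e.inv]
      exact h1.elim _ _⟩
  tfae_have 2 → 3 := fun h I i hi => h (R ⧸ I) i hi
  tfae_have 3 → 1 := by
    intro h
    apply hasInjAmplitudeIn_of_hom_vanish
    intro I i hi
    rw [← subsingleton_extD_iff]
    exact h I i hi
  tfae_finish

end Groth.Agent.Lib.helper23.InjAmp
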