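import Mathlib
import Groth.Agent.Lib.Helper23.InjAmpG2

/-!
# helper23: injective amplitude in a general abelian category, part 3 (S11153)
-/

set_option autoImplicit false
universe w v u
open CategoryTheory CategoryTheory.Limits Pretriangulated ZeroObject

namespace Groth.Agent.Lib.helper23.InjAmpG

variable {C : Type u} [Category.{v} C] [Abelian C] [HasDerivedCategory.{w} C] [EnoughInjectives C]

theorem exists_quasiIso_bounded_injective_iff (K : CochainComplex C ℤ) (a : ℤ) [K.IsStrictlyGE a] :
    (∃ (I : CochainComplex C ℤ) (b c : ℤ) (f : K ⟶ I), I.IsStrictlyGE b ∧ I.IsStrictlyLE c ∧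
        (∀ n : ℤ, Injective (I.X n)) ∧ QuasiIso f) ↔
      ∃ n₀ : ℤ, ∀ (Y : C) (i : ℤ), n₀ < i →
        ∀ φ : (DerivedCategory.singleFunctor C 0).obj Y ⟶ (DerivedCategory.Q.obj K)⟦i⟧, φ = 0 := by
  constructor
  · rintro ⟨I, b, c, f, hIb, hIc, hIinj, hf⟩
    refine ⟨c, fun Y i hi => (hom_shift_zero_iff Y _ i).2 (fun φ => ?_)⟩
    have h1 := hom_single_zero_of_injective I b Y i
      (CochainComplex.isZero_of_isStrictlyLE I c i hi) (φ ≫ DerivedCategory.Q.map f)
    exact (cancel_mono (DerivedCategory.Q.map f)).1 (by rw [h1, zero_comp])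
  · rintro ⟨n₀, h⟩
    let c : ℤ := max n₀ a
    have hca : a ≤ c := le_max_right _ _
    have hcn : n₀ ≤ c := le_max_left _ _
    obtain ⟨L, ι, hι, hLinj, hLge⟩ :=
      CochainComplex.Plus.modelCategoryQuillen.exists_quasiIso_injective K a
    haveI := hι
    haveI := hLinj
    haveI := hLge
    haveI : L.IsKInjective := CochainComplex.isKInjective_of_injective L a
    have hsub : ∀ (F : C) (i : ℤ), c < i →
        ∀ φ : (DerivedCategory.singleFunctor C i).obj F ⟶ DerivedCategory.Q.obj L, φ = 0 := by
      intro F i hi φ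
      have h1 := (hom_shift_zero_iff F (DerivedCategory.Q.obj K) i).1 (h F i (by omega))
        (φ ≫ inv (DerivedCategory.Q.map ι))
      exact (cancel_mono (inv (DerivedCategory.Q.map ι))).1 (by rw [h1, zero_comp])
    haveI : L.IsLE c := by
      rw [CochainComplex.isLE_iff]
      intro i hi
      exact exactAt_of_hom_zero L i (hsub _ i hi)
    haveI : QuasiIso (L.ιTruncLE c) := (L.quasiIso_ιTruncLE_iff c).2 inferInstance
    have hIinj : ∀ n : ℤ, Injective ((L.truncLE c).X n) := by
      intro i
      rcases lt_trichotomy i c with hib | hib | hib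
      · exact Injective.of_iso (L.truncLEXIso c i hib).symm (hLinj i)
      · subst hib
        refine Injective.of_iso (L.truncLEXIsoCycles _).symm ?_
        exact injective_cycles L _ (hsub _ _ (by omega))
      · exact (CochainComplex.isZero_of_isStrictlyLE (L.truncLE c) c i hib).injective
    haveI : (L.truncLE c).IsStrictlyGE a := by
      rw [CochainComplex.isStrictlyGE_iff]
      intro i hi
      exact (CochainComplex.isZero_of_isStrictlyGE L a i hi).of_iso
        (L.truncLEXIso c i (by omega))
    haveI : (L.truncLE c).IsKInjective := CochainComplex.isKInjective_of_injective _ a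
    obtain ⟨e, he⟩ := (CochainComplex.IsKInjective.quasiIso_iff (L.ιTruncLE c)).1 inferInstance
    exact ⟨L.truncLE c, a, c, ι ≫ e.inv, inferInstance, inferInstance, hIinj, inferInstance⟩

end Groth.Agent.Lib.helper23.InjAmpG
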