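import Mathlib
import Groth.Prelude.Def_DRing2
import Groth.Agent.Lib.Helper23.Devissage
import Groth.Agent.Lib.Helper23.PerfCone

set_option autoImplicit false
universe u
open CategoryTheory CategoryTheory.Limits Pretriangulated ZeroObject DerivedCategory
open CochainComplex

attribute [local instance] HasDerivedCategory.standard

namespace Groth.Agent.Lib.helper23.InjDev

open Groth.Agent.Lib.helper23.PerfCone

variable (R : Type u) [CommRing R]

/-- the third vertex of a distinguished triangle whose first two vertices are represented by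
complexes, the second one K-injective, is represented by a mapping cone. -/
theorem exists_cone_rep_inj (E₁ E₂ : CochainComplex (ModuleCat.{u} R) ℤ) [E₂.IsKInjective]
    (T : Triangle (DerivedCategory (ModuleCat.{u} R))) (hT : T ∈ distTriang _)
    (e₁ : Q.obj E₁ ≅ T.obj₁) (e₂ : Q.obj E₂ ≅ T.obj₂) :
    ∃ f : E₁ ⟶ E₂, Nonempty (Q.obj (mappingCone f) ≅ T.obj₃) := by
  obtain ⟨φ, hφ⟩ := (CochainComplex.IsKInjective.Qh_map_bijective
    ((HomotopyCategory.quotient _ _).obj E₁) E₂).2 (e₁.hom ≫ T.mor₁ ≫ e₂.inv)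
  obtain ⟨f, rfl⟩ := (HomotopyCategory.quotient _ _).map_surjective φ
  have hf : Q.map f = e₁.hom ≫ T.mor₁ ≫ e₂.inv := hφ
  refine ⟨f, ?_⟩
  have hT₂ := mappingCone_triangle_distinguished f
  have iso := isoTriangleOfIso₁₂ _ _ hT₂ hT e₁ e₂ (by
    show Q.map f ≫ e₂.hom = e₁.hom ≫ T.mor₁
    rw [hf, Category.assoc, Category.assoc, Iso.inv_hom_id, Category.comp_id])
  exact ⟨Triangle.π₃.mapIso iso⟩

lemma hasFiniteInjDim_of_iso {X Y : Dual.D R} (e : X ≅ Y) (h : DRing.HasFiniteInjDim R X) :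
    DRing.HasFiniteInjDim R Y := by
  obtain ⟨a, b, E, hV, hP, ⟨e'⟩⟩ := h
  exact ⟨a, b, E, hV, hP, ⟨e' ≪≫ e⟩⟩

lemma hasFiniteInjDim_of_isZero {X : Dual.D R} (h : IsZero X) : DRing.HasFiniteInjDim R X := by
  have h0 : IsZero (0 : CochainComplex (ModuleCat.{u} R) ℤ) := Limits.isZero_zero _
  have h0i : ∀ i, IsZero ((0 : CochainComplex (ModuleCat.{u} R) ℤ).X i) := fun i =>
    (HomologicalComplex.eval (ModuleCat.{u} R) (ComplexShape.up ℤ) i).map_isZero h0
  refine ⟨0, 0, (0 : CochainComplex (ModuleCat.{u} R) ℤ), fun i _ => h0i i, fun i => ?_, ⟨?_⟩⟩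
  · rw [Module.injective_iff_injective_object]
    exact Injective.of_iso (h0i i).isoZero.symm inferInstance
  · have hz : IsZero (DRing.toD (0 : CochainComplex (ModuleCat.{u} R) ℤ)) :=
      DerivedCategory.Q.map_isZero h0
    exact hz.iso h

lemma hasFiniteInjDim_shift (X : Dual.D R) (n : ℤ) (h : DRing.HasFiniteInjDim R X) :
    DRing.HasFiniteInjDim R (X⟦n⟧) := by
  obtain ⟨a, b, E, h1, h2, ⟨e'⟩⟩ := h
  refine ⟨a - n, b - n, E⟦n⟧, ?_, ?_, ⟨(Q.commShiftIso n).app E ≪≫
    (CategoryTheory.shiftFunctor (DerivedCategory (ModuleCat.{u} R)) n).mapIso e'⟩⟩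
  · intro i hi
    show IsZero (E.X (i + n))
    refine h1 (i + n) ?_
    rcases hi with hi | hi
    · exact Or.inl (by omega)
    · exact Or.inr (by omega)
  · intro i
    exact h2 (i + n)

theorem hasFiniteInjDim_cone
    (T : Triangle (DerivedCategory (ModuleCat.{u} R))) (hT : T ∈ distTriang _)
    (h1 : DRing.HasFiniteInjDim R T.obj₁) (h2 : DRing.HasFiniteInjDim R T.obj₂) :
    DRing.HasFiniteInjDim R T.obj₃ := by
  obtain ⟨a₁, b₁, E₁, hz₁, hP₁, ⟨e₁⟩⟩ := h1
  obtain ⟨a₂, b₂, E₂, hz₂, hP₂, ⟨e₂⟩⟩ := h2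
  haveI : E₂.IsStrictlyGE a₂ :=
    (CochainComplex.isStrictlyGE_iff _ _).2 (fun i hi => hz₂ i (Or.inl hi))
  haveI : ∀ n, Injective (E₂.X n) := fun n =>
    (Module.injective_iff_injective_object R (E₂.X n)).1 (hP₂ n)
  haveI : E₂.IsKInjective := CochainComplex.isKInjective_of_injective E₂ a₂
  obtain ⟨f, ⟨e₃⟩⟩ := exists_cone_rep_inj R E₁ E₂ T hT e₁ e₂
  refine ⟨min (a₁ - 1) a₂, max (b₁ - 1) b₂, mappingCone f, ?_, ?_, ⟨e₃⟩⟩
  · intro i hi
    refine HomologicalComplex.homotopyCofiber.isZero_X f i ?_ ?_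
    · refine hz₂ i ?_
      rcases hi with hi | hi
      · exact Or.inl (lt_of_lt_of_le hi (min_le_right _ _))
      · exact Or.inr (lt_of_le_of_lt (le_max_right _ _) hi)
    · intro j hj
      simp only [ComplexShape.up_Rel] at hj
      refine hz₁ j ?_
      rcases hi with hi | hi
      · exact Or.inl (by have := min_le_left (a₁ - 1) a₂; omega)
      · exact Or.inr (by have := le_max_left (b₁ - 1) b₂; omega)
  · intro i
    rw [Module.injective_iff_injective_object]
    haveI : Injective (E₁.X (i + 1)) :=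
      (Module.injective_iff_injective_object R (E₁.X (i + 1))).1 (hP₁ (i + 1))
    exact Injective.of_iso
      (HomologicalComplex.homotopyCofiber.XIsoBiprod f i (i + 1) (by simp)).symm inferInstance

theorem hasFiniteInjDim_ext
    (T : Triangle (DerivedCategory (ModuleCat.{u} R))) (hT : T ∈ distTriang _)
    (h1 : DRing.HasFiniteInjDim R T.obj₁) (h3 : DRing.HasFiniteInjDim R T.obj₃) :
    DRing.HasFiniteInjDim R T.obj₂ :=
  hasFiniteInjDim_cone R T.invRotate (inv_rot_of_distTriang _ hT)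
    (hasFiniteInjDim_shift R _ (-1) h3) h1

/-- S7036 (2). -/
theorem hasFiniteInjDim_of_terms (K : DRing.Cx R) (a b : ℤ) (hab : DRing.VanishesOutside K a b)
    (hK : ∀ i : ℤ, DRing.HasFiniteInjDim R
      ((DerivedCategory.singleFunctor (ModuleCat.{u} R) 0).obj (K.X i))) :
    DRing.HasFiniteInjDim R (DRing.toD K) := by
  refine Devissage.devissage_terms (DRing.HasFiniteInjDim R)
    (fun X Y e h => hasFiniteInjDim_of_iso R e h)
    (fun X h => hasFiniteInjDim_of_isZero R h) (hasFiniteInjDim_shift R)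
    (fun T hT => hasFiniteInjDim_ext R T hT) (b - a + 1).toNat b K
    (fun i hi => hab i (Or.inr hi)) (fun i hi => hab i (Or.inl ?_)) hK
  have := Int.self_le_toNat (b - a + 1)
  omega

/-- S7036 (1). -/
theorem hasFiniteInjDim_of_homology (K : Dual.D R) (a b : ℤ)
    (hab : ∀ i : ℤ, (i < a ∨ b < i) →
      IsZero ((DerivedCategory.homologyFunctor (ModuleCat.{u} R) i).obj K))
    (hK : ∀ i : ℤ, DRing.HasFiniteInjDim R
      ((DerivedCategory.singleFunctor (ModuleCat.{u} R) 0).obj
        ((DerivedCategory.homologyFunctor (ModuleCat.{u} R) i).obj K))) :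
    DRing.HasFiniteInjDim R K := by
  refine Devissage.devissage_homology (DRing.HasFiniteInjDim R)
    (fun X Y e h => hasFiniteInjDim_of_iso R e h)
    (fun X h => hasFiniteInjDim_of_isZero R h) (hasFiniteInjDim_shift R)
    (fun T hT => hasFiniteInjDim_ext R T hT) (b - a + 1).toNat b K
    (fun i hi => hab i (Or.inr hi)) (fun i hi => hab i (Or.inl ?_)) hK
  have := Int.self_le_toNat (b - a + 1)
  omega

end Groth.Agent.Lib.helper23.InjDev
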