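import Mathlib
import Groth.Agent.Lib.Helper23.JH3

/-!
# Jordan–Hölder infrastructure IV: finite length ↔ artinian + noetherian
-/

set_option autoImplicit false
universe v u

open CategoryTheory CategoryTheory.Limits

namespace Groth.Agent.Lib.helper23.JH

section Order

variable {L : Type*} [Lattice L] [IsModularLattice L]

/-- the strictly monotone map `w ↦ (w ⊓ a, w ⊔ a)` on `Iic b` for `a ≤ b`. -/
def splitMap {a b : L} (hab : a ≤ b) (w : Set.Iic b) : Set.Iic a × Set.Icc a b :=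
  (⟨w.1 ⊓ a, inf_le_right⟩, ⟨w.1 ⊔ a, le_sup_right, sup_le w.2 hab⟩)

lemma strictMono_splitMap {a b : L} (hab : a ≤ b) : StrictMono (splitMap hab) := by
  intro w w' h
  have h' : (w.1 ⊓ a, w.1 ⊔ a) < (w'.1 ⊓ a, w'.1 ⊔ a) :=
    strictMono_inf_prod_sup (z := a) (show w.1 < w'.1 from h)
  exact h'

lemma finite_Icc_of_covBy {a b : L} (hab : a ⋖ b) : Finite (Set.Icc a b) := by
  rw [hab.Icc_eq]
  exact Set.finite_coe_iff.2 (Set.toFinite _)

lemma wellFoundedLT_Iic_of_covBy {a b : L} (hab : a ⋖ b) [WellFoundedLT (Set.Iic a)] :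
    WellFoundedLT (Set.Iic b) := by
  haveI := finite_Icc_of_covBy hab
  exact (strictMono_splitMap hab.le).wellFoundedLT

lemma wellFoundedGT_Iic_of_covBy {a b : L} (hab : a ⋖ b) [WellFoundedGT (Set.Iic a)] :
    WellFoundedGT (Set.Iic b) := by
  haveI := finite_Icc_of_covBy hab
  exact (strictMono_splitMap hab.le).wellFoundedGT

variable [BoundedOrder L]

lemma wellFounded_of_chain (n : ℕ) (F : Fin (n + 1) → L) (hF0 : F 0 = ⊥)
    (hFn : F (Fin.last n) = ⊤) (hc : ∀ i : Fin n, F (Fin.castSucc i) ⋖ F (Fin.succ i)) :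
    WellFoundedLT L ∧ WellFoundedGT L := by
  have key : ∀ i : Fin (n + 1), WellFoundedLT (Set.Iic (F i)) ∧ WellFoundedGT (Set.Iic (F i)) := by
    intro i
    induction i using Fin.induction with
    | zero =>
      rw [hF0]
      haveI : Finite (Set.Iic (⊥ : L)) := by
        rw [Set.Iic_bot]
        exact Set.finite_coe_iff.2 (Set.toFinite _)
      exact ⟨inferInstance, inferInstance⟩
    | succ i ih =>
      obtain ⟨h1, h2⟩ := ih
      exact ⟨wellFoundedLT_Iic_of_covBy (hc i), wellFoundedGT_Iic_of_covBy (hc i)⟩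
  obtain ⟨h1, h2⟩ := key (Fin.last n)
  rw [hFn] at h1 h2
  have hm : StrictMono (fun w : L => (⟨w, le_top⟩ : Set.Iic (⊤ : L))) := fun _ _ h => h
  exact ⟨hm.wellFoundedLT, hm.wellFoundedGT⟩

end Order

section Order2

variable {L : Type*} [PartialOrder L] [BoundedOrder L]

lemma exists_chain_of_wellFounded [WellFoundedLT L] [WellFoundedGT L] :
    ∃ (n : ℕ) (F : Fin (n + 1) → L), F 0 = ⊥ ∧ F (Fin.last n) = ⊤ ∧
      ∀ i : Fin n, F (Fin.castSucc i) ⋖ F (Fin.succ i) := by
  let S : Set L := {z | ∃ s : RelSeries {(a, b) : L × L | a ⋖ b}, s.head = ⊥ ∧ s.last = z}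
  have hS : S.Nonempty := ⟨⊥, RelSeries.singleton _ ⊥, rfl, rfl⟩
  obtain ⟨z, hzS, hzmax⟩ := WellFounded.has_min (wellFounded_gt (α := L)) S hS
  obtain ⟨s, hs0, hsz⟩ := hzS
  by_cases hz : z = ⊤
  · subst hz
    exact ⟨s.length, s.toFun, hs0, hsz, fun i => s.step i⟩
  · exfalso
    have hT : {w : L | z < w}.Nonempty := ⟨⊤, lt_top_iff_ne_top.2 hz⟩
    obtain ⟨w, hzw, hwmin⟩ := WellFounded.has_min (wellFounded_lt (α := L)) _ hT
    have hcov : z ⋖ w := ⟨hzw, fun c hzc hcw => hwmin c hzc hcw⟩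
    have hwS : w ∈ S := ⟨s.snoc w (by rw [hsz]; exact hcov), by simp [hs0], by simp⟩
    exact hzmax w hwS hzw

end Order2

variable {C : Type u} [Category.{v} C] [Abelian C]

/-- An object of an abelian category is artinian and noetherian iff it has a finite filtration
with simple quotients. -/
theorem finiteLength_iff (X : C) :
    (IsArtinianObject X ∧ IsNoetherianObject X) ↔
      ∃ (n : ℕ) (F : Fin (n + 1) → Subobject X) (hF : Monotone F), F 0 = ⊥ ∧
        F (Fin.last n) = ⊤ ∧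
        ∀ i : Fin n, Simple (cokernel (Subobject.ofLE (F (Fin.castSucc i)) (F (Fin.succ i))
          (hF (Fin.castSucc_lt_succ (i := i)).le))) := by
  constructor
  · rintro ⟨hA, hN⟩
    obtain ⟨n, F, hF0, hFn, hc⟩ := exists_chain_of_wellFounded (L := Subobject X)
    have hF : Monotone F := Fin.monotone_iff_le_succ.2 fun i => (hc i).le
    exact ⟨n, F, hF, hF0, hFn, fun i => (simple_cokernel_ofLE_iff _).2 (hc i)⟩
  · rintro ⟨n, F, hF, hF0, hFn, hs⟩
    obtain ⟨h1, h2⟩ := wellFounded_of_chain n F hF0 hFn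
      (fun i => (simple_cokernel_ofLE_iff _).1 (hs i))
    exact ⟨⟨h1⟩, ⟨h2⟩⟩

end Groth.Agent.Lib.helper23.JH
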