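import Mathlib
import Groth.Agent.Lib.Helper23.JH4

/-!
# Jordan–Hölder infrastructure V: induction principle for finite length objects
-/

set_option autoImplicit false
universe v u

open CategoryTheory CategoryTheory.Limits ZeroObject

namespace Groth.Agent.Lib.helper23.JH

variable {C : Type u} [Category.{v} C] [Abelian C]

lemma shortExact_ofLE {X : C} {x y : Subobject X} (h : x ≤ y) :
    (ShortComplex.mk (Subobject.ofLE x y h) (cokernel.π (Subobject.ofLE x y h))
      (cokernel.condition _)).ShortExact :=
  { exact := ShortComplex.exact_cokernel _
    mono_f := by dsimp; infer_instance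
    epi_g := by dsimp; infer_instance }

/-- Induction principle for objects of finite length: a property which holds for zero objects and
simple objects and is stable under extensions holds for every artinian and noetherian object. -/
theorem finiteLength_induction (P : C → Prop) (h0 : ∀ Z : C, IsZero Z → P Z)
    (hsimple : ∀ S : C, Simple S → P S)
    (hext : ∀ S : ShortComplex C, S.ShortExact → P S.X₁ → P S.X₃ → P S.X₂)
    (X : C) (hA : IsArtinianObject X) (hN : IsNoetherianObject X) : P X := by
  obtain ⟨n, F, hF, hF0, hFn, hs⟩ := (finiteLength_iff X).1 ⟨hA, hN⟩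
  have key : ∀ i : Fin (n + 1), P (F i : C) := by
    intro i
    induction i using Fin.induction with
    | zero =>
      apply h0
      rw [hF0]
      exact IsZero.of_iso (isZero_zero C) Subobject.botCoeIsoZero
    | succ i ih =>
      exact hext _ (shortExact_ofLE (hF (Fin.castSucc_lt_succ (i := i)).le)) ih (hsimple _ (hs i))
  have h1 := key (Fin.last n)
  rw [hFn] at h1
  have hse : (ShortComplex.mk (⊤ : Subobject X).arrow (0 : X ⟶ 0) comp_zero).ShortExact :=
    { exact := (ShortComplex.exact_iff_epi _ rfl).2 (by dsimp; infer_instance)
      mono_f := by dsimp; infer_instance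
      epi_g := by dsimp; exact (isZero_zero C).epi _ }
  exact hext _ hse h1 (h0 _ (isZero_zero C))

end Groth.Agent.Lib.helper23.JH
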