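import Mathlib
import Groth.Agent.Lib.Helper23.JH5

/-!
# Counit of a fully faithful exact functor from a finite length category is mono
-/

set_option autoImplicit false
universe v u v' u'

open CategoryTheory CategoryTheory.Limits

namespace Groth.Agent.Lib.helper23.JH

variable {A : Type u} [Category.{v} A] [Abelian A] {B : Type u'} [Category.{v'} B] [Abelian B]

/-- every nonzero subobject of `u Z` receives a nonzero map from the image of `u`. -/
def HasImageMaps (u : A ⥤ B) (Z : A) : Prop :=
  ∀ (K : B) (k : K ⟶ u.obj Z), Mono k → ¬ IsZero K → ∃ (W : A) (f : u.obj W ⟶ K), f ≠ 0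

theorem hasImageMaps (u : A ⥤ B) [PreservesFiniteLimits u] [PreservesFiniteColimits u]
    (hlen : ∀ X : A, IsArtinianObject X ∧ IsNoetherianObject X)
    (hsimple : ∀ X : A, Simple X → Simple (u.obj X)) (Z : A) : HasImageMaps u Z := by
  haveI : u.Additive := Functor.additive_of_preserves_binary_products u
  refine finiteLength_induction (HasImageMaps u) ?_ ?_ ?_ Z (hlen Z).1 (hlen Z).2
  · intro Z hZ K k hk hK
    exfalso
    apply hK
    have hz : IsZero (u.obj Z) := u.map_isZero hZ
    rw [IsZero.iff_id_eq_zero, ← cancel_mono k]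
    exact hz.eq_of_tgt _ _
  · intro S hS K k hk hK
    haveI := hsimple S hS
    have hk0 : k ≠ 0 := by
      rintro rfl
      apply hK
      rw [IsZero.iff_id_eq_zero, ← cancel_mono (0 : K ⟶ u.obj S)]
      simp
    haveI : IsIso k := isIso_of_mono_of_nonzero hk0
    refine ⟨S, inv k, ?_⟩
    intro h0
    apply hK
    rw [IsZero.iff_id_eq_zero, ← IsIso.hom_inv_id k, h0, comp_zero]
  · intro S hS h1 h3 K k hk hK
    have hS' := hS.map_of_exact u
    haveI := hS'.mono_f
    by_cases hm : Mono (k ≫ u.map S.g)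
    · exact h3 K (k ≫ u.map S.g) hm hK
    · have hK1 : ¬ IsZero (kernel (k ≫ u.map S.g)) := fun h =>
        hm (Preadditive.mono_of_isZero_kernel _ h)
      have hzero : (kernel.ι (k ≫ u.map S.g) ≫ k) ≫ (S.map u).g = 0 := by
        rw [Category.assoc]
        exact kernel.condition _
      let l := hS'.exact.lift _ hzero
      have hl : l ≫ u.map S.f = kernel.ι (k ≫ u.map S.g) ≫ k := hS'.exact.lift_f _ hzero
      haveI : Mono (l ≫ u.map S.f) := by rw [hl]; infer_instance
      have hlm : Mono l := mono_of_mono l (u.map S.f)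
      obtain ⟨W, f, hf⟩ := h1 _ l hlm hK1
      refine ⟨W, f ≫ kernel.ι _, fun h0 => hf ?_⟩
      rw [← cancel_mono (kernel.ι (k ≫ u.map S.g)), h0, zero_comp]

theorem mono_counit (u : A ⥤ B) [u.Full] [u.Faithful] [PreservesFiniteLimits u]
    [PreservesFiniteColimits u] (uStar : B ⥤ A) (adj : u ⊣ uStar)
    (hlen : ∀ X : A, IsArtinianObject X ∧ IsNoetherianObject X)
    (hsimple : ∀ X : A, Simple X → Simple (u.obj X)) (Y : B) :
    Mono (adj.counit.app Y) := by
  haveI : u.Additive := Functor.additive_of_preserves_binary_products u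
  by_contra hm
  have hK : ¬ IsZero (kernel (adj.counit.app Y)) := fun h =>
    hm (Preadditive.mono_of_isZero_kernel _ h)
  obtain ⟨W, f, hf⟩ := hasImageMaps u hlen hsimple (uStar.obj Y) _
    (kernel.ι (adj.counit.app Y)) inferInstance hK
  apply hf
  rw [← cancel_mono (kernel.ι (adj.counit.app Y)), zero_comp]
  obtain ⟨g₀, hg₀⟩ := u.map_surjective (f ≫ kernel.ι (adj.counit.app Y))
  have h1 : (adj.homEquiv W Y).symm g₀ = (adj.homEquiv W Y).symm 0 := by
    rw [Adjunction.homEquiv_counit, Adjunction.homEquiv_counit, hg₀, Category.assoc,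
      kernel.condition, comp_zero, u.map_zero, zero_comp]
  have h2 : g₀ = 0 := (adj.homEquiv W Y).symm.injective h1
  rw [← hg₀, h2, u.map_zero]

end Groth.Agent.Lib.helper23.JH
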