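import Mathlib

/-!
# Sequential limits of K-injective complexes (helper23)

* `exists_lift_cochain`: lift a cochain along a termwise split epimorphism of complexes.
* `step`: extend a compatible null-homotopy (as a `-1`-cochain) one step up a tower.
* `isKInjective_limit`: the limit of a tower of K-injective complexes with termwise split epi transition
  maps is K-injective.
-/

open CategoryTheory Limits Opposite CochainComplex HomComplex

universe v u

namespace Groth.Agent.Lib.helper23.KInjLim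

variable {A : Type u} [Category.{v} A] [Abelian A]

theorem exists_lift_cochain {M K L : CochainComplex A ℤ} (p : K ⟶ L)
    (hp : ∀ m : ℤ, IsSplitEpi (p.f m)) {d : ℤ} (g : Cochain M L d) :
    ∃ g' : Cochain M K d, g'.comp (Cochain.ofHom p) (add_zero d) = g := by
  refine ⟨Cochain.mk (fun a b hab => g.v a b hab ≫ @section_ _ _ _ _ (p.f b) (hp b)), ?_⟩
  ext a b hab
  haveI := hp b
  simp

theorem step {M K L : CochainComplex A ℤ} (hM : M.Acyclic) [L.IsKInjective] [K.IsKInjective]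
    (p : K ⟶ L) (hp : ∀ m : ℤ, IsSplitEpi (p.f m)) (φ : M ⟶ K) (h : Cochain M L (-1))
    (hh : δ (-1) 0 h = Cochain.ofHom (φ ≫ p)) :
    ∃ h' : Cochain M K (-1), δ (-1) 0 h' = Cochain.ofHom φ ∧
      h'.comp (Cochain.ofHom p) (add_zero _) = h := by
  obtain ⟨h₀, hh₀⟩ := IsKInjective.eq_δ_of_cocycle (Cocycle.ofHom φ) hM (-1) (by simp)
  replace hh₀ : δ (-1) 0 h₀ = Cochain.ofHom φ := hh₀
  have hz : δ (-1) 0 (h₀.comp (Cochain.ofHom p) (add_zero _) - h) = 0 := by
    rw [δ_sub, δ_comp_ofHom, hh₀, hh, ← Cochain.ofHom_comp, sub_self]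
  obtain ⟨g, hg⟩ := IsKInjective.eq_δ_of_cocycle
    (Cocycle.mk (h₀.comp (Cochain.ofHom p) (add_zero _) - h) 0 (by simp) hz) hM (-2) (by simp)
  replace hg : δ (-2) (-1) g = h₀.comp (Cochain.ofHom p) (add_zero _) - h := hg
  obtain ⟨g', hg'⟩ := exists_lift_cochain p hp g
  refine ⟨h₀ - δ (-2) (-1) g', ?_, ?_⟩
  · rw [δ_sub, δ_δ, sub_zero, hh₀]
  · rw [Cochain.sub_comp, ← δ_comp_ofHom, hg', hg, sub_sub_cancel]

theorem isKInjective_limit [HasLimitsOfShape ℕᵒᵖ A] (I : ℕᵒᵖ ⥤ CochainComplex A ℤ)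
    (h1 : ∀ n : ℕ, (I.obj (op n)).IsKInjective)
    (h2 : ∀ (n : ℕ) (m : ℤ), IsSplitEpi ((I.map (homOfLE (Nat.le_succ n)).op).f m)) :
    (limit I).IsKInjective := by
  refine ⟨fun {M} φ hM => ?_⟩
  let φn : ∀ n : ℕ, M ⟶ I.obj (op n) := fun n => φ ≫ limit.π I (op n)
  let p : ∀ n : ℕ, I.obj (op (n + 1)) ⟶ I.obj (op n) :=
    fun n => I.map (homOfLE (Nat.le_succ n)).op
  have hφp : ∀ n : ℕ, φn (n + 1) ≫ p n = φn n := fun n => by
    simp only [φn, p, Category.assoc, limit.w]
  have h0 : ∃ h : Cochain M (I.obj (op 0)) (-1), δ (-1) 0 h = Cochain.ofHom (φn 0) := by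
    haveI := h1 0
    exact IsKInjective.eq_δ_of_cocycle (Cocycle.ofHom (φn 0)) hM (-1) (by simp)
  have hstep : ∀ (n : ℕ)
      (h : {h : Cochain M (I.obj (op n)) (-1) // δ (-1) 0 h = Cochain.ofHom (φn n)}),
      ∃ h' : {h' : Cochain M (I.obj (op (n + 1))) (-1) //
        δ (-1) 0 h' = Cochain.ofHom (φn (n + 1))},
        h'.1.comp (Cochain.ofHom (p n)) (add_zero _) = h.1 := by
    intro n h
    haveI := h1 n
    haveI := h1 (n + 1)
    obtain ⟨h', e1, e2⟩ := step hM (p n) (h2 n) (φn (n + 1)) h.1 (by rw [hφp]; exact h.2)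
    exact ⟨⟨h', e1⟩, e2⟩
  choose next hnext using hstep
  let hs : ∀ n : ℕ, {h : Cochain M (I.obj (op n)) (-1) // δ (-1) 0 h = Cochain.ofHom (φn n)} :=
    fun n => Nat.rec ⟨h0.choose, h0.choose_spec⟩ (fun n h => next n h) n
  have hs_succ : ∀ n : ℕ, (hs (n + 1)).1.comp (Cochain.ofHom (p n)) (add_zero _) = (hs n).1 :=
    fun n => hnext n (hs n)
  let cone : ∀ (a b : ℤ) (_ : a + (-1) = b),
      Cone (I ⋙ HomologicalComplex.eval A (ComplexShape.up ℤ) b) := fun a b hab =>
    { pt := M.X a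
      π := NatTrans.ofOpSequence (fun n => (hs n).1.v a b hab) (by
        intro n
        have := Cochain.congr_v (hs_succ n) a b hab
        rw [Cochain.comp_zero_cochain_v, Cochain.ofHom_v] at this
        simp only [Functor.const_obj_obj, Functor.const_obj_map, Category.id_comp,
          Functor.comp_map, HomologicalComplex.eval_map]
        exact this.symm) }
  let isLim : ∀ b : ℤ, IsLimit ((HomologicalComplex.eval A (ComplexShape.up ℤ) b).mapCone
      (limit.cone I)) := fun b => isLimitOfPreserves _ (limit.isLimit I)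
  let h : Cochain M (limit I) (-1) :=
    Cochain.mk (fun a b hab => (isLim b).lift (cone a b hab))
  have hπ : ∀ n : ℕ, h.comp (Cochain.ofHom (limit.π I (op n))) (add_zero _) = (hs n).1 := by
    intro n
    ext a b hab
    rw [Cochain.comp_zero_cochain_v, Cochain.ofHom_v]
    exact (isLim b).fac (cone a b hab) (op n)
  have hδ : δ (-1) 0 h = Cochain.ofHom φ := by
    ext a
    apply (isLim a).hom_ext
    rintro ⟨n⟩
    have e : (δ (-1) 0 h).comp (Cochain.ofHom (limit.π I (op n))) (add_zero 0) =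
        (Cochain.ofHom φ).comp (Cochain.ofHom (limit.π I (op n))) (add_zero 0) := by
      rw [← δ_comp_ofHom, hπ, (hs n).2, ← Cochain.ofHom_comp]
    have e' := Cochain.congr_v e a a (add_zero a)
    rw [Cochain.comp_zero_cochain_v, Cochain.comp_zero_cochain_v, Cochain.ofHom_v] at e'
    exact e'
  exact ⟨(Cochain.equivHomotopy φ 0).symm ⟨h, by simp [hδ]⟩⟩

end Groth.Agent.Lib.helper23.KInjLim
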