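import Mathlib
import Groth.Prelude.Def_LCI2
import Groth.Agent.Lib.Helper17.H1Reg
import Groth.Agent.Lib.Helper7.KoszulLow

/-!
# Localizing a Koszul-regular presentation so that the kernel becomes regular (helper23)

`P → A` a surjection of rings (`P` Noetherian), `g ∈ P`, `f` its image in `A`.  Let `S0 ⊆ P` be the elements that
become invertible in `A_f` and `P2 = S0⁻¹ P`.  Then `P2 → A_f` is surjective, its kernel is contained in the
Jacobson radical, `A_f` is the pushout of `A ← P → P2`, and if the kernel of `P_g → A_f` is generated by a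
Koszul-regular sequence `l`, the kernel of `P2 → A_f` is generated by a weakly regular sequence of the same length.
-/

set_option autoImplicit false
universe u
open CategoryTheory

namespace Groth.Agent.Lib.helper23.KzReg

open Groth.Agent.Lib.helper17.H1Reg

section Ring

variable {P : Type u} (A : Type u) [CommRing P] [CommRing A] [Algebra P A] (g : P)

/-- the target `A_f`, `f` the image of `g`. -/
abbrev Af : Type u := Localization.Away (algebraMap P A g)

/-- elements of `P` invertible in `A_f`. -/
def S0 : Submonoid P := (IsUnit.submonoid (Af A g)).comap (algebraMap P (Af A g))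

/-- the localization `S0⁻¹ P`. -/
abbrev P2 : Type u := Localization (S0 A g)

lemma mem_S0 (s : P) : s ∈ S0 A g ↔ IsUnit (algebraMap P (Af A g) s) := Iff.rfl

lemma g_mem_S0 : g ∈ S0 A g := by
  rw [mem_S0, IsScalarTower.algebraMap_apply P A (Af A g)]
  exact IsLocalization.Away.algebraMap_isUnit (algebraMap P A g)

/-- `P2 → A_f`. -/
noncomputable def φ2 : P2 A g →+* Af A g :=
  IsLocalization.lift (M := S0 A g) (g := algebraMap P (Af A g)) (fun y => y.2)

lemma φ2_algebraMap (p : P) : φ2 A g (algebraMap P (P2 A g) p) = algebraMap P (Af A g) p :=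
  IsLocalization.lift_eq _ p

/-- the algebra structure `P2 → A_f`. -/
@[reducible] noncomputable def algP2 : Algebra (P2 A g) (Af A g) := (φ2 A g).toAlgebra

attribute [local instance] algP2

lemma algebraMap_P2 : algebraMap (P2 A g) (Af A g) = φ2 A g := rfl

instance towerP2 : IsScalarTower P (P2 A g) (Af A g) :=
  IsScalarTower.of_algebraMap_eq (fun p => (φ2_algebraMap A g p).symm)

lemma φ2_mk' (p : P) (s : S0 A g) :
    φ2 A g (IsLocalization.mk' (P2 A g) p s) * algebraMap P (Af A g) s =
      algebraMap P (Af A g) p := by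
  rw [← φ2_algebraMap, ← φ2_algebraMap, ← map_mul, IsLocalization.mk'_spec]

/-- `P2 → A_f` reflects units. -/
lemma isUnit_of_isUnit_φ2 (w : P2 A g) (hw : IsUnit (φ2 A g w)) : IsUnit w := by
  obtain ⟨⟨p, s⟩, rfl⟩ := IsLocalization.mk'_surjective (S0 A g) w
  have h1 := φ2_mk' A g p s
  have hp : p ∈ S0 A g := by
    rw [mem_S0, ← h1]
    exact hw.mul s.2
  have h2 : IsLocalization.mk' (P2 A g) p s * algebraMap P (P2 A g) s =
      algebraMap P (P2 A g) p := IsLocalization.mk'_spec _ _ _
  have h3 : IsUnit (algebraMap P (P2 A g) p) := IsLocalization.map_units (P2 A g) ⟨p, hp⟩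
  rw [← h2] at h3
  exact isUnit_of_mul_isUnit_left h3

lemma ker_φ2_le_jacobson : RingHom.ker (φ2 A g) ≤ (⊥ : Ideal (P2 A g)).jacobson := by
  intro w hw
  rw [Ideal.mem_jacobson_bot]
  intro y
  apply isUnit_of_isUnit_φ2
  rw [map_add, map_mul, (RingHom.mem_ker).1 hw, zero_mul, zero_add, map_one]
  exact isUnit_one

variable {A}

lemma surjective_φ2 (hsurj : Function.Surjective (algebraMap P A)) :
    Function.Surjective (φ2 A g) := by
  intro z
  obtain ⟨⟨a, s⟩, rfl⟩ := IsLocalization.mk'_surjective (Submonoid.powers (algebraMap P A g)) z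
  obtain ⟨k, hk⟩ := s.2
  replace hk : algebraMap P A g ^ k = (s : A) := hk
  obtain ⟨p, rfl⟩ := hsurj a
  have hgk : g ^ k ∈ S0 A g := pow_mem (g_mem_S0 A g) k
  refine ⟨IsLocalization.mk' (P2 A g) p ⟨g ^ k, hgk⟩, ?_⟩
  rw [IsLocalization.eq_mk'_iff_mul_eq]
  have h1 := φ2_mk' A g p ⟨g ^ k, hgk⟩
  have h2 : algebraMap P (Af A g) (g ^ k) = algebraMap A (Af A g) (s : A) := by
    rw [IsScalarTower.algebraMap_apply P A (Af A g), map_pow, hk]
  have h3 : algebraMap P (Af A g) p = algebraMap A (Af A g) (algebraMap P A p) :=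
    IsScalarTower.algebraMap_apply P A (Af A g) p
  rw [← h2, ← h3]
  exact h1

lemma ker_φ2 : RingHom.ker (φ2 A g) =
    (RingHom.ker (algebraMap P A)).map (algebraMap P (P2 A g)) := by
  apply le_antisymm
  · intro w hw
    obtain ⟨⟨p, s⟩, rfl⟩ := IsLocalization.mk'_surjective (S0 A g) w
    have h1 := φ2_mk' A g p s
    rw [(RingHom.mem_ker).1 hw, zero_mul] at h1
    have h2 : algebraMap A (Af A g) (algebraMap P A p) = 0 := by
      rw [← IsScalarTower.algebraMap_apply P A (Af A g), ← h1]
    obtain ⟨⟨m, hm⟩, hm0⟩ :=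
      (IsLocalization.map_eq_zero_iff (Submonoid.powers (algebraMap P A g)) (Af A g) _).1 h2
    obtain ⟨k, rfl⟩ := hm
    have hgk : g ^ k ∈ S0 A g := pow_mem (g_mem_S0 A g) k
    have h3 : g ^ k * p ∈ RingHom.ker (algebraMap P A) := by
      rw [RingHom.mem_ker, map_mul, map_pow]
      exact hm0
    rw [IsLocalization.mem_map_algebraMap_iff (S0 A g) (P2 A g)]
    refine ⟨(⟨g ^ k * p, h3⟩, ⟨g ^ k, hgk⟩ * s), ?_⟩
    show IsLocalization.mk' (P2 A g) p s * algebraMap P (P2 A g) (g ^ k * (s : P)) =
      algebraMap P (P2 A g) (g ^ k * p)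
    rw [map_mul, map_mul, mul_comm (algebraMap P (P2 A g) (g ^ k)), ← mul_assoc,
      IsLocalization.mk'_spec, mul_comm]
  · rw [Ideal.map_le_iff_le_comap]
    intro p hp
    rw [Ideal.mem_comap, RingHom.mem_ker, φ2_algebraMap,
      IsScalarTower.algebraMap_apply P A (Af A g), (RingHom.mem_ker).1 hp, map_zero]

/-- `A_f` is the pushout of `A ← P → P2`. -/
lemma isPushout_P2 : Algebra.IsPushout P (P2 A g) A (Af A g) := by
  haveI : IsLocalization (Algebra.algebraMapSubmonoid A (S0 A g)) (Af A g) := by
    refine IsLocalization.of_le (M := Submonoid.powers (algebraMap P A g)) _ ?_ ?_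
    · rw [Submonoid.powers_le]
      exact ⟨g, g_mem_S0 A g, rfl⟩
    · rintro r ⟨s, hs, rfl⟩
      rw [← IsScalarTower.algebraMap_apply P A (Af A g)]
      exact hs
  exact (Algebra.isPushout_of_isLocalization (S0 A g) (P2 A g) A (Af A g)).symm

theorem exists_regular_data [IsNoetherianRing P]
    (l : List (Localization.Away g)) (hl : LCI.IsKoszulRegularSeq (Localization.Away g) l)
    (hIl : (RingHom.ker (algebraMap P A)).map (algebraMap P (Localization.Away g)) =
      Ideal.span {x | x ∈ l}) :
    ∃ rs : List (P2 A g), RingHom.ker (φ2 A g) = Ideal.ofList rs ∧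
      RingTheory.Sequence.IsWeaklyRegular (P2 A g) rs ∧ rs.length = l.length := by
  have hgu : IsUnit (algebraMap P (P2 A g) g) :=
    IsLocalization.map_units (P2 A g) (⟨g, g_mem_S0 A g⟩ : S0 A g)
  let φ : Localization.Away g →+* P2 A g := IsLocalization.Away.lift g hgu
  letI : Algebra (Localization.Away g) (P2 A g) := φ.toAlgebra
  haveI : IsScalarTower P (Localization.Away g) (P2 A g) :=
    IsScalarTower.of_algebraMap_eq (fun x => (IsLocalization.Away.lift_eq g hgu x).symm)
  haveI hloc : IsLocalization ((S0 A g).map (algebraMap P (Localization.Away g))) (P2 A g) :=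
    IsLocalization.isLocalization_of_submonoid_le (Localization.Away g) (P2 A g)
      (Submonoid.powers g) (S0 A g) (Submonoid.powers_le.mpr (g_mem_S0 A g))
  have h1 := Groth.Agent.Lib.helper7.KoszulLow.isH1Regular_of_isKoszulRegularSeq _ l hl
  have h2 := isH1Regular_localization (S := P2 A g)
    ((S0 A g).map (algebraMap P (Localization.Away g))) l.get h1
  set f' : Fin l.length → P2 A g :=
    fun i => algebraMap (Localization.Away g) (P2 A g) (l.get i) with hf'
  have hI : (RingHom.ker (algebraMap P A)).map (algebraMap P (P2 A g)) =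
      Ideal.span (Set.range f') := by
    rw [IsScalarTower.algebraMap_eq P (Localization.Away g) (P2 A g),
      ← Ideal.map_map, hIl, Ideal.map_span]
    congr 1
    ext y
    constructor
    · rintro ⟨x, hx, rfl⟩
      obtain ⟨i, rfl⟩ := List.mem_iff_get.mp hx
      exact ⟨i, rfl⟩
    · rintro ⟨i, rfl⟩
      exact ⟨l.get i, List.get_mem l i, rfl⟩
  have hker : RingHom.ker (φ2 A g) = Ideal.span (Set.range f') := by rw [ker_φ2, hI]
  have hjac : ∀ i, f' i ∈ (⊥ : Ideal (P2 A g)).jacobson := by
    intro i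
    apply ker_φ2_le_jacobson
    rw [hker]
    exact Ideal.subset_span ⟨i, rfl⟩
  haveI : IsNoetherianRing (P2 A g) := inferInstance
  refine ⟨List.ofFn f', ?_, isWeaklyRegular_of_isH1Regular f' hjac h2, List.length_ofFn⟩
  rw [hker, ofList_ofFn]

end Ring

end Groth.Agent.Lib.helper23.KzReg
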