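import Mathlib
import Groth.Prelude.Def_Wider
import Groth.Prelude.Def_DDual2
import Groth.Prelude.Def_LCI2
import Groth.Agent.Lib.Helper23.FBCR6
import Groth.Agent.Lib.Helper23.KzReg2
import Groth.Agent.Lib.Helper23.KzReg3

/-!
# `RHom_P(A, P)` is locally a shift of `A` when the kernel of `P → A` is Koszul-regular (helper23)

`isUniv_localization`: `P` Noetherian, `P → A` surjective with kernel `I`, `g ∈ P` with image `f ∈ A` such that
`I P_g` is generated by a Koszul-regular sequence `l`.  If `ε : X|_P ⟶ P[0]⟦n⟧` is a universal arrow from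
restriction of scalars `D(A) ⥤ D(P)` (so `X = RHom_P(A, P)⟦n⟧`), then `X ⊗_A A_f ≅ A_f[0]⟦-length l⟧⟦n⟧`.
-/

set_option autoImplicit false
universe u
open CategoryTheory CategoryTheory.Limits DerivedCategory Pretriangulated

attribute [local instance] HasDerivedCategory.standard

namespace Groth.Agent.Lib.helper23.KzReg

open Groth.Agent.Lib.helper23.FBC Groth.Agent.Lib.helper23.RAdj Groth.Agent.Lib.helper23.Kz
  Groth.Agent.Lib.helper23.FBCR

attribute [local instance] FlatBC.preservesFiniteLimits_extendScalars_algebraMap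
attribute [local instance] algP2

theorem nonempty_iso_localization {P A : Type u} [CommRing P] [CommRing A] [Algebra P A]
    [IsNoetherianRing P] (hsurj : Function.Surjective (algebraMap P A)) (g : P)
    (l : List (Localization.Away g)) (hl : LCI.IsKoszulRegularSeq (Localization.Away g) l)
    (hIl : (RingHom.ker (algebraMap P A)).map (algebraMap P (Localization.Away g)) =
      Ideal.span {x | x ∈ l})
    (X : Dual.D A) (n : ℤ)
    (ε : (DRing.restrictD (algebraMap P A)).obj X ⟶ (Dual.inD P P)⟦n⟧)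
    (h : IsUniv (DRing.restrictD (algebraMap P A)) ((Dual.inD P P)⟦n⟧) X ε) :
    Nonempty ((EE A (Af A g)).obj X ≅
      ((Dual.inD (Af A g) (Af A g))⟦-(l.length : ℤ)⟧)⟦n⟧) := by
  haveI := isPushout_P2 (A := A) g
  haveI : Module.Finite P A := Module.Finite.of_surjective (Algebra.linearMap P A) hsurj
  obtain ⟨rs, hker, hreg, hlen⟩ := exists_regular_data (A := A) g l hl hIl
  let L : Dual.D P := (Dual.inD P P)⟦n⟧
  haveI : (Dual.inD P P).IsGE 0 := by dsimp [Dual.inD]; infer_instance
  haveI : L.IsGE (0 - n) :=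
    (TStructure.t (C := ModuleCat.{u} P)).isGE_shift (Dual.inD P P) 0 n (0 - n) (by omega)
  have u1 : IsUniv (DRing.restrictD (algebraMap (P2 A g) (Af A g))) ((EE P (P2 A g)).obj L)
      ((EE A (Af A g)).obj X) (ε' (P2 A g) (Af A g) ε) :=
    isUniv_baseChange (P' := P2 A g) (B' := Af A g) X L (0 - n) ε h
  have u2 := u1.of_iso_target (eT P (P2 A g) n)
  obtain ⟨R2, ⟨adj2⟩⟩ := RHomEx.exists_rightAdjoint_restrictD (algebraMap (P2 A g) (Af A g))
  obtain ⟨i2⟩ := rightAdjoint_self_iso_of_isWeaklyRegular (P := P2 A g) (A := Af A g)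
    (surjective_φ2 g hsurj) rs hker hreg R2 adj2
  have v0 := (IsUniv.of_adj adj2 (Dual.inD (P2 A g) (P2 A g))).of_iso_source i2.symm
  obtain ⟨ε3, v1⟩ := exists_isUniv_shift (algebraMap (P2 A g) (Af A g)) v0 n
  obtain ⟨j⟩ := u2.iso v1
  rw [hlen] at j
  exact ⟨j⟩

end Groth.Agent.Lib.helper23.KzReg
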