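import Mathlib
import Groth.Prelude.Def_Wider
import Groth.Prelude.Def_DDual2
import Groth.Prelude.Def_DualSh
import Groth.Prelude.Def_LCI2
import Groth.Agent.Lib.Helper23.KzReg4
import Groth.Agent.Lib.Helper23.Kz7
import Groth.Agent.Lib.Helper13.RKF2

/-!
# `ω_{A/R}` is invertible for a local complete intersection `R → A` (helper23)

`shriekVia_self_invertible_of_isLCI` (= S1828).
-/

set_option autoImplicit false
universe u
open CategoryTheory CategoryTheory.Limits DerivedCategory Pretriangulated TensorProduct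

attribute [local instance] HasDerivedCategory.standard

namespace Groth.Agent.Lib.helper23.KzReg

open Groth.Agent.Lib.helper23.FBC Groth.Agent.Lib.helper23.RAdj Groth.Agent.Lib.helper23.Kz
  Groth.Agent.Lib.helper23.FBCR

attribute [local instance] FlatBC.preservesFiniteLimits_extendScalars_algebraMap

/-- `B[0] ⊗_B B' ≅ B'[0]`. -/
noncomputable def EEunitIso (B B' : Type u) [CommRing B] [CommRing B'] [Algebra B B']
    [Module.Flat B B'] : (EE B B').obj (sgR (R := B)) ≅ sgR (R := B') :=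
  EEsingleIso B' (ModuleCat.of B B) ≪≫ (singleFunctor (ModuleCat.{u} B') 0).mapIso
    (((ExtSc.extendObjEquiv (B := B') (ModuleCat.of B B)).trans
      (TensorProduct.AlgebraTensorModule.rid B B' B')).toModuleIso)

theorem shriekVia_self_invertible_of_isLCI (R A : Type u) [CommRing R] [CommRing A]
    [IsNoetherianRing R] [IsNoetherianRing A] [Algebra R A] (hl : LCI.IsLCI R A) (n : ℕ)
    (ψ : MvPolynomial (Fin n) R →ₐ[R] A) (hψ : Function.Surjective ψ)
    [DRing.HasLBaseChange (algebraMap R (MvPolynomial (Fin n) R))]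
    (Rψ : Dual.D (MvPolynomial (Fin n) R) ⥤ Dual.D A) (adj : DRing.restrictD ψ.toRingHom ⊣ Rψ)
    [hL : ∀ f : A, DRing.HasLBaseChange (algebraMap A (Localization.Away f))]
    (q : PrimeSpectrum A) :
    ∃ (f : A) (_ : f ∉ q.asIdeal) (m : ℤ),
      Nonempty ((DRing.LBaseChange (algebraMap A (Localization.Away f))).obj
        (Dual2.shriekVia n Rψ (Dual.inD R R)) ≅
        (Dual.inD (Localization.Away f) (Localization.Away f))⟦m⟧) := by
  classical
  obtain ⟨-, n', ψ', hψ', hK⟩ := hl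
  let P' := MvPolynomial (Fin n') R
  haveI : DRing.HasLBaseChange (algebraMap R (MvPolynomial (Fin n') R)) :=
    Groth.Agent.Lib.helper13.RKF.hasLBaseChange _
  obtain ⟨Rψ', ⟨adj'⟩⟩ := RHomEx.exists_rightAdjoint_restrictD ψ'.toRingHom
  obtain ⟨j0⟩ := shriekVia_independent n ψ hψ Rψ adj n' ψ' hψ' Rψ' adj' (Dual.inD R R)
  letI algP'A : Algebra P' A := ψ'.toRingHom.toAlgebra
  have hsurj : Function.Surjective (algebraMap P' A) := hψ'
  -- the prime of `P'`
  let 𝔮' : PrimeSpectrum P' := ⟨q.asIdeal.comap ψ'.toRingHom, Ideal.comap_isPrime _ _⟩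
  have hle : RingHom.ker ψ'.toRingHom ≤ 𝔮'.asIdeal := by
    intro x hx
    show ψ'.toRingHom x ∈ q.asIdeal
    rw [(RingHom.mem_ker).1 hx]
    exact Ideal.zero_mem _
  obtain ⟨g, hg, l, hlK, hIl⟩ := hK 𝔮' hle
  let f : A := algebraMap P' A g
  have hf : f ∉ q.asIdeal := hg
  refine ⟨f, hf, -(l.length : ℤ) + (n' : ℤ), ?_⟩
  obtain ⟨ε1, u1⟩ := isUniv_shriekVia₀ n' ψ' Rψ' adj' (Dual.inD R R)
  let X : Dual.D A := Dual2.shriekVia n' Rψ' (Dual.inD R R)
  let e0 : ((EE R P').obj (Dual.inD R R))⟦(n' : ℤ)⟧ ≅ (Dual.inD P' P')⟦(n' : ℤ)⟧ :=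
    (shiftFunctor (Dual.D P') (n' : ℤ)).mapIso (EEunitIso R P')
  have u2 : IsUniv (DRing.restrictD (algebraMap P' A)) ((Dual.inD P' P')⟦(n' : ℤ)⟧) X
      (ε1 ≫ e0.hom) := u1.of_iso_target e0
  obtain ⟨j1⟩ := nonempty_iso_localization hsurj g l hlK hIl X (n' : ℤ) _ u2
  let j2 : (DRing.LBaseChange (algebraMap A (Localization.Away f))).obj X ≅
      (EE A (Localization.Away f)).obj X :=
    (FlatBC.lbcIso (algebraMap A (Localization.Away f))).app X
  let j3 : ((Dual.inD (Localization.Away f) (Localization.Away f))⟦-(l.length : ℤ)⟧)⟦(n' : ℤ)⟧ ≅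
      (Dual.inD (Localization.Away f) (Localization.Away f))⟦-(l.length : ℤ) + (n' : ℤ)⟧ :=
    ((shiftFunctorAdd' (Dual.D (Localization.Away f)) (-(l.length : ℤ)) (n' : ℤ) _ rfl).app _).symm
  exact ⟨(DRing.LBaseChange (algebraMap A (Localization.Away f))).mapIso j0 ≪≫ j2 ≪≫ j1 ≪≫ j3⟩

end Groth.Agent.Lib.helper23.KzReg
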