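import Mathlib
import Groth.Prelude.Def_Wider
import Groth.Agent.Lib.Helper19.MatlisLen
import Groth.Agent.S0311

/-!
# helper23: Matlis bidual of a finite module over a Noetherian local ring is its completion

`bidualEquivCompletion : ((G →ₗ E) →ₗ E) ≃ₗ[A] AdicCompletion m G` for `G` finite, `E` an injective
hull of the residue field (no completeness assumption on `A`).
-/

set_option autoImplicit false
universe u v
open IsLocalRing

namespace Groth.Agent.Lib.helper23.LDual

section Matlis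

variable {A : Type u} [CommRing A] [IsLocalRing A] [IsNoetherianRing A]

lemma isArtinianRing_quot_pow (n : ℕ) : IsArtinianRing (A ⧸ maximalIdeal A ^ (n + 1)) := by
  have hne : maximalIdeal A ^ (n + 1) ≠ ⊤ := by
    intro h
    have h1 : maximalIdeal A ^ (n + 1) ≤ maximalIdeal A := Ideal.pow_le_self (Nat.succ_ne_zero n)
    rw [h] at h1
    exact (maximalIdeal.isMaximal A).ne_top (top_le_iff.mp h1)
  haveI : Nontrivial (A ⧸ maximalIdeal A ^ (n + 1)) := Ideal.Quotient.nontrivial_iff.mpr hne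
  haveI : IsLocalRing (A ⧸ maximalIdeal A ^ (n + 1)) :=
    IsLocalRing.of_surjective' (Ideal.Quotient.mk _) Ideal.Quotient.mk_surjective
  rw [isArtinianRing_iff_isNilpotent_maximalIdeal]
  refine ⟨n + 1, ?_⟩
  rw [Ideal.zero_eq_bot, eq_bot_iff]
  have h1 : maximalIdeal (A ⧸ maximalIdeal A ^ (n + 1)) ≤
      (maximalIdeal A).map (Ideal.Quotient.mk (maximalIdeal A ^ (n + 1))) := by
    intro x hx
    obtain ⟨y, rfl⟩ := Ideal.Quotient.mk_surjective x
    apply Ideal.mem_map_of_mem
    rw [mem_maximalIdeal, mem_nonunits_iff] at hx ⊢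
    exact fun hy => hx (hy.map _)
  refine (Ideal.pow_right_mono h1 (n + 1)).trans ?_
  rw [← Ideal.map_pow, Ideal.map_quotient_self]

/-- a finite module killed by a power of the maximal ideal has finite length. -/
lemma isFiniteLength_of_killed (N : Type v) [AddCommGroup N] [Module A N] [Module.Finite A N]
    (n : ℕ) (h : ∀ a ∈ maximalIdeal A ^ n, ∀ x : N, a • x = 0) : IsFiniteLength A N := by
  let J : Ideal A := maximalIdeal A ^ (n + 1)
  have hJ : ∀ a ∈ J, ∀ x : N, a • x = 0 := fun a ha x =>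
    h a (Ideal.pow_le_pow_right (Nat.le_succ n) ha) x
  have htors : Module.IsTorsionBySet A N (J : Set A) := fun y x => hJ x.1 x.2 y
  letI : Module (A ⧸ J) N := htors.module
  haveI : IsScalarTower A (A ⧸ J) N := htors.isScalarTower
  haveI : IsArtinianRing (A ⧸ J) := isArtinianRing_quot_pow n
  haveI : Module.Finite (A ⧸ J) N := Module.Finite.of_restrictScalars_finite A (A ⧸ J) N
  haveI : IsArtinian (A ⧸ J) N := inferInstance
  haveI : IsArtinian A N :=
    isArtinian_of_surjective_algebraMap (S := A) (R := A ⧸ J) Ideal.Quotient.mk_surjective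
  exact isFiniteLength_iff_isNoetherian_isArtinian.2 ⟨inferInstance, inferInstance⟩

variable (E : Type u) [AddCommGroup E] [Module A E] (f : ResidueField A →ₗ[A] E)
  (hf : InjHull.IsInjectiveHull f)
  (G : Type u) [AddCommGroup G] [Module A G]

variable (A) in
/-- `m^n G`. -/
abbrev mG (n : ℕ) : Submodule A G := (maximalIdeal A ^ n • ⊤ : Submodule A G)

omit [IsNoetherianRing A] in
lemma killed_quot (n : ℕ) (a : A) (ha : a ∈ maximalIdeal A ^ n) (x : G ⧸ mG A G n) :
    a • x = (0 : G ⧸ mG A G n) := by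
  obtain ⟨g, rfl⟩ := Submodule.Quotient.mk_surjective _ x
  rw [← Submodule.Quotient.mk_smul, Submodule.Quotient.mk_eq_zero]
  exact Submodule.smul_mem_smul ha Submodule.mem_top

variable [Module.Finite A G]

include hf in
lemma exists_le_ker (l : G →ₗ[A] E) : ∃ n, mG A G n ≤ LinearMap.ker l := by
  classical
  have hE := Groth.Agent.S0311.result A E f hf
  obtain ⟨s, hs⟩ := (Module.finite_def.1 (inferInstance : Module.Finite A G))
  choose k hk using fun g : G => hE (l g)
  refine ⟨s.sup k, Submodule.smul_le.2 (fun a ha g hgtop => ?_)⟩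
  clear hgtop
  rw [LinearMap.mem_ker, map_smul]
  have hg : g ∈ Submodule.span A (s : Set G) := by rw [hs]; trivial
  induction hg using Submodule.span_induction with
  | mem y hy =>
    exact hk y a (Ideal.pow_le_pow_right (Finset.le_sup (f := k) hy) ha)
  | zero => rw [map_zero, smul_zero]
  | add y z _ _ hy hz => rw [map_add, smul_add, hy, hz, add_zero]
  | smul c y _ hy => rw [map_smul, smul_comm, hy, smul_zero]

/-- evaluation `G/m^n G ≃ (G/m^n G)^{vv}`. -/
noncomputable def evn (n : ℕ) : (G ⧸ mG A G n) ≃ₗ[A] (((G ⧸ mG A G n) →ₗ[A] E) →ₗ[A] E) :=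
  LinearEquiv.ofBijective LinearMap.applyₗ
    (Groth.Agent.Lib.helper19.MatlisLen.applyₗ_bijective f hf (G ⧸ mG A G n)
      (isFiniteLength_of_killed _ n (killed_quot G n)))

lemma evn_apply (n : ℕ) (y : G ⧸ mG A G n) (μ : (G ⧸ mG A G n) →ₗ[A] E) :
    evn E f hf G n y μ = μ y := rfl

/-- restriction `G^{vv} → (G/m^n G)^{vv}`. -/
def Rn (n : ℕ) : ((G →ₗ[A] E) →ₗ[A] E) →ₗ[A] (((G ⧸ mG A G n) →ₗ[A] E) →ₗ[A] E) :=
  LinearMap.lcomp A E (LinearMap.lcomp A E (mG A G n).mkQ)

omit [IsNoetherianRing A] [Module.Finite A G] in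
lemma Rn_apply (n : ℕ) (Φ : (G →ₗ[A] E) →ₗ[A] E) (μ : (G ⧸ mG A G n) →ₗ[A] E) :
    Rn E G n Φ μ = Φ (μ ∘ₗ (mG A G n).mkQ) := rfl

/-- `G^{vv} → G/m^n G`. -/
noncomputable def Tn (n : ℕ) : ((G →ₗ[A] E) →ₗ[A] E) →ₗ[A] (G ⧸ mG A G n) :=
  (evn E f hf G n).symm.toLinearMap ∘ₗ Rn E G n

lemma evn_Tn (n : ℕ) (Φ : (G →ₗ[A] E) →ₗ[A] E) :
    evn E f hf G n (Tn E f hf G n Φ) = Rn E G n Φ :=
  (evn E f hf G n).apply_symm_apply _

lemma Tn_compat {k n : ℕ} (hkn : k ≤ n) :
    AdicCompletion.transitionMap (maximalIdeal A) G hkn ∘ₗ Tn E f hf G n = Tn E f hf G k := by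
  apply LinearMap.ext
  intro Φ
  apply (evn E f hf G k).injective
  rw [evn_Tn]
  apply LinearMap.ext
  intro μ
  rw [evn_apply, Rn_apply, LinearMap.comp_apply]
  have h1 : μ (AdicCompletion.transitionMap (maximalIdeal A) G hkn (Tn E f hf G n Φ)) =
      evn E f hf G n (Tn E f hf G n Φ)
        (μ ∘ₗ AdicCompletion.transitionMap (maximalIdeal A) G hkn) := rfl
  rw [h1, evn_Tn, Rn_apply]
  congr 1

/-- `G^{vv} → Ĝ`. -/
noncomputable def T : ((G →ₗ[A] E) →ₗ[A] E) →ₗ[A] AdicCompletion (maximalIdeal A) G :=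
  AdicCompletion.lift (maximalIdeal A) (fun n => Tn E f hf G n)
    (fun hkn => Tn_compat E f hf G hkn)

lemma T_val (Φ : (G →ₗ[A] E) →ₗ[A] E) (n : ℕ) :
    (T E f hf G Φ).val n = Tn E f hf G n Φ := rfl

omit [IsNoetherianRing A] [Module.Finite A G] in
lemma liftQ_comp_mkQ (n : ℕ) (l : G →ₗ[A] E) (hn : mG A G n ≤ LinearMap.ker l) :
    (mG A G n).liftQ l hn ∘ₗ (mG A G n).mkQ = l := Submodule.liftQ_mkQ _ _ _

theorem T_injective : Function.Injective (T E f hf G) := by
  rw [← LinearMap.ker_eq_bot, eq_bot_iff]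
  intro Φ hΦ
  rw [LinearMap.mem_ker] at hΦ
  rw [Submodule.mem_bot]
  apply LinearMap.ext
  intro l
  obtain ⟨n, hn⟩ := exists_le_ker E f hf G l
  have h1 : Tn E f hf G n Φ = 0 := by
    rw [← T_val, hΦ]; rfl
  have h2 : Rn E G n Φ = 0 := by
    rw [← evn_Tn E f hf, h1, map_zero]
  have h3 := LinearMap.congr_fun h2 ((mG A G n).liftQ l hn)
  rw [Rn_apply, liftQ_comp_mkQ] at h3
  exact h3

section Pair

variable (x : AdicCompletion (maximalIdeal A) G)

omit [IsNoetherianRing A] [Module.Finite A G] in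
lemma liftQ_val_eq {k n : ℕ} (hkn : k ≤ n) (l : G →ₗ[A] E) (hk : mG A G k ≤ LinearMap.ker l)
    (hn : mG A G n ≤ LinearMap.ker l) :
    (mG A G k).liftQ l hk (x.val k) = (mG A G n).liftQ l hn (x.val n) := by
  rw [← x.2 hkn]
  obtain ⟨g, hg⟩ := Submodule.Quotient.mk_surjective _ (x.val n)
  rw [← hg]
  rfl

/-- the pairing `⟨x, l⟩`. -/
noncomputable def pairFun (l : G →ₗ[A] E) : E :=
  (mG A G (Classical.choose (exists_le_ker E f hf G l))).liftQ l
    (Classical.choose_spec (exists_le_ker E f hf G l))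
    (x.val (Classical.choose (exists_le_ker E f hf G l)))

lemma pairFun_eq (l : G →ₗ[A] E) (k : ℕ) (hk : mG A G k ≤ LinearMap.ker l) :
    pairFun E f hf G x l = (mG A G k).liftQ l hk (x.val k) := by
  unfold pairFun
  rcases le_total k (Classical.choose (exists_le_ker E f hf G l)) with h | h
  · exact (liftQ_val_eq E G x h l hk _).symm
  · exact liftQ_val_eq E G x h l _ hk

/-- `⟨x, -⟩` as an element of the bidual. -/
noncomputable def pair : (G →ₗ[A] E) →ₗ[A] E where
  toFun := pairFun E f hf G x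
  map_add' l l' := by
    obtain ⟨n, hn⟩ := exists_le_ker E f hf G l
    obtain ⟨n', hn'⟩ := exists_le_ker E f hf G l'
    have hk : mG A G (max n n') ≤ LinearMap.ker l :=
      (Submodule.pow_smul_top_le _ G (le_max_left n n')).trans hn
    have hk' : mG A G (max n n') ≤ LinearMap.ker l' :=
      (Submodule.pow_smul_top_le _ G (le_max_right n n')).trans hn'
    have hk'' : mG A G (max n n') ≤ LinearMap.ker (l + l') := by
      intro g hg
      rw [LinearMap.mem_ker, LinearMap.add_apply, LinearMap.mem_ker.1 (hk hg),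
        LinearMap.mem_ker.1 (hk' hg), add_zero]
    rw [pairFun_eq E f hf G x l _ hk, pairFun_eq E f hf G x l' _ hk',
      pairFun_eq E f hf G x (l + l') _ hk'']
    obtain ⟨g, hg⟩ := Submodule.Quotient.mk_surjective _ (x.val (max n n'))
    rw [← hg]
    rfl
  map_smul' a l := by
    obtain ⟨n, hn⟩ := exists_le_ker E f hf G l
    have hk' : mG A G n ≤ LinearMap.ker (a • l) := by
      intro g hg
      rw [LinearMap.mem_ker, LinearMap.smul_apply, LinearMap.mem_ker.1 (hn hg), smul_zero]
    rw [pairFun_eq E f hf G x l _ hn, pairFun_eq E f hf G x (a • l) _ hk']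
    obtain ⟨g, hg⟩ := Submodule.Quotient.mk_surjective _ (x.val n)
    rw [← hg]
    rfl

lemma T_pair : T E f hf G (pair E f hf G x) = x := by
  apply AdicCompletion.ext
  intro n
  rw [T_val]
  apply (evn E f hf G n).injective
  rw [evn_Tn]
  apply LinearMap.ext
  intro μ
  rw [Rn_apply, evn_apply]
  have hk : mG A G n ≤ LinearMap.ker (μ ∘ₗ (mG A G n).mkQ) := by
    intro g hg
    rw [LinearMap.mem_ker, LinearMap.comp_apply, Submodule.mkQ_apply,
      (Submodule.Quotient.mk_eq_zero _).2 hg, map_zero]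
  show pairFun E f hf G x (μ ∘ₗ (mG A G n).mkQ) = μ (x.val n)
  rw [pairFun_eq E f hf G x _ n hk]
  obtain ⟨g, hg⟩ := Submodule.Quotient.mk_surjective _ (x.val n)
  rw [← hg]
  rfl

end Pair

/-- **Matlis bidual = completion** for a finite module over a Noetherian local ring. -/
noncomputable def bidualEquivCompletion :
    ((G →ₗ[A] E) →ₗ[A] E) ≃ₗ[A] AdicCompletion (maximalIdeal A) G :=
  LinearEquiv.ofBijective (T E f hf G)
    ⟨T_injective E f hf G, fun x => ⟨pair E f hf G x, T_pair E f hf G x⟩⟩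

end Matlis

section Congr

variable {A : Type u} [CommRing A] (I : Ideal A) {M : Type*} {N : Type*} [AddCommGroup M]
  [Module A M] [AddCommGroup N] [Module A N]

/-- `A`-linear functoriality of the adic completion for linear equivalences. -/
noncomputable def complCongr (e : M ≃ₗ[A] N) : AdicCompletion I M ≃ₗ[A] AdicCompletion I N where
  toFun := AdicCompletion.map I e.toLinearMap
  invFun := AdicCompletion.map I e.symm.toLinearMap
  map_add' x y := map_add _ x y
  map_smul' a x := ((AdicCompletion.map I e.toLinearMap).restrictScalars A).map_smul a x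
  left_inv x := by
    rw [AdicCompletion.map_comp_apply]
    have : e.symm.toLinearMap ∘ₗ e.toLinearMap = LinearMap.id := by ext; simp
    rw [this, AdicCompletion.map_id]; rfl
  right_inv x := by
    rw [AdicCompletion.map_comp_apply]
    have : e.toLinearMap ∘ₗ e.symm.toLinearMap = LinearMap.id := by ext; simp
    rw [this, AdicCompletion.map_id]; rfl

end Congr

end Groth.Agent.Lib.helper23.LDual
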