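import Mathlib
import Groth.Prelude.Def_Wider
import Groth.Prelude.Def_DualLC
import Groth.Agent.Lib.Helper23.LDual12
import Groth.Agent.Lib.Helper23.LDual13

/-!
# helper23: local duality, completed form (S11176)
-/

set_option autoImplicit false
universe u
open CategoryTheory CategoryTheory.Limits DerivedCategory Opposite IsLocalRing

attribute [local instance] HasDerivedCategory.standard

namespace Groth.Agent.Lib.helper23.LDual

variable {A : Type u} [CommRing A] [IsLocalRing A] [IsNoetherianRing A]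
  (ω : Dual.D A) (hω : Dual.IsDualizing A ω) (hn : Dual.IsNormalized A ω)
  (E : Type u) [AddCommGroup E] [Module A E] (f : ResidueField A →ₗ[A] E)
  (hf : InjHull.IsInjectiveHull f)

include hω hn hf in
/-- **S11176**. -/
theorem localDuality_completion (M : Type u) [AddCommGroup M] [Module A M] [Module.Finite A M]
    (i : ℕ) :
    Nonempty (AdicCompletion (maximalIdeal A) (Dual.inD A M ⟶ ω⟦(-(i : ℤ))⟧) ≃ₗ[A]
      (LocCoh.H (maximalIdeal A) i M →ₗ[A] E)) := by
  obtain ⟨G, _, _, _, ⟨e⟩⟩ := exists_small_hom ω hω M (-(i : ℤ))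
  obtain ⟨eLD⟩ := localDuality ω hω hn E f hf M i
  exact ⟨(complCongr (maximalIdeal A) e).symm ≪≫ₗ (bidualEquivCompletion E f hf G).symm ≪≫ₗ
    LinearEquiv.arrowCongr
      (LinearEquiv.arrowCongr e (LinearEquiv.refl A E) ≪≫ₗ eLD.symm) (LinearEquiv.refl A E)⟩

end Groth.Agent.Lib.helper23.LDual
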