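import Mathlib
import Groth.Prelude.Def_Wider
import Groth.Prelude.Def_DDual2
import Groth.Prelude.Def_DRing2
import Groth.Agent.Lib.Helper23.LTenKFlat

/-!
# helper23: `H^i(P ⊗^L N) = 0` for finite length `N` from the fibre over the residue field (S15231)
-/

set_option autoImplicit false
universe u
open CategoryTheory CategoryTheory.Limits MonoidalCategory

attribute [local instance] HasDerivedCategory.standard

namespace Groth.Agent.Lib.helper23.LTenK

open Groth.Agent.Lib.helper13.KFlat Groth.Agent.Lib.helper13.RKF
  Groth.Agent.Lib.helper23.TensSES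

variable (R : Type u) [CommRing R] [IsLocalRing R]

/-- the residue field as an `R`-module, in two ways. -/
noncomputable def residueEquiv :
    (R ⧸ IsLocalRing.maximalIdeal R) ≃ₗ[R] (AR (IsLocalRing.residue R)) where
  toFun := fun x => x
  invFun := fun x => x
  map_add' := fun _ _ => rfl
  map_smul' := fun r x => by
    obtain ⟨y, rfl⟩ := Ideal.Quotient.mk_surjective x
    rfl
  left_inv := fun _ => rfl
  right_inv := fun _ => rfl

theorem subsingleton_HD_LTensor_of_finiteLength
    [DRing.HasLBaseChange (IsLocalRing.residue R)] [∀ M : ModuleCat.{u} R, DRing.HasLTensor R M]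
    (P : Dual.D R) (a b : ℤ)
    (h : ∀ i : ℤ, (i < a ∨ b < i) →
      Subsingleton (Dual.HD (IsLocalRing.ResidueField R)
        ((DRing.LBaseChange (IsLocalRing.residue R)).obj P) i))
    (N : Type u) [AddCommGroup N] [Module R N] (hN : IsFiniteLength R N) (i : ℤ)
    (hi : i < a ∨ b < i) :
    Subsingleton (Dual.HD R ((DRing.LTensor R (ModuleCat.of R N)).obj P) i) := by
  obtain ⟨F, hKF, hfl, ⟨eF⟩⟩ := exists_kflat_rep P
  obtain ⟨e1⟩ := nonempty_iso_LBaseChange_of_kflat (IsLocalRing.residue R) F hKF
  have hκ : ∀ j : ℤ, (j < a ∨ b < j) →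
      ((tensF F).obj (AR (IsLocalRing.residue R))).ExactAt j := by
    intro j hj
    apply exactAt_tensF_AR
    rw [HomologicalComplex.exactAt_iff_isZero_homology]
    haveI := h j hj
    have hz : IsZero ((DerivedCategory.homologyFunctor _ j).obj
        ((DRing.LBaseChange (IsLocalRing.residue R)).obj P)) :=
      ModuleCat.isZero_of_subsingleton _
    exact hz.of_iso (((DerivedCategory.homologyFunctorFactors _ j).app _).symm ≪≫
      (DerivedCategory.homologyFunctor _ j).mapIso
        (e1.symm ≪≫ (DRing.LBaseChange (IsLocalRing.residue R)).mapIso eF))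
  have key : ∀ (N : Type u) [AddCommGroup N] [Module R N], IsFiniteLength R N →
      ∀ j : ℤ, (j < a ∨ b < j) → ((tensF F).obj (ModuleCat.of R N)).ExactAt j := by
    intro N _ _ hN
    induction hN with
    | of_subsingleton =>
      intro j hj
      exact exactAt_of_isZero F (ModuleCat.isZero_of_subsingleton _) j
    | @of_simple_quotient M _ _ N' hsimple hN' ih =>
      intro j hj
      let S : ShortComplex (ModuleCat.{u} R) :=
        ShortComplex.mk (ModuleCat.ofHom N'.subtype) (ModuleCat.ofHom N'.mkQ) (by
          ext x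
          exact (Submodule.Quotient.mk_eq_zero N').2 x.2)
      have hS : S.ShortExact :=
        ModuleCat.shortComplex_shortExact S (LinearMap.exact_subtype_mkQ N')
          (Submodule.subtype_injective N') (Submodule.mkQ_surjective N')
      refine exactAt_middle F hfl S hS j (ih j hj) ?_
      obtain ⟨I, hI, ⟨e⟩⟩ := isSimpleModule_iff_quot_maximal.1 hsimple
      have hIm : I = IsLocalRing.maximalIdeal R := IsLocalRing.eq_maximalIdeal hI
      subst hIm
      exact exactAt_of_iso F ((e ≪≫ₗ residueEquiv R).toModuleIso).symm j (hκ j hj)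
  obtain ⟨e2⟩ := nonempty_iso_LTensor_of_kflat (ModuleCat.of R N) F hKF
  have h3 : (((tensorLeft (ModuleCat.of R N)).mapHomologicalComplex
      (ComplexShape.up ℤ)).obj F).ExactAt i := key N hN i hi
  rw [TA.exactAt_tensorLeft_iff, HomologicalComplex.exactAt_iff_isZero_homology] at h3
  have hz : IsZero ((DerivedCategory.homologyFunctor _ i).obj
      ((DRing.LTensor R (ModuleCat.of R N)).obj P)) :=
    h3.of_iso ((DerivedCategory.homologyFunctor _ i).mapIso
      ((DRing.LTensor R (ModuleCat.of R N)).mapIso eF.symm ≪≫ e2) ≪≫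
      (DerivedCategory.homologyFunctorFactors _ i).app _)
  exact ModuleCat.subsingleton_of_isZero hz

end Groth.Agent.Lib.helper23.LTenK
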