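import Mathlib
import Groth.Prelude.Def_DRing2
import Groth.Prelude.Def_DDual2
import Groth.Agent.Lib.Helper23.Lift6
import Groth.Agent.Lib.Helper2.KC1
import Groth.Agent.Lib.Helper14.KProjLift
import Groth.Agent.Lib.Helper23.LBCComp
import Groth.Agent.Lib.Helper23.DTwoTerm8

/-!
# helper23: lifting complexes along `R → R/I`, part 7 — lifting a complex representing
`K ⊗^L R/I` (S7013)
-/

set_option autoImplicit false
universe u
open CategoryTheory CategoryTheory.Limits TensorProduct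

attribute [local instance] HasDerivedCategory.standard

namespace Groth.Agent.Lib.helper23.Lift

open CochainComplex Groth.Agent.Lib.helper2.Cone

section Cone

variable {B : Type u} [CommRing B] {Kb E : DRing.Cx B} (α : Kb ⟶ E)

/-- the terms of the mapping cone -/
noncomputable def coneEquiv (i j : ℤ) (h : i + 1 = j) :
    (Kb.X j × E.X i) ≃ₗ[B] (mappingCone α).X i :=
  LinearEquiv.ofLinearMap ((cL α j i (by omega)).coprod (cR α i)) ((cF α i j h).prod (cS α i))
    (by
      apply LinearMap.ext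
      intro c
      exact cL_cF_add_cR_cS α i j h c)
    (by
      apply LinearMap.ext
      rintro ⟨k, e⟩
      refine Prod.ext ?_ ?_
      · show cF α i j h (cL α j i (by omega) k + cR α i e) = k
        rw [map_add, cF_cL, cF_cR, add_zero]
      · show cS α i (cL α j i (by omega) k + cR α i e) = e
        rw [map_add, cS_cL, cS_cR, zero_add])

lemma coneEquiv_apply (i j : ℤ) (h : i + 1 = j) (k : Kb.X j) (e : E.X i) :
    coneEquiv α i j h (k, e) = cL α j i (by omega) k + cR α i e := rfl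

/-- the projection of the cone to the shift of the source -/
noncomputable def coneFst : mappingCone α ⟶ Kb⟦(1 : ℤ)⟧ where
  f i := ModuleCat.ofHom (cF α i (i + 1) rfl)
  comm' i j hij := by
    obtain rfl : i + 1 = j := hij
    refine ModuleCat.hom_ext (LinearMap.ext fun c => ?_)
    show (1 : ℤ).negOnePow • (Kb.d (i + 1) (i + 1 + 1)).hom (cF α i (i + 1) rfl c) =
      cF α (i + 1) (i + 1 + 1) rfl (((mappingCone α).d i (i + 1)).hom c)
    rw [cF_d α i (i + 1) (i + 1 + 1) rfl rfl, Int.negOnePow_one, Units.neg_smul, one_smul]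

lemma coneFst_f_apply (i : ℤ) (c : (mappingCone α).X i) :
    (coneFst α).f i c = cF α i (i + 1) rfl c := rfl

end Cone

section Main

open DerivedCategory Pretriangulated

variable {R : Type u} [CommRing R] (I : Ideal R)

/-- **S7013**: lifting a bounded above complex representing `K ⊗^L R/I` -/
theorem exists_lift_complex [DRing.HasLBaseChange (Ideal.Quotient.mk I)]
    (Pc : ObjectProperty (ModuleCat.{u} R)) [Pc.IsClosedUnderIsomorphisms]
    (h1 : ∀ X : ModuleCat.{u} R, Pc X → Module.Projective R X)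
    (h2 : ∀ X Y : ModuleCat.{u} R, Pc X → (Pc (ModuleCat.of R (X × Y)) ↔ Pc Y))
    (h3 : ∀ (X Y : ModuleCat.{u} R) (f : X ⟶ Y), Pc X → Pc Y →
      LinearMap.range f.hom ⊔ I • (⊤ : Submodule R Y) = ⊤ → Function.Surjective f.hom)
    (K : Dual.D R) (hK : ∃ (Q : DRing.Cx R) (c : ℤ), DRing.VanishesAbove Q c ∧
      (∀ i : ℤ, Pc (Q.X i)) ∧ Nonempty (DRing.toD Q ≅ K))
    (E : DRing.Cx (R ⧸ I)) (b : ℤ) (hEb : DRing.VanishesAbove E b)
    (hEt : ∀ i : ℤ, ∃ X : ModuleCat.{u} R, Pc X ∧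
      Nonempty (TensorProduct R (R ⧸ I) X ≃ₗ[R ⧸ I] E.X i))
    (hE : Nonempty (DRing.toD E ≅ (DRing.LBaseChange (Ideal.Quotient.mk I)).obj K)) :
    ∃ (P : DRing.Cx R) (b' : ℤ), DRing.VanishesAbove P b' ∧ (∀ i : ℤ, Pc (P.X i)) ∧
      Nonempty (DRing.toD P ≅ K) ∧
      Nonempty ((((ModuleCat.extendScalars (Ideal.Quotient.mk I)).mapHomologicalComplex
        (ComplexShape.up ℤ)).obj P) ≅ E) := by
  let f : R →+* R ⧸ I := Ideal.Quotient.mk I
  have hf : Function.Surjective f := Ideal.Quotient.mk_surjective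
  have hker : RingHom.ker f = I := Ideal.mk_ker
  have h2' : ∀ X Y : ModuleCat.{u} R, Pc X → Pc (ModuleCat.of R (X × Y)) → Pc Y :=
    fun X Y hX h => (h2 X Y hX).1 h
  have h3' : ∀ (X Y : ModuleCat.{u} R) (g : X ⟶ Y), Pc X → Pc Y →
      LinearMap.range g.hom ⊔ (RingHom.ker f) • (⊤ : Submodule R Y) = ⊤ →
        Function.Surjective g.hom := by
    intro X Y g hX hY h
    rw [hker] at h
    exact h3 X Y g hX hY h
  obtain ⟨K0, c, hK0c, hK0t, ⟨eK⟩⟩ := hK
  obtain ⟨eE⟩ := hE
  choose X hX θ using hEt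
  -- reductions
  have rX : ∀ i, Red f (X i) (E.X i) := fun i =>
    Red.ofTensorEquiv I (X i) (E.X i) (Classical.choice (θ i))
  let Kb : DRing.Cx (R ⧸ I) :=
    ((ModuleCat.extendScalars.{u, u, u} f).mapHomologicalComplex (ComplexShape.up ℤ)).obj K0
  let rK : ∀ i, Red f (K0.X i) (Kb.X i) := fun i =>
    (Red.ofTensorEquiv I (K0.X i) (ModuleCat.of (R ⧸ I) (TensorProduct R (R ⧸ I) (K0.X i)))
      (LinearEquiv.refl _ _)).ofExt f hf
  have hrK : ∀ (i j : ℤ) (x : K0.X i), (rK j).map (K0.d i j x) = Kb.d i j ((rK i).map x) :=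
    fun i j x => rfl
  -- the isomorphism in `D(R/I)`
  have hfl : DRing.TermwiseFlat K0 := fun i => by
    haveI := h1 _ (hK0t i)
    infer_instance
  obtain ⟨e2⟩ := Groth.Agent.Lib.helper23.LBCComp.lbc_iso (Ideal.Quotient.mk I) K0 c hK0c hfl
  let e3 : Q.obj Kb ≅ Q.obj E :=
    e2.symm ≪≫ (DRing.LBaseChange (Ideal.Quotient.mk I)).mapIso eK ≪≫ eE.symm
  -- `Kb` is K-projective
  haveI : Kb.IsStrictlyLE c := by
    rw [CochainComplex.isStrictlyLE_iff]
    intro i hi
    exact Functor.map_isZero (ModuleCat.extendScalars.{u, u, u} f) (hK0c i hi)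
  haveI : ∀ n : ℤ, Projective (Kb.X n) := fun n => by
    haveI := h1 _ (hK0t n)
    have hpn : Module.Projective (R ⧸ I) (Kb.X n) := projective_extendScalars f (K0.X n)
    exact (IsProjective.iff_projective (Kb.X n)).1 hpn
  haveI : Kb.IsKProjective := CochainComplex.isKProjective_of_projective Kb c
  obtain ⟨α, hα⟩ :=
    Groth.Agent.Lib.Helper14.KProjLift.Q_map_surjective_of_isKProjective Kb E e3.hom
  have hαiso : IsIso (Q.map α) := by
    rw [hα]
    infer_instance
  -- the cone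
  let C : DRing.Cx (R ⧸ I) := mappingCone α
  have hCa : C.Acyclic := fun i =>
    Groth.Agent.Lib.helper23.DTwoTerm.exactAt_of_isZero_Q C
      ((Triangle.isZero₃_iff_isIso₁ _ (mappingCone_triangle_distinguished α)).2 hαiso) i
  obtain ⟨b₀, hb₀, hc₀⟩ : ∃ b₀ : ℤ, b ≤ b₀ ∧ c ≤ b₀ :=
    ⟨max b c, le_max_left _ _, le_max_right _ _⟩
  have hCb : DRing.VanishesAbove C b₀ := by
    intro i hi
    haveI : Subsingleton (Kb.X (i + 1)) := ModuleCat.subsingleton_of_isZero
      (Functor.map_isZero (ModuleCat.extendScalars.{u, u, u} f) (hK0c (i + 1) (by omega)))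
    haveI : Subsingleton (E.X i) := ModuleCat.subsingleton_of_isZero (hEb i (by omega))
    haveI : Subsingleton (C.X i) :=
      ⟨fun x y => ext_elem α i (i + 1) rfl (Subsingleton.elim _ _) (Subsingleton.elim _ _)⟩
    exact ModuleCat.isZero_of_subsingleton _
  have hCt : ∀ i : ℤ, ∃ Y : ModuleCat.{u} R, Pc Y ∧ Nonempty (Red f Y (C.X i)) := fun i =>
    ⟨ModuleCat.of R (K0.X (i + 1) × X i), (h2 _ _ (hK0t (i + 1))).2 (hX i),
      ⟨((rK (i + 1)).prod (rX i)).congrRight (coneEquiv α i (i + 1) rfl)⟩⟩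
  obtain ⟨Ct, b', hCtb, hCta, hCtPc, red, hred⟩ :=
    exists_acyclic_lift_red f hf Pc h1 h2' h3' C b₀ hCb hCa hCt
  -- `Ct` is contractible
  have hCtp : ∀ i, Module.Projective R (Ct.X i) := fun i => h1 _ (hCtPc i)
  haveI : Ct.IsStrictlyLE b' := by
    rw [CochainComplex.isStrictlyLE_iff]
    exact fun i hi => hCtb i hi
  haveI : ∀ n : ℤ, Projective (Ct.X n) := fun n => by
    haveI := hCtp n
    exact (IsProjective.iff_projective (Ct.X n)).1 inferInstance
  haveI : Ct.IsKProjective := CochainComplex.isKProjective_of_projective Ct b'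
  have H : Homotopy (𝟙 Ct) 0 := CochainComplex.IsKProjective.homotopyZero (𝟙 Ct) hCta
  -- the lift of the projection
  let L : DRing.Cx R := K0⟦(1 : ℤ)⟧
  let V : DRing.Cx (R ⧸ I) := Kb⟦(1 : ℤ)⟧
  let rL : ∀ i, Red f (L.X i) (V.X i) := fun i => rK (i + 1)
  have hrL : ∀ (i j : ℤ) (y : L.X i), (rL j).map (L.d i j y) = V.d i j ((rL i).map y) := by
    intro i j y
    show (rK (j + 1)).map ((1 : ℤ).negOnePow • (K0.d (i + 1) (j + 1)).hom y) =
      (1 : ℤ).negOnePow • (Kb.d (i + 1) (j + 1)).hom ((rK (i + 1)).map y)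
    rw [Int.negOnePow_one, Units.neg_smul, one_smul, Units.neg_smul, one_smul, map_neg]
    exact congrArg Neg.neg (hrK (i + 1) (j + 1) y)
  obtain ⟨ψ, hψ⟩ := exists_chain_lift Ct L C V H hCtp (fun i => (red i).map) hred rL hrL
    (coneFst α)
  have hsurj : ∀ i, Function.Surjective (ψ.f i) := fun i => by
    apply h3' (Ct.X i) (L.X i) (ψ.f i) (hCtPc i) (hK0t (i + 1))
    refine range_sup_of_red (rL i) (red i).map (red i).surj (cF α i (i + 1) rfl) ?_
      (ψ.f i).hom (hψ i)
    intro k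
    exact ⟨cL α (i + 1) i (by omega) k, cF_cL α i (i + 1) rfl (by omega) k⟩
  have hσ : ∀ i, ∃ σ : L.X i →ₗ[R] Ct.X i, ∀ l, (ψ.f i).hom (σ l) = l := fun i => by
    haveI : Module.Projective R (L.X i) := h1 _ (hK0t (i + 1))
    obtain ⟨σ, hσ⟩ := Module.projective_lifting_property (ψ.f i).hom LinearMap.id (hsurj i)
    exact ⟨σ, fun l => LinearMap.congr_fun hσ l⟩
  choose σ hσ using hσ
  refine ⟨kerCx ψ, b', ?_, ?_, ?_, ?_⟩
  · intro i hi
    haveI := ModuleCat.subsingleton_of_isZero (hCtb i hi)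
    haveI : Subsingleton ((kerCx ψ).X i) :=
      ⟨fun x y => Subtype.ext (Subsingleton.elim (α := Ct.X i) _ _)⟩
    exact ModuleCat.isZero_of_subsingleton _
  · intro i
    have e := prodKerEquiv (ψ.f i).hom (σ i) (hσ i)
    have hP : Pc (ModuleCat.of R (L.X i × LinearMap.ker (ψ.f i).hom)) :=
      Pc.prop_of_iso e.symm.toModuleIso (hCtPc i)
    exact (h2 (K0.X (i + 1)) (ModuleCat.of R (LinearMap.ker (ψ.f i).hom)) (hK0t (i + 1))).1 hP
  · obtain ⟨e⟩ := nonempty_Q_iso_of_acyclic ψ hsurj hCta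
    exact ⟨e ≪≫ eK⟩
  · let r : ∀ i, Red f ((kerCx ψ).X i) (E.X i) := fun i =>
      (red i).kerRed (rL i) (ψ.f i).hom (σ i) (hσ i) (cF α i (i + 1) rfl) (cS α i) (cR α i)
        (cS_cR α i) (cF_cR α i (i + 1) rfl)
        (fun c hc1 hc2 => ext_elem α i (i + 1) rfl (hc1.trans (map_zero _).symm)
          (hc2.trans (map_zero _).symm)) (hψ i)
    refine nonempty_reduction_iso f hf (kerCx ψ) E r (fun i p => ?_)
    obtain ⟨p, hp⟩ := p
    show cS α (i + 1) ((red (i + 1)).map (Ct.d i (i + 1) p)) =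
      E.d i (i + 1) (cS α i ((red i).map p))
    have h0 : cF α i (i + 1) rfl ((red i).map p) = 0 := by
      have h4 := hψ i p
      rw [LinearMap.mem_ker.1 hp, map_zero] at h4
      exact h4.symm
    rw [hred, cS_d α i (i + 1) rfl, h0, map_zero, zero_add]

end Main

end Groth.Agent.Lib.helper23.Lift
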