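import Mathlib
import Groth.Prelude.Def_DRing2
import Groth.Prelude.Def_DDual2
import Groth.Agent.Lib.Helper23.Lift7

/-!
# helper23: lifting complexes along `R → R/I`, part 9 — tools for ideals in the Jacobson radical

* `Red.nonempty_tensorEquiv`: a reduction along `R → R/I` gives `R/I ⊗ X ≃ M`;
* `Red.ofBasis`: the reduction `A^n → W` attached to a basis of `W`;
* `surjective_of_red`: Nakayama for lifts;
* `free_of_red_free`: a finite projective module whose reduction is free is free (`ker f ⊆ rad`);
* `exists_stablyFree_lift`: finite stably free modules lift (`ker f ⊆ rad`).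
-/

set_option autoImplicit false
universe u
open CategoryTheory CategoryTheory.Limits TensorProduct

namespace Groth.Agent.Lib.helper23.Lift

section TensorEquiv

variable {R : Type u} [CommRing R] (I : Ideal R)

/-- a reduction along `R → R/I` gives an isomorphism `R/I ⊗ X ≃ M` -/
theorem Red.nonempty_tensorEquiv {X : ModuleCat.{u} R} {M : ModuleCat.{u} (R ⧸ I)}
    (r : Red (Ideal.Quotient.mk I) X M) :
    Nonempty (TensorProduct R (R ⧸ I) X ≃ₗ[R ⧸ I] M) := by
  letI : Module R M := Module.compHom M (Ideal.Quotient.mk I)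
  haveI : IsScalarTower R (R ⧸ I) M := ⟨fun a s m => by
    show (a • s) • m = Ideal.Quotient.mk I a • (s • m)
    rw [Algebra.smul_def, mul_smul]
    rfl⟩
  let rl : X →ₗ[R] M :=
    { toFun := fun x => r.map x
      map_add' := fun x y => r.map.map_add x y
      map_smul' := fun a x => r.map.map_smulₛₗ a x }
  let g : (R ⧸ I) ⊗[R] X →ₗ[R ⧸ I] M := rl.liftBaseChange (R ⧸ I)
  have hg : ∀ x : X, g ((1 : R ⧸ I) ⊗ₜ[R] x) = r.map x := fun x => by
    show (1 : R ⧸ I) • r.map x = r.map x
    rw [one_smul]
  have hbij : Function.Bijective g := by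
    constructor
    · rw [injective_iff_map_eq_zero]
      intro z hz
      obtain ⟨x, rfl⟩ := exists_one_tmul' I X z
      rw [hg] at hz
      have hx := r.ker x hz
      rw [Ideal.mk_ker] at hx
      have h2 : (TensorProduct.quotTensorEquivQuotSMul X I) ((1 : R ⧸ I) ⊗ₜ[R] x) = 0 := by
        rw [TensorProduct.quotTensorEquivQuotSMul_mk_one_tmul, Submodule.Quotient.mk_eq_zero]
        exact hx
      exact (TensorProduct.quotTensorEquivQuotSMul X I).map_eq_zero_iff.1 h2
    · intro m
      obtain ⟨x, hx⟩ := r.surj m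
      exact ⟨(1 : R ⧸ I) ⊗ₜ[R] x, (hg x).trans hx⟩
  exact ⟨LinearEquiv.ofBijective g hbij⟩

end TensorEquiv

section Basis

variable {A B : Type u} [CommRing A] [CommRing B] (f : A →+* B)

/-- the reduction `A^n → W` attached to a basis of `W` -/
noncomputable def Red.ofBasis (hf : Function.Surjective f) {n : ℕ} {W : ModuleCat.{u} B}
    (β : Module.Basis (Fin n) B W) : Red f (ModuleCat.of A (Fin n → A)) W where
  map :=
    { toFun := fun v => ∑ k, f (v k) • β k
      map_add' := fun v w => by
        simp only [Pi.add_apply, map_add, add_smul, Finset.sum_add_distrib]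
      map_smul' := fun a v => by
        simp only [Pi.smul_apply, smul_eq_mul, map_mul, mul_smul, Finset.smul_sum] }
  surj := fun w => by
    choose a ha using fun k => hf (β.repr w k)
    refine ⟨a, ?_⟩
    show ∑ k, f (a k) • β k = w
    simp only [ha]
    exact β.sum_repr w
  ker := fun v hv => by
    replace hv : ∑ k, f (v k) • β k = 0 := hv
    have h0 : ∀ k, f (v k) = 0 :=
      fun k => (Fintype.linearIndependent_iff.1 β.linearIndependent) (fun k => f (v k)) hv k
    have hv' : v = ∑ k, v k • (Pi.single k (1 : A) : Fin n → A) := by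
      ext j
      simp [Finset.sum_apply, Pi.single_apply]
    rw [hv']
    exact Submodule.sum_mem _ fun k _ =>
      Submodule.smul_mem_smul (RingHom.mem_ker.2 (h0 k)) Submodule.mem_top

lemma Red.ofBasis_map_apply (hf : Function.Surjective f) {n : ℕ} {W : ModuleCat.{u} B}
    (β : Module.Basis (Fin n) B W) (v : Fin n → A) :
    (Red.ofBasis f hf β).map v = ∑ k, f (v k) • β k := rfl

variable {f}

/-- Nakayama: a lift of a surjection through reductions is surjective -/
lemma surjective_of_red (hJ : RingHom.ker f ≤ Ideal.jacobson (⊥ : Ideal A))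
    {L X : ModuleCat.{u} A} {V Cc : ModuleCat.{u} B} [Module.Finite A L] (rL : Red f L V)
    (red : X →ₛₗ[f] Cc) (hred : Function.Surjective red) (φ : Cc →ₗ[B] V)
    (hφ : Function.Surjective φ) (ψ : X →ₗ[A] L) (h : ∀ c, rL.map (ψ c) = φ (red c)) :
    Function.Surjective ψ := by
  have h1 := range_sup_of_red rL red hred φ hφ ψ h
  rw [← LinearMap.range_eq_top, eq_top_iff]
  exact Submodule.le_of_le_smul_of_le_jacobson_bot (Module.Finite.fg_top) hJ h1.ge

/-- a finite projective module whose reduction is free is free -/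
theorem free_of_red_free (hf : Function.Surjective f)
    (hJ : RingHom.ker f ≤ Ideal.jacobson (⊥ : Ideal A)) (X : ModuleCat.{u} A)
    [Module.Finite A X] [Module.Projective A X] (W : ModuleCat.{u} B) (r : Red f X W)
    [Module.Finite B W] [Module.Free B W] : Module.Free A X := by
  let n := Fintype.card (Module.Free.ChooseBasisIndex B W)
  let β : Module.Basis (Fin n) B W :=
    (Module.Free.chooseBasis B W).reindex (Fintype.equivFin (Module.Free.ChooseBasisIndex B W))
  let r0 := Red.ofBasis f hf β
  obtain ⟨φ, hφ⟩ := r.exists_lift (Fin n → A) r0.map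
  have hsurj : Function.Surjective φ :=
    surjective_of_red (X := ModuleCat.of A (Fin n → A)) hJ r r0.map r0.surj LinearMap.id
      (fun w => ⟨w, rfl⟩) φ hφ
  obtain ⟨σ, hσ⟩ := Module.projective_lifting_property φ LinearMap.id hsurj
  have hσ' : ∀ l, φ (σ l) = l := fun l => LinearMap.congr_fun hσ l
  have hker : (⊤ : Submodule A (LinearMap.ker φ)) ≤
      (RingHom.ker f) • (⊤ : Submodule A (LinearMap.ker φ)) := by
    intro p _
    have h1 : r0.map (p : Fin n → A) = 0 := by
      rw [← hφ, LinearMap.mem_ker.1 p.2, map_zero]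
    have h2 := map_mem_smul_top _ (kerProj φ σ hσ') _ (r0.ker _ h1)
    rw [kerProj_of_mem] at h2
    exact h2
  haveI : Module.Finite A (LinearMap.ker φ) :=
    Module.Finite.of_surjective (kerProj φ σ hσ') (fun p => ⟨p, kerProj_of_mem φ σ hσ' p⟩)
  have hbot : (⊤ : Submodule A (LinearMap.ker φ)) = ⊥ :=
    Submodule.eq_bot_of_le_smul_of_le_jacobson_bot _ _ Module.Finite.fg_top hker hJ
  have hinj : Function.Injective φ := by
    rw [← LinearMap.ker_eq_bot, eq_bot_iff]
    intro v hv
    have h3 : (⟨v, hv⟩ : LinearMap.ker φ) ∈ (⊥ : Submodule A (LinearMap.ker φ)) := by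
      rw [← hbot]
      exact Submodule.mem_top
    rw [Submodule.mem_bot] at h3 ⊢
    exact congrArg Subtype.val h3
  exact Module.Free.of_equiv (LinearEquiv.ofBijective φ ⟨hinj, hsurj⟩)

/-- finite stably free modules lift along a surjection with kernel in the Jacobson radical -/
theorem exists_stablyFree_lift (hf : Function.Surjective f)
    (hJ : RingHom.ker f ≤ Ideal.jacobson (⊥ : Ideal A)) (W : ModuleCat.{u} B)
    [Module.Finite B W] [Module.IsStablyFree B W] :
    ∃ X : ModuleCat.{u} A, Module.Finite A X ∧ Module.IsStablyFree A X ∧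
      Nonempty (Red f X W) := by
  obtain ⟨N, _, _, _, _, _⟩ := Module.IsStablyFree.exist_free_prod B W
  haveI : Module.Finite B (W × N) := inferInstance
  let b := Fintype.card (Module.Free.ChooseBasisIndex B (W × N))
  let β : Module.Basis (Fin b) B (W × N) :=
    (Module.Free.chooseBasis B (W × N)).reindex (Fintype.equivFin _)
  let a := Fintype.card (Module.Free.ChooseBasisIndex B N)
  let γ : Module.Basis (Fin a) B N :=
    (Module.Free.chooseBasis B N).reindex (Fintype.equivFin _)
  let Cc : ModuleCat.{u} B := ModuleCat.of B (W × N)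
  let V : ModuleCat.{u} B := ModuleCat.of B N
  let red : Red f (ModuleCat.of A (Fin b → A)) Cc := Red.ofBasis f hf β
  let rL : Red f (ModuleCat.of A (Fin a → A)) V := Red.ofBasis f hf γ
  let cF : Cc →ₗ[B] V := LinearMap.snd B W N
  let cS : Cc →ₗ[B] W := LinearMap.fst B W N
  let cR : W →ₗ[B] Cc := LinearMap.inl B W N
  obtain ⟨ψ, hψ⟩ := rL.exists_lift (Fin b → A) (cF.comp red.map)
  have hsurj : Function.Surjective ψ :=
    surjective_of_red (L := ModuleCat.of A (Fin a → A)) (X := ModuleCat.of A (Fin b → A)) hJ rL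
      red.map red.surj cF (fun v => ⟨(0, v), rfl⟩) ψ hψ
  obtain ⟨σ, hσ⟩ := Module.projective_lifting_property ψ LinearMap.id hsurj
  have hσ' : ∀ l, ψ (σ l) = l := fun l => LinearMap.congr_fun hσ l
  let rk : Red f (ModuleCat.of A (LinearMap.ker ψ)) W :=
    red.kerRed rL ψ σ hσ' cF cS cR (fun e => rfl) (fun e => rfl)
      (fun c h1 h2 => Prod.ext h2 h1) hψ
  refine ⟨ModuleCat.of A (LinearMap.ker ψ), ?_, ?_, ⟨rk⟩⟩
  · exact Module.Finite.of_surjective (kerProj ψ σ hσ')
      (fun p => ⟨p, kerProj_of_mem ψ σ hσ' p⟩)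
  · haveI : Module.Free A (LinearMap.ker ψ × (Fin a → A)) :=
      Module.Free.of_equiv ((prodKerEquiv ψ σ hσ').symm.trans (LinearEquiv.prodComm A _ _))
    exact Module.IsStablyFree.of_free_prod A (LinearMap.ker ψ) (Fin a → A)

end Basis

end Groth.Agent.Lib.helper23.Lift
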