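import Mathlib
import Groth.Prelude.Def_DRing2
import Groth.Prelude.Def_DDual2
import Groth.Agent.Lib.Helper23.Lift9

/-!
# helper23: lifting complexes along `R → R/I`, part 10 — `I` in the Jacobson radical, finite
stably free modules (S7011)
-/

set_option autoImplicit false
universe u
open CategoryTheory CategoryTheory.Limits TensorProduct

attribute [local instance] HasDerivedCategory.standard

namespace Groth.Agent.Lib.helper23.Lift

section StablyFree

variable {R : Type u} [CommRing R]

lemma isStablyFree_snd_of_prod (X Y : Type u) [AddCommGroup X] [Module R X] [AddCommGroup Y]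
    [Module R Y] [Module.Finite R X] [Module.IsStablyFree R X] [Module.Finite R (X × Y)]
    [Module.IsStablyFree R (X × Y)] : Module.IsStablyFree R Y := by
  obtain ⟨N, _, _, _, _, _⟩ := Module.IsStablyFree.exist_free_prod R X
  obtain ⟨N', _, _, _, _, _⟩ := Module.IsStablyFree.exist_free_prod R (X × Y)
  haveI : Module.Finite R ((X × N) × N') := inferInstance
  haveI : Module.Free R ((X × N) × N') := inferInstance
  -- `Y × ((X × N) × N') ≃ ((X × Y) × N') × N`
  let e : (((X × Y) × N') × N) ≃ₗ[R] (Y × ((X × N) × N')) :=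
    LinearEquiv.ofLinearMap
      (((LinearMap.snd R X Y).comp ((LinearMap.fst R (X × Y) N').comp
        (LinearMap.fst R ((X × Y) × N') N))).prod
        ((((LinearMap.fst R X Y).comp ((LinearMap.fst R (X × Y) N').comp
          (LinearMap.fst R ((X × Y) × N') N))).prod (LinearMap.snd R ((X × Y) × N') N)).prod
          ((LinearMap.snd R (X × Y) N').comp (LinearMap.fst R ((X × Y) × N') N))))
      ((((((LinearMap.fst R X N).comp ((LinearMap.fst R (X × N) N').comp
        (LinearMap.snd R Y ((X × N) × N')))).prod (LinearMap.fst R Y ((X × N) × N'))).prod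
        ((LinearMap.snd R (X × N) N').comp (LinearMap.snd R Y ((X × N) × N')))).prod
        ((LinearMap.snd R X N).comp ((LinearMap.fst R (X × N) N').comp
          (LinearMap.snd R Y ((X × N) × N'))))))
      (LinearMap.ext fun p => rfl) (LinearMap.ext fun p => rfl)
  haveI : Module.Free R (Y × ((X × N) × N')) := Module.Free.of_equiv e
  exact Module.IsStablyFree.of_free_prod R Y ((X × N) × N')

lemma isStablyFree_prod (X Y : Type u) [AddCommGroup X] [Module R X] [AddCommGroup Y]
    [Module R Y] [Module.IsStablyFree R X] [Module.IsStablyFree R Y] :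
    Module.IsStablyFree R (X × Y) := by
  obtain ⟨N, _, _, _, _, _⟩ := Module.IsStablyFree.exist_free_prod R X
  obtain ⟨N', _, _, _, _, _⟩ := Module.IsStablyFree.exist_free_prod R Y
  let e : ((X × N) × (Y × N')) ≃ₗ[R] ((X × Y) × (N × N')) :=
    LinearEquiv.ofLinearMap
      ((((LinearMap.fst R X N).comp (LinearMap.fst R (X × N) (Y × N'))).prod
        ((LinearMap.fst R Y N').comp (LinearMap.snd R (X × N) (Y × N')))).prod
        (((LinearMap.snd R X N).comp (LinearMap.fst R (X × N) (Y × N'))).prod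
          ((LinearMap.snd R Y N').comp (LinearMap.snd R (X × N) (Y × N')))))
      ((((LinearMap.fst R X Y).comp (LinearMap.fst R (X × Y) (N × N'))).prod
        ((LinearMap.fst R N N').comp (LinearMap.snd R (X × Y) (N × N')))).prod
        (((LinearMap.snd R X Y).comp (LinearMap.fst R (X × Y) (N × N'))).prod
          ((LinearMap.snd R N N').comp (LinearMap.snd R (X × Y) (N × N')))))
      (LinearMap.ext fun p => rfl) (LinearMap.ext fun p => rfl)
  haveI : Module.Free R ((X × Y) × (N × N')) := Module.Free.of_equiv e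
  exact Module.IsStablyFree.of_free_prod R (X × Y) (N × N')

end StablyFree

section Main

variable {R : Type u} [CommRing R] (I : Ideal R)

/-- **S7011**: lifting bounded above complexes of finite stably free modules, `I ⊆ rad R` -/
theorem exists_lift_complex_of_le_jacobson (hI : I ≤ Ideal.jacobson (⊥ : Ideal R))
    [DRing.HasLBaseChange (Ideal.Quotient.mk I)] (K : Dual.D R)
    (hK : DRing.IsPseudoCoherent' R K) (E : DRing.Cx (R ⧸ I)) (b : ℤ)
    (hEb : DRing.VanishesAbove E b)
    (hEs : ∀ i : ℤ, Module.Finite (R ⧸ I) (E.X i) ∧ Module.IsStablyFree (R ⧸ I) (E.X i))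
    (hE : Nonempty (DRing.toD E ≅ (DRing.LBaseChange (Ideal.Quotient.mk I)).obj K)) :
    ∃ (P : DRing.Cx R) (b' : ℤ), DRing.VanishesAbove P b' ∧
      (∀ i : ℤ, Module.Finite R (P.X i) ∧ Module.IsStablyFree R (P.X i)) ∧
      Nonempty (DRing.toD P ≅ K) ∧
      Nonempty ((((ModuleCat.extendScalars (Ideal.Quotient.mk I)).mapHomologicalComplex
        (ComplexShape.up ℤ)).obj P) ≅ E) ∧
      ∀ i : ℤ, Module.Free (R ⧸ I) (E.X i) → Module.Free R (P.X i) := by
  let f : R →+* R ⧸ I := Ideal.Quotient.mk I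
  have hf : Function.Surjective f := Ideal.Quotient.mk_surjective
  have hker : RingHom.ker f = I := Ideal.mk_ker
  have hJ : RingHom.ker f ≤ Ideal.jacobson (⊥ : Ideal R) := hker.le.trans hI
  let Pc : ObjectProperty (ModuleCat.{u} R) :=
    fun X => Module.Finite R X ∧ Module.IsStablyFree R X
  haveI : Pc.IsClosedUnderIsomorphisms :=
    ⟨fun {X Y} e (h : Module.Finite R X ∧ Module.IsStablyFree R X) => by
      haveI := h.1
      haveI := h.2
      exact ⟨Module.Finite.equiv e.toLinearEquiv, Module.IsStablyFree.equiv e.toLinearEquiv⟩⟩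
  have h1 : ∀ X : ModuleCat.{u} R, Pc X → Module.Projective R X := fun X h => by
    haveI := h.2
    infer_instance
  have h2 : ∀ X Y : ModuleCat.{u} R, Pc X → (Pc (ModuleCat.of R (X × Y)) ↔ Pc Y) := by
    intro X Y (hX : Module.Finite R X ∧ Module.IsStablyFree R X)
    haveI := hX.1
    haveI := hX.2
    constructor
    · intro (h : Module.Finite R (X × Y) ∧ Module.IsStablyFree R (X × Y))
      haveI := h.1
      haveI := h.2
      exact ⟨Module.Finite.of_surjective (LinearMap.snd R X Y) LinearMap.snd_surjective,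
        isStablyFree_snd_of_prod X Y⟩
    · intro (hY : Module.Finite R Y ∧ Module.IsStablyFree R Y)
      haveI := hY.1
      haveI := hY.2
      exact ⟨(inferInstance : Module.Finite R (X × Y)), isStablyFree_prod X Y⟩
  have h3 : ∀ (X Y : ModuleCat.{u} R) (g : X ⟶ Y), Pc X → Pc Y →
      LinearMap.range g.hom ⊔ I • (⊤ : Submodule R Y) = ⊤ → Function.Surjective g.hom := by
    intro X Y g _ (hY : Module.Finite R Y ∧ Module.IsStablyFree R Y) h
    haveI := hY.1
    rw [← LinearMap.range_eq_top, eq_top_iff]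
    exact Submodule.le_of_le_smul_of_le_jacobson_bot Module.Finite.fg_top hI h.ge
  obtain ⟨E0, c, hE0c, hE0t, ⟨e0⟩⟩ := hK
  have hK' : ∃ (Q : DRing.Cx R) (c : ℤ), DRing.VanishesAbove Q c ∧ (∀ i : ℤ, Pc (Q.X i)) ∧
      Nonempty (DRing.toD Q ≅ K) :=
    ⟨E0, c, hE0c, fun i => by
      haveI := (hE0t i).1
      haveI := (hE0t i).2
      exact ⟨inferInstance, inferInstance⟩, ⟨e0⟩⟩
  have hEt : ∀ i : ℤ, ∃ X : ModuleCat.{u} R, Pc X ∧
      Nonempty (TensorProduct R (R ⧸ I) X ≃ₗ[R ⧸ I] E.X i) := fun i => by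
    haveI := (hEs i).1
    haveI := (hEs i).2
    obtain ⟨X, hX1, hX2, ⟨r⟩⟩ := exists_stablyFree_lift hf hJ (E.X i)
    exact ⟨X, ⟨hX1, hX2⟩, Red.nonempty_tensorEquiv I r⟩
  obtain ⟨P, b', hPb, hPt, hPK, ⟨ρ⟩⟩ := exists_lift_complex I Pc h1 h2 h3 K hK' E b hEb hEt hE
  refine ⟨P, b', hPb, hPt, hPK, ⟨ρ⟩, fun i hfree => ?_⟩
  haveI := (hPt i).1
  haveI := (hPt i).2
  haveI := (hEs i).1
  let r : Red f (P.X i) (E.X i) :=
    ((Red.ofTensorEquiv I (P.X i) (ModuleCat.of (R ⧸ I) (TensorProduct R (R ⧸ I) (P.X i)))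
      (LinearEquiv.refl _ _)).ofExt f hf).congrRight
      ((HomologicalComplex.eval _ _ i).mapIso ρ).toLinearEquiv
  exact free_of_red_free hf hJ (P.X i) (E.X i) r

end Main

end Groth.Agent.Lib.helper23.Lift
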