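import Mathlib
import Groth.Agent.Lib.Helper26.HenselPairIdem

/-!
# helper23: lifting idempotent matrices over a henselian pair

* `exists_idempotent_matrix_lift_of_henselianRing`: for a henselian pair `(R, I)` every idempotent
  matrix over `R ⧸ I` lifts to an idempotent matrix over `R`.
-/

set_option autoImplicit false
universe u
open Polynomial

namespace Groth.Agent.Lib.helper23.Lift

section MatrixLift

variable {R : Type u} [CommRing R] (I : Ideal R)

/-- the characteristic polynomial of a matrix with entries in `I` is `X ^ n` modulo `I` -/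
lemma charpoly_sub_X_pow_coeff_mem {n : ℕ} (M : Matrix (Fin n) (Fin n) R)
    (hM : M.map (Ideal.Quotient.mk I) = 0) (k : ℕ) : (M.charpoly - X ^ n).coeff k ∈ I := by
  have h1 : (M.charpoly).map (Ideal.Quotient.mk I) = X ^ n := by
    rw [← Matrix.charpoly_map, hM, Matrix.charpoly_zero, Fintype.card_fin]
  have h2 : (M.charpoly - X ^ n).map (Ideal.Quotient.mk I) = 0 := by
    rw [Polynomial.map_sub, h1, Polynomial.map_pow, Polynomial.map_X, sub_self]
  have h3 := congrArg (fun p => p.coeff k) h2
  simp only [Polynomial.coeff_map, Polynomial.coeff_zero] at h3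
  exact Ideal.Quotient.eq_zero_iff_mem.1 h3

open scoped IsMulCommutative in
/-- idempotent matrices lift along a henselian pair -/
theorem exists_idempotent_matrix_lift_of_henselianRing (h : HenselianRing R I) {n : ℕ}
    (E : Matrix (Fin n) (Fin n) (R ⧸ I)) (hE : IsIdempotentElem E) :
    ∃ E' : Matrix (Fin n) (Fin n) R, IsIdempotentElem E' ∧ E'.map (Ideal.Quotient.mk I) = E := by
  classical
  choose E₀ hE₀ using fun i j => Ideal.Quotient.mk_surjective (I := I) (E i j)
  let M₀ : Matrix (Fin n) (Fin n) R := Matrix.of E₀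
  have hM₀ : M₀.map (Ideal.Quotient.mk I) = E := by
    ext i j
    exact hE₀ i j
  let π : Matrix (Fin n) (Fin n) R →+* Matrix (Fin n) (Fin n) (R ⧸ I) :=
    (Ideal.Quotient.mk I).mapMatrix
  have hπ : ∀ M, π M = M.map (Ideal.Quotient.mk I) := fun M => rfl
  let B : Subalgebra R (Matrix (Fin n) (Fin n) R) := Algebra.adjoin R {M₀}
  haveI : Algebra.IsIntegral R B :=
    ⟨fun x => (isIntegral_algHom_iff B.val Subtype.val_injective).1 (Matrix.isIntegral x.1)⟩
  let πB : B →+* Matrix (Fin n) (Fin n) (R ⧸ I) := π.comp B.val.toRingHom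
  have hπB : ∀ x : B, πB x = (x : Matrix (Fin n) (Fin n) R).map (Ideal.Quotient.mk I) :=
    fun x => rfl
  have hle : ∀ x ∈ I.map (algebraMap R B), πB x = 0 := by
    intro x hx
    have h1 : I.map (algebraMap R B) ≤ RingHom.ker πB := by
      rw [Ideal.map_le_iff_le_comap]
      intro a ha
      rw [Ideal.mem_comap, RingHom.mem_ker, hπB]
      ext i j
      rw [Matrix.map_apply, Matrix.zero_apply]
      have h2 : ((algebraMap R B a : B) : Matrix (Fin n) (Fin n) R) =
          algebraMap R (Matrix (Fin n) (Fin n) R) a := rfl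
      rw [h2, Matrix.algebraMap_matrix_apply]
      split_ifs
      · exact Ideal.Quotient.eq_zero_iff_mem.2 ha
      · exact map_zero _
    exact RingHom.mem_ker.1 (h1 hx)
  let f₁ : B ⧸ I.map (algebraMap R B) →+* Matrix (Fin n) (Fin n) (R ⧸ I) :=
    Ideal.Quotient.lift _ πB hle
  have hf₁ : ∀ x : B, f₁ (Ideal.Quotient.mk _ x) = πB x := fun x => Ideal.Quotient.lift_mk _ _ _
  have hnil : ∀ y ∈ RingHom.ker f₁, IsNilpotent y := by
    intro y hy
    obtain ⟨x, rfl⟩ := Ideal.Quotient.mk_surjective y
    rw [RingHom.mem_ker, hf₁, hπB] at hy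
    refine ⟨n, ?_⟩
    rw [← map_pow, Ideal.Quotient.eq_zero_iff_mem]
    set M : Matrix (Fin n) (Fin n) R := (x : Matrix (Fin n) (Fin n) R) with hMdef
    have h1 : aeval x M.charpoly = 0 := by
      apply Subtype.val_injective
      have h2 : ((aeval x M.charpoly : B) : Matrix (Fin n) (Fin n) R) = aeval M M.charpoly :=
        (Polynomial.aeval_algHom_apply B.val x M.charpoly).symm
      rw [h2, Matrix.aeval_self_charpoly]
      rfl
    have h3 : x ^ n = -aeval x (M.charpoly - X ^ n) := by
      rw [map_sub, h1, map_pow, aeval_X, zero_sub, neg_neg]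
    rw [h3]
    refine neg_mem ?_
    rw [Polynomial.aeval_eq_sum_range]
    refine Ideal.sum_mem _ fun k _ => ?_
    rw [Algebra.smul_def]
    exact Ideal.mul_mem_right _ _
      (Ideal.mem_map_of_mem _ (charpoly_sub_X_pow_coeff_mem I M hy k))
  have hrange : E ∈ f₁.range :=
    ⟨Ideal.Quotient.mk _ ⟨M₀, Algebra.subset_adjoin (Set.mem_singleton M₀)⟩, by
      rw [hf₁, hπB]; exact hM₀⟩
  obtain ⟨e₁, he₁, h₁⟩ := exists_isIdempotentElem_eq_of_ker_isNilpotent f₁ hnil E hrange hE
  obtain ⟨e, he, he'⟩ :=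
    Groth.Agent.Lib.helper26.HenselPair.exists_idempotent_lift_of_henselianRing h B e₁ he₁
  refine ⟨(e : Matrix (Fin n) (Fin n) R), ?_, ?_⟩
  · have h4 := congrArg Subtype.val he.eq
    exact h4
  · rw [← hπB, ← hf₁, he', h₁]

end MatrixLift

end Groth.Agent.Lib.helper23.Lift
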