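import Mathlib
import Groth.Prelude.Def_DRing2
import Groth.Prelude.Def_DDual2
import Groth.Agent.Lib.Helper23.Lift10
import Groth.Agent.Lib.Helper23.Lift11
import Groth.Agent.Lib.Helper8.NilLift

/-!
# helper23: lifting complexes along `R → R/I`, part 12 — henselian pairs (S6973)

* `exists_projective_lift_of_matrix_lift`: finite projective modules lift along `R → S` as soon as
  idempotent matrices do (the proof is helper8's `NilLift.exists_projective_lift'`, with the matrix
  lifting as a hypothesis);
* `exists_lift_complex_of_henselian`: S6973.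
-/

set_option autoImplicit false
universe u
open CategoryTheory CategoryTheory.Limits TensorProduct

attribute [local instance] HasDerivedCategory.standard

namespace Groth.Agent.Lib.helper23.Lift

section ProjLift

variable {R S : Type u} [CommRing R] [CommRing S] [Algebra R S]

open Groth.Agent.Lib.helper8.NilLift in
/-- finite projective modules lift as soon as idempotent matrices do -/
theorem exists_projective_lift_of_matrix_lift
    (hlift : ∀ (n : ℕ) (E : Matrix (Fin n) (Fin n) S), IsIdempotentElem E →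
      ∃ E' : Matrix (Fin n) (Fin n) R, IsIdempotentElem E' ∧ E'.map (algebraMap R S) = E)
    (N : Type u) [AddCommGroup N] [Module S N] [Module.Finite S N] [Module.Projective S N] :
    ∃ (n : ℕ) (M : Submodule R (Fin n → R)), Module.Projective R M ∧ Module.Finite R M ∧
      Nonempty (S ⊗[R] M ≃ₗ[S] N) := by
  classical
  obtain ⟨n, q, hq⟩ := Module.Finite.exists_fin' S N
  obtain ⟨j, hj⟩ := Module.projective_lifting_property q LinearMap.id hq
  have hqj : ∀ x, q (j x) = x := fun x => by
    have := congrArg (fun φ => φ x) hj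
    simpa using this
  set e : (Fin n → S) →ₗ[S] (Fin n → S) := j ∘ₗ q with he
  set E : Matrix (Fin n) (Fin n) S := LinearMap.toMatrix' e with hEdef
  have hE : IsIdempotentElem E := by
    show E * E = E
    have hee : e ∘ₗ e = e := LinearMap.ext fun x => by simp [he, hqj]
    rw [hEdef, ← LinearMap.toMatrix'_comp, hee]
  obtain ⟨E', hE', hmap⟩ := hlift n E hE
  set e' : (Fin n → R) →ₗ[R] (Fin n → R) := Matrix.toLin' E' with he'
  have he'idem : e' ∘ₗ e' = e' := by
    rw [he', ← Matrix.toLin'_mul, hE'.eq]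
  have heE : Matrix.toLin' E = e := by rw [hEdef, Matrix.toLin'_toMatrix']
  set M : Submodule R (Fin n → R) := LinearMap.range e' with hM
  set i : M →ₗ[R] (Fin n → R) := M.subtype with hi
  set p : (Fin n → R) →ₗ[R] M := e'.rangeRestrict with hp
  have hip : i ∘ₗ p = e' := LinearMap.ext fun x => by simp [hi, hp]
  have hpi : p ∘ₗ i = LinearMap.id := by
    ext ⟨x, y, rfl⟩ : 1
    apply Subtype.ext
    have := congrArg (fun φ => φ y) he'idem
    simpa [hi, hp] using this
  refine ⟨n, M, Module.Projective.of_split i p hpi, ?_, ?_⟩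
  · exact Module.Finite.range e'
  set β := TensorProduct.piScalarRight R S S (Fin n) with hβ
  have hcompat : β.toLinearMap ∘ₗ e'.baseChange S = e ∘ₗ β.toLinearMap := by
    rw [he', hβ, piScalarRight_comp_baseChange_toLin', hmap, heE]
  have hcompat' : ∀ z, β (e'.baseChange S z) = e (β z) := fun z => by
    have := congrArg (fun φ => φ z) hcompat
    simpa using this
  have hbc_ip : ∀ z, i.baseChange S (p.baseChange S z) = e'.baseChange S z := fun z => by
    rw [← LinearMap.comp_apply, ← LinearMap.baseChange_comp, hip]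
  have hbc_pi : ∀ z, p.baseChange S (i.baseChange S z) = z := fun z => by
    rw [← LinearMap.comp_apply, ← LinearMap.baseChange_comp, hpi, LinearMap.baseChange_id,
      LinearMap.id_apply]
  refine ⟨LinearEquiv.ofLinearMap (q ∘ₗ β.toLinearMap ∘ₗ i.baseChange S)
    (p.baseChange S ∘ₗ β.symm.toLinearMap ∘ₗ j) ?_ ?_⟩
  · ext x : 1
    simp only [LinearMap.comp_apply, LinearEquiv.coe_coe, LinearMap.id_apply]
    rw [hbc_ip, hcompat', LinearEquiv.apply_symm_apply, he, LinearMap.comp_apply, hqj, hqj]
  · apply LinearMap.ext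
    intro z
    simp only [LinearMap.comp_apply, LinearEquiv.coe_coe, LinearMap.id_apply]
    have h1 : j (q (β (i.baseChange S z))) = β (e'.baseChange S (i.baseChange S z)) := by
      rw [hcompat', he, LinearMap.comp_apply]
    rw [h1, LinearEquiv.symm_apply_apply, ← hbc_ip, hbc_pi, hbc_pi]

end ProjLift

section Main

variable {R : Type u} [CommRing R] (I : Ideal R)

/-- **S6973**: lifting bounded above complexes of finite projective modules over a henselian
pair -/
theorem exists_lift_complex_of_henselian [HenselianRing R I]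
    [DRing.HasLBaseChange (Ideal.Quotient.mk I)] (K : Dual.D R)
    (hK : DRing.IsPseudoCoherent' R K) (E : DRing.Cx (R ⧸ I)) (b : ℤ)
    (hEb : DRing.VanishesAbove E b) (hEp : DRing.TermwiseFiniteProjective E)
    (hE : Nonempty (DRing.toD E ≅ (DRing.LBaseChange (Ideal.Quotient.mk I)).obj K)) :
    ∃ (P : DRing.Cx R) (b' : ℤ), DRing.VanishesAbove P b' ∧ DRing.TermwiseFiniteProjective P ∧
      Nonempty (DRing.toD P ≅ K) ∧
      Nonempty ((((ModuleCat.extendScalars (Ideal.Quotient.mk I)).mapHomologicalComplex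
        (ComplexShape.up ℤ)).obj P) ≅ E) ∧
      ∀ i : ℤ, Module.Free (R ⧸ I) (E.X i) → Module.Free R (P.X i) := by
  have hH : HenselianRing R I := inferInstance
  have hI : I ≤ Ideal.jacobson (⊥ : Ideal R) := hH.jac
  let f : R →+* R ⧸ I := Ideal.Quotient.mk I
  have hf : Function.Surjective f := Ideal.Quotient.mk_surjective
  have hker : RingHom.ker f = I := Ideal.mk_ker
  have hJ : RingHom.ker f ≤ Ideal.jacobson (⊥ : Ideal R) := hker.le.trans hI
  let Pc : ObjectProperty (ModuleCat.{u} R) :=
    fun X => Module.Finite R X ∧ Module.Projective R X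
  haveI : Pc.IsClosedUnderIsomorphisms :=
    ⟨fun {X Y} e (h : Module.Finite R X ∧ Module.Projective R X) => by
      haveI := h.1
      haveI := h.2
      exact ⟨Module.Finite.equiv e.toLinearEquiv, Module.Projective.of_equiv e.toLinearEquiv⟩⟩
  have h1 : ∀ X : ModuleCat.{u} R, Pc X → Module.Projective R X := fun X h => h.2
  have h2 : ∀ X Y : ModuleCat.{u} R, Pc X → (Pc (ModuleCat.of R (X × Y)) ↔ Pc Y) := by
    intro X Y (hX : Module.Finite R X ∧ Module.Projective R X)
    haveI := hX.1
    haveI := hX.2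
    constructor
    · intro (h : Module.Finite R (X × Y) ∧ Module.Projective R (X × Y))
      haveI := h.1
      haveI := h.2
      exact ⟨Module.Finite.of_surjective (LinearMap.snd R X Y) LinearMap.snd_surjective,
        Module.Projective.of_split (LinearMap.inr R X Y) (LinearMap.snd R X Y)
          (LinearMap.ext fun y => rfl)⟩
    · intro (hY : Module.Finite R Y ∧ Module.Projective R Y)
      haveI := hY.1
      haveI := hY.2
      exact ⟨(inferInstance : Module.Finite R (X × Y)),
        (inferInstance : Module.Projective R (X × Y))⟩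
  have h3 : ∀ (X Y : ModuleCat.{u} R) (g : X ⟶ Y), Pc X → Pc Y →
      LinearMap.range g.hom ⊔ I • (⊤ : Submodule R Y) = ⊤ → Function.Surjective g.hom := by
    intro X Y g _ (hY : Module.Finite R Y ∧ Module.Projective R Y) h
    haveI := hY.1
    rw [← LinearMap.range_eq_top, eq_top_iff]
    exact Submodule.le_of_le_smul_of_le_jacobson_bot Module.Finite.fg_top hI h.ge
  obtain ⟨E0, c, hE0c, hE0t, ⟨e0⟩⟩ := hK
  have hK' : ∃ (Q : DRing.Cx R) (c : ℤ), DRing.VanishesAbove Q c ∧ (∀ i : ℤ, Pc (Q.X i)) ∧
      Nonempty (DRing.toD Q ≅ K) :=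
    ⟨E0, c, hE0c, fun i => by
      haveI := (hE0t i).1
      haveI := (hE0t i).2
      exact ⟨inferInstance, inferInstance⟩, ⟨e0⟩⟩
  have hlift : ∀ (n : ℕ) (M : Matrix (Fin n) (Fin n) (R ⧸ I)), IsIdempotentElem M →
      ∃ M' : Matrix (Fin n) (Fin n) R, IsIdempotentElem M' ∧
        M'.map (algebraMap R (R ⧸ I)) = M :=
    fun n M hM => exists_idempotent_matrix_lift_of_henselianRing I hH M hM
  have hEt : ∀ i : ℤ, ∃ X : ModuleCat.{u} R, Pc X ∧
      Nonempty (TensorProduct R (R ⧸ I) X ≃ₗ[R ⧸ I] E.X i) := fun i => by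
    haveI := (hEp i).1
    haveI := (hEp i).2
    obtain ⟨n, M, hM1, hM2, ⟨e⟩⟩ := exists_projective_lift_of_matrix_lift hlift (E.X i)
    exact ⟨ModuleCat.of R M, ⟨hM2, hM1⟩, ⟨e⟩⟩
  obtain ⟨P, b', hPb, hPt, hPK, ⟨ρ⟩⟩ := exists_lift_complex I Pc h1 h2 h3 K hK' E b hEb hEt hE
  refine ⟨P, b', hPb, hPt, hPK, ⟨ρ⟩, fun i hfree => ?_⟩
  haveI := (hPt i).1
  haveI := (hPt i).2
  haveI := (hEp i).1
  let r : Red f (P.X i) (E.X i) :=
    ((Red.ofTensorEquiv I (P.X i) (ModuleCat.of (R ⧸ I) (TensorProduct R (R ⧸ I) (P.X i)))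
      (LinearEquiv.refl _ _)).ofExt f hf).congrRight
      ((HomologicalComplex.eval _ _ i).mapIso ρ).toLinearEquiv
  exact free_of_red_free hf hJ (P.X i) (E.X i) r

end Main

end Groth.Agent.Lib.helper23.Lift
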