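import Mathlib
import Groth.Prelude.Def_DRing2
import Groth.Agent.Lib.Helper23.Lift9

/-!
# helper23: minimal complexes over a local ring, part 1 — tools

* `exists_equiv_of_red_free`: refinement of `free_of_red_free` recording the rank;
* `bijective_of_sub_id_mem`: an endomorphism of a finite module which is the identity modulo an
  ideal in the Jacobson radical is bijective;
* `d_eq_zero_of_finrank_homology_eq`: over a field, `dim H^i(V) = dim V^i` forces `d^i = 0`;
* `H0 V`, `sH V : H0 V ⟶ V`, `quasiIso_sH`: over a field every complex is quasi-isomorphic to its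
  cohomology with zero differentials.
-/

set_option autoImplicit false
universe u
open CategoryTheory CategoryTheory.Limits TensorProduct

namespace Groth.Agent.Lib.helper23.Lift

section Rank

variable {A B : Type u} [CommRing A] [CommRing B] {f : A →+* B}

/-- a finite projective module whose reduction is free is free of the same rank -/
theorem exists_equiv_of_red_free (hf : Function.Surjective f)
    (hJ : RingHom.ker f ≤ Ideal.jacobson (⊥ : Ideal A)) (X : ModuleCat.{u} A)
    [Module.Finite A X] [Module.Projective A X] (W : ModuleCat.{u} B) (r : Red f X W)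
    [Module.Finite B W] [Module.Free B W] :
    ∃ n : ℕ, Nonempty ((Fin n → A) ≃ₗ[A] X) ∧ Nonempty ((Fin n → B) ≃ₗ[B] W) := by
  let n := Fintype.card (Module.Free.ChooseBasisIndex B W)
  let β : Module.Basis (Fin n) B W :=
    (Module.Free.chooseBasis B W).reindex (Fintype.equivFin (Module.Free.ChooseBasisIndex B W))
  let r0 := Red.ofBasis f hf β
  obtain ⟨φ, hφ⟩ := r.exists_lift (Fin n → A) r0.map
  have hsurj : Function.Surjective φ :=
    surjective_of_red (X := ModuleCat.of A (Fin n → A)) hJ r r0.map r0.surj LinearMap.id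
      (fun w => ⟨w, rfl⟩) φ hφ
  obtain ⟨σ, hσ⟩ := Module.projective_lifting_property φ LinearMap.id hsurj
  have hσ' : ∀ l, φ (σ l) = l := fun l => LinearMap.congr_fun hσ l
  have hker : (⊤ : Submodule A (LinearMap.ker φ)) ≤
      (RingHom.ker f) • (⊤ : Submodule A (LinearMap.ker φ)) := by
    intro p _
    have h1 : r0.map (p : Fin n → A) = 0 := by
      rw [← hφ, LinearMap.mem_ker.1 p.2, map_zero]
    have h2 := map_mem_smul_top _ (kerProj φ σ hσ') _ (r0.ker _ h1)
    rw [kerProj_of_mem] at h2
    exact h2
  haveI : Module.Finite A (LinearMap.ker φ) :=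
    Module.Finite.of_surjective (kerProj φ σ hσ') (fun p => ⟨p, kerProj_of_mem φ σ hσ' p⟩)
  have hbot : (⊤ : Submodule A (LinearMap.ker φ)) = ⊥ :=
    Submodule.eq_bot_of_le_smul_of_le_jacobson_bot _ _ Module.Finite.fg_top hker hJ
  have hinj : Function.Injective φ := by
    rw [← LinearMap.ker_eq_bot, eq_bot_iff]
    intro v hv
    have h3 : (⟨v, hv⟩ : LinearMap.ker φ) ∈ (⊥ : Submodule A (LinearMap.ker φ)) := by
      rw [← hbot]
      exact Submodule.mem_top
    rw [Submodule.mem_bot] at h3 ⊢
    exact congrArg Subtype.val h3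
  exact ⟨n, ⟨LinearEquiv.ofBijective φ ⟨hinj, hsurj⟩⟩, ⟨β.equivFun.symm⟩⟩

/-- an endomorphism of a finite module which is the identity modulo an ideal in the Jacobson
radical is bijective -/
theorem bijective_of_sub_id_mem {J : Ideal A} (hJ : J ≤ Ideal.jacobson (⊥ : Ideal A))
    {X : Type u} [AddCommGroup X] [Module A X] [Module.Finite A X] (φ : X →ₗ[A] X)
    (h : ∀ x, φ x - x ∈ J • (⊤ : Submodule A X)) : Function.Bijective φ := by
  have hsurj : Function.Surjective φ := by
    rw [← LinearMap.range_eq_top, eq_top_iff]
    refine Submodule.le_of_le_smul_of_le_jacobson_bot Module.Finite.fg_top hJ ?_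
    intro x _
    refine Submodule.mem_sup.2 ⟨φ x, LinearMap.mem_range_self _ _, x - φ x, ?_, by abel⟩
    have := h x
    rw [← neg_sub]
    exact neg_mem this
  exact ⟨OrzechProperty.injective_of_surjective_endomorphism φ hsurj, hsurj⟩

end Rank

section Field

variable {κ : Type u} [Field κ] (V : DRing.Cx κ)

/-- over a field, `dim H^i(V) = dim V^i` forces `d^i = 0` -/
theorem d_eq_zero_of_finrank_homology_eq (i j : ℤ) [Module.Finite κ (V.X i)]
    (h : Module.finrank κ (V.homology i) = Module.finrank κ (V.X i)) : V.d i j = 0 := by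
  have hinj : Function.Injective (V.iCycles i).hom :=
    (ModuleCat.mono_iff_injective (V.iCycles i)).1 inferInstance
  have hsurjπ : Function.Surjective (V.homologyπ i).hom :=
    (ModuleCat.epi_iff_surjective (V.homologyπ i)).1 inferInstance
  haveI : Module.Finite κ (V.cycles i) := Module.Finite.of_injective (V.iCycles i).hom hinj
  have h1 : Module.finrank κ (V.homology i) ≤ Module.finrank κ (V.cycles i) :=
    LinearMap.finrank_le_finrank_of_surjective hsurjπ
  have h2 : Module.finrank κ (V.cycles i) ≤ Module.finrank κ (V.X i) :=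
    LinearMap.finrank_le_finrank_of_injective hinj
  have h3 : Module.finrank κ (V.cycles i) = Module.finrank κ (V.X i) := by omega
  have hsurj : Function.Surjective (V.iCycles i).hom :=
    (LinearMap.injective_iff_surjective_of_finrank_eq_finrank h3).1 hinj
  refine ModuleCat.hom_ext (LinearMap.ext fun x => ?_)
  obtain ⟨z, rfl⟩ := hsurj x
  have h4 := congrArg (fun t => t.hom z) (V.iCycles_d i j)
  exact h4

/-- the cohomology of `V`, as a complex with zero differentials -/
noncomputable def H0 : DRing.Cx κ where
  X i := V.homology i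
  d _ _ := 0
  shape _ _ _ := rfl
  d_comp_d' _ _ _ _ _ := zero_comp

lemma projective_of_field (M : ModuleCat.{u} κ) : Projective M :=
  (IsProjective.iff_projective M).1 (Module.Projective.of_free)

/-- a section of `cycles → homology` -/
noncomputable def secH (i : ℤ) : V.homology i ⟶ V.cycles i :=
  haveI := projective_of_field (V.homology i)
  Projective.factorThru (𝟙 (V.homology i)) (V.homologyπ i)

lemma secH_π (i : ℤ) : secH V i ≫ V.homologyπ i = 𝟙 _ := by
  haveI := projective_of_field (V.homology i)
  exact Projective.factorThru_comp _ _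

/-- the quasi-isomorphism from the cohomology -/
noncomputable def sH : H0 V ⟶ V where
  f i := secH V i ≫ V.iCycles i
  comm' i j _ := by
    show (secH V i ≫ V.iCycles i) ≫ V.d i j = (0 : V.homology i ⟶ V.homology j) ≫ _
    rw [Category.assoc, V.iCycles_d, comp_zero, zero_comp]

instance quasiIso_sH : QuasiIso (sH V) := by
  rw [quasiIso_iff]
  intro i
  rw [quasiIsoAt_iff_isIso_homologyMap]
  have h1 : (H0 V).iCycles i ≫ (sH V).f i = HomologicalComplex.cyclesMap (sH V) i ≫ V.iCycles i :=
    (HomologicalComplex.cyclesMap_i (sH V) i).symm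
  have h2 : HomologicalComplex.cyclesMap (sH V) i = (H0 V).iCycles i ≫ secH V i := by
    rw [← cancel_mono (V.iCycles i), ← h1, Category.assoc]
    rfl
  have h3 : (H0 V).homologyπ i ≫ HomologicalComplex.homologyMap (sH V) i = (H0 V).iCycles i := by
    rw [HomologicalComplex.homologyπ_naturality, h2, Category.assoc]
    exact (congrArg (fun t => (H0 V).iCycles i ≫ t) (secH_π V i)).trans (Category.comp_id _)
  have hi1 : IsIso ((H0 V).iCycles i) :=
    (H0 V).isIso_iCycles i (i + 1) (by simp) rfl
  have hi2 : IsIso ((H0 V).homologyπ i) :=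
    (H0 V).isIso_homologyπ (i - 1) i (by simp) rfl
  have hi3 : IsIso ((H0 V).homologyπ i ≫ HomologicalComplex.homologyMap (sH V) i) := by
    rw [h3]
    exact hi1
  exact @IsIso.of_isIso_comp_left _ _ _ _ _ ((H0 V).homologyπ i) _ hi2 hi3

end Field

end Groth.Agent.Lib.helper23.Lift
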