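import Mathlib
import Groth.Prelude.Def_DRing2
import Groth.Prelude.Def_DDual2
import Groth.Prelude.Def_Wider
import Groth.Agent.Lib.Helper23.Lift10
import Groth.Agent.Lib.Helper23.Lift13

/-!
# helper23: minimal complexes over a local ring, part 2 (S6972)
-/

set_option autoImplicit false
universe u
open CategoryTheory CategoryTheory.Limits TensorProduct

attribute [local instance] HasDerivedCategory.standard

namespace Groth.Agent.Lib.helper23.Lift

open DerivedCategory

section Quot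

variable {R : Type u} [CommRing R] (I : Ideal R)

/-- the reduction `X → R/I ⊗ X` -/
noncomputable def redExt (X : ModuleCat.{u} R) :
    Red (Ideal.Quotient.mk I) X ((ModuleCat.extendScalars.{u, u, u} (Ideal.Quotient.mk I)).obj X) :=
  (Red.ofTensorEquiv I X (ModuleCat.of (R ⧸ I) (TensorProduct R (R ⧸ I) X))
    (LinearEquiv.refl _ _)).ofExt (Ideal.Quotient.mk I) Ideal.Quotient.mk_surjective

/-- extension of scalars of complexes along `R → R/I` -/
noncomputable abbrev extI : DRing.Cx R ⥤ DRing.Cx (R ⧸ I) :=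
  (ModuleCat.extendScalars.{u, u, u} (Ideal.Quotient.mk I)).mapHomologicalComplex
    (ComplexShape.up ℤ)

lemma redExt_comm (P : DRing.Cx R) (i j : ℤ) (x : P.X i) :
    (redExt I (P.X j)).map (P.d i j x) = ((extI I).obj P).d i j ((redExt I (P.X i)).map x) :=
  rfl

variable [DRing.HasLBaseChange (Ideal.Quotient.mk I)]

/-- the cohomology of `K ⊗^L R/I` computed through a bounded above flat representative -/
theorem nonempty_HD_equiv (K : Dual.D R) (G : DRing.Cx R) (c : ℤ) (hGc : DRing.VanishesAbove G c)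
    (hfl : DRing.TermwiseFlat G) (e : DRing.toD G ≅ K) (i : ℤ) :
    Nonempty (Dual.HD (R ⧸ I) ((DRing.LBaseChange (Ideal.Quotient.mk I)).obj K) i ≃ₗ[R ⧸ I]
      ((extI I).obj G).homology i) := by
  obtain ⟨e1⟩ := Groth.Agent.Lib.helper23.LBCComp.lbc_iso (Ideal.Quotient.mk I) G c hGc hfl
  exact ⟨((DerivedCategory.homologyFunctor _ i).mapIso
    ((DRing.LBaseChange (Ideal.Quotient.mk I)).mapIso e.symm ≪≫ e1) ≪≫
    (DerivedCategory.homologyFunctorFactors _ i).app _).toLinearEquiv⟩

end Quot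

section FiniteHomology

variable {κ : Type u} [Field κ] (V : DRing.Cx κ)

lemma finite_homology (i : ℤ) [Module.Finite κ (V.X i)] : Module.Finite κ (V.homology i) := by
  have hinj : Function.Injective (V.iCycles i).hom :=
    (ModuleCat.mono_iff_injective (V.iCycles i)).1 inferInstance
  have hsurjπ : Function.Surjective (V.homologyπ i).hom :=
    (ModuleCat.epi_iff_surjective (V.homologyπ i)).1 inferInstance
  haveI : Module.Finite κ (V.cycles i) := Module.Finite.of_injective (V.iCycles i).hom hinj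
  exact Module.Finite.of_surjective (V.homologyπ i).hom hsurjπ

end FiniteHomology

section Minimal

variable {R : Type u} [CommRing R] (I : Ideal R) [I.IsMaximal]
  [DRing.HasLBaseChange (Ideal.Quotient.mk I)]

omit [DRing.HasLBaseChange (Ideal.Quotient.mk I)] in
/-- ranks of a finite free module and of its reduction -/
lemma finrank_ext_eq (hI : I ≤ Ideal.jacobson (⊥ : Ideal R)) (X : ModuleCat.{u} R)
    [Module.Finite R X] [Module.Free R X] (W : ModuleCat.{u} (R ⧸ I))
    (r : Red (Ideal.Quotient.mk I) X W) :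
    Module.finrank (R ⧸ I) W = Module.finrank R X := by
  haveI : Nontrivial R := ⟨⟨0, 1, fun h => (Ideal.IsMaximal.ne_top (I := I) inferInstance)
    ((Ideal.eq_top_iff_one I).2 (h ▸ I.zero_mem))⟩⟩
  have hJ : RingHom.ker (Ideal.Quotient.mk I) ≤ Ideal.jacobson (⊥ : Ideal R) :=
    (Ideal.mk_ker (I := I)).le.trans hI
  haveI : Module.Finite (R ⧸ I) W := Module.Finite.of_surjective r.map r.surj
  letI : Field (R ⧸ I) := Ideal.Quotient.field I
  haveI : Module.Free (R ⧸ I) W := Module.Free.of_divisionRing (R ⧸ I) W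
  obtain ⟨n, ⟨e1⟩, ⟨e2⟩⟩ := exists_equiv_of_red_free (f := Ideal.Quotient.mk I)
    Ideal.Quotient.mk_surjective hJ X W r
  rw [← e1.finrank_eq, ← e2.finrank_eq, Module.finrank_fin_fun, Module.finrank_fin_fun]

/-- the differentials of a minimal complex vanish modulo `I` -/
theorem d_mem_of_minimal (hI : I ≤ Ideal.jacobson (⊥ : Ideal R)) (K : Dual.D R) (P : DRing.Cx R)
    (b : ℤ) (hPb : DRing.VanishesAbove P b)
    (hP : ∀ i : ℤ, Module.Free R (P.X i) ∧ Module.Finite R (P.X i) ∧
      Module.finrank R (P.X i) = Module.finrank (R ⧸ I)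
        (Dual.HD (R ⧸ I) ((DRing.LBaseChange (Ideal.Quotient.mk I)).obj K) i))
    (e : DRing.toD P ≅ K) (i j : ℤ) (x : P.X i) :
    P.d i j x ∈ (RingHom.ker (Ideal.Quotient.mk I)) • (⊤ : Submodule R (P.X j)) := by
  have hfl : DRing.TermwiseFlat P := fun i => by
    haveI := (hP i).1
    infer_instance
  obtain ⟨eH⟩ := nonempty_HD_equiv I K P b hPb hfl e i
  haveI := (hP i).1
  haveI := (hP i).2.1
  haveI : Module.Finite (R ⧸ I) (((extI I).obj P).X i) :=
    Module.Finite.of_surjective (redExt I (P.X i)).map (redExt I (P.X i)).surj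
  have h1 : Module.finrank (R ⧸ I) (((extI I).obj P).X i) = Module.finrank R (P.X i) :=
    finrank_ext_eq I hI (P.X i) _ (redExt I (P.X i))
  have h2 : Module.finrank (R ⧸ I) (((extI I).obj P).homology i) =
      Module.finrank (R ⧸ I) (((extI I).obj P).X i) := by
    rw [h1, (hP i).2.2, eH.finrank_eq]
  letI : Field (R ⧸ I) := Ideal.Quotient.field I
  have h3 := d_eq_zero_of_finrank_homology_eq (κ := R ⧸ I) ((extI I).obj P) i j h2
  apply (redExt I (P.X j)).ker
  rw [redExt_comm, h3]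
  rfl

/-- K-projective complexes isomorphic in the derived category are homotopy equivalent -/
lemma nonempty_homotopyEquiv_of_Q_iso (P Q' : DRing.Cx R) [P.IsKProjective] [Q'.IsKProjective]
    (e : Q.obj P ≅ Q.obj Q') : Nonempty (HomotopyEquiv P Q') := by
  obtain ⟨u, hu⟩ :=
    Groth.Agent.Lib.Helper14.KProjLift.Q_map_surjective_of_isKProjective P Q' e.hom
  obtain ⟨v, hv⟩ :=
    Groth.Agent.Lib.Helper14.KProjLift.Q_map_surjective_of_isKProjective Q' P e.inv
  obtain ⟨h1⟩ := Groth.Agent.Lib.Helper14.KProjLift.homotopy_of_Q_map_eq P P (u ≫ v) (𝟙 P)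
    (by rw [Functor.map_comp, hu, hv, e.hom_inv_id, CategoryTheory.Functor.map_id])
  obtain ⟨h2⟩ := Groth.Agent.Lib.Helper14.KProjLift.homotopy_of_Q_map_eq Q' Q' (v ≫ u) (𝟙 Q')
    (by rw [Functor.map_comp, hu, hv, e.inv_hom_id, CategoryTheory.Functor.map_id])
  exact ⟨⟨u, v, h1, h2⟩⟩

lemma isKProjective_of_free (P : DRing.Cx R) (b : ℤ) (hPb : DRing.VanishesAbove P b)
    (hP : ∀ i : ℤ, Module.Free R (P.X i)) : P.IsKProjective := by
  haveI : P.IsStrictlyLE b := by
    rw [CochainComplex.isStrictlyLE_iff]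
    exact fun i hi => hPb i hi
  haveI : ∀ n : ℤ, Projective (P.X n) := fun n => by
    haveI := hP n
    exact (IsProjective.iff_projective (P.X n)).1 inferInstance
  exact CochainComplex.isKProjective_of_projective P b

omit [I.IsMaximal] [DRing.HasLBaseChange (Ideal.Quotient.mk I)] in
/-- the components of `u ≫ v` are bijective when `u ≫ v ∼ 𝟙` and the differentials vanish mod `I` -/
lemma bijective_of_homotopy_id (hI : I ≤ Ideal.jacobson (⊥ : Ideal R)) (P : DRing.Cx R)
    (hPf : ∀ i : ℤ, Module.Finite R (P.X i))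
    (hd : ∀ (i j : ℤ) (x : P.X i),
      P.d i j x ∈ (RingHom.ker (Ideal.Quotient.mk I)) • (⊤ : Submodule R (P.X j)))
    (w : P ⟶ P) (h : Homotopy w (𝟙 P)) (i : ℤ) : Function.Bijective (w.f i).hom := by
  haveI := hPf i
  have hJ : RingHom.ker (Ideal.Quotient.mk I) ≤ Ideal.jacobson (⊥ : Ideal R) :=
    (Ideal.mk_ker (I := I)).le.trans hI
  refine bijective_of_sub_id_mem hJ (w.f i).hom (fun x => ?_)
  have e1 : w.f i = P.d i (i + 1) ≫ h.hom (i + 1) i + h.hom i (i - 1) ≫ P.d (i - 1) i +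
      (𝟙 P : P ⟶ P).f i := by
    have h0 := h.comm i
    rw [dNext_eq h.hom (show (ComplexShape.up ℤ).Rel i (i + 1) by simp),
      prevD_eq h.hom (show (ComplexShape.up ℤ).Rel (i - 1) i by simp)] at h0
    exact h0
  have e2 : (w.f i).hom x - x = (h.hom (i + 1) i).hom ((P.d i (i + 1)).hom x) +
      (P.d (i - 1) i).hom ((h.hom i (i - 1)).hom x) := by
    have := congrArg (fun t => t.hom x) e1
    simp only [ModuleCat.hom_add, ModuleCat.hom_comp, LinearMap.add_apply, LinearMap.comp_apply,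
      HomologicalComplex.id_f, ModuleCat.hom_id, LinearMap.id_apply] at this
    rw [this]
    abel
  rw [e2]
  exact add_mem (map_mem_smul_top _ (h.hom (i + 1) i).hom _ (hd i (i + 1) x)) (hd (i - 1) i _)

/-- **S6972**, for a maximal ideal contained in the Jacobson radical -/
theorem minimal_complex_aux (hI : I ≤ Ideal.jacobson (⊥ : Ideal R)) (K : Dual.D R)
    (hK : DRing.IsPseudoCoherent' R K) :
    (∀ i : ℤ, Module.Finite (R ⧸ I)
      (Dual.HD (R ⧸ I) ((DRing.LBaseChange (Ideal.Quotient.mk I)).obj K) i)) ∧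
    (∃ b : ℤ, ∀ i : ℤ, b < i → Subsingleton
      (Dual.HD (R ⧸ I) ((DRing.LBaseChange (Ideal.Quotient.mk I)).obj K) i)) ∧
    (∃ P : DRing.Cx R, (∃ b : ℤ, DRing.VanishesAbove P b) ∧
      (∀ i : ℤ, Module.Free R (P.X i) ∧ Module.Finite R (P.X i) ∧
        Module.finrank R (P.X i) = Module.finrank (R ⧸ I)
          (Dual.HD (R ⧸ I) ((DRing.LBaseChange (Ideal.Quotient.mk I)).obj K) i)) ∧
      Nonempty (DRing.toD P ≅ K)) ∧
    ∀ P Q' : DRing.Cx R,
      ((∃ b : ℤ, DRing.VanishesAbove P b) ∧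
        (∀ i : ℤ, Module.Free R (P.X i) ∧ Module.Finite R (P.X i) ∧
          Module.finrank R (P.X i) = Module.finrank (R ⧸ I)
            (Dual.HD (R ⧸ I) ((DRing.LBaseChange (Ideal.Quotient.mk I)).obj K) i)) ∧
        Nonempty (DRing.toD P ≅ K)) →
      ((∃ b : ℤ, DRing.VanishesAbove Q' b) ∧
        (∀ i : ℤ, Module.Free R (Q'.X i) ∧ Module.Finite R (Q'.X i) ∧
          Module.finrank R (Q'.X i) = Module.finrank (R ⧸ I)
            (Dual.HD (R ⧸ I) ((DRing.LBaseChange (Ideal.Quotient.mk I)).obj K) i)) ∧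
        Nonempty (DRing.toD Q' ≅ K)) → Nonempty (P ≅ Q') := by
  letI : Field (R ⧸ I) := Ideal.Quotient.field I
  have hK' := hK
  obtain ⟨F, c, hFc, hFt, ⟨eF⟩⟩ := hK'
  have hfl : DRing.TermwiseFlat F := fun i => by
    haveI := (hFt i).2
    infer_instance
  let V : DRing.Cx (R ⧸ I) := (extI I).obj F
  have hVfin : ∀ i, Module.Finite (R ⧸ I) (V.X i) := fun i => by
    haveI := (hFt i).1
    exact Module.Finite.of_surjective (redExt I (F.X i)).map (redExt I (F.X i)).surj
  have hVh : ∀ i, Module.Finite (R ⧸ I) (V.homology i) := fun i => by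
    haveI := hVfin i
    exact finite_homology (κ := R ⧸ I) V i
  have eH : ∀ i, Nonempty (Dual.HD (R ⧸ I) ((DRing.LBaseChange (Ideal.Quotient.mk I)).obj K) i
      ≃ₗ[R ⧸ I] V.homology i) := fun i => nonempty_HD_equiv I K F c hFc hfl eF i
  have hVz : ∀ i : ℤ, c < i → IsZero (V.homology i) := fun i hi => by
    have h4 : V.ExactAt i := HomologicalComplex.ExactAt.of_isZero
      (Functor.map_isZero (ModuleCat.extendScalars.{u, u, u} (Ideal.Quotient.mk I)) (hFc i hi))
    rwa [HomologicalComplex.exactAt_iff_isZero_homology] at h4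
  refine ⟨fun i => ?_, ⟨c, fun i hi => ?_⟩, ?_, ?_⟩
  · obtain ⟨e⟩ := eH i
    haveI := hVh i
    exact Module.Finite.equiv e.symm
  · obtain ⟨e⟩ := eH i
    haveI := ModuleCat.subsingleton_of_isZero (hVz i hi)
    exact e.toEquiv.subsingleton
  · -- existence
    let E : DRing.Cx (R ⧸ I) := H0 (κ := R ⧸ I) V
    have hEb : DRing.VanishesAbove E c := fun i hi => hVz i hi
    have hEs : ∀ i : ℤ, Module.Finite (R ⧸ I) (E.X i) ∧ Module.IsStablyFree (R ⧸ I) (E.X i) :=
      fun i => by
        haveI : Module.Free (R ⧸ I) (E.X i) := Module.Free.of_divisionRing (R ⧸ I) (E.X i)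
        exact ⟨hVh i, inferInstance⟩
    obtain ⟨e1⟩ := Groth.Agent.Lib.helper23.LBCComp.lbc_iso (Ideal.Quotient.mk I) F c hFc hfl
    have hE : Nonempty (DRing.toD E ≅ (DRing.LBaseChange (Ideal.Quotient.mk I)).obj K) :=
      ⟨asIso (Q.map (sH (κ := R ⧸ I) V)) ≪≫ e1.symm ≪≫
        (DRing.LBaseChange (Ideal.Quotient.mk I)).mapIso eF⟩
    obtain ⟨P, b', hPb, hPt, hPK, ⟨ρ⟩, hPfree⟩ :=
      exists_lift_complex_of_le_jacobson I hI K hK E c hEb hEs hE
    refine ⟨P, ⟨b', hPb⟩, fun i => ?_, hPK⟩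
    haveI : Module.Free (R ⧸ I) (E.X i) := Module.Free.of_divisionRing (R ⧸ I) (E.X i)
    haveI := hPfree i inferInstance
    haveI := (hPt i).1
    refine ⟨inferInstance, inferInstance, ?_⟩
    obtain ⟨e⟩ := eH i
    have h5 := finrank_ext_eq I hI (P.X i) (E.X i)
      ((redExt I (P.X i)).congrRight ((HomologicalComplex.eval _ _ i).mapIso ρ).toLinearEquiv)
    rw [← h5]
    exact e.finrank_eq.symm
  · -- uniqueness
    rintro P Q' ⟨⟨bP, hPb⟩, hP, ⟨eP⟩⟩ ⟨⟨bQ, hQb⟩, hQ, ⟨eQ⟩⟩
    haveI := isKProjective_of_free P bP hPb (fun i => (hP i).1)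
    haveI := isKProjective_of_free Q' bQ hQb (fun i => (hQ i).1)
    obtain ⟨he⟩ := nonempty_homotopyEquiv_of_Q_iso P Q' (eP ≪≫ eQ.symm)
    have hdP := d_mem_of_minimal I hI K P bP hPb hP eP
    have hdQ := d_mem_of_minimal I hI K Q' bQ hQb hQ eQ
    have b1 := bijective_of_homotopy_id I hI P (fun i => (hP i).2.1) hdP _ he.homotopyHomInvId
    have b2 := bijective_of_homotopy_id I hI Q' (fun i => (hQ i).2.1) hdQ _ he.homotopyInvHomId
    haveI : ∀ n, IsIso (he.hom.f n) := fun n => by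
      rw [ConcreteCategory.isIso_iff_bijective]
      constructor
      · intro x y hxy
        apply (b1 n).1
        show (he.inv.f n).hom ((he.hom.f n).hom x) = (he.inv.f n).hom ((he.hom.f n).hom y)
        exact congrArg _ hxy
      · intro y
        obtain ⟨z, hz⟩ := (b2 n).2 y
        exact ⟨(he.inv.f n).hom z, hz⟩
    haveI : IsIso he.hom := HomologicalComplex.Hom.isIso_of_components he.hom
    exact ⟨asIso he.hom⟩

end Minimal

section Local

variable (R : Type u) [CommRing R] [IsLocalRing R]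

/-- **S6972**: minimal complexes over a local ring -/
theorem minimal_complex [DRing.HasLBaseChange (IsLocalRing.residue R)] (K : Dual.D R)
    (hK : DRing.IsPseudoCoherent' R K) :
    let κ := IsLocalRing.ResidueField R
    let Kκ := (DRing.LBaseChange (IsLocalRing.residue R)).obj K
    let Minimal := fun P : DRing.Cx R => (∃ b : ℤ, DRing.VanishesAbove P b) ∧
      (∀ i : ℤ, Module.Free R (P.X i) ∧ Module.Finite R (P.X i) ∧
        Module.finrank R (P.X i) = Module.finrank κ (Dual.HD κ Kκ i)) ∧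
          Nonempty (DRing.toD P ≅ K)
    (∀ i : ℤ, Module.Finite κ (Dual.HD κ Kκ i)) ∧
      (∃ b : ℤ, ∀ i : ℤ, b < i → Subsingleton (Dual.HD κ Kκ i)) ∧
      (∃ P : DRing.Cx R, Minimal P) ∧
        ∀ P Q : DRing.Cx R, Minimal P → Minimal Q → Nonempty (P ≅ Q) := by
  intro κ Kκ Minimal
  haveI : DRing.HasLBaseChange (Ideal.Quotient.mk (IsLocalRing.maximalIdeal R)) :=
    ‹DRing.HasLBaseChange (IsLocalRing.residue R)›
  have hI : IsLocalRing.maximalIdeal R ≤ Ideal.jacobson (⊥ : Ideal R) :=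
    (IsLocalRing.jacobson_eq_maximalIdeal ⊥ bot_ne_top).ge
  exact minimal_complex_aux (IsLocalRing.maximalIdeal R) hI K hK

end Local

end Groth.Agent.Lib.helper23.Lift
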