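import Mathlib
import Groth.Prelude.Def_DRing2
import Groth.Prelude.Def_DDual2
import Groth.Agent.Lib.Helper23.Lift7
import Groth.Agent.Lib.Helper23.NilDesc2
import Groth.Agent.Lib.Helper8.NilLift

/-!
# helper23: lifting complexes along `R → R/I`, part 8 — nilpotent ideals (S6970)
-/

set_option autoImplicit false
universe u
open CategoryTheory CategoryTheory.Limits TensorProduct

attribute [local instance] HasDerivedCategory.standard

namespace Groth.Agent.Lib.helper23.Lift

section Nilpotent

variable {R : Type u} [CommRing R] (I : Ideal R)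

/-- **S6970**: lifting bounded above complexes of projectives along a nilpotent ideal -/
theorem exists_lift_complex_of_nilpotent (hI : IsNilpotent I)
    [DRing.HasLBaseChange (Ideal.Quotient.mk I)] (K : Dual.D R)
    (E : DRing.Cx (R ⧸ I)) (b : ℤ) (hEb : DRing.VanishesAbove E b)
    (hEp : ∀ i : ℤ, Module.Projective (R ⧸ I) (E.X i))
    (hE : Nonempty (DRing.toD E ≅ (DRing.LBaseChange (Ideal.Quotient.mk I)).obj K)) :
    ∃ (P : DRing.Cx R) (b' : ℤ), DRing.VanishesAbove P b' ∧
      (∀ i : ℤ, Module.Projective R (P.X i)) ∧ Nonempty (DRing.toD P ≅ K) ∧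
      Nonempty ((((ModuleCat.extendScalars (Ideal.Quotient.mk I)).mapHomologicalComplex
        (ComplexShape.up ℤ)).obj P) ≅ E) := by
  let Pc : ObjectProperty (ModuleCat.{u} R) := fun X => Module.Projective R X
  haveI : Pc.IsClosedUnderIsomorphisms :=
    ⟨fun {X Y} e (h : Module.Projective R X) => Module.Projective.of_equiv e.toLinearEquiv⟩
  have h1 : ∀ X : ModuleCat.{u} R, Pc X → Module.Projective R X := fun X h => h
  have h2 : ∀ X Y : ModuleCat.{u} R, Pc X → (Pc (ModuleCat.of R (X × Y)) ↔ Pc Y) := by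
    intro X Y (hX : Module.Projective R X)
    constructor
    · intro (h : Module.Projective R (X × Y))
      exact Module.Projective.of_split (LinearMap.inr R X Y) (LinearMap.snd R X Y)
        (LinearMap.ext fun y => rfl)
    · intro (hY : Module.Projective R Y)
      exact (inferInstance : Module.Projective R (X × Y))
  have h3 : ∀ (X Y : ModuleCat.{u} R) (f : X ⟶ Y), Pc X → Pc Y →
      LinearMap.range f.hom ⊔ I • (⊤ : Submodule R Y) = ⊤ → Function.Surjective f.hom := by
    intro X Y f _ _ h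
    rw [← LinearMap.range_eq_top, eq_top_iff]
    exact Groth.Agent.Lib.helper8.NilLift.le_of_le_sup_smul_of_isNilpotent I hI ⊤
      (LinearMap.range f.hom) h.ge
  obtain ⟨eE⟩ := hE
  have hH : ∀ j : ℤ, b < j → IsZero ((DerivedCategory.homologyFunctor _ j).obj
      ((DRing.LBaseChange (Ideal.Quotient.mk I)).obj K)) := fun j hj => by
    have h4 : E.ExactAt j := HomologicalComplex.ExactAt.of_isZero (hEb j hj)
    rw [HomologicalComplex.exactAt_iff_isZero_homology] at h4
    exact h4.of_iso ((DerivedCategory.homologyFunctor _ j).mapIso eE.symm ≪≫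
      (DerivedCategory.homologyFunctorFactors _ j).app E)
  have hI' := hI
  obtain ⟨n, hn⟩ := hI'
  have hK0 : ∀ j : ℤ, b < j → IsZero ((DerivedCategory.homologyFunctor _ j).obj K) :=
    fun j hj => Groth.Agent.Lib.helper23.NilDesc.isZero_homology_of_family (k := n)
      (fun _ => R ⧸ I) (fun _ => Ideal.Quotient.mk I) (fun _ => Ideal.Quotient.mk_surjective)
      (by rw [Finset.prod_const, Finset.card_univ, Fintype.card_fin, Ideal.mk_ker, hn,
        Ideal.zero_eq_bot]) K b (fun _ => hH) j hj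
  obtain ⟨P0, hP0, hP0b, -, ⟨e0⟩⟩ := Groth.Agent.Lib.helper23.TA.exists_projective_rep hK0
  have hK : ∃ (Q : DRing.Cx R) (c : ℤ), DRing.VanishesAbove Q c ∧ (∀ i : ℤ, Pc (Q.X i)) ∧
      Nonempty (DRing.toD Q ≅ K) :=
    ⟨P0, b, hP0b, fun i => (IsProjective.iff_projective (P0.X i)).2 (hP0 i), ⟨e0⟩⟩
  have hsurj : Function.Surjective (algebraMap R (R ⧸ I)) := Ideal.Quotient.mk_surjective
  have hnil : IsNilpotent (RingHom.ker (algebraMap R (R ⧸ I))) := by
    have : RingHom.ker (algebraMap R (R ⧸ I)) = I := Ideal.mk_ker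
    rw [this]
    exact hI
  have hEt : ∀ i : ℤ, ∃ X : ModuleCat.{u} R, Pc X ∧
      Nonempty (TensorProduct R (R ⧸ I) X ≃ₗ[R ⧸ I] E.X i) := fun i => by
    haveI := hEp i
    obtain ⟨M, hM, ⟨e⟩⟩ := Groth.Agent.Lib.helper8.NilLift.exists_projective_lift_of_projective
      (R := R) (S := R ⧸ I) hsurj hnil (E.X i)
    exact ⟨ModuleCat.of R M, hM, ⟨e⟩⟩
  exact exists_lift_complex I Pc h1 h2 h3 K hK E b hEb hEt ⟨eE⟩

end Nilpotent

end Groth.Agent.Lib.helper23.Lift
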