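import Mathlib

/-!
# Localization of a full subcategory admitting resolutions
-/

set_option autoImplicit false
universe v u v' u'
open CategoryTheory MorphismProperty

namespace Groth.Agent.Lib.helper23.LocSub

variable {D : Type u} [Category.{v} D] (P : ObjectProperty D) (S : MorphismProperty D)
  [S.HasRightCalculusOfFractions]
  (hP : ∀ X : D, ∃ (X' : D) (s : X' ⟶ X), P X' ∧ S s)

include hP in
lemma hasRightCalculusOfFractions : (S.inverseImage P.ι).HasRightCalculusOfFractions where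
  exists_rightFraction X Y φ := by
    obtain ⟨ψ, hψ⟩ := (LeftFraction.mk (W := S) (P.ι.map φ.f) (P.ι.map φ.s)
      φ.hs).exists_rightFraction
    obtain ⟨X', t, hX', ht⟩ := hP ψ.X'
    refine ⟨RightFraction.mk (X' := ⟨X', hX'⟩) (ObjectProperty.homMk (t ≫ ψ.s))
      (S.comp_mem _ _ ht ψ.hs) (ObjectProperty.homMk (t ≫ ψ.f)), ?_⟩
    apply ObjectProperty.hom_ext
    dsimp at hψ ⊢
    simp only [ObjectProperty.FullSubcategory.comp_hom, ObjectProperty.homMk, Category.assoc]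
    rw [hψ]
  ext X Y Y' f₁ f₂ s hs h := by
    obtain ⟨X'', t, ht, h'⟩ := HasRightCalculusOfFractions.ext (W := S) (P.ι.map f₁)
      (P.ι.map f₂) (P.ι.map s) hs (by rw [← Functor.map_comp, h, Functor.map_comp])
    obtain ⟨X', r, hX', hr⟩ := hP X''
    refine ⟨⟨X', hX'⟩, ObjectProperty.homMk (r ≫ t), S.comp_mem _ _ hr ht, ?_⟩
    apply ObjectProperty.hom_ext
    dsimp at h' ⊢
    simp only [ObjectProperty.FullSubcategory.comp_hom, ObjectProperty.homMk, Category.assoc]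
    rw [h']

variable {E : Type u'} [Category.{v'} E] (Q : D ⥤ E) [Q.IsLocalization S]

include hP in
theorem isLocalization : (P.ι ⋙ Q).IsLocalization (S.inverseImage P.ι) := by
  haveI := hasRightCalculusOfFractions P S hP
  have hinv : (S.inverseImage P.ι).IsInvertedBy (P.ι ⋙ Q) :=
    fun X Y f hf => Localization.inverts Q S _ hf
  let L' := (S.inverseImage P.ι).Q
  let G : (S.inverseImage P.ι).Localization ⥤ E := Localization.lift (P.ι ⋙ Q) hinv L'
  let e : L' ⋙ G ≅ P.ι ⋙ Q := Localization.fac _ _ _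
  have nat : ∀ {X Y : P.FullSubcategory} (a : X ⟶ Y),
      G.map (L'.map a) ≫ e.hom.app Y = e.hom.app X ≫ Q.map a.hom := fun a => e.hom.naturality a
  have nat' : ∀ {X Y : P.FullSubcategory} (a : X ⟶ Y),
      G.map (L'.map a) = e.hom.app X ≫ Q.map a.hom ≫ e.inv.app Y := fun {X Y} a => by
    rw [← Category.assoc, ← nat a, Category.assoc, Iso.hom_inv_id_app]
    exact (Category.comp_id _).symm
  haveI : L'.EssSurj := Localization.essSurj L' (S.inverseImage P.ι)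
  haveI : Q.EssSurj := Localization.essSurj Q S
  haveI : G.EssSurj := ⟨fun Y => by
    obtain ⟨X', s, hX', hs⟩ := hP (Q.objPreimage Y)
    exact ⟨L'.obj ⟨X', hX'⟩, ⟨e.app ⟨X', hX'⟩ ≪≫ Localization.isoOfHom Q S s hs ≪≫
      Q.objObjPreimageIso Y⟩⟩⟩
  haveI : G.Full := Functor.full_of_comp_essSurj G L' (fun X₁ X₂ φ => by
    obtain ⟨ψ, hψ⟩ := Localization.exists_rightFraction Q S
      (e.inv.app X₁ ≫ φ ≫ e.hom.app X₂)
    have h1 : Q.map ψ.s ≫ e.inv.app X₁ ≫ φ ≫ e.hom.app X₂ = Q.map ψ.f := by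
      rw [hψ]
      exact ψ.map_s_comp_map Q _
    obtain ⟨X'', t, hX'', ht⟩ := hP ψ.X'
    let s' : (⟨X'', hX''⟩ : P.FullSubcategory) ⟶ X₁ := ObjectProperty.homMk (t ≫ ψ.s)
    let g' : (⟨X'', hX''⟩ : P.FullSubcategory) ⟶ X₂ := ObjectProperty.homMk (t ≫ ψ.f)
    have hs' : (S.inverseImage P.ι) s' := S.comp_mem _ _ ht ψ.hs
    haveI : IsIso (L'.map s') := Localization.inverts L' _ s' hs'
    refine ⟨inv (L'.map s') ≫ L'.map g', ?_⟩
    rw [← cancel_epi (G.map (L'.map s')), ← G.map_comp, IsIso.hom_inv_id_assoc, nat' g', nat' s']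
    have hφ : φ = e.hom.app X₁ ≫ (e.inv.app X₁ ≫ φ ≫ e.hom.app X₂) ≫ e.inv.app X₂ := by
      simp
    rw [hφ]
    simp only [Category.assoc, Iso.inv_hom_id_app_assoc]
    show _ = _ ≫ Q.map (t ≫ ψ.s) ≫ _
    rw [Q.map_comp, Category.assoc, reassoc_of% h1]
    show _ ≫ Q.map (t ≫ ψ.f) ≫ _ = _
    rw [Q.map_comp, Category.assoc])
  haveI : G.Faithful := Functor.faithful_of_comp_essSurj G L' (fun X₁ X₂ f g hfg => by
    obtain ⟨φ₁, hφ₁⟩ := Localization.exists_rightFraction L' (S.inverseImage P.ι) f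
    obtain ⟨φ₂, hφ₂⟩ := Localization.exists_rightFraction L' (S.inverseImage P.ι) g
    obtain ⟨ψ, hψ⟩ := (LeftFraction.mk (W := S.inverseImage P.ι) φ₂.s φ₁.s
      φ₁.hs).exists_rightFraction
    dsimp at hψ
    have hσ : (S.inverseImage P.ι) (ψ.s ≫ φ₂.s) := (S.inverseImage P.ι).comp_mem _ _ ψ.hs φ₂.hs
    haveI : IsIso (L'.map (ψ.s ≫ φ₂.s)) := Localization.inverts L' _ _ hσ
    have hf : L'.map (ψ.s ≫ φ₂.s) ≫ f = L'.map (ψ.f ≫ φ₁.f) := by
      rw [hψ, L'.map_comp, Category.assoc, hφ₁, φ₁.map_s_comp_map L', ← L'.map_comp]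
    have hg : L'.map (ψ.s ≫ φ₂.s) ≫ g = L'.map (ψ.s ≫ φ₂.f) := by
      rw [L'.map_comp, Category.assoc, hφ₂, φ₂.map_s_comp_map L', ← L'.map_comp]
    rw [← cancel_epi (L'.map (ψ.s ≫ φ₂.s)), hf, hg]
    have hG : G.map (L'.map (ψ.f ≫ φ₁.f)) = G.map (L'.map (ψ.s ≫ φ₂.f)) := by
      rw [← hf, ← hg, G.map_comp, G.map_comp, hfg]
    rw [nat', nat'] at hG
    have hQ : Q.map (ψ.f ≫ φ₁.f).hom = Q.map (ψ.s ≫ φ₂.f).hom := by
      have := congrArg (fun x => e.inv.app _ ≫ x ≫ e.hom.app _) hG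
      simpa using this
    obtain ⟨Z', s, hs, hs'⟩ := (MorphismProperty.map_eq_iff_precomp Q S _ _).1 hQ
    obtain ⟨Z'', r, hZ'', hr⟩ := hP Z'
    refine (MorphismProperty.map_eq_iff_precomp L' (S.inverseImage P.ι) _ _).2
      ⟨⟨Z'', hZ''⟩, ObjectProperty.homMk (r ≫ s), S.comp_mem _ _ hr hs, ?_⟩
    apply ObjectProperty.hom_ext
    simp only [ObjectProperty.FullSubcategory.comp_hom, ObjectProperty.homMk, Category.assoc]
    simp only [ObjectProperty.FullSubcategory.comp_hom] at hs'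
    rw [hs'])
  haveI : G.IsEquivalence := {}
  exact Functor.IsLocalization.of_equivalence_target L' (S.inverseImage P.ι) (P.ι ⋙ Q)
    G.asEquivalence e

end Groth.Agent.Lib.helper23.LocSub
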