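import Mathlib

/-!
# Complexes of free modules given by matrices (helper23)

* `matCx S N D hD`: the complex with all terms `S^N` and differentials `D i : Matrix (Fin N) (Fin N) S`.
* `matHom`: chain maps given by matrices.
* `exists_matrix_retract`: a bounded complex of finite projective modules is a retract (in the category of
  complexes) of some `matCx`, cut out by an idempotent matrix chain map; the matrices vanish outside the bounds.
-/

set_option autoImplicit false
universe u
open CategoryTheory Limits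

namespace Groth.Agent.Lib.helper23.MatCx

section Defs

variable (S : Type u) [CommRing S] (N : ℕ)

/-- the module `S^N` -/
abbrev fr : ModuleCat.{u} S := ModuleCat.of S (Fin N → S)

/-- the map `S^N ⟶ S^N` given by a matrix -/
noncomputable abbrev mh (M : Matrix (Fin N) (Fin N) S) : fr S N ⟶ fr S N :=
  ModuleCat.ofHom (Matrix.mulVecLin M)

variable {S N}

lemma mh_comp (M M' : Matrix (Fin N) (Fin N) S) : mh S N M' ≫ mh S N M = mh S N (M * M') := by
  rw [mh, mh, mh, ← ModuleCat.ofHom_comp, Matrix.mulVecLin_mul]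

lemma mh_zero : mh S N (0 : Matrix (Fin N) (Fin N) S) = 0 := by
  rw [mh, Matrix.mulVecLin_zero]
  rfl

lemma mh_one : mh S N (1 : Matrix (Fin N) (Fin N) S) = 𝟙 _ := by
  rw [mh, Matrix.mulVecLin_one]
  rfl

variable (S N)

/-- the complex with terms `S^N` and differentials given by matrices -/
noncomputable def matCx (D : ℤ → Matrix (Fin N) (Fin N) S) (hD : ∀ i, D (i + 1) * D i = 0) :
    CochainComplex (ModuleCat.{u} S) ℤ :=
  CochainComplex.of (fun _ => fr S N) (fun i => mh S N (D i))
    (fun i => by rw [mh_comp, hD, mh_zero])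

variable {S N}

lemma matCx_d (D : ℤ → Matrix (Fin N) (Fin N) S) (hD : ∀ i, D (i + 1) * D i = 0) (i : ℤ) :
    (matCx S N D hD).d i (i + 1) = mh S N (D i) :=
  CochainComplex.of_d (fun _ => fr S N) (fun i => mh S N (D i)) i

/-- a chain map given by matrices -/
noncomputable def matHom (D : ℤ → Matrix (Fin N) (Fin N) S) (hD : ∀ i, D (i + 1) * D i = 0)
    (M : ℤ → Matrix (Fin N) (Fin N) S) (hM : ∀ i, M (i + 1) * D i = D i * M i) :
    matCx S N D hD ⟶ matCx S N D hD :=
  CochainComplex.ofHom (fun i => mh S N (M i)) (fun i => by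
    rw [matCx_d]
    exact (mh_comp _ _).trans ((congrArg (mh S N) (hM i).symm).trans (mh_comp _ _).symm))

lemma matHom_f (D : ℤ → Matrix (Fin N) (Fin N) S) (hD : ∀ i, D (i + 1) * D i = 0)
    (M : ℤ → Matrix (Fin N) (Fin N) S) (hM : ∀ i, M (i + 1) * D i = D i * M i) (i : ℤ) :
    (matHom D hD M hM).f i = mh S N (M i) := rfl

lemma matHom_comp_self (D : ℤ → Matrix (Fin N) (Fin N) S) (hD : ∀ i, D (i + 1) * D i = 0)
    (M : ℤ → Matrix (Fin N) (Fin N) S) (hM : ∀ i, M (i + 1) * D i = D i * M i)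
    (hMM : ∀ i, M i * M i = M i) :
    matHom D hD M hM ≫ matHom D hD M hM = matHom D hD M hM := by
  ext i : 1
  rw [HomologicalComplex.comp_f, matHom_f]
  exact (mh_comp _ _).trans (congrArg (mh S N) (hMM i))

end Defs

section Retract

variable {R : Type u} [CommRing R] {N : ℕ}

/-- the matrix of an endomorphism of `R^N` -/
noncomputable def tm (g : fr R N ⟶ fr R N) : Matrix (Fin N) (Fin N) R := LinearMap.toMatrix' g.hom

lemma mh_tm (g : fr R N ⟶ fr R N) : mh R N (tm g) = g := by
  apply ModuleCat.hom_ext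
  change Matrix.mulVecLin (LinearMap.toMatrix' g.hom) = g.hom
  rw [← Matrix.toLin'_apply', Matrix.toLin'_toMatrix']

lemma tm_comp (g g' : fr R N ⟶ fr R N) : tm (g ≫ g') = tm g' * tm g := by
  unfold tm
  rw [ModuleCat.hom_comp, LinearMap.toMatrix'_comp]

lemma tm_zero : tm (0 : fr R N ⟶ fr R N) = 0 := by
  unfold tm
  exact map_zero _

/-- every finite module is a quotient of `R^N` for `N` large -/
lemma exists_surjective_of_le (X : ModuleCat.{u} R) [Module.Finite R X] :
    ∃ n : ℕ, ∀ N : ℕ, n ≤ N → ∃ f : (Fin N → R) →ₗ[R] X, Function.Surjective f := by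
  obtain ⟨n, f, hf⟩ := Module.Finite.exists_fin' R X
  refine ⟨n, fun N hN => ⟨f ∘ₗ LinearMap.funLeft R R (Fin.castLE hN), hf.comp ?_⟩⟩
  exact LinearMap.funLeft_surjective_of_injective R R _ (Fin.castLE_injective hN)

/-- a bounded complex of finite projective modules is a retract of a matrix complex -/
theorem exists_matrix_retract (E : CochainComplex (ModuleCat.{u} R) ℤ) (a b : ℤ)
    (hz : ∀ i, i < a ∨ b < i → IsZero (E.X i))
    (hfp : ∀ i, Module.Finite R (E.X i) ∧ Module.Projective R (E.X i)) :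
    ∃ (N : ℕ) (D M : ℤ → Matrix (Fin N) (Fin N) R) (hD : ∀ i, D (i + 1) * D i = 0)
      (hM : ∀ i, M (i + 1) * D i = D i * M i) (ι : E ⟶ matCx R N D hD) (σ : matCx R N D hD ⟶ E),
      (∀ i, M i * M i = M i) ∧ (∀ i, i < a ∨ b < i → M i = 0) ∧ (∀ i, i < a ∨ b < i → D i = 0) ∧
      ι ≫ σ = 𝟙 E ∧ σ ≫ ι = matHom D hD M hM := by
  classical
  haveI : ∀ i, Module.Finite R (E.X i) := fun i => (hfp i).1
  haveI : ∀ i, Module.Projective R (E.X i) := fun i => (hfp i).2
  choose n hn using fun i => exists_surjective_of_le (E.X i)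
  let N : ℕ := (Finset.Icc a b).sup n
  have hs : ∀ i, ∃ f : (Fin N → R) →ₗ[R] E.X i, Function.Surjective f := by
    intro i
    by_cases hi : i ∈ Finset.Icc a b
    · exact hn i N (Finset.le_sup hi)
    · have hz' : IsZero (E.X i) := by
        apply hz
        rw [Finset.mem_Icc] at hi
        omega
      haveI : Subsingleton (E.X i) := ModuleCat.subsingleton_of_isZero hz'
      exact ⟨0, fun x => ⟨0, Subsingleton.elim _ _⟩⟩
  choose s hs using hs
  have ht : ∀ i, ∃ t : E.X i →ₗ[R] (Fin N → R), s i ∘ₗ t = LinearMap.id := fun i =>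
    Module.projective_lifting_property (s i) LinearMap.id (hs i)
  choose t ht using ht
  let Sm : ∀ i, fr R N ⟶ E.X i := fun i => ModuleCat.ofHom (s i)
  let Tm : ∀ i, E.X i ⟶ fr R N := fun i => ModuleCat.ofHom (t i)
  have hTS : ∀ i, Tm i ≫ Sm i = 𝟙 _ := fun i => by
    apply ModuleCat.hom_ext
    exact ht i
  have hTS' : ∀ i {Z : ModuleCat.{u} R} (g : E.X i ⟶ Z), Tm i ≫ Sm i ≫ g = g := fun i Z g => by
    rw [← Category.assoc, hTS, Category.id_comp]
  let G : ∀ i, fr R N ⟶ fr R N := fun i => Sm i ≫ E.d i (i + 1) ≫ Tm (i + 1)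
  let P : ∀ i, fr R N ⟶ fr R N := fun i => Sm i ≫ Tm i
  have hGG : ∀ i, G i ≫ G (i + 1) = 0 := fun i => by
    simp only [G, Category.assoc]
    rw [hTS', HomologicalComplex.d_comp_d_assoc, zero_comp, comp_zero]
  have hGP : ∀ i, G i ≫ P (i + 1) = G i := fun i => by
    simp only [G, P, Category.assoc]
    rw [hTS']
  have hPG : ∀ i, P i ≫ G i = G i := fun i => by
    simp only [G, P, Category.assoc]
    rw [hTS']
  have hPP : ∀ i, P i ≫ P i = P i := fun i => by
    simp only [P, Category.assoc]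
    rw [hTS']
  have hSz : ∀ i, i < a ∨ b < i → Sm i = 0 := fun i hi => (hz i hi).eq_of_tgt _ _
  have hD : ∀ i, tm (G (i + 1)) * tm (G i) = 0 := fun i => by
    rw [← tm_comp, hGG, tm_zero]
  have hM : ∀ i, tm (P (i + 1)) * tm (G i) = tm (G i) * tm (P i) := fun i => by
    rw [← tm_comp, ← tm_comp, hGP, hPG]
  have hd : ∀ i, (matCx R N (fun i => tm (G i)) hD).d i (i + 1) = G i := fun i => by
    rw [matCx_d, mh_tm]
  refine ⟨N, fun i => tm (G i), fun i => tm (P i), hD, hM,
    CochainComplex.ofHom (fun i => Tm i) (fun i => ?_),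
    CochainComplex.ofHom (fun i => Sm i) (fun i => ?_), fun i => ?_, fun i hi => ?_, fun i hi => ?_,
    ?_, ?_⟩
  · have e1 : Tm i ≫ G i = E.d i (i + 1) ≫ Tm (i + 1) := hTS' i _
    exact (congrArg (fun k : fr R N ⟶ fr R N => Tm i ≫ k) (hd i)).trans e1
  · have e1 : G i ≫ Sm (i + 1) = Sm i ≫ E.d i (i + 1) := by
      simp only [G, Category.assoc]
      rw [hTS, Category.comp_id]
    exact e1.symm.trans (congrArg (fun k : fr R N ⟶ fr R N => k ≫ Sm (i + 1)) (hd i)).symm
  · rw [← tm_comp, hPP]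
  · simp only [P]
    rw [hSz i hi, zero_comp, tm_zero]
  · simp only [G]
    rw [hSz i hi, zero_comp, tm_zero]
  · ext i : 1
    exact hTS i
  · ext i : 1
    rw [HomologicalComplex.comp_f, matHom_f, mh_tm]
    rfl

end Retract

end Groth.Agent.Lib.helper23.MatCx
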