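import Mathlib
import Groth.Agent.Lib.Helper23.MatCx1
import Groth.Agent.Lib.Helper23.ExtSc2

/-!
# Base change of matrix complexes (helper23)

`ext_matCx`: for `S → S'`, the termwise extension of scalars of `matCx S N D₀` is `matCx S' N D` when `D` is the
image of `D₀`, compatibly with matrix chain maps.
-/

set_option autoImplicit false
universe u
open CategoryTheory Limits TensorProduct

namespace Groth.Agent.Lib.helper23.MatCx

variable (S S' : Type u) [CommRing S] [CommRing S'] [Algebra S S'] (N : ℕ)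

/-- `S' ⊗_S S^N ≃ S'^N` -/
noncomputable def βEquiv :
    ((ModuleCat.extendScalars.{u, u, u} (algebraMap S S')).obj (fr S N)) ≃ₗ[S'] (Fin N → S') :=
  (Groth.Agent.Lib.helper23.ExtSc.extendObjEquiv (A := S) (B := S') (fr S N)).trans
    (TensorProduct.piScalarRight S S' S' (Fin N))

/-- `S' ⊗_S S^N ≅ S'^N` -/
noncomputable def βIso :
    (ModuleCat.extendScalars.{u, u, u} (algebraMap S S')).obj (fr S N) ≅ fr S' N :=
  (βEquiv S S' N).toModuleIso

open ChangeOfRings in
lemma βIso_hom_one_tmul (v : Fin N → S) :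
    (βIso S S' N).hom.hom ((1 : S') ⊗ₜ[S, algebraMap S S'] (v : fr S N)) =
      fun p => algebraMap S S' (v p) := by
  change TensorProduct.piScalarRight S S' S' (Fin N) ((1 : S') ⊗ₜ[S] v) = _
  rw [TensorProduct.piScalarRight_apply, TensorProduct.piScalarRightHom_tmul]
  funext p
  rw [Algebra.smul_def, mul_one]

variable {S N}

open ChangeOfRings in
lemma βIso_naturality (A : Matrix (Fin N) (Fin N) S) :
    (ModuleCat.extendScalars.{u, u, u} (algebraMap S S')).map (mh S N A) ≫ (βIso S S' N).hom =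
      (βIso S S' N).hom ≫ mh S' N (A.map (algebraMap S S')) := by
  apply ModuleCat.ExtendScalars.hom_ext
  intro v
  rw [ModuleCat.comp_apply, ModuleCat.comp_apply]
  have h1 : (ModuleCat.extendScalars.{u, u, u} (algebraMap S S')).map (mh S N A)
      ((1 : S') ⊗ₜ[S, algebraMap S S'] v) =
      (1 : S') ⊗ₜ[S, algebraMap S S'] ((mh S N A).hom v) :=
    ModuleCat.ExtendScalars.map_tmul _ _ _ _
  have h2 := βIso_hom_one_tmul S S' N v
  have h3 := βIso_hom_one_tmul S S' N ((mh S N A).hom v)
  refine (congrArg (fun z => (βIso S S' N).hom.hom z) h1).trans ?_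
  refine h3.trans ?_
  refine Eq.trans ?_ (congrArg (fun z => (mh S' N (A.map (algebraMap S S'))).hom z) h2).symm
  change (fun p => algebraMap S S' ((A.mulVec v) p)) =
    (A.map (algebraMap S S')).mulVec (fun p => algebraMap S S' (v p))
  funext p
  simp only [Matrix.mulVec, dotProduct, map_sum, map_mul, Matrix.map_apply]

variable (S) in
/-- termwise extension of scalars of complexes -/
noncomputable abbrev extCx : CochainComplex (ModuleCat.{u} S) ℤ ⥤ CochainComplex (ModuleCat.{u} S') ℤ :=
  (ModuleCat.extendScalars.{u, u, u} (algebraMap S S')).mapHomologicalComplex (ComplexShape.up ℤ)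

lemma map_mul_eq_zero (D₀ : ℤ → Matrix (Fin N) (Fin N) S) (hD₀ : ∀ i, D₀ (i + 1) * D₀ i = 0) (i : ℤ) :
    (D₀ (i + 1)).map (algebraMap S S') * (D₀ i).map (algebraMap S S') = 0 := by
  rw [← Matrix.map_mul, hD₀]
  exact Matrix.map_zero _ (map_zero _)

/-- the extension of scalars of a matrix complex is the matrix complex of the image matrices -/
theorem ext_matCx (D₀ M₀ : ℤ → Matrix (Fin N) (Fin N) S) (hD₀ : ∀ i, D₀ (i + 1) * D₀ i = 0)
    (hM₀ : ∀ i, M₀ (i + 1) * D₀ i = D₀ i * M₀ i)
    (D M : ℤ → Matrix (Fin N) (Fin N) S') (hD : ∀ i, D (i + 1) * D i = 0)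
    (hM : ∀ i, M (i + 1) * D i = D i * M i)
    (hDD : ∀ i, (D₀ i).map (algebraMap S S') = D i)
    (hMM : ∀ i, (M₀ i).map (algebraMap S S') = M i) :
    ∃ θ : (extCx S S').obj (matCx S N D₀ hD₀) ≅ matCx S' N D hD,
      (extCx S S').map (matHom D₀ hD₀ M₀ hM₀) ≫ θ.hom = θ.hom ≫ matHom D hD M hM := by
  obtain rfl : D = fun i => (D₀ i).map (algebraMap S S') := funext (fun i => (hDD i).symm)
  obtain rfl : M = fun i => (M₀ i).map (algebraMap S S') := funext (fun i => (hMM i).symm)
  refine ⟨HomologicalComplex.Hom.isoOfComponents (fun _ => βIso S S' N) ?_, ?_⟩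
  · intro i j hij
    have hj : j = i + 1 := hij.symm
    subst hj
    have h1 : ((extCx S S').obj (matCx S N D₀ hD₀)).d i (i + 1) =
        (ModuleCat.extendScalars.{u, u, u} (algebraMap S S')).map (mh S N (D₀ i)) := by
      exact congrArg (fun k => (ModuleCat.extendScalars.{u, u, u} (algebraMap S S')).map k)
        (matCx_d D₀ hD₀ i)
    have h2 : (matCx S' N (fun i => (D₀ i).map (algebraMap S S')) hD).d i (i + 1) =
        mh S' N ((D₀ i).map (algebraMap S S')) := matCx_d _ _ i
    exact ((congrArg (fun k => (βIso S S' N).hom ≫ k) h2).trans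
      (βIso_naturality S' (D₀ i)).symm).trans
        (congrArg (fun k => k ≫ (βIso S S' N).hom) h1).symm
  · ext i : 1
    exact βIso_naturality S' (M₀ i)

end Groth.Agent.Lib.helper23.MatCx
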