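import Mathlib
import Groth.Agent.Lib.Helper23.MatCx1
import Groth.Agent.LibColimDescent29

/-!
# Descent of matrix complexes with an idempotent along a filtered system of rings (helper23)
-/

set_option autoImplicit false
universe u v
open CategoryTheory Limits

namespace Groth.Agent.Lib.helper23.MatCx

open Groth.Agent.LibColimDescent29

variable {A : Type u} [CommRing A] {ι : Type v} {G : ι → Type u} [∀ i, CommRing (G i)]
  {g : ∀ i, G i →+* A}

/-- finitely many matrices with finitely many relations descend to a stage -/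
theorem exists_descent (hS : Sys G g) (N : ℕ) (a b : ℤ) (D M : ℤ → Matrix (Fin N) (Fin N) A)
    (hD : ∀ i, D (i + 1) * D i = 0) (hM : ∀ i, M (i + 1) * D i = D i * M i)
    (hMM : ∀ i, M i * M i = M i)
    (hMz : ∀ i, i < a ∨ b < i → M i = 0) (hDz : ∀ i, i < a ∨ b < i → D i = 0) :
    ∃ (k : ι) (D' M' : ℤ → Matrix (Fin N) (Fin N) (G k)),
      (∀ i, D' (i + 1) * D' i = 0) ∧ (∀ i, M' (i + 1) * D' i = D' i * M' i) ∧
      (∀ i, M' i * M' i = M' i) ∧ (∀ i, i < a ∨ b < i → M' i = 0) ∧
      (∀ i, (D' i).map (g k) = D i) ∧ (∀ i, (M' i).map (g k) = M i) := by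
  classical
  let s : Finset A :=
    ((Finset.Icc a b ×ˢ (Finset.univ : Finset (Fin N × Fin N))).image
      (fun x => D x.1 x.2.1 x.2.2)) ∪
    ((Finset.Icc a b ×ˢ (Finset.univ : Finset (Fin N × Fin N))).image
      (fun x => M x.1 x.2.1 x.2.2))
  obtain ⟨i₀, y, hy⟩ := hS.exists_lift_finset s
  let D0 : ℤ → Matrix (Fin N) (Fin N) (G i₀) := fun i =>
    if i ∈ Finset.Icc a b then (D i).map y else 0
  let M0 : ℤ → Matrix (Fin N) (Fin N) (G i₀) := fun i =>
    if i ∈ Finset.Icc a b then (M i).map y else 0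
  have hout : ∀ i, i ∉ Finset.Icc a b → i < a ∨ b < i := fun i hi => by
    rw [Finset.mem_Icc] at hi
    omega
  have hD0z : ∀ i, i ∉ Finset.Icc a b → D0 i = 0 := fun i hi => by simp only [D0, if_neg hi]
  have hM0z : ∀ i, i ∉ Finset.Icc a b → M0 i = 0 := fun i hi => by simp only [M0, if_neg hi]
  have hD0 : ∀ i, (D0 i).map (g i₀) = D i := by
    intro i
    by_cases hi : i ∈ Finset.Icc a b
    · simp only [D0, if_pos hi]
      ext p q
      rw [Matrix.map_apply, Matrix.map_apply]
      exact hy _ (Finset.mem_union_left _ (Finset.mem_image.2 ⟨(i, p, q), by simp [hi], rfl⟩))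
    · rw [hD0z i hi, Matrix.map_zero _ (map_zero _), hDz i (hout i hi)]
  have hM0 : ∀ i, (M0 i).map (g i₀) = M i := by
    intro i
    by_cases hi : i ∈ Finset.Icc a b
    · simp only [M0, if_pos hi]
      ext p q
      rw [Matrix.map_apply, Matrix.map_apply]
      exact hy _ (Finset.mem_union_right _ (Finset.mem_image.2 ⟨(i, p, q), by simp [hi], rfl⟩))
    · rw [hM0z i hi, Matrix.map_zero _ (map_zero _), hMz i (hout i hi)]
  let Rel : ℤ → Fin 3 → Matrix (Fin N) (Fin N) (G i₀) := fun i c =>
    if c = 0 then D0 (i + 1) * D0 i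
    else if c = 1 then M0 (i + 1) * D0 i - D0 i * M0 i
    else M0 i * M0 i - M0 i
  have hRel : ∀ i c, (Rel i c).map (g i₀) = 0 := by
    intro i c
    by_cases h0 : c = 0
    · simp only [Rel, if_pos h0]
      rw [Matrix.map_mul, hD0, hD0, hD]
    · by_cases h1 : c = 1
      · simp only [Rel, if_neg h0, if_pos h1]
        rw [Matrix.map_sub _ (map_sub _), Matrix.map_mul, Matrix.map_mul, hD0, hM0, hM0, hM, sub_self]
      · simp only [Rel, if_neg h0, if_neg h1]
        rw [Matrix.map_sub _ (map_sub _), Matrix.map_mul, hM0, hMM, sub_self]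
  have hRelz : ∀ i, i ∉ Finset.Icc (a - 1) b → ∀ c, Rel i c = 0 := by
    intro i hi c
    have h1 : i ∉ Finset.Icc a b := fun h => hi (by
      rw [Finset.mem_Icc] at h ⊢
      omega)
    have h2 : i + 1 ∉ Finset.Icc a b := fun h => hi (by
      rw [Finset.mem_Icc] at h ⊢
      omega)
    simp only [Rel, hD0z i h1, hD0z (i + 1) h2, hM0z i h1, hM0z (i + 1) h2, mul_zero, sub_self,
      ite_self]
  let T : Finset (G i₀) :=
    ((Finset.Icc (a - 1) b ×ˢ (Finset.univ : Finset (Fin 3 × Fin N × Fin N))).image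
      (fun x => Rel x.1 x.2.1 x.2.2.1 x.2.2.2))
  have hT : ∀ t ∈ T, g i₀ t = 0 := by
    intro t ht
    obtain ⟨x, -, rfl⟩ := Finset.mem_image.1 ht
    have := congrFun (congrFun (hRel x.1 x.2.1) x.2.2.1) x.2.2.2
    rwa [Matrix.map_apply] at this
  obtain ⟨k, f, hf, hfT⟩ := hS.exists_kill_finset i₀ T hT
  have hfRel : ∀ i c, (Rel i c).map f = 0 := by
    intro i c
    by_cases hi : i ∈ Finset.Icc (a - 1) b
    · ext p q
      rw [Matrix.map_apply]
      exact hfT _ (Finset.mem_image.2 ⟨(i, c, p, q), by simp [hi], rfl⟩)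
    · rw [hRelz i hi c, Matrix.map_zero _ (map_zero _)]
  refine ⟨k, fun i => (D0 i).map f, fun i => (M0 i).map f, fun i => ?_, fun i => ?_, fun i => ?_,
    fun i hi => ?_, fun i => ?_, fun i => ?_⟩
  · have := hfRel i 0
    simp only [Rel, if_true] at this
    rwa [Matrix.map_mul] at this
  · have := hfRel i 1
    simp only [Rel, if_neg (show (1 : Fin 3) ≠ 0 by decide), if_true] at this
    rw [Matrix.map_sub _ (map_sub _), Matrix.map_mul, Matrix.map_mul] at this
    exact sub_eq_zero.1 this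
  · have := hfRel i 2
    simp only [Rel, if_neg (show (2 : Fin 3) ≠ 0 by decide),
      if_neg (show (2 : Fin 3) ≠ 1 by decide)] at this
    rw [Matrix.map_sub _ (map_sub _), Matrix.map_mul] at this
    exact sub_eq_zero.1 this
  · have h1 : i ∉ Finset.Icc a b := fun h => by
      rw [Finset.mem_Icc] at h
      omega
    show (M0 i).map f = 0
    rw [hM0z i h1, Matrix.map_zero _ (map_zero _)]
  · show ((D0 i).map f).map (g k) = D i
    rw [Matrix.map_map, ← hD0 i]
    congr 1
    funext x
    exact congrArg (fun h : G i₀ →+* A => h x) hf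
  · show ((M0 i).map f).map (g k) = M i
    rw [Matrix.map_map, ← hM0 i]
    congr 1
    funext x
    exact congrArg (fun h : G i₀ →+* A => h x) hf

end Groth.Agent.Lib.helper23.MatCx
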