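import Mathlib
import Groth.Prelude.Def_DRing2
import Groth.Prelude.Def_DDual2
import Groth.Agent.Lib.Helper23.MatCx2
import Groth.Agent.Lib.Helper23.MatCx3
import Groth.Agent.Lib.Helper23.LBCComp
import Groth.Agent.LibColimDescentCat29

/-!
# Perfect complexes descend along a filtered colimit of rings (helper23, S7009)
-/

set_option autoImplicit false
universe u v
open CategoryTheory Limits

attribute [local instance] HasDerivedCategory.standard

namespace Groth.Agent.Lib.helper23.MatCx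

open Groth.Agent.LibColimDescent29

section Split

variable {S : Type u} [CommRing S] {N : ℕ}

/-- the image of an idempotent matrix chain map, vanishing outside `[a, b]`, is a bounded complex of finite
projective modules -/
theorem exists_split (D M : ℤ → Matrix (Fin N) (Fin N) S) (hD : ∀ i, D (i + 1) * D i = 0)
    (hM : ∀ i, M (i + 1) * D i = D i * M i) (hMM : ∀ i, M i * M i = M i) (a b : ℤ)
    (hMz : ∀ i, i < a ∨ b < i → M i = 0) :
    ∃ (Y : CochainComplex (ModuleCat.{u} S) ℤ) (i : Y ⟶ matCx S N D hD) (r : matCx S N D hD ⟶ Y),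
      i ≫ r = 𝟙 Y ∧ r ≫ i = matHom D hD M hM ∧ DRing.VanishesOutside Y a b ∧
      DRing.TermwiseFiniteProjective Y := by
  obtain ⟨Y, i, r, h1, h2⟩ := IsIdempotentComplete.idempotents_split (matCx S N D hD)
    (matHom D hD M hM) (matHom_comp_self D hD M hM hMM)
  let i' : ∀ n, Y.X n ⟶ fr S N := fun n => i.f n
  let r' : ∀ n, fr S N ⟶ Y.X n := fun n => r.f n
  have h1n : ∀ n, i' n ≫ r' n = 𝟙 (Y.X n) := fun n => by
    have := congrArg (fun k : Y ⟶ Y => k.f n) h1
    exact this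
  have h2n : ∀ n, r' n ≫ i' n = mh S N (M n) := fun n => by
    have := congrArg (fun k : matCx S N D hD ⟶ matCx S N D hD => k.f n) h2
    exact this
  refine ⟨Y, i, r, h1, h2, fun n hn => ?_, fun n => ⟨?_, ?_⟩⟩
  · rw [IsZero.iff_id_eq_zero]
    have h3 : i' n ≫ (r' n ≫ i' n) ≫ r' n = 𝟙 (Y.X n) := by
      rw [Category.assoc, h1n, Category.comp_id, h1n]
    rw [← h3, h2n, hMz n hn, mh_zero, zero_comp, comp_zero]
  · have hsurj : Function.Surjective (r' n).hom := fun x =>
      ⟨(i' n).hom x, congrArg (fun k : Y.X n ⟶ Y.X n => k.hom x) (h1n n)⟩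
    exact Module.Finite.of_surjective (r' n).hom hsurj
  · refine Module.Projective.of_split (i' n).hom (r' n).hom ?_
    exact congrArg ModuleCat.Hom.hom (h1n n)

end Split

variable {A : Type u} [CommRing A] {ι : Type v} {G : ι → Type u} [∀ i, CommRing (G i)]
  {g : ∀ i, G i →+* A}

/-- perfect complexes descend to a stage of a filtered system of rings -/
theorem exists_perfect_descent (hS : Sys G g) [∀ i, DRing.HasLBaseChange (g i)] (K : Dual.D A)
    (hK : DRing.IsPerfect A K) :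
    ∃ (k : ι) (Kk : Dual.D (G k)), DRing.IsPerfect (G k) Kk ∧
      Nonempty ((DRing.LBaseChange (g k)).obj Kk ≅ K) := by
  obtain ⟨E, a, b, hz, hfp, ⟨e⟩⟩ := hK
  obtain ⟨N, D, M, hD, hM, ιE, σE, hMM, hMz, hDz, hισ, hσι⟩ := exists_matrix_retract E a b hz hfp
  obtain ⟨k, D', M', hD', hM', hMM', hMz', hDD, hMD⟩ :=
    exists_descent hS N a b D M hD hM hMM hMz hDz
  obtain ⟨Y, i, r, hir, hri, hYz, hYfp⟩ := exists_split D' M' hD' hM' hMM' a b hMz'
  letI : Algebra (G k) A := (g k).toAlgebra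
  obtain ⟨θ, hθ⟩ := ext_matCx (S := G k) A D' M' hD' hM' D M hD hM hDD hMD
  let ex := extCx (G k) A
  let u : ex.obj Y ⟶ E := ex.map i ≫ θ.hom ≫ σE
  let w : E ⟶ ex.obj Y := ιE ≫ θ.inv ≫ ex.map r
  have huw : u ≫ w = 𝟙 _ := by
    simp only [u, w, Category.assoc]
    rw [reassoc_of% hσι, ← reassoc_of% hθ, Iso.hom_inv_id_assoc, ← ex.map_comp, ← ex.map_comp,
      ← hri, Category.assoc, hir, Category.comp_id, hir, ex.map_id]
  have hwu : w ≫ u = 𝟙 _ := by
    simp only [u, w, Category.assoc]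
    rw [← ex.map_comp_assoc, hri, reassoc_of% hθ, Iso.inv_hom_id_assoc, ← hσι, Category.assoc, hισ,
      Category.comp_id, hισ]
  have hYab : DRing.VanishesAbove Y b := fun n hn => hYz n (Or.inr hn)
  have hYfl : DRing.TermwiseFlat Y := fun n => by
    haveI := (hYfp n).1
    haveI := (hYfp n).2
    infer_instance
  obtain ⟨e1⟩ := Groth.Agent.Lib.helper23.LBCComp.lbc_iso (g k) Y b hYab hYfl
  refine ⟨k, DerivedCategory.Q.obj Y, ⟨Y, a, b, hYz, hYfp, ⟨Iso.refl _⟩⟩, ⟨?_⟩⟩
  exact e1 ≪≫ DerivedCategory.Q.mapIso (⟨u, w, huw, hwu⟩ : ex.obj Y ≅ E) ≪≫ e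

end Groth.Agent.Lib.helper23.MatCx
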