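import Mathlib
import Groth.Prelude.Def_DTen5
import Groth.Agent.Lib.Helper23.Binders2

/-!
# The binders `DTen.HasResTen`, `DTen.ResLegIso` hold for every ring map (helper23)

* `hasResTen φ : DTen.HasResTen φ`
* `resLegIso φ : DTen.ResLegIso φ` (given `HasLTen` of the target ring and `HasResTen φ` as instances)
-/

set_option autoImplicit false
universe u
open CategoryTheory CategoryTheory.Limits MonoidalCategory
attribute [local instance] HasDerivedCategory.standard

namespace Groth.Agent.Lib.helper23.MixD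

open Groth.Agent.Lib.helper13.Adapted2 Groth.Agent.Lib.helper13.DTenA Groth.Agent.Lib.helper13.KFlat
  Groth.Agent.Lib.helper13.RKF Groth.Agent.Lib.helper23.Binders

variable {R A : Type u} [CommRing R] [CommRing A] (φ : R →+* A)

lemma isIso_resTen₂_map {X X' : DRing.Cx A × DRing.Cx A} (f : X ⟶ X')
    (h : IsIso ((DTen.tensor₂ A).map f)) : IsIso ((DTen.resTen₂ φ).map f) := by
  change IsIso ((DTen.resCx φ ⋙ DerivedCategory.Q).map ((DTen.tensorT A).map f))
  rw [← NatIso.isIso_map_iff (DTen.resFactors φ) ((DTen.tensorT A).map f)]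
  change IsIso ((DRing.restrictD φ).map ((DTen.tensor₂ A).map f))
  infer_instance

/-- the derived functor of `(Y, Y') ↦ res (Y ⊗ Y')` exists -/
theorem hasResTen : DTen.HasResTen φ :=
  hasLeftDerivedFunctor₂ (fun _ : DRing.Cx A => True) isAdaptedClass_top
    (fun K : DRing.Cx A => IsKFlatR K) isAdaptedClass_kflat (DTen.resTen₂ φ)
    (fun _ _ f hf => isIso_resTen₂_map φ f (isInvertedBy_tensor₂ f hf))
    (fun f _ h _ h' hf₁ hf₂ => isIso_resTen₂_map φ f (isIso_tensor₂_map f h h' hf₁ hf₂))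

variable [DTen.HasLTen A] [DTen.HasResTen φ]

lemma isIso_εRes (K L : DRing.Cx A) (hL : IsKFlatR L) : IsIso ((DTen.εRes φ).app (K, L)) :=
  isIso_counit_app₂ (fun _ : DRing.Cx A => True) isAdaptedClass_top
    (fun K : DRing.Cx A => IsKFlatR K) isAdaptedClass_kflat (DTen.resTen₂ φ)
    (fun _ _ f hf => isIso_resTen₂_map φ f (isInvertedBy_tensor₂ f hf))
    (fun f _ h _ h' hf₁ hf₂ => isIso_resTen₂_map φ f (isIso_tensor₂_map f h h' hf₁ hf₂))
    (DTen.ResTen φ) (DTen.εRes φ) K L trivial hL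

/-- leg B is an isomorphism -/
theorem resLegIso : DTen.ResLegIso φ := by
  refine ⟨?_⟩
  haveI : ∀ X, IsIso ((DTen.resLegB φ).app X) := by
    rintro ⟨E, E'⟩
    obtain ⟨L₀, ⟨e₁⟩⟩ : ∃ L₀ : DRing.Cx A, Nonempty (DerivedCategory.Q.obj L₀ ≅ E) :=
      ⟨_, ⟨DerivedCategory.Q.objObjPreimageIso E⟩⟩
    obtain ⟨M₀, hM₀, ⟨e₂⟩⟩ := exists_iso_Q_kflat E'
    let e : (DTen.QQ A).obj (L₀, M₀) ≅ (E, E') := Iso.prod e₁ e₂.symm
    haveI : IsIso ((DTen.resLegB φ).app ((DTen.QQ A).obj (L₀, M₀))) := by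
      have h := DTen.resLegB_fac φ (L₀, M₀)
      haveI := isIso_εRes φ L₀ M₀ hM₀
      haveI : IsIso ((DTen.resβB φ).app (L₀, M₀)) := by
        haveI := isIso_ε_right L₀ M₀ hM₀
        dsimp only [DTen.resβB]
        infer_instance
      exact Groth.Agent.Lib.helper13.DTenA.isIso_of_fac _ _ _ h
    exact (NatTrans.isIso_app_iff_of_iso (DTen.resLegB φ) e).1 inferInstance
  exact NatIso.isIso_of_isIso_app _

end Groth.Agent.Lib.helper23.MixD
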