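import Mathlib
import Groth.Prelude.Def_DTen5
import Groth.Agent.Lib.Helper23.TrD3
import Groth.Agent.Lib.Helper23.TIB3

/-!
# The bimodule identity on complexes (helper23)

For a commutative square of rings `φ : R → A`, `ρ : R → R'`, `α : A → A'`, `φ' : R' → A'` and a complex `P` of
`A'`-modules, the left action of `R'|_R` and the right action of `A|_R` on `P|_R` commute (`bimod`).
-/

set_option autoImplicit false
universe u
open CategoryTheory CategoryTheory.Limits MonoidalCategory HomologicalComplex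

namespace Groth.Agent.Lib.helper23.TrD

open DTen TrivBC Groth.Agent.Lib.helper13.RhomBC Groth.Agent.Lib.helper23.TIB

variable {R : Type u} [CommRing R]

lemma ι_associator_hom (K L M : DRing.Cx R) (p q r pq qr n : ℤ) (h1 : p + q = pq) (h2 : q + r = qr)
    (h : p + q + r = n) :
    (ιTensorObj K L p q pq h1 ▷ M.X r) ≫ ιTensorObj (K ⊗ L) M pq r n (by omega) ≫ (α_ K L M).hom.f n =
      (α_ (K.X p) (L.X q) (M.X r)).hom ≫ (K.X p ◁ ιTensorObj L M q r qr h2) ≫
        ιTensorObj K (L ⊗ M) p qr n (by omega) := by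
  have e1 := GradedObject.Monoidal.ιTensorObj₃'_associator_hom K.X L.X M.X p q r n h
  have e2 := GradedObject.Monoidal.ιTensorObj₃'_eq K.X L.X M.X p q r n h pq h1
  have e3 := GradedObject.Monoidal.ιTensorObj₃_eq K.X L.X M.X p q r n h qr h2
  rw [e2, e3] at e1
  simp only [Category.assoc] at e1
  exact e1

@[reassoc]
lemma ι_whiskerLeft (K : DRing.Cx R) {L L' : DRing.Cx R} (g : L ⟶ L') (p q n : ℤ) (h : p + q = n) :
    ιTensorObj K L p q n h ≫ (K ◁ g).f n = (K.X p ◁ g.f q) ≫ ιTensorObj K L' p q n h := by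
  have := ι_tensorHom (𝟙 K) g p q n h
  rw [id_tensorHom, HomologicalComplex.id_f, id_tensorHom] at this
  exact this

@[reassoc]
lemma ι_whiskerRight {K K' : DRing.Cx R} (g : K ⟶ K') (L : DRing.Cx R) (p q n : ℤ) (h : p + q = n) :
    ιTensorObj K L p q n h ≫ (g ▷ L).f n = (g.f p ▷ L.X q) ≫ ιTensorObj K' L p q n h := by
  have := ι_tensorHom g (𝟙 L) p q n h
  rw [tensorHom_id, HomologicalComplex.id_f, tensorHom_id] at this
  exact this

variable {A R' A' : Type u} [CommRing A] [CommRing R'] [CommRing A']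
  {φ : R →+* A} {ρ : R →+* R'} {α : A →+* A'} {φ' : R' →+* A'} (h : α.comp φ = φ'.comp ρ)

section Module

variable (N : ModuleCat.{u} A') (X : ModuleCat.{u} R') (s : X ≅ 𝟙_ (ModuleCat.{u} R'))
  (Y : ModuleCat.{u} A) (s' : Y ≅ 𝟙_ (ModuleCat.{u} A))

/-- the left action at the module level -/
noncomputable def aL : (resM ρ).obj X ⊗ (resM φ).obj ((resM α).obj N) ⟶ (resM φ).obj ((resM α).obj N) :=
  (_ ◁ (resCommMod h).hom.app N) ≫ resTen₀app ρ X ((resM φ').obj N) ≫
    (resM ρ).map ((s.hom ▷ _) ≫ (λ_ _).hom) ≫ (resCommMod h).inv.app N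

/-- the right action at the module level -/
noncomputable def aR : (resM φ).obj ((resM α).obj N) ⊗ (resM φ).obj Y ⟶ (resM φ).obj ((resM α).obj N) :=
  resTen₀app φ ((resM α).obj N) Y ≫ (resM φ).map ((_ ◁ s'.hom) ≫ (ρ_ _).hom)

lemma bimod_mod :
    (α_ ((resM ρ).obj X) ((resM φ).obj ((resM α).obj N)) ((resM φ).obj Y)).hom ≫
        (_ ◁ aR N Y s') ≫ aL h N X s =
      (aL h N X s ▷ _) ≫ aR N Y s' := by
  ext : 1
  refine TensorProduct.ext_threefold (fun x w y => ?_)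
  change (φ' (s.hom.hom x) : A') • ((α (s'.hom.hom y) : A') • (show N from w)) =
    (α (s'.hom.hom y) : A') • ((φ' (s.hom.hom x) : A') • (show N from w))
  exact smul_comm _ _ _

end Module

section Complex

variable (P : DRing.Cx A')

/-- the left action of `U ρ` on `P|_R` through `R'` -/
noncomputable def actT' :
    U ρ ⊗ (resCx φ).obj ((resCx α).obj P) ⟶ (resCx φ).obj ((resCx α).obj P) :=
  (U ρ ◁ (eqC h P).hom) ≫ actT ρ ((resCx φ').obj P) ≫ (eqC h P).inv

lemma ι_actT' (n : ℤ) :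
    ιTensorObj (U ρ) ((resCx φ).obj ((resCx α).obj P)) 0 n n (zero_add n) ≫ (actT' h P).f n =
      aL h (P.X n) _ (s₀ R') := by
  dsimp only [actT', aL]
  rw [HomologicalComplex.comp_f, HomologicalComplex.comp_f]
  erw [ι_whiskerLeft_assoc (U ρ) (eqC h P).hom 0 n n (zero_add n)]
  erw [reassoc_of% (ι_actT ρ ((resCx φ').obj P) n)]
  rfl

lemma ι_actM' (n : ℤ) :
    ιTensorObj ((resCx φ).obj ((resCx α).obj P)) (U φ) n 0 n (add_zero n) ≫
        (actM φ ((resCx α).obj P)).f n =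
      aR (P.X n) _ (s₀ A) :=
  ι_actM φ ((resCx α).obj P) n

/-- the bimodule identity: the left action of `R'|_R` and the right action of `A|_R` on `P|_R` commute -/
theorem bimod :
    (α_ (U ρ) ((resCx φ).obj ((resCx α).obj P)) (U φ)).hom ≫
        (U ρ ◁ actM φ ((resCx α).obj P)) ≫ actT' h P =
      (actT' h P ▷ U φ) ≫ actM φ ((resCx α).obj P) := by
  refine HomologicalComplex.hom_ext _ _ (fun n => ?_)
  haveI i1 : IsIso (ιTensorObj (U ρ) ((resCx φ).obj ((resCx α).obj P)) 0 n n (zero_add n)) :=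
    isIso_ιTensorObj_left _ _ (isZero_U_X ρ) n
  haveI i2 : IsIso (ιTensorObj (U ρ ⊗ (resCx φ).obj ((resCx α).obj P)) (U φ) n 0 n (add_zero n)) :=
    isIso_ιTensorObj_right _ _ (isZero_U_X φ) n
  rw [← cancel_epi (ιTensorObj (U ρ ⊗ (resCx φ).obj ((resCx α).obj P)) (U φ) n 0 n (add_zero n)),
    ← cancel_epi (ιTensorObj (U ρ) ((resCx φ).obj ((resCx α).obj P)) 0 n n (zero_add n) ▷ (U φ).X 0)]
  have hL : (ιTensorObj (U ρ) ((resCx φ).obj ((resCx α).obj P)) 0 n n (zero_add n) ▷ (U φ).X 0) ≫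
      ιTensorObj (U ρ ⊗ (resCx φ).obj ((resCx α).obj P)) (U φ) n 0 n (add_zero n) ≫
        ((α_ (U ρ) ((resCx φ).obj ((resCx α).obj P)) (U φ)).hom ≫
          (U ρ ◁ actM φ ((resCx α).obj P)) ≫ actT' h P).f n =
      (α_ _ _ _).hom ≫ (_ ◁ aR (P.X n) _ (s₀ A)) ≫ aL h (P.X n) _ (s₀ R') := by
    rw [HomologicalComplex.comp_f, HomologicalComplex.comp_f]
    rw [reassoc_of% (ι_associator_hom (U ρ) ((resCx φ).obj ((resCx α).obj P)) (U φ) 0 n 0 n n n
      (zero_add n) (add_zero n) (by omega))]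
    erw [ι_whiskerLeft_assoc (U ρ) (actM φ ((resCx α).obj P)) 0 n n (zero_add n)]
    erw [ι_actT' h P n]
    rw [← whiskerLeft_comp_assoc]
    erw [ι_actM' (φ := φ) (α := α) P n]
    rfl
  have hR : (ιTensorObj (U ρ) ((resCx φ).obj ((resCx α).obj P)) 0 n n (zero_add n) ▷ (U φ).X 0) ≫
      ιTensorObj (U ρ ⊗ (resCx φ).obj ((resCx α).obj P)) (U φ) n 0 n (add_zero n) ≫
        ((actT' h P ▷ U φ) ≫ actM φ ((resCx α).obj P)).f n =
      (aL h (P.X n) _ (s₀ R') ▷ _) ≫ aR (P.X n) _ (s₀ A) := by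
    have e1 := ι_whiskerRight (actT' h P) (U φ) n 0 n (add_zero n)
    have e2 := ι_actM' (φ := φ) (α := α) P n
    have e3 := ι_actT' h P n
    rw [HomologicalComplex.comp_f]
    refine (congrArg (fun z => (ιTensorObj (U ρ) ((resCx φ).obj ((resCx α).obj P)) 0 n n
      (zero_add n) ▷ (U φ).X 0) ≫ z) ((reassoc_of% e1) _)).trans ?_
    refine (congrArg (fun z => (ιTensorObj (U ρ) ((resCx φ).obj ((resCx α).obj P)) 0 n n
      (zero_add n) ▷ (U φ).X 0) ≫ ((actT' h P).f n ▷ (U φ).X 0) ≫ z) e2).trans ?_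
    refine (Category.assoc _ _ _).symm.trans ?_
    refine congrArg (fun z => z ≫ aR (P.X n) _ (s₀ A)) ?_
    refine (comp_whiskerRight _ _ _).symm.trans ?_
    exact congrArg (fun z => z ▷ (U φ).X 0) e3
  rw [hL, hR]
  exact bimod_mod h (P.X n) _ (s₀ R') _ (s₀ A)

end Complex

end Groth.Agent.Lib.helper23.TrD
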