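import Mathlib
import Groth.Prelude.Def_DTen5
import Groth.Agent.Lib.Helper23.TrD4

/-!
# The lax monoidal structure of restriction is right linear, on complexes (helper23)

For `φ : R → A` and complexes `Y, N` of `A`-modules: the map `resTenCx φ Y N : Y|_R ⊗ N|_R ⟶ (Y ⊗_A N)|_R` is compatible
with the right actions of `U φ = (A[0])|_R` (`resTenCx_actM`).
-/

set_option autoImplicit false
universe u
open CategoryTheory CategoryTheory.Limits MonoidalCategory HomologicalComplex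

namespace Groth.Agent.Lib.helper23.MixD

open DTen Groth.Agent.Lib.helper13.RhomBC Groth.Agent.Lib.helper23.TrD

variable {R A : Type u} [CommRing R] [CommRing A] (φ : R →+* A)

section Module

variable (M : ModuleCat.{u} A) (Y₀ : ModuleCat.{u} A) (s' : Y₀ ≅ 𝟙_ (ModuleCat.{u} A))

/-- the right action at the module level -/
noncomputable def aRm : (resM φ).obj M ⊗ (resM φ).obj Y₀ ⟶ (resM φ).obj M :=
  resTen₀app φ M Y₀ ≫ (resM φ).map ((_ ◁ s'.hom) ≫ (ρ_ _).hom)

lemma aRm_naturality {M M' : ModuleCat.{u} A} (g : M ⟶ M') :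
    ((resM φ).map g ▷ (resM φ).obj Y₀) ≫ aRm φ M' Y₀ s' = aRm φ M Y₀ s' ≫ (resM φ).map g := by
  have h1 := resTen₀app_naturality φ g (𝟙 Y₀)
  have h2 := MonoidalCategory.rightUnitor_naturality g
  have h3 := MonoidalCategory.whisker_exchange g s'.hom
  dsimp only [aRm]
  rw [CategoryTheory.Functor.map_id, tensorHom_id] at h1
  rw [reassoc_of% h1, Category.assoc, ← Functor.map_comp, ← Functor.map_comp, tensorHom_id]
  congr 2
  rw [← Category.assoc, ← h3, Category.assoc, h2, Category.assoc]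

lemma resTen₀app_aRm (Y₁ N₁ : ModuleCat.{u} A) :
    (resTen₀app φ Y₁ N₁ ▷ (resM φ).obj Y₀) ≫ aRm φ (Y₁ ⊗ N₁) Y₀ s' =
      (α_ ((resM φ).obj Y₁) ((resM φ).obj N₁) ((resM φ).obj Y₀)).hom ≫
        ((resM φ).obj Y₁ ◁ aRm φ N₁ Y₀ s') ≫ resTen₀app φ Y₁ N₁ := by
  ext : 1
  refine TensorProduct.ext_threefold (fun y n u => ?_)
  change (s'.hom.hom u : A) • ((show Y₁ from y) ⊗ₜ[A] (show N₁ from n)) =
    (show Y₁ from y) ⊗ₜ[A] ((s'.hom.hom u : A) • (show N₁ from n))
  exact (TensorProduct.tmul_smul _ _ _).symm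

end Module

section Complex

variable (Y N : DRing.Cx A)

lemma ι_actM' (P : DRing.Cx A) (n : ℤ) :
    ιTensorObj ((resCx φ).obj P) (U φ) n 0 n (add_zero n) ≫ (actM φ P).f n =
      aRm φ (P.X n) _ (s₀ A) :=
  ι_actM φ P n

/-- `resTenCx` is right `U`-linear -/
theorem resTenCx_actM :
    (resTenCx φ Y N ▷ U φ) ≫ actM φ (Y ⊗ N) =
      (α_ ((resCx φ).obj Y) ((resCx φ).obj N) (U φ)).hom ≫ ((resCx φ).obj Y ◁ actM φ N) ≫
        resTenCx φ Y N := by
  refine HomologicalComplex.hom_ext _ _ (fun n => ?_)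
  refine GradedObject.Monoidal.tensorObj₃'_ext (X₁ := ((resCx φ).obj Y).X) (X₂ := ((resCx φ).obj N).X)
    (X₃ := (U φ).X) _ _ (fun p q r h => ?_)
  by_cases hr : r = 0
  · subst hr
    have hn : p + q = n := by omega
    rw [GradedObject.Monoidal.ιTensorObj₃'_eq _ _ _ p q 0 n h n hn]
    have hL : (ιTensorObj ((resCx φ).obj Y) ((resCx φ).obj N) p q n hn ▷ (U φ).X 0) ≫
        ιTensorObj ((resCx φ).obj Y ⊗ (resCx φ).obj N) (U φ) n 0 n (add_zero n) ≫
          ((resTenCx φ Y N ▷ U φ) ≫ actM φ (Y ⊗ N)).f n =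
        ((resTen₀app φ (Y.X p) (N.X q) ▷ _) ≫ aRm φ (Y.X p ⊗ N.X q) _ (s₀ A)) ≫
          (resM φ).map (ιTensorObj Y N p q n hn) := by
      have e1 := ι_whiskerRight (resTenCx φ Y N) (U φ) n 0 n (add_zero n)
      have e2 := ι_actM' φ (Y ⊗ N) n
      have e3 := ι_resTenCx φ Y N p q n hn
      have e4 := aRm_naturality φ _ (s₀ A) (ιTensorObj Y N p q n hn)
      rw [HomologicalComplex.comp_f]
      refine (congrArg (fun z => (ιTensorObj ((resCx φ).obj Y) ((resCx φ).obj N) p q n hn ▷ (U φ).X 0) ≫ z)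
        ((reassoc_of% e1) _)).trans ?_
      refine (congrArg (fun z => (ιTensorObj ((resCx φ).obj Y) ((resCx φ).obj N) p q n hn ▷ (U φ).X 0) ≫
        ((resTenCx φ Y N).f n ▷ (U φ).X 0) ≫ z) e2).trans ?_
      refine (Category.assoc _ _ _).symm.trans ?_
      have e5 : (ιTensorObj ((resCx φ).obj Y) ((resCx φ).obj N) p q n hn ▷ (U φ).X 0) ≫
          ((resTenCx φ Y N).f n ▷ (U φ).X 0) =
          (resTen₀app φ (Y.X p) (N.X q) ▷ (U φ).X 0) ≫
            ((resM φ).map (ιTensorObj Y N p q n hn) ▷ (U φ).X 0) := by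
        refine (comp_whiskerRight _ _ _).symm.trans ?_
        refine (congrArg (fun z => z ▷ (U φ).X 0) e3).trans ?_
        exact comp_whiskerRight _ _ _
      refine (congrArg (fun z => z ≫ aRm φ ((Y ⊗ N).X n) _ (s₀ A)) e5).trans ?_
      · refine (Category.assoc _ _ _).trans ?_
        refine (congrArg (fun z => (resTen₀app φ (Y.X p) (N.X q) ▷ _) ≫ z) e4).trans ?_
        exact (Category.assoc _ _ _).symm
    have hR : (ιTensorObj ((resCx φ).obj Y) ((resCx φ).obj N) p q n hn ▷ (U φ).X 0) ≫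
        ιTensorObj ((resCx φ).obj Y ⊗ (resCx φ).obj N) (U φ) n 0 n (add_zero n) ≫
          ((α_ ((resCx φ).obj Y) ((resCx φ).obj N) (U φ)).hom ≫ ((resCx φ).obj Y ◁ actM φ N) ≫
            resTenCx φ Y N).f n =
        ((α_ _ _ _).hom ≫ (_ ◁ aRm φ (N.X q) _ (s₀ A)) ≫ resTen₀app φ (Y.X p) (N.X q)) ≫
          (resM φ).map (ιTensorObj Y N p q n hn) := by
      have e1 := ι_associator_hom ((resCx φ).obj Y) ((resCx φ).obj N) (U φ) p q 0 n q n hn (add_zero q)
        (by omega)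
      have e2 := ι_whiskerLeft ((resCx φ).obj Y) (actM φ N) p q n hn
      have e3 := ι_actM' φ N q
      have e4 := ι_resTenCx φ Y N p q n hn
      rw [HomologicalComplex.comp_f, HomologicalComplex.comp_f]
      rw [reassoc_of% e1]
      erw [reassoc_of% e2]
      erw [e4]
      rw [← whiskerLeft_comp_assoc]
      erw [e3]
      simp only [Category.assoc]
      rfl
    rw [Category.assoc, Category.assoc]
    refine Eq.trans hL (Eq.trans ?_ hR.symm)
    rw [resTen₀app_aRm]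
  · exact (isZero_tensor_of_right (isZero_U_X φ r hr)).eq_of_src _ _

end Complex

end Groth.Agent.Lib.helper23.MixD
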