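import Mathlib
import Groth.Prelude.Def_DTen6
import Groth.Agent.Lib.Helper23.TrD4

/-!
# The projection formula on complexes (helper23)

For `φ : R → A`, a complex `K` of `R`-modules and a complex `N` of `A`-modules: the map
`pCx φ K N : K ⊗_R N|_R ⟶ ((A ⊗_R K) ⊗_A N)|_R`, `k ⊗ n ↦ (1 ⊗ k) ⊗ n`, is an isomorphism of complexes (`isIso_pCx`).
-/

set_option autoImplicit false
universe u
open CategoryTheory CategoryTheory.Limits MonoidalCategory HomologicalComplex

namespace Groth.Agent.Lib.helper23.MixD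

open DTen Groth.Agent.Lib.helper13.RhomBC Groth.Agent.Lib.helper23.TrD TensorProduct

lemma addHom_ext' {S : Type*} [CommSemiring S] {M N P : Type*} [AddCommMonoid M] [AddCommMonoid N]
    [AddCommMonoid P] [Module S M] [Module S N] (f g : M ⊗[S] N →+ P)
    (h : ∀ m n, f (m ⊗ₜ n) = g (m ⊗ₜ n)) : f = g := by
  ext x
  induction x using TensorProduct.induction_on with
  | zero => simp
  | tmul m n => exact h m n
  | add x y hx hy => rw [map_add, map_add, hx, hy]

variable {R A : Type u} [CommRing R] [CommRing A] (φ : R →+* A)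

section Module

variable (M : ModuleCat.{u} R) (N₁ : ModuleCat.{u} A)

/-- `M ⊗_R N|_R ⟶ ((A ⊗_R M) ⊗_A N)|_R`, `m ⊗ n ↦ (1 ⊗ m) ⊗ n` -/
noncomputable def pm : M ⊗ (resM φ).obj N₁ ⟶ (resM φ).obj ((extM φ).obj M ⊗ N₁) :=
  ((ModuleCat.extendRestrictScalarsAdj.{u, u, u} φ).unit.app M ▷ (resM φ).obj N₁) ≫
    resTen₀app φ ((extM φ).obj M) N₁

/-- the underlying type of `A ⊗_R M` -/
abbrev EE : Type u := ((extM φ).obj M : ModuleCat.{u} A)

/-- the pure tensor `a ⊗ m` of `A ⊗_R M` -/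
noncomputable def et (a : A) (m : M) : EE φ M :=
  (show (resM φ).obj (ModuleCat.of A A) from a) ⊗ₜ[R] m

/-- the source -/
abbrev Sc : Type u := (M ⊗ (resM φ).obj N₁ : ModuleCat.{u} R)

/-- the pure tensor `m ⊗ n` of the source -/
noncomputable def st (m : M) (n : N₁) : Sc φ M N₁ := m ⊗ₜ[R] (show (resM φ).obj N₁ from n)

/-- the target -/
abbrev Tg : Type u := ((extM φ).obj M ⊗ N₁ : ModuleCat.{u} A)

/-- the pure tensor `x ⊗ n` of the target -/
noncomputable def tt (x : EE φ M) (n : N₁) : Tg φ M N₁ := x ⊗ₜ[A] n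

/-- the underlying additive map of `pm` -/
noncomputable def pmF : Sc φ M N₁ →+ Tg φ M N₁ := (pm φ M N₁).hom.toAddMonoidHom

lemma pmF_st (m : M) (n : N₁) : pmF φ M N₁ (st φ M N₁ m n) = tt φ M N₁ (et φ M 1 m) n := rfl

lemma smul_et (a a' : A) (m : M) : a • et φ M a' m = et φ M (a * a') m := rfl

lemma tt_smul (a : A) (x : EE φ M) (n : N₁) : tt φ M N₁ (a • x) n = tt φ M N₁ x (a • n) :=
  TensorProduct.smul_tmul _ _ _

lemma st_smul (r : R) (m : M) (n : N₁) : st φ M N₁ (r • m) n = st φ M N₁ m (φ r • n) :=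
  TensorProduct.smul_tmul _ _ _

/-- `a, m ↦ (n ↦ m ⊗ a n)` -/
noncomputable def k₀ (a : A) (m : M) : N₁ →+ Sc φ M N₁ where
  toFun n := st φ M N₁ m (a • n)
  map_zero' := by
    rw [smul_zero]
    exact tmul_zero _ _
  map_add' n n' := by
    rw [smul_add]
    exact tmul_add _ _ _

noncomputable def k₁ (a : A) : M →+ (N₁ →+ Sc φ M N₁) where
  toFun m := k₀ φ M N₁ a m
  map_zero' := by
    ext n
    exact zero_tmul _ _
  map_add' m m' := by
    ext n
    exact add_tmul _ _ _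

noncomputable def k₂ : ((resM φ).obj (ModuleCat.of A A)) →+ (M →+ (N₁ →+ Sc φ M N₁)) where
  toFun a := k₁ φ M N₁ (show A from a)
  map_zero' := by
    ext m n
    change st φ M N₁ m ((0 : A) • n) = 0
    rw [zero_smul]
    exact tmul_zero _ _
  map_add' a a' := by
    ext m n
    change st φ M N₁ m (((show A from a) + (show A from a')) • n) =
      st φ M N₁ m ((show A from a) • n) + st φ M N₁ m ((show A from a') • n)
    rw [add_smul]
    exact tmul_add _ _ _

noncomputable def kE : EE φ M →+ (N₁ →+ Sc φ M N₁) :=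
  TensorProduct.liftAddHom (k₂ φ M N₁) (by
    intro r a m
    ext n
    change st φ M N₁ m ((φ r * (show A from a)) • n) = st φ M N₁ (r • m) ((show A from a) • n)
    rw [st_smul, mul_smul])

lemma kE_et (a : A) (m : M) (n : N₁) : kE φ M N₁ (et φ M a m) n = st φ M N₁ m (a • n) := rfl

lemma kE_smul (a : A) (x : EE φ M) (n : N₁) : kE φ M N₁ (a • x) n = kE φ M N₁ x (a • n) := by
  let F₁ : EE φ M →+ Sc φ M N₁ :=
    ((AddMonoidHom.eval n).comp (kE φ M N₁)).comp (DistribSMul.toAddMonoidHom (EE φ M) a)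
  let F₂ : EE φ M →+ Sc φ M N₁ := (AddMonoidHom.eval (a • n)).comp (kE φ M N₁)
  have h : F₁ = F₂ := by
    refine addHom_ext' (S := R) F₁ F₂ (fun a' m => ?_)
    change kE φ M N₁ (a • et φ M a' m) n = kE φ M N₁ (et φ M a' m) (a • n)
    rw [smul_et, kE_et, kE_et, mul_comm, mul_smul]
  exact DFunLike.congr_fun h x

noncomputable def qm : Tg φ M N₁ →+ Sc φ M N₁ :=
  TensorProduct.liftAddHom (kE φ M N₁) (kE_smul φ M N₁)

lemma qm_tt (x : EE φ M) (n : N₁) : qm φ M N₁ (tt φ M N₁ x n) = kE φ M N₁ x n := rfl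

lemma qm_pm : (qm φ M N₁).comp (pmF φ M N₁) = AddMonoidHom.id _ := by
  refine addHom_ext' (S := R) _ _ (fun m n => ?_)
  change qm φ M N₁ (pmF φ M N₁ (st φ M N₁ m n)) = st φ M N₁ m n
  rw [pmF_st, qm_tt, kE_et, one_smul]

lemma pm_qm : (pmF φ M N₁).comp (qm φ M N₁) = AddMonoidHom.id _ := by
  refine addHom_ext' (S := A) _ _ (fun x n => ?_)
  change pmF φ M N₁ (qm φ M N₁ (tt φ M N₁ x n)) = tt φ M N₁ x n
  rw [qm_tt]
  let F₁ : EE φ M →+ Tg φ M N₁ :=
    (pmF φ M N₁).comp ((AddMonoidHom.eval n).comp (kE φ M N₁))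
  let F₂ : EE φ M →+ Tg φ M N₁ :=
    { toFun := fun x => tt φ M N₁ x n
      map_zero' := zero_tmul _ _
      map_add' := fun _ _ => add_tmul _ _ _ }
  have h : F₁ = F₂ := by
    refine addHom_ext' (S := R) F₁ F₂ (fun a m => ?_)
    change pmF φ M N₁ (kE φ M N₁ (et φ M a m) n) = tt φ M N₁ (et φ M a m) n
    rw [kE_et, pmF_st, ← tt_smul, smul_et, mul_one]
  exact DFunLike.congr_fun h x

instance isIso_pm : IsIso (pm φ M N₁) := by
  rw [ConcreteCategory.isIso_iff_bijective]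
  refine ⟨?_, ?_⟩
  · intro t t' h
    have h1 := DFunLike.congr_fun (qm_pm φ M N₁) t
    have h2 := DFunLike.congr_fun (qm_pm φ M N₁) t'
    have h3 : pmF φ M N₁ t = pmF φ M N₁ t' := h
    change qm φ M N₁ (pmF φ M N₁ t) = t at h1
    change qm φ M N₁ (pmF φ M N₁ t') = t' at h2
    rw [← h1, ← h2, h3]
  · intro y
    exact ⟨qm φ M N₁ y, DFunLike.congr_fun (pm_qm φ M N₁) y⟩

end Module

section Complex

set_option backward.isDefEq.respectTransparency false

variable (K : DRing.Cx R) (N : DRing.Cx A)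

/-- `K ⊗_R N|_R ⟶ ((A ⊗_R K) ⊗_A N)|_R`, `k ⊗ n ↦ (1 ⊗ k) ⊗ n` -/
noncomputable def pCx : K ⊗ (resCx φ).obj N ⟶ (resCx φ).obj ((mixT φ).obj (K, N)) :=
  ((unitCx φ).app K ▷ (resCx φ).obj N) ≫ resTenCx φ ((extCx φ).obj K) N

/-- `pm` on the terms of the complexes -/
noncomputable def pmX (p q : ℤ) :
    K.X p ⊗ ((resCx φ).obj N).X q ⟶ (resM φ).obj (((extCx φ).obj K).X p ⊗ N.X q) :=
  pm φ (K.X p) (N.X q)

instance isIso_pmX (p q : ℤ) : IsIso (pmX φ K N p q) := isIso_pm φ (K.X p) (N.X q)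

@[reassoc]
lemma ι_pCx (p q n : ℤ) (h : p + q = n) :
    ιTensorObj K ((resCx φ).obj N) p q n h ≫ (pCx φ K N).f n =
      pmX φ K N p q ≫ (resM φ).map (ιTensorObj ((extCx φ).obj K) N p q n h) := by
  dsimp only [pCx]
  rw [HomologicalComplex.comp_f]
  erw [ι_whiskerRight_assoc ((unitCx φ).app K) ((resCx φ).obj N) p q n h]
  erw [ι_resTenCx φ ((extCx φ).obj K) N p q n h]
  dsimp only [pmX, pm]
  rw [Category.assoc]
  rfl

/-- the bicomplex `(p, q) ↦ ((A ⊗ K^p) ⊗_A N^q)|_R` -/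
noncomputable abbrev Bic : HomologicalComplex₂ (ModuleCat.{u} R) (ComplexShape.up ℤ) (ComplexShape.up ℤ) :=
  (TotMap.map₂ (resM φ) (ComplexShape.up ℤ) (ComplexShape.up ℤ)).obj (tenBicx ((extCx φ).obj K) N)

instance isIso_pCx_f (n : ℤ) : IsIso ((pCx φ K N).f n) := by
  let e := TotMap.mapTotalXIso (resM φ) (tenBicx ((extCx φ).obj K) N) (ComplexShape.up ℤ) n
  let f' : (K ⊗ (resCx φ).obj N).X n ⟶ ((Bic φ K N).total (ComplexShape.up ℤ)).X n :=
    (pCx φ K N).f n ≫ e.hom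
  let g' : ((Bic φ K N).total (ComplexShape.up ℤ)).X n ⟶ (K ⊗ (resCx φ).obj N).X n :=
    (Bic φ K N).totalDesc (fun p q h => inv (pmX φ K N p q) ≫ ιTensorObj K ((resCx φ).obj N) p q n h)
  have hι : ∀ (p q : ℤ) (h : p + q = n),
      ιTensorObj K ((resCx φ).obj N) p q n h ≫ f' =
        pmX φ K N p q ≫ (Bic φ K N).ιTotal (ComplexShape.up ℤ) p q n h := by
    intro p q h
    dsimp only [f']
    rw [ι_pCx_assoc]
    erw [TotMap.map_ιTotal_mapTotalXIso_hom (resM φ) (tenBicx ((extCx φ).obj K) N) (ComplexShape.up ℤ) p q n h]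
  have h1 : f' ≫ g' = 𝟙 _ := by
    refine HomologicalComplex.mapBifunctor.hom_ext (fun p q h => ?_)
    erw [reassoc_of% (hι p q h)]
    dsimp only [g']
    rw [HomologicalComplex₂.ι_totalDesc, IsIso.hom_inv_id_assoc]
    exact (Category.comp_id _).symm
  have h2 : g' ≫ f' = 𝟙 _ := by
    refine HomologicalComplex₂.total.hom_ext _ (fun p q h => ?_)
    dsimp only [g']
    rw [HomologicalComplex₂.ι_totalDesc_assoc, Category.assoc, hι p q h, IsIso.inv_hom_id_assoc]
    exact (Category.comp_id _).symm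
  haveI : IsIso f' := ⟨g', h1, h2⟩
  exact IsIso.of_isIso_comp_right ((pCx φ K N).f n) e.hom

instance isIso_pCx : IsIso (pCx φ K N) := HomologicalComplex.Hom.isIso_of_components _

end Complex

end Groth.Agent.Lib.helper23.MixD
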