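import Mathlib
import Groth.Prelude.Def_DTen5
import Groth.Agent.Lib.Helper23.TrD4
import Groth.Agent.Lib.Helper23.TrD5
import Groth.Agent.Lib.Helper23.TrD7

/-!
# The bimodule identity in the derived category (helper23)

For a commutative square of rings `φ : R → A`, `ρ : R → R'`, `α : A → A'`, `φ' : R' → A'` and `V ∈ D(A')`:
the left action `actL' h V` of `R'|_R` and the right action `actR' V` of `A|_R` on `V|_R` commute (`bimod_derived`).
-/

set_option autoImplicit false
universe u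
open CategoryTheory CategoryTheory.Limits MonoidalCategory
attribute [local instance] HasDerivedCategory.standard

namespace Groth.Agent.Lib.helper23.TrD

open DTen TrivBC Groth.Agent.Lib.helper13.PerfInd Groth.Agent.Lib.helper23.TIB

variable {R A R' A' : Type u} [CommRing R] [CommRing A] [CommRing R'] [CommRing A']
  {φ : R →+* A} {ρ : R →+* R'} {α : A →+* A'} {φ' : R' →+* A'} (h : α.comp φ = φ'.comp ρ)
  [HasLTen R]

/-- `V|_A|_R` -/
noncomputable abbrev Wd (φ : R →+* A) (α : A →+* A') (V : Dual.D A') : Dual.D R :=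
  (DRing.restrictD φ).obj ((DRing.restrictD α).obj V)

/-- the left action of `R'|_R` on `V|_R` -/
noncomputable def actL' (V : Dual.D A') : (LTen₂ R).obj (T ρ, Wd φ α V) ⟶ Wd φ α V :=
  tmap (𝟙 (T ρ)) ((resComm h).hom.app V) ≫ (actL ρ).app ((DRing.restrictD φ').obj V) ≫
    (resComm h).inv.app V

/-- the right action of `A|_R` on `V|_R` -/
noncomputable def actR' (φ : R →+* A) (α : A →+* A') (V : Dual.D A') :
    (LTen₂ R).obj (Wd φ α V, T φ) ⟶ Wd φ α V :=
  (actR φ).app ((DRing.restrictD α).obj V)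

omit [HasLTen R] in
@[reassoc]
lemma tmap_id_left_comp [HasLTen R] (X : Dual.D R) {Y Y' Y'' : Dual.D R} (g : Y ⟶ Y') (g' : Y' ⟶ Y'') :
    tmap (𝟙 X) g ≫ tmap (𝟙 X) g' = tmap (𝟙 X) (g ≫ g') := by
  rw [← tmap_comp, Category.comp_id]

omit [HasLTen R] in
@[reassoc]
lemma tmap_id_right_comp [HasLTen R] (X : Dual.D R) {Y Y' Y'' : Dual.D R} (g : Y ⟶ Y') (g' : Y' ⟶ Y'') :
    tmap g (𝟙 X) ≫ tmap g' (𝟙 X) = tmap (g ≫ g') (𝟙 X) := by
  rw [← tmap_comp, Category.comp_id]

omit [HasLTen R] in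
@[reassoc]
lemma tmap_comp' [HasLTen R] {X X' X'' Y Y' Y'' : Dual.D R} (f : X ⟶ X') (f' : X' ⟶ X'') (g : Y ⟶ Y')
    (g' : Y' ⟶ Y'') : tmap f g ≫ tmap f' g' = tmap (f ≫ f') (g ≫ g') := (tmap_comp f f' g g').symm

lemma actL'_naturality {V V' : Dual.D A'} (v : V ⟶ V') :
    tmap (𝟙 (T ρ)) ((DRing.restrictD φ).map ((DRing.restrictD α).map v)) ≫ actL' h V' =
      actL' h V ≫ (DRing.restrictD φ).map ((DRing.restrictD α).map v) := by
  have e1 := (resComm h).hom.naturality v
  have e2 := (actL ρ).naturality ((DRing.restrictD φ').map v)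
  have e3 := (resComm h).inv.naturality v
  dsimp only [Functor.comp_obj, Functor.comp_map] at e1 e2 e3
  dsimp only [actL']
  simp only [Category.assoc]
  rw [← e3, ← reassoc_of% e2, tensorLeftD_map, tmap_id_left_comp_assoc, tmap_id_left_comp_assoc, e1]

lemma actR'_naturality {V V' : Dual.D A'} (v : V ⟶ V') :
    tmap ((DRing.restrictD φ).map ((DRing.restrictD α).map v)) (𝟙 (T φ)) ≫ actR' φ α V' =
      actR' φ α V ≫ (DRing.restrictD φ).map ((DRing.restrictD α).map v) :=
  (actR φ).naturality ((DRing.restrictD α).map v)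

section Q

variable (P : DRing.Cx A')

/-- `(Q P)|_A|_R ≅ Q(P|_A|_R)` -/
noncomputable def wIso {R A A' : Type u} [CommRing R] [CommRing A] [CommRing A'] (φ : R →+* A) (α : A →+* A')
    (P : DRing.Cx A') :
    Wd φ α (DerivedCategory.Q.obj P) ≅ DerivedCategory.Q.obj ((resCx φ).obj ((resCx α).obj P)) :=
  (DRing.restrictD φ).mapIso ((resFactors α).app P) ≪≫ (resFactors φ).app ((resCx α).obj P)

omit [HasLTen R] in
lemma resComm_app_Q :
    (resComm h).app (DerivedCategory.Q.obj P) =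
      wIso φ α P ≪≫ DerivedCategory.Q.mapIso (eqC h P) ≪≫ (wIso ρ φ' P).symm := by
  ext
  have := resComm_hom_app_Q h P
  dsimp only [wIso, Iso.trans_hom, Iso.symm_hom, Iso.app_hom, Functor.mapIso_hom, Iso.trans_inv,
    Functor.mapIso_inv, Iso.app_inv]
  erw [this]
  simp only [Category.assoc]

lemma actR_res_Q {R A A' : Type u} [CommRing R] [CommRing A] [CommRing A'] [HasLTen R] (φ : R →+* A)
    (α : A →+* A') (P : DRing.Cx A') :
    (actR φ).app ((DRing.restrictD α).obj (DerivedCategory.Q.obj P)) =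
      tmap (wIso φ α P).hom (tU φ).hom ≫ (ε R).app ((resCx φ).obj ((resCx α).obj P), U φ) ≫
        DerivedCategory.Q.map (actM φ ((resCx α).obj P)) ≫ (wIso φ α P).inv := by
  have e1 := (actR φ).naturality ((resFactors α).hom.app P)
  have e2 := actR_app_Q φ ((resCx α).obj P)
  dsimp only [Functor.comp_obj, Functor.comp_map] at e1
  have e3 : (actR φ).app ((DRing.restrictD α).obj (DerivedCategory.Q.obj P)) =
      ((LTen R).flip.obj (T φ)).map ((DRing.restrictD φ).map ((resFactors α).hom.app P)) ≫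
        (actR φ).app (DerivedCategory.Q.obj ((resCx α).obj P)) ≫
          (DRing.restrictD φ).map ((resFactors α).inv.app P) := by
    rw [reassoc_of% e1, ← Functor.map_comp, Iso.hom_inv_id_app]
    erw [CategoryTheory.Functor.map_id, Category.comp_id]
  rw [e3, e2, tensorRightD_map]
  dsimp only [wIso, Iso.trans_hom, Iso.trans_inv, Functor.mapIso_hom, Functor.mapIso_inv, Iso.app_hom,
    Iso.app_inv]
  change _ ≫ (tmap _ _ ≫ _) ≫ _ = _
  simp only [Category.assoc]
  rw [tmap_comp'_assoc, Category.id_comp]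

lemma actL_res_Q {R A A' : Type u} [CommRing R] [CommRing A] [CommRing A'] [HasLTen R] (φ : R →+* A)
    (α : A →+* A') (P : DRing.Cx A') :
    (actL φ).app ((DRing.restrictD α).obj (DerivedCategory.Q.obj P)) =
      tmap (tU φ).hom (wIso φ α P).hom ≫ (ε R).app (U φ, (resCx φ).obj ((resCx α).obj P)) ≫
        DerivedCategory.Q.map (actT φ ((resCx α).obj P)) ≫ (wIso φ α P).inv := by
  have e1 := (actL φ).naturality ((resFactors α).hom.app P)
  have e2 := actL_app_Q φ ((resCx α).obj P)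
  dsimp only [Functor.comp_obj, Functor.comp_map] at e1
  have e3 : (actL φ).app ((DRing.restrictD α).obj (DerivedCategory.Q.obj P)) =
      ((LTen R).obj (T φ)).map ((DRing.restrictD φ).map ((resFactors α).hom.app P)) ≫
        (actL φ).app (DerivedCategory.Q.obj ((resCx α).obj P)) ≫
          (DRing.restrictD φ).map ((resFactors α).inv.app P) := by
    rw [reassoc_of% e1, ← Functor.map_comp, Iso.hom_inv_id_app]
    erw [CategoryTheory.Functor.map_id, Category.comp_id]
  rw [e3, e2, tensorLeftD_map]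
  dsimp only [wIso, Iso.trans_hom, Iso.trans_inv, Functor.mapIso_hom, Functor.mapIso_inv, Iso.app_hom,
    Iso.app_inv]
  change _ ≫ (tmap _ _ ≫ _) ≫ _ = _
  simp only [Category.assoc]
  rw [tmap_comp'_assoc, Category.id_comp]

lemma actR'_Q :
    actR' φ α (DerivedCategory.Q.obj P) =
      tmap (wIso φ α P).hom (tU φ).hom ≫ (ε R).app ((resCx φ).obj ((resCx α).obj P), U φ) ≫
        DerivedCategory.Q.map (actM φ ((resCx α).obj P)) ≫ (wIso φ α P).inv :=
  actR_res_Q φ α P

lemma actL'_Q :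
    actL' h (DerivedCategory.Q.obj P) =
      tmap (tU ρ).hom (wIso φ α P).hom ≫ (ε R).app (U ρ, (resCx φ).obj ((resCx α).obj P)) ≫
        DerivedCategory.Q.map (actT' h P) ≫ (wIso φ α P).inv := by
  have e1 := actL_res_Q ρ φ' P
  have e2 := resComm_app_Q h P
  have e2h : (resComm h).hom.app (DerivedCategory.Q.obj P) =
      (wIso φ α P).hom ≫ DerivedCategory.Q.map (eqC h P).hom ≫ (wIso ρ φ' P).inv :=
    congrArg Iso.hom e2
  have e2i : (resComm h).inv.app (DerivedCategory.Q.obj P) =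
      (wIso ρ φ' P).hom ≫ DerivedCategory.Q.map (eqC h P).inv ≫ (wIso φ α P).inv := by
    have := congrArg Iso.inv e2
    simpa using this
  have e3 := ε_naturality (𝟙 (U ρ)) (eqC h P).hom
  rw [id_tensorHom, CategoryTheory.Functor.map_id] at e3
  dsimp only [actL']
  rw [e1, e2h, e2i]
  dsimp only [actT']
  simp only [Category.assoc, Iso.inv_hom_id_assoc, Functor.map_comp]
  rw [tmap_comp'_assoc, Category.id_comp, ← reassoc_of% e3, tmap_comp'_assoc, Category.comp_id]
  simp only [Category.assoc, Iso.inv_hom_id, Category.comp_id]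

variable [HasLTen₃ R] [IsSymMonoidal R]

theorem bimod_derived_Q :
    (associator (T ρ) (Wd φ α (DerivedCategory.Q.obj P)) (T φ)).hom ≫
        tmap (𝟙 (T ρ)) (actR' φ α (DerivedCategory.Q.obj P)) ≫ actL' h (DerivedCategory.Q.obj P) =
      tmap (actL' h (DerivedCategory.Q.obj P)) (𝟙 (T φ)) ≫ actR' φ α (DerivedCategory.Q.obj P) := by
  rw [actL'_Q, actR'_Q]
  exact bimod_of_cx (tU ρ) (wIso φ α P) (tU φ) (actT' h P) (actM φ ((resCx α).obj P)) (bimod h P)

end Q

variable [HasLTen₃ R] [IsSymMonoidal R]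

theorem bimod_derived (V : Dual.D A') :
    (associator (T ρ) (Wd φ α V) (T φ)).hom ≫ tmap (𝟙 (T ρ)) (actR' φ α V) ≫ actL' h V =
      tmap (actL' h V) (𝟙 (T φ)) ≫ actR' φ α V := by
  obtain ⟨P, ⟨e⟩⟩ : ∃ P : DRing.Cx A', Nonempty (DerivedCategory.Q.obj P ≅ V) :=
    ⟨_, ⟨DerivedCategory.Q.objObjPreimageIso V⟩⟩
  set r : Wd φ α (DerivedCategory.Q.obj P) ⟶ Wd φ α V :=
    (DRing.restrictD φ).map ((DRing.restrictD α).map e.hom) with hr
  haveI : IsIso r := by rw [hr]; infer_instance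
  have hQ := bimod_derived_Q h P
  have n1 : tmap (𝟙 (T ρ)) r ≫ actL' h V = actL' h (DerivedCategory.Q.obj P) ≫ r :=
    actL'_naturality h e.hom
  have n2 : tmap r (𝟙 (T φ)) ≫ actR' φ α V = actR' φ α (DerivedCategory.Q.obj P) ≫ r :=
    actR'_naturality e.hom
  have n3 := associator_naturality (𝟙 (T ρ)) r (𝟙 (T φ))
  haveI : IsIso (tmap (tmap (𝟙 (T ρ)) r) (𝟙 (T φ))) := by
    refine ⟨tmap (tmap (𝟙 (T ρ)) (inv r)) (𝟙 (T φ)), ?_, ?_⟩
    · rw [tmap_id_right_comp, tmap_id_left_comp, IsIso.hom_inv_id]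
      simp [tmap]
    · rw [tmap_id_right_comp, tmap_id_left_comp, IsIso.inv_hom_id]
      simp [tmap]
  rw [← cancel_epi (tmap (tmap (𝟙 (T ρ)) r) (𝟙 (T φ)))]
  rw [reassoc_of% n3, tmap_id_left_comp_assoc, n2, ← tmap_id_left_comp_assoc, n1, ← Category.assoc,
    ← Category.assoc, Category.assoc _ _ (actL' h (DerivedCategory.Q.obj P)), hQ]
  rw [tmap_id_right_comp_assoc, n1, ← tmap_id_right_comp_assoc, n2, Category.assoc]

end Groth.Agent.Lib.helper23.TrD
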