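import Mathlib
import Groth.Prelude.Def_DTen5
import Groth.Agent.Lib.Helper13.ExtKFlat
import Groth.Agent.Lib.Helper13.DTenB
import Groth.Agent.Lib.Helper23.TrD8
import Groth.Agent.Lib.Helper23.MixD1
import Groth.Agent.Lib.Helper23.MixD2
import Groth.Agent.Lib.Helper23.MixD3

/-!
# The projection formula in the derived category (helper23)

For `φ : R → A`, `K ∈ D(R)`, `N ∈ D(A)`:
`pf φ K N : K ⊗^L_R N|_R ⟶ ((K ⊗^L_R A) ⊗^L_A N)|_R` (unit of base change, then `DTen.resPF`), natural in both variables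
(`pf_naturality`), computed on complexes by `pCx` (`pf_Q`), an isomorphism (`isIso_pf`).
-/

set_option autoImplicit false
universe u
open CategoryTheory CategoryTheory.Limits MonoidalCategory
attribute [local instance] HasDerivedCategory.standard

namespace Groth.Agent.Lib.helper23.MixD

open DTen Groth.Agent.Lib.helper13.PerfInd Groth.Agent.Lib.helper23.TrD Groth.Agent.Lib.helper13.KFlat
  Groth.Agent.Lib.helper13.RKF Groth.Agent.Lib.helper13.DTenA

variable {R A : Type u} [CommRing R] [CommRing A] (φ : R →+* A)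
  [HasLTen R] [HasLTen A] [HasLBase φ] [HasResTen φ] [ResLegIso φ]

/-- `(K ⊗^L_R A) ⊗^L_A N` -/
noncomputable abbrev FF (K : Dual.D R) (N : Dual.D A) : Dual.D A :=
  (LTen₂ A).obj ((LBase φ).obj K, N)

/-- the projection formula map `K ⊗^L_R N|_R ⟶ ((K ⊗^L_R A) ⊗^L_A N)|_R` -/
noncomputable def pf (K : Dual.D R) (N : Dual.D A) :
    (LTen₂ R).obj (K, (DRing.restrictD φ).obj N) ⟶ (DRing.restrictD φ).obj (FF φ K N) :=
  tmap ((baseAdj φ).unit.app K) (𝟙 ((DRing.restrictD φ).obj N)) ≫ (resPF φ).app ((LBase φ).obj K, N)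

lemma pf_naturality {K K' : Dual.D R} (a : K ⟶ K') {N N' : Dual.D A} (b : N ⟶ N') :
    tmap a ((DRing.restrictD φ).map b) ≫ pf φ K' N' =
      pf φ K N ≫ (DRing.restrictD φ).map (tmap ((LBase φ).map a) b) := by
  have h1 := (baseAdj φ).unit.naturality a
  have h3 := (resPF φ).naturality (Prod.mkHom ((LBase φ).map a) b)
  dsimp at h1 h3
  dsimp only [pf]
  rw [Category.assoc]
  erw [← h3]
  rw [tmap_comp'_assoc, tmap_comp'_assoc, Category.id_comp, Category.comp_id, h1]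

/-- the comparison `(QK ⊗^L_R A) ⊗^L_A QN ⟶ Q((A ⊗_R K) ⊗_A N)`, restricted to `R` -/
noncomputable def vMap (K₀ : DRing.Cx R) (N₀ : DRing.Cx A) :
    (DRing.restrictD φ).obj (FF φ (DerivedCategory.Q.obj K₀) (DerivedCategory.Q.obj N₀)) ⟶
      DerivedCategory.Q.obj ((resCx φ).obj ((mixT φ).obj (K₀, N₀))) :=
  (DRing.restrictD φ).map ((splitβ φ).app (K₀, N₀)) ≫ (resFactors φ).hom.app ((mixT φ).obj (K₀, N₀))

/-- on images of complexes, `pf` is computed by `pCx` -/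
theorem pf_Q (K₀ : DRing.Cx R) (N₀ : DRing.Cx A) :
    pf φ (DerivedCategory.Q.obj K₀) (DerivedCategory.Q.obj N₀) ≫ vMap φ K₀ N₀ =
      tmap (𝟙 (DerivedCategory.Q.obj K₀)) ((resFactors φ).hom.app N₀) ≫
        (ε R).app (K₀, (resCx φ).obj N₀) ≫ DerivedCategory.Q.map (pCx φ K₀ N₀) := by
  have e1 := (resPF φ).naturality (Prod.mkHom ((baseCmp φ).app K₀) (𝟙 (DerivedCategory.Q.obj N₀)))
  have e2 := resPF_fac φ ((extCx φ).obj K₀, N₀)
  have e3 := baseCmp_fac φ K₀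
  have e4 := ε_naturality ((unitCx φ).app K₀) (𝟙 ((resCx φ).obj N₀))
  dsimp [baseγ, resβA, resβB] at e1 e2 e3
  rw [tensorHom_id] at e4
  have e6 : (baseAdj φ).unit.app (DerivedCategory.Q.obj K₀) ≫
      (DRing.restrictD φ).map ((baseCmp φ).app K₀) ≫ (resFactors φ).hom.app ((extCx φ).obj K₀) =
      DerivedCategory.Q.map ((unitCx φ).app K₀) := by
    rw [reassoc_of% e3]; simp
  dsimp only [pf, vMap, splitβ]
  simp only [Functor.map_comp, Category.assoc]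
  erw [← reassoc_of% e1]
  erw [e2]
  dsimp only [pCx]
  rw [Functor.map_comp, ← reassoc_of% e4]
  rw [CategoryTheory.Functor.map_id]
  change tmap _ _ ≫ tmap _ _ ≫ tmap _ _ ≫ _ = _
  rw [tmap_comp'_assoc, tmap_comp'_assoc, tmap_comp'_assoc]
  congr 2
  · rw [Category.id_comp, Category.assoc]
    exact e6
  · simp

lemma isIso_splitβ_app (K₀ : DRing.Cx R) (N₀ : DRing.Cx A) (hK : IsKFlatR K₀) :
    IsIso ((splitβ φ).app (K₀, N₀)) := by
  haveI : IsIso ((baseCmp φ).app K₀) := isIso_baseCmp φ K₀ hK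
  haveI : IsIso ((ε A).app ((extCx φ).obj K₀, N₀)) :=
    isIso_ε_left _ N₀ (Groth.Agent.Lib.helper13.ExtKFlat.isKFlatR_extCx φ K₀ hK)
  haveI : IsIso ((LTen₂ A).map (Prod.mkHom ((baseCmp φ).app K₀) (𝟙 (DerivedCategory.Q.obj N₀)))) :=
    isIso_LTen₂_map _ _
  dsimp only [splitβ]
  infer_instance

lemma isIso_vMap (K₀ : DRing.Cx R) (N₀ : DRing.Cx A) (hK : IsKFlatR K₀) : IsIso (vMap φ K₀ N₀) := by
  haveI := isIso_splitβ_app φ K₀ N₀ hK
  dsimp only [vMap]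
  infer_instance

lemma isIso_pf_Q (K₀ : DRing.Cx R) (N₀ : DRing.Cx A) (hK : IsKFlatR K₀) :
    IsIso (pf φ (DerivedCategory.Q.obj K₀) (DerivedCategory.Q.obj N₀)) := by
  have h := pf_Q φ K₀ N₀
  haveI := isIso_vMap φ K₀ N₀ hK
  haveI : IsIso ((ε R).app (K₀, (resCx φ).obj N₀)) := isIso_ε_left K₀ _ hK
  haveI : IsIso (tmap (𝟙 (DerivedCategory.Q.obj K₀)) ((resFactors φ).hom.app N₀)) := isIso_LTen₂_map _ _
  haveI : IsIso (tmap (𝟙 (DerivedCategory.Q.obj K₀)) ((resFactors φ).hom.app N₀) ≫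
      (ε R).app (K₀, (resCx φ).obj N₀) ≫ DerivedCategory.Q.map (pCx φ K₀ N₀)) := inferInstance
  exact isIso_of_fac _ _ _ h

/-- the projection formula -/
theorem isIso_pf (K : Dual.D R) (N : Dual.D A) : IsIso (pf φ K N) := by
  obtain ⟨K₀, hK₀, ⟨e₁⟩⟩ := exists_kflat_iso K
  obtain ⟨N₀, ⟨e₂⟩⟩ : ∃ N₀ : DRing.Cx A, Nonempty (DerivedCategory.Q.obj N₀ ≅ N) :=
    ⟨_, ⟨DerivedCategory.Q.objObjPreimageIso N⟩⟩
  haveI := isIso_pf_Q φ K₀ N₀ hK₀
  have hn := pf_naturality φ e₁.hom e₂.hom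
  haveI : IsIso (tmap e₁.hom ((DRing.restrictD φ).map e₂.hom)) := isIso_LTen₂_map _ _
  haveI : IsIso (tmap ((LBase φ).map e₁.hom) e₂.hom) := isIso_LTen₂_map _ _
  have : pf φ K N = inv (tmap e₁.hom ((DRing.restrictD φ).map e₂.hom)) ≫
      pf φ (DerivedCategory.Q.obj K₀) (DerivedCategory.Q.obj N₀) ≫
        (DRing.restrictD φ).map (tmap ((LBase φ).map e₁.hom) e₂.hom) := by
    rw [IsIso.eq_inv_comp]
    exact hn
  rw [this]
  infer_instance

end Groth.Agent.Lib.helper23.MixD
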