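import Mathlib
import Groth.Prelude.Def_DTen5
import Groth.Agent.Lib.Helper23.MixD4

/-!
# The projection formula is right linear (helper23)

`pf_actR`: for `φ : R → A`, `K ∈ D(R)`, `N ∈ D(A)`, the projection formula isomorphism
`pf φ K N : K ⊗^L_R N|_R ⟶ ((K ⊗^L_R A) ⊗^L_A N)|_R` is compatible with the right actions of `T φ = (A[0])|_R`.
-/

set_option autoImplicit false
universe u
open CategoryTheory CategoryTheory.Limits MonoidalCategory
attribute [local instance] HasDerivedCategory.standard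

namespace Groth.Agent.Lib.helper23.MixD

open DTen Groth.Agent.Lib.helper13.PerfInd Groth.Agent.Lib.helper23.TrD Groth.Agent.Lib.helper13.KFlat
  Groth.Agent.Lib.helper13.RKF Groth.Agent.Lib.helper13.DTenA

section Lin

variable {R : Type u} [CommRing R] [HasLTen R] [HasLTen₃ R] [IsSymMonoidal R]
  {T W V M : Dual.D R} {T₀ W₀ V₀ M₀ : DRing.Cx R}
  (t : T ≅ DerivedCategory.Q.obj T₀) (w : W ≅ DerivedCategory.Q.obj W₀) (v : V ≅ DerivedCategory.Q.obj V₀)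
  (m : M ≅ DerivedCategory.Q.obj M₀)
  (p : T₀ ⊗ W₀ ⟶ V₀) (aW : W₀ ⊗ M₀ ⟶ W₀) (aV : V₀ ⊗ M₀ ⟶ V₀)

theorem lin_of_cx (hb : (α_ T₀ W₀ M₀).hom ≫ (T₀ ◁ aW) ≫ p = (p ▷ M₀) ≫ aV) :
    (associator T W M).hom ≫
        tmap (𝟙 T) (tmap w.hom m.hom ≫ (ε R).app (W₀, M₀) ≫ DerivedCategory.Q.map aW ≫ w.inv) ≫
          (tmap t.hom w.hom ≫ (ε R).app (T₀, W₀) ≫ DerivedCategory.Q.map p ≫ v.inv) =
      tmap (tmap t.hom w.hom ≫ (ε R).app (T₀, W₀) ≫ DerivedCategory.Q.map p ≫ v.inv) (𝟙 M) ≫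
        (tmap v.hom m.hom ≫ (ε R).app (V₀, M₀) ≫ DerivedCategory.Q.map aV ≫ v.inv) := by
  -- right hand side
  have r1 : tmap (tmap t.hom w.hom ≫ (ε R).app (T₀, W₀) ≫ DerivedCategory.Q.map p ≫ v.inv) (𝟙 M) ≫
      tmap v.hom m.hom =
      tmap (tmap t.hom w.hom) m.hom ≫ tmap ((ε R).app (T₀, W₀)) (𝟙 _) ≫
        tmap (DerivedCategory.Q.map p) (DerivedCategory.Q.map (𝟙 M₀)) := by
    rw [← tmap_comp, ← tmap_comp, ← tmap_comp]
    congr 1
    · simp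
    · simp
  have r2 := ε_naturality p (𝟙 M₀)
  rw [tensorHom_id] at r2
  -- left hand side
  have l1 : tmap (𝟙 T) (tmap w.hom m.hom ≫ (ε R).app (W₀, M₀) ≫ DerivedCategory.Q.map aW ≫ w.inv) ≫
      tmap t.hom w.hom =
      tmap t.hom (tmap w.hom m.hom) ≫ tmap (𝟙 _) ((ε R).app (W₀, M₀)) ≫
        tmap (DerivedCategory.Q.map (𝟙 T₀)) (DerivedCategory.Q.map aW) := by
    rw [← tmap_comp, ← tmap_comp, ← tmap_comp]
    congr 1
    · simp
    · simp
  have l2 := ε_naturality (𝟙 T₀) aW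
  rw [id_tensorHom] at l2
  have l3 := associator_naturality t.hom w.hom m.hom
  have l4 := associator_hom_βR T₀ W₀ M₀
  rw [reassoc_of% r1, reassoc_of% r2, reassoc_of% l1, reassoc_of% l2, ← reassoc_of% l3, reassoc_of% l4]
  rw [← Functor.map_comp_assoc, ← Functor.map_comp_assoc, ← Functor.map_comp_assoc, Category.assoc, hb]
  simp only [Functor.map_comp, Category.assoc]

end Lin

variable {R A : Type u} [CommRing R] [CommRing A] (φ : R →+* A)

/-- the complex-level compatibility of `pCx` with the right actions -/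
lemma pCx_actM (K₀ : DRing.Cx R) (N₀ : DRing.Cx A) :
    (α_ K₀ ((resCx φ).obj N₀) (U φ)).hom ≫ (K₀ ◁ actM φ N₀) ≫ pCx φ K₀ N₀ =
      (pCx φ K₀ N₀ ▷ U φ) ≫ actM φ ((mixT φ).obj (K₀, N₀)) := by
  have h := resTenCx_actM φ ((extCx φ).obj K₀) N₀
  have h1 := MonoidalCategory.associator_naturality_left ((unitCx φ).app K₀) ((resCx φ).obj N₀) (U φ)
  have h2 := MonoidalCategory.whisker_exchange ((unitCx φ).app K₀) (actM φ N₀)
  dsimp only [pCx]
  rw [comp_whiskerRight, Category.assoc]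
  erw [h]
  dsimp only [Functor.id_obj, Functor.comp_obj] at h1 h2 ⊢
  rw [reassoc_of% h1, ← reassoc_of% h2]

variable [HasLTen R] [HasLTen A] [HasLBase φ] [HasResTen φ] [ResLegIso φ]

/-- the isomorphism `((QK ⊗^L_R A) ⊗^L_A QN)|_R ≅ Q(((A ⊗_R K) ⊗_A N)|_R)` for `K` K-flat -/
noncomputable def vIso (K₀ : DRing.Cx R) (N₀ : DRing.Cx A) (hK : IsKFlatR K₀) :
    (DRing.restrictD φ).obj (FF φ (DerivedCategory.Q.obj K₀) (DerivedCategory.Q.obj N₀)) ≅
      DerivedCategory.Q.obj ((resCx φ).obj ((mixT φ).obj (K₀, N₀))) :=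
  haveI := isIso_splitβ_app φ K₀ N₀ hK
  (DRing.restrictD φ).mapIso (asIso ((splitβ φ).app (K₀, N₀))) ≪≫ (resFactors φ).app ((mixT φ).obj (K₀, N₀))

lemma vIso_hom (K₀ : DRing.Cx R) (N₀ : DRing.Cx A) (hK : IsKFlatR K₀) :
    (vIso φ K₀ N₀ hK).hom = vMap φ K₀ N₀ := rfl

lemma actR_FF_Q (K₀ : DRing.Cx R) (N₀ : DRing.Cx A) (hK : IsKFlatR K₀) :
    (actR φ).app (FF φ (DerivedCategory.Q.obj K₀) (DerivedCategory.Q.obj N₀)) =
      tmap (vIso φ K₀ N₀ hK).hom (tU φ).hom ≫ (ε R).app ((resCx φ).obj ((mixT φ).obj (K₀, N₀)), U φ) ≫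
        DerivedCategory.Q.map (actM φ ((mixT φ).obj (K₀, N₀))) ≫ (vIso φ K₀ N₀ hK).inv := by
  haveI := isIso_splitβ_app φ K₀ N₀ hK
  have e1 : ((LTen R).flip.obj (T φ)).map ((DRing.restrictD φ).map ((splitβ φ).app (K₀, N₀))) ≫
      (actR φ).app (DerivedCategory.Q.obj ((mixT φ).obj (K₀, N₀))) =
      (actR φ).app (FF φ (DerivedCategory.Q.obj K₀) (DerivedCategory.Q.obj N₀)) ≫
        (DRing.restrictD φ).map ((splitβ φ).app (K₀, N₀)) :=
    (actR φ).naturality ((splitβ φ).app (K₀, N₀))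
  have e2 := actR_app_Q φ ((mixT φ).obj (K₀, N₀))
  have e3 : (actR φ).app (FF φ (DerivedCategory.Q.obj K₀) (DerivedCategory.Q.obj N₀)) =
      ((LTen R).flip.obj (T φ)).map ((DRing.restrictD φ).map ((splitβ φ).app (K₀, N₀))) ≫
        (actR φ).app (DerivedCategory.Q.obj ((mixT φ).obj (K₀, N₀))) ≫
          (DRing.restrictD φ).map (inv ((splitβ φ).app (K₀, N₀))) := by
    rw [← Category.assoc, e1, Category.assoc, ← Functor.map_comp, IsIso.hom_inv_id]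
    erw [CategoryTheory.Functor.map_id, Category.comp_id]
  rw [e3, e2, tensorRightD_map]
  dsimp only [vIso, Iso.trans_hom, Iso.trans_inv, Functor.mapIso_hom, Functor.mapIso_inv, Iso.app_hom,
    Iso.app_inv, asIso_hom, asIso_inv]
  change _ ≫ (tmap _ _ ≫ _) ≫ _ = _
  simp only [Category.assoc]
  rw [tmap_comp'_assoc, Category.id_comp]

variable [HasLTen₃ R] [IsSymMonoidal R]

theorem pf_actR_Q (K₀ : DRing.Cx R) (N₀ : DRing.Cx A) (hK : IsKFlatR K₀) :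
    tmap (pf φ (DerivedCategory.Q.obj K₀) (DerivedCategory.Q.obj N₀)) (𝟙 (T φ)) ≫
        (actR φ).app (FF φ (DerivedCategory.Q.obj K₀) (DerivedCategory.Q.obj N₀)) =
      (associator (DerivedCategory.Q.obj K₀) ((DRing.restrictD φ).obj (DerivedCategory.Q.obj N₀)) (T φ)).hom ≫
        tmap (𝟙 (DerivedCategory.Q.obj K₀)) ((actR φ).app (DerivedCategory.Q.obj N₀)) ≫
          pf φ (DerivedCategory.Q.obj K₀) (DerivedCategory.Q.obj N₀) := by
  have hP : pf φ (DerivedCategory.Q.obj K₀) (DerivedCategory.Q.obj N₀) =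
      tmap (Iso.refl (DerivedCategory.Q.obj K₀)).hom ((resFactors φ).app N₀).hom ≫
        (ε R).app (K₀, (resCx φ).obj N₀) ≫ DerivedCategory.Q.map (pCx φ K₀ N₀) ≫ (vIso φ K₀ N₀ hK).inv := by
    have h := pf_Q φ K₀ N₀
    rw [← vIso_hom φ K₀ N₀ hK, ← Iso.eq_comp_inv] at h
    rw [h]
    simp only [Category.assoc]
    rfl
  have hW : (actR φ).app (DerivedCategory.Q.obj N₀) =
      tmap ((resFactors φ).app N₀).hom (tU φ).hom ≫ (ε R).app ((resCx φ).obj N₀, U φ) ≫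
        DerivedCategory.Q.map (actM φ N₀) ≫ ((resFactors φ).app N₀).inv := actR_app_Q φ N₀
  have hV := actR_FF_Q φ K₀ N₀ hK
  rw [hP, hW, hV]
  exact (lin_of_cx (Iso.refl (DerivedCategory.Q.obj K₀)) ((resFactors φ).app N₀) (vIso φ K₀ N₀ hK) (tU φ)
    (pCx φ K₀ N₀) (actM φ N₀) (actM φ ((mixT φ).obj (K₀, N₀))) (pCx_actM φ K₀ N₀)).symm

/-- the projection formula isomorphism is right `T φ`-linear -/
theorem pf_actR (K : Dual.D R) (N : Dual.D A) :
    tmap (pf φ K N) (𝟙 (T φ)) ≫ (actR φ).app (FF φ K N) =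
      (associator K ((DRing.restrictD φ).obj N) (T φ)).hom ≫ tmap (𝟙 K) ((actR φ).app N) ≫ pf φ K N := by
  obtain ⟨K₀, hK₀, ⟨e₁⟩⟩ := exists_kflat_iso K
  obtain ⟨N₀, ⟨e₂⟩⟩ : ∃ N₀ : DRing.Cx A, Nonempty (DerivedCategory.Q.obj N₀ ≅ N) :=
    ⟨_, ⟨DerivedCategory.Q.objObjPreimageIso N⟩⟩
  have hQ := pf_actR_Q φ K₀ N₀ hK₀
  have n1 := pf_naturality φ e₁.hom e₂.hom
  have n2 : tmap ((DRing.restrictD φ).map (tmap ((LBase φ).map e₁.hom) e₂.hom)) (𝟙 (T φ)) ≫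
      (actR φ).app (FF φ K N) =
      (actR φ).app (FF φ (DerivedCategory.Q.obj K₀) (DerivedCategory.Q.obj N₀)) ≫
        (DRing.restrictD φ).map (tmap ((LBase φ).map e₁.hom) e₂.hom) :=
    (actR φ).naturality (tmap ((LBase φ).map e₁.hom) e₂.hom)
  have n3 : tmap ((DRing.restrictD φ).map e₂.hom) (𝟙 (T φ)) ≫ (actR φ).app N =
      (actR φ).app (DerivedCategory.Q.obj N₀) ≫ (DRing.restrictD φ).map e₂.hom :=
    (actR φ).naturality e₂.hom
  have n4 := associator_naturality e₁.hom ((DRing.restrictD φ).map e₂.hom) (𝟙 (T φ))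
  haveI : IsIso (tmap e₁.hom ((DRing.restrictD φ).map e₂.hom)) := isIso_LTen₂_map _ _
  haveI : IsIso (tmap (tmap e₁.hom ((DRing.restrictD φ).map e₂.hom)) (𝟙 (T φ))) := isIso_LTen₂_map _ _
  rw [← cancel_epi (tmap (tmap e₁.hom ((DRing.restrictD φ).map e₂.hom)) (𝟙 (T φ)))]
  rw [tmap_id_right_comp_assoc, n1, ← tmap_id_right_comp_assoc, n2, reassoc_of% hQ]
  rw [reassoc_of% n4, tmap_comp'_assoc, n3, Category.comp_id, ← n1, tmap_comp'_assoc, Category.id_comp]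

end Groth.Agent.Lib.helper23.MixD
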