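import Mathlib
import Groth.Prelude.Def_DTen5
import Groth.Agent.Lib.Helper23.HomNat
import Groth.Agent.Lib.Helper23.TrD6
import Groth.Agent.Lib.Helper23.TrD8

/-!
# Base change for trivial duality and the evaluation map (helper23)

* `reflects_restrictD`: restriction of scalars on derived categories is conservative.
-/

set_option autoImplicit false
universe u
open CategoryTheory CategoryTheory.Limits MonoidalCategory
attribute [local instance] HasDerivedCategory.standard

namespace Groth.Agent.Lib.helper23.TrD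

open DTen TrivBC Groth.Agent.Lib.helper13.PerfInd Groth.Agent.Lib.helper23.TIB

section Conservative

variable {R B : Type u} [CommRing R] [CommRing B] (f : R →+* B)

/-- restriction of scalars on derived categories is conservative -/
theorem isIso_of_isIso_restrictD {X Y : Dual.D B} (g : X ⟶ Y) [hg : IsIso ((DRing.restrictD f).map g)] :
    IsIso g := by
  rw [DerivedCategory.isIso_iff]
  intro n
  have e := HomNat.homologyNatIso_hom_naturality (ModuleCat.restrictScalars.{u} f) n g
  haveI : IsIso ((DerivedCategory.homologyFunctor (ModuleCat.{u} R) n).map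
      ((ModuleCat.restrictScalars.{u} f).mapDerivedCategory.map g)) :=
    Functor.map_isIso _ _
  have i2 : IsIso ((ModuleCat.restrictScalars.{u} f).map
      ((DerivedCategory.homologyFunctor (ModuleCat.{u} B) n).map g)) := by
    have : (ModuleCat.restrictScalars.{u} f).map
        ((DerivedCategory.homologyFunctor (ModuleCat.{u} B) n).map g) =
        (HomNat.homologyNatIso (ModuleCat.restrictScalars.{u} f) n).inv.app X ≫
          (DerivedCategory.homologyFunctor (ModuleCat.{u} R) n).map
            ((ModuleCat.restrictScalars.{u} f).mapDerivedCategory.map g) ≫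
            (HomNat.homologyNatIso (ModuleCat.restrictScalars.{u} f) n).hom.app Y := by
      rw [e, Iso.inv_hom_id_app_assoc]
    rw [this]
    infer_instance
  exact isIso_of_reflects_iso _ (ModuleCat.restrictScalars.{u} f)

instance reflects_restrictD : (DRing.restrictD f).ReflectsIsomorphisms :=
  ⟨fun g _ => isIso_of_isIso_restrictD f g⟩

end Conservative

section PartA

variable {R A : Type u} [CommRing R] [CommRing A] (φ : R →+* A) [HasLTen R] [HasRHom R]
  {Lφ : Dual.D R ⥤ Dual.D A} (adjφ : Lφ ⊣ DRing.restrictD φ)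
  {Rφ : Dual.D R ⥤ Dual.D A} (adj : DRing.restrictD φ ⊣ Rφ)

instance isIso_projR : IsIso (projR φ adjφ) :=
  haveI : ∀ X, IsIso ((projR φ adjφ).app X) := fun X => isIso_projR_app φ adjφ X
  NatIso.isIso_of_isIso_app _

instance isIso_projL : IsIso (projL φ adjφ) :=
  haveI : ∀ X, IsIso ((projL φ adjφ).app X) := fun X => isIso_projL_app φ adjφ X
  NatIso.isIso_of_isIso_app _

/-- `RHom(A, K)|_R ⟶ RHom_R(A|_R, K)` -/
noncomputable def bMap : Rφ ⋙ DRing.restrictD φ ⟶ RHomR R (T φ) :=
  conjugateEquiv (adjφ.comp adj) (rhomAdj R (T φ)) (projR φ adjφ)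

instance isIso_bMap : IsIso (bMap φ adjφ adj) := by
  dsimp only [bMap]
  infer_instance

instance isIso_bMap_app (K : Dual.D R) : IsIso ((bMap φ adjφ adj).app K) := inferInstance

lemma bMap_ev (K : Dual.D R) :
    tmap ((bMap φ adjφ adj).app K) (𝟙 (T φ)) ≫ ev (T φ) K =
      (actR φ).app (Rφ.obj K) ≫ adj.counit.app K := by
  have e := conjugateEquiv_counit (adjφ.comp adj) (rhomAdj R (T φ)) (projR φ adjφ) K
  have e2 : (projR φ adjφ).app ((DRing.restrictD φ).obj (Rφ.obj K)) ≫
      (DRing.restrictD φ).map (adjφ.counit.app (Rφ.obj K)) = (actR φ).app (Rφ.obj K) := by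
    have n := (actR φ).naturality (adjφ.counit.app (Rφ.obj K))
    dsimp only [Functor.comp_obj, Functor.comp_map] at n
    dsimp only [projR]
    rw [Category.assoc, ← n, ← Category.assoc, ← Functor.map_comp, adjφ.right_triangle_components]
    erw [CategoryTheory.Functor.map_id, Category.id_comp]
    rfl
  rw [Adjunction.comp_counit_app] at e
  dsimp only [Functor.comp_obj] at e
  rw [reassoc_of% e2] at e
  exact e

end PartA

section PartB

variable {R A R' A' : Type u} [CommRing R] [CommRing A] [CommRing R'] [CommRing A']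
  {φ : R →+* A} {ρ : R →+* R'} {α : A →+* A'} {φ' : R' →+* A'} (h : α.comp φ = φ'.comp ρ)
  {Lρ : Dual.D R ⥤ Dual.D R'} (adjρ : Lρ ⊣ DRing.restrictD ρ)
  {Lα : Dual.D A ⥤ Dual.D A'} (adjα : Lα ⊣ DRing.restrictD α)
  {Rφ : Dual.D R ⥤ Dual.D A} (adj : DRing.restrictD φ ⊣ Rφ)
  {Rφ' : Dual.D R' ⥤ Dual.D A'} (adj' : DRing.restrictD φ' ⊣ Rφ')

/-- the comparison map as a natural transformation -/
noncomputable def cmpNat : DRing.restrictD φ ⋙ Lρ ⟶ Lα ⋙ DRing.restrictD φ' where
  app K := cmpG h adjρ adjα K
  naturality K K' k := cmpG_naturality h adjρ adjα k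

/-- `RHom(A', Y)|_A ⟶ RHom(A, Y|_R)`, the conjugate of the comparison map -/
noncomputable def nuMap : Rφ' ⋙ DRing.restrictD α ⟶ DRing.restrictD ρ ⋙ Rφ :=
  conjugateEquiv (adjα.comp adj') (adj.comp adjρ) (cmpNat h adjρ adjα)

lemma isIso_nuMap (hc : ∀ S, IsIso (cmpG h adjρ adjα S)) : IsIso (nuMap h adjρ adjα adj adj') := by
  haveI : IsIso (cmpNat h adjρ adjα) := by
    haveI : ∀ S, IsIso ((cmpNat h adjρ adjα).app S) := hc
    exact NatIso.isIso_of_isIso_app _
  dsimp only [nuMap]
  infer_instance

lemma nuMap_counit (Y : Dual.D R') :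
    (DRing.restrictD φ).map ((nuMap h adjρ adjα adj adj').app Y) ≫
        adj.counit.app ((DRing.restrictD ρ).obj Y) =
      (resComm h).hom.app (Rφ'.obj Y) ≫ (DRing.restrictD ρ).map (adj'.counit.app Y) := by
  have e := conjugateEquiv_counit (adjα.comp adj') (adj.comp adjρ) (cmpNat h adjρ adjα) Y
  rw [Adjunction.comp_counit_app, Adjunction.comp_counit_app] at e
  dsimp only [Functor.comp_obj, Functor.comp_map, cmpNat] at e
  rw [← Category.assoc, ← Functor.map_comp] at e
  have e1 : (adjρ.homEquiv _ _).symm ((DRing.restrictD φ).map ((nuMap h adjρ adjα adj adj').app Y) ≫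
        adj.counit.app ((DRing.restrictD ρ).obj Y)) =
      cmpG h adjρ adjα ((DRing.restrictD α).obj (Rφ'.obj Y)) ≫
        (DRing.restrictD φ').map (adjα.counit.app (Rφ'.obj Y)) ≫ adj'.counit.app Y := by
    rw [Adjunction.homEquiv_counit]
    exact e
  have e2 := congrArg (adjρ.homEquiv _ _) e1
  rw [Equiv.apply_symm_apply, Adjunction.homEquiv_naturality_right] at e2
  dsimp only [Functor.comp_obj] at e2
  rw [homEquiv_cmpG] at e2
  rw [e2]
  have n := (resComm h).hom.naturality (adjα.counit.app (Rφ'.obj Y))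
  dsimp only [Functor.comp_obj, Functor.comp_map, Functor.id_obj] at n
  rw [Functor.map_comp, Category.assoc, ← reassoc_of% n, ← Functor.map_comp_assoc,
    adjα.right_triangle_components]
  erw [CategoryTheory.Functor.map_id, Category.id_comp]

end PartB

end Groth.Agent.Lib.helper23.TrD
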