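import Mathlib
import Groth.Prelude.Def_DTen5
import Groth.Agent.Lib.Helper13.PerfInd7
import Groth.Agent.Lib.Helper23.TrD9
import Groth.Agent.Lib.Helper23.MixD5

/-!
# `RHom(A, K) ≅ K ⊗^L_R RHom(A, R)` for `A` perfect over `R` (helper23)

For `φ : R → A`, a right adjoint `Rφ` of restriction `D(A) ⥤ D(R)` and `ω = Rφ (R[0])`:
* `thetaK`, `ThetaK`: the natural map `(K ⊗^L_R A) ⊗^L_A ω ⟶ Rφ K`;
* `res_ThetaK`: its restriction to `R` is, up to the projection formula and `bMap`, the evaluation map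
  `evalTen K R (A|_R)`;
* `isIso_ThetaK`: it is an isomorphism if `A|_R` is perfect.
-/

set_option autoImplicit false
universe u
open CategoryTheory CategoryTheory.Limits MonoidalCategory
attribute [local instance] HasDerivedCategory.standard

namespace Groth.Agent.Lib.helper23.MixD

open DTen Groth.Agent.Lib.helper13.PerfInd Groth.Agent.Lib.helper23.TrD Groth.Agent.Lib.helper13.KFlat
  Groth.Agent.Lib.helper13.RKF Groth.Agent.Lib.helper13.DTenA

variable {R A : Type u} [CommRing R] [CommRing A] (φ : R →+* A)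
  [HasLTen R] [HasLTen A] [HasLBase φ] [HasResTen φ] [ResLegIso φ]
  {Rφ : Dual.D R ⥤ Dual.D A} (adj : DRing.restrictD φ ⊣ Rφ)

/-- `((K ⊗^L_R A) ⊗^L_A ω)|_R ⟶ K` -/
noncomputable def thetaK (K : Dual.D R) :
    (DRing.restrictD φ).obj (FF φ K (Rφ.obj (DTen.unit R))) ⟶ K :=
  haveI := isIso_pf φ K (Rφ.obj (DTen.unit R))
  inv (pf φ K (Rφ.obj (DTen.unit R))) ≫ tmap (𝟙 K) (adj.counit.app (DTen.unit R)) ≫ (unitR R).app K

lemma pf_thetaK (K : Dual.D R) :
    pf φ K (Rφ.obj (DTen.unit R)) ≫ thetaK φ adj K =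
      tmap (𝟙 K) (adj.counit.app (DTen.unit R)) ≫ (unitR R).app K := by
  haveI := isIso_pf φ K (Rφ.obj (DTen.unit R))
  dsimp only [thetaK]
  rw [IsIso.hom_inv_id_assoc]

lemma thetaK_naturality {K K' : Dual.D R} (a : K ⟶ K') :
    (DRing.restrictD φ).map (tmap ((LBase φ).map a) (𝟙 (Rφ.obj (DTen.unit R)))) ≫ thetaK φ adj K' =
      thetaK φ adj K ≫ a := by
  haveI := isIso_pf φ K (Rφ.obj (DTen.unit R))
  have n1 := pf_naturality φ a (𝟙 (Rφ.obj (DTen.unit R)))
  have n2 := (unitR R).naturality a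
  dsimp only [Functor.id_obj, Functor.id_map] at n2
  rw [tensorRightD_map] at n2
  rw [CategoryTheory.Functor.map_id] at n1
  rw [← cancel_epi (pf φ K (Rφ.obj (DTen.unit R))), ← reassoc_of% n1, pf_thetaK, reassoc_of% (pf_thetaK φ adj K),
    tmap_comp'_assoc, Category.id_comp, Category.comp_id, ← n2, tmap_comp'_assoc, Category.comp_id,
    Category.id_comp]

/-- `(K ⊗^L_R A) ⊗^L_A ω ⟶ Rφ K` -/
noncomputable def ThetaK (K : Dual.D R) : FF φ K (Rφ.obj (DTen.unit R)) ⟶ Rφ.obj K :=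
  adj.homEquiv _ _ (thetaK φ adj K)

lemma res_ThetaK_counit (K : Dual.D R) :
    (DRing.restrictD φ).map (ThetaK φ adj K) ≫ adj.counit.app K = thetaK φ adj K := by
  have := (adj.homEquiv _ _).symm_apply_apply (thetaK φ adj K)
  rw [Adjunction.homEquiv_counit] at this
  exact this

lemma ThetaK_naturality {K K' : Dual.D R} (a : K ⟶ K') :
    tmap ((LBase φ).map a) (𝟙 (Rφ.obj (DTen.unit R))) ≫ ThetaK φ adj K' = ThetaK φ adj K ≫ Rφ.map a := by
  dsimp only [ThetaK]
  rw [← Adjunction.homEquiv_naturality_left, ← Adjunction.homEquiv_naturality_right, thetaK_naturality]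

/-- the natural transformation `(- ⊗^L_R A) ⊗^L_A ω ⟶ Rφ` -/
noncomputable def ThetaNat : LBase φ ⋙ tensorRightD A (Rφ.obj (DTen.unit R)) ⟶ Rφ where
  app K := ThetaK φ adj K
  naturality K K' a := ThetaK_naturality φ adj a

variable [HasLTen₃ R] [IsSymMonoidal R] [HasRHom R]

/-- the main identity: the restriction of `ThetaK` to `R` is the evaluation map -/
theorem res_ThetaK (K : Dual.D R) :
    pf φ K (Rφ.obj (DTen.unit R)) ≫ (DRing.restrictD φ).map (ThetaK φ adj K) ≫
        (bMap φ (baseAdj φ) adj).app K =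
      tmap (𝟙 K) ((bMap φ (baseAdj φ) adj).app (DTen.unit R)) ≫ evalTen K (DTen.unit R) (T φ) ≫
        (RHomR R (T φ)).map ((unitR R).app K) := by
  apply ((rhomAdj R (T φ)).homEquiv _ _).symm.injective
  rw [Adjunction.homEquiv_counit, Adjunction.homEquiv_counit, tensorRightD_map, tensorRightD_map]
  -- the left hand side
  have l1 := bMap_ev φ (baseAdj φ) adj K
  have l2 : tmap ((DRing.restrictD φ).map (ThetaK φ adj K)) (𝟙 (T φ)) ≫ (actR φ).app (Rφ.obj K) =
      (actR φ).app (FF φ K (Rφ.obj (DTen.unit R))) ≫ (DRing.restrictD φ).map (ThetaK φ adj K) :=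
    (actR φ).naturality (ThetaK φ adj K)
  have l3 := res_ThetaK_counit φ adj K
  have l4 := pf_actR φ K (Rφ.obj (DTen.unit R))
  have l5 := pf_thetaK φ adj K
  have hL : tmap (pf φ K (Rφ.obj (DTen.unit R)) ≫ (DRing.restrictD φ).map (ThetaK φ adj K) ≫
        (bMap φ (baseAdj φ) adj).app K) (𝟙 (T φ)) ≫ (rhomAdj R (T φ)).counit.app K =
      (associator K ((DRing.restrictD φ).obj (Rφ.obj (DTen.unit R))) (T φ)).hom ≫
        tmap (𝟙 K) ((actR φ).app (Rφ.obj (DTen.unit R)) ≫ adj.counit.app (DTen.unit R)) ≫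
          (unitR R).app K := by
    rw [← tmap_id_right_comp, ← tmap_id_right_comp, Category.assoc, Category.assoc]
    erw [l1]
    rw [reassoc_of% l2, l3, reassoc_of% l4, l5, tmap_id_left_comp_assoc]
  refine Eq.trans hL ?_
  -- the right hand side
  have r1 := (rhomAdj R (T φ)).counit.naturality ((unitR R).app K)
  dsimp only [Functor.comp_obj, Functor.comp_map, Functor.id_obj, Functor.id_map] at r1
  rw [tensorRightD_map] at r1
  have r2 := evalTen_fac K (DTen.unit R) (T φ)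
  have r3 := associator_naturality (𝟙 K) ((bMap φ (baseAdj φ) adj).app (DTen.unit R)) (𝟙 (T φ))
  have r4 := bMap_ev φ (baseAdj φ) adj (DTen.unit R)
  rw [← tmap_id_right_comp, ← tmap_id_right_comp, Category.assoc, Category.assoc]
  erw [r1]
  change _ = _ ≫ tmap (evalTen K (DTen.unit R) (T φ)) (𝟙 (T φ)) ≫ ev (T φ) _ ≫ _
  rw [reassoc_of% r2]
  dsimp only [evalTenAux]
  change _ = _ ≫ ((DTen.associator _ _ _).hom ≫ tmap (𝟙 K) (ev (T φ) (DTen.unit R))) ≫ _
  rw [Category.assoc, reassoc_of% r3, tmap_id_left_comp_assoc, r4]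

/-- `ThetaK` is an isomorphism if `A|_R` is perfect -/
theorem isIso_ThetaK (hA : DRing.IsPerfect R (T φ)) (K : Dual.D R) : IsIso (ThetaK φ adj K) := by
  have e := res_ThetaK φ adj K
  haveI i1 := isIso_pf φ K (Rφ.obj (DTen.unit R))
  haveI i2 : IsIso (evalTen K (DTen.unit R) (T φ)) := isIso_evalTen_of_isPerfect_hom K (DTen.unit R) (T φ) hA
  haveI i3 : IsIso (tmap (𝟙 K) ((bMap φ (baseAdj φ) adj).app (DTen.unit R))) := isIso_LTen₂_map _ _
  haveI i4 : IsIso ((unitR R).app K) := by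
    haveI : IsIso (unitR R) := IsSymMonoidal.isIso_unitR
    infer_instance
  haveI i5 : IsIso (tmap (𝟙 K) ((bMap φ (baseAdj φ) adj).app (DTen.unit R)) ≫
      evalTen K (DTen.unit R) (T φ) ≫ (RHomR R (T φ)).map ((unitR R).app K)) := inferInstance
  haveI i6 : IsIso ((DRing.restrictD φ).map (ThetaK φ adj K)) := by
    have : (DRing.restrictD φ).map (ThetaK φ adj K) =
        inv (pf φ K (Rφ.obj (DTen.unit R))) ≫ (tmap (𝟙 K) ((bMap φ (baseAdj φ) adj).app (DTen.unit R)) ≫
          evalTen K (DTen.unit R) (T φ) ≫ (RHomR R (T φ)).map ((unitR R).app K)) ≫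
          inv ((bMap φ (baseAdj φ) adj).app K) := by
      rw [IsIso.eq_inv_comp, IsIso.eq_comp_inv, Category.assoc]
      exact e
    rw [this]
    infer_instance
  exact isIso_of_isIso_restrictD φ _

/-- **trivial duality for a perfect algebra**: `Rφ ≅ (- ⊗^L_R A) ⊗^L_A ω` -/
theorem isIso_ThetaNat (hA : DRing.IsPerfect R (T φ)) : IsIso (ThetaNat φ adj) := by
  haveI : ∀ K, IsIso ((ThetaNat φ adj).app K) := fun K => isIso_ThetaK φ adj hA K
  exact NatIso.isIso_of_isIso_app _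

end Groth.Agent.Lib.helper23.MixD
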