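import Mathlib

/-!
# Coextension of scalars along a surjection (helper23)

For a surjective ring map `φ : R → A` with kernel `I` and an `R`-module `X`:
`0 ⟶ Hom_R(A, X) ⟶ X ⟶ Hom_R(I, X)` is exact, and right exact if `X` is injective (`shortExact_ses`).
The functor `homF P = Hom_R(P, -)` is exact for `P` projective (`preservesHomology_homF`).
-/

set_option autoImplicit false
universe u
open CategoryTheory CategoryTheory.Limits

namespace Groth.Agent.Lib.helper23.MixE

variable {R : Type u} [CommRing R]

section HomF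

variable (P : Type u) [AddCommGroup P] [Module R P]

/-- `Hom_R(P, -)` -/
noncomputable def homF : ModuleCat.{u} R ⥤ ModuleCat.{u} R where
  obj X := ModuleCat.of R (P →ₗ[R] X)
  map f := ModuleCat.ofHom (LinearMap.compRight R f.hom)
  map_id X := by
    ext g
    rfl
  map_comp f g := by
    ext h
    rfl

lemma homF_map_apply {X Y : ModuleCat.{u} R} (f : X ⟶ Y) (g : P →ₗ[R] X) :
    ((homF P).map f).hom g = f.hom.comp g := rfl

instance : (homF (R := R) P).Additive where
  map_add {X Y f g} := by
    ext h
    rfl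

/-- `Hom_R(P, -)` preserves exactness for `P` projective -/
lemma homF_map_exact [Module.Projective R P] (S : ShortComplex (ModuleCat.{u} R)) (hS : S.Exact) :
    (S.map (homF P)).Exact := by
  rw [ShortComplex.moduleCat_exact_iff] at hS ⊢
  intro (h : P →ₗ[R] S.X₂) (hh : S.g.hom.comp h = 0)
  have hr : ∀ p, h p ∈ LinearMap.range S.f.hom := by
    intro p
    obtain ⟨x₁, hx₁⟩ := hS (h p) (by
      have := LinearMap.congr_fun hh p
      exact this)
    exact ⟨x₁, hx₁⟩
  obtain ⟨l, hl⟩ := Module.projective_lifting_property S.f.hom.rangeRestrict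
    (h.codRestrict (LinearMap.range S.f.hom) hr) (LinearMap.surjective_rangeRestrict _)
  refine ⟨l, ?_⟩
  apply LinearMap.ext
  intro p
  have := LinearMap.congr_fun hl p
  exact congrArg Subtype.val this

instance preservesHomology_homF [Module.Projective R P] : (homF (R := R) P).PreservesHomology :=
  Functor.preservesHomology_of_map_exact _ (homF_map_exact P)

instance [Module.Projective R P] : PreservesFiniteLimits (homF (R := R) P) :=
  Functor.preservesFiniteLimits_of_preservesHomology _

instance [Module.Projective R P] : PreservesFiniteColimits (homF (R := R) P) :=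
  Functor.preservesFiniteColimits_of_preservesHomology _

end HomF

section SES

variable {A : Type u} [CommRing A] (φ : R →+* A)

/-- the adjunction restriction ⊣ coextension -/
noncomputable abbrev adjM : ModuleCat.restrictScalars.{u} φ ⊣ ModuleCat.coextendScalars.{u, u, u} φ :=
  ModuleCat.restrictCoextendScalarsAdj.{u, u, u} φ

/-- `Hom_R(A, X) ⟶ X`, `g ↦ g 1` -/
noncomputable abbrev αM (X : ModuleCat.{u} R) :
    (ModuleCat.restrictScalars.{u} φ).obj ((ModuleCat.coextendScalars.{u, u, u} φ).obj X) ⟶ X :=
  (adjM φ).counit.app X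

/-- `X ⟶ Hom_R(I, X)`, `x ↦ (i ↦ i x)` -/
noncomputable def βM (X : ModuleCat.{u} R) : X ⟶ (homF (RingHom.ker φ)).obj X :=
  ModuleCat.ofHom ((LinearMap.lcomp R X (RingHom.ker φ).subtype).comp
    (LinearMap.ringLmapEquivSelf R R X).symm.toLinearMap)

lemma βM_apply (X : ModuleCat.{u} R) (x : X) (i : RingHom.ker φ) :
    (show RingHom.ker φ →ₗ[R] X from (βM φ X).hom x) i = (i : R) • x := by
  change ((LinearMap.ringLmapEquivSelf R R X).symm x) ((RingHom.ker φ).subtype i) = _
  simp

/-- `β` as a natural transformation -/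
noncomputable def βNat : 𝟭 (ModuleCat.{u} R) ⟶ homF (RingHom.ker φ) where
  app X := βM φ X
  naturality X Y f := by
    ext x
    apply LinearMap.ext
    intro i
    change (show RingHom.ker φ →ₗ[R] Y from (βM φ Y).hom (f.hom x)) i =
      f.hom ((show RingHom.ker φ →ₗ[R] X from (βM φ X).hom x) i)
    rw [βM_apply, βM_apply, map_smul]

lemma αM_apply (X : ModuleCat.{u} R)
    (g : (ModuleCat.restrictScalars.{u} φ).obj ((ModuleCat.coextendScalars.{u, u, u} φ).obj X)) :
    (αM φ X).hom g = ModuleCat.CoextendScalars.equiv φ X g (1 : A) := rfl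

/-- `A` as an `R`-module -/
noncomputable abbrev A' : ModuleCat.{u} R := (ModuleCat.restrictScalars.{u} φ).obj (ModuleCat.of A A)

lemma smul_A' (r : R) (a : A' φ) : r • a = (show A' φ from (φ r * (show A from a) : A)) := rfl

/-- the underlying linear map of an element of `Hom_R(A, X)` -/
noncomputable def toLin (X : ModuleCat.{u} R)
    (g : (ModuleCat.restrictScalars.{u} φ).obj ((ModuleCat.coextendScalars.{u, u, u} φ).obj X)) :
    A' φ →ₗ[R] X := ModuleCat.CoextendScalars.equiv φ X g

/-- an element of `Hom_R(A, X)` from a linear map -/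
noncomputable def ofLin (X : ModuleCat.{u} R) (g : A' φ →ₗ[R] X) :
    (ModuleCat.restrictScalars.{u} φ).obj ((ModuleCat.coextendScalars.{u, u, u} φ).obj X) :=
  (ModuleCat.CoextendScalars.equiv φ X).symm g

lemma toLin_ofLin (X : ModuleCat.{u} R) (g : A' φ →ₗ[R] X) : toLin φ X (ofLin φ X g) = g := rfl

lemma toLin_injective (X : ModuleCat.{u} R) : Function.Injective (toLin φ X) :=
  (ModuleCat.CoextendScalars.equiv φ X).injective

lemma αM_apply' (X : ModuleCat.{u} R)
    (g : (ModuleCat.restrictScalars.{u} φ).obj ((ModuleCat.coextendScalars.{u, u, u} φ).obj X)) :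
    (αM φ X).hom g = toLin φ X g (show A' φ from (1 : A)) := rfl

lemma toLin_apply_map (X : ModuleCat.{u} R)
    (g : (ModuleCat.restrictScalars.{u} φ).obj ((ModuleCat.coextendScalars.{u, u, u} φ).obj X)) (r : R) :
    toLin φ X g (show A' φ from (φ r : A)) = r • (αM φ X).hom g := by
  rw [αM_apply', ← map_smul]
  congr 1
  rw [smul_A']
  change _ = (show A' φ from (φ r * 1 : A))
  rw [mul_one]

variable {φ}

lemma αM_injective (hφ : Function.Surjective φ) (X : ModuleCat.{u} R) :
    Function.Injective (αM φ X).hom := by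
  intro g g' h
  apply toLin_injective φ X
  apply LinearMap.ext
  intro a
  obtain ⟨r, rfl⟩ := hφ a
  have e1 := toLin_apply_map φ X g r
  have e2 := toLin_apply_map φ X g' r
  exact e1.trans ((congrArg (fun z => r • z) h).trans e2.symm)

lemma ses_zero (X : ModuleCat.{u} R) : αM φ X ≫ βM φ X = 0 := by
  ext g
  apply LinearMap.ext
  intro i
  change (show RingHom.ker φ →ₗ[R] X from (βM φ X).hom ((αM φ X).hom g)) i = 0
  rw [βM_apply, ← toLin_apply_map]
  have : φ (i : R) = 0 := i.2
  rw [this]
  exact map_zero _

/-- the element of `Hom_R(A, X)` attached to `x` killed by `I` -/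
noncomputable def liftLin (hφ : Function.Surjective φ) (X : ModuleCat.{u} R) (x : X)
    (hx : ∀ i : R, φ i = 0 → i • x = 0) : A' φ →ₗ[R] X where
  toFun a := (Function.surjInv hφ (show A from a)) • x
  map_add' a b := by
    have key : ∀ a : A, φ (Function.surjInv hφ a) = a := Function.surjInv_eq hφ
    rw [← add_smul, ← sub_eq_zero, ← sub_smul]
    apply hx
    rw [map_sub, map_add, key, key, key]
    exact sub_self _
  map_smul' r a := by
    have key : ∀ a : A, φ (Function.surjInv hφ a) = a := Function.surjInv_eq hφ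
    rw [RingHom.id_apply, smul_smul, ← sub_eq_zero, ← sub_smul]
    apply hx
    rw [map_sub, map_mul, key, key, smul_A']
    exact sub_self _

lemma liftLin_one (hφ : Function.Surjective φ) (X : ModuleCat.{u} R) (x : X)
    (hx : ∀ i : R, φ i = 0 → i • x = 0) : liftLin hφ X x hx (show A' φ from (1 : A)) = x := by
  have key : ∀ a : A, φ (Function.surjInv hφ a) = a := Function.surjInv_eq hφ
  change (Function.surjInv hφ (1 : A)) • x = x
  rw [← sub_eq_zero]
  nth_rewrite 2 [← one_smul R x]
  rw [← sub_smul]
  apply hx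
  rw [map_sub, key, map_one, sub_self]

lemma ses_exact (hφ : Function.Surjective φ) (X : ModuleCat.{u} R) :
    (ShortComplex.mk (αM φ X) (βM φ X) (ses_zero X)).Exact := by
  rw [ShortComplex.moduleCat_exact_iff]
  intro (x : X) hx
  have hx' : ∀ i : R, φ i = 0 → i • x = 0 := by
    intro i hi
    have := LinearMap.congr_fun (show (show RingHom.ker φ →ₗ[R] X from (βM φ X).hom x) = 0 from hx)
      ⟨i, hi⟩
    rw [βM_apply] at this
    exact this
  refine ⟨ofLin φ X (liftLin hφ X x hx'), ?_⟩
  change (αM φ X).hom (ofLin φ X (liftLin hφ X x hx')) = x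
  rw [αM_apply', toLin_ofLin, liftLin_one]

lemma βM_surjective (X : ModuleCat.{u} R) [Injective X] : Function.Surjective (βM φ X).hom := by
  intro (h : RingHom.ker φ →ₗ[R] X)
  haveI : Module.Injective R X := (Module.injective_iff_injective_object R X).2 (by
    change Injective X
    infer_instance)
  obtain ⟨h', hh'⟩ := Module.Baer.of_injective (R := R) (Q := X) inferInstance (RingHom.ker φ) h
  refine ⟨h' 1, ?_⟩
  apply LinearMap.ext
  intro i
  change (show RingHom.ker φ →ₗ[R] X from (βM φ X).hom (h' 1)) i = h i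
  rw [βM_apply, ← map_smul, smul_eq_mul, mul_one]
  exact hh' i i.2

/-- `0 ⟶ Hom_R(A, X) ⟶ X ⟶ Hom_R(I, X) ⟶ 0` is short exact for `X` injective -/
theorem shortExact_ses (hφ : Function.Surjective φ) (X : ModuleCat.{u} R) [Injective X] :
    (ShortComplex.mk (αM φ X) (βM φ X) (ses_zero X)).ShortExact where
  exact := ses_exact hφ X
  mono_f := (ModuleCat.mono_iff_injective _).mpr (αM_injective hφ X)
  epi_g := (ModuleCat.epi_iff_surjective _).mpr (βM_surjective X)

end SES

end Groth.Agent.Lib.helper23.MixE
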