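import Mathlib
import Groth.Agent.Lib.Helper23.MixE1
import Groth.Agent.Lib.Helper23.RAdj1
import Groth.Agent.Lib.Helper23.HomNat

/-!
# Cohomology of `Hom_R(A, J)` for `A = R/I`, `J` an injective resolution of a module (helper23)

For `φ : R → A` surjective with kernel `I` projective, `J` a complex of injective `R`-modules and
`f : X₀[0] ⟶ J` a quasi-isomorphism with `X₀ ⟶ Hom_R(I, X₀)` injective, the complex
`Hom_R(A, J)` has cohomology only in degree `1`, where it is the cokernel of `X₀ ⟶ Hom_R(I, X₀)`.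
-/

set_option autoImplicit false
universe u
open CategoryTheory CategoryTheory.Limits

namespace Groth.Agent.Lib.helper23.MixE

variable {R A : Type u} [CommRing R] [CommRing A] (φ : R →+* A)

instance additive_coextendScalars : (ModuleCat.coextendScalars.{u, u, u} φ).Additive :=
  (adjM φ).right_adjoint_additive

section Cx

/-- `β` on complexes -/
noncomputable def βCx (K : CochainComplex (ModuleCat.{u} R) ℤ) :
    K ⟶ ((homF (RingHom.ker φ)).mapHomologicalComplex (ComplexShape.up ℤ)).obj K where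
  f n := βM φ (K.X n)
  comm' i j _ := ((βNat φ).naturality (K.d i j)).symm

lemma βCx_naturality {K L : CochainComplex (ModuleCat.{u} R) ℤ} (f : K ⟶ L) :
    f ≫ βCx φ L =
      βCx φ K ≫ ((homF (RingHom.ker φ)).mapHomologicalComplex (ComplexShape.up ℤ)).map f := by
  apply HomologicalComplex.hom_ext
  intro n
  exact (βNat φ).naturality (f.f n)

/-- `Hom_R(A, J)` as a complex of `A`-modules -/
noncomputable abbrev GJ (J : CochainComplex (ModuleCat.{u} R) ℤ) :
    CochainComplex (ModuleCat.{u} A) ℤ :=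
  ((ModuleCat.coextendScalars.{u, u, u} φ).mapHomologicalComplex (ComplexShape.up ℤ)).obj J

/-- `Hom_R(A, J)` as a complex of `R`-modules -/
noncomputable abbrev TJ (J : CochainComplex (ModuleCat.{u} R) ℤ) :
    CochainComplex (ModuleCat.{u} R) ℤ :=
  ((ModuleCat.restrictScalars.{u} φ).mapHomologicalComplex (ComplexShape.up ℤ)).obj (GJ φ J)

/-- `Hom_R(I, J)` -/
noncomputable abbrev HJ (J : CochainComplex (ModuleCat.{u} R) ℤ) :
    CochainComplex (ModuleCat.{u} R) ℤ :=
  ((homF (RingHom.ker φ)).mapHomologicalComplex (ComplexShape.up ℤ)).obj J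

/-- `α` on complexes -/
noncomputable abbrev αCx (J : CochainComplex (ModuleCat.{u} R) ℤ) : TJ φ J ⟶ J :=
  RAdj.counitCx (adjM φ) J

lemma αCx_βCx (J : CochainComplex (ModuleCat.{u} R) ℤ) : αCx φ J ≫ βCx φ J = 0 := by
  apply HomologicalComplex.hom_ext
  intro n
  exact ses_zero (φ := φ) (J.X n)

/-- the short complex `Hom_R(A, J) ⟶ J ⟶ Hom_R(I, J)` -/
noncomputable abbrev sesCx (J : CochainComplex (ModuleCat.{u} R) ℤ) :
    ShortComplex (CochainComplex (ModuleCat.{u} R) ℤ) :=
  ShortComplex.mk (αCx φ J) (βCx φ J) (αCx_βCx φ J)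

variable {φ}

lemma shortExact_sesCx (hφ : Function.Surjective φ) (J : CochainComplex (ModuleCat.{u} R) ℤ)
    (hJ : ∀ n, Injective (J.X n)) : (sesCx φ J).ShortExact :=
  HomologicalComplex.shortExact_of_degreewise_shortExact _ (fun n => by
    haveI := hJ n
    exact shortExact_ses hφ (J.X n))

end Cx

section LES

variable {φ}
variable [Module.Projective R (RingHom.ker φ)]
  (X₀ : ModuleCat.{u} R) (J : CochainComplex (ModuleCat.{u} R) ℤ)
  (f : (HomologicalComplex.single (ModuleCat.{u} R) (ComplexShape.up ℤ) 0).obj X₀ ⟶ J)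
  [QuasiIso f]

include f in
lemma isZero_homology_J (n : ℤ) (hn : n ≠ 0) : IsZero (J.homology n) := by
  haveI : IsIso (HomologicalComplex.homologyMap f n) := by
    have : QuasiIsoAt f n := inferInstance
    exact (quasiIsoAt_iff_isIso_homologyMap f n).1 this
  exact IsZero.of_iso (HomologicalComplex.isZero_single_obj_homology (ComplexShape.up ℤ) 0 X₀ n hn)
    (asIso (HomologicalComplex.homologyMap f n)).symm

include f in
lemma isZero_homology_HJ (n : ℤ) (hn : n ≠ 0) : IsZero ((HJ φ J).homology n) :=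
  IsZero.of_iso ((homF (RingHom.ker φ)).map_isZero (isZero_homology_J X₀ J f n hn))
    ((HomNat.homologyCxIso (homF (RingHom.ker φ)) n).app J)

/-- `H⁰(J) ≅ X₀` -/
noncomputable def e0 : J.homology 0 ≅ X₀ :=
  haveI : IsIso (HomologicalComplex.homologyMap f 0) := by
    have : QuasiIsoAt f 0 := inferInstance
    exact (quasiIsoAt_iff_isIso_homologyMap f 0).1 this
  (asIso (HomologicalComplex.homologyMap f 0)).symm ≪≫
    HomologicalComplex.singleObjHomologySelfIso (ComplexShape.up ℤ) 0 X₀

lemma isIso_homologyMap_f : IsIso (HomologicalComplex.homologyMap f 0) := by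
  have : QuasiIsoAt f 0 := inferInstance
  exact (quasiIsoAt_iff_isIso_homologyMap f 0).1 this

lemma isIso_homologyMap_Hf : IsIso (HomologicalComplex.homologyMap
    (((homF (RingHom.ker φ)).mapHomologicalComplex (ComplexShape.up ℤ)).map f) 0) := by
  have : QuasiIsoAt (((homF (RingHom.ker φ)).mapHomologicalComplex (ComplexShape.up ℤ)).map f) 0 :=
    inferInstance
  exact (quasiIsoAt_iff_isIso_homologyMap _ 0).1 this

/-- `Hom_R(I, X₀[0]) ≅ Hom_R(I, X₀)[0]` -/
noncomputable abbrev σ₀ : HJ φ ((HomologicalComplex.single (ModuleCat.{u} R) (ComplexShape.up ℤ) 0).obj X₀) ≅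
    (HomologicalComplex.single (ModuleCat.{u} R) (ComplexShape.up ℤ) 0).obj
      ((homF (RingHom.ker φ)).obj X₀) :=
  (HomologicalComplex.singleMapHomologicalComplex (homF (RingHom.ker φ)) (ComplexShape.up ℤ) 0).app X₀

lemma βCx_single : βCx φ ((HomologicalComplex.single (ModuleCat.{u} R) (ComplexShape.up ℤ) 0).obj X₀) ≫
    (σ₀ (φ := φ) X₀).hom =
      (HomologicalComplex.single (ModuleCat.{u} R) (ComplexShape.up ℤ) 0).map (βM φ X₀) := by
  apply HomologicalComplex.to_single_hom_ext
  rw [HomologicalComplex.comp_f, HomologicalComplex.single_map_f_self]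
  have h1 : ((σ₀ (φ := φ) X₀).hom).f 0 = (homF (RingHom.ker φ)).map
      (HomologicalComplex.singleObjXSelf (ComplexShape.up ℤ) 0 X₀).hom ≫
      (HomologicalComplex.singleObjXSelf (ComplexShape.up ℤ) 0 ((homF (RingHom.ker φ)).obj X₀)).inv :=
    HomologicalComplex.singleMapHomologicalComplex_hom_app_self (homF (RingHom.ker φ))
      (ComplexShape.up ℤ) 0 X₀
  rw [h1]
  have h2 := (βNat φ).naturality (HomologicalComplex.singleObjXSelf (ComplexShape.up ℤ) 0 X₀).hom
  refine Eq.trans (Category.assoc _ _ _).symm ?_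
  refine Eq.trans ?_ (Category.assoc _ _ _)
  exact congrArg (fun z => z ≫ (HomologicalComplex.singleObjXSelf (ComplexShape.up ℤ) 0
    ((homF (RingHom.ker φ)).obj X₀)).inv) h2.symm

/-- `H⁰(Hom_R(I, J)) ≅ Hom_R(I, X₀)` -/
noncomputable def e0' : (HJ φ J).homology 0 ≅ (homF (RingHom.ker φ)).obj X₀ :=
  haveI := isIso_homologyMap_Hf (φ := φ) X₀ J f
  (asIso (HomologicalComplex.homologyMap
    (((homF (RingHom.ker φ)).mapHomologicalComplex (ComplexShape.up ℤ)).map f) 0)).symm ≪≫
    (HomologicalComplex.homologyFunctor _ _ 0).mapIso (σ₀ (φ := φ) X₀) ≪≫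
    HomologicalComplex.singleObjHomologySelfIso (ComplexShape.up ℤ) 0 ((homF (RingHom.ker φ)).obj X₀)

set_option backward.isDefEq.respectTransparency false in
lemma homologyMap_βCx_e0' :
    HomologicalComplex.homologyMap (βCx φ J) 0 ≫ (e0' (φ := φ) X₀ J f).hom =
      (e0 X₀ J f).hom ≫ βM φ X₀ := by
  haveI := isIso_homologyMap_f X₀ J f
  haveI := isIso_homologyMap_Hf (φ := φ) X₀ J f
  rw [← cancel_epi (HomologicalComplex.homologyMap f 0)]
  have h1 : HomologicalComplex.homologyMap f 0 ≫ (e0 X₀ J f).hom =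
      (HomologicalComplex.singleObjHomologySelfIso (ComplexShape.up ℤ) 0 X₀).hom := by
    dsimp only [e0, Iso.trans_hom, Iso.symm_hom, asIso_inv]
    rw [IsIso.hom_inv_id_assoc]
  rw [reassoc_of% h1, ← HomologicalComplex.homologyMap_comp_assoc, βCx_naturality,
    HomologicalComplex.homologyMap_comp_assoc]
  dsimp only [e0', Iso.trans_hom, Iso.symm_hom, asIso_inv, Functor.mapIso_hom,
    HomologicalComplex.homologyFunctor_map]
  have h4 : (HomologicalComplex.homologyFunctor (ModuleCat.{u} R) (ComplexShape.up ℤ) 0).map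
      (σ₀ (φ := φ) X₀).hom = HomologicalComplex.homologyMap (σ₀ (φ := φ) X₀).hom 0 := rfl
  rw [IsIso.hom_inv_id_assoc, h4, ← HomologicalComplex.homologyMap_comp_assoc, βCx_single,
    HomologicalComplex.singleObjHomologySelfIso_hom_naturality]

include f in
lemma mono_homologyMap_βCx [Mono (βM φ X₀)] :
    Mono (HomologicalComplex.homologyMap (βCx φ J) 0) := by
  have h := homologyMap_βCx_e0' (φ := φ) X₀ J f
  have h' : HomologicalComplex.homologyMap (βCx φ J) 0 =
      ((e0 X₀ J f).hom ≫ βM φ X₀) ≫ (e0' (φ := φ) X₀ J f).inv := by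
    rw [← h, Category.assoc, Iso.hom_inv_id, Category.comp_id]
  rw [h']
  infer_instance

include f in
theorem isZero_homology_TJ (hφ : Function.Surjective φ) (hJ : ∀ n, Injective (J.X n))
    [Mono (βM φ X₀)] (n : ℤ) (hn : n ≠ 1) : IsZero ((TJ φ J).homology n) := by
  have hS := shortExact_sesCx hφ J hJ
  by_cases h0 : n = 0
  · subst h0
    have ex1 := hS.homology_exact₁ (-1) 0 (by simp)
    have ex2 := hS.homology_exact₂ 0
    haveI : Mono (HomologicalComplex.homologyMap (sesCx φ J).f 0) :=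
      ex1.mono_g ((isZero_homology_HJ (φ := φ) X₀ J f (-1) (by omega)).eq_of_src _ _)
    haveI : Mono (HomologicalComplex.homologyMap (sesCx φ J).g 0) :=
      mono_homologyMap_βCx (φ := φ) X₀ J f
    have hz : HomologicalComplex.homologyMap (sesCx φ J).f 0 = 0 := by
      rw [← cancel_mono (HomologicalComplex.homologyMap (sesCx φ J).g 0), zero_comp,
        ← HomologicalComplex.homologyMap_comp, (sesCx φ J).zero,
        HomologicalComplex.homologyMap_zero]
    exact IsZero.of_mono_eq_zero _ hz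
  · have ex1 := hS.homology_exact₁ (n - 1) n (by simp)
    exact ex1.isZero_X₂ ((isZero_homology_HJ (φ := φ) X₀ J f (n - 1) (by omega)).eq_of_src _ _)
      ((isZero_homology_J X₀ J f n h0).eq_of_tgt _ _)

/-- `H¹(Hom_R(A, J))` is the cokernel of `X₀ ⟶ Hom_R(I, X₀)` -/
noncomputable def homologyTJIso (hφ : Function.Surjective φ) (hJ : ∀ n, Injective (J.X n))
    [Mono (βM φ X₀)] {C : ModuleCat.{u} R} (p : (homF (RingHom.ker φ)).obj X₀ ⟶ C)
    (w : βM φ X₀ ≫ p = 0) (hE : (ShortComplex.mk (βM φ X₀) p w).ShortExact) :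
    (TJ φ J).homology 1 ≅ C :=
  have hS := shortExact_sesCx hφ J hJ
  have h01 : (ComplexShape.up ℤ).Rel 0 1 := by simp
  have ex3 := hS.homology_exact₃ 0 1 h01
  haveI : Epi (hS.δ 0 1 h01) := hS.epi_δ 0 1 h01 (isZero_homology_J X₀ J f 1 (by omega))
  haveI : Epi (ShortComplex.mk _ _ (hS.comp_δ 0 1 h01)).g := by
    dsimp only
    infer_instance
  haveI : Epi (ShortComplex.mk (βM φ X₀) p w).g := hE.epi_g
  CokernelCofork.mapIsoOfIsColimit ex3.gIsCokernel hE.exact.gIsCokernel
    (Arrow.isoMk (e0 X₀ J f) (e0' (φ := φ) X₀ J f) (homologyMap_βCx_e0' (φ := φ) X₀ J f).symm)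

end LES

end Groth.Agent.Lib.helper23.MixE
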