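import Mathlib
import Groth.Agent.Lib.Helper23.MixE1

/-!
# `0 ⟶ R ⟶ Hom_R(I, R) ⟶ N ⟶ 0` for `I = ker (R → A)` invertible, `N` inverse to `A ⊗_R I` (helper23)
-/

set_option autoImplicit false
universe u
open CategoryTheory CategoryTheory.Limits
open scoped TensorProduct

namespace Groth.Agent.Lib.helper23.MixE

variable {R A : Type u} [CommRing R] [CommRing A] [Algebra R A]
  (N : Type u) [AddCommGroup N] [Module A N]
  (e : (A ⊗[R] (RingHom.ker (algebraMap R A))) ⊗[A] N ≃ₗ[A] A)

/-- `N ≃ Hom_R(I, A)` -/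
noncomputable def ψN : N ≃ₗ[A] (RingHom.ker (algebraMap R A) →ₗ[R] A) :=
  Module.Invertible.linearEquivDual
      (TensorProduct.comm A N (A ⊗[R] (RingHom.ker (algebraMap R A))) ≪≫ₗ e) ≪≫ₗ
    (LinearMap.liftBaseChangeEquiv (R := R) (M := RingHom.ker (algebraMap R A)) (N := A) A).symm

/-- the ring `R` as an `R`-module -/
abbrev R₀ (R : Type u) [CommRing R] : ModuleCat.{u} R := ModuleCat.of R R

/-- the semilinear map `Hom_R(I, R) → N` -/
noncomputable def pSL :
    (RingHom.ker (algebraMap R A) →ₗ[R] R) →ₛₗ[algebraMap R A] N where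
  toFun g := (ψN N e).symm ((Algebra.linearMap R A).comp g)
  map_add' g g' := by
    rw [LinearMap.comp_add, map_add]
  map_smul' r g := by
    rw [LinearMap.comp_smul, ← map_smul]
    congr 1
    apply LinearMap.ext
    intro i
    rw [LinearMap.smul_apply, LinearMap.smul_apply, Algebra.smul_def, smul_eq_mul]

/-- `Hom_R(I, R) ⟶ N` -/
noncomputable def pN : (homF (RingHom.ker (algebraMap R A))).obj (R₀ R) ⟶
    (ModuleCat.restrictScalars.{u} (algebraMap R A)).obj (ModuleCat.of A N) :=
  ModuleCat.semilinearMapAddEquiv (algebraMap R A)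
    ((homF (RingHom.ker (algebraMap R A))).obj (R₀ R)) (ModuleCat.of A N) (pSL N e)

lemma pN_apply (g : RingHom.ker (algebraMap R A) →ₗ[R] R) :
    (pN N e).hom g = (ψN N e).symm ((Algebra.linearMap R A).comp g) := rfl

section

variable [Module.Invertible R (RingHom.ker (algebraMap R A))]

lemma βM_R₀_injective : Function.Injective (βM (algebraMap R A) (R₀ R)).hom := by
  rw [injective_iff_map_eq_zero]
  intro (r : R) hr
  have h : ∀ i : RingHom.ker (algebraMap R A), r • i = (0 : R) • i := by
    intro i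
    have := LinearMap.congr_fun (show (show RingHom.ker (algebraMap R A) →ₗ[R] R from
      (βM (algebraMap R A) (R₀ R)).hom r) = 0 from hr) i
    rw [βM_apply] at this
    apply Subtype.ext
    rw [zero_smul]
    change r • (i : R) = 0
    rw [smul_eq_mul, mul_comm]
    exact this
  exact FaithfulSMul.eq_of_smul_eq_smul h

instance mono_βM_R₀ : Mono (βM (algebraMap R A) (R₀ R)) :=
  (ModuleCat.mono_iff_injective _).mpr βM_R₀_injective

lemma βM_pN : βM (algebraMap R A) (R₀ R) ≫ pN N e = 0 := by
  apply ModuleCat.hom_ext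
  apply LinearMap.ext
  intro (r : R)
  change (pN N e).hom ((βM (algebraMap R A) (R₀ R)).hom r) = 0
  rw [pN_apply]
  have : (Algebra.linearMap R A).comp (show RingHom.ker (algebraMap R A) →ₗ[R] R from
      (βM (algebraMap R A) (R₀ R)).hom r) = 0 := by
    apply LinearMap.ext
    intro i
    rw [LinearMap.comp_apply, βM_apply, LinearMap.zero_apply, Algebra.linearMap_apply, smul_eq_mul,
      map_mul]
    have : algebraMap R A (i : R) = 0 := i.2
    rw [this, zero_mul]
  erw [this]
  exact map_zero _

lemma pN_surjective (hφ : Function.Surjective (algebraMap R A)) :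
    Function.Surjective (pN N e).hom := by
  intro (n : N)
  obtain ⟨g, hg⟩ := Module.projective_lifting_property (Algebra.linearMap R A) (ψN N e n) hφ
  refine ⟨g, ?_⟩
  change (pN N e).hom g = n
  rw [pN_apply, hg, LinearEquiv.symm_apply_apply]

lemma ses_R₀_exact :
    (ShortComplex.mk (βM (algebraMap R A) (R₀ R)) (pN N e) (βM_pN N e)).Exact := by
  rw [ShortComplex.moduleCat_exact_iff]
  intro (g : RingHom.ker (algebraMap R A) →ₗ[R] R) hg
  have hg' : (Algebra.linearMap R A).comp g = 0 := by
    have h1 : (pN N e).hom g = 0 := hg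
    rw [pN_apply] at h1
    exact (LinearEquiv.map_eq_zero_iff _).1 h1
  have hmem : ∀ i, g i ∈ RingHom.ker (algebraMap R A) := by
    intro i
    have := LinearMap.congr_fun hg' i
    exact this
  let g' : RingHom.ker (algebraMap R A) →ₗ[R] RingHom.ker (algebraMap R A) :=
    g.codRestrict (RingHom.ker (algebraMap R A)) hmem
  obtain ⟨r, hr⟩ := (Module.Invertible.toModuleEnd_bijective R
    (RingHom.ker (algebraMap R A))).2 g'
  refine ⟨r, ?_⟩
  apply LinearMap.ext
  intro i
  change (show RingHom.ker (algebraMap R A) →ₗ[R] R from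
    (βM (algebraMap R A) (R₀ R)).hom r) i = g i
  rw [βM_apply]
  have h2 := LinearMap.congr_fun hr i
  have h3 := congrArg Subtype.val h2
  change r • (i : R) = g i at h3
  rw [← h3, smul_eq_mul, smul_eq_mul, mul_comm]

theorem shortExact_ses_R₀ (hφ : Function.Surjective (algebraMap R A)) :
    (ShortComplex.mk (βM (algebraMap R A) (R₀ R)) (pN N e) (βM_pN N e)).ShortExact where
  exact := ses_R₀_exact N e
  mono_f := mono_βM_R₀
  epi_g := (ModuleCat.epi_iff_surjective _).mpr (pN_surjective N e hφ)

end

end Groth.Agent.Lib.helper23.MixE
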