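import Mathlib
import Groth.Prelude.Def_DTen4
import Groth.Agent.Lib.Helper23.MixE2
import Groth.Agent.Lib.Helper23.MixE3
import Groth.Agent.Lib.Helper23.GorInv0
import Groth.Agent.Lib.Helper25.KInjMain

/-!
# `RHom_R(A, R) ≅ N[-1]` for `A = R/I`, `I` invertible, `N` inverse to `A ⊗_R I` (helper23)
-/

set_option autoImplicit false
universe u
open CategoryTheory CategoryTheory.Limits MonoidalCategory
open scoped TensorProduct

attribute [local instance] HasDerivedCategory.standard

namespace Groth.Agent.Lib.helper23.MixE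

section FF

variable {R A : Type u} [CommRing R] [CommRing A] {φ : R →+* A}

/-- restriction of scalars along a surjection is full on isomorphisms -/
noncomputable def isoOfRestrictIso (hφ : Function.Surjective φ) {X Y : ModuleCat.{u} A}
    (i : (ModuleCat.restrictScalars.{u} φ).obj X ≅ (ModuleCat.restrictScalars.{u} φ).obj Y) :
    X ≅ Y :=
  LinearEquiv.toModuleIso
    ({ toFun := fun x => i.hom.hom x
       invFun := fun y => i.inv.hom y
       map_add' := fun x y => i.hom.hom.map_add x y
       map_smul' := fun a x => by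
         obtain ⟨r, rfl⟩ := hφ a
         exact i.hom.hom.map_smul r x
       left_inv := fun x => by
         have := congrArg (fun g => g.hom x) i.hom_inv_id
         exact this
       right_inv := fun y => by
         have := congrArg (fun g => g.hom y) i.inv_hom_id
         exact this } : X ≃ₗ[A] Y)

lemma isZero_of_isZero_restrict {X : ModuleCat.{u} A}
    (h : IsZero ((ModuleCat.restrictScalars.{u} φ).obj X)) : IsZero X := by
  rw [IsZero.iff_id_eq_zero] at h ⊢
  apply (ModuleCat.restrictScalars.{u} φ).map_injective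
  rw [CategoryTheory.Functor.map_id, Functor.map_zero]
  exact h

end FF

section Main

variable {R A : Type u} [CommRing R] [CommRing A] [Algebra R A]
  [Module.Invertible R (RingHom.ker (algebraMap R A))]
  (N : Type u) [AddCommGroup N] [Module A N]
  (e : (A ⊗[R] (RingHom.ker (algebraMap R A))) ⊗[A] N ≃ₗ[A] A)

include e in
/-- the cohomology of `Hom_R(A, J)` is `N` in degree `1` -/
theorem nonempty_Q_GJ_iso (hφ : Function.Surjective (algebraMap R A))
    (J : CochainComplex (ModuleCat.{u} R) ℤ)
    (f : (HomologicalComplex.single (ModuleCat.{u} R) (ComplexShape.up ℤ) 0).obj (R₀ R) ⟶ J)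
    [QuasiIso f] (hJ : ∀ n, Injective (J.X n)) :
    Nonempty (DerivedCategory.Q.obj (GJ (algebraMap R A) J) ≅
      (DerivedCategory.singleFunctor (ModuleCat.{u} A) 1).obj (ModuleCat.of A N)) := by
  have hT : ∀ n : ℤ, (TJ (algebraMap R A) J).homology n ≅
      (ModuleCat.restrictScalars.{u} (algebraMap R A)).obj ((GJ (algebraMap R A) J).homology n) :=
    fun n => (HomNat.homologyCxIso (ModuleCat.restrictScalars.{u} (algebraMap R A)) n).app
      (GJ (algebraMap R A) J)
  apply GorInv.nonempty_iso_single
  · intro i hi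
    refine IsZero.of_iso ?_ ((DerivedCategory.homologyFunctorFactors (ModuleCat.{u} A) i).app
      (GJ (algebraMap R A) J))
    apply isZero_of_isZero_restrict (φ := algebraMap R A)
    exact IsZero.of_iso (isZero_homology_TJ (R₀ R) J f hφ hJ i hi) (hT i).symm
  · refine ⟨(DerivedCategory.homologyFunctorFactors (ModuleCat.{u} A) 1).app
      (GJ (algebraMap R A) J) ≪≫ ?_⟩
    apply isoOfRestrictIso hφ
    exact (hT 1).symm ≪≫ homologyTJIso (R₀ R) J f hφ hJ (pN N e) (βM_pN N e)
      (shortExact_ses_R₀ N e hφ)

end Main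

section General

open Groth.Agent.Lib.helper23.RAdj

variable {C₁ C₂ : Type*} [Category C₁] [Category C₂] [Abelian C₁] [Abelian C₂]
  {Φ : C₁ ⥤ C₂} [Φ.Additive] [PreservesFiniteLimits Φ] [PreservesFiniteColimits Φ]
  {G : C₂ ⥤ C₁} [G.Additive] (adj : Φ ⊣ G)

include adj in
/-- the termwise right adjoint of an exact functor preserves K-injective complexes -/
theorem isKInjective_map_of_adj' (I : CochainComplex C₂ ℤ) [I.IsKInjective] :
    CochainComplex.IsKInjective ((G.mapHomologicalComplex (ComplexShape.up ℤ)).obj I) := by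
  refine ⟨fun {K} f hK => ?_⟩
  have hK' : ((Φ.mapHomologicalComplex (ComplexShape.up ℤ)).obj K).Acyclic := by
    intro i
    rw [HomologicalComplex.exactAt_iff]
    exact ((HomologicalComplex.exactAt_iff _ _).1 (hK i)).map Φ
  have H : Homotopy (adjChain adj f) 0 :=
    CochainComplex.IsKInjective.homotopyZero (adjChain adj f) hK'
  have H1 : Homotopy ((G.mapHomologicalComplex (ComplexShape.up ℤ)).map (adjChain adj f))
      ((G.mapHomologicalComplex (ComplexShape.up ℤ)).map 0) := G.mapHomotopy H
  have H2 : Homotopy (adjChain' adj (adjChain adj f)) (unitCx adj K ≫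
      (G.mapHomologicalComplex (ComplexShape.up ℤ)).map 0) := H1.compLeft (unitCx adj K)
  rw [adjChain'_adjChain, Functor.map_zero, comp_zero] at H2
  exact ⟨H2⟩

end General

section Omega

variable {R A : Type u} [CommRing R] [CommRing A] [Algebra R A]
  [Module.Invertible R (RingHom.ker (algebraMap R A))]
  (N : Type u) [AddCommGroup N] [Module A N]
  (e : (A ⊗[R] (RingHom.ker (algebraMap R A))) ⊗[A] N ≃ₗ[A] A)
  [DTen.HasRHomRel (algebraMap R A)]

include e in
/-- `RHom_R(A, R) ≅ N[-1]` -/
theorem nonempty_RHomRel_unit_iso (hφ : Function.Surjective (algebraMap R A)) :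
    Nonempty ((DTen.RHomRel (algebraMap R A)).obj (DTen.unit R) ≅
      (Dual.inD A N)⟦(-1 : ℤ)⟧) := by
  obtain ⟨J, f, hK, hq, -, hinj⟩ :=
    Groth.Agent.Lib.Helper25.KInjMain.exists_kInjective_resolution (𝟙_ (DRing.Cx R))
  haveI := hK
  haveI := hq
  haveI : CochainComplex.IsKInjective (GJ (algebraMap R A) J) :=
    isKInjective_map_of_adj' (adjM (algebraMap R A)) J
  obtain ⟨i1⟩ := nonempty_Q_GJ_iso N e hφ J f hinj
  let i2 := RAdj.compIso (adjM (algebraMap R A)) (DTen.RHomRel (algebraMap R A))
    (DTen.relAdj (algebraMap R A)) J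
  let i3 : DTen.unit R ≅ DerivedCategory.Q.obj J := asIso (DerivedCategory.Q.map f)
  let i4 := ((DerivedCategory.singleFunctors (ModuleCat.{u} A)).shiftIso (-1) 1 0 (by simp)).app
    (ModuleCat.of A N)
  exact ⟨(DTen.RHomRel (algebraMap R A)).mapIso i3 ≪≫ i2.symm ≪≫ i1 ≪≫ i4.symm⟩

end Omega

end Groth.Agent.Lib.helper23.MixE
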