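import Mathlib
import Groth.Prelude.Def_DTen5
import Groth.Agent.Lib.Helper23.PerfDev
import Groth.Agent.Lib.Helper23.Binders5

/-!
# `A = R/I` is perfect over `R` when `I` is an invertible module (helper23)
-/

set_option autoImplicit false
universe u
open CategoryTheory CategoryTheory.Limits
open scoped TensorProduct

attribute [local instance] HasDerivedCategory.standard

namespace Groth.Agent.Lib.helper23.MixE

variable {R : Type u} [CommRing R]

/-- a finite projective module, placed in degree `0`, is perfect -/
lemma isPerfect_single' (M : ModuleCat.{u} R) [Module.Finite R M] [Module.Projective R M] :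
    DRing.IsPerfect R ((DerivedCategory.singleFunctor (ModuleCat.{u} R) 0).obj M) := by
  refine ⟨(HomologicalComplex.single (ModuleCat.{u} R) (ComplexShape.up ℤ) 0).obj M, 0, 0,
    fun i hi => HomologicalComplex.isZero_single_obj_X _ _ _ _ (by omega), fun i => ?_,
    ⟨((DerivedCategory.singleFunctorIsoCompQ (ModuleCat.{u} R) 0).app M).symm⟩⟩
  by_cases hi : i = 0
  · subst hi
    have e := (HomologicalComplex.singleObjXSelf (ComplexShape.up ℤ) 0 M).symm
    exact ⟨Module.Finite.equiv e.toLinearEquiv, Module.Projective.of_equiv e.toLinearEquiv⟩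
  · have h := HomologicalComplex.isZero_single_obj_X (ComplexShape.up ℤ) 0 M i hi
    haveI : Subsingleton (((HomologicalComplex.single (ModuleCat.{u} R)
      (ComplexShape.up ℤ) 0).obj M).X i) := ModuleCat.subsingleton_of_isZero h
    exact ⟨inferInstance, inferInstance⟩

variable {A : Type u} [CommRing A] [Algebra R A]

/-- the short complex `I ⟶ R ⟶ A` -/
noncomputable abbrev sesIRA : ShortComplex (ModuleCat.{u} R) :=
  ShortComplex.mk
    (ModuleCat.ofHom (RingHom.ker (algebraMap R A)).subtype :
      ModuleCat.of R (RingHom.ker (algebraMap R A)) ⟶ ModuleCat.of R R)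
    (ModuleCat.ofHom (Algebra.linearMap R A) : ModuleCat.of R R ⟶ ModuleCat.of R A) (by
      ext i
      exact i.2)

lemma shortExact_sesIRA (hφ : Function.Surjective (algebraMap R A)) :
    (sesIRA (R := R) (A := A)).ShortExact where
  exact := by
    rw [ShortComplex.moduleCat_exact_iff]
    intro (x : R) hx
    exact ⟨⟨x, hx⟩, rfl⟩
  mono_f := (ModuleCat.mono_iff_injective _).mpr Subtype.val_injective
  epi_g := (ModuleCat.epi_iff_surjective _).mpr hφ

theorem isPerfectModule_of_invertible_ker [Module.Invertible R (RingHom.ker (algebraMap R A))]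
    (hφ : Function.Surjective (algebraMap R A)) : DRing.IsPerfectModule R A := by
  have hS := shortExact_sesIRA (R := R) (A := A) hφ
  have hT := hS.singleTriangle_distinguished
  have h1 : DRing.IsPerfect R ((DerivedCategory.singleFunctor (ModuleCat.{u} R) 0).obj
      (ModuleCat.of R (RingHom.ker (algebraMap R A)))) := isPerfect_single' _
  have h2 : DRing.IsPerfect R ((DerivedCategory.singleFunctor (ModuleCat.{u} R) 0).obj
      (ModuleCat.of R R)) := isPerfect_single' _
  exact (PerfDev.isPerfect_two_of_three R _ hT).1 h1 h2

theorem isPerfect_restrict_unit_of_invertible_ker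
    [Module.Invertible R (RingHom.ker (algebraMap R A))]
    (hφ : Function.Surjective (algebraMap R A)) :
    DRing.IsPerfect R ((DRing.restrictD (algebraMap R A)).obj (DTen.unit A)) :=
  Binders.isPerfect_restrict_unit (isPerfectModule_of_invertible_ker hφ)

end Groth.Agent.Lib.helper23.MixE
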