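import Mathlib
import Groth.Prelude.Def_DRing2
import Groth.Prelude.Def_DDual2

/-!
# helper23: maps `K ⟶ M[-i]` injective on `H^i` (S6988, S6989)
-/

set_option autoImplicit false
universe u
open CategoryTheory CategoryTheory.Limits Pretriangulated ZeroObject

attribute [local instance] HasDerivedCategory.standard

namespace Groth.Agent.Lib.helper23.MonoH

variable {R : Type u} [CommRing R]

/-- the canonical map to the module of opcycles placed in degree `n`. -/
noncomputable def toOpc (K : DRing.Cx R) (n : ℤ) :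
    K ⟶ (HomologicalComplex.single (ModuleCat.{u} R) (ComplexShape.up ℤ) n).obj (K.opcycles n) :=
  HomologicalComplex.mkHomToSingle (K.pOpcycles n) (by simp)

lemma mono_homologyMap_toOpc (K : DRing.Cx R) (n : ℤ) :
    Mono (HomologicalComplex.homologyMap (toOpc K n) n) := by
  rw [HomologicalComplex.mono_homologyMap_iff_up_to_refinements _ (n - 1) n (n + 1)
    (by simp) (by simp)]
  intro A x₂ hx₂ y₁ hy₁
  have hy : y₁ = 0 :=
    (HomologicalComplex.isZero_single_obj_X (ComplexShape.up ℤ) n _ (n - 1) (by omega)).eq_of_tgt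
      _ _
  have h0 : x₂ ≫ (toOpc K n).f n = 0 := by rw [hy₁, hy, zero_comp]
  have h1 : x₂ ≫ K.pOpcycles n = 0 := by
    simpa [toOpc, ← cancel_mono (HomologicalComplex.singleObjXSelf (ComplexShape.up ℤ) n _).hom]
      using h0
  exact (K.comp_pOpcycles_eq_zero_iff_up_to_refinements x₂ (n - 1) (by simp)).1 h1

/-- the iso `Q (M placed in degree n) ≅ M[0][-n]`. -/
noncomputable def singleShiftIso (M : ModuleCat.{u} R) (n : ℤ) :
    DerivedCategory.Q.obj
      ((HomologicalComplex.single (ModuleCat.{u} R) (ComplexShape.up ℤ) n).obj M) ≅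
      ((DerivedCategory.singleFunctor (ModuleCat.{u} R) 0).obj M)⟦-n⟧ :=
  ((DerivedCategory.singleFunctorIsoCompQ _ n).app M).symm ≪≫
    (((DerivedCategory.singleFunctors (ModuleCat.{u} R)).shiftIso (-n) n 0 (by omega)).app
      M).symm

lemma mono_homologyFunctor_map_Q (K L : DRing.Cx R) (f : K ⟶ L) (n : ℤ)
    [Mono (HomologicalComplex.homologyMap f n)] :
    Mono ((DerivedCategory.homologyFunctor (ModuleCat.{u} R) n).map (DerivedCategory.Q.map f)) := by
  have h1 : (DerivedCategory.homologyFunctorFactors (ModuleCat.{u} R) n).hom.app K ≫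
        (HomologicalComplex.homologyFunctor (ModuleCat.{u} R) (ComplexShape.up ℤ) n).map f ≫
          (DerivedCategory.homologyFunctorFactors (ModuleCat.{u} R) n).inv.app L =
      (DerivedCategory.Q ⋙ DerivedCategory.homologyFunctor (ModuleCat.{u} R) n).map f :=
    NatIso.naturality_2 (DerivedCategory.homologyFunctorFactors (ModuleCat.{u} R) n) f
  have h2 : (DerivedCategory.homologyFunctor (ModuleCat.{u} R) n).map (DerivedCategory.Q.map f) =
      (DerivedCategory.Q ⋙ DerivedCategory.homologyFunctor (ModuleCat.{u} R) n).map f := rfl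
  rw [h2, ← h1]
  have m1 : Mono ((HomologicalComplex.homologyFunctor (ModuleCat.{u} R) (ComplexShape.up ℤ) n).map
      f) := by
    show Mono (HomologicalComplex.homologyMap f n)
    infer_instance
  have i2 : IsIso ((DerivedCategory.homologyFunctorFactors (ModuleCat.{u} R) n).inv.app L) :=
    inferInstance
  have i3 : IsIso ((DerivedCategory.homologyFunctorFactors (ModuleCat.{u} R) n).hom.app K) :=
    inferInstance
  have m2 : Mono ((DerivedCategory.homologyFunctorFactors (ModuleCat.{u} R) n).inv.app L) :=
    @IsIso.mono_of_iso _ _ _ _ _ i2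
  have m3 : Mono ((DerivedCategory.homologyFunctorFactors (ModuleCat.{u} R) n).hom.app K) :=
    @IsIso.mono_of_iso _ _ _ _ _ i3
  have m4 : Mono
      ((HomologicalComplex.homologyFunctor (ModuleCat.{u} R) (ComplexShape.up ℤ) n).map f ≫
      (DerivedCategory.homologyFunctorFactors (ModuleCat.{u} R) n).inv.app L) :=
    @mono_comp _ _ _ _ _ _ m1 _ m2
  exact @mono_comp _ _ _ _ _ _ m3 _ m4

/-- The key existence statement: any complex `K'` maps to its opcycles in degree `i`, injectively on
`H^i`. -/
theorem exists_hom_mono (K' : DRing.Cx R) (K : Dual.D R) (e : DerivedCategory.Q.obj K' ≅ K)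
    (i : ℤ) :
    ∃ f : K ⟶ ((DerivedCategory.singleFunctor (ModuleCat.{u} R) 0).obj (K'.opcycles i))⟦-i⟧,
      Mono ((DerivedCategory.homologyFunctor (ModuleCat.{u} R) i).map f) := by
  haveI := mono_homologyMap_toOpc K' i
  haveI := mono_homologyFunctor_map_Q K' _ (toOpc K' i) i
  refine ⟨e.inv ≫ DerivedCategory.Q.map (toOpc K' i) ≫ (singleShiftIso (K'.opcycles i) i).hom, ?_⟩
  rw [Functor.map_comp, Functor.map_comp]
  infer_instance

lemma finitePresentation_opcycles (K' : DRing.Cx R) (i : ℤ)
    [Module.FinitePresentation R (K'.X i)] [Module.Finite R (K'.X (i - 1))] :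
    Module.FinitePresentation R (K'.opcycles i) := by
  let S : ShortComplex (ModuleCat.{u} R) :=
    ShortComplex.mk (K'.d (i - 1) i) (K'.pOpcycles i) (K'.d_pOpcycles (i - 1) i)
  have hS : S.Exact :=
    ShortComplex.exact_of_g_is_cokernel S (K'.opcyclesIsCokernel (i - 1) i (by simp))
  have hker := (ShortComplex.moduleCat_exact_iff_range_eq_ker S).1 hS
  refine Module.finitePresentation_of_surjective (K'.pOpcycles i).hom
    ((ModuleCat.epi_iff_surjective _).1 inferInstance) ?_
  have h2 : LinearMap.ker (K'.pOpcycles i).hom = LinearMap.range (K'.d (i - 1) i).hom := hker.symm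
  rw [h2, LinearMap.range_eq_map]
  exact (Module.Finite.fg_top).map _

end Groth.Agent.Lib.helper23.MonoH
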