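import Mathlib
import Groth.Prelude.Def_DRing2
import Groth.Prelude.Def_DDual2
import Groth.Agent.Lib.Helper23.MonoH
import Groth.Agent.Lib.Helper23.DRingPC8

/-!
# helper23: maps `K ⟶ E[-i]` to `m`-power-torsion modules, nonzero on `H^i` (S6989)
-/

set_option autoImplicit false
universe u
open CategoryTheory CategoryTheory.Limits Pretriangulated ZeroObject

attribute [local instance] HasDerivedCategory.standard

namespace Groth.Agent.Lib.helper23.MonoH

section AR

variable {A : Type u} [CommRing A] [IsNoetherianRing A]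

/-- Artin–Rees: a submodule `φ(H) ⊆ M` with `mH ≠ H` is not contained in all `m^n M`. -/
lemma exists_pow_not_le {H M : Type u} [AddCommGroup H] [Module A H] [AddCommGroup M] [Module A M]
    [Module.Finite A M] (m : Ideal A) (φ : H →ₗ[A] M) (hφ : Function.Injective φ)
    (hH : m • (⊤ : Submodule A H) ≠ ⊤) :
    ∃ n : ℕ, ¬ (LinearMap.range φ ≤ m ^ n • (⊤ : Submodule A M)) := by
  by_contra hcon
  push Not at hcon
  obtain ⟨k, hk⟩ := Ideal.exists_pow_inf_eq_pow_smul m (LinearMap.range φ)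
  have h1 := hk (k + 1) (by omega)
  rw [inf_eq_right.2 (hcon (k + 1)), inf_eq_right.2 (hcon k), show k + 1 - k = 1 by omega,
    pow_one] at h1
  apply hH
  rw [eq_top_iff]
  intro x _
  have hx : φ x ∈ m • LinearMap.range φ := by
    rw [← h1]
    exact LinearMap.mem_range_self φ x
  rw [LinearMap.range_eq_map, ← Submodule.map_smul''] at hx
  obtain ⟨y, hy, hyx⟩ := hx
  rw [← hφ hyx]
  exact hy

lemma pow_smul_top_quotient_eq_bot {M : Type u} [AddCommGroup M] [Module A M] (m : Ideal A)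
    (n : ℕ) :
    m ^ n • (⊤ : Submodule A (M ⧸ (m ^ n • (⊤ : Submodule A M)))) = ⊥ := by
  rw [eq_bot_iff, Submodule.smul_le]
  intro a ha e _
  obtain ⟨x, rfl⟩ := Submodule.mkQ_surjective _ e
  rw [← map_smul, Submodule.mem_bot, Submodule.mkQ_apply, Submodule.Quotient.mk_eq_zero]
  exact Submodule.smul_mem_smul ha trivial

end AR

variable {R : Type u} [CommRing R]

/-- `H^i(M[0][-i]) ≅ M`, naturally in `M`. -/
noncomputable def thetaIso (i : ℤ) :
    (DerivedCategory.singleFunctor (ModuleCat.{u} R) 0 ⋙ shiftFunctor (Dual.D R) (-i)) ⋙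
      DerivedCategory.homologyFunctor (ModuleCat.{u} R) i ≅ 𝟭 (ModuleCat.{u} R) :=
  Functor.isoWhiskerRight
    ((DerivedCategory.singleFunctors (ModuleCat.{u} R)).shiftIso (-i) i 0 (by omega))
      (DerivedCategory.homologyFunctor (ModuleCat.{u} R) i) ≪≫
    DerivedCategory.singleFunctorCompHomologyFunctorIso (ModuleCat.{u} R) i

theorem exists_hom_torsion_nonzero [IsNoetherianRing R] (K' : DRing.Cx R) (K : Dual.D R)
    (e : DerivedCategory.Q.obj K' ≅ K) (i : ℤ) [Module.Finite R (K'.opcycles i)]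
    (m : Ideal R) (hi : m • (⊤ : Submodule R (Dual.HD R K i)) ≠ ⊤) :
    ∃ (n : ℕ) (f : K ⟶ (shiftFunctor (Dual.D R) (-i)).obj
        (Dual.inD R ((K'.opcycles i) ⧸ (m ^ n • (⊤ : Submodule R (K'.opcycles i)))))),
      (DerivedCategory.homologyFunctor (ModuleCat.{u} R) i).map f ≠ 0 := by
  obtain ⟨f₀, hf₀⟩ := exists_hom_mono K' K e i
  let M : ModuleCat.{u} R := K'.opcycles i
  let ψ : (DerivedCategory.homologyFunctor (ModuleCat.{u} R) i).obj K ⟶ M :=
    (DerivedCategory.homologyFunctor (ModuleCat.{u} R) i).map f₀ ≫ (thetaIso i).hom.app M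
  have i1 : IsIso ((thetaIso (R := R) i).hom.app M) := inferInstance
  have m1 : Mono ((thetaIso (R := R) i).hom.app M) := @IsIso.mono_of_iso _ _ _ _ _ i1
  have mψ : Mono ψ := @mono_comp _ _ _ _ _ _ hf₀ _ m1
  have hψ : Function.Injective ψ.hom := (ModuleCat.mono_iff_injective ψ).1 mψ
  obtain ⟨n, hn⟩ := exists_pow_not_le m ψ.hom hψ hi
  let q : M ⟶ ModuleCat.of R (M ⧸ (m ^ n • (⊤ : Submodule R M))) :=
    ModuleCat.ofHom (Submodule.mkQ _)
  refine ⟨n, f₀ ≫ (shiftFunctor (Dual.D R) (-i)).map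
    ((DerivedCategory.singleFunctor (ModuleCat.{u} R) 0).map q), fun h0 => hn ?_⟩
  rw [Functor.map_comp] at h0
  have nat := NatIso.naturality_2 (thetaIso (R := R) i) q
  simp only [Functor.comp_map, Functor.id_map] at nat
  rw [← nat] at h0
  have h1 : ψ ≫ q = 0 := by
    have h2 : (ψ ≫ q) ≫ (thetaIso (R := R) i).inv.app _ = 0 := by
      simpa [ψ] using h0
    have i2 : IsIso ((thetaIso (R := R) i).inv.app
        (ModuleCat.of R (M ⧸ (m ^ n • (⊤ : Submodule R M))))) := inferInstance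
    have m2 : Mono ((thetaIso (R := R) i).inv.app
        (ModuleCat.of R (M ⧸ (m ^ n • (⊤ : Submodule R M))))) := @IsIso.mono_of_iso _ _ _ _ _ i2
    exact (@cancel_mono _ _ _ _ _ _ m2 _ _).1 (by rw [h2, zero_comp])
  rintro _ ⟨x, rfl⟩
  have h3 : q.hom (ψ.hom x) = 0 := by
    have := congrArg (fun g => g.hom x) h1
    simpa using this
  have h4 : Submodule.mkQ (m ^ n • (⊤ : Submodule R M)) (ψ.hom x) = 0 := h3
  rwa [Submodule.mkQ_apply, Submodule.Quotient.mk_eq_zero] at h4

end Groth.Agent.Lib.helper23.MonoH
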