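import Mathlib
import Groth.Prelude.Def_DRing2
import Groth.Agent.Lib.Helper23.NCFree
import Groth.Agent.Lib.Helper23.DRingPC

set_option autoImplicit false
universe u
open CategoryTheory CategoryTheory.Limits Pretriangulated

attribute [local instance] HasDerivedCategory.standard

namespace Groth.Agent.Lib.helper23.NCFree

open Groth.Agent.Lib.helper23.PCohCore

variable (A : Type u) [CommRing A] (R : Type u) [Ring R] [Algebra A R]

/-- restriction of a finite free module along a finite free algebra. -/
lemma FF_restrict [Module.Finite A R] [Module.Free A R] (E : ModuleCat.{u} R) (hE : FF R E) :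
    DRingPC.FF A ((ModuleCat.restrictScalars.{u} (algebraMap A R)).obj E) := by
  obtain ⟨h1, h2⟩ := hE
  letI : Module A E := Module.compHom E (algebraMap A R)
  haveI : IsScalarTower A R E := IsScalarTower.of_algebraMap_smul (fun _ _ => rfl)
  exact ⟨(Module.Finite.trans R E : Module.Finite A E), (Module.Free.trans (R := A) (S := R) (M := E))⟩

/-- finiteness over the algebra from finiteness over the base. -/
lemma finite_of_restrict (M : ModuleCat.{u} R)
    (h : Module.Finite A ((ModuleCat.restrictScalars.{u} (algebraMap A R)).obj M)) :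
    Module.Finite R M := by
  obtain ⟨S, hS⟩ := h
  refine ⟨S, ?_⟩
  rw [eq_top_iff]
  rintro x -
  have hx : x ∈ Submodule.span A
      (S : Set ((ModuleCat.restrictScalars.{u} (algebraMap A R)).obj M)) := by
    rw [hS]; trivial
  induction hx using Submodule.span_induction with
  | mem y hy => exact Submodule.subset_span hy
  | zero => exact Submodule.zero_mem _
  | add y z _ _ hy hz => exact Submodule.add_mem _ hy hz
  | smul r y _ hy => exact Submodule.smul_mem _ (algebraMap A R r) hy

variable [PreservesFiniteLimits (ModuleCat.restrictScalars.{u} (algebraMap A R))]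
  [PreservesFiniteColimits (ModuleCat.restrictScalars.{u} (algebraMap A R))]

lemma restrict_ha [Module.Finite A R] [Module.Free A R] (E : ModuleCat.{u} R) (hE : FF R E)
    (a : ℤ) :
    NPC (DRingPC.FF A) a ((ModuleCat.restrictScalars.{u} (algebraMap A R)).mapDerivedCategory.obj
      ((DerivedCategory.singleFunctor (ModuleCat.{u} R) 0).obj E)) :=
  (NPC.single_of_prop (DRingPC.FF A) (FF_restrict A R E hE) 0 a).of_iso
    (((ModuleCat.restrictScalars.{u} (algebraMap A R)).mapDerivedCategorySingleFunctor 0).app
      E).symm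

lemma restrict_hb (X : DerivedCategory (ModuleCat.{u} R)) (i : ℤ) :
    IsZero ((DerivedCategory.homologyFunctor (ModuleCat.{u} A) i).obj
      ((ModuleCat.restrictScalars.{u} (algebraMap A R)).mapDerivedCategory.obj X)) ↔
      IsZero ((DerivedCategory.homologyFunctor (ModuleCat.{u} R) i).obj X) := by
  rw [(homologyMapDerivedCategoryIso (ModuleCat.restrictScalars.{u} (algebraMap A R))
    X i).isZero_iff, ModuleCat.isZero_iff_subsingleton, ModuleCat.isZero_iff_subsingleton]
  exact Iff.rfl

lemma restrict_hc (X : DerivedCategory (ModuleCat.{u} R)) (i : ℤ)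
    (h : PCoh.IsOfFiniteType (DRingPC.FF A)
      ((DerivedCategory.homologyFunctor (ModuleCat.{u} A) i).obj
      ((ModuleCat.restrictScalars.{u} (algebraMap A R)).mapDerivedCategory.obj X))) :
    PCoh.IsOfFiniteType (FF R) ((DerivedCategory.homologyFunctor (ModuleCat.{u} R) i).obj X) := by
  rw [DRingPC.isOfFiniteType_iff_finite] at h
  rw [isOfFiniteType_iff_finite]
  haveI := h
  exact finite_of_restrict A R _ (Module.Finite.equiv (homologyMapDerivedCategoryIso
    (ModuleCat.restrictScalars.{u} (algebraMap A R)) X i).toLinearEquiv)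

/-- S1047. -/
theorem exists_finite_free_of_restrict [Module.Finite A R] [Module.Free A R]
    (M : DerivedCategory (ModuleCat.{u} R))
    (hM : DRing.IsPseudoCoherent' A
      (((ModuleCat.restrictScalars.{u} (algebraMap A R)).mapDerivedCategory).obj M)) :
    ∃ (F : CochainComplex (ModuleCat.{u} R) ℤ) (b : ℤ), (∀ i : ℤ, b < i → IsZero (F.X i)) ∧
      (∀ i : ℤ, Module.Finite R (F.X i) ∧ Module.Free R (F.X i)) ∧
        Nonempty (DerivedCategory.Q.obj F ≅ M) := by
  have h1 := (DRingPC.isPseudoCoherent'_iff_npc A _).1 hM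
  have h2 : ∀ m : ℤ, NPC (FF R) m M := fun m =>
    npc_of_npc_map _ (FF R) (DRingPC.FF A) (FF_sum R) (FF_hqs R) (FF_hql R) (DRingPC.FF_sum A)
      (DRingPC.FF_hqs A) (DRingPC.FF_hql A) (restrict_ha A R) (restrict_hb A R) (restrict_hc A R)
      m M (h1 m)
  obtain ⟨E, ⟨⟨b, hb⟩, hP⟩, he⟩ :=
    exists_strictPCAll_of_isPC (FF R) (FF_sum R) (FF_hqs R) (FF_hql R) M h2
  exact ⟨E, b, hb, hP, he⟩

end Groth.Agent.Lib.helper23.NCFree
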