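import Mathlib
import Groth.Prelude.Def_Wider
import Groth.Prelude.Def_DDual2
import Groth.Prelude.Def_DRing2
import Groth.Agent.Lib.Helper23.NilDesc3
import Groth.Agent.Lib.Helper23.FibVan2
import Groth.Agent.S6954

/-!
# helper23: descent of perfectness along a finite family of surjections whose kernels have product zero;
derived base change along a composition (unbounded)

* `lbc_comp_general`: `K ⊗^L_R T ≅ (K ⊗^L_R S) ⊗^L_S T` for all `K ∈ D(R)`.
* `isPerfect_of_family`: `K ⊗^L Rf i` perfect for all `i` ⇒ `K` perfect (`φ i : R →+* Rf i` surjective,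
  `∏ i, ker (φ i) = ⊥`).
* `isPerfect_of_nilpotent` (S6979), `isPerfect_quotient_mul` (S6980).
-/

set_option autoImplicit false
universe u
open CategoryTheory CategoryTheory.Limits MonoidalCategory

attribute [local instance] HasDerivedCategory.standard

namespace Groth.Agent.Lib.helper23.NilDesc

open Groth.Agent.Lib.helper13.KFlat Groth.Agent.Lib.helper13.RKF
  Groth.Agent.Lib.helper23.LTenK Groth.Agent.Lib.helper23.TA
  Groth.Agent.Lib.helper13.ExtKFlat

section Comp

variable {R S T : Type u} [CommRing R] [CommRing S] [CommRing T]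

/-- derived base change along a composition, for arbitrary objects. -/
theorem lbc_comp_general (φ : R →+* S) (ψ : S →+* T) (χ : R →+* T) (h : χ = ψ.comp φ)
    [DRing.HasLBaseChange φ] [DRing.HasLBaseChange ψ] [DRing.HasLBaseChange χ] (K : Dual.D R) :
    Nonempty ((DRing.LBaseChange χ).obj K ≅
      (DRing.LBaseChange ψ).obj ((DRing.LBaseChange φ).obj K)) := by
  subst h
  obtain ⟨F, hKF, -, ⟨eF⟩⟩ := exists_kflat_rep K
  obtain ⟨e1⟩ := nonempty_iso_LBaseChange_of_kflat (ψ.comp φ) F hKF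
  obtain ⟨e2⟩ := nonempty_iso_LBaseChange_of_kflat φ F hKF
  obtain ⟨e3⟩ := nonempty_iso_LBaseChange_of_kflat ψ _ (isKFlatR_extCx φ F hKF)
  exact ⟨(DRing.LBaseChange (ψ.comp φ)).mapIso eF.symm ≪≫ e1 ≪≫
    DerivedCategory.Q.mapIso (Groth.Agent.Lib.helper23.FibVan.extendCompIso φ ψ F) ≪≫ e3.symm ≪≫
    (DRing.LBaseChange ψ).mapIso (e2.symm ≪≫ (DRing.LBaseChange φ).mapIso eF)⟩

end Comp

variable {R : Type u} [CommRing R]

section Family

variable {k : ℕ} (Rf : Fin k → Type u) [∀ i, CommRing (Rf i)] (φ : ∀ i, R →+* Rf i)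
  (hφ : ∀ i, Function.Surjective (φ i)) (hprod : ∏ i, RingHom.ker (φ i) = ⊥)

include hφ hprod in
/-- perfectness descends along the family. -/
theorem isPerfect_of_family [∀ i, DRing.HasLBaseChange (φ i)] (K : Dual.D R)
    (h : ∀ i, DRing.IsPerfect (Rf i) ((DRing.LBaseChange (φ i)).obj K)) :
    DRing.IsPerfect R K := by
  have h' := fun i => (Groth.Agent.S6954.result (Rf i) _).1 (h i)
  rw [Groth.Agent.S6954.result]
  refine ⟨isPseudoCoherent'_of_family Rf φ hφ hprod K (fun i => (h' i).1), ?_⟩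
  choose a b hab using fun i => (h' i).2
  obtain ⟨a₀, ha₀⟩ := (Set.finite_range a).bddBelow
  obtain ⟨b₀, hb₀⟩ := (Set.finite_range b).bddAbove
  exact ⟨a₀, b₀, hasTorAmplitudeIn_of_family Rf φ hφ hprod K a₀ b₀
    (fun i => hasTorAmplitudeIn_mono (hab i) (ha₀ ⟨i, rfl⟩) (hb₀ ⟨i, rfl⟩))⟩

end Family

/-- **S6979**: perfectness descends along a nilpotent thickening. -/
theorem isPerfect_of_nilpotent (I : Ideal R) (hI : IsNilpotent I)
    [DRing.HasLBaseChange (Ideal.Quotient.mk I)] (K : Dual.D R)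
    (hK : DRing.IsPerfect (R ⧸ I) ((DRing.LBaseChange (Ideal.Quotient.mk I)).obj K)) :
    DRing.IsPerfect R K := by
  obtain ⟨n, hn⟩ := hI
  refine isPerfect_of_family (k := n) (fun _ => R ⧸ I) (fun _ => Ideal.Quotient.mk I)
    (fun _ => Ideal.Quotient.mk_surjective) ?_ K (fun _ => hK)
  rw [Finset.prod_const, Finset.card_univ, Fintype.card_fin, Ideal.mk_ker, hn, Ideal.zero_eq_bot]

/-- the two ideals, as a family. -/
def pairIdeal (I J : Ideal R) : Fin 2 → Ideal R
  | 0 => I
  | 1 => J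

lemma mul_le_pairIdeal (I J : Ideal R) (i : Fin 2) : I * J ≤ pairIdeal I J i := by
  fin_cases i
  · show I * J ≤ I
    exact Ideal.mul_le_left
  · show I * J ≤ J
    exact Ideal.mul_le_right

/-- **S6980**: `K ⊗^L R/I` and `K ⊗^L R/J` perfect ⇒ `K ⊗^L R/IJ` perfect. -/
theorem isPerfect_quotient_mul (I J : Ideal R)
    [DRing.HasLBaseChange (Ideal.Quotient.mk I)] [DRing.HasLBaseChange (Ideal.Quotient.mk J)]
    [DRing.HasLBaseChange (Ideal.Quotient.mk (I * J))] (K : Dual.D R)
    (hI : DRing.IsPerfect (R ⧸ I) ((DRing.LBaseChange (Ideal.Quotient.mk I)).obj K))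
    (hJ : DRing.IsPerfect (R ⧸ J) ((DRing.LBaseChange (Ideal.Quotient.mk J)).obj K)) :
    DRing.IsPerfect (R ⧸ (I * J)) ((DRing.LBaseChange (Ideal.Quotient.mk (I * J))).obj K) := by
  haveI : ∀ i, DRing.HasLBaseChange (Ideal.Quotient.mk (pairIdeal I J i)) :=
    fun i => Groth.Agent.Lib.helper13.RKF.hasLBaseChange _
  haveI : ∀ i, DRing.HasLBaseChange (Ideal.Quotient.factor (mul_le_pairIdeal I J i)) :=
    fun i => Groth.Agent.Lib.helper13.RKF.hasLBaseChange _
  have h0 : ∀ i, DRing.IsPerfect (R ⧸ pairIdeal I J i)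
      ((DRing.LBaseChange (Ideal.Quotient.mk (pairIdeal I J i))).obj K) := by
    intro i
    fin_cases i
    · exact hI
    · exact hJ
  refine isPerfect_of_family (k := 2) (fun i => R ⧸ pairIdeal I J i)
    (fun i => Ideal.Quotient.factor (mul_le_pairIdeal I J i))
    (fun i => Ideal.Quotient.factor_surjective _) ?_ _ ?_
  · rw [Fin.prod_univ_two, Ideal.Quotient.factor_ker, Ideal.Quotient.factor_ker, ← Ideal.map_mul]
    exact Ideal.map_quotient_self _
  · intro i
    obtain ⟨e⟩ := lbc_comp_general (Ideal.Quotient.mk (I * J))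
      (Ideal.Quotient.factor (mul_le_pairIdeal I J i)) (Ideal.Quotient.mk (pairIdeal I J i))
      (Ideal.Quotient.factor_comp_mk _).symm K
    obtain ⟨E, a, b, hz, hP, ⟨e'⟩⟩ := h0 i
    exact ⟨E, a, b, hz, hP, ⟨e' ≪≫ e⟩⟩

end Groth.Agent.Lib.helper23.NilDesc
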