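import Mathlib
import Groth.Prelude.Def_Wider
import Groth.Prelude.Def_DDual2
import Groth.Agent.Lib.Helper23.BassD
import Groth.Agent.Lib.Helper23.DualD6
import Groth.Agent.Lib.Helper23.FBC16

/-!
# helper23: a normalized dualizing complex has no maps from `D^{≥ 0}_{coh}` into its positive shifts
-/

set_option autoImplicit false
universe u
open CategoryTheory CategoryTheory.Limits DerivedCategory Pretriangulated

attribute [local instance] HasDerivedCategory.standard

namespace Groth.Agent.Lib.helper23.NormAmp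

open Groth.Agent.Lib.helper23.BassD Groth.Agent.Lib.helper23.FBC Groth.Agent.Lib.helper23.DualD

variable {A : Type u} [CommRing A] [IsLocalRing A] [IsNoetherianRing A]

/-- for a normalized dualizing complex, `Hom(M[0], ω[i]) = 0` for finite `M` and `i > 0`. -/
theorem PB_of_isNormalized (ω : Dual.D A) (hω : Dual.IsDualizing A ω)
    (hn : Dual.IsNormalized A ω) (M : ModuleCat.{u} A) [Module.Finite A M] : PB ω 0 M := by
  obtain ⟨a, b, hab, hGE, hLE, hv⟩ := exists_bounds ω hω
  haveI := hGE
  have hKa : ∀ j : ℤ, j < a → IsZero ((homologyFunctor (ModuleCat.{u} A) j).obj ω) :=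
    (DerivedCategory.isGE_iff ω a).1 inferInstance
  refine PB_of_maximal' a hKa hω.finite_cohomology (fun m hm => ?_) M
  have hm' : m = IsLocalRing.maximalIdeal A := IsLocalRing.eq_maximalIdeal hm
  subst hm'
  intro i hi φ
  haveI := hn i (by omega)
  haveI : Subsingleton (BassD.sg (ModuleCat.of A (A ⧸ IsLocalRing.maximalIdeal A)) ⟶ ω⟦i⟧) :=
    subsingleton_hom_of_iso ((singleFunctor (ModuleCat.{u} A) 0).mapIso (residueFieldIso A))
      (Iso.refl _)
  exact Subsingleton.elim _ _

/-- **S19132.** -/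
theorem subsingleton_hom_shift_of_isNormalized (ω : Dual.D A) (hω : Dual.IsDualizing A ω)
    (hn : Dual.IsNormalized A ω) (N : Dual.D A)
    (hfin : ∀ i : ℤ, Module.Finite A (Dual.HD A N i))
    (b : ℤ) (hb : ∀ i : ℤ, b < i → Subsingleton (Dual.HD A N i))
    (hge : ∀ i : ℤ, i < 0 → Subsingleton (Dual.HD A N i)) (i : ℤ) (hi : 0 < i) :
    Subsingleton (N ⟶ ω⟦i⟧) := by
  haveI hGE : N.IsGE 0 := by
    rw [isGE_iff]
    intro j hj
    haveI := hge j hj
    exact ModuleCat.isZero_of_subsingleton _
  haveI hLE : N.IsLE (0 + ((b.toNat + 1 : ℕ) : ℤ) - 1) := by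
    rw [isLE_iff]
    intro j hj
    haveI := hb j (by
      have := Int.self_le_toNat b
      push_cast at hj
      omega)
    exact ModuleCat.isZero_of_subsingleton _
  refine ⟨fun f g => ?_⟩
  have key : ∀ g : N ⟶ ω⟦i⟧, g = 0 := by
    refine hom_eq_zero_of_homology (ω⟦i⟧) (b.toNat + 1) 0 N hGE hLE ?_
    intro j γ
    by_cases hj : 0 ≤ j
    · haveI := hfin j
      have h2 : ∀ φ : (singleFunctor (ModuleCat.{u} A) j).obj
          ((homologyFunctor (ModuleCat.{u} A) j).obj N) ⟶ ω⟦i⟧, φ = 0 := by
        rw [hom_single_shift_zero_iff _ ω j i (i + j) rfl]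
        exact PB_of_isNormalized ω hω hn _ (i + j) (by omega)
      exact h2 γ
    · have hz : IsZero ((homologyFunctor (ModuleCat.{u} A) j).obj N) :=
        isZero_of_isGE N 0 j (by omega)
      exact ((singleFunctor (ModuleCat.{u} A) j).map_isZero hz).eq_of_src _ _
  rw [key f, key g]

end Groth.Agent.Lib.helper23.NormAmp
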