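import Mathlib
import Groth.Agent.Lib.Helper23.OpRes
import Groth.Agent.Lib.Helper27.SESInj2

/-!
# Op-duality: the projective horseshoe lemma for complexes from the injective one
-/

set_option autoImplicit false
universe v u
open CategoryTheory Opposite Limits

namespace Groth.Agent.Lib.helper23.OpRes

variable {A : Type u} [Category.{v} A] [Abelian A]

lemma unopOpIso_naturality {K L : CochainComplex A ℤ} (f : K ⟶ L) :
    unopMap ((CochainComplex.opEquivalence A).functor.map f.op) ≫ (unopOpIso L).hom =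
      (unopOpIso K).hom ≫ f := by
  have h := (CochainComplex.opEquivalence A).unitIso.hom.naturality f.op
  have h' := congrArg Quiver.Hom.unop h
  simp only [Functor.id_obj, Functor.comp_obj, Functor.id_map, Functor.comp_map, unop_comp,
    Quiver.Hom.unop_op] at h'
  exact h'.symm

lemma unopMap_comp {K L M : CochainComplex Aᵒᵖ ℤ} (f : K ⟶ L) (g : L ⟶ M) :
    unopMap (f ≫ g) = unopMap g ≫ unopMap f := by
  simp [unopMap]

lemma isStrictlyGE_opC' (K : CochainComplex A ℤ) (a : ℤ) [K.IsStrictlyLE a] :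
    ((CochainComplex.opEquivalence A).functor.obj (op K)).IsStrictlyGE (-a) :=
  isStrictlyGE_opC K a

theorem projective_horseshoe [EnoughProjectives A]
    (S : ShortComplex (CochainComplex A ℤ)) (hS : S.ShortExact) (n : ℤ)
    [S.X₁.IsStrictlyLE n] [S.X₂.IsStrictlyLE n] [S.X₃.IsStrictlyLE n] :
    ∃ (T : ShortComplex (CochainComplex A ℤ)) (φ : T ⟶ S), T.ShortExact ∧
      T.X₁.IsStrictlyLE n ∧ T.X₂.IsStrictlyLE n ∧ T.X₃.IsStrictlyLE n ∧
      (∀ k : ℤ, Projective (T.X₁.X k) ∧ Projective (T.X₂.X k) ∧ Projective (T.X₃.X k)) ∧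
      QuasiIso φ.τ₁ ∧ QuasiIso φ.τ₂ ∧ QuasiIso φ.τ₃ := by
  let Φ := (CochainComplex.opEquivalence A).functor
  let Ψ := (CochainComplex.opEquivalence A).inverse
  let S' : ShortComplex (CochainComplex Aᵒᵖ ℤ) := S.op.map Φ
  have hS' : S'.ShortExact := hS.op.map_of_exact Φ
  haveI : S'.X₁.IsStrictlyGE (-n) := isStrictlyGE_opC S.X₃ n
  haveI : S'.X₂.IsStrictlyGE (-n) := isStrictlyGE_opC S.X₂ n
  haveI : S'.X₃.IsStrictlyGE (-n) := isStrictlyGE_opC S.X₁ n
  obtain ⟨T', φ', hT', h1, h2, h3, hinj, q1, q2, q3⟩ :=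
    Groth.Agent.Lib.helper27.SESInj.main S' hS' (-n)
  let T : ShortComplex (CochainComplex A ℤ) := (T'.map Ψ).unop
  have hT : T.ShortExact := (hT'.map_of_exact Ψ).unop
  have c12 : (unopMap φ'.τ₃ ≫ (unopOpIso S.X₁).hom) ≫ S.f =
      T.f ≫ unopMap φ'.τ₂ ≫ (unopOpIso S.X₂).hom := by
    show _ = unopMap T'.g ≫ unopMap φ'.τ₂ ≫ (unopOpIso S.X₂).hom
    rw [← Category.assoc, ← unopMap_comp, φ'.comm₂₃, unopMap_comp, Category.assoc, Category.assoc]
    congr 1
    exact (unopOpIso_naturality S.f).symm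
  have c23 : (unopMap φ'.τ₂ ≫ (unopOpIso S.X₂).hom) ≫ S.g =
      T.g ≫ unopMap φ'.τ₁ ≫ (unopOpIso S.X₃).hom := by
    show _ = unopMap T'.f ≫ unopMap φ'.τ₁ ≫ (unopOpIso S.X₃).hom
    rw [← Category.assoc, ← unopMap_comp, φ'.comm₁₂, unopMap_comp, Category.assoc, Category.assoc]
    congr 1
    exact (unopOpIso_naturality S.g).symm
  let φ : T ⟶ S := ShortComplex.homMk (unopMap φ'.τ₃ ≫ (unopOpIso S.X₁).hom)
    (unopMap φ'.τ₂ ≫ (unopOpIso S.X₂).hom) (unopMap φ'.τ₁ ≫ (unopOpIso S.X₃).hom) c12 c23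
  haveI := h1
  haveI := h2
  haveI := h3
  haveI := q1
  haveI := q2
  haveI := q3
  haveI := quasiIso_unopMap φ'.τ₁
  haveI := quasiIso_unopMap φ'.τ₂
  haveI := quasiIso_unopMap φ'.τ₃
  refine ⟨T, φ, hT, isStrictlyLE_unopC T'.X₃ n, isStrictlyLE_unopC T'.X₂ n,
    isStrictlyLE_unopC T'.X₁ n, fun k => ⟨?_, ?_, ?_⟩, ?_, ?_, ?_⟩
  · haveI := (hinj (-k)).2.2
    show Projective (unop (T'.X₃.X (-k)))
    infer_instance
  · haveI := (hinj (-k)).2.1
    show Projective (unop (T'.X₂.X (-k)))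
    infer_instance
  · haveI := (hinj (-k)).1
    show Projective (unop (T'.X₁.X (-k)))
    infer_instance
  · show QuasiIso (unopMap φ'.τ₃ ≫ (unopOpIso S.X₁).hom)
    infer_instance
  · show QuasiIso (unopMap φ'.τ₂ ≫ (unopOpIso S.X₂).hom)
    infer_instance
  · show QuasiIso (unopMap φ'.τ₁ ≫ (unopOpIso S.X₃).hom)
    infer_instance

end Groth.Agent.Lib.helper23.OpRes
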