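import Mathlib

/-!
# Hom out of an object versus filtered colimits: generic five-lemma chase (helper23)

For a diagram `F : J ⥤ 𝒞` over a filtered category with cocone `c`, a functor `G : 𝒞 ⥤ D` to a
pretriangulated category and an object `P : D`:
* `SurjAt F c G P`: every `P ⟶ G(c.pt)` factors through some `G(F j)`.
* `InjAt F c G P`: a map `P ⟶ G(F j)` dying in `G(c.pt)` dies in some `G(F j')`.
* `ext_surj`, `ext_inj`: two-out-of-three along distinguished triangles.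
* transfer along isomorphisms and fully faithful functors.
-/

open CategoryTheory Limits Pretriangulated

namespace Groth.Agent.Lib.helper23.PCFilt

section Defs

variable {𝒞 : Type*} [Category 𝒞] {D : Type*} [Category D]
  {J : Type*} [Category J] (F : J ⥤ 𝒞) (c : Cocone F)

/-- The leg of the cocone, with target syntactically `c.pt`. -/
abbrev leg (j : J) : F.obj j ⟶ c.pt := c.ι.app j

def SurjAt [HasZeroMorphisms D] (G : 𝒞 ⥤ D) (P : D) : Prop :=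
  ∀ x : P ⟶ G.obj c.pt, ∃ (j : J) (y : P ⟶ G.obj (F.obj j)), y ≫ G.map (leg F c j) = x

def InjAt [HasZeroMorphisms D] (G : 𝒞 ⥤ D) (P : D) : Prop :=
  ∀ (j : J) (y : P ⟶ G.obj (F.obj j)), y ≫ G.map (leg F c j) = 0 →
    ∃ (j' : J) (f : j ⟶ j'), y ≫ G.map (F.map f) = 0

variable {F c}

theorem map_w (G : 𝒞 ⥤ D) {j j' : J} (f : j ⟶ j') :
    G.map (F.map f) ≫ G.map (leg F c j') = G.map (leg F c j) := by
  rw [← G.map_comp]
  exact congrArg G.map (c.w f)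

variable [HasZeroMorphisms D]

theorem SurjAt.of_iso {G G' : 𝒞 ⥤ D} {P P' : D} (h : SurjAt F c G P) (e : P ≅ P') (ε : G ≅ G') :
    SurjAt F c G' P' := by
  intro x'
  obtain ⟨j, y, hy⟩ := h (e.hom ≫ x' ≫ ε.inv.app c.pt)
  refine ⟨j, e.inv ≫ y ≫ ε.hom.app (F.obj j), ?_⟩
  have := ε.hom.naturality (leg F c j)
  rw [Category.assoc, Category.assoc, ← this, reassoc_of% hy]
  simp

theorem InjAt.of_iso {G G' : 𝒞 ⥤ D} {P P' : D} (h : InjAt F c G P) (e : P ≅ P') (ε : G ≅ G') :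
    InjAt F c G' P' := by
  intro j y' hy'
  have h1 : (e.hom ≫ y' ≫ ε.inv.app (F.obj j)) ≫ G.map (leg F c j) = 0 := by
    have := ε.inv.naturality (leg F c j)
    rw [Category.assoc, Category.assoc, ← this, reassoc_of% hy']
    simp
  obtain ⟨j', f, hf⟩ := h j _ h1
  refine ⟨j', f, ?_⟩
  have := ε.inv.naturality (F.map f)
  have h2 : e.hom ≫ (y' ≫ G'.map (F.map f)) ≫ ε.inv.app (F.obj j') = 0 := by
    rw [Category.assoc, this]
    simpa using hf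
  have h3 : y' ≫ G'.map (F.map f) =
      e.inv ≫ (e.hom ≫ (y' ≫ G'.map (F.map f)) ≫ ε.inv.app (F.obj j')) ≫ ε.hom.app (F.obj j') := by
    simp
  rw [h3, h2]
  simp

end Defs

section FF

variable {𝒞 : Type*} [Category 𝒞] {D : Type*} [Category D] [HasZeroMorphisms D]
  {D' : Type*} [Category D'] [HasZeroMorphisms D']
  {J : Type*} [Category J] {F : J ⥤ 𝒞} {c : Cocone F}
  (Φ : D ⥤ D') [Φ.Full] [Φ.Faithful] [Φ.PreservesZeroMorphisms]

theorem surjAt_comp_iff (G : 𝒞 ⥤ D) (P : D) :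
    SurjAt F c (G ⋙ Φ) (Φ.obj P) ↔ SurjAt F c G P := by
  constructor
  · intro h x
    obtain ⟨j, y, hy⟩ := h (Φ.map x)
    obtain ⟨y₀, rfl⟩ := Φ.map_surjective y
    refine ⟨j, y₀, Φ.map_injective ?_⟩
    rw [Functor.map_comp]
    exact hy
  · intro h x
    obtain ⟨x₀, rfl⟩ := Φ.map_surjective x
    obtain ⟨j, y, hy⟩ := h x₀
    refine ⟨j, Φ.map y, ?_⟩
    rw [← hy, Functor.map_comp]
    rfl

theorem injAt_comp_iff (G : 𝒞 ⥤ D) (P : D) :
    InjAt F c (G ⋙ Φ) (Φ.obj P) ↔ InjAt F c G P := by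
  constructor
  · intro h j y hy
    obtain ⟨j', f, hf⟩ := h j (Φ.map y) (by
      have := congrArg Φ.map hy
      rw [Functor.map_comp, Functor.map_zero] at this
      exact this)
    refine ⟨j', f, Φ.map_injective ?_⟩
    rw [Functor.map_comp, Functor.map_zero]
    exact hf
  · intro h j y hy
    obtain ⟨y₀, rfl⟩ := Φ.map_surjective y
    obtain ⟨j', f, hf⟩ := h j y₀ (Φ.map_injective (by
      rw [Functor.map_comp, Functor.map_zero]
      exact hy))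
    refine ⟨j', f, ?_⟩
    have := congrArg Φ.map hf
    rw [Functor.map_comp, Functor.map_zero] at this
    exact this

end FF

section Chase

variable {𝒞 : Type*} [Category 𝒞] {D : Type*} [Category D] [Preadditive D] [HasZeroObject D]
  [HasShift D ℤ] [∀ n : ℤ, (shiftFunctor D n).Additive] [Pretriangulated D]
  {J : Type*} [Category J] [IsFiltered J] {F : J ⥤ 𝒞} {c : Cocone F}

theorem ext_surj (G : 𝒞 ⥤ D) (T : Triangle D) (hT : T ∈ distTriang D)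
    (h1 : SurjAt F c G T.obj₁) (h3 : SurjAt F c G T.obj₃)
    (h3' : InjAt F c G (T.obj₃⟦(-1 : ℤ)⟧)) : SurjAt F c G T.obj₂ := by
  intro x
  have hT' := inv_rot_of_distTriang _ hT
  obtain ⟨j₁, y', hy'⟩ := h1 (T.mor₁ ≫ x)
  obtain ⟨r, hr, hr'⟩ : ∃ r : T.obj₃⟦(-1 : ℤ)⟧ ⟶ T.obj₁, r ≫ T.mor₁ = 0 ∧
      ∀ {E : D} (a : T.obj₁ ⟶ E), r ≫ a = 0 → ∃ b : T.obj₂ ⟶ E, a = T.mor₁ ≫ b :=
    ⟨T.invRotate.mor₁, comp_distTriang_mor_zero₁₂ _ hT',
      fun a ha => Triangle.yoneda_exact₂ _ hT' a ha⟩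
  obtain ⟨j₂, f, hf⟩ := h3' j₁ (r ≫ y') (by
    rw [Category.assoc, hy', reassoc_of% hr, zero_comp])
  obtain ⟨y₂, hy₂⟩ : ∃ y₂ : T.obj₂ ⟶ G.obj (F.obj j₂), y' ≫ G.map (F.map f) = T.mor₁ ≫ y₂ :=
    hr' (y' ≫ G.map (F.map f)) (by rw [← Category.assoc]; exact hf)
  have hd : T.mor₁ ≫ (x - y₂ ≫ G.map (leg F c j₂)) = 0 := by
    rw [Preadditive.comp_sub, ← Category.assoc, ← hy₂, Category.assoc, map_w, hy', sub_self]
  obtain ⟨z, hz⟩ : ∃ z : T.obj₃ ⟶ G.obj c.pt, x - y₂ ≫ G.map (leg F c j₂) = T.mor₂ ≫ z :=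
    Triangle.yoneda_exact₂ _ hT _ hd
  obtain ⟨j₃, z', hz'⟩ := h3 z
  refine ⟨IsFiltered.max j₂ j₃, y₂ ≫ G.map (F.map (IsFiltered.leftToMax j₂ j₃)) +
    T.mor₂ ≫ z' ≫ G.map (F.map (IsFiltered.rightToMax j₂ j₃)), ?_⟩
  rw [Preadditive.add_comp, Category.assoc, Category.assoc, Category.assoc, map_w, map_w, hz',
    ← hz]
  abel

theorem ext_inj (G : 𝒞 ⥤ D) (T : Triangle D) (hT : T ∈ distTriang D)
    (h1 : InjAt F c G T.obj₁) (h3 : InjAt F c G T.obj₃)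
    (h1' : SurjAt F c G (T.obj₁⟦(1 : ℤ)⟧)) : InjAt F c G T.obj₂ := by
  intro j y hy
  obtain ⟨j₁, f₁, hf₁⟩ := h1 j (T.mor₁ ≫ y) (by rw [Category.assoc, hy, comp_zero])
  obtain ⟨z, hz⟩ : ∃ z : T.obj₃ ⟶ G.obj (F.obj j₁), y ≫ G.map (F.map f₁) = T.mor₂ ≫ z :=
    Triangle.yoneda_exact₂ _ hT _ (by rw [← Category.assoc]; exact hf₁)
  have h2 : T.mor₂ ≫ z ≫ G.map (leg F c j₁) = 0 := by
    rw [← Category.assoc, ← hz, Category.assoc, map_w, hy]
  obtain ⟨t, ht⟩ : ∃ t : T.obj₁⟦(1 : ℤ)⟧ ⟶ G.obj c.pt, z ≫ G.map (leg F c j₁) = T.mor₃ ≫ t :=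
    Triangle.yoneda_exact₃ _ hT _ h2
  obtain ⟨j₂, t', ht'⟩ := h1' t
  have h3' : (z ≫ G.map (F.map (IsFiltered.leftToMax j₁ j₂)) -
      T.mor₃ ≫ t' ≫ G.map (F.map (IsFiltered.rightToMax j₁ j₂))) ≫
      G.map (leg F c (IsFiltered.max j₁ j₂)) = 0 := by
    rw [Preadditive.sub_comp, Category.assoc, Category.assoc, Category.assoc, map_w, map_w, ht',
      ht, sub_self]
  obtain ⟨j₄, g₃, hg₃⟩ := h3 _ _ h3'
  refine ⟨j₄, f₁ ≫ IsFiltered.leftToMax j₁ j₂ ≫ g₃, ?_⟩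
  rw [Preadditive.sub_comp, sub_eq_zero] at hg₃
  have h23 : T.mor₂ ≫ T.mor₃ = 0 := comp_distTriang_mor_zero₂₃ _ hT
  rw [Category.assoc] at hg₃
  rw [F.map_comp, F.map_comp, G.map_comp, G.map_comp, reassoc_of% hz, hg₃,
    Category.assoc, reassoc_of% h23, zero_comp]

end Chase

end Groth.Agent.Lib.helper23.PCFilt
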