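import Mathlib
import Groth.Agent.Lib.Helper23.PCFilt1

open CategoryTheory Limits

universe u

namespace Groth.Agent.Lib.helper23.PCFilt

variable {R : Type u} [CommRing R] {J : Type u} [SmallCategory J] [IsFiltered J]
  (F : J ⥤ ModuleCat.{u} R) (c : Cocone F) (hc : IsColimit c)

include hc in
theorem exists_zero_of_finite (P : ModuleCat.{u} R) [Module.Finite R P] (j : J)
    (ψ : P ⟶ F.obj j) (h : ψ ≫ c.ι.app j = 0) :
    ∃ (j' : J) (f : j ⟶ j'), ψ ≫ F.map f = 0 := by
  classical
  obtain ⟨s, hs⟩ := (Module.finite_def.1 ‹Module.Finite R P›)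
  have key : ∀ t : Finset P, ∃ (j' : J) (f : j ⟶ j'), ∀ g ∈ t, (ψ ≫ F.map f).hom g = 0 := by
    intro t
    induction t using Finset.induction with
    | empty => exact ⟨j, 𝟙 j, by simp⟩
    | insert g t hg ih =>
      obtain ⟨j₁, f₁, h₁⟩ := ih
      have hg0 : c.ι.app j (ψ.hom g) = c.ι.app j (0 : F.obj j) := by
        have := congrArg (fun φ => φ.hom g) h
        simpa using this
      obtain ⟨k, a, b, hab⟩ := Concrete.isColimit_exists_of_rep_eq F hc (ψ.hom g) 0 hg0
      obtain ⟨j', u, v, huv⟩ := IsFiltered.span f₁ a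
      refine ⟨j', f₁ ≫ u, ?_⟩
      intro g' hg'
      rcases Finset.mem_insert.1 hg' with rfl | hg'
      · rw [huv]
        have hab' : (F.map a).hom (ψ.hom g') = 0 := by simpa using hab
        simp [hab']
      · have := h₁ g' hg'
        simp only [ModuleCat.hom_comp, LinearMap.coe_comp, Function.comp_apply] at this ⊢
        rw [F.map_comp, ModuleCat.hom_comp, LinearMap.coe_comp, Function.comp_apply, this, map_zero]
  obtain ⟨j', f, hf⟩ := key s
  refine ⟨j', f, ?_⟩
  apply ModuleCat.hom_ext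
  apply LinearMap.ext_on hs
  intro x hx
  simpa using hf x hx

include hc in
theorem exists_factor_of_finite_free (P : ModuleCat.{u} R) [Module.Finite R P] [Module.Free R P]
    (φ : P ⟶ c.pt) : ∃ (j : J) (ψ : P ⟶ F.obj j), ψ ≫ c.ι.app j = φ := by
  classical
  let b := Module.Free.chooseBasis R P
  have h1 : ∀ i, ∃ (j : J) (y : F.obj j), c.ι.app j y = φ.hom (b i) :=
    fun i => Concrete.isColimit_exists_rep F hc (φ.hom (b i))
  choose ji y hy using h1
  obtain ⟨j, hj⟩ := IsFiltered.sup_objs_exists (Finset.univ.image ji)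
  have hj' : ∀ i, Nonempty (ji i ⟶ j) := fun i => hj (Finset.mem_image_of_mem _ (Finset.mem_univ i))
  let f : ∀ i, ji i ⟶ j := fun i => (hj' i).some
  refine ⟨j, ModuleCat.ofHom (b.constr R (fun i => (F.map (f i)).hom (y i))), ?_⟩
  apply ModuleCat.hom_ext
  apply b.ext
  intro i
  have hw : (F.map (f i) ≫ c.ι.app j) = c.ι.app (ji i) := c.w (f i)
  have := congrArg (fun φ => φ.hom (y i)) hw
  simp only [ModuleCat.hom_comp, LinearMap.coe_comp, Function.comp_apply] at this
  simp only [ModuleCat.hom_comp, ModuleCat.hom_ofHom, LinearMap.coe_comp, Function.comp_apply,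
    Module.Basis.constr_basis]
  rw [this]
  exact hy i

end Groth.Agent.Lib.helper23.PCFilt
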