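import Mathlib
import Groth.Agent.Lib.Helper23.PCFilt2
import Groth.Agent.Lib.Helper23.Devissage
import Groth.Agent.Lib.Helper23.ProjHom

/-!
# Hom out of bounded complexes of finite free modules commutes with filtered colimits of modules (helper23)

* `Gn n = singleFunctor 0 ⋙ shiftFunctor n : ModuleCat R ⥤ D(R)`.
* `Pr F c X`: `SurjAt` and `InjAt` for all `Gn n`.
* closure of `Pr` under isos, zero objects, shifts, extensions; base case for finite free modules;
  `pr_Q_of_bounded_finite_free`.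
-/

open CategoryTheory Limits Pretriangulated DerivedCategory

universe u

namespace Groth.Agent.Lib.helper23.PCFilt

attribute [local instance] HasDerivedCategory.standard

variable {R : Type u} [CommRing R] {J : Type u} [SmallCategory J] [IsFiltered J]
  (F : J ⥤ ModuleCat.{u} R) (c : Cocone F)

/-- `N ↦ N[0][n]`. -/
noncomputable abbrev Gn (n : ℤ) : ModuleCat.{u} R ⥤ DerivedCategory (ModuleCat.{u} R) :=
  DerivedCategory.singleFunctor (ModuleCat.{u} R) 0 ⋙
    shiftFunctor (DerivedCategory (ModuleCat.{u} R)) n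

/-- `Gn (n + a) ≅ Gn n ⋙ [a]`. -/
noncomputable def gnShiftIso (n a m : ℤ) (h : n + a = m) :
    Gn (R := R) m ≅ Gn n ⋙ shiftFunctor (DerivedCategory (ModuleCat.{u} R)) a :=
  Functor.isoWhiskerLeft _ (shiftFunctorAdd' (DerivedCategory (ModuleCat.{u} R)) n a m h) ≪≫
    (Functor.associator _ _ _).symm

def Pr (X : DerivedCategory (ModuleCat.{u} R)) : Prop :=
  ∀ n : ℤ, SurjAt F c (Gn n) X ∧ InjAt F c (Gn n) X

variable {F c}

theorem pr_of_iso {X Y : DerivedCategory (ModuleCat.{u} R)} (e : X ≅ Y) (h : Pr F c X) :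
    Pr F c Y :=
  fun n => ⟨(h n).1.of_iso e (Iso.refl _), (h n).2.of_iso e (Iso.refl _)⟩

theorem pr_of_isZero {X : DerivedCategory (ModuleCat.{u} R)} (hX : IsZero X) : Pr F c X := by
  intro n
  constructor
  · intro x
    obtain ⟨j⟩ := IsFiltered.nonempty (C := J)
    exact ⟨j, 0, hX.eq_of_src _ _⟩
  · intro j y _
    exact ⟨j, 𝟙 j, hX.eq_of_src _ _⟩

theorem pr_shift {X : DerivedCategory (ModuleCat.{u} R)} (a : ℤ) (h : Pr F c X) :
    Pr F c (X⟦a⟧) := by
  intro n
  have e := gnShiftIso (R := R) (n - a) a n (by omega)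
  constructor
  · exact ((surjAt_comp_iff (shiftFunctor (DerivedCategory (ModuleCat.{u} R)) a)
      (Gn (n - a)) X).2 (h (n - a)).1).of_iso (Iso.refl _) e.symm
  · exact ((injAt_comp_iff (shiftFunctor (DerivedCategory (ModuleCat.{u} R)) a)
      (Gn (n - a)) X).2 (h (n - a)).2).of_iso (Iso.refl _) e.symm

theorem pr_ext (T : Triangle (DerivedCategory (ModuleCat.{u} R)))
    (hT : T ∈ distTriang (DerivedCategory (ModuleCat.{u} R)))
    (h1 : Pr F c T.obj₁) (h3 : Pr F c T.obj₃) : Pr F c T.obj₂ :=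
  fun n => ⟨ext_surj (Gn n) T hT (h1 n).1 (h3 n).1 ((pr_shift (-1) h3) n).2,
    ext_inj (Gn n) T hT (h1 n).2 (h3 n).2 ((pr_shift 1 h1) n).1⟩

end Groth.Agent.Lib.helper23.PCFilt
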