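import Mathlib
import Groth.Agent.Lib.Helper23.PCFilt3

/-!
# Base case: finite free modules (helper23)
-/

open CategoryTheory Limits Pretriangulated DerivedCategory

universe u

namespace Groth.Agent.Lib.helper23.PCFilt

attribute [local instance] HasDerivedCategory.standard

variable {R : Type u} [CommRing R] {J : Type u} [SmallCategory J] [IsFiltered J]
  {F : J ⥤ ModuleCat.{u} R} {c : Cocone F} (hc : IsColimit c)

include hc in
theorem pr_single_finite_free (P : ModuleCat.{u} R) [Module.Finite R P] [Module.Free R P] :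
    Pr F c ((DerivedCategory.singleFunctor (ModuleCat.{u} R) 0).obj P) := by
  intro n
  haveI : Module.Projective R P := Module.Projective.of_free
  haveI : Projective P := P.projective_of_categoryTheory_projective
  have bij := fun K : DerivedCategory (ModuleCat.{u} R) =>
    Groth.Agent.Lib.helper23.ProjHom.bijective_homologyFunctor_map (P := P) K
  by_cases hn : n = 0
  · subst hn
    let H := homologyFunctor (ModuleCat.{u} R) 0
    let S₀ := DerivedCategory.singleFunctor (ModuleCat.{u} R) 0
    let θ : Gn (R := R) 0 ⋙ H ≅ 𝟭 _ :=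
      Functor.isoWhiskerRight (Functor.isoWhiskerLeft S₀
        (shiftFunctorZero (DerivedCategory (ModuleCat.{u} R)) ℤ) ≪≫ Functor.rightUnitor _) H ≪≫
        singleFunctorCompHomologyFunctorIso (ModuleCat.{u} R) 0
    let eP : H.obj (S₀.obj P) ≅ P := (singleFunctorCompHomologyFunctorIso (ModuleCat.{u} R) 0).app P
    haveI : Module.Finite R (H.obj (S₀.obj P)) := Module.Finite.equiv eP.symm.toLinearEquiv
    haveI : Module.Free R (H.obj (S₀.obj P)) := Module.Free.of_equiv eP.symm.toLinearEquiv
    constructor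
    · intro x
      obtain ⟨j, ψ, hψ⟩ := exists_factor_of_finite_free F c hc (H.obj (S₀.obj P))
        (H.map x ≫ θ.hom.app c.pt)
      obtain ⟨y, hy⟩ := (bij ((Gn 0).obj (F.obj j))).2 (ψ ≫ θ.inv.app (F.obj j))
      replace hy : H.map y = ψ ≫ θ.inv.app (F.obj j) := hy
      refine ⟨j, y, (bij _).1 ?_⟩
      show H.map (y ≫ (Gn 0).map (leg F c j)) = H.map x
      have nat : leg F c j ≫ θ.inv.app c.pt =
          θ.inv.app (F.obj j) ≫ H.map ((Gn 0).map (leg F c j)) := θ.inv.naturality (leg F c j)
      rw [H.map_comp, hy, Category.assoc, ← nat, ← Category.assoc]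
      have hψ' : ψ ≫ leg F c j = H.map x ≫ θ.hom.app c.pt := hψ
      rw [hψ', Category.assoc, Iso.hom_inv_id_app]
      exact Category.comp_id _
    · intro j y hy
      have nat : H.map ((Gn 0).map (leg F c j)) ≫ θ.hom.app c.pt =
          θ.hom.app (F.obj j) ≫ leg F c j := θ.hom.naturality (leg F c j)
      have h0 : (H.map y ≫ θ.hom.app (F.obj j)) ≫ c.ι.app j = 0 := by
        show (H.map y ≫ θ.hom.app (F.obj j)) ≫ leg F c j = 0
        rw [Category.assoc, ← nat, ← Category.assoc, ← H.map_comp, hy, H.map_zero, zero_comp]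
      obtain ⟨j', f, hf⟩ := exists_zero_of_finite F c hc (H.obj (S₀.obj P)) j
        (H.map y ≫ θ.hom.app (F.obj j)) h0
      refine ⟨j', f, (bij _).1 ?_⟩
      show H.map (y ≫ (Gn 0).map (F.map f)) = H.map 0
      have nat' : H.map ((Gn 0).map (F.map f)) ≫ θ.hom.app (F.obj j') =
          θ.hom.app (F.obj j) ≫ F.map f := θ.hom.naturality (F.map f)
      have nat'' : H.map ((Gn 0).map (F.map f)) =
          θ.hom.app (F.obj j) ≫ F.map f ≫ θ.inv.app (F.obj j') := by
        rw [← Category.assoc, ← nat', Category.assoc, Iso.hom_inv_id_app]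
        exact (Category.comp_id _).symm
      rw [Category.assoc] at hf
      rw [H.map_zero, H.map_comp, nat'', reassoc_of% hf, zero_comp]
  · have hz : ∀ N : ModuleCat.{u} R,
        IsZero ((homologyFunctor (ModuleCat.{u} R) 0).obj ((Gn n).obj N)) := by
      intro N
      haveI : ((Gn n).obj N).IsLE (-n) :=
        TStructure.t.isLE_shift ((DerivedCategory.singleFunctor (ModuleCat.{u} R) 0).obj N)
          0 n (-n) (by omega)
      haveI : ((Gn n).obj N).IsGE (-n) :=
        TStructure.t.isGE_shift ((DerivedCategory.singleFunctor (ModuleCat.{u} R) 0).obj N)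
          0 n (-n) (by omega)
      rcases lt_or_gt_of_ne hn with h | h
      · exact isZero_of_isGE _ (-n) 0 (by omega)
      · exact isZero_of_isLE _ (-n) 0 (by omega)
    have hzero : ∀ (N : ModuleCat.{u} R)
        (x : (DerivedCategory.singleFunctor (ModuleCat.{u} R) 0).obj P ⟶ (Gn n).obj N), x = 0 :=
      fun N x => (bij _).1 ((hz N).eq_of_tgt _ _)
    constructor
    · intro x
      obtain ⟨j⟩ := IsFiltered.nonempty (C := J)
      exact ⟨j, 0, by rw [zero_comp]; exact (hzero _ x).symm⟩
    · intro j y _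
      exact ⟨j, 𝟙 j, by rw [hzero _ y, zero_comp]⟩

end Groth.Agent.Lib.helper23.PCFilt
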