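import Mathlib
import Groth.Prelude.Def_DRing2
import Groth.Agent.Lib.Helper23.PCFilt4

/-!
# `m`-pseudo-coherent objects: Hom versus filtered colimits of modules (helper23)

* `pr_Q_of_bounded_finite_free`: bounded complexes of finite free modules satisfy `Pr`.
* `main`: for `K` `m`-pseudo-coherent, `SurjAt (Gn n) K` for `n < -m` and `InjAt (Gn n) K` for `n ≤ -m`.
-/

open CategoryTheory Limits Pretriangulated DerivedCategory

universe u

namespace Groth.Agent.Lib.helper23.PCFilt

attribute [local instance] HasDerivedCategory.standard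

variable {R : Type u} [CommRing R] {J : Type u} [SmallCategory J] [IsFiltered J]
  {F : J ⥤ ModuleCat.{u} R} {c : Cocone F} (hc : IsColimit c)

include hc in
theorem pr_Q_of_bounded_finite_free (E : CochainComplex (ModuleCat.{u} R) ℤ) (a b : ℤ)
    (hE : DRing.VanishesOutside E a b) (hfree : DRing.TermwiseFiniteFree E) :
    Pr F c (Q.obj E) := by
  refine Groth.Agent.Lib.helper23.Devissage.devissage_terms (Pr F c)
    (fun X Y e h => pr_of_iso e h) (fun X hX => pr_of_isZero hX) (fun X n h => pr_shift n h)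
    (fun T hT h1 h3 => pr_ext T hT h1 h3) (b + 1 - a).toNat b E (fun i hi => hE i (Or.inr hi))
    (fun i hi => hE i (Or.inl (by omega))) (fun i => ?_)
  haveI := (hfree i).1
  haveI := (hfree i).2
  exact pr_single_finite_free hc (E.X i)

theorem eq_zero_of_isLE (X : DerivedCategory (ModuleCat.{u} R)) (p : ℤ) [X.IsLE p] (n : ℤ)
    (N : ModuleCat.{u} R) (h : p < -n) (f : X ⟶ (Gn n).obj N) : f = 0 := by
  haveI : ((Gn n).obj N).IsGE (-n) :=
    TStructure.t.isGE_shift ((DerivedCategory.singleFunctor (ModuleCat.{u} R) 0).obj N)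
      0 n (-n) (by omega)
  exact TStructure.t.zero_of_isLE_of_isGE f p (-n) h inferInstance inferInstance

include hc in
theorem main (m : ℤ) (K : DerivedCategory (ModuleCat.{u} R))
    (hK : DRing.IsPseudoCoherent R m K) :
    (∀ n : ℤ, n < -m → SurjAt F c (Gn n) K) ∧ (∀ n : ℤ, n ≤ -m → InjAt F c (Gn n) K) := by
  obtain ⟨E, a, b, α, hE, hfree, hiso, hepi⟩ := hK
  have hPrE := pr_Q_of_bounded_finite_free hc E a b hE hfree
  obtain ⟨C, β, γ, hT⟩ := distinguished_cocone_triangle α
  haveI hC : C.IsLE (m - 1) := by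
    rw [isLE_iff]
    intro i hi
    have e1 : Epi ((homologyFunctor (ModuleCat.{u} R) i).map α) := by
      by_cases him : i = m
      · subst him; exact hepi
      · haveI := hiso i (by omega)
        infer_instance
    have m1 : Mono ((homologyFunctor (ModuleCat.{u} R) (i + 1)).map α) := by
      haveI := hiso (i + 1) (by omega)
      infer_instance
    exact (HomologySequence.exact₃ _ hT i (i + 1) rfl).isZero_of_both_zeros
      ((HomologySequence.epi_homologyMap_mor₁_iff _ hT i).1 e1)
      ((HomologySequence.mono_homologyMap_mor₁_iff _ hT i (i + 1) rfl).1 m1)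
  haveI hC' : (C⟦(-1 : ℤ)⟧).IsLE m := TStructure.t.isLE_shift C (m - 1) (-1) m (by omega)
  constructor
  · intro n hn
    refine ext_surj (Gn n) _ hT (hPrE n).1 ?_ ?_
    · intro x
      obtain ⟨j⟩ := IsFiltered.nonempty (C := J)
      exact ⟨j, 0, zero_comp.trans (eq_zero_of_isLE C (m - 1) n _ (by omega) x).symm⟩
    · intro j y _
      exact ⟨j, 𝟙 j, (congrArg (fun t => t ≫ (Gn n).map (F.map (𝟙 j)))
        (eq_zero_of_isLE (C⟦(-1 : ℤ)⟧) m n _ (by omega) y)).trans zero_comp⟩
  · intro n hn
    refine ext_inj (Gn n) _ hT (hPrE n).2 ?_ ((pr_shift 1 hPrE) n).1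
    intro j y _
    exact ⟨j, 𝟙 j, (congrArg (fun t => t ≫ (Gn n).map (F.map (𝟙 j)))
      (eq_zero_of_isLE C (m - 1) n _ (by omega) y)).trans zero_comp⟩

end Groth.Agent.Lib.helper23.PCFilt
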