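import Mathlib
import Groth.Prelude.Def_DRing2
import Groth.Prelude.Def_DDual2
import Groth.Agent.Lib.Helper23.PerfDev
import Groth.Agent.Lib.Helper23.DRingPC4

set_option autoImplicit false
universe u
open CategoryTheory CategoryTheory.Limits Pretriangulated ZeroObject

attribute [local instance] HasDerivedCategory.standard

namespace Groth.Agent.Lib.helper23.PerfDev

open Groth.Agent.Lib.helper23.PerfThick Groth.Agent.Lib.helper23.PerfCone
  Groth.Agent.Lib.helper23.DRingPC

variable {A B : Type u} [CommRing A] [CommRing B] (φ : A →+* B)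

lemma isPerfect_biprod (K L : Dual.D A) [HasBinaryBiproduct K L] (hK : DRing.IsPerfect A K)
    (hL : DRing.IsPerfect A L) : DRing.IsPerfect A (K ⊞ L) :=
  (isPerfect_two_of_three A _ (binaryBiproductTriangle_distinguished K L)).2.1 hK hL

/-- modules perfect as objects of the derived category. -/
def PerfMod (A : Type u) [CommRing A] (M : ModuleCat.{u} A) : Prop :=
  DRing.IsPerfect A ((DerivedCategory.singleFunctor (ModuleCat.{u} A) 0).obj M)

lemma PerfMod.of_iso {M N : ModuleCat.{u} A} (h : PerfMod A M) (e : M ≅ N) : PerfMod A N :=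
  isPerfect_of_iso A ((DerivedCategory.singleFunctor (ModuleCat.{u} A) 0).mapIso e) h

lemma PerfMod.of_isZero {M : ModuleCat.{u} A} (h : IsZero M) : PerfMod A M :=
  isPerfect_of_isZero A ((DerivedCategory.singleFunctor (ModuleCat.{u} A) 0).map_isZero h)

lemma PerfMod.biprod {M N : ModuleCat.{u} A} (hM : PerfMod A M) (hN : PerfMod A N) :
    PerfMod A (M ⊞ N) := by
  haveI : PreservesBinaryBiproducts (DerivedCategory.singleFunctor (ModuleCat.{u} A) 0) :=
    preservesBinaryBiproducts_of_preservesBiproducts _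
  exact isPerfect_of_iso A ((DerivedCategory.singleFunctor (ModuleCat.{u} A) 0).mapBiprod M N).symm
    (isPerfect_biprod _ _ hM hN)

lemma PerfMod.summand {M N : ModuleCat.{u} A} (h : PerfMod A (M ⊞ N)) :
    PerfMod A M ∧ PerfMod A N := by
  haveI : PreservesBinaryBiproducts (DerivedCategory.singleFunctor (ModuleCat.{u} A) 0) :=
    preservesBinaryBiproducts_of_preservesBiproducts _
  exact isPerfect_summand A _ _
    (isPerfect_of_iso A ((DerivedCategory.singleFunctor (ModuleCat.{u} A) 0).mapBiprod M N) h)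

lemma perfMod_restrict_pi
    (hB : PerfMod A ((ModuleCat.restrictScalars.{u} φ).obj (ModuleCat.of B B))) :
    ∀ (k : ℕ), PerfMod A ((ModuleCat.restrictScalars.{u} φ).obj (ModuleCat.of B (Fin k → B))) := by
  intro k
  induction k with
  | zero =>
    refine PerfMod.of_isZero ?_
    haveI : Subsingleton ((ModuleCat.restrictScalars.{u} φ).obj (ModuleCat.of B (Fin 0 → B))) :=
      inferInstanceAs (Subsingleton (Fin 0 → B))
    exact ModuleCat.isZero_of_subsingleton _
  | succ k ih =>
    have e : ModuleCat.of B (B × (Fin k → B)) ≅ ModuleCat.of B (Fin (k + 1) → B) :=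
      (Fin.consLinearEquiv B (fun _ : Fin (k + 1) => B)).toModuleIso
    exact ((hB.biprod ih).of_iso (restrictProdIso φ B (Fin k → B)).symm).of_iso
      ((ModuleCat.restrictScalars.{u} φ).mapIso e)

lemma perfMod_restrict_of_FP
    (hB : PerfMod A ((ModuleCat.restrictScalars.{u} φ).obj (ModuleCat.of B B)))
    (M : ModuleCat.{u} B) (hM : FP B M) :
    PerfMod A ((ModuleCat.restrictScalars.{u} φ).obj M) := by
  obtain ⟨h1, h2⟩ := hM
  obtain ⟨k, f, hf⟩ := Module.Finite.exists_fin' B M
  let f' : ModuleCat.of B (Fin k → B) ⟶ M := ModuleCat.ofHom f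
  haveI : Epi f' := (ModuleCat.epi_iff_surjective f').2 hf
  haveI := FP_lift B _ _ f' inferInstance ⟨h1, h2⟩
  have hb := isBilimitBinaryBiconeOfIsSplitEpiOfKernel (kernelIsKernel f')
  have e : ModuleCat.of B (Fin k → B) ≅ kernel f' ⊞ M := biprod.uniqueUpToIso _ _ hb
  haveI : PreservesBinaryBiproducts (ModuleCat.restrictScalars.{u} φ) :=
    preservesBinaryBiproducts_of_preservesBiproducts _
  have h3 : PerfMod A ((ModuleCat.restrictScalars.{u} φ).obj (kernel f') ⊞
      (ModuleCat.restrictScalars.{u} φ).obj M) :=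
    ((perfMod_restrict_pi φ hB k).of_iso ((ModuleCat.restrictScalars.{u} φ).mapIso e)).of_iso
      ((ModuleCat.restrictScalars.{u} φ).mapBiprod _ _)
  exact h3.summand.2

/-- S6956. -/
theorem isPerfect_restrict
    (hB : PerfMod A ((ModuleCat.restrictScalars.{u} φ).obj (ModuleCat.of B B)))
    (K : Dual.D B) (hK : DRing.IsPerfect B K) :
    DRing.IsPerfect A ((ModuleCat.restrictScalars.{u} φ).mapDerivedCategory.obj K) := by
  obtain ⟨E, a, b, hV, hP, ⟨e⟩⟩ := hK
  have h1 : DRing.IsPerfect A (DRing.toD
      (((ModuleCat.restrictScalars.{u} φ).mapHomologicalComplex (ComplexShape.up ℤ)).obj E)) :=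
    isPerfect_of_terms A _ a b
      (fun i hi => (ModuleCat.restrictScalars.{u} φ).map_isZero (hV i hi))
      (fun i => perfMod_restrict_of_FP φ hB (E.X i) (hP i))
  exact isPerfect_of_iso A (((ModuleCat.restrictScalars.{u} φ).mapDerivedCategoryFactors.app E).symm
    ≪≫ (ModuleCat.restrictScalars.{u} φ).mapDerivedCategory.mapIso e) h1

end Groth.Agent.Lib.helper23.PerfDev
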