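import Mathlib
import Groth.Prelude.Def_DRing2
import Groth.Prelude.Def_DDual2
import Groth.Prelude.Def_MoreMor
import Groth.Agent.Lib.Helper23.RegGap
import Groth.Agent.Lib.Helper23.TA10
import Groth.Agent.Lib.Helper23.TA9
import Groth.Agent.Lib.Helper23.DRingPC8

/-!
# helper23: pseudo-coherent and perfect ring maps (S7067, S7069)
-/

set_option autoImplicit false
universe u
open CategoryTheory CategoryTheory.Limits

attribute [local instance] HasDerivedCategory.standard

namespace Groth.Agent.Lib.helper23.PerfHom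

open Groth.Agent.Lib.helper23.PCohCore Groth.Agent.Lib.helper23.DRingPC
  Groth.Agent.Lib.helper23.TA

/-- S7067. -/
theorem isPseudoCoherentHom_of_finiteType (A B : Type u) [CommRing A] [CommRing B] [Algebra A B]
    [IsNoetherianRing A] [Algebra.FiniteType A B] : MoreMor.IsPseudoCoherentHom A B := by
  obtain ⟨n, φ, hφ⟩ := Algebra.FiniteType.iff_quotient_mvPolynomial''.1
    (inferInstance : Algebra.FiniteType A B)
  refine ⟨n, φ, hφ, ?_⟩
  letI := φ.toRingHom.toAlgebra
  unfold DRing.IsPseudoCoherentModule'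
  rw [isPseudoCoherent'_iff_npc]
  have hfin : Module.Finite (MvPolynomial (Fin n) A) B :=
    Module.Finite.of_surjective (Algebra.linearMap (MvPolynomial (Fin n) A) B) hφ
  exact (forall_npc_single_iff_of_noetherian (MvPolynomial (Fin n) A)
    (ModuleCat.of (MvPolynomial (Fin n) A) B)).2 hfin

/-- over a regular ring of finite Krull dimension every module has finite tor dimension. -/
theorem hasFiniteTorDim_of_regular (A : Type u) [CommRing A] [IsRegularRing A]
    (hdim : ringKrullDim A < ⊤) (M : Type u) [AddCommGroup M] [Module A M] :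
    DRing.HasFiniteTorDim A M := by
  rcases subsingleton_or_nontrivial A with hA | hA
  · refine ⟨0, fun N _ _ p hp => ?_⟩
    exact Module.subsingleton A _
  · obtain ⟨d, hd⟩ : ∃ d : ℕ, ringKrullDim A = d := by
      have h0 : (0 : WithBot ℕ∞) ≤ ringKrullDim A := ringKrullDim_nonneg_of_nontrivial
      have h1 : ringKrullDim A ≠ ⊤ := hdim.ne
      have h2 : ringKrullDim A ≠ ⊥ := fun h => by rw [h] at h0; simp at h0
      obtain ⟨x, hx⟩ := WithBot.ne_bot_iff_exists.1 h2
      have hx' : x ≠ ⊤ := fun h => h1 (by rw [← hx, h]; rfl)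
      obtain ⟨d, hd⟩ := ENat.ne_top_iff_exists.1 hx'
      exact ⟨d, by rw [← hx, ← hd]; rfl⟩
    have hreg : ∀ p : PrimeSpectrum A, IsRegularLocalRing (Localization.AtPrime p.asIdeal) :=
      fun p => IsRegularRing.isRegularLocalRing_localization p.asIdeal
    refine ⟨d, (hasTorDimLE_iff_torVan d M).2 ?_⟩
    rw [torVan_iff_hasTorAmplitudeIn]
    exact hasTorAmplitudeIn_of_hasProjectiveDimensionLT d _
      (RegGap.hasProjectiveDimensionLT_of_regular hreg d hd _)

/-- S7069. -/
theorem isPerfectHom_of_finiteType_of_isRegularRing (A B : Type u) [CommRing A] [CommRing B]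
    [Algebra A B] [IsRegularRing A] (hdim : ringKrullDim A < ⊤) [Algebra.FiniteType A B] :
    MoreMor.IsPerfectHom A B :=
  ⟨isPseudoCoherentHom_of_finiteType A B, hasFiniteTorDim_of_regular A hdim B⟩

end Groth.Agent.Lib.helper23.PerfHom
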