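import Mathlib
import Groth.Agent.Lib.Helper13.GM2
import Groth.Agent.Lib.Helper19.DCB3
import Groth.Agent.S7050

/-!
# Greenlees–May in "canonical map" form, and derived completeness of complexes with finite
cohomology over a complete Noetherian ring (helper23)

* `isIso_derivedCompletion_map_RgammaIε`: `(RΓ_I K)^ ⟶ K^` (induced by `RΓ_I K ⟶ K`) is an iso.
* `isIso_RgammaI_map_toDerivedCompletion`: `RΓ_I K ⟶ RΓ_I (K^)` (induced by `K ⟶ K^`) is an iso.
* `isDerivedComplete_of_finite_cohomology`, `isIso_toDerivedCompletion_of_finite_cohomology`.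
-/

set_option autoImplicit false
universe u
open CategoryTheory CategoryTheory.Limits DerivedCategory Pretriangulated

attribute [local instance] HasDerivedCategory.standard

namespace Groth.Agent.Lib.helper23.PervC

open Groth.Agent.Lib.helper13.DComp Groth.Agent.Lib.helper13.GM Groth.Agent.Lib.helper19.DCB2

variable {A : Type u} [CommRing A] [IsNoetherianRing A] (I : Ideal A)

lemma exists_list_span : ∃ fs : List A, Ideal.span {x : A | x ∈ fs} = I := by
  classical
  obtain ⟨s, hs⟩ := (isNoetherianRing_iff_ideal_fg A).1 inferInstance I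
  refine ⟨s.toList, ?_⟩
  rw [← hs]
  congr 1
  ext x
  simp

section GM

variable [DRing.HasRgammaI I] [DRing.HasDerivedCompletion I]

/-- `(RΓ_I K)^ ⟶ K^` is an isomorphism -/
theorem isIso_derivedCompletion_map_RgammaIε (K : Dual.D A) :
    IsIso ((DRing.derivedCompletion I).map ((DRing.RgammaIε I).app K)) := by
  obtain ⟨fs, rfl⟩ := exists_list_span I
  rw [isIso_iff_coyoneda_map_bijective]
  intro T
  let adj := DRing.derivedCompletionAdj (Ideal.span {x : A | x ∈ fs})
  have hb := bijective_precomp_RgammaIε fs K T.obj T.property
  have key := (adj.homEquiv _ T).symm.bijective.comp (hb.comp (adj.homEquiv K T).bijective)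
  convert key using 1
  funext x
  simp only [Function.comp_apply]
  rw [Equiv.eq_symm_apply, Adjunction.homEquiv_naturality_left]
  rfl

/-- `RΓ_I K ⟶ RΓ_I (K^)` is an isomorphism -/
theorem isIso_RgammaI_map_toDerivedCompletion (K : Dual.D A) :
    IsIso ((DRing.RgammaI I).map (DRing.toDerivedCompletion I K)) := by
  obtain ⟨fs, rfl⟩ := exists_list_span I
  obtain ⟨J, hJ, ⟨e⟩⟩ := exists_kInjective_model K
  haveI := hJ
  obtain ⟨e', he'⟩ := exists_derivedCompletion_iso_homCx_Cech fs J e
  haveI := isIso_RgammaI_map_toCompletion (Ideal.span {x : A | x ∈ fs}) J fs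
    (fun g hg => Ideal.subset_span hg)
  have h : DRing.toDerivedCompletion (Ideal.span {x : A | x ∈ fs}) K =
      e.hom ≫ toCompletion fs J ≫ e'.inv := by
    rw [← Category.assoc, ← he', Category.assoc, Iso.hom_inv_id, Category.comp_id]
  rw [h, Functor.map_comp, Functor.map_comp]
  infer_instance

end GM

section Complete

variable [IsAdicComplete I A]

theorem isAdicComplete_of_finite
    (M : Type u) [AddCommGroup M] [Module A M] [Module.Finite A M] : IsAdicComplete I M := by
  rw [← AdicCompletion.of_bijective_iff]
  have h1 := AdicCompletion.ofTensorProduct_bijective_of_finite_of_isNoetherian I M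
  have h2 : Function.Bijective (LinearMap.rTensor M (AdicCompletion.of I A)) := by
    have hb : Function.Bijective (AdicCompletion.of I A) := AdicCompletion.of_bijective I A
    exact (LinearEquiv.rTensor M (LinearEquiv.ofBijective (AdicCompletion.of I A) hb)).bijective
  have hone : (AdicCompletion.of I A) 1 = 1 := rfl
  have h3 : ⇑(AdicCompletion.of I M) = (AdicCompletion.ofTensorProduct I M) ∘
      (LinearMap.rTensor M (AdicCompletion.of I A)) ∘ (TensorProduct.lid A M).symm := by
    funext x
    simp [AdicCompletion.ofTensorProduct_tmul, hone]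
  rw [h3]
  exact h1.comp (h2.comp (TensorProduct.lid A M).symm.bijective)

/-- a complex with finite cohomology over an `I`-adically complete Noetherian ring is derived
complete -/
theorem isDerivedComplete_of_finite_cohomology (K : Dual.D A)
    (hK : ∀ i : ℤ, Module.Finite A (Dual.HD A K i)) : DRing.IsDerivedComplete I K := by
  rw [Groth.Agent.S7050.result I K]
  intro i
  haveI := hK i
  haveI := isAdicComplete_of_finite I (Dual.HD A K i)
  exact Groth.Agent.Lib.helper23.DC.isDerivedComplete_inD_of_isAdicComplete I (Dual.HD A K i)

theorem isIso_toDerivedCompletion_of_finite_cohomology [DRing.HasDerivedCompletion I]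
    (K : Dual.D A) (hK : ∀ i : ℤ, Module.Finite A (Dual.HD A K i)) :
    IsIso (DRing.toDerivedCompletion I K) :=
  isIso_η_of_complete I K (isDerivedComplete_of_finite_cohomology I K hK)

end Complete

end Groth.Agent.Lib.helper23.PervC
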