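import Mathlib
import Groth.Agent.Lib.Helper23.LDual15
import Groth.Agent.Lib.Helper13.RGam3
import Groth.Agent.S17756
import Groth.Agent.S0311

/-!
# Local cohomology of a bounded complex with finite cohomology is bounded and cofinite (helper23)

`A` Noetherian local with a normalized dualizing complex `ω`, `E` an injective hull of the residue
field, `M ∈ D(A)` bounded with finite cohomology.
* `exists_finite_model_hom`: `Hom(K, ω[j])` is a finite `A`-module (with a model in `Type u`).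
* `exists_bounds_hom`: `Hom(K, ω[j]) = 0` for `j` outside a bounded range when `K` is bounded.
* `exists_HD_RgammaI_equiv_dual`: `H^i(RΓ_m M) ≃ Hom_A(G, E)`, `G ≃ Hom(M, ω[-i])` finite.
* `RgammaI_bounded_cofinite`.
-/

set_option autoImplicit false
universe u
open CategoryTheory CategoryTheory.Limits DerivedCategory Pretriangulated IsLocalRing

attribute [local instance] HasDerivedCategory.standard

namespace Groth.Agent.Lib.helper23.PervC

open Groth.Agent.Lib.helper23.RHomCx Groth.Agent.Lib.helper23.GorInv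
  Groth.Agent.Lib.helper23.DualD Groth.Agent.Lib.helper23.CxBid Groth.Agent.Lib.helper23.LDual

section Modules

variable {A : Type u} [CommRing A] (I : Ideal A)

lemma finite_torsionBy_of_linearEquiv {M N : Type u} [AddCommGroup M] [Module A M] [AddCommGroup N]
    [Module A N] (e : M ≃ₗ[A] N) (h : Module.Finite A (LocCoh.torsionBy I N)) :
    Module.Finite A (LocCoh.torsionBy I M) := by
  rw [Module.Finite.iff_fg] at h ⊢
  have hmap : Submodule.map e.symm.toLinearMap (LocCoh.torsionBy I N) = LocCoh.torsionBy I M := by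
    ext x
    simp only [Submodule.mem_map, Submodule.mem_torsionBySet_iff, LinearEquiv.coe_coe]
    constructor
    · rintro ⟨y, hy, rfl⟩ a
      rw [← map_smul, hy a, map_zero]
    · intro hx
      refine ⟨e x, fun a => ?_, e.symm_apply_apply x⟩
      rw [← map_smul, hx a, map_zero]
  rw [← hmap]
  exact h.map _

variable [IsLocalRing A] [IsNoetherianRing A]
  (E : Type u) [AddCommGroup E] [Module A E] (f : ResidueField A →ₗ[A] E)
  (hf : InjHull.IsInjectiveHull f)

include hf in
lemma isPowerTorsion_dual (G : Type u) [AddCommGroup G] [Module A G] [Module.Finite A G] :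
    LocCoh.IsPowerTorsion (maximalIdeal A) (G →ₗ[A] E) := by
  intro φ
  have hE := Groth.Agent.S0311.result A E f hf
  obtain ⟨s, hs⟩ := (Module.Finite.fg_top : (⊤ : Submodule A G).FG)
  choose k hk using fun g : G => hE (φ g)
  refine ⟨s.sup k, fun a ha => ?_⟩
  apply LinearMap.ext_on_range (v := fun x : s => (x : G))
  · rw [Subtype.range_coe_subtype]
    simpa using hs
  · intro x
    rw [LinearMap.smul_apply, LinearMap.zero_apply]
    exact hk x.1 a (Ideal.pow_le_pow_right (Finset.le_sup x.2) ha)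

include hf in
lemma finite_torsionBy_dual (G : Type u) [AddCommGroup G] [Module A G] [Module.Finite A G] :
    Module.Finite A (LocCoh.torsionBy (maximalIdeal A) (G →ₗ[A] E)) := by
  have h := Groth.Agent.S17756.result A E f hf G
  have hne : Module.length A (LocCoh.torsionBy (maximalIdeal A) (G →ₗ[A] E)) ≠ ⊤ := by
    rw [← h]
    exact ENat.coe_ne_top _
  rw [Module.length_ne_top_iff, isFiniteLength_iff_isNoetherian_isArtinian] at hne
  haveI := hne.1
  infer_instance

end Modules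

variable {A : Type u} [CommRing A] [IsLocalRing A] [IsNoetherianRing A]
  (ω : Dual.D A) (hω : Dual.IsDualizing A ω)

include hω in
/-- `Hom(K, ω[j])` is a finite module -/
theorem exists_finite_model_hom (K : Dual.D A) (hK : ∀ j : ℤ, Module.Finite A (Dual.HD A K j))
    (j : ℤ) :
    ∃ (G : Type u) (_ : AddCommGroup G) (_ : Module A G),
      Module.Finite A G ∧ Nonempty (G ≃ₗ[A] (K ⟶ ω⟦j⟧)) := by
  obtain ⟨Mω⟩ := exists_model ω hω
  haveI := Mω.isKInjective
  let K₀ : DRing.Cx A := Q.objPreimage K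
  let e : Q.obj K₀ ≅ K := Q.objObjPreimageIso K
  have hK₀ : ∀ j, Module.Finite A (Hn K₀ j) := fun j => by
    haveI := hK j
    exact Module.Finite.equiv ((homologyFunctor (ModuleCat.{u} A) j).mapIso e).toLinearEquiv.symm
  exact ⟨Hn (DRing.homCx K₀ Mω.I) j, inferInstance, inferInstance,
    finite_homology_D hω Mω K₀ hK₀ j,
    ⟨homologyDEquiv Mω.I K₀ j ≪≫ₗ hc e ((shiftFunctor (Dual.D A) j).mapIso Mω.e)⟩⟩

include hω in
/-- `Hom(K, ω[j])` vanishes outside a bounded range when `K` is bounded -/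
theorem exists_bounds_hom (K : Dual.D A) (a b : ℤ)
    (hab : ∀ i : ℤ, (i < a ∨ b < i) → Subsingleton (Dual.HD A K i)) :
    ∃ a' b' : ℤ, ∀ j : ℤ, (j < a' ∨ b' < j) → Subsingleton (K ⟶ ω⟦j⟧) := by
  obtain ⟨Mω⟩ := exists_model ω hω
  haveI := Mω.isKInjective
  let K₀ : DRing.Cx A := Q.objPreimage K
  let e : Q.obj K₀ ≅ K := Q.objObjPreimageIso K
  have hamp : DRing.HasInjAmplitudeIn A Mω.a Mω.b (Q.obj Mω.I) := ⟨Mω.I, Mω.zero,
    fun j => (Module.injective_iff_injective_object A (Mω.I.X j)).2 (Mω.inj j), ⟨Iso.refl _⟩⟩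
  haveI : (Q.obj K₀).IsGE a := by
    rw [isGE_iff]
    intro j hj
    haveI := hab j (Or.inl hj)
    exact IsZero.of_iso (ModuleCat.isZero_of_subsingleton _)
      ((homologyFunctor (ModuleCat.{u} A) j).mapIso e)
  haveI : (Q.obj K₀).IsLE b := by
    rw [isLE_iff]
    intro j hj
    haveI := hab j (Or.inr hj)
    exact IsZero.of_iso (ModuleCat.isZero_of_subsingleton _)
      ((homologyFunctor (ModuleCat.{u} A) j).mapIso e)
  haveI h1 := isGE_D_of_isLE Mω.I Mω.a Mω.b hamp K₀ b
  haveI h2 := isLE_D_of_isGE Mω.I Mω.a Mω.b hamp K₀ a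
  refine ⟨Mω.a - b, Mω.b - a, fun j hj => ?_⟩
  have hz : IsZero ((homologyFunctor (ModuleCat.{u} A) j).obj
      (Q.obj (DRing.homCx K₀ Mω.I))) := by
    rcases hj with hj | hj
    · exact isZero_of_isGE _ (Mω.a - b) j hj
    · exact isZero_of_isLE _ (Mω.b - a) j hj
  haveI := ModuleCat.subsingleton_of_isZero hz
  exact (homologyDEquiv Mω.I K₀ j ≪≫ₗ
    hc e ((shiftFunctor (Dual.D A) j).mapIso Mω.e)).symm.toEquiv.subsingleton

variable (hn : Dual.IsNormalized A ω)
  (E : Type u) [AddCommGroup E] [Module A E] (f : ResidueField A →ₗ[A] E)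
  (hf : InjHull.IsInjectiveHull f) [DRing.HasRgammaI (maximalIdeal A)]

include hω hn hf in
/-- `H^i(RΓ_m M)` is the Matlis dual of the finite module `Hom(M, ω[-i])` -/
theorem exists_HD_RgammaI_equiv_dual (M : Dual.D A)
    (hfin : ∀ i : ℤ, Module.Finite A (Dual.HD A M i)) (c : ℤ)
    (hc' : ∀ j : ℤ, j < c → Subsingleton (Dual.HD A M j)) (i : ℤ) :
    ∃ (G : Type u) (_ : AddCommGroup G) (_ : Module A G),
      Module.Finite A G ∧ Nonempty (G ≃ₗ[A] (M ⟶ ω⟦-i⟧)) ∧
      Nonempty (Dual.HD A ((DRing.RgammaI (maximalIdeal A)).obj M) i ≃ₗ[A] (G →ₗ[A] E)) := by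
  obtain ⟨G, _, _, hG, ⟨eG⟩⟩ := exists_finite_model_hom ω hω M hfin (-i)
  obtain ⟨e1⟩ := HD_RgammaI_equiv_HDI (maximalIdeal A) M i
  obtain ⟨e2⟩ := localDualityCx ω hω hn E f hf M hfin c hc' i
  exact ⟨G, inferInstance, inferInstance, hG, ⟨eG⟩,
    ⟨e1 ≪≫ₗ e2 ≪≫ₗ (LinearEquiv.arrowCongr eG (LinearEquiv.refl A E)).symm⟩⟩

include hω hn hf in
/-- **`RΓ_m M` is bounded with cofinite cohomology** for `M` bounded with finite cohomology -/
theorem RgammaI_bounded_cofinite (M : Dual.D A)
    (hfin : ∀ i : ℤ, Module.Finite A (Dual.HD A M i))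
    (hbd : ∃ a b : ℤ, ∀ i : ℤ, (i < a ∨ b < i) → Subsingleton (Dual.HD A M i)) :
    (∃ a b : ℤ, ∀ i : ℤ, (i < a ∨ b < i) →
      Subsingleton (Dual.HD A ((DRing.RgammaI (maximalIdeal A)).obj M) i)) ∧
    ∀ i : ℤ, LocCoh.IsPowerTorsion (maximalIdeal A)
        (Dual.HD A ((DRing.RgammaI (maximalIdeal A)).obj M) i) ∧
      Module.Finite A ↥(LocCoh.torsionBy (maximalIdeal A)
        (Dual.HD A ((DRing.RgammaI (maximalIdeal A)).obj M) i)) := by
  obtain ⟨a, b, hab⟩ := hbd
  have hc' : ∀ j : ℤ, j < a → Subsingleton (Dual.HD A M j) := fun j hj => hab j (Or.inl hj)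
  obtain ⟨a', b', hab'⟩ := exists_bounds_hom ω hω M a b hab
  constructor
  · refine ⟨-b', -a', fun i hi => ?_⟩
    obtain ⟨G, _, _, -, ⟨eG⟩, ⟨e⟩⟩ := exists_HD_RgammaI_equiv_dual ω hω hn E f hf M hfin a hc' i
    haveI : Subsingleton (M ⟶ ω⟦-i⟧) := hab' (-i) (by omega)
    haveI : Subsingleton G := eG.toEquiv.subsingleton
    haveI : Subsingleton (G →ₗ[A] E) :=
      ⟨fun l l' => LinearMap.ext fun x => by rw [Subsingleton.elim x 0, map_zero, map_zero]⟩
    exact e.toEquiv.subsingleton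
  · intro i
    refine ⟨Groth.Agent.Lib.helper13.RGam.torsD_RgammaI (maximalIdeal A) M i, ?_⟩
    obtain ⟨G, _, _, hG, -, ⟨e⟩⟩ := exists_HD_RgammaI_equiv_dual ω hω hn E f hf M hfin a hc' i
    haveI := hG
    exact finite_torsionBy_of_linearEquiv (maximalIdeal A) e (finite_torsionBy_dual E f hf G)

end Groth.Agent.Lib.helper23.PervC
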