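import Mathlib
import Groth.Agent.Lib.Helper23.PervC1
import Groth.Agent.Lib.Helper23.PervC2
import Groth.Agent.Lib.Helper23.PCohCore7
import Groth.Agent.S0310
import Groth.Agent.S0314
import Groth.Agent.S0317

/-!
# The derived completion of a cofinite module over a complete Noetherian local ring (helper23)

`A` complete Noetherian local with normalized dualizing complex `ω`; `N` a cofinite module
(`m`-power torsion with finitely generated socle).  Then `N` is Artinian
(`isArtinian_of_cofinite`) and the derived completion of `N[-i]` is `RHom(P[i], ω)` where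
`P = Hom(N, E)` is the (finite) Matlis dual (`exists_dual_model_of_cofinite`).
-/

set_option autoImplicit false
universe u
open CategoryTheory CategoryTheory.Limits DerivedCategory Pretriangulated IsLocalRing

attribute [local instance] HasDerivedCategory.standard

namespace Groth.Agent.Lib.helper23.PervC

open Groth.Agent.Lib.helper23.RHomCx Groth.Agent.Lib.helper23.GorInv
  Groth.Agent.Lib.helper23.DualD Groth.Agent.Lib.helper23.CxBid Groth.Agent.Lib.helper23.LDual
  Groth.Agent.Lib.helper19.DCB1 Groth.Agent.Lib.helper23.PCohCore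

variable {A : Type u} [CommRing A] [IsLocalRing A] [IsNoetherianRing A]
  (E : Type u) [AddCommGroup E] [Module A E] (f : ResidueField A →ₗ[A] E)
  (hf : InjHull.IsInjectiveHull f)

include hf in
/-- a cofinite module is Artinian -/
lemma isArtinian_of_cofinite (N : Type u) [AddCommGroup N] [Module A N]
    (h1 : LocCoh.IsPowerTorsion (maximalIdeal A) N)
    (h2 : Module.Finite A ↥(LocCoh.torsionBy (maximalIdeal A) N)) : IsArtinian A N := by
  haveI : Module.Finite (A ⧸ maximalIdeal A) ↥(LocCoh.torsionBy (maximalIdeal A) N) :=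
    Module.Finite.of_restrictScalars_finite A _ _
  obtain ⟨g, hg⟩ := Groth.Agent.S0310.result A E f hf N h1 _ rfl
  haveI := Groth.Agent.S0314.result A E f hf
  exact isArtinian_of_injective g hg

variable [IsAdicComplete (maximalIdeal A) A]
  (ω : Dual.D A) (hω : Dual.IsDualizing A ω) (hn : Dual.IsNormalized A ω)
  [DRing.HasRgammaI (maximalIdeal A)] [DRing.HasDerivedCompletion (maximalIdeal A)]

include hω hn hf in
/-- **the derived completion of a cofinite module placed in degree `i`** -/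
theorem exists_dual_model_of_cofinite (N : Type u) [AddCommGroup N] [Module A N]
    (h1 : LocCoh.IsPowerTorsion (maximalIdeal A) N)
    (h2 : Module.Finite A ↥(LocCoh.torsionBy (maximalIdeal A) N)) (i : ℤ) :
    ∃ M : Dual.D A, (∀ j : ℤ, Module.Finite A (Dual.HD A M j)) ∧
      (∃ a b : ℤ, ∀ j : ℤ, (j < a ∨ b < j) → Subsingleton (Dual.HD A M j)) ∧
      (∀ j : ℤ, j ≠ -i → Subsingleton (M ⟶ ω⟦j⟧)) ∧
      Nonempty ((cmp (maximalIdeal A)).obj
        ((DerivedCategory.singleFunctor (ModuleCat.{u} A) i).obj (ModuleCat.of A N)) ≅ M) := by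
  haveI := isArtinian_of_cofinite E f hf N h1 h2
  obtain ⟨hPfin, hbij⟩ := Groth.Agent.S0317.result A E f hf N
  obtain ⟨Mω⟩ := exists_model ω hω
  haveI := Mω.isKInjective
  have hamp : DRing.HasInjAmplitudeIn A Mω.a Mω.b (Q.obj Mω.I) := ⟨Mω.I, Mω.zero,
    fun j => (Module.injective_iff_injective_object A (Mω.I.X j)).2 (Mω.inj j), ⟨Iso.refl _⟩⟩
  let P : ModuleCat.{u} A := ModuleCat.of A (N →ₗ[A] E)
  let Pd : DRing.Cx A := (CochainComplex.singleFunctor (ModuleCat.{u} A) (-i)).obj P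
  haveI hGE : (Q.obj Pd).IsGE (-i) :=
    inferInstanceAs (((DerivedCategory.singleFunctor (ModuleCat.{u} A) (-i)).obj P).IsGE (-i))
  haveI hLE : (Q.obj Pd).IsLE (-i) :=
    inferInstanceAs (((DerivedCategory.singleFunctor (ModuleCat.{u} A) (-i)).obj P).IsLE (-i))
  have hPdz : ∀ j : ℤ, j ≠ -i → IsZero (Hn Pd j) := fun j hj => by
    rcases lt_or_gt_of_ne hj with h | h
    · exact isZero_of_isGE _ (-i) j h
    · exact isZero_of_isLE _ (-i) j h
  let ePd : Hn Pd (-i) ≅ P := homologySingleIso (-i) P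
  have hPd : ∀ j, Module.Finite A (Hn Pd j) := fun j => by
    by_cases hj : j = -i
    · subst hj
      haveI : Module.Finite A P := hPfin
      exact Module.Finite.equiv ePd.toLinearEquiv.symm
    · haveI := ModuleCat.subsingleton_of_isZero (hPdz j hj)
      infer_instance
  let M : Dual.D A := Q.obj (DRing.homCx Pd Mω.I)
  have hMfin : ∀ j : ℤ, Module.Finite A (Dual.HD A M j) := fun j =>
    finite_homology_D hω Mω Pd hPd j
  haveI hMGE : M.IsGE (Mω.a - -i) := isGE_D_of_isLE Mω.I Mω.a Mω.b hamp Pd (-i)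
  haveI hMLE : M.IsLE (Mω.b - -i) := isLE_D_of_isGE Mω.I Mω.a Mω.b hamp Pd (-i)
  have hMbd : ∀ j : ℤ, (j < Mω.a - -i ∨ Mω.b - -i < j) → Subsingleton (Dual.HD A M j) := by
    intro j hj
    rcases hj with hj | hj
    · exact ModuleCat.subsingleton_of_isZero (isZero_of_isGE M (Mω.a - -i) j hj)
    · exact ModuleCat.subsingleton_of_isZero (isZero_of_isLE M (Mω.b - -i) j hj)
  haveI hev : IsIso (Q.map (ev Mω.I Pd)) := biduality_cx hω Mω Pd hPd
  -- `Hom(M, ω[j]) ≃ H^j(Pd)`
  let hhom : ∀ j : ℤ, (M ⟶ ω⟦j⟧) ≃ₗ[A] Hn Pd j := fun j =>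
    (hc (Iso.refl M) ((shiftFunctor (Dual.D A) j).mapIso Mω.e)).symm ≪≫ₗ
      (homologyDEquiv Mω.I (DRing.homCx Pd Mω.I) j).symm ≪≫ₗ
      ((homologyFunctor (ModuleCat.{u} A) j).mapIso (asIso (Q.map (ev Mω.I Pd)))).symm.toLinearEquiv
  have hvan : ∀ j : ℤ, j ≠ -i → Subsingleton (M ⟶ ω⟦j⟧) := fun j hj => by
    haveI := ModuleCat.subsingleton_of_isZero (hPdz j hj)
    exact (hhom j).toEquiv.subsingleton
  refine ⟨M, hMfin, ⟨Mω.a - -i, Mω.b - -i, hMbd⟩, hvan, ?_⟩
  -- the local cohomology of `M`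
  let R : Dual.D A := (DRing.RgammaI (maximalIdeal A)).obj M
  have hc' : ∀ j : ℤ, j < Mω.a - -i → Subsingleton (Dual.HD A M j) := fun j hj =>
    hMbd j (Or.inl hj)
  have hRz : ∀ k : ℤ, k ≠ i → IsZero ((homologyFunctor (ModuleCat.{u} A) k).obj R) := by
    intro k hk
    obtain ⟨G, _, _, -, ⟨eG⟩, ⟨e⟩⟩ :=
      exists_HD_RgammaI_equiv_dual ω hω hn E f hf M hMfin (Mω.a - -i) hc' k
    haveI : Subsingleton (M ⟶ ω⟦-k⟧) := hvan (-k) (by omega)
    haveI : Subsingleton G := eG.toEquiv.subsingleton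
    haveI : Subsingleton (G →ₗ[A] E) :=
      ⟨fun l l' => LinearMap.ext fun x => by rw [Subsingleton.elim x 0, map_zero, map_zero]⟩
    haveI : Subsingleton (Dual.HD A R k) := e.toEquiv.subsingleton
    exact ModuleCat.isZero_of_subsingleton _
  have hRi : Nonempty (Dual.HD A R i ≃ₗ[A] N) := by
    obtain ⟨G, _, _, -, ⟨eG⟩, ⟨e⟩⟩ :=
      exists_HD_RgammaI_equiv_dual ω hω hn E f hf M hMfin (Mω.a - -i) hc' i
    exact ⟨e ≪≫ₗ LinearEquiv.arrowCongr (eG ≪≫ₗ hhom (-i) ≪≫ₗ ePd.toLinearEquiv)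
      (LinearEquiv.refl A E) ≪≫ₗ (LinearEquiv.ofBijective _ hbij).symm⟩
  haveI : R.IsGE i := by
    rw [isGE_iff]
    intro k hk
    exact hRz k (by omega)
  haveI : R.IsLE i := by
    rw [isLE_iff]
    intro k hk
    exact hRz k (by omega)
  obtain ⟨Y, ⟨eY⟩⟩ := exists_iso_singleFunctor_obj_of_isGE_of_isLE R i
  obtain ⟨eN⟩ := hRi
  let eYN : Y ≅ ModuleCat.of A N :=
    (homologySingleIso i Y).symm ≪≫ ((homologyFunctor (ModuleCat.{u} A) i).mapIso eY).symm ≪≫
      eN.toModuleIso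
  let eX : (DerivedCategory.singleFunctor (ModuleCat.{u} A) i).obj (ModuleCat.of A N) ≅ R :=
    (DerivedCategory.singleFunctor (ModuleCat.{u} A) i).mapIso eYN.symm ≪≫ eY.symm
  haveI i1 := isIso_derivedCompletion_map_RgammaIε (maximalIdeal A) M
  haveI i2 := isIso_toDerivedCompletion_of_finite_cohomology (maximalIdeal A) M hMfin
  haveI i3 : IsIso ((cmp (maximalIdeal A)).map ((DRing.RgammaIε (maximalIdeal A)).app M)) :=
    Functor.map_isIso (F := ObjectProperty.ι (DRing.IsDerivedComplete (maximalIdeal A)))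
      (f := (DRing.derivedCompletion (maximalIdeal A)).map
        ((DRing.RgammaIε (maximalIdeal A)).app M))
  exact ⟨(cmp (maximalIdeal A)).mapIso eX ≪≫
    @asIso _ _ _ _ ((cmp (maximalIdeal A)).map ((DRing.RgammaIε (maximalIdeal A)).app M)) i3 ≪≫
    (asIso (DRing.toDerivedCompletion (maximalIdeal A) M)).symm⟩

end Groth.Agent.Lib.helper23.PervC
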