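import Mathlib
import Groth.Agent.Lib.Helper23.PervC3
import Groth.Agent.Lib.Helper23.Devissage2

/-!
# The derived completion of a bounded complex with cofinite cohomology (helper23)

`A` complete Noetherian local with a normalized dualizing complex.  If `K ∈ D(A)` is bounded with
cofinite cohomology modules then `K^` is bounded with finite cohomology modules
(`cmp_bounded_finite_of_cofinite`).
-/

set_option autoImplicit false
universe u
open CategoryTheory CategoryTheory.Limits DerivedCategory Pretriangulated IsLocalRing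

attribute [local instance] HasDerivedCategory.standard

namespace Groth.Agent.Lib.helper23.PervC

open Groth.Agent.Lib.helper19.DCB1

section Exact

variable {A : Type u} [CommRing A] [IsNoetherianRing A]

lemma finite_of_exact {M₁ M₂ M₃ : ModuleCat.{u} A} (f : M₁ ⟶ M₂) (g : M₂ ⟶ M₃) (w : f ≫ g = 0)
    (h : (ShortComplex.mk f g w).Exact) [Module.Finite A M₁] [Module.Finite A M₃] :
    Module.Finite A M₂ := by
  rw [ShortComplex.ShortExact.moduleCat_exact_iff_function_exact] at h
  have h' : Function.Exact f.hom g.hom := h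
  rw [Module.finite_def]
  apply Submodule.fg_of_fg_map_of_fg_inf_ker g.hom
  · exact IsNoetherian.noetherian _
  · rw [top_inf_eq, LinearMap.exact_iff.1 h', LinearMap.range_eq_map]
    exact (Module.Finite.fg_top).map _

end Exact

variable {A : Type u} [CommRing A] (I : Ideal A) [DRing.HasDerivedCompletion I]

/-- "the derived completion is bounded with finite cohomology" -/
def PrC (K : Dual.D A) : Prop :=
  (∀ j : ℤ, Module.Finite A (Dual.HD A ((cmp I).obj K) j)) ∧
    ∃ a b : ℤ, ∀ j : ℤ, (j < a ∨ b < j) → Subsingleton (Dual.HD A ((cmp I).obj K) j)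

lemma prC_of_iso {X Y : Dual.D A} (e : X ≅ Y) (h : PrC I X) : PrC I Y := by
  obtain ⟨h1, a, b, h2⟩ := h
  have e' : ∀ j : ℤ, Dual.HD A ((cmp I).obj X) j ≃ₗ[A] Dual.HD A ((cmp I).obj Y) j := fun j =>
    ((homologyFunctor (ModuleCat.{u} A) j).mapIso ((cmp I).mapIso e)).toLinearEquiv
  refine ⟨fun j => ?_, a, b, fun j hj => ?_⟩
  · haveI := h1 j
    exact Module.Finite.equiv (e' j)
  · haveI := h2 j hj
    exact (e' j).symm.toEquiv.subsingleton

lemma prC_of_model {X M : Dual.D A} (e : (cmp I).obj X ≅ M)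
    (h1 : ∀ j : ℤ, Module.Finite A (Dual.HD A M j))
    (h2 : ∃ a b : ℤ, ∀ j : ℤ, (j < a ∨ b < j) → Subsingleton (Dual.HD A M j)) : PrC I X := by
  obtain ⟨a, b, h2⟩ := h2
  have e' : ∀ j : ℤ, Dual.HD A ((cmp I).obj X) j ≃ₗ[A] Dual.HD A M j := fun j =>
    ((homologyFunctor (ModuleCat.{u} A) j).mapIso e).toLinearEquiv
  refine ⟨fun j => ?_, a, b, fun j hj => ?_⟩
  · haveI := h1 j
    exact Module.Finite.equiv (e' j).symm
  · haveI := h2 j hj
    exact (e' j).toEquiv.subsingleton

lemma isZero_cmp_of_isZero {X : Dual.D A} (h : IsZero X) : IsZero ((cmp I).obj X) := by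
  rw [IsZero.iff_id_eq_zero, ← CategoryTheory.Functor.map_id]
  have h0 : 𝟙 X = (0 : A) • 𝟙 X := by rw [zero_smul]; exact h.eq_of_src _ _
  rw [h0, cmp_map_smul, zero_smul]

variable [IsNoetherianRing A]

lemma prC_of_isZero {X : Dual.D A} (h : IsZero X) : PrC I X := by
  have hz := isZero_cmp_of_isZero I h
  have hz' : ∀ j : ℤ, IsZero ((homologyFunctor (ModuleCat.{u} A) j).obj ((cmp I).obj X)) :=
    fun j => (homologyFunctor (ModuleCat.{u} A) j).map_isZero hz
  refine ⟨fun j => ?_, 0, 0, fun j _ => ModuleCat.subsingleton_of_isZero (hz' j)⟩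
  haveI := ModuleCat.subsingleton_of_isZero (hz' j)
  infer_instance

lemma prC_ext (T : Triangle (Dual.D A)) (hT : T ∈ distTriang _) (h1 : PrC I T.obj₁)
    (h3 : PrC I T.obj₃) : PrC I T.obj₂ := by
  obtain ⟨δ, hT'⟩ := exists_distinguished_cmp I T hT
  obtain ⟨f1, a1, b1, z1⟩ := h1
  obtain ⟨f3, a3, b3, z3⟩ := h3
  refine ⟨fun j => ?_, min a1 a3, max b1 b3, fun j hj => ?_⟩
  · have hex := HomologySequence.exact₂ _ hT' j
    exact @finite_of_exact _ _ _ _ _ _ _ _ _ hex (f1 j) (f3 j)
  · have hex := HomologySequence.exact₂ _ hT' j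
    haveI s1 : Subsingleton ((homologyFunctor (ModuleCat.{u} A) j).obj ((cmp I).obj T.obj₁)) :=
      z1 j (by omega)
    haveI s3 : Subsingleton ((homologyFunctor (ModuleCat.{u} A) j).obj ((cmp I).obj T.obj₃)) :=
      z3 j (by omega)
    have hz1 : IsZero ((homologyFunctor (ModuleCat.{u} A) j).obj ((cmp I).obj T.obj₁)) :=
      ModuleCat.isZero_of_subsingleton _
    have hz3 : IsZero ((homologyFunctor (ModuleCat.{u} A) j).obj ((cmp I).obj T.obj₃)) :=
      ModuleCat.isZero_of_subsingleton _
    exact ModuleCat.subsingleton_of_isZero (hex.isZero_of_both_zeros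
      (hz1.eq_of_src _ _) (hz3.eq_of_tgt _ _))

/-- dévissage -/
theorem prC_of_bounded (K : Dual.D A) (a b : ℤ)
    (hab : ∀ i : ℤ, (i < a ∨ b < i) → Subsingleton (Dual.HD A K i))
    (h : ∀ i : ℤ, PrC I ((DerivedCategory.singleFunctor (ModuleCat.{u} A) i).obj
      ((DerivedCategory.homologyFunctor (ModuleCat.{u} A) i).obj K))) : PrC I K := by
  refine Groth.Agent.Lib.helper23.Devissage2.devissage_homology' (PrC I)
    (fun X Y e hX => prC_of_iso I e hX) (fun X hX => prC_of_isZero I hX)
    (fun T hT h1 h3 => prC_ext I T hT h1 h3) (b - a + 1).toNat b K ?_ ?_ h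
  · intro i hi
    haveI := hab i (Or.inr hi)
    exact ModuleCat.isZero_of_subsingleton _
  · intro i hi
    haveI := hab i (Or.inl (by omega))
    exact ModuleCat.isZero_of_subsingleton _

end Groth.Agent.Lib.helper23.PervC
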