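import Mathlib
import Groth.Prelude.Def_Wider
import Groth.Prelude.Def_DDual2
import Groth.Prelude.Def_DRing2
import Groth.Agent.Lib.Helper23.Poly1
import Groth.Agent.Lib.Helper23.BaerD
import Groth.Agent.Lib.Helper23.FinLenDual3

/-!
# helper23: `A[X] ⊗_A E` has injective dimension `≤ 1` for an injective `A`-module `E` (S1748)
-/

set_option autoImplicit false
universe u
open CategoryTheory CategoryTheory.Limits DerivedCategory Pretriangulated TensorProduct Polynomial

attribute [local instance] HasDerivedCategory.standard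

namespace Groth.Agent.Lib.helper23.PolyInj

open Groth.Agent.Lib.helper23.FBC Groth.Agent.Lib.helper23.BaerD
  Groth.Agent.Lib.helper23.FinLenDual

attribute [local instance 50] homModuleA
attribute [local instance] FlatBC.preservesFiniteLimits_extendScalars_algebraMap

variable (A : Type u) [CommRing A] [IsNoetherianRing A]

theorem hasInjAmplitudeIn_polynomial (E : Type u) [AddCommGroup E] [Module A E]
    [Module.Injective A E] :
    DRing.HasInjAmplitudeIn A[X] 0 1 (Dual.inD A[X] (A[X] ⊗[A] E)) := by
  let K : Dual.D A := Dual.inD A E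
  haveI : Injective (ModuleCat.of A E) :=
    (Module.injective_iff_injective_object A E).1 inferInstance
  have hPB : ∀ (M : ModuleCat.{u} A) [Module.Finite A M], BassD.PB K 0 M := by
    intro M _ i hi φ
    haveI := subsingleton_hom_single_injective M (ModuleCat.of A E) i (by omega)
    exact Subsingleton.elim _ _
  let L : Dual.D A[X] := (EE A A[X]).obj K
  let eL : L ≅ (singleFunctor (ModuleCat.{u} A[X]) 0).obj
      ((ModuleCat.extendScalars.{u, u, u} (algebraMap A A[X])).obj (ModuleCat.of A E)) :=
    EEsingleIso A[X] (ModuleCat.of A E)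
  haveI : L.IsGE 0 := DerivedCategory.TStructure.t.isGE_of_iso eL.symm 0
  haveI : L.IsLE 0 := DerivedCategory.TStructure.t.isLE_of_iso eL.symm 0
  haveI : L.IsLE 1 := (TStructure.t (C := ModuleCat.{u} A[X])).isLE_of_le L 0 1 (by norm_num)
  obtain ⟨I, hI, hz, ⟨e⟩⟩ := exists_injective_model_of_cyclic L 0 1 (by norm_num) (fun J φ => by
    haveI : Module.Finite A[X] (ModuleCat.of A[X] (A[X] ⧸ J)) :=
      inferInstanceAs (Module.Finite A[X] (A[X] ⧸ J))
    exact PB_polynomial K 0 0 hPB (ModuleCat.of A[X] (A[X] ⧸ J)) (1 + 1) (by norm_num) φ)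
  refine ⟨I, hz, fun j => (Module.injective_iff_injective_object A[X] (I.X j)).2 (hI j),
    ⟨e ≪≫ eL ≪≫ (singleFunctor (ModuleCat.{u} A[X]) 0).mapIso
      (LinearEquiv.toModuleIso (X₂ := ModuleCat.of A[X] (A[X] ⊗[A] E)) ?_)⟩⟩
  exact ExtSc.extendObjEquiv (B := A[X]) (ModuleCat.of A E)

end Groth.Agent.Lib.helper23.PolyInj
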