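import Mathlib
import Groth.Prelude.Def_Wider
import Groth.Prelude.Def_DDual2
import Groth.Agent.Lib.Helper23.ExtSc2

/-!
# helper23: the exact sequence `0 → R[X] ⊗ M --X--> R[X] ⊗ M → M → 0` of `R[X]`-modules,
naturally in the `R`-module `M` (module level; for S6982)
-/

set_option autoImplicit false
universe u
open CategoryTheory CategoryTheory.Limits TensorProduct Polynomial

namespace Groth.Agent.Lib.helper23.PolyZero

variable {R : Type u} [CommRing R]

section Tensor

variable (M : Type u) [AddCommGroup M] [Module R M]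

/-- `divX` as an `R`-linear map. -/
noncomputable def divXLin : R[X] →ₗ[R] R[X] where
  toFun := Polynomial.divX
  map_add' _ _ := Polynomial.divX_add
  map_smul' r p := by
    rw [RingHom.id_apply, Polynomial.smul_eq_C_mul, Polynomial.divX_C_mul,
      ← Polynomial.smul_eq_C_mul]

lemma divX_X_mul (p : R[X]) : Polynomial.divX (X * p) = p := by
  ext n
  rw [Polynomial.coeff_divX, Polynomial.coeff_X_mul]

/-- the retraction of multiplication by `X`. -/
noncomputable def ρ : R[X] ⊗[R] M →ₗ[R] R[X] ⊗[R] M := LinearMap.rTensor M divXLin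

/-- evaluation at zero `R[X] ⊗ M → M`. -/
noncomputable def ε₀ : R[X] ⊗[R] M →ₗ[R] M :=
  TensorProduct.lift ((LinearMap.lsmul R M).comp (Polynomial.lcoeff R 0))

@[simp] lemma ε₀_tmul (p : R[X]) (m : M) : ε₀ M (p ⊗ₜ m) = p.coeff 0 • m := rfl

@[simp] lemma ρ_tmul (p : R[X]) (m : M) : ρ M (p ⊗ₜ m) = Polynomial.divX p ⊗ₜ m := rfl

lemma ρ_X_smul (t : R[X] ⊗[R] M) : ρ M ((X : R[X]) • t) = t := by
  induction t using TensorProduct.induction_on with
  | zero => rw [smul_zero, map_zero]
  | tmul p m => rw [TensorProduct.smul_tmul', ρ_tmul, smul_eq_mul, divX_X_mul]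
  | add x y hx hy => rw [smul_add, map_add, hx, hy]

lemma ε₀_smul (p : R[X]) (t : R[X] ⊗[R] M) : ε₀ M (p • t) = p.coeff 0 • ε₀ M t := by
  induction t using TensorProduct.induction_on with
  | zero => rw [smul_zero, map_zero, smul_zero]
  | tmul q m =>
    rw [TensorProduct.smul_tmul', ε₀_tmul, ε₀_tmul, smul_eq_mul, Polynomial.mul_coeff_zero,
      mul_smul]
  | add x y hx hy => rw [smul_add, map_add, hx, hy, map_add, smul_add]

lemma ε₀_X_smul (t : R[X] ⊗[R] M) : ε₀ M ((X : R[X]) • t) = 0 := by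
  rw [ε₀_smul, Polynomial.coeff_X_zero, zero_smul]

lemma eq_X_smul_add (t : R[X] ⊗[R] M) :
    t = (X : R[X]) • ρ M t + (1 : R[X]) ⊗ₜ[R] ε₀ M t := by
  induction t using TensorProduct.induction_on with
  | zero => rw [map_zero, map_zero, smul_zero, TensorProduct.tmul_zero, add_zero]
  | tmul p m =>
    rw [ρ_tmul, ε₀_tmul, TensorProduct.smul_tmul', smul_eq_mul, TensorProduct.tmul_smul,
      TensorProduct.smul_tmul', ← TensorProduct.add_tmul]
    congr 1
    conv_lhs => rw [← Polynomial.X_mul_divX_add p]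
    congr 1
    rw [Polynomial.smul_eq_C_mul, mul_one]
  | add x y hx hy =>
    rw [map_add, map_add, smul_add, TensorProduct.tmul_add]
    conv_lhs => rw [hx, hy]
    abel

end Tensor

section Cat

variable (M : ModuleCat.{u} R)

/-- extension of scalars `R → R[X]`. -/
noncomputable abbrev E : ModuleCat.{u} R ⥤ ModuleCat.{u} R[X] :=
  ModuleCat.extendScalars.{u, u, u} (algebraMap R R[X])

/-- restriction of scalars along `X ↦ 0`. -/
noncomputable abbrev G : ModuleCat.{u} R ⥤ ModuleCat.{u} R[X] :=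
  ModuleCat.restrictScalars.{u} (Polynomial.evalRingHom (0 : R))

/-- the `R[X]`-linear equivalence with the standard tensor product. -/
noncomputable abbrev e : (E.obj M) ≃ₗ[R[X]] (R[X] ⊗[R] M) := ExtSc.extendObjEquiv (B := R[X]) M

/-- the underlying `R[X]`-linear map of `ev0`. -/
noncomputable def ev0Lin : (E (R := R)).obj M →ₗ[R[X]] (G (R := R)).obj M where
  toFun := fun z => (ε₀ M (e M z) : M)
  map_add' := fun x y => by
    have h : ε₀ M (e M (x + y)) = ε₀ M (e M x) + ε₀ M (e M y) := by rw [map_add, map_add]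
    exact h
  map_smul' := fun p z => by
    have h : ε₀ M (e M (p • z)) = (Polynomial.evalRingHom (0 : R) p) • (ε₀ M (e M z)) := by
      rw [map_smul, ε₀_smul, Polynomial.coeff_zero_eq_eval_zero]
      rfl
    exact h

/-- evaluation at zero as a morphism of `R[X]`-modules. -/
noncomputable def ev0 : (E (R := R)).obj M ⟶ (G (R := R)).obj M :=
  ModuleCat.ofHom (X := ↑((E (R := R)).obj M)) (Y := ↑((G (R := R)).obj M)) (ev0Lin M)

lemma ev0_apply (z : (E (R := R)).obj M) :
    ((ev0 M).hom z : M) = ε₀ M (e M z) := rfl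

lemma ev0_surjective : Function.Surjective (ev0 M).hom := by
  intro m
  let m' : M := m
  refine ⟨(e M).symm ((1 : R[X]) ⊗ₜ[R] m'), ?_⟩
  have h : ε₀ M (e M ((e M).symm ((1 : R[X]) ⊗ₜ[R] m'))) = m' := by
    rw [LinearEquiv.apply_symm_apply, ε₀_tmul, Polynomial.coeff_one_zero, one_smul]
  exact h

lemma mulX_apply (z : (E (R := R)).obj M) :
    ((X : R[X]) • 𝟙 ((E (R := R)).obj M)).hom z = (X : R[X]) • z := rfl

lemma mulX_injective :
    Function.Injective ((X : R[X]) • 𝟙 ((E (R := R)).obj M)).hom := by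
  intro z z' h
  rw [mulX_apply, mulX_apply] at h
  have h2 := congrArg (fun t => ρ M (e M t)) h
  simp only [map_smul, ρ_X_smul] at h2
  exact (e M).injective h2

lemma mulX_ev0 : ((X : R[X]) • 𝟙 ((E (R := R)).obj M)) ≫ ev0 M = 0 := by
  apply ModuleCat.hom_ext
  apply LinearMap.ext
  intro z
  have h : ε₀ M (e M ((X : R[X]) • z)) = 0 := by rw [map_smul, ε₀_X_smul]
  exact h

lemma exact_mulX_ev0 :
    Function.Exact ((X : R[X]) • 𝟙 ((E (R := R)).obj M)).hom (ev0 M).hom := by
  intro z
  constructor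
  · intro hz
    have hz' : ε₀ M (e M z) = 0 := hz
    refine ⟨(e M).symm (ρ M (e M z)), ?_⟩
    rw [mulX_apply]
    apply (e M).injective
    rw [map_smul, LinearEquiv.apply_symm_apply]
    conv_rhs => rw [eq_X_smul_add M (e M z), hz', TensorProduct.tmul_zero, add_zero]
  · rintro ⟨y, rfl⟩
    exact congrArg (fun k => k.hom y) (mulX_ev0 M)

lemma e_map {M M' : ModuleCat.{u} R} (f : M ⟶ M') (t : R[X] ⊗[R] M) :
    e M' (((E (R := R)).map f).hom ((e M).symm t)) = LinearMap.lTensor R[X] f.hom t := by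
  induction t using TensorProduct.induction_on with
  | zero => rw [map_zero, map_zero, map_zero, map_zero]
  | tmul p m => rfl
  | add x y hx hy => rw [map_add, map_add, map_add, hx, hy, map_add]

lemma ε₀_lTensor {M M' : Type u} [AddCommGroup M] [Module R M] [AddCommGroup M'] [Module R M']
    (f : M →ₗ[R] M') (t : R[X] ⊗[R] M) : ε₀ M' (LinearMap.lTensor R[X] f t) = f (ε₀ M t) := by
  induction t using TensorProduct.induction_on with
  | zero => rw [map_zero, map_zero, map_zero, map_zero]
  | tmul p m => rw [LinearMap.lTensor_tmul, ε₀_tmul, ε₀_tmul, map_smul]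
  | add x y hx hy => rw [map_add, map_add, hx, hy, map_add, map_add]

/-- `ev0` is natural. -/
noncomputable def ev0Nat : (E (R := R)) ⟶ (G (R := R)) where
  app M := ev0 M
  naturality M M' f := by
    apply ModuleCat.hom_ext
    apply LinearMap.ext
    intro z
    have h : ε₀ M' (e M' (((E (R := R)).map f).hom z)) = f.hom (ε₀ M (e M z)) := by
      obtain ⟨t, rfl⟩ := (e M).symm.surjective z
      rw [e_map, ε₀_lTensor, LinearEquiv.apply_symm_apply]
    exact h

end Cat

end Groth.Agent.Lib.helper23.PolyZero
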