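import Mathlib
import Groth.Prelude.Def_Wider
import Groth.Prelude.Def_DDual2
import Groth.Agent.Lib.Helper23.PolyZero1
import Groth.Agent.Lib.Helper23.FlatBC1
import Groth.Agent.Lib.Helper23.Kz5
import Groth.Agent.Lib.Helper23.RAdj2
import Groth.Agent.Lib.Helper13.RKF2

/-!
# helper23: `LBaseChange (X ↦ 0) (restrictD (X ↦ 0) K) ≅ K ⊞ K⟦1⟧` (S6982)
-/

set_option autoImplicit false
universe u
open CategoryTheory CategoryTheory.Limits DerivedCategory Pretriangulated TensorProduct Polynomial

attribute [local instance] HasDerivedCategory.standard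

namespace Groth.Agent.Lib.helper23.PolyZero

variable {R : Type u} [CommRing R]

section Cx

/-- the short complex of cochain complexes `E M --X--> E M → G M`. -/
noncomputable def sesCx (M : CochainComplex (ModuleCat.{u} R) ℤ) :
    ShortComplex (CochainComplex (ModuleCat.{u} R[X]) ℤ) :=
  ShortComplex.mk
    ((X : R[X]) • 𝟙 (((E (R := R)).mapHomologicalComplex (ComplexShape.up ℤ)).obj M))
    ((NatTrans.mapHomologicalComplex (ev0Nat (R := R)) (ComplexShape.up ℤ)).app M) (by
      ext i : 1
      exact mulX_ev0 (M.X i))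

lemma sesCx_shortExact (M : CochainComplex (ModuleCat.{u} R) ℤ) : (sesCx M).ShortExact := by
  refine HomologicalComplex.shortExact_of_degreewise_shortExact _ (fun i => ?_)
  exact
    { exact := (ShortComplex.ShortExact.moduleCat_exact_iff_function_exact _).2
        (exact_mulX_ev0 (M.X i))
      mono_f := (ModuleCat.mono_iff_injective _).2 (mulX_injective (M.X i))
      epi_g := (ModuleCat.epi_iff_surjective _).2 (ev0_surjective (M.X i)) }

end Cx

section Adj

variable {A B : Type u} [CommRing A] [CommRing B] (φ : A →+* B)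
  {F : Dual.D A ⥤ Dual.D B} (adj : F ⊣ DRing.restrictD φ)

include adj in
/-- a left adjoint of restriction of scalars is semilinear. -/
lemma leftAdjoint_map_smul_id (Y : Dual.D A) (a : A) :
    F.map (a • 𝟙 Y) = φ a • 𝟙 (F.obj Y) := by
  apply (adj.homEquiv Y (F.obj Y)).injective
  rw [adj.homEquiv_unit, adj.homEquiv_unit, RAdj.restrictD_map_smul_id]
  have h := adj.unit.naturality (a • 𝟙 Y)
  simp only [Functor.id_obj, Functor.id_map, Functor.comp_obj, Functor.comp_map] at h
  have h2 : adj.unit.app Y ≫ (a • 𝟙 ((DRing.restrictD φ).obj (F.obj Y))) = a • adj.unit.app Y := by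
    rw [Linear.comp_smul]
    erw [Category.comp_id]
  rw [← h, Linear.smul_comp, Category.id_comp]
  exact h2.symm

end Adj

section Main

variable (R)

/-- `algebraMap R R[X]`, then `X ↦ 0`, is the identity. -/
lemma eval_comp_algebraMap :
    (Polynomial.evalRingHom (0 : R)).comp (algebraMap R R[X]) = RingHom.id R := by
  ext r
  simp

attribute [local instance] FlatBC.preservesFiniteLimits_extendScalars_algebraMap in
/-- `LBaseChange (X ↦ 0)` of the extension of scalars to `R[X]` is the identity. -/
theorem nonempty_extD_comp_iso {F : Dual.D R[X] ⥤ Dual.D R}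
    (adj : F ⊣ DRing.restrictD (Polynomial.evalRingHom (0 : R))) :
    Nonempty (FlatBC.extD (algebraMap R R[X]) ⋙ F ≅ 𝟭 (Dual.D R)) := by
  haveI := Groth.Agent.Lib.helper13.RKF.hasLBaseChange (algebraMap R R[X])
  obtain ⟨adj', -⟩ := Groth.Agent.Lib.helper13.RKF.exists_adjunction (algebraMap R R[X])
  let adjE : FlatBC.extD (algebraMap R R[X]) ⊣ DRing.restrictD (algebraMap R R[X]) :=
    adj'.ofNatIsoLeft (FlatBC.lbcIso (algebraMap R R[X]))
  let iso : DRing.restrictD (Polynomial.evalRingHom (0 : R)) ⋙
      DRing.restrictD (algebraMap R R[X]) ≅ 𝟭 (Dual.D R) :=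
    Kz.restrictDCompIso (algebraMap R R[X]) (Polynomial.evalRingHom (0 : R)) _ rfl ≪≫
      Kz.restrictDIdIso _ (eval_comp_algebraMap R)
  exact ⟨((adjE.comp adj).ofNatIsoRight iso).leftAdjointUniq Adjunction.id⟩

attribute [local instance] FlatBC.preservesFiniteLimits_extendScalars_algebraMap in
theorem nonempty_iso_biprod [DRing.HasLBaseChange (Polynomial.evalRingHom (0 : R))]
    (K : Dual.D R) [HasBinaryBiproduct K ((shiftFunctor (Dual.D R) (1 : ℤ)).obj K)] :
    Nonempty ((DRing.LBaseChange (Polynomial.evalRingHom (0 : R))).obj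
        ((DRing.restrictD (Polynomial.evalRingHom (0 : R))).obj K) ≅
      K ⊞ (shiftFunctor (Dual.D R) (1 : ℤ)).obj K) := by
  obtain ⟨adj, -⟩ := Groth.Agent.Lib.helper13.RKF.exists_adjunction
    (Polynomial.evalRingHom (0 : R))
  set F := DRing.LBaseChange (Polynomial.evalRingHom (0 : R)) with hF
  letI : F.CommShift ℤ := adj.leftAdjointCommShift ℤ
  haveI : adj.CommShift ℤ := adj.commShift_of_rightAdjoint ℤ
  haveI : F.IsTriangulated := adj.isTriangulated_leftAdjoint
  obtain ⟨θ⟩ := nonempty_extD_comp_iso R adj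
  -- a complex representing `K`
  let M : CochainComplex (ModuleCat.{u} R) ℤ := Q.objPreimage K
  let eK : Q.obj M ≅ K := Q.objObjPreimageIso K
  have hS := sesCx_shortExact M
  have hT := triangleOfSES_distinguished hS
  have hT' := rot_of_distTriang _ (F.map_distinguished _ hT)
  have hzero : ((F.mapTriangle.obj (triangleOfSES hS)).rotate).mor₃ = 0 := by
    have h1 : Q.map ((X : R[X]) •
        𝟙 (((E (R := R)).mapHomologicalComplex (ComplexShape.up ℤ)).obj M)) =
        (X : R[X]) • 𝟙 (Q.obj (((E (R := R)).mapHomologicalComplex (ComplexShape.up ℤ)).obj M)) := by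
      rw [Functor.map_smul, CategoryTheory.Functor.map_id]
    have h2 : F.map (triangleOfSES hS).mor₁ = 0 := by
      have h3 : F.map (Q.map ((X : R[X]) •
          𝟙 (((E (R := R)).mapHomologicalComplex (ComplexShape.up ℤ)).obj M))) = 0 := by
        rw [h1, leftAdjoint_map_smul_id _ adj]
        have : (Polynomial.evalRingHom (0 : R)) (X : R[X]) = 0 := by simp
        rw [this, zero_smul]
      exact h3
    show -(F.map (triangleOfSES hS).mor₁)⟦(1 : ℤ)⟧' = 0
    rw [h2, Functor.map_zero, neg_zero]
  obtain ⟨e, -, -⟩ := exists_iso_binaryBiproduct_of_distTriang _ hT' hzero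
  -- identify the vertices
  let a : F.obj (Q.obj (((E (R := R)).mapHomologicalComplex (ComplexShape.up ℤ)).obj M)) ≅ K :=
    F.mapIso (((E (R := R)).mapDerivedCategoryFactors.app M).symm ≪≫
      (FlatBC.extD (algebraMap R R[X])).mapIso eK) ≪≫ θ.app K
  let b : F.obj ((DRing.restrictD (Polynomial.evalRingHom (0 : R))).obj K) ≅
      F.obj (Q.obj (((G (R := R)).mapHomologicalComplex (ComplexShape.up ℤ)).obj M)) :=
    F.mapIso ((DRing.restrictD (Polynomial.evalRingHom (0 : R))).mapIso eK.symm ≪≫
      (G (R := R)).mapDerivedCategoryFactors.app M)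
  exact ⟨b ≪≫ e ≪≫ biprod.mapIso a ((shiftFunctor (Dual.D R) (1 : ℤ)).mapIso a)⟩

end Main

end Groth.Agent.Lib.helper23.PolyZero
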