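import Mathlib
import Groth.Prelude.Def_DRing4
import Groth.Agent.Lib.Helper13.RGam4
import Groth.Agent.Lib.Helper23.RHomEx
import Groth.Agent.Lib.Helper25.DerBC
import Groth.Agent.Lib.Helper19.DHomLinear

/-!
# Uniform torsion of morphisms into complexes with torsion cohomology (helper23)

`exists_pow_kill`: `A` Noetherian, `N` a bounded complex of finite modules, `W` a bounded below
complex with `I`-power torsion cohomology, `φ : Q N ⟶ Q W`. Then there is `c` such that
`Q ι ≫ φ = 0` for every chain map `ι : N' ⟶ N` with termwise image in `I ^ c • ⊤`.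
-/

set_option autoImplicit false
universe u
open CategoryTheory CategoryTheory.Limits DerivedCategory

attribute [local instance] HasDerivedCategory.standard

namespace Groth.Agent.Lib.helper23.ProKos

open Groth.Agent.Lib.helper13.RGam

variable {A : Type u} [CommRing A]

/-- a linear map from a finite module to the `I`-power torsion of a module kills `I ^ c • ⊤`. -/
lemma exists_pow_kill_module (I : Ideal A) (M E : Type u) [AddCommGroup M] [Module A M]
    [Module.Finite A M] [AddCommGroup E] [Module A E] (ψ : M →ₗ[A] DRing.torsionSub I E) :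
    ∃ c : ℕ, ∀ y ∈ I ^ c • (⊤ : Submodule A M), ψ y = 0 := by
  classical
  obtain ⟨s, hs⟩ := (Module.finite_def.1 (inferInstance : Module.Finite A M))
  have h1 : ∀ x : M, ∃ n : ℕ, ∀ a ∈ I ^ n, a • ψ x = 0 := by
    intro x
    obtain ⟨n, hn⟩ := (ψ x).2
    refine ⟨n, fun a ha => Subtype.ext ?_⟩
    exact hn a ha
  choose n hn using h1
  refine ⟨s.sup n, ?_⟩
  have h2 : ∀ x ∈ Submodule.span A (s : Set M), ∀ a ∈ I ^ (s.sup n), a • ψ x = 0 := by
    intro x hx
    induction hx using Submodule.span_induction with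
    | mem x hx =>
      intro a ha
      exact hn x a (Ideal.pow_le_pow_right (Finset.le_sup hx) ha)
    | zero => intro a _; rw [map_zero, smul_zero]
    | add x y _ _ hx hy =>
      intro a ha
      rw [map_add, smul_add, hx a ha, hy a ha, add_zero]
    | smul r x _ hx =>
      intro a ha
      rw [map_smul, smul_comm, hx a ha, smul_zero]
  intro y hy
  refine Submodule.smul_induction_on hy (fun r hr x _ => ?_) (fun x y hx hy => ?_)
  · rw [map_smul]
    exact h2 x (by rw [hs]; trivial) r hr
  · rw [map_add, hx, hy, add_zero]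

variable [IsNoetherianRing A]

/-- **KEY** (core form): uniform torsion of morphisms from a bounded complex of finite modules to a
bounded below complex whose cohomology is `f`-power torsion for each `f` in a list `fs`. -/
theorem exists_pow_kill_list (fs : List A) (N W : DRing.Cx A) (a b : ℤ)
    (hN : ∀ j, (j < a ∨ b < j) → IsZero (N.X j)) (hNf : ∀ j, Module.Finite A (N.X j))
    (w : ℤ) [W.IsStrictlyGE w]
    (hW : ∀ f ∈ fs, ∀ i : ℤ,
      LocCoh.IsPowerTorsion (Ideal.span {f}) (Dual.HD A (Q.obj W) i))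
    (φ : Q.obj N ⟶ Q.obj W) :
    ∃ c : ℕ, ∀ (N' : DRing.Cx A) (ι : N' ⟶ N),
      (∀ (j : ℤ) (x : N'.X j), (ι.f j).hom x ∈
        (Ideal.span {x : A | x ∈ fs}) ^ c • (⊤ : Submodule A (N.X j))) →
        Q.map ι ≫ φ = 0 := by
  classical
  set I : Ideal A := Ideal.span {x : A | x ∈ fs} with hI
  obtain ⟨E, ιE, hqi, hinj, hge⟩ :=
    CochainComplex.Plus.modelCategoryQuillen.exists_quasiIso_injective W w
  haveI := hqi
  haveI := hinj
  haveI := hge
  haveI : IsIso (Q.map ιE) := by
    rw [isIso_Q_map_iff_quasiIso]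
    infer_instance
  have hE : ∀ f ∈ fs, ∀ i : ℤ,
      LocCoh.IsPowerTorsion (Ideal.span {f}) (Dual.HD A (Q.obj E) i) := by
    intro f hf i m
    let ei := (DerivedCategory.homologyFunctor (ModuleCat.{u} A) i).mapIso (asIso (Q.map ιE))
    obtain ⟨k, hk⟩ := hW f hf i (ei.inv.hom m)
    refine ⟨k, fun r hr => ?_⟩
    have h1 := hk r hr
    rw [← map_smul] at h1
    have hinj' : Function.Injective ei.inv.hom :=
      ((ConcreteCategory.isIso_iff_bijective ei.inv).1 inferInstance).1
    exact hinj' (h1.trans (map_zero _).symm)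
  have hqΓ : QuasiIso (inclΓ I E) := by
    refine quasiIso_inclΓ_of_torsH fs E
      (fun n => Module.injective_module_of_injective_object A (E.X n))
      (fun f hf => ?_)
    haveI : DRing.HasRgammaI (Ideal.span {f}) :=
      Groth.Agent.Lib.Helper25.DerBC.hasRightDerivedFunctor
        (Groth.Agent.Lib.helper23.RHomEx.hKinj A) (DRing.gammaIKh (Ideal.span {f}))
    exact torsH_of_isPowerTorsion (Ideal.span {f}) E f (Ideal.mem_span_singleton_self f)
      (hE f hf)
  haveI := hqΓ
  haveI : IsIso (Q.map (inclΓ I E)) := by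
    rw [isIso_Q_map_iff_quasiIso]
    infer_instance
  haveI : (ΓC I E).IsStrictlyGE w := by
    rw [CochainComplex.isStrictlyGE_iff]
    intro j hj
    exact (DRing.gammaI I).map_isZero (CochainComplex.isZero_of_isStrictlyGE E w j hj)
  haveI : ∀ n, Injective ((ΓC I E).X n) := fun n => injective_ΓC_X I E hinj n
  haveI : (ΓC I E).IsKInjective := CochainComplex.isKInjective_of_injective (ΓC I E) w
  let φ' : Q.obj N ⟶ Q.obj (ΓC I E) := φ ≫ Q.map ιE ≫ inv (Q.map (inclΓ I E))
  obtain ⟨h, hh⟩ := (CochainComplex.IsKInjective.Qh_map_bijective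
    ((HomotopyCategory.quotient _ _).obj N) (ΓC I E)).2 φ'
  obtain ⟨ψ, rfl⟩ := (HomotopyCategory.quotient _ _).map_surjective h
  have hψ : Q.map ψ = φ' := hh
  have key : ∀ j : ℤ, ∃ c : ℕ, ∀ y ∈ I ^ c • (⊤ : Submodule A (N.X j)), (ψ.f j).hom y = 0 := by
    intro j
    haveI := hNf j
    exact exists_pow_kill_module I (N.X j) (E.X j) (ψ.f j).hom
  choose c hc using key
  refine ⟨(Finset.Icc a b).sup c, fun N' ι hι => ?_⟩
  have h0 : ι ≫ ψ = 0 := by
    apply HomologicalComplex.hom_ext
    intro j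
    by_cases hj : a ≤ j ∧ j ≤ b
    · apply ModuleCat.hom_ext
      apply LinearMap.ext
      intro x
      have h1 := hι j x
      have h2 : c j ≤ (Finset.Icc a b).sup c := Finset.le_sup (Finset.mem_Icc.2 hj)
      exact hc j _ (Submodule.smul_mono_left (Ideal.pow_le_pow_right h2) h1)
    · have hz : IsZero (N.X j) := hN j (by omega)
      rw [HomologicalComplex.comp_f, hz.eq_of_tgt (ι.f j) 0, zero_comp]
      rfl
  have h3 : Q.map ι ≫ φ' = 0 := by
    rw [← hψ, ← Functor.map_comp, h0, Functor.map_zero]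
  have h4 : φ = φ' ≫ Q.map (inclΓ I E) ≫ inv (Q.map ιE) := by
    simp [φ']
  rw [h4, reassoc_of% h3, zero_comp]

/-- **KEY**: the target has its identity killed by a power of each `f ∈ fs`. -/
theorem exists_pow_kill (fs : List A) (N W : DRing.Cx A) (a b : ℤ)
    (hN : ∀ j, (j < a ∨ b < j) → IsZero (N.X j)) (hNf : ∀ j, Module.Finite A (N.X j))
    (w : ℤ) [W.IsStrictlyGE w]
    (hW : ∀ f ∈ fs, ∃ k : ℕ, f ^ k • 𝟙 (Q.obj W) = 0)
    (φ : Q.obj N ⟶ Q.obj W) :
    ∃ c : ℕ, ∀ (N' : DRing.Cx A) (ι : N' ⟶ N),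
      (∀ (j : ℤ) (x : N'.X j), (ι.f j).hom x ∈
        (Ideal.span {x : A | x ∈ fs}) ^ c • (⊤ : Submodule A (N.X j))) →
        Q.map ι ≫ φ = 0 := by
  refine exists_pow_kill_list fs N W a b hN hNf w (fun f hf i m => ?_) φ
  obtain ⟨k, hk⟩ := hW f hf
  refine ⟨k, fun r hr => ?_⟩
  rw [Ideal.span_singleton_pow, Ideal.mem_span_singleton'] at hr
  obtain ⟨s, rfl⟩ := hr
  have h1 : (DerivedCategory.homologyFunctor (ModuleCat.{u} A) i).map
      (f ^ k • 𝟙 (Q.obj W)) = 0 := by rw [hk, Functor.map_zero]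
  rw [Functor.map_smul, CategoryTheory.Functor.map_id] at h1
  have h2 : f ^ k • m = 0 := by
    have h3 := congrArg (fun t => t.hom m) h1
    exact h3
  rw [mul_smul, h2, smul_zero]

end Groth.Agent.Lib.helper23.ProKos
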