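import Mathlib
import Groth.Prelude.Def_DRing4

/-!
# `K ⊗ -` preserves degreewise split short exact sequences of complexes (helper23)
-/

set_option autoImplicit false
universe u
open CategoryTheory CategoryTheory.Limits HomologicalComplex MonoidalCategory

namespace Groth.Agent.Lib.helper23.ProKos

variable {A : Type u} [CommRing A] (K : DRing.Cx A)

@[reassoc]
lemma ι_whiskerLeft_f {L L' : DRing.Cx A} (g : L ⟶ L') (i₁ i₂ j : ℤ)
    (h : ComplexShape.π (ComplexShape.up ℤ) (ComplexShape.up ℤ) (ComplexShape.up ℤ) (i₁, i₂) = j) :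
    ιTensorObj K L i₁ i₂ j h ≫ (K ◁ g).f j =
      (K.X i₁ ◁ g.f i₂) ≫ ιTensorObj K L' i₁ i₂ j h := by
  have := ι_mapBifunctorMap (𝟙 K) g (curriedTensor (ModuleCat.{u} A)) (ComplexShape.up ℤ)
    i₁ i₂ j h
  simp only [HomologicalComplex.id_f, CategoryTheory.Functor.map_id, NatTrans.id_app,
    Category.id_comp] at this
  exact this

lemma whiskerLeft_add' {L L' : DRing.Cx A} (f g : L ⟶ L') : K ◁ (f + g) = K ◁ f + K ◁ g := by
  apply HomologicalComplex.hom_ext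
  intro j
  apply mapBifunctor.hom_ext
  intro i₁ i₂ h
  rw [HomologicalComplex.add_f_apply, Preadditive.comp_add]
  erw [ι_whiskerLeft_f, ι_whiskerLeft_f, ι_whiskerLeft_f]
  rw [HomologicalComplex.add_f_apply, MonoidalPreadditive.whiskerLeft_add, Preadditive.add_comp]

lemma whiskerLeft_smul' {L L' : DRing.Cx A} (r : A) (f : L ⟶ L') :
    K ◁ (r • f) = r • (K ◁ f) := by
  apply HomologicalComplex.hom_ext
  intro j
  apply mapBifunctor.hom_ext
  intro i₁ i₂ h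
  rw [HomologicalComplex.smul_f_apply, Linear.comp_smul]
  erw [ι_whiskerLeft_f, ι_whiskerLeft_f]
  rw [HomologicalComplex.smul_f_apply, MonoidalLinear.whiskerLeft_smul, Linear.smul_comp]

instance tensorLeft_additive : (tensorLeft K).Additive where
  map_add := whiskerLeft_add' K _ _

instance tensorLeft_linear : (tensorLeft K).Linear A where
  map_smul f r := whiskerLeft_smul' K r f

variable (S : ShortComplex (DRing.Cx A))
  (σ : ∀ n, (S.map (eval (ModuleCat.{u} A) (ComplexShape.up ℤ) n)).Splitting)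

/-- the retraction of the splitting, with its natural type. -/
def σr (i : ℤ) : S.X₂.X i ⟶ S.X₁.X i := (σ i).r

/-- the section of the splitting, with its natural type. -/
def σs (i : ℤ) : S.X₃.X i ⟶ S.X₂.X i := (σ i).s

lemma σ_f_r (i : ℤ) : S.f.f i ≫ σr S σ i = 𝟙 _ := (σ i).f_r

lemma σ_s_g (i : ℤ) : σs S σ i ≫ S.g.f i = 𝟙 _ := (σ i).s_g

lemma σ_id (i : ℤ) : σr S σ i ≫ S.f.f i + S.g.f i ≫ σs S σ i = 𝟙 _ := (σ i).id

/-- the retraction in degree `j`. -/
noncomputable def tR (j : ℤ) : (K ⊗ S.X₂).X j ⟶ (K ⊗ S.X₁).X j :=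
  mapBifunctorDesc (fun i₁ i₂ h => (K.X i₁ ◁ σr S σ i₂) ≫ ιTensorObj K S.X₁ i₁ i₂ j h)

/-- the section in degree `j`. -/
noncomputable def tS (j : ℤ) : (K ⊗ S.X₃).X j ⟶ (K ⊗ S.X₂).X j :=
  mapBifunctorDesc (fun i₁ i₂ h => (K.X i₁ ◁ σs S σ i₂) ≫ ιTensorObj K S.X₂ i₁ i₂ j h)

@[reassoc]
lemma ι_tR (i₁ i₂ j : ℤ)
    (h : ComplexShape.π (ComplexShape.up ℤ) (ComplexShape.up ℤ) (ComplexShape.up ℤ) (i₁, i₂) = j) :
    ιTensorObj K S.X₂ i₁ i₂ j h ≫ tR K S σ j =
      (K.X i₁ ◁ σr S σ i₂) ≫ ιTensorObj K S.X₁ i₁ i₂ j h :=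
  ι_mapBifunctorDesc _ _ _ _

@[reassoc]
lemma ι_tS (i₁ i₂ j : ℤ)
    (h : ComplexShape.π (ComplexShape.up ℤ) (ComplexShape.up ℤ) (ComplexShape.up ℤ) (i₁, i₂) = j) :
    ιTensorObj K S.X₃ i₁ i₂ j h ≫ tS K S σ j =
      (K.X i₁ ◁ σs S σ i₂) ≫ ιTensorObj K S.X₂ i₁ i₂ j h :=
  ι_mapBifunctorDesc _ _ _ _

lemma f_tR (j : ℤ) : (K ◁ S.f).f j ≫ tR K S σ j = 𝟙 _ := by
  apply mapBifunctor.hom_ext
  intro i₁ i₂ h
  have h1 := σ_f_r S σ i₂
  rw [ι_whiskerLeft_f_assoc, ι_tR, ← whiskerLeft_comp_assoc, h1, whiskerLeft_id, Category.id_comp]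
  exact (Category.comp_id _).symm

lemma tS_g (j : ℤ) : tS K S σ j ≫ (K ◁ S.g).f j = 𝟙 _ := by
  apply mapBifunctor.hom_ext
  intro i₁ i₂ h
  have h1 := σ_s_g S σ i₂
  rw [ι_tS_assoc, ι_whiskerLeft_f, ← whiskerLeft_comp_assoc, h1, whiskerLeft_id, Category.id_comp]
  exact (Category.comp_id _).symm

lemma tR_f_add (j : ℤ) :
    tR K S σ j ≫ (K ◁ S.f).f j + (K ◁ S.g).f j ≫ tS K S σ j = 𝟙 _ := by
  apply mapBifunctor.hom_ext
  intro i₁ i₂ h
  have h1 := σ_id S σ i₂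
  rw [Preadditive.comp_add, ι_tR_assoc, ι_whiskerLeft_f, ι_whiskerLeft_f_assoc, ι_tS,
    ← whiskerLeft_comp_assoc, ← whiskerLeft_comp_assoc, ← Preadditive.add_comp,
    ← MonoidalPreadditive.whiskerLeft_add, h1, whiskerLeft_id, Category.id_comp]
  exact (Category.comp_id _).symm

/-- the induced splitting of `K ⊗ S` in degree `j`. -/
noncomputable def tensorSplitting (j : ℤ) :
    ((S.map (tensorLeft K)).map (eval (ModuleCat.{u} A) (ComplexShape.up ℤ) j)).Splitting where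
  r := tR K S σ j
  s := tS K S σ j
  f_r := f_tR K S σ j
  s_g := tS_g K S σ j
  id := tR_f_add K S σ j

include σ in
/-- `K ⊗ -` preserves degreewise split short exact sequences. -/
theorem shortExact_map_tensorLeft : (S.map (tensorLeft K)).ShortExact :=
  HomologicalComplex.shortExact_of_degreewise_shortExact _
    (fun j => (tensorSplitting K S σ j).shortExact)

end Groth.Agent.Lib.helper23.ProKos
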