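import Mathlib
import Groth.Prelude.Def_DRing4

/-!
# Koszul complexes as iterated mapping cones, with transition maps (helper23)

* `kos gs`: `𝟙_` for `[]`, `mappingCone (g • 𝟙 (kos gs))` for `g :: gs`;
* `kosU gs : 𝟙_ ⟶ kos gs`;
* `kosT m m' h gs : kos (gs.map (· ^ m')) ⟶ kos (gs.map (· ^ m))` for `m ≤ m'`;
* `kosHomotopy`: every `g ∈ gs` is null-homotopic on `kos gs`.
-/

set_option autoImplicit false
universe u
open CategoryTheory CategoryTheory.Limits HomologicalComplex MonoidalCategory CochainComplex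
open CochainComplex.HomComplex

namespace Groth.Agent.Lib.helper23.ProKos

variable {A : Type u} [CommRing A]

/-- Koszul complex of a list, by iterated mapping cones. -/
noncomputable def kos : List A → DRing.Cx A
  | [] => 𝟙_ (DRing.Cx A)
  | g :: gs => mappingCone (g • 𝟙 (kos gs))

/-- the unit map. -/
noncomputable def kosU : ∀ gs : List A, 𝟙_ (DRing.Cx A) ⟶ kos gs
  | [] => 𝟙 _
  | g :: gs => kosU gs ≫ mappingCone.inr (g • 𝟙 (kos gs))

lemma pow_comm_aux (g : A) (m m' : ℕ) (h : m ≤ m') {Y Y' : DRing.Cx A} (t : Y ⟶ Y') :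
    (g ^ m' • 𝟙 Y) ≫ t = (g ^ (m' - m) • t) ≫ (g ^ m • 𝟙 Y') := by
  rw [Linear.smul_comp, Linear.smul_comp, Linear.comp_smul, Category.id_comp, Category.comp_id,
    smul_smul, ← pow_add, Nat.sub_add_cancel h]

@[reassoc]
lemma inr_map {K₁ L₁ K₂ L₂ : DRing.Cx A} (φ₁ : K₁ ⟶ L₁) (φ₂ : K₂ ⟶ L₂) (a : K₁ ⟶ K₂)
    (b : L₁ ⟶ L₂) (comm : φ₁ ≫ b = a ≫ φ₂) :
    mappingCone.inr φ₁ ≫ mappingCone.map φ₁ φ₂ a b comm = b ≫ mappingCone.inr φ₂ :=
  (mappingCone.triangleMap φ₁ φ₂ a b comm).comm₂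

@[reassoc]
lemma map_δ {K₁ L₁ K₂ L₂ : DRing.Cx A} (φ₁ : K₁ ⟶ L₁) (φ₂ : K₂ ⟶ L₂) (a : K₁ ⟶ K₂)
    (b : L₁ ⟶ L₂) (comm : φ₁ ≫ b = a ≫ φ₂) :
    mappingCone.map φ₁ φ₂ a b comm ≫ (mappingCone.triangle φ₂).mor₃ =
      (mappingCone.triangle φ₁).mor₃ ≫ a⟦(1 : ℤ)⟧' :=
  (mappingCone.triangleMap φ₁ φ₂ a b comm).comm₃.symm

/-- the transition maps `K(g^m') ⟶ K(g^m)`. -/
noncomputable def kosT (m m' : ℕ) (h : m ≤ m') :
    ∀ gs : List A, kos (gs.map (· ^ m')) ⟶ kos (gs.map (· ^ m))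
  | [] => 𝟙 _
  | g :: gs => mappingCone.map (g ^ m' • 𝟙 (kos (gs.map (· ^ m'))))
      (g ^ m • 𝟙 (kos (gs.map (· ^ m)))) (g ^ (m' - m) • kosT m m' h gs) (kosT m m' h gs)
      (pow_comm_aux g m m' h _)

lemma kosT_refl (m : ℕ) : ∀ gs : List A, kosT m m le_rfl gs = 𝟙 _
  | [] => rfl
  | g :: gs => by
    have h1 := kosT_refl m gs
    show mappingCone.map _ _ (g ^ (m - m) • kosT m m le_rfl gs) (kosT m m le_rfl gs) _ = 𝟙 _
    simp only [h1, Nat.sub_self, pow_zero, one_smul]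
    exact mappingCone.map_id _

lemma kosT_comp (m m' m'' : ℕ) (h : m ≤ m') (h' : m' ≤ m'') :
    ∀ gs : List A, kosT m' m'' h' gs ≫ kosT m m' h gs = kosT m m'' (h.trans h') gs
  | [] => Category.comp_id _
  | g :: gs => by
    have h1 := kosT_comp m m' m'' h h' gs
    show mappingCone.map _ _ _ _ _ ≫ mappingCone.map _ _ _ _ _ = mappingCone.map _ _ _ _ _
    rw [← mappingCone.map_comp]
    congr 1
    rw [Linear.smul_comp, Linear.comp_smul, smul_smul, h1, ← pow_add]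
    congr 2
    omega

lemma kosU_kosT (m m' : ℕ) (h : m ≤ m') :
    ∀ gs : List A, kosU (gs.map (· ^ m')) ≫ kosT m m' h gs = kosU (gs.map (· ^ m))
  | [] => Category.comp_id _
  | g :: gs => by
    have h1 := kosU_kosT m m' h gs
    show (kosU (gs.map (· ^ m')) ≫ mappingCone.inr _) ≫ mappingCone.map _ _ _ _ _ =
      kosU (gs.map (· ^ m)) ≫ mappingCone.inr _
    rw [Category.assoc, inr_map, ← Category.assoc, h1]

lemma ofHom_smul {F G : DRing.Cx A} (r : A) (f : F ⟶ G) :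
    Cochain.ofHom (r • f) = r • Cochain.ofHom f := by
  ext p
  simp

/-- `g • 𝟙` is null-homotopic on the cone of `g • 𝟙`. -/
noncomputable def homotopyHead (g : A) (Y : DRing.Cx A) :
    Homotopy (g • 𝟙 (mappingCone (g • 𝟙 Y))) 0 :=
  mappingCone.descHomotopy (g • 𝟙 Y) _ _ 0 (mappingCone.inl _)
    (by simp [ofHom_smul, Cochain.comp_smul, Cochain.smul_comp])
    (by simp [ofHom_smul, Cochain.comp_smul, Cochain.smul_comp])

/-- a null-homotopy of `r • 𝟙 Y` induces one of `r • 𝟙` on the cone of `h • 𝟙 Y`. -/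
noncomputable def homotopyTail (r h : A) (Y : DRing.Cx A) (H : Homotopy (r • 𝟙 Y) 0) :
    Homotopy (r • 𝟙 (mappingCone (h • 𝟙 Y))) 0 :=
  mappingCone.descHomotopy (h • 𝟙 Y) _ _
    (-((Cochain.equivHomotopy _ _ H).1.comp (mappingCone.inl (h • 𝟙 Y))
      (show (-1 : ℤ) + (-1) = -2 by omega)))
    ((Cochain.equivHomotopy _ _ H).1.comp (Cochain.ofHom (mappingCone.inr (h • 𝟙 Y)))
      (add_zero _))
    (by
      have hz := (Cochain.equivHomotopy _ _ H).2
      simp only [Cochain.ofHom_zero, add_zero] at hz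
      simp [δ_comp _ _ (show (-1 : ℤ) + (-1) = -2 by omega) 0 0 (-1) (by omega) (by omega)
        (by omega), ← hz, ofHom_smul, Cochain.comp_smul, Cochain.smul_comp])
    (by
      have hz := (Cochain.equivHomotopy _ _ H).2
      simp only [Cochain.ofHom_zero, add_zero] at hz
      simp [← hz, ofHom_smul, Cochain.comp_smul, Cochain.smul_comp])

/-- every element of the list is null-homotopic on the Koszul complex. -/
theorem kosHomotopy : ∀ (gs : List A) (g : A), g ∈ gs → Nonempty (Homotopy (g • 𝟙 (kos gs)) 0)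
  | [], g, hg => by simp at hg
  | g' :: gs, g, hg => by
    rcases List.mem_cons.1 hg with h | h
    · subst h
      exact ⟨homotopyHead g (kos gs)⟩
    · obtain ⟨H⟩ := kosHomotopy gs g h
      exact ⟨homotopyTail g g' (kos gs) H⟩

/-- lower bound of the Koszul complex. -/
lemma isZero_kos_X : ∀ (gs : List A) (j : ℤ), j < -(gs.length : ℤ) → IsZero ((kos gs).X j)
  | [], j, hj => by
    have : j ≠ 0 := by
      simp at hj
      omega
    exact HomologicalComplex.isZero_single_obj_X (ComplexShape.up ℤ) 0 _ j this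
  | g :: gs, j, hj => by
    have h1 : IsZero ((kos gs).X j) := isZero_kos_X gs j (by simp at hj ⊢; omega)
    have h2 : IsZero ((kos gs).X (j + 1)) := isZero_kos_X gs (j + 1) (by simp at hj ⊢; omega)
    show IsZero ((mappingCone (g • 𝟙 (kos gs))).X j)
    rw [IsZero.iff_id_eq_zero]
    have := mappingCone.id_X (g • 𝟙 (kos gs)) j (j + 1) rfl
    rw [← this, h2.eq_of_tgt ((mappingCone.fst (g • 𝟙 (kos gs))).1.v j (j + 1) rfl) 0,
      h1.eq_of_tgt ((mappingCone.snd (g • 𝟙 (kos gs))).v j j (add_zero j)) 0, zero_comp, zero_comp,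
      add_zero]

end Groth.Agent.Lib.helper23.ProKos
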