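import Mathlib
import Groth.Prelude.Def_DRing4
import Groth.Agent.Lib.Helper23.ProKos2
import Groth.Agent.Lib.Helper23.ProKos3

/-!
# `K ⊗ Koszul`: torsion and the pro-monomorphism property (helper23)
-/

set_option autoImplicit false
universe u
open CategoryTheory CategoryTheory.Limits HomologicalComplex MonoidalCategory CochainComplex
open DerivedCategory Pretriangulated

attribute [local instance] HasDerivedCategory.standard

namespace Groth.Agent.Lib.helper23.ProKos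

variable {A : Type u} [CommRing A]

lemma Q_map_eq_zero_of_homotopy {X Y : DRing.Cx A} {f : X ⟶ Y} (H : Homotopy f 0) :
    Q.map f = 0 := by
  have h1 : (HomotopyCategory.quotient _ _).map f = (HomotopyCategory.quotient _ _).map 0 :=
    HomotopyCategory.eq_of_homotopy _ _ H
  have h2 : Q.map f = Qh.map ((HomotopyCategory.quotient _ _).map f) := rfl
  rw [h2, h1, Functor.map_zero]
  exact Functor.map_zero _ _ _

lemma whiskerLeft_zero' (K : DRing.Cx A) {L L' : DRing.Cx A} : K ◁ (0 : L ⟶ L') = 0 :=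
  (tensorLeft K).map_zero _ _

/-- every `g ∈ gs` kills `K ⊗ kos gs` in the derived category. -/
theorem smul_id_Q_tensor_kos (K : DRing.Cx A) (gs : List A) (g : A) (hg : g ∈ gs) :
    g • 𝟙 (Q.obj (K ⊗ kos gs)) = 0 := by
  obtain ⟨H⟩ := kosHomotopy gs g hg
  have H2 : Homotopy (K ◁ (g • 𝟙 (kos gs))) (K ◁ (0 : kos gs ⟶ kos gs)) :=
    mapBifunctorMapHomotopy₂ (𝟙 K) H (curriedTensor (ModuleCat.{u} A)) (ComplexShape.up ℤ)
  rw [whiskerLeft_zero', whiskerLeft_smul', whiskerLeft_id] at H2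
  have := Q_map_eq_zero_of_homotopy H2
  rwa [Functor.map_smul, CategoryTheory.Functor.map_id] at this

section Typed

/-- `inr` with its Koszul type. -/
noncomputable def kInr (m : ℕ) (g : A) (gs : List A) :
    kos (gs.map (· ^ m)) ⟶ kos ((g :: gs).map (· ^ m)) :=
  mappingCone.inr (g ^ m • 𝟙 (kos (gs.map (· ^ m))))

/-- the projection to the shifted complex, with its Koszul type. -/
noncomputable def kδ (m : ℕ) (g : A) (gs : List A) :
    kos ((g :: gs).map (· ^ m)) ⟶ (kos (gs.map (· ^ m)))⟦(1 : ℤ)⟧ :=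
  (mappingCone.triangle (g ^ m • 𝟙 (kos (gs.map (· ^ m))))).mor₃

lemma kosU_nil (m : ℕ) : kosU (([] : List A).map (· ^ m)) = 𝟙 (kos (([] : List A).map (· ^ m))) :=
  rfl

lemma kosU_cons (m : ℕ) (g : A) (gs : List A) :
    kosU ((g :: gs).map (· ^ m)) = kosU (gs.map (· ^ m)) ≫ kInr m g gs := rfl

lemma kInr_kosT (m m' : ℕ) (h : m ≤ m') (g : A) (gs : List A) :
    kInr m' g gs ≫ kosT m m' h (g :: gs) = kosT m m' h gs ≫ kInr m g gs :=
  inr_map _ _ _ _ _

lemma kosT_kδ (m m' : ℕ) (h : m ≤ m') (g : A) (gs : List A) :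
    kosT m m' h (g :: gs) ≫ kδ m g gs =
      kδ m' g gs ≫ (g ^ (m' - m) • kosT m m' h gs)⟦(1 : ℤ)⟧' :=
  map_δ _ _ _ _ _

variable (K : DRing.Cx A)

/-- the short exact sequence `K ⊗ Y ⟶ K ⊗ cone (h • 𝟙 Y) ⟶ K ⊗ Y⟦1⟧`. -/
theorem shortExact_tensor_cone (Y : DRing.Cx A) (h : A) :
    ((mappingCone.triangleRotateShortComplex (h • 𝟙 Y)).map (tensorLeft K)).ShortExact :=
  shortExact_map_tensorLeft K _ (mappingCone.triangleRotateShortComplexSplitting (h • 𝟙 Y))

/-- factorization through the third term of the triangle. -/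
lemma exists_factor_kδ (m : ℕ) (g : A) (gs : List A) {W : Dual.D A}
    (e : Q.obj (K ⊗ kos ((g :: gs).map (· ^ m))) ⟶ W)
    (he : Q.map (K ◁ kInr m g gs) ≫ e = 0) :
    ∃ ψ : Q.obj (K ⊗ (kos (gs.map (· ^ m)))⟦(1 : ℤ)⟧) ⟶ W,
      e = Q.map (K ◁ kδ m g gs) ≫ ψ := by
  have hT := triangleOfSES_distinguished
    (shortExact_tensor_cone K (kos (gs.map (· ^ m))) (g ^ m))
  exact Triangle.yoneda_exact₂ _ hT e he

end Typed

lemma shift_smul {X Y : DRing.Cx A} (r : A) (f : X ⟶ Y) (n : ℤ) :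
    (r • f)⟦n⟧' = r • f⟦n⟧' := by
  apply HomologicalComplex.hom_ext
  intro i
  rfl

/-- **pro-monomorphism property**: a morphism out of `K ⊗ kos` which vanishes on `K ⊗ 𝟙` is killed
by the transition maps. -/
theorem exists_kill_of_unit_comp_eq_zero (K : DRing.Cx A) (W : Dual.D A) (k : ℕ) :
    ∀ (gs : List A) (_ : ∀ g ∈ gs, g ^ k • 𝟙 W = 0) (m : ℕ)
      (e : Q.obj (K ⊗ kos (gs.map (· ^ m))) ⟶ W),
      Q.map (K ◁ kosU (gs.map (· ^ m))) ≫ e = 0 →
      ∃ c : ℕ, ∀ (m' : ℕ) (hm : m + c ≤ m'),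
        Q.map (K ◁ kosT m m' (le_trans (Nat.le_add_right m c) hm) gs) ≫ e = 0
  | [], _, m, e, he => by
    refine ⟨0, fun m' hm => ?_⟩
    have he' : e = 0 := by
      have h := he
      change Q.map (K ◁ 𝟙 (𝟙_ (DRing.Cx A))) ≫ _ = 0 at h
      rw [whiskerLeft_id, CategoryTheory.Functor.map_id] at h
      exact (Category.id_comp _).symm.trans h
    rw [he', comp_zero]
  | g :: gs, hW, m, e, he => by
    let e₁ : Q.obj (K ⊗ kos (gs.map (· ^ m))) ⟶ W := Q.map (K ◁ kInr m g gs) ≫ e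
    have he₁ : Q.map (K ◁ kosU (gs.map (· ^ m))) ≫ e₁ = 0 := by
      rw [kosU_cons, whiskerLeft_comp, Functor.map_comp, Category.assoc] at he
      exact he
    obtain ⟨c₁, hc₁⟩ := exists_kill_of_unit_comp_eq_zero K W k gs
      (fun g' hg' => hW g' (List.mem_cons_of_mem _ hg')) m e₁ he₁
    have hm₁ : m ≤ m + c₁ := Nat.le_add_right m c₁
    let e₂ : Q.obj (K ⊗ kos ((g :: gs).map (· ^ (m + c₁)))) ⟶ W :=
      Q.map (K ◁ kosT m (m + c₁) hm₁ (g :: gs)) ≫ e
    have he₂ : Q.map (K ◁ kInr (m + c₁) g gs) ≫ e₂ = 0 := by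
      show Q.map _ ≫ Q.map _ ≫ e = 0
      rw [← Category.assoc, ← Functor.map_comp, ← whiskerLeft_comp, kInr_kosT, whiskerLeft_comp,
        Functor.map_comp, Category.assoc]
      exact hc₁ (m + c₁) le_rfl
    obtain ⟨ψ, hψ⟩ := exists_factor_kδ K (m + c₁) g gs e₂ he₂
    refine ⟨c₁ + k, fun m' hm => ?_⟩
    have hm₁' : m + c₁ ≤ m' := by omega
    have h2 : kosT (m + c₁) m' hm₁' (g :: gs) ≫ kosT m (m + c₁) hm₁ (g :: gs) =
        kosT m m' (le_trans (Nat.le_add_right m (c₁ + k)) hm) (g :: gs) := kosT_comp _ _ _ _ _ _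
    rw [← h2, whiskerLeft_comp, Functor.map_comp, Category.assoc]
    show Q.map _ ≫ e₂ = 0
    rw [hψ, ← Category.assoc, ← Functor.map_comp, ← whiskerLeft_comp, kosT_kδ, shift_smul,
      Linear.comp_smul, whiskerLeft_smul', Functor.map_smul, Linear.smul_comp]
    have h4 : g ^ (m' - (m + c₁)) • 𝟙 W = 0 := by
      have : m' - (m + c₁) = (m' - (m + c₁) - k) + k := by omega
      rw [this, pow_add, mul_smul, hW g List.mem_cons_self, smul_zero]
    rw [← Category.comp_id (Q.map _ ≫ ψ), ← Linear.comp_smul, h4, comp_zero]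

end Groth.Agent.Lib.helper23.ProKos
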