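import Mathlib
import Groth.Prelude.Def_DRing4
import Groth.Agent.Lib.Helper23.ProKos3

/-!
# The augmentation of the Koszul complex (helper23)
-/

set_option autoImplicit false
universe u
open CategoryTheory CategoryTheory.Limits HomologicalComplex MonoidalCategory CochainComplex
open CochainComplex.HomComplex

namespace Groth.Agent.Lib.helper23.ProKos

variable {A : Type u} [CommRing A]

/-- the quotient module `A ⧸ S` in degree `0`. -/
noncomputable abbrev Zq (S : Submodule A A) : DRing.Cx A :=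
  (HomologicalComplex.single (ModuleCat.{u} A) (ComplexShape.up ℤ) 0).obj (ModuleCat.of A (A ⧸ S))

/-- the projection `A[0] ⟶ (A ⧸ S)[0]`. -/
noncomputable def zπ (S : Submodule A A) : 𝟙_ (DRing.Cx A) ⟶ Zq S :=
  (HomologicalComplex.single (ModuleCat.{u} A) (ComplexShape.up ℤ) 0).map (ModuleCat.ofHom S.mkQ)

/-- the transition `(A ⧸ S')[0] ⟶ (A ⧸ S)[0]` for `S' ≤ S`. -/
noncomputable def zT {S' S : Submodule A A} (h : S' ≤ S) : Zq S' ⟶ Zq S :=
  (HomologicalComplex.single (ModuleCat.{u} A) (ComplexShape.up ℤ) 0).map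
    (ModuleCat.ofHom (Submodule.factor h))

lemma zπ_zT {S' S : Submodule A A} (h : S' ≤ S) : zπ S' ≫ zT h = zπ S := by
  rw [zπ, zT, ← Functor.map_comp]
  rfl

lemma zT_comp {S'' S' S : Submodule A A} (h' : S'' ≤ S') (h : S' ≤ S) :
    zT h' ≫ zT h = zT (h'.trans h) := by
  rw [zT, zT, ← Functor.map_comp, ← ModuleCat.ofHom_comp, Submodule.factor_comp]
  rfl

lemma zT_refl (S : Submodule A A) : zT (le_refl S) = 𝟙 _ := by
  rw [zT]
  have : Submodule.factor (le_refl S) = LinearMap.id := by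
    ext x
    rfl
  rw [this]
  exact CategoryTheory.Functor.map_id _ _

/-- `g` kills every morphism to `(A ⧸ S)[0]` when `g • A ⊆ S`. -/
lemma smul_to_Zq_eq_zero (S : Submodule A A) (g : A) (hg : ∀ a : A, g • a ∈ S) {X : DRing.Cx A}
    (f : X ⟶ Zq S) : g • f = 0 := by
  have h1 : g • 𝟙 (ModuleCat.of A (A ⧸ S)) = 0 := by
    apply ModuleCat.hom_ext
    apply LinearMap.ext
    intro x
    obtain ⟨a, rfl⟩ := S.mkQ_surjective x
    show g • S.mkQ a = 0
    rw [← map_smul, Submodule.mkQ_apply, Submodule.Quotient.mk_eq_zero]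
    exact hg a
  have h2 : g • 𝟙 (Zq S) = 0 := by
    apply HomologicalComplex.to_single_hom_ext
    simp only [HomologicalComplex.smul_f_apply, HomologicalComplex.id_f,
      HomologicalComplex.zero_f]
    rw [← cancel_mono (HomologicalComplex.singleObjXSelf (ComplexShape.up ℤ) 0
      (ModuleCat.of A (A ⧸ S))).hom, Linear.smul_comp, Category.id_comp, zero_comp,
      ← Category.comp_id (HomologicalComplex.singleObjXSelf _ _ _).hom, ← Linear.comp_smul, h1,
      comp_zero]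
  rw [← Category.comp_id f, ← Linear.comp_smul, h2, comp_zero]

/-- the map out of a cone which is zero on the shifted part. -/
noncomputable def descZero {F G K : DRing.Cx A} (φ : F ⟶ G) (β : G ⟶ K) (h : φ ≫ β = 0) :
    mappingCone φ ⟶ K :=
  mappingCone.desc φ 0 β (by simp [h])

@[reassoc (attr := simp)]
lemma inr_descZero {F G K : DRing.Cx A} (φ : F ⟶ G) (β : G ⟶ K) (h : φ ≫ β = 0) :
    mappingCone.inr φ ≫ descZero φ β h = β :=
  mappingCone.inr_desc _ _ _ _

lemma map_descZero {K₁ L₁ K₂ L₂ Z' Z : DRing.Cx A} (φ₁ : K₁ ⟶ L₁) (φ₂ : K₂ ⟶ L₂) (a : K₁ ⟶ K₂)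
    (b : L₁ ⟶ L₂) (comm : φ₁ ≫ b = a ≫ φ₂) (β₁ : L₁ ⟶ Z') (β₂ : L₂ ⟶ Z) (τ : Z' ⟶ Z)
    (h₁ : φ₁ ≫ β₁ = 0) (h₂ : φ₂ ≫ β₂ = 0) (hb : b ≫ β₂ = β₁ ≫ τ) :
    mappingCone.map φ₁ φ₂ a b comm ≫ descZero φ₂ β₂ h₂ = descZero φ₁ β₁ h₁ ≫ τ := by
  apply HomologicalComplex.hom_ext
  intro n
  have hbn := congrArg (fun t => t.f n) hb
  simp only [HomologicalComplex.comp_f] at hbn
  simp [mappingCone.ext_from_iff _ (n + 1) n rfl, mappingCone.map, descZero, hbn]

/-- the augmentation `kos gs ⟶ (A ⧸ S)[0]`. -/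
noncomputable def kosP (S : Submodule A A) :
    ∀ (gs : List A), (∀ g ∈ gs, ∀ a : A, g • a ∈ S) → (kos gs ⟶ Zq S)
  | [], _ => zπ S
  | g :: gs, h => descZero (g • 𝟙 (kos gs))
      (kosP S gs (fun g' hg' => h g' (List.mem_cons_of_mem _ hg'))) (by
        rw [Linear.smul_comp, Category.id_comp,
          smul_to_Zq_eq_zero S g (h g List.mem_cons_self)])

lemma kosU_kosP (S : Submodule A A) :
    ∀ (gs : List A) (h : ∀ g ∈ gs, ∀ a : A, g • a ∈ S), kosU gs ≫ kosP S gs h = zπ S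
  | [], _ => Category.id_comp _
  | g :: gs, h => by
    show (kosU gs ≫ mappingCone.inr _) ≫ descZero _ _ _ = _
    rw [Category.assoc, inr_descZero]
    exact kosU_kosP S gs _

lemma kosT_kosP (m m' : ℕ) (h : m ≤ m') {S' S : Submodule A A} (hS : S' ≤ S) :
    ∀ (gs : List A) (h' : ∀ g ∈ gs.map (· ^ m'), ∀ a : A, g • a ∈ S')
      (h'' : ∀ g ∈ gs.map (· ^ m), ∀ a : A, g • a ∈ S),
      kosT m m' h gs ≫ kosP S (gs.map (· ^ m)) h'' = kosP S' (gs.map (· ^ m')) h' ≫ zT hS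
  | [], _, _ => by
    show 𝟙 _ ≫ zπ S = zπ S' ≫ zT hS
    rw [Category.id_comp, zπ_zT]
  | g :: gs, h', h'' =>
    map_descZero _ _ _ _ _ _ _ _ _ _
      (kosT_kosP m m' h hS gs (fun g' hg' => h' g' (List.mem_cons_of_mem _ hg'))
        (fun g' hg' => h'' g' (List.mem_cons_of_mem _ hg')))

end Groth.Agent.Lib.helper23.ProKos
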