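import Mathlib
import Groth.Prelude.Def_DRing4
import Groth.Agent.Lib.Helper23.ProKos2
import Groth.Agent.Lib.Helper23.ProKos5
import Groth.Agent.Lib.Helper13.KFlat7

/-!
# The subcomplexes `J • L` and the sequence `J • (K ⊗ 𝟙) ⟶ K ⊗ 𝟙 ⟶ K ⊗ (A ⧸ J)[0]` (helper23)
-/

set_option autoImplicit false
universe u
open CategoryTheory CategoryTheory.Limits HomologicalComplex MonoidalCategory CochainComplex

namespace Groth.Agent.Lib.helper23.ProKos

variable {A : Type u} [CommRing A]

section IdealSub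

variable (J : Ideal A) (L : DRing.Cx A)

lemma d_mem_smul_top (i j : ℤ) (x : L.X i) (hx : x ∈ J • (⊤ : Submodule A (L.X i))) :
    (L.d i j).hom x ∈ J • (⊤ : Submodule A (L.X j)) := by
  have h1 : (J • (⊤ : Submodule A (L.X i))).map (L.d i j).hom ≤ J • ⊤ := by
    rw [Submodule.map_smul'']
    exact Submodule.smul_mono le_rfl le_top
  exact h1 (Submodule.mem_map_of_mem hx)

/-- the subcomplex `J • L`. -/
noncomputable def idealSub : DRing.Cx A where
  X j := ModuleCat.of A ↥(J • (⊤ : Submodule A (L.X j)))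
  d i j := ModuleCat.ofHom ((L.d i j).hom.restrict (fun x hx => d_mem_smul_top J L i j x hx))
  shape i j h := by
    apply ModuleCat.hom_ext
    apply LinearMap.ext
    intro x
    apply Subtype.ext
    show (L.d i j).hom x.1 = 0
    rw [L.shape i j h]
    rfl
  d_comp_d' i j k _ _ := by
    apply ModuleCat.hom_ext
    apply LinearMap.ext
    intro x
    apply Subtype.ext
    exact congrArg (fun t => t.hom x.1) (L.d_comp_d i j k)

/-- the inclusion `J • L ⟶ L`. -/
noncomputable def idealSubι : idealSub J L ⟶ L where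
  f j := ModuleCat.ofHom (J • (⊤ : Submodule A (L.X j))).subtype
  comm' i j _ := rfl

variable {J} in
/-- the inclusion `J' • L ⟶ J • L` for `J' ≤ J`. -/
noncomputable def idealSubIncl {J' : Ideal A} (h : J' ≤ J) : idealSub J' L ⟶ idealSub J L where
  f j := ModuleCat.ofHom (Submodule.inclusion (Submodule.smul_mono_left h))
  comm' i j _ := rfl

lemma idealSubIncl_ι {J' : Ideal A} (h : J' ≤ J) :
    idealSubIncl L h ≫ idealSubι J L = idealSubι J' L := rfl

lemma idealSubι_mem (j : ℤ) (x : (idealSub J L).X j) :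
    ((idealSubι J L).f j).hom x ∈ J • (⊤ : Submodule A (L.X j)) :=
  (x : ↥(J • (⊤ : Submodule A (L.X j)))).2

lemma mk_mem_smul_top {M : Type u} [AddCommGroup M] [Module A M] (J₁ J₂ : Ideal A) (z : M)
    (hz : z ∈ (J₁ * J₂) • (⊤ : Submodule A M)) (hz' : z ∈ J₂ • (⊤ : Submodule A M)) :
    (⟨z, hz'⟩ : ↥(J₂ • (⊤ : Submodule A M))) ∈
      J₁ • (⊤ : Submodule A ↥(J₂ • (⊤ : Submodule A M))) := by
  rw [Submodule.mul_smul] at hz
  revert hz'
  refine Submodule.smul_induction_on' hz (fun r hr n hn hz' => ?_) (fun x hx y hy px py hz' => ?_)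
  · have : (⟨r • n, hz'⟩ : ↥(J₂ • (⊤ : Submodule A M))) = r • ⟨n, hn⟩ := rfl
    rw [this]
    exact Submodule.smul_mem_smul hr trivial
  · have hx' : x ∈ J₂ • (⊤ : Submodule A M) := Submodule.smul_le_right hx
    have hy' : y ∈ J₂ • (⊤ : Submodule A M) := Submodule.smul_le_right hy
    have : (⟨x + y, hz'⟩ : ↥(J₂ • (⊤ : Submodule A M))) = ⟨x, hx'⟩ + ⟨y, hy'⟩ := rfl
    rw [this]
    exact add_mem (px hx') (py hy')

lemma idealSubIncl_mem (J₁ J₂ : Ideal A) (j : ℤ) (x : (idealSub (J₁ * J₂) L).X j) :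
    ((idealSubIncl L (Ideal.mul_le_right : J₁ * J₂ ≤ J₂)).f j).hom x ∈
      J₁ • (⊤ : Submodule A ((idealSub J₂ L).X j)) :=
  mk_mem_smul_top J₁ J₂ _ (x : ↥((J₁ * J₂) • (⊤ : Submodule A (L.X j)))).2 _

lemma isZero_idealSub_X (j : ℤ) (h : IsZero (L.X j)) : IsZero ((idealSub J L).X j) := by
  haveI : Subsingleton (L.X j) := ModuleCat.subsingleton_of_isZero h
  haveI : Subsingleton ↥(J • (⊤ : Submodule A (L.X j))) := inferInstance
  exact ModuleCat.isZero_of_subsingleton (ModuleCat.of A ↥(J • (⊤ : Submodule A (L.X j))))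

lemma finite_idealSub_X [IsNoetherianRing A] (j : ℤ) [Module.Finite A (L.X j)] :
    Module.Finite A ((idealSub J L).X j) :=
  (inferInstance : Module.Finite A ↥(J • (⊤ : Submodule A (L.X j))))

end IdealSub

end Groth.Agent.Lib.helper23.ProKos
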