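import Mathlib
import Groth.Prelude.Def_DRing4
import Groth.Agent.Lib.Helper23.ProKos6

/-!
# The sequence `J • (K ⊗ 𝟙) ⟶ K ⊗ 𝟙 ⟶ K ⊗ (A ⧸ J)[0]` is short exact (helper23)
-/

set_option autoImplicit false
universe u
open CategoryTheory CategoryTheory.Limits HomologicalComplex MonoidalCategory CochainComplex
open TensorProduct

namespace Groth.Agent.Lib.helper23.ProKos

variable {A : Type u} [CommRing A]

lemma tmul_mem_smul_top {N X : Type u} [AddCommGroup N] [Module A N] [AddCommGroup X] [Module A X]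
    (J : Ideal A) (n : N) (a : X) (ha : a ∈ J • (⊤ : Submodule A X)) :
    n ⊗ₜ[A] a ∈ J • (⊤ : Submodule A (N ⊗[A] X)) := by
  refine Submodule.smul_induction_on ha (fun r hr a' _ => ?_) (fun a₁ a₂ h₁ h₂ => ?_)
  · rw [TensorProduct.tmul_smul]
    exact Submodule.smul_mem_smul hr trivial
  · rw [TensorProduct.tmul_add]
    exact add_mem h₁ h₂

lemma mem_smul_top_of_lTensor_eq_zero {N X Z : Type u} [AddCommGroup N] [Module A N]
    [AddCommGroup X] [Module A X] [AddCommGroup Z] [Module A Z]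
    (J : Ideal A) (g : X →ₗ[A] Z) (hg : Function.Surjective g)
    (hker : LinearMap.ker g ≤ J • (⊤ : Submodule A X)) (y : N ⊗[A] X)
    (hy : LinearMap.lTensor N g y = 0) : y ∈ J • (⊤ : Submodule A (N ⊗[A] X)) := by
  have hex := lTensor_exact N (LinearMap.exact_subtype_ker_map g) hg
  obtain ⟨z, rfl⟩ := (hex y).mp hy
  clear hy
  induction z using TensorProduct.induction_on with
  | zero => rw [map_zero]; exact zero_mem _
  | tmul n a =>
    rw [LinearMap.lTensor_tmul]
    exact tmul_mem_smul_top J n _ (hker a.2)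
  | add z₁ z₂ h₁ h₂ =>
    rw [map_add]
    exact add_mem h₁ h₂

lemma map_mem_smul_top {M N : Type u} [AddCommGroup M] [Module A M] [AddCommGroup N] [Module A N]
    (J : Ideal A) (f : M →ₗ[A] N) (x : M) (hx : x ∈ J • (⊤ : Submodule A M)) :
    f x ∈ J • (⊤ : Submodule A N) := by
  have h1 : (J • (⊤ : Submodule A M)).map f ≤ J • ⊤ := by
    rw [Submodule.map_smul'']
    exact Submodule.smul_mono le_rfl le_top
  exact h1 (Submodule.mem_map_of_mem hx)

section SES

variable (K : DRing.Cx A) (J : Ideal A)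

lemma epi_zπ_f (S : Submodule A A) : Epi ((zπ S).f 0) := by
  rw [zπ, HomologicalComplex.single_map_f_self]
  haveI : Epi (ModuleCat.ofHom S.mkQ) := (ModuleCat.epi_iff_surjective _).2 S.mkQ_surjective
  infer_instance

lemma ker_zπ_f_le :
    LinearMap.ker ((zπ (J • (⊤ : Submodule A A))).f 0).hom ≤
      J • (⊤ : Submodule A ((𝟙_ (DRing.Cx A)).X 0)) := by
  intro a ha
  rw [LinearMap.mem_ker] at ha
  let σ := HomologicalComplex.singleObjXSelf (ComplexShape.up ℤ) (0 : ℤ) (ModuleCat.of A A)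
  let σ' := HomologicalComplex.singleObjXSelf (ComplexShape.up ℤ) (0 : ℤ)
    (ModuleCat.of A (A ⧸ (J • (⊤ : Submodule A A))))
  have h1 : (zπ (J • (⊤ : Submodule A A))).f 0 =
      σ.hom ≫ ModuleCat.ofHom (J • (⊤ : Submodule A A)).mkQ ≫ σ'.inv :=
    HomologicalComplex.single_map_f_self _ _ _
  rw [h1] at ha
  have h2 : (J • (⊤ : Submodule A A)).mkQ (σ.hom.hom a) = 0 := by
    have h3 := congrArg (fun t => σ'.hom.hom t) ha
    simp only [map_zero] at h3
    rw [← h3]
    exact (congrArg (fun t => t.hom ((J • (⊤ : Submodule A A)).mkQ (σ.hom.hom a)))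
      σ'.inv_hom_id).symm
  rw [Submodule.mkQ_apply, Submodule.Quotient.mk_eq_zero] at h2
  have h4 : σ.inv.hom (σ.hom.hom a) = a := congrArg (fun t => t.hom a) σ.hom_inv_id
  rw [← h4]
  exact map_mem_smul_top J σ.inv.hom _ h2

lemma isIso_ι_unit (j : ℤ) : IsIso (ιTensorObj K (𝟙_ (DRing.Cx A)) j 0 j (add_zero j)) :=
  Groth.Agent.Lib.helper13.KFlat.isIso_ι_of_isZero (curriedTensor (ModuleCat.{u} A)) K
    (𝟙_ (DRing.Cx A)) j 0 j (add_zero j)
    (fun q hq => HomologicalComplex.isZero_single_obj_X _ _ _ _ hq)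

lemma isIso_ι_Zq (S : Submodule A A) (j : ℤ) : IsIso (ιTensorObj K (Zq S) j 0 j (add_zero j)) :=
  Groth.Agent.Lib.helper13.KFlat.isIso_ι_of_isZero (curriedTensor (ModuleCat.{u} A)) K
    (Zq S) j 0 j (add_zero j)
    (fun q hq => HomologicalComplex.isZero_single_obj_X _ _ _ _ hq)

lemma idealSubι_whiskerLeft_zπ :
    idealSubι J (K ⊗ 𝟙_ (DRing.Cx A)) ≫ K ◁ zπ (J • (⊤ : Submodule A A)) = 0 := by
  apply HomologicalComplex.hom_ext
  intro j
  apply ModuleCat.hom_ext
  apply LinearMap.ext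
  intro x
  obtain ⟨x, hx⟩ := x
  show ((K ◁ zπ (J • (⊤ : Submodule A A))).f j).hom x = 0
  refine Submodule.smul_induction_on hx (fun r hr y _ => ?_) (fun y z hy hz => ?_)
  · rw [map_smul]
    have h0 : r • (K ◁ zπ (J • (⊤ : Submodule A A))) = 0 := by
      rw [← whiskerLeft_smul',
        smul_to_Zq_eq_zero _ r (fun a => Submodule.smul_mem_smul hr Submodule.mem_top)]
      exact (tensorLeft K).map_zero _ _
    exact congrArg (fun t => (t.f j).hom y) h0
  · rw [map_add, hy, hz, add_zero]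

/-- the sequence `J • (K ⊗ 𝟙) ⟶ K ⊗ 𝟙 ⟶ K ⊗ (A ⧸ J)[0]`. -/
noncomputable def sesSC : ShortComplex (DRing.Cx A) :=
  ShortComplex.mk (idealSubι J (K ⊗ 𝟙_ (DRing.Cx A))) (K ◁ zπ (J • (⊤ : Submodule A A)))
    (idealSubι_whiskerLeft_zπ K J)

theorem sesSC_shortExact : (sesSC K J).ShortExact := by
  apply HomologicalComplex.shortExact_of_degreewise_shortExact
  intro j
  have hι := isIso_ι_unit K j
  have hι' := isIso_ι_Zq K (J • (⊤ : Submodule A A)) j
  have hcomm := ι_whiskerLeft_f K (zπ (J • (⊤ : Submodule A A))) j 0 j (add_zero j)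
  haveI := epi_zπ_f (J • (⊤ : Submodule A A))
  have hsurj : Function.Surjective ((zπ (J • (⊤ : Submodule A A))).f 0).hom :=
    (ModuleCat.epi_iff_surjective _).1 inferInstance
  refine ShortComplex.ShortExact.mk' ?_ ?_ ?_
  · rw [ShortComplex.moduleCat_exact_iff]
    intro x hx
    change ((K ◁ zπ (J • (⊤ : Submodule A A))).f j).hom x = 0 at hx
    obtain ⟨y, rfl⟩ : ∃ y, (ιTensorObj K (𝟙_ (DRing.Cx A)) j 0 j (add_zero j)).hom y = x :=
      ⟨(inv (ιTensorObj K (𝟙_ (DRing.Cx A)) j 0 j (add_zero j))).hom x,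
        congrArg (fun t => t.hom x)
          (IsIso.inv_hom_id (ιTensorObj K (𝟙_ (DRing.Cx A)) j 0 j (add_zero j)))⟩
    have h1 := congrArg (fun t => t.hom y) hcomm
    change ((K ◁ zπ (J • (⊤ : Submodule A A))).f j).hom
      ((ιTensorObj K (𝟙_ (DRing.Cx A)) j 0 j (add_zero j)).hom y) =
      (ιTensorObj K (Zq (J • (⊤ : Submodule A A))) j 0 j (add_zero j)).hom
        ((K.X j ◁ (zπ (J • (⊤ : Submodule A A))).f 0).hom y) at h1
    rw [hx] at h1
    have h2 : (K.X j ◁ (zπ (J • (⊤ : Submodule A A))).f 0).hom y = 0 := by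
      have h3 := congrArg
        (fun t => (inv (ιTensorObj K (Zq (J • (⊤ : Submodule A A))) j 0 j (add_zero j))).hom t) h1
      simp only [map_zero] at h3
      rw [h3]
      exact (congrArg (fun t => t.hom ((K.X j ◁ (zπ (J • (⊤ : Submodule A A))).f 0).hom y))
        (IsIso.hom_inv_id (ιTensorObj K (Zq (J • (⊤ : Submodule A A))) j 0 j (add_zero j)))).symm
    have h4 : y ∈ J • (⊤ : Submodule A (K.X j ⊗[A] ((𝟙_ (DRing.Cx A)).X 0))) :=
      mem_smul_top_of_lTensor_eq_zero J _ hsurj (ker_zπ_f_le J) y h2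
    exact ⟨⟨_, map_mem_smul_top J
      (ιTensorObj K (𝟙_ (DRing.Cx A)) j 0 j (add_zero j)).hom y h4⟩, rfl⟩
  · rw [ModuleCat.mono_iff_injective]
    intro x y hxy
    exact Subtype.ext hxy
  · have h5 : Epi (ιTensorObj K (𝟙_ (DRing.Cx A)) j 0 j (add_zero j) ≫
        (K ◁ zπ (J • (⊤ : Submodule A A))).f j) := by
      rw [hcomm]
      haveI : Epi (K.X j ◁ (zπ (J • (⊤ : Submodule A A))).f 0) := by
        rw [ModuleCat.epi_iff_surjective]
        exact LinearMap.lTensor_surjective _ hsurj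
      infer_instance
    exact @epi_of_epi _ _ _ _ _ (ιTensorObj K (𝟙_ (DRing.Cx A)) j 0 j (add_zero j))
      ((K ◁ zπ (J • (⊤ : Submodule A A))).f j) h5

end SES

end Groth.Agent.Lib.helper23.ProKos
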