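import Mathlib
import Groth.Prelude.Def_DRing4
import Groth.Agent.Lib.Helper23.ProKos1
import Groth.Agent.Lib.Helper23.ProKos4
import Groth.Agent.Lib.Helper23.ProKos7

/-!
# The pro-inverse of `K ⊗ Koszul ⟶ K ⊗ A ⧸ I ^ m` (helper23)
-/

set_option autoImplicit false
universe u
open CategoryTheory CategoryTheory.Limits HomologicalComplex MonoidalCategory CochainComplex
open DerivedCategory Pretriangulated

attribute [local instance] HasDerivedCategory.standard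

namespace Groth.Agent.Lib.helper23.ProKos

variable {A : Type u} [CommRing A]

lemma isZero_tensor_X (K L : DRing.Cx A) (a l : ℤ) (hK : ∀ j, j < a → IsZero (K.X j))
    (hL : ∀ j, j < l → IsZero (L.X j)) (j : ℤ) (hj : j < a + l) : IsZero ((K ⊗ L).X j) := by
  rw [IsZero.iff_id_eq_zero]
  apply mapBifunctor.hom_ext
  intro i₁ i₂ h
  have h' : i₁ + i₂ = j := h
  apply IsZero.eq_of_src
  by_cases h1 : i₁ < a
  · exact (tensorRight (L.X i₂)).map_isZero (hK i₁ h1)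
  · exact (tensorLeft (K.X i₁)).map_isZero (hL i₂ (by omega))

lemma isZero_tensorUnit_X (K : DRing.Cx A) (j : ℤ) (h : IsZero (K.X j)) :
    IsZero ((K ⊗ 𝟙_ (DRing.Cx A)).X j) :=
  IsZero.of_iso h ((HomologicalComplex.eval _ _ j).mapIso (ρ_ K))

lemma finite_tensorUnit_X (K : DRing.Cx A) (j : ℤ) [Module.Finite A (K.X j)] :
    Module.Finite A ((K ⊗ 𝟙_ (DRing.Cx A)).X j) :=
  haveI : Module.Finite A
      ((HomologicalComplex.eval (ModuleCat.{u} A) (ComplexShape.up ℤ) j).obj K) :=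
    ‹Module.Finite A (K.X j)›
  Module.Finite.equiv ((HomologicalComplex.eval _ _ j).mapIso (ρ_ K)).symm.toLinearEquiv

lemma idealSubIncl_mem' (L : DRing.Cx A) (J₁ J₂ J' : Ideal A) (h : J' ≤ J₁ * J₂) (h' : J' ≤ J₂)
    (j : ℤ) (x : (idealSub J' L).X j) :
    ((idealSubIncl L h').f j).hom x ∈ J₁ • (⊤ : Submodule A ((idealSub J₂ L).X j)) :=
  mk_mem_smul_top J₁ J₂ _
    (Submodule.smul_mono_left h (x : ↥(J' • (⊤ : Submodule A (L.X j)))).2) _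

/-- the shifted version of `exists_pow_kill`. -/
theorem exists_pow_kill_shift [IsNoetherianRing A] (fs : List A) (N W : DRing.Cx A) (a b : ℤ)
    (hN : ∀ j, (j < a ∨ b < j) → IsZero (N.X j)) (hNf : ∀ j, Module.Finite A (N.X j))
    (w : ℤ) [W.IsStrictlyGE w]
    (hW : ∀ f ∈ fs, ∃ k : ℕ, f ^ k • 𝟙 (Q.obj W) = 0)
    (ψ : (Q.obj N)⟦(1 : ℤ)⟧ ⟶ Q.obj W) :
    ∃ c : ℕ, ∀ (N' : DRing.Cx A) (ι : N' ⟶ N),
      (∀ (j : ℤ) (x : N'.X j), (ι.f j).hom x ∈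
        (Ideal.span {x : A | x ∈ fs}) ^ c • (⊤ : Submodule A (N.X j))) →
        (Q.map ι)⟦(1 : ℤ)⟧' ≫ ψ = 0 := by
  obtain ⟨c, hc⟩ := exists_pow_kill fs (N⟦(1 : ℤ)⟧) W (a - 1) (b - 1)
    (fun j hj => hN (j + 1) (by omega)) (fun j => hNf (j + 1)) w hW
    ((Q.commShiftIso (1 : ℤ)).hom.app N ≫ ψ)
  refine ⟨c, fun N' ι hι => ?_⟩
  have h1 := hc (N'⟦(1 : ℤ)⟧) (ι⟦(1 : ℤ)⟧') (fun j x => hι (j + 1) x)
  have h2 : Q.map (ι⟦(1 : ℤ)⟧') ≫ (Q.commShiftIso (1 : ℤ)).hom.app N =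
      (Q.commShiftIso (1 : ℤ)).hom.app N' ≫ (Q.map ι)⟦(1 : ℤ)⟧' :=
    (Q.commShiftIso (1 : ℤ)).hom.naturality ι
  rw [← Category.assoc, h2, Category.assoc] at h1
  exact (cancel_epi _).1 (h1.trans comp_zero.symm)

section Gamma

variable (fs : List A)

/-- the ideal generated by the list. -/
abbrev II : Ideal A := Ideal.span {x : A | x ∈ fs}

/-- `I ^ m` as a submodule of `A`. -/
abbrev SS (m : ℕ) : Submodule A A := (II fs) ^ m • (⊤ : Submodule A A)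

lemma pow_smul_mem (m : ℕ) : ∀ g ∈ fs.map (· ^ m), ∀ a : A, g • a ∈ SS fs m := by
  intro g hg a
  obtain ⟨f, hf, rfl⟩ := List.mem_map.1 hg
  have hf' : f ∈ II fs := Ideal.subset_span (show f ∈ {x : A | x ∈ fs} from hf)
  exact Submodule.smul_mem_smul (Ideal.pow_mem_pow hf' m) Submodule.mem_top

lemma SS_anti {m m' : ℕ} (h : m ≤ m') : SS fs m' ≤ SS fs m :=
  Submodule.smul_mono_left (Ideal.pow_le_pow_right h)

/-- the augmentation `kos (fs ^ m) ⟶ A ⧸ I ^ m`. -/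
noncomputable def pp (m : ℕ) : kos (fs.map (· ^ m)) ⟶ Zq (SS fs m) :=
  kosP (SS fs m) (fs.map (· ^ m)) (pow_smul_mem fs m)

lemma kosU_pp (m : ℕ) : kosU (fs.map (· ^ m)) ≫ pp fs m = zπ (SS fs m) :=
  kosU_kosP _ _ _

lemma kosT_pp (m m' : ℕ) (h : m ≤ m') :
    kosT m m' h fs ≫ pp fs m = pp fs m' ≫ zT (SS_anti fs h) :=
  kosT_kosP m m' h (SS_anti fs h) fs _ _

/-- the morphism of short exact sequences for `J' ≤ J`. -/
noncomputable def sesMap (K : DRing.Cx A) {J' J : Ideal A} (h : J' ≤ J) :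
    sesSC K J' ⟶ sesSC K J where
  τ₁ := idealSubIncl _ h
  τ₂ := 𝟙 _
  τ₃ := K ◁ zT (Submodule.smul_mono_left h)
  comm₁₂ := by
    show idealSubIncl _ h ≫ idealSubι J _ = idealSubι J' _ ≫ 𝟙 _
    rw [Category.comp_id, idealSubIncl_ι]
  comm₂₃ := by
    show 𝟙 _ ≫ K ◁ zπ _ = K ◁ zπ _ ≫ K ◁ zT _
    rw [Category.id_comp, ← MonoidalCategory.whiskerLeft_comp, zπ_zT]

lemma smul_id_tensor_Zq (K : DRing.Cx A) (S : Submodule A A) (g : A) (hg : ∀ a : A, g • a ∈ S) :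
    g • 𝟙 (Q.obj (K ⊗ Zq S)) = 0 := by
  have h1 : g • 𝟙 (K ⊗ Zq S) = 0 := by
    rw [← MonoidalCategory.whiskerLeft_id, ← whiskerLeft_smul', smul_to_Zq_eq_zero S g hg,
      whiskerLeft_zero']
  rw [← CategoryTheory.Functor.map_id, ← Functor.map_smul, h1, Functor.map_zero]

/-- **the pro-inverse** of `K ⊗ kos (fs ^ m) ⟶ K ⊗ A ⧸ I ^ m`. -/
theorem exists_pro_inverse [IsNoetherianRing A] (K : DRing.Cx A) (a b : ℤ)
    (hK : ∀ j, (j < a ∨ b < j) → IsZero (K.X j)) (hKf : ∀ j, Module.Finite A (K.X j)) (n : ℕ) :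
    ∃ (m : ℕ) (h : n ≤ m)
      (β : Q.obj (K ⊗ Zq (SS fs m)) ⟶ Q.obj (K ⊗ kos (fs.map (· ^ n)))),
      Q.map (K ◁ pp fs m) ≫ β = Q.map (K ◁ kosT n m h fs) ∧
      β ≫ Q.map (K ◁ pp fs n) = Q.map (K ◁ zT (SS_anti fs h)) := by
  -- the target
  haveI : (K ⊗ kos (fs.map (· ^ n))).IsStrictlyGE (a + (-((fs.map (· ^ n)).length : ℤ))) := by
    rw [CochainComplex.isStrictlyGE_iff]
    intro j hj
    exact isZero_tensor_X K _ a _ (fun j hj => hK j (Or.inl hj))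
      (fun j hj => isZero_kos_X _ j hj) j hj
  have hWt : ∀ f ∈ fs, f ^ n • 𝟙 (Q.obj (K ⊗ kos (fs.map (· ^ n)))) = 0 := fun f hf =>
    smul_id_Q_tensor_kos K _ _ (List.mem_map.2 ⟨f, hf, rfl⟩)
  have hK'z : ∀ j, (j < a ∨ b < j) → IsZero ((K ⊗ 𝟙_ (DRing.Cx A)).X j) := fun j hj =>
    isZero_tensorUnit_X K j (hK j hj)
  have hK'f : ∀ j, Module.Finite A ((K ⊗ 𝟙_ (DRing.Cx A)).X j) := fun j =>
    haveI := hKf j
    finite_tensorUnit_X K j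
  -- (F1)
  obtain ⟨c₁, hc₁⟩ := exists_pow_kill fs (K ⊗ 𝟙_ (DRing.Cx A)) (K ⊗ kos (fs.map (· ^ n))) a b
    hK'z hK'f (a + (-((fs.map (· ^ n)).length : ℤ))) (fun f hf => ⟨n, hWt f hf⟩)
    (Q.map (K ◁ kosU (fs.map (· ^ n))))
  have hn₁ : n ≤ max c₁ n := le_max_right _ _
  have hι₁ : Q.map (idealSubι ((II fs) ^ (max c₁ n)) (K ⊗ 𝟙_ (DRing.Cx A))) ≫
      Q.map (K ◁ kosU (fs.map (· ^ n))) = 0 :=
    hc₁ _ _ (fun j x => Submodule.smul_mono_left (Ideal.pow_le_pow_right (le_max_left _ _))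
      (idealSubι_mem _ _ j x))
  obtain ⟨b₁, hb₁⟩ : ∃ b₁ : Q.obj (K ⊗ Zq (SS fs (max c₁ n))) ⟶
      Q.obj (K ⊗ kos (fs.map (· ^ n))),
      Q.map (K ◁ kosU (fs.map (· ^ n))) = Q.map (K ◁ zπ (SS fs (max c₁ n))) ≫ b₁ :=
    Triangle.yoneda_exact₂ _
      (triangleOfSES_distinguished (sesSC_shortExact K ((II fs) ^ (max c₁ n))))
      (Q.map (K ◁ kosU (fs.map (· ^ n)))) hι₁
  -- (F2)
  have hd : Q.map (K ◁ zπ (SS fs (max c₁ n))) ≫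
      (b₁ ≫ Q.map (K ◁ pp fs n) - Q.map (K ◁ zT (SS_anti fs hn₁))) = 0 := by
    rw [Preadditive.comp_sub, ← Category.assoc, ← hb₁, ← Q.map_comp, ← Q.map_comp,
      ← MonoidalCategory.whiskerLeft_comp, ← MonoidalCategory.whiskerLeft_comp, zπ_zT, kosU_pp,
      sub_self]
  obtain ⟨ψ, hψ⟩ : ∃ ψ : (Q.obj (idealSub ((II fs) ^ (max c₁ n))
      (K ⊗ 𝟙_ (DRing.Cx A))))⟦(1 : ℤ)⟧ ⟶ Q.obj (K ⊗ Zq (SS fs n)),
      b₁ ≫ Q.map (K ◁ pp fs n) - Q.map (K ◁ zT (SS_anti fs hn₁)) =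
        triangleOfSESδ (sesSC_shortExact K ((II fs) ^ (max c₁ n))) ≫ ψ :=
    Triangle.yoneda_exact₃ _
      (triangleOfSES_distinguished (sesSC_shortExact K ((II fs) ^ (max c₁ n)))) _ hd
  haveI : (K ⊗ Zq (SS fs n)).IsStrictlyGE (a + 0) := by
    rw [CochainComplex.isStrictlyGE_iff]
    intro j hj
    exact isZero_tensor_X K _ a _ (fun j hj => hK j (Or.inl hj))
      (fun j hj => HomologicalComplex.isZero_single_obj_X _ _ _ _ (by omega)) j hj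
  have hZt : ∀ f ∈ fs, ∃ k : ℕ, f ^ k • 𝟙 (Q.obj (K ⊗ Zq (SS fs n))) = 0 := fun f hf =>
    ⟨n, smul_id_tensor_Zq K _ _ (pow_smul_mem fs n _ (List.mem_map.2 ⟨f, hf, rfl⟩))⟩
  obtain ⟨c₂, hc₂⟩ := exists_pow_kill_shift fs
    (idealSub ((II fs) ^ (max c₁ n)) (K ⊗ 𝟙_ (DRing.Cx A))) (K ⊗ Zq (SS fs n)) a b
    (fun j hj => isZero_idealSub_X _ _ j (hK'z j hj))
    (fun j => haveI := hK'f j; finite_idealSub_X _ _ j) (a + 0) hZt ψ
  have hm₁₂ : max c₁ n ≤ c₂ + max c₁ n := Nat.le_add_left _ _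
  have hJ : (II fs) ^ (c₂ + max c₁ n) ≤ (II fs) ^ (max c₁ n) := Ideal.pow_le_pow_right hm₁₂
  have hnat := triangleOfSESδ_naturality (sesSC_shortExact K ((II fs) ^ (c₂ + max c₁ n)))
    (sesSC_shortExact K ((II fs) ^ (max c₁ n))) (sesMap K hJ)
  change triangleOfSESδ (sesSC_shortExact K ((II fs) ^ (c₂ + max c₁ n))) ≫
      (Q.map (idealSubIncl (K ⊗ 𝟙_ (DRing.Cx A)) hJ))⟦(1 : ℤ)⟧' =
    Q.map (K ◁ zT (SS_anti fs hm₁₂)) ≫
      triangleOfSESδ (sesSC_shortExact K ((II fs) ^ (max c₁ n))) at hnat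
  have hkill : (Q.map (idealSubIncl (K ⊗ 𝟙_ (DRing.Cx A)) hJ))⟦(1 : ℤ)⟧' ≫ ψ = 0 :=
    hc₂ _ _ (fun j x => idealSubIncl_mem' _ _ _ _ (pow_add (II fs) c₂ (max c₁ n)).le hJ j x)
  have hd₂ : Q.map (K ◁ zT (SS_anti fs hm₁₂)) ≫
      (b₁ ≫ Q.map (K ◁ pp fs n) - Q.map (K ◁ zT (SS_anti fs hn₁))) = 0 := by
    rw [hψ]
    exact ((Category.assoc _ _ _).symm.trans (congrArg (fun t => t ≫ ψ) hnat.symm)).trans
      ((Category.assoc _ _ _).trans ((congrArg (fun t =>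
        triangleOfSESδ (sesSC_shortExact K ((II fs) ^ (c₂ + max c₁ n))) ≫ t) hkill).trans
          comp_zero))
  have hb₂a : (Q.map (K ◁ zT (SS_anti fs hm₁₂)) ≫ b₁) ≫ Q.map (K ◁ pp fs n) =
      Q.map (K ◁ zT (SS_anti fs (hn₁.trans hm₁₂))) := by
    have h1 := hd₂
    rw [Preadditive.comp_sub, sub_eq_zero] at h1
    rw [Category.assoc, h1, ← Q.map_comp, ← MonoidalCategory.whiskerLeft_comp, zT_comp]
  have hb₂b : Q.map (K ◁ zπ (SS fs (c₂ + max c₁ n))) ≫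
      (Q.map (K ◁ zT (SS_anti fs hm₁₂)) ≫ b₁) = Q.map (K ◁ kosU (fs.map (· ^ n))) := by
    rw [← Category.assoc, ← Q.map_comp, ← MonoidalCategory.whiskerLeft_comp, zπ_zT, ← hb₁]
  -- (F3)
  have hn₂ : n ≤ c₂ + max c₁ n := hn₁.trans hm₁₂
  have he : Q.map (K ◁ kosU (fs.map (· ^ (c₂ + max c₁ n)))) ≫
      (Q.map (K ◁ pp fs (c₂ + max c₁ n)) ≫ (Q.map (K ◁ zT (SS_anti fs hm₁₂)) ≫ b₁) -
        Q.map (K ◁ kosT n (c₂ + max c₁ n) hn₂ fs)) = 0 := by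
    rw [Preadditive.comp_sub, ← Category.assoc, ← Q.map_comp, ← Q.map_comp,
      ← MonoidalCategory.whiskerLeft_comp, ← MonoidalCategory.whiskerLeft_comp, kosU_pp,
      kosU_kosT, hb₂b, sub_self]
  obtain ⟨c₃, hc₃⟩ := exists_kill_of_unit_comp_eq_zero K (Q.obj (K ⊗ kos (fs.map (· ^ n)))) n fs
    hWt (c₂ + max c₁ n) _ he
  have h3 := hc₃ (c₂ + max c₁ n + c₃) le_rfl
  have hm₂₃ : c₂ + max c₁ n ≤ c₂ + max c₁ n + c₃ := Nat.le_add_right _ _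
  rw [Preadditive.comp_sub, sub_eq_zero, ← Q.map_comp (K ◁ kosT _ _ _ fs) (K ◁ kosT _ _ _ fs),
    ← MonoidalCategory.whiskerLeft_comp, kosT_comp] at h3
  refine ⟨c₂ + max c₁ n + c₃, hn₂.trans hm₂₃,
    Q.map (K ◁ zT (SS_anti fs hm₂₃)) ≫ (Q.map (K ◁ zT (SS_anti fs hm₁₂)) ≫ b₁), ?_, ?_⟩
  · rw [← h3, ← Category.assoc, ← Category.assoc, ← Q.map_comp,
      ← MonoidalCategory.whiskerLeft_comp, ← kosT_pp, MonoidalCategory.whiskerLeft_comp,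
      Q.map_comp, Category.assoc, Category.assoc]
  · rw [Category.assoc, hb₂a, ← Q.map_comp, ← MonoidalCategory.whiskerLeft_comp, zT_comp]

end Gamma

end Groth.Agent.Lib.helper23.ProKos
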