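import Mathlib
import Groth.Prelude.Def_DTen
import Groth.Prelude.Def_DerCA
import Groth.Prelude.Def_ega3
import Groth.Agent.Lib.Helper23.ProKos8
import Groth.Agent.Lib.Helper13.DTenA
import Groth.Agent.Lib.Helper13.PerfInd4

/-!
# `K ⊗^L A ⧸ I ^ n ⟶ K ⊗ A ⧸ I ^ n` is a pro-isomorphism (helper23)
-/

set_option autoImplicit false
universe u
open CategoryTheory CategoryTheory.Limits HomologicalComplex MonoidalCategory CochainComplex
open DerivedCategory Pretriangulated Opposite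

attribute [local instance] HasDerivedCategory.standard

namespace Groth.Agent.Lib.helper23.ProKos

section Abstract

universe v₁ v₂ u₁ u₂

variable {C : Type u₁} {D : Type u₂} [Category.{v₁} C] [Category.{v₂} D]

theorem abstract_proIso (Qf : C ⥤ D) (L : D ⥤ D) (G : C ⥤ D) (ε : Qf ⋙ L ⟶ G)
    (Z E : ℕ → C) (zT : ∀ n m, n ≤ m → (Z m ⟶ Z n)) (kT : ∀ n m, n ≤ m → (E m ⟶ E n))
    (p : ∀ m, E m ⟶ Z m)
    (hz : ∀ n m k (h : n ≤ m) (h' : m ≤ k), zT m k h' ≫ zT n m h = zT n k (h.trans h'))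
    (hkp : ∀ n m (h : n ≤ m), kT n m h ≫ p n = p m ≫ zT n m h)
    (hiso : ∀ m, IsIso (ε.app (E m)))
    (hγ : ∀ n, ∃ (m : ℕ) (h : n ≤ m) (β : G.obj (Z m) ⟶ G.obj (E n)),
      G.map (p m) ≫ β = G.map (kT n m h) ∧ β ≫ G.map (p n) = G.map (zT n m h))
    (hα : ∀ n, ∃ (m : ℕ) (h : n ≤ m) (β : Qf.obj (Z m) ⟶ Qf.obj (E n)),
      Qf.map (p m) ≫ β = Qf.map (kT n m h) ∧ β ≫ Qf.map (p n) = Qf.map (zT n m h))
    (n : ℕ) :
    ∃ (m : ℕ) (h : n ≤ m) (b : G.obj (Z m) ⟶ L.obj (Qf.obj (Z n))),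
      ε.app (Z m) ≫ b = L.map (Qf.map (zT n m h)) ∧ b ≫ ε.app (Z n) = G.map (zT n m h) := by
  obtain ⟨m₁, h₁, β₁, hβ₁a, hβ₁b⟩ := hγ n
  obtain ⟨m₃, h₃, β₃, hβ₃a, hβ₃b⟩ := hα m₁
  haveI := hiso n
  have nat : ∀ {X Y : C} (f : X ⟶ Y), L.map (Qf.map f) ≫ ε.app Y = ε.app X ≫ G.map f :=
    fun f => ε.naturality f
  refine ⟨m₃, h₁.trans h₃,
    G.map (zT m₁ m₃ h₃) ≫ β₁ ≫ inv (ε.app (E n)) ≫ L.map (Qf.map (p n)), ?_, ?_⟩
  · calc ε.app (Z m₃) ≫ G.map (zT m₁ m₃ h₃) ≫ β₁ ≫ inv (ε.app (E n)) ≫ L.map (Qf.map (p n))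
        = (L.map (Qf.map (zT m₁ m₃ h₃)) ≫ ε.app (Z m₁)) ≫ β₁ ≫ inv (ε.app (E n)) ≫
            L.map (Qf.map (p n)) := by rw [nat, Category.assoc]
      _ = L.map β₃ ≫ (L.map (Qf.map (p m₁)) ≫ ε.app (Z m₁)) ≫ β₁ ≫ inv (ε.app (E n)) ≫
            L.map (Qf.map (p n)) := by
          rw [← hβ₃b, L.map_comp, Category.assoc, Category.assoc, Category.assoc]
      _ = L.map β₃ ≫ ε.app (E m₁) ≫ (G.map (p m₁) ≫ β₁) ≫ inv (ε.app (E n)) ≫
            L.map (Qf.map (p n)) := by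
          rw [nat, Category.assoc, Category.assoc]
      _ = L.map β₃ ≫ (L.map (Qf.map (kT n m₁ h₁)) ≫ ε.app (E n)) ≫ inv (ε.app (E n)) ≫
            L.map (Qf.map (p n)) := by
          rw [hβ₁a, nat, Category.assoc]
      _ = L.map (β₃ ≫ Qf.map (kT n m₁ h₁ ≫ p n)) := by
          rw [Category.assoc, IsIso.hom_inv_id_assoc, Qf.map_comp, L.map_comp, L.map_comp]
      _ = L.map (Qf.map (zT n m₃ (h₁.trans h₃))) := by
          rw [hkp, Qf.map_comp, ← Category.assoc, hβ₃b, ← Qf.map_comp, hz]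
  · rw [Category.assoc, Category.assoc, Category.assoc, nat, IsIso.inv_hom_id_assoc, hβ₁b,
      ← G.map_comp, hz]

end Abstract

variable {A : Type u} [CommRing A]

open Groth.Agent.Lib.helper13.KFlat Groth.Agent.Lib.helper13.RKF in
theorem isKFlatR_kos : ∀ gs : List A, IsKFlatR (kos gs)
  | [] => Groth.Agent.Lib.helper13.PerfInd.isKFlatR_tensorUnit
  | g :: gs => isKFlatR_mappingCone _ (isKFlatR_kos gs) (isKFlatR_kos gs)

lemma finite_unit_X (j : ℤ) : Module.Finite A ((𝟙_ (DRing.Cx A)).X j) := by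
  by_cases hj : j = 0
  · subst hj
    exact Module.Finite.equiv (HomologicalComplex.singleObjXSelf (ComplexShape.up ℤ) (0 : ℤ)
      (ModuleCat.of A A)).symm.toLinearEquiv
  · haveI : Subsingleton ((𝟙_ (DRing.Cx A)).X j) := ModuleCat.subsingleton_of_isZero
      (HomologicalComplex.isZero_single_obj_X _ _ _ _ hj)
    infer_instance

/-- the pro-inverse of `kos (fs ^ m) ⟶ A ⧸ I ^ m`. -/
theorem exists_pro_inverse_unit [IsNoetherianRing A] (fs : List A) (n : ℕ) :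
    ∃ (m : ℕ) (h : n ≤ m) (β : Q.obj (Zq (SS fs m)) ⟶ Q.obj (kos (fs.map (· ^ n)))),
      Q.map (pp fs m) ≫ β = Q.map (kosT n m h fs) ∧
      β ≫ Q.map (pp fs n) = Q.map (zT (SS_anti fs h)) := by
  obtain ⟨m, h, β, h1, h2⟩ := exists_pro_inverse fs (𝟙_ (DRing.Cx A)) 0 0
    (fun j hj => HomologicalComplex.isZero_single_obj_X _ _ _ _ (by omega))
    (fun j => finite_unit_X j) n
  refine ⟨m, h, Q.map (λ_ (Zq (SS fs m))).inv ≫ β ≫
    Q.map (λ_ (kos (fs.map (· ^ n)) : DRing.Cx A)).hom, ?_, ?_⟩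
  · rw [← Category.assoc, ← Q.map_comp, leftUnitor_inv_naturality, Q.map_comp, Category.assoc,
      reassoc_of% h1, ← Q.map_comp, ← Q.map_comp, leftUnitor_naturality, Iso.inv_hom_id_assoc]
  · rw [Category.assoc, Category.assoc, ← Q.map_comp, ← leftUnitor_naturality, Q.map_comp,
      reassoc_of% h2, ← Q.map_comp, ← Q.map_comp, leftUnitor_naturality, Iso.inv_hom_id_assoc]

lemma adicSystem_map (I : Ideal A) (M : ModuleCat.{u} A) (n m : ℕ) (h : n ≤ m) :
    (CohIII.adicSystem I M).map (homOfLE h).op =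
      ModuleCat.ofHom (Submodule.factor
        (Submodule.smul_mono_left (Ideal.pow_le_pow_right (Nat.succ_le_succ h)) :
          I ^ (m + 1) • (⊤ : Submodule A M) ≤ I ^ (n + 1) • (⊤ : Submodule A M))) := by
  induction m, h using Nat.le_induction with
  | base =>
    have h1 : (homOfLE (le_refl n)) = 𝟙 n := rfl
    rw [h1, op_id, CategoryTheory.Functor.map_id]
    apply ModuleCat.hom_ext
    apply LinearMap.ext
    intro x
    obtain ⟨y, rfl⟩ := Submodule.mkQ_surjective _ x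
    rfl
  | succ m h ih =>
    have h1 : homOfLE (h.trans (Nat.le_succ m)) = homOfLE h ≫ homOfLE (Nat.le_succ m) := rfl
    rw [h1, op_comp, Functor.map_comp, ih]
    have h2 : (CohIII.adicSystem I M).map (homOfLE (Nat.le_succ m)).op =
        ModuleCat.ofHom (Submodule.factor
          (Submodule.smul_mono_left (Ideal.pow_le_pow_right (Nat.le_succ (m + 1))))) := by
      unfold CohIII.adicSystem
      rw [Functor.ofOpSequence_map_homOfLE_succ]
    rw [h2]
    exact (ModuleCat.ofHom_comp _ _).symm.trans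
      (congrArg ModuleCat.ofHom (Submodule.factor_comp _ _))

/-- the un-shifted pro-isomorphism statement. -/
theorem exists_pro_inverse_LTen [IsNoetherianRing A] [DTen.HasLTen A] (fs : List A)
    (K : DRing.Cx A) (a b : ℤ)
    (hK : ∀ j, (j < a ∨ b < j) → IsZero (K.X j)) (hKf : ∀ j, Module.Finite A (K.X j)) (n : ℕ) :
    ∃ (m : ℕ) (h : n ≤ m) (β : Q.obj (K ⊗ Zq (SS fs m)) ⟶
        ((DTen.LTen A).obj (Q.obj K)).obj (Q.obj (Zq (SS fs n)))),
      (DTen.ε A).app (K, Zq (SS fs m)) ≫ β =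
        ((DTen.LTen A).obj (Q.obj K)).map (Q.map (zT (SS_anti fs h))) ∧
      β ≫ (DTen.ε A).app (K, Zq (SS fs n)) = Q.map (K ◁ zT (SS_anti fs h)) :=
  abstract_proIso (C := DRing.Cx A) (D := DerivedCategory (ModuleCat.{u} A)) Q
    ((DTen.LTen A).obj (Q.obj K)) (tensorLeft K ⋙ Q) (DTen.εLeft A K)
    (fun m => Zq (SS fs m)) (fun m => kos (fs.map (· ^ m)))
    (fun n m h => zT (SS_anti fs h)) (fun n m h => kosT n m h fs) (fun m => pp fs m)
    (fun n m k h h' => zT_comp _ _)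
    (fun n m h => kosT_pp fs n m h)
    (fun m => Groth.Agent.Lib.helper13.DTenA.isIso_ε_right K _ (isKFlatR_kos _))
    (fun n => exists_pro_inverse fs K a b hK hKf n)
    (fun n => exists_pro_inverse_unit fs n) n

theorem isProIso_εLeft_adicSystem [IsNoetherianRing A] [DTen.HasLTen A] (fs : List A)
    (K : DRing.Cx A) (a b : ℤ)
    (hK : ∀ j, (j < a ∨ b < j) → IsZero (K.X j)) (hKf : ∀ j, Module.Finite A (K.X j)) :
    DerCA.IsProIso (Functor.whiskerLeft
      (CohIII.adicSystem (II fs) (ModuleCat.of A A) ⋙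
        HomologicalComplex.single (ModuleCat.{u} A) (ComplexShape.up ℤ) 0)
      (DTen.εLeft A K)) := by
  intro n
  obtain ⟨m', h', β, h1, h2⟩ := exists_pro_inverse_LTen fs K a b hK hKf (n + 1)
  obtain ⟨m, rfl⟩ : ∃ m, m' = m + 1 := ⟨m' - 1, by omega⟩
  have h : n ≤ m := Nat.le_of_succ_le_succ h'
  refine ⟨m, h, β, ?_, ?_⟩
  · refine h1.trans ?_
    show _ = ((DTen.LTen A).obj (Q.obj K)).map (Q.map
      ((HomologicalComplex.single (ModuleCat.{u} A) (ComplexShape.up ℤ) 0).map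
        ((CohIII.adicSystem (II fs) (ModuleCat.of A A)).map (homOfLE h).op)))
    rw [adicSystem_map]
    rfl
  · refine h2.trans ?_
    show _ = Q.map (K ◁
      ((HomologicalComplex.single (ModuleCat.{u} A) (ComplexShape.up ℤ) 0).map
        ((CohIII.adicSystem (II fs) (ModuleCat.of A A)).map (homOfLE h).op)))
    rw [adicSystem_map]
    rfl

end Groth.Agent.Lib.helper23.ProKos
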