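import Mathlib
import Groth.Prelude.Def_DTen
import Groth.Agent.Lib.Helper23.ProKos9
import Groth.Agent.Lib.Helper23.PerfT3
import Groth.Agent.Lib.Helper23.TBC4
import Groth.Agent.Lib.Helper13.KRes6
import Groth.Agent.Lib.Helper13.DTenA

/-!
# `I ^ n M ⟶ M` factors through `I ⊗^L M ⟶ M` (helper23)
-/

set_option autoImplicit false
universe u
open CategoryTheory CategoryTheory.Limits HomologicalComplex MonoidalCategory CochainComplex
open DerivedCategory Pretriangulated Opposite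

attribute [local instance] HasDerivedCategory.standard

namespace Groth.Agent.Lib.helper23.ProKos

variable {A : Type u} [CommRing A]

/-- the functor `M ↦ M[0]`. -/
noncomputable abbrev sg : ModuleCat.{u} A ⥤ DRing.Cx A :=
  HomologicalComplex.single (ModuleCat.{u} A) (ComplexShape.up ℤ) 0

/-- the sequence `I ⟶ A ⟶ A ⧸ I` of modules. -/
noncomputable def idealSES (I : Ideal A) : ShortComplex (ModuleCat.{u} A) :=
  ShortComplex.mk (ModuleCat.ofHom I.subtype)
    (ModuleCat.ofHom (Submodule.mkQ (I : Submodule A A))) (by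
      apply ModuleCat.hom_ext
      apply LinearMap.ext
      intro x
      show Submodule.mkQ (I : Submodule A A) (x : A) = 0
      rw [Submodule.mkQ_apply, Submodule.Quotient.mk_eq_zero]
      exact x.2)

lemma idealSES_shortExact (I : Ideal A) : (idealSES I).ShortExact := by
  refine ShortComplex.ShortExact.mk' ?_ ?_ ?_
  · rw [ShortComplex.moduleCat_exact_iff]
    intro x hx
    change Submodule.mkQ (I : Submodule A A) x = 0 at hx
    rw [Submodule.mkQ_apply, Submodule.Quotient.mk_eq_zero] at hx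
    exact ⟨⟨x, hx⟩, rfl⟩
  · rw [ModuleCat.mono_iff_injective]
    exact Subtype.val_injective
  · rw [ModuleCat.epi_iff_surjective]
    exact Submodule.mkQ_surjective _

/-- the sequence `I[0] ⟶ A[0] ⟶ (A ⧸ I)[0]` of complexes. -/
noncomputable def idealSESCx (I : Ideal A) : ShortComplex (DRing.Cx A) := (idealSES I).map sg

lemma idealSESCx_shortExact (I : Ideal A) : (idealSESCx I).ShortExact :=
  (idealSES_shortExact I).map_of_exact sg

lemma finite_sg_X (M : ModuleCat.{u} A) [Module.Finite A M] (j : ℤ) :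
    Module.Finite A ((sg.obj M).X j) := by
  by_cases hj : j = 0
  · subst hj
    exact Module.Finite.equiv (HomologicalComplex.singleObjXSelf (ComplexShape.up ℤ) (0 : ℤ)
      M).symm.toLinearEquiv
  · haveI : Subsingleton ((sg.obj M).X j) := ModuleCat.subsingleton_of_isZero
      (HomologicalComplex.isZero_single_obj_X _ _ _ _ hj)
    infer_instance

lemma sg_map_mem (J : Ideal A) {N M : ModuleCat.{u} A} (f : N ⟶ M)
    (hf : ∀ x, f.hom x ∈ J • (⊤ : Submodule A M)) (j : ℤ) (x : (sg.obj N).X j) :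
    ((sg.map f).f j).hom x ∈ J • (⊤ : Submodule A ((sg.obj M).X j)) := by
  by_cases hj : j = 0
  · subst hj
    rw [HomologicalComplex.single_map_f_self]
    exact map_mem_smul_top J (HomologicalComplex.singleObjXSelf (ComplexShape.up ℤ) (0 : ℤ)
      M).inv.hom _ (hf _)
  · haveI : Subsingleton ((sg.obj M).X j) := ModuleCat.subsingleton_of_isZero
      (HomologicalComplex.isZero_single_obj_X _ _ _ _ hj)
    rw [Subsingleton.elim (((sg.map f).f j).hom x) 0]
    exact zero_mem _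

lemma mem_II_of_mem (fs : List A) : ∀ g ∈ fs, ∀ a : A, g • a ∈ (II fs : Submodule A A) := by
  intro g hg a
  exact Ideal.mul_mem_right _ _ (Ideal.subset_span (show g ∈ {x : A | x ∈ fs} from hg))

open Groth.Agent.Lib.helper13.KFlat in
/-- **`I ^ n M ⟶ M` factors through `I ⊗^L M ⟶ M`.** -/
theorem exists_factor_LTen [IsNoetherianRing A] [DTen.HasLTen A] (fs : List A) (M : Type u)
    [AddCommGroup M] [Module A M] [Module.Finite A M] :
    ∃ (n : ℕ) (_ : 0 < n)
      (g : Q.obj (sg.obj (ModuleCat.of A ↥((II fs) ^ n • (⊤ : Submodule A M)))) ⟶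
        (DTen.LTen₂ A).obj (Q.obj (sg.obj (ModuleCat.of A ↥(II fs))),
          Q.obj (sg.obj (ModuleCat.of A M)))),
      g ≫ (DTen.LTen₂ A).map (Prod.mkHom
            (Q.map (sg.map (ModuleCat.ofHom (II fs).subtype))) (𝟙 _)) ≫
          (DTen.unitL A).app (Q.obj (sg.obj (ModuleCat.of A M))) =
        Q.map (sg.map (ModuleCat.ofHom ((II fs) ^ n • (⊤ : Submodule A M)).subtype)) := by
  obtain ⟨P, s, hPk, hPf, hs, -⟩ :=
    Groth.Agent.Lib.helper13.KRes.exists_isKFlatR_resolution (sg.obj (ModuleCat.of A M))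
  haveI := hs
  haveI : IsIso (Q.map s) := inferInstance
  -- the KEY
  haveI : (sg.obj (ModuleCat.of A M) ⊗ kos fs).IsStrictlyGE (0 + (-(fs.length : ℤ))) := by
    rw [CochainComplex.isStrictlyGE_iff]
    intro j hj
    exact isZero_tensor_X _ _ 0 _
      (fun j hj => HomologicalComplex.isZero_single_obj_X _ _ _ _ (by omega))
      (fun j hj => isZero_kos_X _ j hj) j hj
  obtain ⟨c, hc⟩ := exists_pow_kill fs (sg.obj (ModuleCat.of A M))
    (sg.obj (ModuleCat.of A M) ⊗ kos fs) 0 0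
    (fun j hj => HomologicalComplex.isZero_single_obj_X _ _ _ _ (by omega))
    (fun j => finite_sg_X _ j) (0 + (-(fs.length : ℤ)))
    (fun f hf => ⟨1, by rw [pow_one]; exact smul_id_Q_tensor_kos _ fs f hf⟩)
    (Q.map ((λ_ (sg.obj (ModuleCat.of A M))).inv ≫ kosU fs ▷ sg.obj (ModuleCat.of A M) ≫
      (DTen.braidCx (kos fs) (sg.obj (ModuleCat.of A M))).hom))
  have h0 := hc _ (sg.map (ModuleCat.ofHom ((II fs) ^ (c + 1) • (⊤ : Submodule A M)).subtype))
    (sg_map_mem _ _ (fun x => Submodule.smul_mono_left (Ideal.pow_le_pow_right (Nat.le_succ c))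
      x.2))
  -- the vanishing
  haveI : QuasiIso (kos fs ◁ s) :=
    Groth.Agent.Lib.helper23.TBC.quasiIso_whiskerLeft_kflat (kos fs) (isKFlatR_kos fs) s
  haveI : IsIso (Q.map (kos fs ◁ s)) := inferInstance
  have hcomp : (λ_ P).inv ≫ kosU fs ▷ P ≫ kos fs ◁ s =
      s ≫ (λ_ (sg.obj (ModuleCat.of A M))).inv ≫ kosU fs ▷ sg.obj (ModuleCat.of A M) := by
    rw [← whisker_exchange, leftUnitor_inv_naturality_assoc]
  have hy : (Q.map (sg.map (ModuleCat.ofHom ((II fs) ^ (c + 1) • (⊤ : Submodule A M)).subtype)) ≫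
      inv (Q.map s) ≫ Q.map (λ_ P).inv) ≫ Q.map (kosU fs ▷ P) = 0 := by
    have hcomp' : (λ_ P).inv ≫ kosU fs ▷ P ≫ kos fs ◁ s ≫
        (DTen.braidCx (kos fs) (sg.obj (ModuleCat.of A M))).hom =
        s ≫ (λ_ (sg.obj (ModuleCat.of A M))).inv ≫ kosU fs ▷ sg.obj (ModuleCat.of A M) ≫
          (DTen.braidCx (kos fs) (sg.obj (ModuleCat.of A M))).hom := by
      rw [← Category.assoc (kosU fs ▷ P), ← Category.assoc (λ_ P).inv, hcomp]
      simp only [Category.assoc]
    haveI : IsIso (Q.map (kos fs ◁ s ≫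
        (DTen.braidCx (kos fs) (sg.obj (ModuleCat.of A M))).hom)) := by
      rw [Q.map_comp]
      infer_instance
    rw [← cancel_mono (Q.map (kos fs ◁ s ≫
      (DTen.braidCx (kos fs) (sg.obj (ModuleCat.of A M))).hom)), zero_comp]
    simp only [Category.assoc, ← Q.map_comp]
    rw [hcomp', Q.map_comp, IsIso.inv_hom_id_assoc]
    exact h0
  -- the triangle
  have hT := triangleOfSES_distinguished
    (Groth.Agent.Lib.helper23.PerfT.shortExact_whiskerRight (idealSESCx (II fs))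
      (idealSESCx_shortExact (II fs)) P hPf)
  have hzπ : zπ (II fs : Submodule A A) = kosU fs ≫ kosP (II fs : Submodule A A) fs
      (mem_II_of_mem fs) := (kosU_kosP _ _ _).symm
  obtain ⟨g', hg'⟩ : ∃ g' : Q.obj (sg.obj (ModuleCat.of A ↥((II fs) ^ (c + 1) •
      (⊤ : Submodule A M)))) ⟶ Q.obj (sg.obj (ModuleCat.of A ↥(II fs)) ⊗ P),
      Q.map (sg.map (ModuleCat.ofHom ((II fs) ^ (c + 1) • (⊤ : Submodule A M)).subtype)) ≫
        inv (Q.map s) ≫ Q.map (λ_ P).inv =
      g' ≫ Q.map (sg.map (ModuleCat.ofHom (II fs).subtype) ▷ P) := by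
    refine Triangle.coyoneda_exact₂ _ hT _ ?_
    show _ ≫ Q.map (zπ (II fs : Submodule A A) ▷ P) = 0
    rw [hzπ, comp_whiskerRight, Q.map_comp, ← Category.assoc, hy, zero_comp]
  haveI : IsIso ((DTen.ε A).app (sg.obj (ModuleCat.of A ↥(II fs)), P)) :=
    Groth.Agent.Lib.helper13.DTenA.isIso_ε_right _ P hPk
  have hnat := (DTen.ε A).naturality (X := (sg.obj (ModuleCat.of A ↥(II fs)), P))
    (Y := (𝟙_ (DRing.Cx A), sg.obj (ModuleCat.of A M)))
    (Prod.mkHom (sg.map (ModuleCat.ofHom (II fs).subtype)) s)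
  refine ⟨c + 1, Nat.succ_pos c, g' ≫ inv ((DTen.ε A).app (sg.obj (ModuleCat.of A ↥(II fs)), P)) ≫
    (DTen.LTen₂ A).map (Prod.mkHom (𝟙 _) (Q.map s)), ?_⟩
  rw [DTen.unitL_app]
  have hmap : (DTen.LTen₂ A).map (Prod.mkHom (𝟙 (Q.obj (sg.obj (ModuleCat.of A ↥(II fs)))))
        (Q.map s)) ≫
      (DTen.LTen₂ A).map (Prod.mkHom (Q.map (sg.map (ModuleCat.ofHom (II fs).subtype)))
        (𝟙 (Q.obj (sg.obj (ModuleCat.of A M))))) =
      (DTen.QQ A ⋙ DTen.LTen₂ A).map
        (Prod.mkHom (sg.map (ModuleCat.ofHom (II fs).subtype)) s) := by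
    rw [← Functor.map_comp]
    show (DTen.LTen₂ A).map (Prod.mkHom (𝟙 _ ≫ Q.map _) (Q.map s ≫ 𝟙 _)) = _
    rw [Category.id_comp, Category.comp_id]
    rfl
  have htm : (DTen.tensor₂ A).map (Prod.mkHom (sg.map (ModuleCat.ofHom (II fs).subtype)) s) =
      Q.map (sg.map (ModuleCat.ofHom (II fs).subtype) ▷ P ≫ 𝟙_ (DRing.Cx A) ◁ s) := rfl
  calc (g' ≫ inv ((DTen.ε A).app (sg.obj (ModuleCat.of A ↥(II fs)), P)) ≫
          (DTen.LTen₂ A).map (Prod.mkHom (𝟙 _) (Q.map s))) ≫
        (DTen.LTen₂ A).map (Prod.mkHom (Q.map (sg.map (ModuleCat.ofHom (II fs).subtype)))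
          (𝟙 (Q.obj (sg.obj (ModuleCat.of A M))))) ≫
        (DTen.ε A).app (𝟙_ (DRing.Cx A), sg.obj (ModuleCat.of A M)) ≫
          Q.map (λ_ (sg.obj (ModuleCat.of A M))).hom
      = g' ≫ inv ((DTen.ε A).app (sg.obj (ModuleCat.of A ↥(II fs)), P)) ≫
          (((DTen.LTen₂ A).map (Prod.mkHom (𝟙 (Q.obj (sg.obj (ModuleCat.of A ↥(II fs)))))
              (Q.map s)) ≫
            (DTen.LTen₂ A).map (Prod.mkHom (Q.map (sg.map (ModuleCat.ofHom (II fs).subtype)))
              (𝟙 (Q.obj (sg.obj (ModuleCat.of A M)))))) ≫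
            (DTen.ε A).app (𝟙_ (DRing.Cx A), sg.obj (ModuleCat.of A M))) ≫
          Q.map (λ_ (sg.obj (ModuleCat.of A M))).hom := by
        simp only [Category.assoc]
    _ = g' ≫ Q.map (sg.map (ModuleCat.ofHom (II fs).subtype) ▷ P ≫ 𝟙_ (DRing.Cx A) ◁ s) ≫
          Q.map (λ_ (sg.obj (ModuleCat.of A M))).hom := by
        rw [hmap, hnat, Category.assoc, IsIso.inv_hom_id_assoc, htm]
    _ = (g' ≫ Q.map (sg.map (ModuleCat.ofHom (II fs).subtype) ▷ P)) ≫
          Q.map (𝟙_ (DRing.Cx A) ◁ s ≫ (λ_ (sg.obj (ModuleCat.of A M))).hom) := by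
        simp only [Q.map_comp, Category.assoc]
    _ = (Q.map (sg.map (ModuleCat.ofHom ((II fs) ^ (c + 1) • (⊤ : Submodule A M)).subtype)) ≫
          inv (Q.map s) ≫ Q.map (λ_ P).inv) ≫ Q.map ((λ_ P).hom ≫ s) := by
        rw [← hg', leftUnitor_naturality]
    _ = Q.map (sg.map (ModuleCat.ofHom ((II fs) ^ (c + 1) • (⊤ : Submodule A M)).subtype)) := by
        rw [Q.map_comp, Category.assoc, Category.assoc, ← Q.map_comp_assoc, Iso.inv_hom_id,
          Q.map_id, Category.id_comp, IsIso.inv_hom_id, Category.comp_id]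

end Groth.Agent.Lib.helper23.ProKos
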