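import Mathlib
import Groth.Prelude.Def_DerCA
import Groth.Agent.Lib.Helper27.DerivedGhost

/-!
# Pro-systems in triangulated / derived categories (helper23)

* `exists_coneSystem`: a levelwise map `f : X ⟶ Y` of `ℕᵒᵖ`-systems in a pretriangulated category can be
  completed to a system of distinguished triangles `X_n → Y_n → Z_n → X_n⟦1⟧` (levelwise natural maps).
* `comp_eq_zero_of_exact`: for an exact `A → B → C`, `u ≫ S.g = 0` and `S.f ≫ v = 0` imply `u ≫ v = 0`.
* `isProZero_homology_cone`: if `H^i(f)` and `H^{i+1}(f)` are pro-isos then `H^i(Z)` is pro-zero.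
* `isZero_homology_cone`: vanishing of `H^i` of a cone.
* `isProZero_of_homology`: a uniformly bounded system in `D(A)` whose cohomology systems are all pro-zero is pro-zero.
-/

open CategoryTheory Limits Opposite Pretriangulated

universe w v u

namespace Groth.Agent.Lib.helper23.ProSys

section Cone

variable {D : Type u} [Category.{v} D] [Preadditive D] [HasZeroObject D] [HasShift D ℤ]
    [∀ n : ℤ, (shiftFunctor D n).Additive] [Pretriangulated D]

theorem exists_coneSystem (X Y : ARSys.PS D) (f : X ⟶ Y) :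
    ∃ (Z : ARSys.PS D) (g : Y ⟶ Z) (h : Z ⟶ X ⋙ shiftFunctor D (1 : ℤ)),
      ∀ n : ℕ, Triangle.mk (f.app (op n)) (g.app (op n)) (h.app (op n)) ∈ distTriang D := by
  choose Z g h hT using fun n : ℕ => distinguished_cocone_triangle (f.app (op n))
  have hc : ∀ n : ℕ, ∃ c : Z (n + 1) ⟶ Z n,
      g (n + 1) ≫ c = Y.map (homOfLE (n.le_add_right 1)).op ≫ g n ∧
      h (n + 1) ≫ (X.map (homOfLE (n.le_add_right 1)).op)⟦(1 : ℤ)⟧' = c ≫ h n := by
    intro n
    obtain ⟨c, hc1, hc2⟩ := complete_distinguished_triangle_morphism _ _ (hT (n + 1)) (hT n)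
      (X.map (homOfLE (n.le_add_right 1)).op) (Y.map (homOfLE (n.le_add_right 1)).op)
      (f.naturality _).symm
    exact ⟨c, hc1, hc2⟩
  choose c hc1 hc2 using hc
  refine ⟨Functor.ofOpSequence c, NatTrans.ofOpSequence g ?_, NatTrans.ofOpSequence h ?_, ?_⟩
  · intro n
    rw [Functor.ofOpSequence_map_homOfLE_succ]
    exact (hc1 n).symm
  · intro n
    rw [Functor.ofOpSequence_map_homOfLE_succ]
    exact (hc2 n).symm
  · intro n
    exact hT n

end Cone

theorem comp_eq_zero_of_exact {B : Type*} [Category B] [Abelian B] (S : ShortComplex B)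
    (hS : S.Exact) {W V : B} (u : W ⟶ S.X₂) (v : S.X₂ ⟶ V) (hu : u ≫ S.g = 0)
    (hv : S.f ≫ v = 0) : u ≫ v = 0 := by
  haveI := hS.epi_toCycles
  have h1 : S.iCycles ≫ v = 0 := by
    rw [← cancel_epi S.toCycles, ← Category.assoc, S.toCycles_i, hv, comp_zero]
  rw [← S.liftCycles_i u hu, Category.assoc, h1, comp_zero]

section Derived

variable {A : Type u} [Category.{v} A] [Abelian A] [HasDerivedCategory.{w} A]

open DerivedCategory

theorem tr_comp {C : Type*} [Category C] (Z : ARSys.PS C) {n m k : ℕ} (h₁ : n ≤ m) (h₂ : m ≤ k) :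
    ARSys.tr Z (h₁.trans h₂) = ARSys.tr Z h₂ ≫ ARSys.tr Z h₁ := by
  dsimp only [ARSys.tr]
  rw [← Z.map_comp]
  rfl

theorem isProZero_homology_cone (X Y Z : ARSys.PS (DerivedCategory A)) (f : X ⟶ Y) (g : Y ⟶ Z)
    (h : Z ⟶ X ⋙ shiftFunctor (DerivedCategory A) (1 : ℤ))
    (hT : ∀ n : ℕ, Triangle.mk (f.app (op n)) (g.app (op n)) (h.app (op n)) ∈
      distTriang (DerivedCategory A))
    (i : ℤ)
    (hH0 : DerCA.IsProIso (Functor.whiskerRight f (homologyFunctor A i)))
    (hH1 : DerCA.IsProIso (Functor.whiskerRight f (homologyFunctor A (i + 1)))) :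
    DerCA.IsProZero (Z ⋙ homologyFunctor A i) := by
  intro n
  obtain ⟨m₁, h₁, b₂, -, hb₂⟩ := hH0 n
  obtain ⟨m₂, h₂, b₁, hb₁, -⟩ := hH1 m₁
  refine ⟨m₂, h₁.trans h₂, ?_⟩
  let T : ℕ → Triangle (DerivedCategory A) := fun n =>
    Triangle.mk (f.app (op n)) (g.app (op n)) (h.app (op n))
  let φ : T m₂ ⟶ T m₁ :=
    { hom₁ := X.map (homOfLE h₂).op
      hom₂ := Y.map (homOfLE h₂).op
      hom₃ := Z.map (homOfLE h₂).op
      comm₁ := (f.naturality _).symm
      comm₂ := (g.naturality _).symm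
      comm₃ := (h.naturality _).symm }
  have key1 : (homologyFunctor A i).map (Z.map (homOfLE h₂).op) ≫
      HomologySequence.δ (T m₁) i (i + 1) rfl = 0 := by
    have e1 := (homologyFunctor A 0).homologySequenceδ_naturality (T m₂) (T m₁) φ i (i + 1) rfl
    refine e1.trans ?_
    have e : (homologyFunctor A (i + 1)).map (X.map (homOfLE h₂).op) =
        (homologyFunctor A (i + 1)).map (f.app (op m₂)) ≫ b₁ := hb₁.symm
    have e2 := HomologySequence.δ_comp (T m₂) (hT m₂) i (i + 1) rfl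
    have e3 : HomologySequence.δ (T m₂) i (i + 1) rfl ≫
        (homologyFunctor A (i + 1)).map (f.app (op m₂)) = 0 := e2
    exact (congrArg (fun t => HomologySequence.δ (T m₂) i (i + 1) rfl ≫ t) e).trans
      ((Category.assoc _ _ _).symm.trans ((congrArg (fun t => t ≫ b₁) e3).trans zero_comp))
  have key2 : (homologyFunctor A i).map (g.app (op m₁)) ≫
      (homologyFunctor A i).map (Z.map (homOfLE h₁).op) = 0 := by
    rw [← Functor.map_comp, ← g.naturality, Functor.map_comp]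
    have e : (homologyFunctor A i).map (Y.map (homOfLE h₁).op) =
        b₂ ≫ (homologyFunctor A i).map (f.app (op n)) := hb₂.symm
    rw [e, Category.assoc, ← Functor.map_comp]
    have : f.app (op n) ≫ g.app (op n) = 0 := comp_distTriang_mor_zero₁₂ _ (hT n)
    rw [this, Functor.map_zero, comp_zero]
  have key := comp_eq_zero_of_exact _ (HomologySequence.exact₃ (T m₁) (hT m₁) i (i + 1) rfl)
    ((homologyFunctor A i).map (Z.map (homOfLE h₂).op))
    ((homologyFunctor A i).map (Z.map (homOfLE h₁).op)) key1 key2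
  show (homologyFunctor A i).map (ARSys.tr Z (h₁.trans h₂)) = 0
  rw [tr_comp Z h₁ h₂, Functor.map_comp]
  exact key

theorem isZero_homology_cone {X Y Z : DerivedCategory A} (f : X ⟶ Y) (g : Y ⟶ Z)
    (h : Z ⟶ X⟦(1 : ℤ)⟧) (hT : Triangle.mk f g h ∈ distTriang (DerivedCategory A)) (i : ℤ)
    (hY : IsZero ((homologyFunctor A i).obj Y))
    (hX : IsZero ((homologyFunctor A (i + 1)).obj X)) :
    IsZero ((homologyFunctor A i).obj Z) :=
  (HomologySequence.exact₃ _ hT i (i + 1) rfl).isZero_of_both_zeros (hY.eq_of_src _ _)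
    (hX.eq_of_tgt _ _)

theorem isProZero_of_homology (Z : ARSys.PS (DerivedCategory A)) (a b : ℤ)
    (hGE : ∀ n : ℕ, (Z.obj (op n)).IsGE a) (hLE : ∀ n : ℕ, (Z.obj (op n)).IsLE b)
    (hH : ∀ i : ℤ, DerCA.IsProZero (Z ⋙ homologyFunctor A i)) : DerCA.IsProZero Z := by
  have claim : ∀ (N : ℕ) (n : ℕ), ∃ (m : ℕ) (hnm : n ≤ m), ∀ (W : DerivedCategory A),
      W.IsLE (a - 1 + N) → ∀ w : W ⟶ Z.obj (op m), w ≫ ARSys.tr Z hnm = 0 := by
    intro N
    induction N with
    | zero =>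
      intro n
      refine ⟨n, le_rfl, fun W hW w => ?_⟩
      have hw : w = 0 :=
        TStructure.t.zero_of_isLE_of_isGE w (a - 1 + ((0 : ℕ) : ℤ)) a (by omega) hW (hGE n)
      rw [hw, zero_comp]
    | succ N ih =>
      intro n
      obtain ⟨m₁, h₁, hm₁⟩ := ih n
      obtain ⟨m₂, h₂, hm₂⟩ := hH (a + N) m₁
      refine ⟨m₂, h₁.trans h₂, fun W hW w => ?_⟩
      obtain ⟨Z', Z'', hZ', hZ'', ι, π, δ, hTr⟩ :=
        (TStructure.t (C := A)).exists_triangle (Z.obj (op m₁)) (a - 1 + N) (a + N) (by omega)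
      haveI : Z''.IsGE (a + N) := ⟨hZ''⟩
      haveI : W.IsLE (a + N) := by
        have e : a - 1 + ((N + 1 : ℕ) : ℤ) = a + N := by push_cast; ring
        rw [← e]; exact hW
      have h0 : (w ≫ ARSys.tr Z h₂) ≫ π = 0 := by
        apply Groth.Agent.Lib.helper27.ghost_zero (a + N)
        have e : (homologyFunctor A (a + N)).map (ARSys.tr Z h₂) = 0 := hm₂
        rw [Functor.map_comp, Functor.map_comp, e, comp_zero, zero_comp]
      obtain ⟨v', hv''⟩ : ∃ v' : W ⟶ Z', w ≫ ARSys.tr Z h₂ = v' ≫ ι :=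
        Triangle.coyoneda_exact₂ _ hTr _ h0
      rw [tr_comp Z h₁ h₂, ← Category.assoc, hv'', Category.assoc, hm₁ Z' ⟨hZ'⟩ ι, comp_zero]
  intro n
  obtain ⟨N, hN⟩ : ∃ N : ℕ, b ≤ a - 1 + N := ⟨(b - a + 1).toNat, by omega⟩
  obtain ⟨m, hnm, hm⟩ := claim N n
  refine ⟨m, hnm, ?_⟩
  haveI := hLE m
  have := hm (Z.obj (op m)) (TStructure.t.isLE_of_le _ b _ hN) (𝟙 _)
  simpa using this

end Derived

end Groth.Agent.Lib.helper23.ProSys
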