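import Mathlib
import Groth.Prelude.Def_DerCA
import Groth.Agent.Lib.Helper23.ProSys1

/-!
# Essentially constant systems: 2-out-of-3 in triangulated categories (helper23)

* `yoneda_exact₁`: `a : T.obj₁ ⟶ E` with `T.mor₃ ≫ a⟦1⟧' = 0` factors through `T.mor₁`.
* `cone_tr`: cone maps are compatible with transition maps.
* `essConstant_data`: packaged retraction data `σ_n : X_n ⟶ A` (`n ≥ N`) of an essentially constant system.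
* `isEssConstant_middle`: in an inverse system of distinguished triangles with first and third systems
  essentially constant, the middle one is essentially constant.
-/

open CategoryTheory Limits Opposite Pretriangulated

universe v u

namespace Groth.Agent.Lib.helper23.ProSys

theorem cone_tr {C : Type*} [Category C] (X : ARSys.PS C) (A : C)
    (c : (Functor.const ℕᵒᵖ).obj A ⟶ X) {n m : ℕ} (hnm : n ≤ m) :
    c.app (op m) ≫ ARSys.tr X hnm = c.app (op n) := by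
  have := c.naturality (homOfLE hnm).op
  simpa using this.symm

theorem essConstant_data {C : Type*} [Category C] (X : ARSys.PS C) (A : C)
    (c : (Functor.const ℕᵒᵖ).obj A ⟶ X) (hX : DerCA.IsEssConstant X A c) :
    ∃ N₀ : ℕ, ∀ N : ℕ, N₀ ≤ N → ∃ (σ : ∀ n, N ≤ n → (X.obj (op n) ⟶ A)),
      (∀ n hn, c.app (op n) ≫ σ n hn = 𝟙 A) ∧
      (∀ n m hn (hnm : n ≤ m), ARSys.tr X hnm ≫ σ n hn = σ m (hn.trans hnm)) ∧
      (∀ n, ∃ m₀, ∀ m (hnm : n ≤ m) (hm : N ≤ m), m₀ ≤ m →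
        σ m hm ≫ c.app (op n) = ARSys.tr X hnm) := by
  obtain ⟨i, s, hs, hX'⟩ := hX
  refine ⟨i, fun N hN => ⟨fun n hn => ARSys.tr X (hN.trans hn) ≫ s, ?_, ?_, ?_⟩⟩
  · intro n hn
    rw [← Category.assoc, cone_tr, hs]
  · intro n m hn hnm
    rw [← Category.assoc, ← tr_comp]
  · intro n
    obtain ⟨k, hik, hnk, e⟩ := hX' n
    refine ⟨k, fun m hnm hm hkm => ?_⟩
    show (ARSys.tr X (hN.trans hm) ≫ s) ≫ c.app (op n) = ARSys.tr X hnm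
    rw [tr_comp X hnk hkm, e, tr_comp X hik hkm, Category.assoc, Category.assoc]

section

variable {D : Type u} [Category.{v} D] [Preadditive D] [HasZeroObject D] [HasShift D ℤ]
    [∀ n : ℤ, (shiftFunctor D n).Additive] [Pretriangulated D]

theorem yoneda_exact₁ (T : Triangle D) (hT : T ∈ distTriang D) {E : D} (a : T.obj₁ ⟶ E)
    (ha : T.mor₃ ≫ a⟦(1 : ℤ)⟧' = 0) : ∃ b : T.obj₂ ⟶ E, a = T.mor₁ ≫ b := by
  obtain ⟨g, hg⟩ := Triangle.yoneda_exact₃ _ (rot_of_distTriang _ hT) (a⟦(1 : ℤ)⟧') ha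
  obtain ⟨b, rfl⟩ : ∃ b : T.obj₂ ⟶ E, b⟦(1 : ℤ)⟧' = g :=
    (shiftFunctor D (1 : ℤ)).map_surjective g
  refine ⟨-b, (shiftFunctor D (1 : ℤ)).map_injective ?_⟩
  have hg' : a⟦(1 : ℤ)⟧' = (-(T.mor₁)⟦(1 : ℤ)⟧') ≫ b⟦(1 : ℤ)⟧' := hg
  rw [hg', Functor.map_comp, Functor.map_neg, Preadditive.comp_neg, Preadditive.neg_comp]

theorem isEssConstant_middle
    (X Y Z : ARSys.PS D) (f : X ⟶ Y) (g : Y ⟶ Z) (h : Z ⟶ X ⋙ shiftFunctor D (1 : ℤ))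
    (hT : ∀ n : ℕ, Triangle.mk (f.app (op n)) (g.app (op n)) (h.app (op n)) ∈ distTriang D)
    (A : D) (cA : (Functor.const ℕᵒᵖ).obj A ⟶ X) (hX : DerCA.IsEssConstant X A cA)
    (C : D) (cC : (Functor.const ℕᵒᵖ).obj C ⟶ Z) (hZ : DerCA.IsEssConstant Z C cC) :
    ∃ (B : D) (cB : (Functor.const ℕᵒᵖ).obj B ⟶ Y), DerCA.IsEssConstant Y B cB := by
  obtain ⟨NX, hNX⟩ := essConstant_data X A cA hX
  obtain ⟨NZ, hNZ⟩ := essConstant_data Z C cC hZ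
  obtain ⟨σ, σ1, σ2, σ3⟩ := hNX (max NX NZ) (le_max_left _ _)
  obtain ⟨τ, τ1, τ2, τ3⟩ := hNZ (max NX NZ) (le_max_right _ _)
  generalize max NX NZ = N₀ at σ σ1 σ2 σ3 τ τ1 τ2 τ3
  clear hNX hNZ
  have fnat : ∀ {n m : ℕ} (hnm : n ≤ m),
      ARSys.tr X hnm ≫ f.app (op n) = f.app (op m) ≫ ARSys.tr Y hnm :=
    fun hnm => f.naturality (homOfLE hnm).op
  have gnat : ∀ {n m : ℕ} (hnm : n ≤ m),
      ARSys.tr Y hnm ≫ g.app (op n) = g.app (op m) ≫ ARSys.tr Z hnm :=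
    fun hnm => g.naturality (homOfLE hnm).op
  have hnat : ∀ {n m : ℕ} (hnm : n ≤ m),
      ARSys.tr Z hnm ≫ h.app (op n) = h.app (op m) ≫ (ARSys.tr X hnm)⟦(1 : ℤ)⟧' :=
    fun hnm => h.naturality (homOfLE hnm).op
  let δ : C ⟶ A⟦(1 : ℤ)⟧ := cC.app (op N₀) ≫ h.app (op N₀) ≫ (σ N₀ le_rfl)⟦(1 : ℤ)⟧'
  obtain ⟨m₀, hm₀⟩ := τ3 N₀
  obtain ⟨N, hN₀N, hm₀N⟩ : ∃ N, N₀ ≤ N ∧ m₀ ≤ N := ⟨max N₀ m₀, le_max_left _ _, le_max_right _ _⟩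
  have m3 : ∀ k (hk : N ≤ k), h.app (op k) ≫ (σ k (hN₀N.trans hk))⟦(1 : ℤ)⟧' =
      τ k (hN₀N.trans hk) ≫ δ := by
    intro k hk
    have hk0 : N₀ ≤ k := hN₀N.trans hk
    have e1 := hm₀ k hk0 hk0 (hm₀N.trans hk)
    have e2 : σ k hk0 = ARSys.tr X hk0 ≫ σ N₀ le_rfl := (σ2 N₀ k le_rfl hk0).symm
    calc h.app (op k) ≫ (σ k hk0)⟦(1 : ℤ)⟧'
        = h.app (op k) ≫ (ARSys.tr X hk0)⟦(1 : ℤ)⟧' ≫ (σ N₀ le_rfl)⟦(1 : ℤ)⟧' := by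
          rw [e2, Functor.map_comp]
      _ = (ARSys.tr Z hk0 ≫ h.app (op N₀)) ≫ (σ N₀ le_rfl)⟦(1 : ℤ)⟧' := by
          rw [hnat, Category.assoc]
      _ = τ k hk0 ≫ δ := by
          rw [← e1]
          simp only [δ, Category.assoc]
  obtain ⟨B, i, p, hTc⟩ := distinguished_cocone_triangle₂ δ
  obtain ⟨ψ₀, hψ1, hψ2⟩ : ∃ ψ₀ : Y.obj (op N) ⟶ B,
      f.app (op N) ≫ ψ₀ = σ N hN₀N ≫ i ∧ g.app (op N) ≫ τ N hN₀N = ψ₀ ≫ p :=
    complete_distinguished_triangle_morphism₂ _ _ (hT N) hTc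
      (σ N hN₀N) (τ N hN₀N) (m3 N le_rfl)
  let ψ : ∀ n, N ≤ n → (Y.obj (op n) ⟶ B) := fun n hn => ARSys.tr Y hn ≫ ψ₀
  have ψ2 : ∀ n m hn (hnm : n ≤ m), ARSys.tr Y hnm ≫ ψ n hn = ψ m (hn.trans hnm) := by
    intro n m hn hnm
    show ARSys.tr Y hnm ≫ ARSys.tr Y hn ≫ ψ₀ = ARSys.tr Y (hn.trans hnm) ≫ ψ₀
    rw [← Category.assoc, ← tr_comp]
  have m1 : ∀ n (hn : N ≤ n), f.app (op n) ≫ ψ n hn = σ n (hN₀N.trans hn) ≫ i := by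
    intro n hn
    show f.app (op n) ≫ ARSys.tr Y hn ≫ ψ₀ = _
    rw [← Category.assoc, ← fnat, Category.assoc, hψ1, ← Category.assoc, σ2]
  have m2 : ∀ n (hn : N ≤ n), g.app (op n) ≫ τ n (hN₀N.trans hn) = ψ n hn ≫ p := by
    intro n hn
    show _ = (ARSys.tr Y hn ≫ ψ₀) ≫ p
    rw [Category.assoc, ← hψ2, ← Category.assoc, gnat, Category.assoc, τ2]
  have hip : i ≫ p = 0 := comp_distTriang_mor_zero₁₂ _ hTc
  have hpδ : p ≫ δ = 0 := comp_distTriang_mor_zero₂₃ _ hTc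
  -- injectivity
  have inj : ∀ {E : D} (b : B ⟶ E) (m : ℕ) (hm : N ≤ m), ψ m hm ≫ b = 0 → b = 0 := by
    intro E b m hm hb
    have hm0 := hN₀N.trans hm
    have h1 : i ≫ b = 0 := by
      have h1' : σ m hm0 ≫ i ≫ b = 0 := by
        rw [← Category.assoc, ← m1 m hm, Category.assoc, hb, comp_zero]
      calc i ≫ b = (cA.app (op m) ≫ σ m hm0) ≫ i ≫ b := by rw [σ1]; exact (Category.id_comp _).symm
        _ = 0 := by rw [Category.assoc, h1', comp_zero]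
    obtain ⟨c, hc⟩ : ∃ c : C ⟶ E, b = p ≫ c := Triangle.yoneda_exact₂ _ hTc b h1
    have h2 : g.app (op m) ≫ τ m hm0 ≫ c = 0 := by
      rw [← Category.assoc, m2 m hm, Category.assoc, ← hc, hb]
    obtain ⟨x, hx⟩ : ∃ x : (X.obj (op m))⟦(1 : ℤ)⟧ ⟶ E, τ m hm0 ≫ c = h.app (op m) ≫ x :=
      Triangle.yoneda_exact₃ _ (hT m) (τ m hm0 ≫ c) h2
    obtain ⟨m₁, hm₁⟩ := σ3 m
    obtain ⟨m', hmm', hm₁m'⟩ : ∃ m', m ≤ m' ∧ m₁ ≤ m' :=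
      ⟨max m m₁, le_max_left _ _, le_max_right _ _⟩
    have hm'0 : N₀ ≤ m' := hm0.trans hmm'
    have e3 := hm₁ m' hmm' hm'0 hm₁m'
    have h3 : τ m' hm'0 ≫ c = τ m' hm'0 ≫ δ ≫ (cA.app (op m))⟦(1 : ℤ)⟧' ≫ x := by
      calc τ m' hm'0 ≫ c = ARSys.tr Z hmm' ≫ τ m hm0 ≫ c := by rw [← Category.assoc, τ2]
        _ = ARSys.tr Z hmm' ≫ h.app (op m) ≫ x := by rw [hx]
        _ = h.app (op m') ≫ (ARSys.tr X hmm')⟦(1 : ℤ)⟧' ≫ x := by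
            rw [← Category.assoc, hnat, Category.assoc]
        _ = h.app (op m') ≫ (σ m' hm'0)⟦(1 : ℤ)⟧' ≫ (cA.app (op m))⟦(1 : ℤ)⟧' ≫ x := by
            rw [← e3, Functor.map_comp, Category.assoc]
        _ = τ m' hm'0 ≫ δ ≫ (cA.app (op m))⟦(1 : ℤ)⟧' ≫ x := by
            rw [← Category.assoc, m3 m' (hm.trans hmm'), Category.assoc]
    have h4 : c = δ ≫ (cA.app (op m))⟦(1 : ℤ)⟧' ≫ x := by
      calc c = (cC.app (op m') ≫ τ m' hm'0) ≫ c := by rw [τ1]; exact (Category.id_comp _).symm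
        _ = (cC.app (op m') ≫ τ m' hm'0) ≫ δ ≫ (cA.app (op m))⟦(1 : ℤ)⟧' ≫ x := by
            rw [Category.assoc, h3, ← Category.assoc]
        _ = δ ≫ (cA.app (op m))⟦(1 : ℤ)⟧' ≫ x := by rw [τ1]; exact Category.id_comp _
    rw [hc, h4, ← Category.assoc, hpδ, zero_comp]
  -- surjectivity
  have surj : ∀ {E : D} (n : ℕ) (hn : N ≤ n) (y : Y.obj (op n) ⟶ E),
      ∃ (m : ℕ) (hnm : n ≤ m) (b : B ⟶ E), ψ m (hn.trans hnm) ≫ b = ARSys.tr Y hnm ≫ y := by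
    intro E n hn y
    have hn0 := hN₀N.trans hn
    obtain ⟨k₁, hk₁⟩ := σ3 n
    obtain ⟨m₁, hnm₁, hk₁m₁⟩ : ∃ m₁, n ≤ m₁ ∧ k₁ ≤ m₁ :=
      ⟨max n k₁, le_max_left _ _, le_max_right _ _⟩
    have hm₁0 : N₀ ≤ m₁ := hn0.trans hnm₁
    have hm₁N : N ≤ m₁ := hn.trans hnm₁
    have e1 : σ m₁ hm₁0 ≫ cA.app (op n) ≫ f.app (op n) ≫ y =
        ARSys.tr X hnm₁ ≫ f.app (op n) ≫ y := by
      rw [← hk₁ m₁ hnm₁ hm₁0 hk₁m₁, Category.assoc]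
    have h1 : δ ≫ (cA.app (op n) ≫ f.app (op n) ≫ y)⟦(1 : ℤ)⟧' = 0 := by
      have h1' : τ m₁ hm₁0 ≫ δ ≫ (cA.app (op n) ≫ f.app (op n) ≫ y)⟦(1 : ℤ)⟧' = 0 := by
        rw [← Category.assoc, ← m3 m₁ hm₁N, Category.assoc, ← Functor.map_comp, e1,
          ← Category.assoc, fnat, Category.assoc, Functor.map_comp, ← Category.assoc]
        have : h.app (op m₁) ≫ (f.app (op m₁))⟦(1 : ℤ)⟧' = 0 :=
          comp_distTriang_mor_zero₃₁ _ (hT m₁)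
        rw [this, zero_comp]
      calc δ ≫ (cA.app (op n) ≫ f.app (op n) ≫ y)⟦(1 : ℤ)⟧'
          = (cC.app (op m₁) ≫ τ m₁ hm₁0) ≫ δ ≫
              (cA.app (op n) ≫ f.app (op n) ≫ y)⟦(1 : ℤ)⟧' := by rw [τ1]; exact (Category.id_comp _).symm
        _ = 0 := by rw [Category.assoc, h1', comp_zero]
    obtain ⟨b₀, hb₀⟩ : ∃ b₀ : B ⟶ E, cA.app (op n) ≫ f.app (op n) ≫ y = i ≫ b₀ :=
      yoneda_exact₁ _ hTc _ h1
    have h2 : f.app (op m₁) ≫ (ARSys.tr Y hnm₁ ≫ y - ψ m₁ hm₁N ≫ b₀) = 0 := by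
      rw [Preadditive.comp_sub, ← Category.assoc, ← fnat, Category.assoc, ← e1,
        ← Category.assoc (f.app (op m₁)), m1 m₁ hm₁N, Category.assoc, ← hb₀, sub_self]
    obtain ⟨z, hz⟩ : ∃ z : Z.obj (op m₁) ⟶ E,
        ARSys.tr Y hnm₁ ≫ y - ψ m₁ hm₁N ≫ b₀ = g.app (op m₁) ≫ z :=
      Triangle.yoneda_exact₂ _ (hT m₁) _ h2
    obtain ⟨k₂, hk₂⟩ := τ3 m₁
    obtain ⟨m₂, hm₁m₂, hk₂m₂⟩ : ∃ m₂, m₁ ≤ m₂ ∧ k₂ ≤ m₂ :=
      ⟨max m₁ k₂, le_max_left _ _, le_max_right _ _⟩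
    have hm₂0 : N₀ ≤ m₂ := hm₁0.trans hm₁m₂
    have hm₂N : N ≤ m₂ := hm₁N.trans hm₁m₂
    have e2 := hk₂ m₂ hm₁m₂ hm₂0 hk₂m₂
    refine ⟨m₂, hnm₁.trans hm₁m₂, b₀ + p ≫ cC.app (op m₁) ≫ z, ?_⟩
    have e3 : ARSys.tr Y hm₁m₂ ≫ (ARSys.tr Y hnm₁ ≫ y - ψ m₁ hm₁N ≫ b₀) =
        ψ m₂ hm₂N ≫ p ≫ cC.app (op m₁) ≫ z := by
      rw [hz, ← Category.assoc, gnat, Category.assoc, ← e2, Category.assoc,
        ← Category.assoc (g.app (op m₂)), m2 m₂ hm₂N, Category.assoc]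
    rw [Preadditive.comp_add, ← e3, Preadditive.comp_sub, ← Category.assoc, ← tr_comp,
      ← Category.assoc (ARSys.tr Y hm₁m₂) (ψ m₁ hm₁N), ψ2]
    abel
  -- the cone
  have exP : ∀ n : ℕ, ∃ b : B ⟶ Y.obj (op n), ∃ (m : ℕ) (hnm : n ≤ m) (hm : N ≤ m),
      ψ m hm ≫ b = ARSys.tr Y hnm := by
    intro n
    obtain ⟨m, hn'm, b, hb⟩ := surj (max n N) (le_max_right _ _) (ARSys.tr Y (le_max_left n N))
    exact ⟨b, m, (le_max_left n N).trans hn'm, (le_max_right n N).trans hn'm, by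
      rw [hb, ← tr_comp]⟩
  have uniqP : ∀ (n : ℕ) (b b' : B ⟶ Y.obj (op n)),
      (∃ (m : ℕ) (hnm : n ≤ m) (hm : N ≤ m), ψ m hm ≫ b = ARSys.tr Y hnm) →
      (∃ (m : ℕ) (hnm : n ≤ m) (hm : N ≤ m), ψ m hm ≫ b' = ARSys.tr Y hnm) → b = b' := by
    rintro n b b' ⟨m, hnm, hm, e⟩ ⟨m', hnm', hm', e'⟩
    obtain ⟨M, hmM, hm'M⟩ : ∃ M, m ≤ M ∧ m' ≤ M := ⟨max m m', le_max_left _ _, le_max_right _ _⟩
    have eM : ψ M (hm.trans hmM) ≫ b = ARSys.tr Y (hnm.trans hmM) := by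
      rw [← ψ2 m M hm hmM, Category.assoc, e, ← tr_comp]
    have eM' : ψ M (hm.trans hmM) ≫ b' = ARSys.tr Y (hnm.trans hmM) := by
      rw [← ψ2 m' M hm' hm'M, Category.assoc, e', ← tr_comp]
    have := inj (b - b') M (hm.trans hmM) (by rw [Preadditive.comp_sub, eM, eM', sub_self])
    exact sub_eq_zero.1 this
  choose β hβ using exP
  have βnat : ∀ n : ℕ, β (n + 1) ≫ ARSys.tr Y (n.le_add_right 1) = β n := by
    intro n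
    refine uniqP n _ _ ?_ (hβ n)
    obtain ⟨m, hnm, hm, e⟩ := hβ (n + 1)
    exact ⟨m, (n.le_add_right 1).trans hnm, hm, by rw [← Category.assoc, e, ← tr_comp]⟩
  let cB : (Functor.const ℕᵒᵖ).obj B ⟶ Y := NatTrans.ofOpSequence β (by
    intro n
    have := βnat n
    simpa using this.symm)
  refine ⟨B, cB, N, ψ₀, ?_, ?_⟩
  · obtain ⟨m, hnm, hm, e⟩ := hβ N
    have hψN : ψ N le_rfl = ψ₀ := by
      show ARSys.tr Y le_rfl ≫ ψ₀ = ψ₀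
      have : ARSys.tr Y (le_refl N) = 𝟙 _ := Y.map_id _
      rw [this, Category.id_comp]
    have := inj (β N ≫ ψ N le_rfl - 𝟙 B) m hm (by
      rw [Preadditive.comp_sub, ← Category.assoc, e, ψ2, Category.comp_id, sub_self])
    rw [hψN] at this
    exact sub_eq_zero.1 this
  · intro j
    obtain ⟨m, hjm, hm, e⟩ := hβ j
    exact ⟨m, hm, hjm, by rw [← e]; simp only [ψ, cB, Category.assoc]; rfl⟩

end

end Groth.Agent.Lib.helper23.ProSys
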