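import Mathlib
import Groth.Prelude.Def_DerCA
import Groth.Agent.Lib.Helper23.ProSys2

/-!
# Essentially constant systems in `D(A)` from essentially constant cohomology (helper23)

* `isEssConstant_of_isZero`: a system of zero objects is essentially constant with value any zero object.
* `isEssConstant_of_iso`: transfer along an isomorphism of systems.
* `isEssConstant_reflect`: reflect essential constancy along a functor which is fully faithful on a class of
  objects containing the terms of the system.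
* `isEssConstant_single_degree`: a system in `D(A)` with terms concentrated in degree `b` whose `H^b` is
  essentially constant is essentially constant.
* `isIso_homology_truncLTι`, `isIso_homology_truncGEπ`: cohomology of the truncations of the canonical t-structure.
* `isEssConstant_of_homology`: uniformly bounded system with essentially constant cohomology systems.
-/

open CategoryTheory Limits Opposite Pretriangulated

universe w v u

namespace Groth.Agent.Lib.helper23.ProSys

theorem isEssConstant_of_isZero {C : Type*} [Category C] [HasZeroMorphisms C] (X : ARSys.PS C)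
    (hX : ∀ n : ℕ, IsZero (X.obj (op n))) (Z : C) (hZ : IsZero Z) :
    DerCA.IsEssConstant X Z 0 :=
  ⟨0, 0, hZ.eq_of_src _ _, fun j => ⟨j, Nat.zero_le j, le_rfl, (hX j).eq_of_src _ _⟩⟩

theorem isEssConstant_of_iso {C : Type*} [Category C] {W W' : ARSys.PS C} (e : W ≅ W') (B : C)
    (c : (Functor.const ℕᵒᵖ).obj B ⟶ W) (h : DerCA.IsEssConstant W B c) :
    DerCA.IsEssConstant W' B (c ≫ e.hom) := by
  obtain ⟨i, s, hs, hf⟩ := h
  have trW' : ∀ {n m : ℕ} (hnm : n ≤ m),
      ARSys.tr W' hnm = e.inv.app (op m) ≫ ARSys.tr W hnm ≫ e.hom.app (op n) := by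
    intro n m hnm
    have := e.hom.naturality (homOfLE hnm).op
    show W'.map _ = e.inv.app (op m) ≫ W.map _ ≫ e.hom.app (op n)
    rw [this, ← Category.assoc, Iso.inv_hom_id_app]
    exact (Category.id_comp _).symm
  refine ⟨i, e.inv.app (op i) ≫ s, ?_, fun j => ?_⟩
  · rw [NatTrans.comp_app, Category.assoc, Iso.hom_inv_id_app_assoc, hs]
  · obtain ⟨k, hi, hj, hk⟩ := hf j
    refine ⟨k, hi, hj, ?_⟩
    rw [trW' hj, trW' hi, hk, NatTrans.comp_app]
    simp only [Category.assoc, Iso.hom_inv_id_app_assoc]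

theorem isEssConstant_reflect {C : Type*} [Category C] {C' : Type*} [Category C'] (F : C ⥤ C')
    (P : C → Prop)
    (hinj : ∀ (K L : C) (f g : K ⟶ L), P K → P L → F.map f = F.map g → f = g)
    (hsurj : ∀ (K L : C), P K → P L → ∀ φ : F.obj K ⟶ F.obj L, ∃ f : K ⟶ L, F.map f = φ)
    (W : ARSys.PS C) (hW : ∀ n : ℕ, P (W.obj (op n))) (L : C) (hL : P L) (B₀ : C')
    (θ : F.obj L ≅ B₀) (c₀ : (Functor.const ℕᵒᵖ).obj B₀ ⟶ W ⋙ F)
    (h : DerCA.IsEssConstant (W ⋙ F) B₀ c₀) :
    ∃ c : (Functor.const ℕᵒᵖ).obj L ⟶ W, DerCA.IsEssConstant W L c := by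
  obtain ⟨i, s₀, hs₀, hf⟩ := h
  have hc : ∀ n : ℕ, ∃ c : L ⟶ W.obj (op n), F.map c = θ.hom ≫ c₀.app (op n) :=
    fun n => hsurj _ _ hL (hW n) _
  choose c hc using hc
  have hnat : ∀ n : ℕ, c (n + 1) ≫ ARSys.tr W (n.le_add_right 1) = c n := by
    intro n
    apply hinj _ _ _ _ hL (hW n)
    rw [Functor.map_comp, hc, hc, Category.assoc]
    have := cone_tr (W ⋙ F) B₀ c₀ (n.le_add_right 1)
    exact congrArg (fun t => θ.hom ≫ t) this
  obtain ⟨s, hs⟩ : ∃ s : W.obj (op i) ⟶ L, F.map s = s₀ ≫ θ.inv := hsurj _ _ (hW i) hL _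
  refine ⟨NatTrans.ofOpSequence c (fun n => ?_), i, s, ?_, fun j => ?_⟩
  · have := hnat n
    simpa using this.symm
  · apply hinj _ _ _ _ hL hL
    show F.map (c i ≫ s) = F.map (𝟙 L)
    rw [Functor.map_comp, hc, hs, Category.assoc, reassoc_of% hs₀]
    simp
  · obtain ⟨k, hi, hj, hk⟩ := hf j
    refine ⟨k, hi, hj, ?_⟩
    apply hinj _ _ _ _ (hW k) (hW j)
    show F.map (ARSys.tr W hj) = F.map (ARSys.tr W hi ≫ s ≫ c j)
    rw [Functor.map_comp, Functor.map_comp, hs, hc, Category.assoc, Iso.inv_hom_id_assoc]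
    exact hk

section Derived

variable {A : Type u} [Category.{v} A] [Abelian A] [HasDerivedCategory.{w} A]

open DerivedCategory

theorem homology_full_single_degree (b : ℤ) (K L : DerivedCategory A) [K.IsGE b] [K.IsLE b]
    [L.IsGE b] [L.IsLE b]
    (φ : (homologyFunctor A b).obj K ⟶ (homologyFunctor A b).obj L) :
    ∃ f : K ⟶ L, (homologyFunctor A b).map f = φ := by
  obtain ⟨AK, ⟨eK⟩⟩ := exists_iso_singleFunctor_obj_of_isGE_of_isLE K b
  obtain ⟨AL, ⟨eL⟩⟩ := exists_iso_singleFunctor_obj_of_isGE_of_isLE L b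
  let ι := singleFunctorCompHomologyFunctorIso A b
  let φ' : AK ⟶ AL := ι.inv.app AK ≫ (homologyFunctor A b).map eK.inv ≫ φ ≫
    (homologyFunctor A b).map eL.hom ≫ ι.hom.app AL
  refine ⟨eK.hom ≫ (singleFunctor A b).map φ' ≫ eL.inv, ?_⟩
  have e1 : (homologyFunctor A b).map ((singleFunctor A b).map φ') =
      ι.hom.app AK ≫ φ' ≫ ι.inv.app AL := by
    have := ι.hom.naturality φ'
    simp only [Functor.comp_map, Functor.id_map] at this
    rw [← reassoc_of% this, Iso.hom_inv_id_app]
    exact (Category.comp_id _).symm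
  rw [Functor.map_comp, Functor.map_comp, e1]
  simp only [φ', Category.assoc, Iso.hom_inv_id_app_assoc, Iso.hom_inv_id_app]
  rw [← Functor.map_comp_assoc, eK.hom_inv_id, CategoryTheory.Functor.map_id, Category.id_comp]
  erw [Category.id_comp]
  rw [← Functor.map_comp, eL.hom_inv_id, CategoryTheory.Functor.map_id, Category.comp_id]

theorem isEssConstant_single_degree (W : ARSys.PS (DerivedCategory A)) (b : ℤ)
    (hGE : ∀ n : ℕ, (W.obj (op n)).IsGE b) (hLE : ∀ n : ℕ, (W.obj (op n)).IsLE b) (B₀ : A)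
    (c₀ : (Functor.const ℕᵒᵖ).obj B₀ ⟶ W ⋙ homologyFunctor A b)
    (h : DerCA.IsEssConstant (W ⋙ homologyFunctor A b) B₀ c₀) :
    ∃ (L : DerivedCategory A) (c : (Functor.const ℕᵒᵖ).obj L ⟶ W), DerCA.IsEssConstant W L c := by
  refine ⟨(singleFunctor A b).obj B₀, ?_⟩
  refine isEssConstant_reflect (homologyFunctor A b) (fun K => K.IsGE b ∧ K.IsLE b) ?_ ?_ W
    (fun n => ⟨hGE n, hLE n⟩) _ ⟨inferInstance, inferInstance⟩ B₀
    ((singleFunctorCompHomologyFunctorIso A b).app B₀) c₀ h
  · rintro K L f g ⟨_, hK⟩ ⟨hL, _⟩ hfg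
    haveI := hK
    haveI := hL
    have := Groth.Agent.Lib.helper27.ghost_zero b (f - g) (by
      rw [Functor.map_sub, hfg, sub_self])
    exact sub_eq_zero.1 this
  · rintro K L ⟨hK1, hK2⟩ ⟨hL1, hL2⟩ φ
    exact homology_full_single_degree b K L φ

theorem isIso_homology_truncLTι (K : DerivedCategory A) (b i : ℤ) (hi : i < b) :
    IsIso ((homologyFunctor A i).map (((TStructure.t (C := A)).truncLTι b).app K)) := by
  have hT := (TStructure.t (C := A)).triangleLTGE_distinguished b K
  haveI : ((TStructure.t (C := A)).truncGE b).obj K |>.IsGE b := inferInstance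
  have h1 : IsZero ((homologyFunctor A (i - 1)).obj (((TStructure.t (C := A)).truncGE b).obj K)) :=
    isZero_of_isGE _ b (i - 1) (by omega)
  have h2 : IsZero ((homologyFunctor A i).obj (((TStructure.t (C := A)).truncGE b).obj K)) :=
    isZero_of_isGE _ b i hi
  haveI : Mono ((homologyFunctor A i).map (((TStructure.t (C := A)).truncLTι b).app K)) :=
    (HomologySequence.mono_homologyMap_mor₁_iff _ hT (i - 1) i (by omega)).2 (h1.eq_of_src _ _)
  haveI : Epi ((homologyFunctor A i).map (((TStructure.t (C := A)).truncLTι b).app K)) :=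
    (HomologySequence.epi_homologyMap_mor₁_iff _ hT i).2 (h2.eq_of_tgt _ _)
  exact isIso_of_mono_of_epi _

theorem isIso_homology_truncGEπ (K : DerivedCategory A) (b : ℤ) :
    IsIso ((homologyFunctor A b).map (((TStructure.t (C := A)).truncGEπ b).app K)) := by
  have hT := (TStructure.t (C := A)).triangleLTGE_distinguished b K
  haveI : ((TStructure.t (C := A)).truncLT b).obj K |>.IsLE (b - 1) := inferInstance
  have h1 : IsZero ((homologyFunctor A b).obj (((TStructure.t (C := A)).truncLT b).obj K)) :=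
    isZero_of_isLE _ (b - 1) b (by omega)
  have h2 : IsZero ((homologyFunctor A (b + 1)).obj (((TStructure.t (C := A)).truncLT b).obj K)) :=
    isZero_of_isLE _ (b - 1) (b + 1) (by omega)
  haveI : Mono ((homologyFunctor A b).map (((TStructure.t (C := A)).truncGEπ b).app K)) :=
    (HomologySequence.mono_homologyMap_mor₂_iff _ hT b).2 (h1.eq_of_src _ _)
  haveI : Epi ((homologyFunctor A b).map (((TStructure.t (C := A)).truncGEπ b).app K)) :=
    (HomologySequence.epi_homologyMap_mor₂_iff _ hT b (b + 1) rfl).2 (h2.eq_of_tgt _ _)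
  exact isIso_of_mono_of_epi _

end Derived

end Groth.Agent.Lib.helper23.ProSys
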