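import Mathlib
import Groth.Prelude.Def_DerCA
import Groth.Agent.Lib.Helper23.ProSys3

/-!
# Uniformly bounded systems in `D(A)` with essentially constant cohomology are essentially constant (helper23)

* `isEssConstant_of_homology_aux`, `isEssConstant_of_homology`.
-/

open CategoryTheory Limits Opposite Pretriangulated

universe w v u

namespace Groth.Agent.Lib.helper23.ProSys

variable {A : Type u} [Category.{v} A] [Abelian A] [HasDerivedCategory.{w} A]

open DerivedCategory ZeroObject

theorem isEssConstant_of_homology_aux (N : ℕ) : ∀ (b : ℤ) (X : ARSys.PS (DerivedCategory A)),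
    (∀ n : ℕ, (X.obj (op n)).IsLE b) → (∀ n : ℕ, (X.obj (op n)).IsGE (b + 1 - N)) →
    (∀ i : ℤ, ∃ (B : A) (c : (Functor.const ℕᵒᵖ).obj B ⟶ X ⋙ homologyFunctor A i),
      DerCA.IsEssConstant (X ⋙ homologyFunctor A i) B c) →
    ∃ (L : DerivedCategory A) (c : (Functor.const ℕᵒᵖ).obj L ⟶ X),
      DerCA.IsEssConstant X L c := by
  induction N with
  | zero =>
    intro b X hLE hGE _
    refine ⟨0, 0, isEssConstant_of_isZero X (fun n => ?_) 0 (isZero_zero _)⟩
    haveI := hLE n
    haveI : (X.obj (op n)).IsGE (b + 1) := by simpa using hGE n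
    exact TStructure.t.isZero (X.obj (op n)) b (b + 1) (by omega)
  | succ N ih =>
    intro b X hLE hGE hH
    let t := TStructure.t (C := A)
    let X' : ARSys.PS (DerivedCategory A) := X ⋙ t.truncLT b
    let X'' : ARSys.PS (DerivedCategory A) := X ⋙ t.truncGE b
    let f : X' ⟶ X :=
      { app := fun n => (t.truncLTι b).app (X.obj n)
        naturality := fun _ _ φ => (t.truncLTι b).naturality (X.map φ) }
    let g : X ⟶ X'' :=
      { app := fun n => (t.truncGEπ b).app (X.obj n)
        naturality := fun _ _ φ => (t.truncGEπ b).naturality (X.map φ) }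
    let h : X'' ⟶ X' ⋙ shiftFunctor (DerivedCategory A) (1 : ℤ) :=
      { app := fun n => (t.truncGEδLT b).app (X.obj n)
        naturality := fun _ _ φ => (t.truncGEδLT b).naturality (X.map φ) }
    have hT : ∀ n : ℕ, Triangle.mk (f.app (op n)) (g.app (op n)) (h.app (op n)) ∈
        distTriang (DerivedCategory A) := fun n => t.triangleLTGE_distinguished b (X.obj (op n))
    have hLE' : ∀ n : ℕ, ((t.truncLT b).obj (X.obj (op n))).IsLE (b - 1) := fun n => inferInstance
    -- X' is essentially constant
    obtain ⟨L', c', hL'⟩ : ∃ (L' : DerivedCategory A) (c' : (Functor.const ℕᵒᵖ).obj L' ⟶ X'),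
        DerCA.IsEssConstant X' L' c' := by
      apply ih (b - 1) X'
      · intro n
        exact hLE' n
      · intro n
        show ((t.truncLT b).obj (X.obj (op n))).IsGE (b - 1 + 1 - N)
        rw [isGE_iff]
        intro i hi
        haveI := isIso_homology_truncLTι (X.obj (op n)) b i (by omega)
        haveI := hGE n
        exact (isZero_of_isGE (X.obj (op n)) (b + 1 - ((N + 1 : ℕ) : ℤ)) i
          (by push_cast; omega)).of_iso
          (asIso ((homologyFunctor A i).map ((t.truncLTι b).app (X.obj (op n)))))
      · intro i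
        by_cases hi : i < b
        · obtain ⟨B, c, hc⟩ := hH i
          let e : X' ⋙ homologyFunctor A i ≅ X ⋙ homologyFunctor A i :=
            NatIso.ofComponents (fun n =>
              @asIso _ _ _ _ ((homologyFunctor A i).map ((t.truncLTι b).app (X.obj n)))
                (isIso_homology_truncLTι _ b i hi)) (by
              intro n m φ
              show (homologyFunctor A i).map ((t.truncLT b).map (X.map φ)) ≫
                (homologyFunctor A i).map ((t.truncLTι b).app (X.obj m)) =
                (homologyFunctor A i).map ((t.truncLTι b).app (X.obj n)) ≫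
                (homologyFunctor A i).map (X.map φ)
              rw [← Functor.map_comp, ← Functor.map_comp]
              exact congrArg _ ((t.truncLTι b).naturality (X.map φ)))
          exact ⟨B, c ≫ e.inv, isEssConstant_of_iso e.symm B c hc⟩
        · refine ⟨0, 0, isEssConstant_of_isZero _ (fun n => ?_) 0 (isZero_zero _)⟩
          haveI := hLE' n
          exact isZero_of_isLE ((t.truncLT b).obj (X.obj (op n))) (b - 1) i (by omega)
    -- X'' is essentially constant
    obtain ⟨L'', c'', hL''⟩ : ∃ (L'' : DerivedCategory A)
        (c'' : (Functor.const ℕᵒᵖ).obj L'' ⟶ X''), DerCA.IsEssConstant X'' L'' c'' := by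
      obtain ⟨B, c, hc⟩ := hH b
      let e : X ⋙ homologyFunctor A b ≅ X'' ⋙ homologyFunctor A b :=
        NatIso.ofComponents (fun n =>
          @asIso _ _ _ _ ((homologyFunctor A b).map ((t.truncGEπ b).app (X.obj n)))
            (isIso_homology_truncGEπ _ b)) (by
          intro n m φ
          show (homologyFunctor A b).map (X.map φ) ≫
            (homologyFunctor A b).map ((t.truncGEπ b).app (X.obj m)) =
            (homologyFunctor A b).map ((t.truncGEπ b).app (X.obj n)) ≫
            (homologyFunctor A b).map ((t.truncGE b).map (X.map φ))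
          rw [← Functor.map_comp, ← Functor.map_comp]
          exact congrArg _ ((t.truncGEπ b).naturality (X.map φ)))
      refine isEssConstant_single_degree X'' b (fun n => ?_) (fun n => ?_) B (c ≫ e.hom)
        (isEssConstant_of_iso e B c hc)
      · show ((t.truncGE b).obj (X.obj (op n))).IsGE b
        infer_instance
      · show ((t.truncGE b).obj (X.obj (op n))).IsLE b
        rw [isLE_iff]
        intro i hi
        haveI := hLE n
        haveI := hLE' n
        exact isZero_homology_cone _ _ _ (hT n) i (isZero_of_isLE (X.obj (op n)) b i hi)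
          (isZero_of_isLE ((t.truncLT b).obj (X.obj (op n))) (b - 1) (i + 1) (by omega))
    exact isEssConstant_middle X' X X'' f g h hT L' c' hL' L'' c'' hL''

theorem isEssConstant_of_homology (X : ARSys.PS (DerivedCategory A)) (a b : ℤ)
    (hX : ∀ (n : ℕ) (i : ℤ), i < a ∨ b < i →
      IsZero ((homologyFunctor A i).obj (X.obj (op n))))
    (hH : ∀ i : ℤ, ∃ (B : A) (c : (Functor.const ℕᵒᵖ).obj B ⟶ X ⋙ homologyFunctor A i),
      DerCA.IsEssConstant (X ⋙ homologyFunctor A i) B c) :
    ∃ (L : DerivedCategory A) (c : (Functor.const ℕᵒᵖ).obj L ⟶ X),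
      DerCA.IsEssConstant X L c :=
  isEssConstant_of_homology_aux (b + 1 - a).toNat b X
    (fun n => (isLE_iff _ _).2 (fun i hi => hX n i (Or.inr hi)))
    (fun n => (isGE_iff _ _).2 (fun i hi => hX n i (Or.inl (by omega)))) hH

end Groth.Agent.Lib.helper23.ProSys
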