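import Mathlib
import Groth.Prelude.Def_DRing2
import Groth.Prelude.Def_DDual2
import Groth.Agent.Lib.Helper23.ProjAmp2

/-!
# helper23: projective amplitude, part 3 (S6964, S7004)
-/

set_option autoImplicit false
universe u
open CategoryTheory CategoryTheory.Limits Pretriangulated ZeroObject

attribute [local instance] HasDerivedCategory.standard

namespace Groth.Agent.Lib.helper23.ProjAmp

open Groth.Agent.Lib.helper23.TA Groth.Agent.Lib.helper23.PCohAmp

variable (R : Type u) [CommRing R]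

/-- (4) ⇒ (1). -/
theorem projAmp_of_ext_vanish (K : Dual.D R) (a b : ℤ)
    (hH : ∀ n : ℤ, (n < a - 1 ∨ b < n) → Subsingleton (Dual.HD R K n))
    (hE : ∀ (N : Type u) [AddCommGroup N] [Module R N],
      Subsingleton (K ⟶ (Dual.inD R N)⟦-a + 1⟧)) :
    ∃ P : DRing.Cx R, DRing.VanishesOutside P a b ∧ (∀ i : ℤ, Module.Projective R (P.X i)) ∧
        Nonempty (DRing.toD P ≅ K) := by
  have h1 := projAmp_of_ext_vanish_aux K (a - 1) b hH (fun N _ _ => by
    have h := hE N
    rwa [show -a + 1 = -(a - 1) by ring] at h)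
  obtain ⟨E, hP, hz, he⟩ := h1
  rw [show a - 1 + 1 = a by ring] at hz
  exact ⟨E, hz, hP, he⟩

/-- S6964. -/
theorem projectiveAmplitude_tfae (K : Dual.D R) (a b : ℤ) :
    [∃ P : DRing.Cx R, DRing.VanishesOutside P a b ∧ (∀ i : ℤ, Module.Projective R (P.X i)) ∧
        Nonempty (DRing.toD P ≅ K),
      ∀ (N : Type u) [AddCommGroup N] [Module R N] (i : ℤ), (i < -b ∨ -a < i) →
        Subsingleton (DRing.ExtD R K (Dual.inD R N) i),
      (∀ n : ℤ, b < n → Subsingleton (Dual.HD R K n)) ∧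
        ∀ (N : Type u) [AddCommGroup N] [Module R N] (i : ℤ), -a < i →
          Subsingleton (DRing.ExtD R K (Dual.inD R N) i),
      (∀ n : ℤ, (n < a - 1 ∨ b < n) → Subsingleton (Dual.HD R K n)) ∧
        ∀ (N : Type u) [AddCommGroup N] [Module R N],
          Subsingleton (DRing.ExtD R K (Dual.inD R N) (-a + 1))].TFAE := by
  tfae_have 1 → 2 := fun h N _ _ i hi => extD_subsingleton_of_projAmp K a b h N i hi
  tfae_have 2 → 3 := fun h =>
    ⟨fun n hn => subsingleton_HD_of_hom_vanish K n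
      (fun N _ _ => h N (-n) (Or.inl (by omega))), fun N _ _ i hi => h N i (Or.inr hi)⟩
  tfae_have 3 → 4 := fun ⟨h1, h2⟩ =>
    ⟨fun n hn => hn.elim
      (fun hn' => subsingleton_HD_of_hom_vanish K n (fun N _ _ => h2 N (-n) (by omega)))
      (fun hn' => h1 n hn'), fun N _ _ => h2 N (-a + 1) (by omega)⟩
  tfae_have 4 → 1 := fun ⟨h1, h2⟩ => projAmp_of_ext_vanish R K a b h1 h2
  tfae_finish

end Groth.Agent.Lib.helper23.ProjAmp
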