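import Mathlib
import Groth.Prelude.Def_DRing2
import Groth.Prelude.Def_DDual2
import Groth.Agent.Lib.Helper23.ProjAmp3

/-!
# helper23: projective amplitude, part 4 (S7004, S7003)
-/

set_option autoImplicit false
universe u
open CategoryTheory CategoryTheory.Limits Pretriangulated ZeroObject

attribute [local instance] HasDerivedCategory.standard

namespace Groth.Agent.Lib.helper23.ProjAmp

open Groth.Agent.Lib.helper23.TA Groth.Agent.Lib.helper23.PCohAmp
  Groth.Agent.Lib.helper23.SplitTrunc

variable (R : Type u) [CommRing R]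

/-- the common core of S7003/S7004: if `τ_{≥ m} K` (bounded above) has no maps to `N[-(m-1)]`,
then it has projective amplitude in `[m, b]` and `K` splits along any gap `[n, m)`. -/
theorem split_core (K : Dual.D R) (n m b : ℤ) (hnm : n ≤ m)
    (hb : ∀ i : ℤ, b < i → Subsingleton (Dual.HD R K i))
    (hgap : ∀ i : ℤ, n ≤ i → i < m →
      IsZero ((DerivedCategory.homologyFunctor (ModuleCat.{u} R) i).obj K))
    (hE : ∀ (N : Type u) [AddCommGroup N] [Module R N],
      Subsingleton (((DerivedCategory.TStructure.t :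
        Triangulated.TStructure (Dual.D R)).truncGE m).obj K ⟶ (Dual.inD R N)⟦-(m - 1)⟧))
    [HasBinaryBiproduct
      (((DerivedCategory.TStructure.t : Triangulated.TStructure (Dual.D R)).truncLT n).obj K)
      (((DerivedCategory.TStructure.t : Triangulated.TStructure (Dual.D R)).truncGE m).obj K)] :
    (∃ e : K ≅
      ((DerivedCategory.TStructure.t : Triangulated.TStructure (Dual.D R)).truncLT n).obj K ⊞
        ((DerivedCategory.TStructure.t : Triangulated.TStructure (Dual.D R)).truncGE m).obj K,
      ((DerivedCategory.TStructure.t : Triangulated.TStructure (Dual.D R)).truncLTι n).app K ≫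
          e.hom = biprod.inl ∧
        e.hom ≫ biprod.snd =
          ((DerivedCategory.TStructure.t : Triangulated.TStructure (Dual.D R)).truncGEπ m).app
            K) ∧
      ∃ (P : DRing.Cx R) (b : ℤ), DRing.VanishesOutside P m b ∧
        (∀ i : ℤ, Module.Projective R (P.X i)) ∧
        Nonempty (DRing.toD P ≅
          ((DerivedCategory.TStructure.t : Triangulated.TStructure (Dual.D R)).truncGE m).obj
            K) := by
  have hH₂ : ∀ i : ℤ, (i < m - 1 ∨ b < i) → Subsingleton (Dual.HD R
      (((DerivedCategory.TStructure.t : Triangulated.TStructure (Dual.D R)).truncGE m).obj K)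
      i) := by
    intro i hi
    by_cases him : i < m
    · exact ModuleCat.subsingleton_of_isZero (DerivedCategory.isZero_of_isGE _ m i him)
    · haveI := isIso_homologyMap_truncGEπ K m i (by omega)
      haveI := hb i (by omega)
      have hz : IsZero ((DerivedCategory.homologyFunctor (ModuleCat.{u} R) i).obj K) :=
        ModuleCat.isZero_of_subsingleton _
      exact ModuleCat.subsingleton_of_isZero (hz.of_iso
        (asIso ((DerivedCategory.homologyFunctor (ModuleCat.{u} R) i).map
          (((DerivedCategory.TStructure.t : Triangulated.TStructure (Dual.D R)).truncGEπ m).app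
            K))).symm)
  obtain ⟨P, hz, hP, ⟨e⟩⟩ := projAmp_of_ext_vanish R _ m b hH₂ (fun N _ _ => by
    have h := hE N
    rwa [show -(m - 1) = -m + 1 by ring] at h)
  refine ⟨?_, P, b, hz, hP, ⟨e⟩⟩
  refine exists_split_iso K n m hnm hgap ?_
  obtain ⟨ψ, -⟩ := exists_iso_truncGE_of_gap K n m hnm hgap
  have hproj : ∀ i, Projective (P.X i) := fun i =>
    (IsProjective.iff_projective (R := R) (P.X i)).1 (hP i)
  haveI hLE : ((((DerivedCategory.TStructure.t : Triangulated.TStructure (Dual.D R)).truncLT
      n).obj K)⟦(1 : ℤ)⟧).IsLE (n - 1 - 1) :=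
    DerivedCategory.TStructure.t.isLE_shift _ (n - 1) 1 (n - 1 - 1) (by omega)
  have hLE' : ((((DerivedCategory.TStructure.t : Triangulated.TStructure (Dual.D R)).truncLT
      n).obj K)⟦(1 : ℤ)⟧).IsLE (m - 1) :=
    DerivedCategory.TStructure.t.isLE_of_le _ (n - 1 - 1) (m - 1) (by omega)
  have h1 := subsingleton_hom_of_projective_of_isLE P m b hproj (fun i hi => hz i (Or.inr hi))
    (fun i hi => hz i (Or.inl hi)) _ hLE'
  exact ⟨fun f g => by
    rw [← cancel_epi (e.hom ≫ ψ.inv)]
    exact h1.elim _ _⟩

variable {R}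

/-- a morphism out of `τ_{≥ m} K` to an object in degrees `≥ m - 1` vanishes as soon as its
restriction to `K` does. -/
lemma eq_zero_of_truncGEπ_comp_eq_zero (K : Dual.D R) (m : ℤ) (X : Dual.D R) (hX : X.IsGE (m - 1))
    (φ : ((DerivedCategory.TStructure.t : Triangulated.TStructure (Dual.D R)).truncGE m).obj K ⟶ X)
    (h : ((DerivedCategory.TStructure.t : Triangulated.TStructure (Dual.D R)).truncGEπ m).app K ≫
      φ = 0) : φ = 0 := by
  obtain ⟨ψ, hψ⟩ := Triangle.yoneda_exact₃ _
    ((DerivedCategory.TStructure.t : Triangulated.TStructure (Dual.D R)).triangleLTGE_distinguished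
      m K) φ h
  haveI := hX
  haveI hLE : ((((DerivedCategory.TStructure.t : Triangulated.TStructure (Dual.D R)).truncLT
      m).obj K)⟦(1 : ℤ)⟧).IsLE (m - 1 - 1) :=
    DerivedCategory.TStructure.t.isLE_shift _ (m - 1) 1 (m - 1 - 1) (by omega)
  have hψ0 : ψ = 0 := DerivedCategory.TStructure.t.zero_of_isLE_of_isGE ψ (m - 1 - 1) (m - 1)
    (by omega) hLE hX
  rw [hψ, hψ0]
  exact comp_zero

variable (R)

/-- S7004. -/
theorem splits_truncLT_of_ext_vanishing (a : ℤ) (K : Dual.D R)
    (hKb : ∃ b : ℤ, ∀ i : ℤ, b < i → Subsingleton (Dual.HD R K i))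
    (h : ∀ (M : Type u) [AddCommGroup M] [Module R M],
      Subsingleton (K ⟶ (shiftFunctor (Dual.D R) (-a)).obj (Dual.inD R M)))
    [HasBinaryBiproduct
      (((DerivedCategory.TStructure.t : Triangulated.TStructure (Dual.D R)).truncLT a).obj K)
      (((DerivedCategory.TStructure.t : Triangulated.TStructure (Dual.D R)).truncGE
        (a + 1)).obj K)] :
    (∃ e : K ≅
      ((DerivedCategory.TStructure.t : Triangulated.TStructure (Dual.D R)).truncLT a).obj K ⊞
        ((DerivedCategory.TStructure.t : Triangulated.TStructure (Dual.D R)).truncGE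
          (a + 1)).obj K,
      ((DerivedCategory.TStructure.t : Triangulated.TStructure (Dual.D R)).truncLTι a).app K ≫
          e.hom = biprod.inl ∧
        e.hom ≫ biprod.snd =
          ((DerivedCategory.TStructure.t : Triangulated.TStructure (Dual.D R)).truncGEπ
            (a + 1)).app K) ∧
      ∃ (P : DRing.Cx R) (b : ℤ), DRing.VanishesOutside P (a + 1) b ∧
        (∀ i : ℤ, Module.Projective R (P.X i)) ∧
        Nonempty (DRing.toD P ≅
          ((DerivedCategory.TStructure.t : Triangulated.TStructure (Dual.D R)).truncGE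
            (a + 1)).obj K) := by
  obtain ⟨b, hb⟩ := hKb
  haveI hHa : Subsingleton (Dual.HD R K a) := subsingleton_HD_of_hom_vanish K a h
  refine split_core R K a (a + 1) b (by omega) hb (fun i h1 h2 => ?_) (fun N _ _ => ?_)
  · obtain rfl : i = a := by omega
    exact ModuleCat.isZero_of_subsingleton _
  · rw [show -(a + 1 - 1) = -a by ring]
    haveI hGE : ((Dual.inD R N)⟦-a⟧).IsGE (a + 1 - 1) :=
      DerivedCategory.TStructure.t.isGE_shift (Dual.inD R N) 0 (-a) (a + 1 - 1) (by omega)
    have hN := h N
    exact ⟨fun f g => by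
      rw [eq_zero_of_truncGEπ_comp_eq_zero K (a + 1) _ hGE f (hN.elim _ _),
        eq_zero_of_truncGEπ_comp_eq_zero K (a + 1) _ hGE g (hN.elim _ _)]⟩

end Groth.Agent.Lib.helper23.ProjAmp
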