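import Mathlib
import Groth.Prelude.Def_DRing2
import Groth.Prelude.Def_DDual2
import Groth.Agent.Lib.Helper23.ProjAmp4

/-!
# helper23: projective amplitude, part 5 (S7003)
-/

set_option autoImplicit false
universe u
open CategoryTheory CategoryTheory.Limits Pretriangulated ZeroObject

attribute [local instance] HasDerivedCategory.standard

namespace Groth.Agent.Lib.helper23.ProjAmp

open Groth.Agent.Lib.helper23.TA Groth.Agent.Lib.helper23.PCohAmp
  Groth.Agent.Lib.helper23.SplitTrunc

variable {R : Type u} [CommRing R]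

/-- no maps from an object in degrees `> a` to an injective module placed in degree `a`. -/
lemma subsingleton_hom_to_injective_shift (X : Dual.D R) (a : ℤ) (hX : X.IsGE (a + 1))
    (I : ModuleCat.{u} R) (hI : Injective I) :
    Subsingleton (X ⟶ ((DerivedCategory.singleFunctor (ModuleCat.{u} R) 0).obj I)⟦-a⟧) := by
  obtain ⟨X', hX', ⟨e⟩⟩ := DerivedCategory.exists_iso_Q_obj_of_isGE X (a + 1)
  let S : CochainComplex (ModuleCat.{u} R) ℤ :=
    (HomologicalComplex.single (ModuleCat.{u} R) (ComplexShape.up ℤ) a).obj I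
  have e1 : DerivedCategory.Q.obj S ≅
      ((DerivedCategory.singleFunctor (ModuleCat.{u} R) 0).obj I)⟦-a⟧ :=
    ((DerivedCategory.singleFunctorIsoCompQ _ a).app I).symm ≪≫
      (((DerivedCategory.singleFunctors (ModuleCat.{u} R)).shiftIso (-a) a 0 (by omega)).app
        I).symm
  have hSz : ∀ i : ℤ, i ≠ a → IsZero (S.X i) := fun i hi =>
    HomologicalComplex.isZero_single_obj_X (ComplexShape.up ℤ) a _ i hi
  haveI : CochainComplex.IsStrictlyGE S a := (CochainComplex.isStrictlyGE_iff S a).2
    (fun i hi => hSz i (by omega))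
  haveI : ∀ n, Injective (S.X n) := by
    intro n
    by_cases hn : n = a
    · subst hn
      exact Injective.of_iso (HomologicalComplex.singleObjXSelf (ComplexShape.up ℤ) n I).symm hI
    · exact (hSz n hn).injective
  haveI : CochainComplex.IsKInjective S := CochainComplex.isKInjective_of_injective S a
  have key : ∀ g : DerivedCategory.Q.obj X' ⟶ DerivedCategory.Q.obj S, g = 0 := by
    intro g
    obtain ⟨ψ, hψ⟩ := (CochainComplex.IsKInjective.Qh_map_bijective
      ((HomotopyCategory.quotient _ _).obj X') S).2 g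
    obtain ⟨u, rfl⟩ := (HomotopyCategory.quotient _ _).map_surjective ψ
    have hu : u = 0 := by
      refine HomologicalComplex.hom_ext _ _ (fun i => ?_)
      by_cases hi : i = a
      · subst hi
        exact (CochainComplex.isZero_of_isStrictlyGE X' (i + 1) i (by omega)).eq_of_src _ _
      · exact (hSz i hi).eq_of_tgt _ _
    rw [← hψ, hu, Functor.map_zero, Functor.map_zero]
    rfl
  have hf : ∀ f : X ⟶ ((DerivedCategory.singleFunctor (ModuleCat.{u} R) 0).obj I)⟦-a⟧,
      f = 0 := by
    intro f
    have h2 := key (e.inv ≫ f ≫ e1.inv)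
    calc f = e.hom ≫ (e.inv ≫ f ≫ e1.inv) ≫ e1.hom := by simp
      _ = 0 := by rw [h2, zero_comp, comp_zero]
  exact ⟨fun f g => by rw [hf f, hf g]⟩

variable (R)

/-- S7003. -/
theorem splits_truncLE_of_ext_injective (a : ℤ) (K : Dual.D R)
    (hKb : ∃ b : ℤ, ∀ i : ℤ, b < i → Subsingleton (Dual.HD R K i))
    (h : ∀ (M M' : Type u) [AddCommGroup M] [Module R M] [AddCommGroup M'] [Module R M']
      (g : M →ₗ[R] M'), Function.Injective g →
      Function.Injective (fun x : K ⟶ (shiftFunctor (Dual.D R) (-a)).obj (Dual.inD R M) =>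
        x ≫ (shiftFunctor (Dual.D R) (-a)).map
          ((DerivedCategory.singleFunctor (ModuleCat.{u} R) 0).map (ModuleCat.ofHom g))))
    [HasBinaryBiproduct
      (((DerivedCategory.TStructure.t : Triangulated.TStructure (Dual.D R)).truncLT
        (a + 1)).obj K)
      (((DerivedCategory.TStructure.t : Triangulated.TStructure (Dual.D R)).truncGE
        (a + 1)).obj K)] :
    (∃ e : K ≅
      ((DerivedCategory.TStructure.t : Triangulated.TStructure (Dual.D R)).truncLT
        (a + 1)).obj K ⊞
        ((DerivedCategory.TStructure.t : Triangulated.TStructure (Dual.D R)).truncGE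
          (a + 1)).obj K,
      ((DerivedCategory.TStructure.t : Triangulated.TStructure (Dual.D R)).truncLTι
        (a + 1)).app K ≫ e.hom = biprod.inl ∧
        e.hom ≫ biprod.snd =
          ((DerivedCategory.TStructure.t : Triangulated.TStructure (Dual.D R)).truncGEπ
            (a + 1)).app K) ∧
      ∃ (P : DRing.Cx R) (b : ℤ), DRing.VanishesOutside P (a + 1) b ∧
        (∀ i : ℤ, Module.Projective R (P.X i)) ∧
        Nonempty (DRing.toD P ≅
          ((DerivedCategory.TStructure.t : Triangulated.TStructure (Dual.D R)).truncGE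
            (a + 1)).obj K) := by
  obtain ⟨b, hb⟩ := hKb
  refine split_core R K (a + 1) (a + 1) b le_rfl hb (fun i h1 h2 => absurd h1 (by omega))
    (fun N _ _ => ?_)
  rw [show -(a + 1 - 1) = -a by ring]
  haveI hGE : ((Dual.inD R N)⟦-a⟧).IsGE (a + 1 - 1) :=
    DerivedCategory.TStructure.t.isGE_shift (Dual.inD R N) 0 (-a) (a + 1 - 1) (by omega)
  let I : ModuleCat.{u} R := Injective.under (ModuleCat.of R N)
  let g : N →ₗ[R] I := (Injective.ι (ModuleCat.of R N)).hom
  have hg : Function.Injective g := (ModuleCat.mono_iff_injective _).1 inferInstance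
  have hinj := h N I g hg
  have hvan := subsingleton_hom_to_injective_shift
    (((DerivedCategory.TStructure.t : Triangulated.TStructure (Dual.D R)).truncGE (a + 1)).obj K)
    a inferInstance I inferInstance
  have hφ : ∀ φ : ((DerivedCategory.TStructure.t : Triangulated.TStructure (Dual.D R)).truncGE
      (a + 1)).obj K ⟶ (Dual.inD R N)⟦-a⟧, φ = 0 := by
    intro φ
    refine eq_zero_of_truncGEπ_comp_eq_zero K (a + 1) _ hGE φ ?_
    apply hinj
    dsimp only
    rw [Category.assoc, zero_comp]
    have h0 : φ ≫ (shiftFunctor (Dual.D R) (-a)).map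
        ((DerivedCategory.singleFunctor (ModuleCat.{u} R) 0).map (ModuleCat.ofHom g)) = 0 :=
      hvan.elim _ _
    rw [h0, comp_zero]
  exact ⟨fun f g => by rw [hφ f, hφ g]⟩

end Groth.Agent.Lib.helper23.ProjAmp
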