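import Mathlib
import Groth.Agent.Lib.Helper17.QuasiHomeo

set_option autoImplicit false
universe u
open Groth.Agent.Lib.helper17

namespace Groth.Agent.Lib.helper23.QCons

variable {α β : Type*} [TopologicalSpace α] [TopologicalSpace β]

/-- quasi-constructible: finite union of locally closed subsets -/
def QC (Z : Set α) : Prop :=
  ∃ T : Set (Set α), T.Finite ∧ (∀ t ∈ T, IsLocallyClosed t) ∧ Z = ⋃₀ T

/-- locally quasi-constructible -/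
def LQC (Z : Set α) : Prop :=
  ∀ y : α, ∃ V : Set α, IsOpen V ∧ y ∈ V ∧ QC (Subtype.val ⁻¹' Z : Set V)

lemma QC.preimage {g : α → β} (hg : Continuous g) {Z : Set β} (hZ : QC Z) : QC (g ⁻¹' Z) := by
  obtain ⟨T, hT, hTl, rfl⟩ := hZ
  refine ⟨(fun t => g ⁻¹' t) '' T, hT.image _, ?_, ?_⟩
  · rintro _ ⟨t, ht, rfl⟩
    exact (hTl t ht).preimage hg
  · rw [Set.preimage_sUnion, Set.sUnion_image]

lemma QC.image_val {V : Set α} (hV : IsOpen V) {W : Set V} (hW : QC W) :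
    QC (Subtype.val '' W : Set α) := by
  obtain ⟨T, hT, hTl, rfl⟩ := hW
  refine ⟨(fun t => Subtype.val '' t) '' T, hT.image _, ?_, ?_⟩
  · rintro _ ⟨t, ht, rfl⟩
    refine (hTl t ht).image Topology.IsInducing.subtypeVal ?_
    rw [Subtype.range_coe]
    exact hV.isLocallyClosed
  · rw [Set.image_sUnion, Set.sUnion_image]

lemma QC.exists_sub {Z : Set α} (hZ : QC Z) {z : α} (hz : z ∈ Z) :
    ∃ L, IsLocallyClosed L ∧ z ∈ L ∧ L ⊆ Z := by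
  obtain ⟨T, hT, hTl, rfl⟩ := hZ
  obtain ⟨t, ht, hzt⟩ := hz
  exact ⟨t, hTl t ht, hzt, Set.subset_sUnion_of_mem ht⟩

lemma QC.exists_disjoint {Z : Set α} (hZ : QC Z) {z : α} (hz : z ∉ Z) :
    ∃ L, IsLocallyClosed L ∧ z ∈ L ∧ Disjoint L Z := by
  obtain ⟨T, hT, hTl, rfl⟩ := hZ
  induction T, hT using Set.Finite.induction_on with
  | empty => exact ⟨Set.univ, isOpen_univ.isLocallyClosed, trivial, by simp⟩
  | @insert t T ht hT ih =>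
    have hzt : z ∉ t := fun h => hz ⟨t, Set.mem_insert _ _, h⟩
    have hzT : z ∉ ⋃₀ T := fun ⟨s, hs, h⟩ => hz ⟨s, Set.mem_insert_of_mem _ hs, h⟩
    obtain ⟨L₀, hL₀, hzL₀, hd⟩ := ih (fun s hs => hTl s (Set.mem_insert_of_mem _ hs)) hzT
    obtain ⟨U, C, hU, hC, rfl⟩ := hTl t (Set.mem_insert _ _)
    by_cases hzU : z ∈ U
    · have hzC : z ∉ C := fun h => hzt ⟨hzU, h⟩
      refine ⟨L₀ ∩ Cᶜ, hL₀.inter hC.isOpen_compl.isLocallyClosed, ⟨hzL₀, hzC⟩, ?_⟩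
      rw [Set.sUnion_insert, Set.disjoint_union_right]
      refine ⟨?_, hd.mono_left Set.inter_subset_left⟩
      rw [Set.disjoint_left]
      rintro w ⟨_, hwC⟩ ⟨_, hwC'⟩
      exact hwC hwC'
    · refine ⟨L₀ ∩ Uᶜ, hL₀.inter hU.isClosed_compl.isLocallyClosed, ⟨hzL₀, hzU⟩, ?_⟩
      rw [Set.sUnion_insert, Set.disjoint_union_right]
      refine ⟨?_, hd.mono_left Set.inter_subset_left⟩
      rw [Set.disjoint_left]
      rintro w ⟨_, hwU⟩ ⟨hwU', _⟩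
      exact hwU hwU'


section QHpart

variable {X Y : Type u} [TopologicalSpace X] [TopologicalSpace Y] {f : X → Y}

lemma QC.inter_isOpen {Z V : Set α} (hZ : QC Z) (hV : IsOpen V) : QC (Z ∩ V) := by
  obtain ⟨T, hT, hTl, rfl⟩ := hZ
  refine ⟨(fun t => t ∩ V) '' T, hT.image _, ?_, ?_⟩
  · rintro _ ⟨t, ht, rfl⟩
    exact (hTl t ht).inter hV.isLocallyClosed
  · rw [Set.sUnion_image, Set.sUnion_eq_biUnion, Set.iUnion₂_inter]

/-- (E) -/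
lemma QC.subset_of_preimage_subset (hq : QH.IsQH f) {Z₁ Z₂ : Set Y} (h₁ : QC Z₁) (h₂ : QC Z₂)
    (h : f ⁻¹' Z₁ ⊆ f ⁻¹' Z₂) : Z₁ ⊆ Z₂ := by
  intro z hz₁
  by_contra hz₂
  obtain ⟨L₁, hL₁, hzL₁, hL₁Z⟩ := h₁.exists_sub hz₁
  obtain ⟨L₂, hL₂, hzL₂, hd⟩ := h₂.exists_disjoint hz₂
  obtain ⟨x, hx⟩ := QH.nonempty_inter_range hq (L₁ ∩ L₂) (hL₁.inter hL₂) ⟨z, hzL₁, hzL₂⟩
  have : f x ∈ Z₂ := h (hL₁Z hx.1)
  exact Set.disjoint_left.1 hd hx.2 this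

lemma locallyClosed_surj (hq : QH.IsQH f) {t' : Set X} (ht' : IsLocallyClosed t') :
    ∃ t : Set Y, IsLocallyClosed t ∧ f ⁻¹' t = t' := by
  obtain ⟨U', C', hU', hC', rfl⟩ := ht'
  obtain ⟨U, hU, rfl⟩ := hq.2 U' hU'
  obtain ⟨C, hC, rfl⟩ := ((QH.isQH_iff_closed f).1 hq).2 C' hC'
  exact ⟨U ∩ C, ⟨U, C, hU, hC, rfl⟩, Set.preimage_inter⟩

/-- (F) -/
lemma QC.surj (hq : QH.IsQH f) {Z' : Set X} (hZ' : QC Z') : ∃ Z : Set Y, QC Z ∧ f ⁻¹' Z = Z' := by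
  obtain ⟨T', hT', hTl', rfl⟩ := hZ'
  classical
  choose! g hg₁ hg₂ using fun (t' : Set X) (ht' : IsLocallyClosed t') => locallyClosed_surj hq ht'
  refine ⟨⋃₀ (g '' T'), ⟨g '' T', hT'.image _, ?_, rfl⟩, ?_⟩
  · rintro _ ⟨t', ht', rfl⟩
    exact hg₁ t' (hTl' t' ht')
  · rw [Set.sUnion_image, Set.preimage_iUnion₂, Set.sUnion_eq_biUnion]
    exact Set.iUnion₂_congr fun t' ht' => hg₂ t' (hTl' t' ht')

lemma LQC.preimage (hf : Continuous f) {Z : Set Y} (hZ : LQC Z) : LQC (f ⁻¹' Z) := by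
  intro x
  obtain ⟨V, hV, hyV, hQC⟩ := hZ (f x)
  refine ⟨f ⁻¹' V, hV.preimage hf, hyV, ?_⟩
  exact hQC.preimage (hf.restrictPreimage (s := V))

/-- the trace on an open is QC in the ambient space -/
lemma LQC.inter_qc {Z : Set α} {V : Set α} (hV : IsOpen V)
    (h : QC (Subtype.val ⁻¹' Z : Set V)) : QC (Z ∩ V) := by
  have := h.image_val hV
  rwa [Subtype.image_preimage_coe, Set.inter_comm] at this

/-- (G) -/
lemma LQC.subset_of_preimage_subset (hq : QH.IsQH f) {Z₁ Z₂ : Set Y} (h₁ : LQC Z₁) (h₂ : LQC Z₂)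
    (h : f ⁻¹' Z₁ ⊆ f ⁻¹' Z₂) : Z₁ ⊆ Z₂ := by
  intro z hz₁
  by_contra hz₂
  obtain ⟨V₁, hV₁, hzV₁, hQ₁⟩ := h₁ z
  obtain ⟨V₂, hV₂, hzV₂, hQ₂⟩ := h₂ z
  have q₁ := LQC.inter_qc hV₁ hQ₁
  have q₂ := LQC.inter_qc hV₂ hQ₂
  obtain ⟨L₁, hL₁, hzL₁, hL₁Z⟩ := q₁.exists_sub ⟨hz₁, hzV₁⟩
  obtain ⟨L₂, hL₂, hzL₂, hd⟩ := q₂.exists_disjoint (fun hh => hz₂ hh.1)
  obtain ⟨x, hx⟩ := QH.nonempty_inter_range hq (L₁ ∩ L₂ ∩ V₂)
    ((hL₁.inter hL₂).inter hV₂.isLocallyClosed) ⟨z, ⟨hzL₁, hzL₂⟩, hzV₂⟩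
  have : f x ∈ Z₂ := h (hL₁Z hx.1.1).1
  exact Set.disjoint_left.1 hd hx.1.2 ⟨this, hx.2⟩

/-- (H) -/
lemma LQC.surj (hq : QH.IsQH f) {Z' : Set X} (hZ' : LQC Z') :
    ∃ Z : Set Y, LQC Z ∧ f ⁻¹' Z = Z' := by
  classical
  choose V' hV'o hxV' hQ' using hZ'
  have q' : ∀ x, QC (Z' ∩ V' x) := fun x => LQC.inter_qc (hV'o x) (hQ' x)
  choose Zx hZx hZxpre using fun x => QC.surj hq (q' x)
  choose V hVo hVpre using fun x => hq.2 (V' x) (hV'o x)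
  let Z : Set Y := ⋃ x, Zx x ∩ V x
  have hpre : f ⁻¹' Z = Z' := by
    ext w
    simp only [Z, Set.preimage_iUnion, Set.preimage_inter, hZxpre, hVpre, Set.mem_iUnion,
      Set.mem_inter_iff]
    constructor
    · rintro ⟨x, ⟨hw, _⟩, _⟩
      exact hw
    · intro hw
      exact ⟨w, ⟨hw, hxV' w⟩, hxV' w⟩
  have hcov : ⋃ x, V x = Set.univ := by
    apply hq.1 _ _ (isOpen_iUnion hVo) isOpen_univ
    rw [Set.preimage_iUnion, Set.preimage_univ]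
    ext w
    simp only [Set.mem_iUnion, Set.mem_univ, iff_true]
    exact ⟨w, by rw [hVpre]; exact hxV' w⟩
  have key : ∀ x₀, Z ∩ V x₀ = Zx x₀ ∩ V x₀ := by
    intro x₀
    apply le_antisymm
    · rintro y ⟨hyZ, hyV⟩
      obtain ⟨x, hyx⟩ := Set.mem_iUnion.1 hyZ
      have hsub : Zx x ∩ V x ∩ V x₀ ⊆ Zx x₀ ∩ V x₀ := by
        apply QC.subset_of_preimage_subset hq
          (((hZx x).inter_isOpen (hVo x)).inter_isOpen (hVo x₀))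
          ((hZx x₀).inter_isOpen (hVo x₀))
        simp only [Set.preimage_inter, hZxpre, hVpre]
        intro w hw
        exact ⟨⟨hw.1.1.1, hw.2⟩, hw.2⟩
      exact hsub ⟨hyx, hyV⟩
    · rintro y ⟨hyZx, hyV⟩
      exact ⟨Set.mem_iUnion.2 ⟨x₀, hyZx, hyV⟩, hyV⟩
  refine ⟨Z, ?_, hpre⟩
  intro y
  have : y ∈ ⋃ x, V x := by rw [hcov]; trivial
  obtain ⟨x₀, hy⟩ := Set.mem_iUnion.1 this
  refine ⟨V x₀, hVo x₀, hy, ?_⟩
  have h1 : QC (Z ∩ V x₀) := by rw [key]; exact (hZx x₀).inter_isOpen (hVo x₀)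
  have h2 := h1.preimage (continuous_subtype_val (p := fun a => a ∈ V x₀))
  convert h2 using 1
  ext ⟨w, hw⟩
  simp [hw]

end QHpart

end Groth.Agent.Lib.helper23.QCons
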