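import Mathlib
import Groth.Prelude.Def_DRing2
import Groth.Prelude.Def_DDual2
import Groth.Agent.Lib.Helper23.RegGap
import Groth.Agent.Lib.Helper23.SplitTrunc

/-!
# helper23: S6994, S6995
-/

set_option autoImplicit false
universe u
open CategoryTheory CategoryTheory.Limits Pretriangulated

attribute [local instance] HasDerivedCategory.standard

namespace Groth.Agent.Lib.helper23.RegGap

variable (R : Type u) [CommRing R] [IsNoetherianRing R]

/-- S6994. -/
theorem subsingleton_hom_of_regular
    (hreg : ∀ p : PrimeSpectrum R, IsRegularLocalRing (Localization.AtPrime p.asIdeal)) (d : ℕ)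
    (hd : ringKrullDim R = d) (K L : Dual.D R)
    (hKb : ∃ b : ℤ, ∀ i : ℤ, b < i → Subsingleton (Dual.HD R K i)) (k : ℤ)
    (hK : ∀ i : ℤ, i ≤ k → Subsingleton (Dual.HD R K i))
    (hL : ∀ i : ℤ, k - d + 1 ≤ i → Subsingleton (Dual.HD R L i)) :
    Subsingleton (K ⟶ L) := by
  obtain ⟨b, hb⟩ := hKb
  have hLle : L.IsLE (k - d) := (DerivedCategory.isLE_iff L (k - d)).2 (fun i hi => by
    haveI := hL i (by omega)
    exact ModuleCat.isZero_of_subsingleton _)
  exact subsingleton_hom_of_gap d (fun M => hasProjectiveDimensionLT_of_regular hreg d hd M)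
    K L b k
    (fun i hi => by haveI := hb i hi; exact ModuleCat.isZero_of_subsingleton _)
    (fun i hi => by haveI := hK i hi; exact ModuleCat.isZero_of_subsingleton _) hLle

/-- S6995. -/
theorem exists_split_iso_of_regular
    (hreg : ∀ p : PrimeSpectrum R, IsRegularLocalRing (Localization.AtPrime p.asIdeal)) (d : ℕ)
    (hd1 : 1 ≤ d) (hd : ringKrullDim R = d) (K : Dual.D R) (hK : DRing.IsPerfect R K) (k : ℤ)
    (hgap : ∀ i : ℤ, k - d + 2 ≤ i → i ≤ k → Subsingleton (Dual.HD R K i))
    [HasBinaryBiproduct
      (((DerivedCategory.TStructure.t : Triangulated.TStructure (Dual.D R)).truncLT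
        (k - d + 2)).obj K)
      (((DerivedCategory.TStructure.t : Triangulated.TStructure (Dual.D R)).truncGE
        (k + 1)).obj K)] :
    ∃ e : K ≅
      ((DerivedCategory.TStructure.t : Triangulated.TStructure (Dual.D R)).truncLT
        (k - d + 2)).obj K ⊞
        ((DerivedCategory.TStructure.t : Triangulated.TStructure (Dual.D R)).truncGE
          (k + 1)).obj K,
      ((DerivedCategory.TStructure.t : Triangulated.TStructure (Dual.D R)).truncLTι
        (k - d + 2)).app K ≫ e.hom = biprod.inl ∧
        e.hom ≫ biprod.snd =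
          ((DerivedCategory.TStructure.t : Triangulated.TStructure (Dual.D R)).truncGEπ
            (k + 1)).app K := by
  have hgl := fun M => hasProjectiveDimensionLT_of_regular hreg d hd M
  obtain ⟨E, a, b, hz, -, ⟨e⟩⟩ := hK
  have hKb : ∀ i : ℤ, b < i →
      IsZero ((DerivedCategory.homologyFunctor (ModuleCat.{u} R) i).obj K) := by
    intro i hi
    have h2 : IsZero (E.homology i) :=
      (HomologicalComplex.ExactAt.of_isZero (hz i (Or.inr hi))).isZero_homology
    exact (h2.of_iso ((DerivedCategory.homologyFunctorFactors _ i).app E)).of_iso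
        ((DerivedCategory.homologyFunctor _ i).mapIso e.symm)
  have hgap' : ∀ i : ℤ, k - d + 2 ≤ i → i < k + 1 →
      IsZero ((DerivedCategory.homologyFunctor (ModuleCat.{u} R) i).obj K) := by
    intro i h1 h2
    haveI := hgap i h1 (by omega)
    exact ModuleCat.isZero_of_subsingleton _
  refine SplitTrunc.exists_split_iso K (k - d + 2) (k + 1) (by omega) hgap' ?_
  haveI hGE := SplitTrunc.isGE_truncGE_of_gap K (k - d + 2) (k + 1) hgap'
  haveI hLE : ((((DerivedCategory.TStructure.t : Triangulated.TStructure (Dual.D R)).truncLT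
      (k - d + 2)).obj K)⟦(1 : ℤ)⟧).IsLE (k - d) :=
    DerivedCategory.TStructure.t.isLE_shift _ (k - d + 2 - 1) 1 (k - d) (by omega)
  refine subsingleton_hom_of_gap d hgl _ _ b k (fun i hi => ?_)
    (fun i hi => DerivedCategory.isZero_of_isGE _ (k + 1) i (by omega)) hLE
  by_cases hin : k - d + 2 ≤ i
  · haveI := SplitTrunc.isIso_homologyMap_truncGEπ K (k - d + 2) i hin
    exact (hKb i hi).of_iso
      (asIso ((DerivedCategory.homologyFunctor (ModuleCat.{u} R) i).map
        (((DerivedCategory.TStructure.t : Triangulated.TStructure (Dual.D R)).truncGEπ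
          (k - d + 2)).app K))).symm
  · exact DerivedCategory.isZero_of_isGE _ (k - d + 2) i (by omega)

end Groth.Agent.Lib.helper23.RegGap
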