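import Mathlib
import Groth.Prelude.Def_DRing4
import Groth.Prelude.Def_DualSh
import Groth.Agent.Lib.Helper23.Kz5
import Groth.Agent.Lib.Helper13.RKF2

/-!
# Derived base change and right adjoints of restriction along a ring isomorphism (helper23)

* `lbcCompEquivIso`: `LBaseChange (e ∘ f) ≅ LBaseChange f ⋙ restrictD e⁻¹` for a ring isomorphism `e`.
* `rightAdjCompEquivIso`: if `Rμ` is right adjoint to `restrictD μ` and `Rμ'` to
  `restrictD (μ ∘ e)`, then `restrictD e⁻¹ ⋙ Rμ ≅ Rμ'`.
-/

set_option autoImplicit false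
universe u
open CategoryTheory CategoryTheory.Limits DerivedCategory

attribute [local instance] HasDerivedCategory.standard

namespace Groth.Agent.Lib.helper23.RelDual

open Groth.Agent.Lib.helper23.Kz

variable {A B B' C : Type u} [CommRing A] [CommRing B] [CommRing B'] [CommRing C]

/-- derived base change along `e ∘ f`, `e` a ring isomorphism -/
theorem nonempty_lbcCompEquivIso (f : A →+* B) (e : B ≃+* B') (g : A →+* B')
    (h : g = e.toRingHom.comp f) [DRing.HasLBaseChange f] [DRing.HasLBaseChange g] :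
    Nonempty (DRing.LBaseChange g ≅ DRing.LBaseChange f ⋙ DRing.restrictD e.symm.toRingHom) := by
  obtain ⟨adjf, -⟩ := Groth.Agent.Lib.helper13.RKF.exists_adjunction f
  obtain ⟨adjg, -⟩ := Groth.Agent.Lib.helper13.RKF.exists_adjunction g
  let E := restrictDEquiv e
  have adjE : DRing.restrictD e.symm.toRingHom ⊣ DRing.restrictD e.toRingHom :=
    E.symm.toAdjunction
  have adj2 : DRing.LBaseChange f ⋙ DRing.restrictD e.symm.toRingHom ⊣
      DRing.restrictD e.toRingHom ⋙ DRing.restrictD f := adjf.comp adjE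
  have adj3 : DRing.LBaseChange f ⋙ DRing.restrictD e.symm.toRingHom ⊣ DRing.restrictD g :=
    adj2.ofNatIsoRight (restrictDCompIso f e.toRingHom g h)
  exact ⟨adjg.leftAdjointUniq adj3⟩

/-- right adjoints of restriction along `μ` and `μ ∘ e`, `e` a ring isomorphism -/
theorem nonempty_rightAdjCompEquivIso (μ : B' →+* C) (e : B ≃+* B') (μ' : B →+* C)
    (h : μ' = μ.comp e.toRingHom) (Rμ : Dual.D B' ⥤ Dual.D C) (adjμ : DRing.restrictD μ ⊣ Rμ)
    (Rμ' : Dual.D B ⥤ Dual.D C) (adjμ' : DRing.restrictD μ' ⊣ Rμ') :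
    Nonempty (DRing.restrictD e.symm.toRingHom ⋙ Rμ ≅ Rμ') := by
  let E := restrictDEquiv e
  have adjE : DRing.restrictD e.toRingHom ⊣ DRing.restrictD e.symm.toRingHom := E.toAdjunction
  have adj2 : DRing.restrictD μ ⋙ DRing.restrictD e.toRingHom ⊣
      DRing.restrictD e.symm.toRingHom ⋙ Rμ := adjμ.comp adjE
  have adj3 : DRing.restrictD μ' ⊣ DRing.restrictD e.symm.toRingHom ⋙ Rμ :=
    adj2.ofNatIsoLeft (restrictDCompIso e.toRingHom μ μ' h)
  exact ⟨adj3.rightAdjointUniq adjμ'⟩

end Groth.Agent.Lib.helper23.RelDual
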