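import Mathlib
import Groth.Prelude.Def_DRing4
import Groth.Prelude.Def_DualSh
import Groth.Agent.Lib.Helper23.FBCR8
import Groth.Agent.Lib.Helper23.ShriekFinite
import Groth.Agent.Lib.Helper23.OpenImm3
import Groth.Agent.Lib.Helper23.PerfT9
import Groth.Agent.Lib.Helper23.RelDual2

/-!
# `RHom_{A ⊗_R A}(A, ω_{A/R} ⊗_A (A ⊗_R A)) ≅ A`, right-hand version (helper23)
-/

set_option autoImplicit false
universe u
open CategoryTheory CategoryTheory.Limits DerivedCategory TensorProduct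

attribute [local instance] HasDerivedCategory.standard

namespace Groth.Agent.Lib.helper23.RelDual

open Groth.Agent.Lib.helper23.FBCR Groth.Agent.Lib.helper23.PerfT

/-- derived base change of the unit along a flat ring map -/
noncomputable def lbcUnitIso' {A B : Type u} [CommRing A] [CommRing B] [Algebra A B]
    [Module.Flat A B] [DRing.HasLBaseChange (algebraMap A B)] :
    (DRing.LBaseChange (algebraMap A B)).obj (Dual.inD A A) ≅ Dual.inD B B :=
  lbcUnitIso ≪≫
    ((DerivedCategory.singleFunctorIsoCompQ (ModuleCat.{u} B) 0).app (ModuleCat.of B B)).symm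

theorem nonempty_rightAdjoint_diagonal_iso (R A : Type u) [CommRing R] [CommRing A]
    [IsNoetherianRing R] [IsNoetherianRing A] [Algebra R A] [Module.Flat R A]
    [Algebra.FiniteType R A] (n : ℕ)
    (ψ : MvPolynomial (Fin n) R →ₐ[R] A) (hψ : Function.Surjective ψ)
    [DRing.HasLBaseChange (algebraMap R (MvPolynomial (Fin n) R))]
    (Rψ : Dual.D (MvPolynomial (Fin n) R) ⥤ Dual.D A) (adj : DRing.restrictD ψ.toRingHom ⊣ Rψ)
    [DRing.HasLBaseChange (Algebra.TensorProduct.includeRight : A →ₐ[R] A ⊗[R] A).toRingHom]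
    (Rμ : Dual.D (A ⊗[R] A) ⥤ Dual.D A)
    (adjμ : DRing.restrictD (Algebra.TensorProduct.lmul' R (S := A)).toRingHom ⊣ Rμ) :
    Nonempty (Rμ.obj ((DRing.LBaseChange
      (Algebra.TensorProduct.includeRight : A →ₐ[R] A ⊗[R] A).toRingHom).obj
        (Dual2.shriekVia n Rψ (Dual.inD R R))) ≅ Dual.inD A A) := by
  classical
  let T := A ⊗[R] A
  haveI : Algebra.FiniteType A T := inferInstance
  haveI : IsNoetherianRing T := Algebra.FiniteType.isNoetherianRing A T
  -- a presentation of `T` over `A` (left structure)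
  obtain ⟨m, ψ₂, hψ₂⟩ := Algebra.FiniteType.iff_quotient_mvPolynomial''.1
    (inferInstance : Algebra.FiniteType A T)
  obtain ⟨Rψ₂, ⟨adj₂⟩⟩ := RHomEx.exists_rightAdjoint_restrictD ψ₂.toRingHom
  haveI : DRing.HasLBaseChange (algebraMap A (MvPolynomial (Fin m) A)) :=
    Groth.Agent.Lib.helper13.RKF.hasLBaseChange _
  haveI : DRing.HasLBaseChange (algebraMap R A) :=
    Groth.Agent.Lib.helper13.RKF.hasLBaseChange _
  have hK0 : ∀ (S : Type u) [CommRing S] (i : ℤ), i < 0 →
      Subsingleton (Dual.HD S (Dual.inD S S) i) := fun S _ i hi =>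
    ModuleCat.subsingleton_of_isZero (DerivedCategory.isZero_of_isGE (Dual.inD S S) 0 i hi)
  -- Step 1: flat base change
  obtain ⟨j1⟩ := shriekVia_flat_baseChange R A A n ψ hψ Rψ adj m ψ₂ hψ₂ Rψ₂ adj₂
    (Dual.inD R R) 0 (hK0 R)
  let j2 : Dual2.shriekVia m Rψ₂ ((DRing.LBaseChange (algebraMap R A)).obj (Dual.inD R R)) ≅
      Dual2.shriekVia m Rψ₂ (Dual.inD A A) :=
    (shiftFunctor (Dual.D T) (m : ℤ)).mapIso (Rψ₂.mapIso
      ((DRing.LBaseChange (algebraMap A (MvPolynomial (Fin m) A))).mapIso lbcUnitIso'))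
  -- Step 2: the diagonal
  letI algTA : Algebra T A := (Algebra.TensorProduct.lmul' R (S := A)).toRingHom.toAlgebra
  haveI : IsScalarTower A T A := IsScalarTower.of_algebraMap_eq (fun a => by
    show a = Algebra.TensorProduct.lmul' R (S := A) (a ⊗ₜ[R] (1 : A))
    rw [Algebra.TensorProduct.lmul'_apply_tmul, mul_one])
  have hμs : Function.Surjective (algebraMap T A) := fun a => ⟨a ⊗ₜ[R] (1 : A), by
    show Algebra.TensorProduct.lmul' R (S := A) (a ⊗ₜ[R] (1 : A)) = a
    rw [Algebra.TensorProduct.lmul'_apply_tmul, mul_one]⟩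
  haveI : Module.Finite T A := Module.Finite.of_surjective (Algebra.linearMap T A) hμs
  haveI : Algebra.IsIntegral T A := inferInstance
  let χ : MvPolynomial (Fin 0) T →ₐ[T] A :=
    (Algebra.ofId T A).comp (MvPolynomial.isEmptyAlgEquiv T (Fin 0)).toAlgHom
  have hχ : Function.Surjective χ := by
    intro a
    obtain ⟨t, ht⟩ := hμs a
    exact ⟨(MvPolynomial.isEmptyAlgEquiv T (Fin 0)).symm t, by
      show Algebra.ofId T A ((MvPolynomial.isEmptyAlgEquiv T (Fin 0))
        ((MvPolynomial.isEmptyAlgEquiv T (Fin 0)).symm t)) = a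
      rw [AlgEquiv.apply_symm_apply]
      exact ht⟩
  obtain ⟨Rχ, ⟨adjχ⟩⟩ := RHomEx.exists_rightAdjoint_restrictD χ.toRingHom
  haveI : DRing.HasLBaseChange (algebraMap T (MvPolynomial (Fin 0) T)) :=
    Groth.Agent.Lib.helper13.RKF.hasLBaseChange _
  let θ : MvPolynomial (Fin 0) A →ₐ[A] A := (MvPolynomial.isEmptyAlgEquiv A (Fin 0)).toAlgHom
  have hθ : Function.Surjective θ := (MvPolynomial.isEmptyAlgEquiv A (Fin 0)).surjective
  obtain ⟨Rθ, ⟨adjθ⟩⟩ := RHomEx.exists_rightAdjoint_restrictD θ.toRingHom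
  haveI : DRing.HasLBaseChange (algebraMap A (MvPolynomial (Fin 0) A)) :=
    Groth.Agent.Lib.helper13.RKF.hasLBaseChange _
  haveI : DRing.HasLBaseChange (algebraMap A A) :=
    Groth.Agent.Lib.helper13.RKF.hasLBaseChange _
  obtain ⟨j3⟩ := shriekVia_iso_rightAdjoint_of_integral T A 0 χ Rχ adjχ Rμ adjμ
    (Dual2.shriekVia m Rψ₂ (Dual.inD A A))
  obtain ⟨j4⟩ := shriekVia_comp A T A m ψ₂ hψ₂ Rψ₂ adj₂ 0 χ hχ Rχ adjχ 0 θ hθ Rθ adjθ
    (Dual.inD A A) 0 (hK0 A)
  obtain ⟨j5⟩ := OpenImm.shriekVia_iso_LBaseChange A A (by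
      have : algebraMap A A = RingHom.id A := rfl
      rw [this]
      exact (inferInstance : Epi (𝟙 (CommRingCat.of A)))) (by
      have : algebraMap A A = RingHom.id A := rfl
      rw [this]
      have h2 : (PrimeSpectrum.comap (RingHom.id A)) = id := by
        funext x
        rfl
      rw [h2, Set.range_id]
      exact isOpen_univ) 0 θ hθ Rθ adjθ (Dual.inD A A)
  exact ⟨Rμ.mapIso (j1 ≪≫ j2) ≪≫ j3.symm ≪≫ j4.symm ≪≫ j5 ≪≫ lbcUnitIso'⟩

end Groth.Agent.Lib.helper23.RelDual
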