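import Mathlib

/-!
Existence of primitive roots of unity from the hypothesis "`X ^ n - 1` splits" (helper23).
-/

set_option autoImplicit false
universe u
open Polynomial

namespace Groth.Agent.Lib.helper23

/-- If `X ^ d - 1` splits over the field `K` and `d ≠ 0` in `K`, then `K` contains a primitive
`d`-th root of unity. -/
lemma exists_isPrimitiveRoot_of_splits {K : Type u} [Field K] (d : ℕ) (hd : 0 < d)
    (hdK : (d : K) ≠ 0) (hsplit : (X ^ d - 1 : K[X]).Splits) : ∃ ζ : K, IsPrimitiveRoot ζ d := by
  classical
  have : NeZero d := ⟨hd.ne'⟩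
  rw [← card_rootsOfUnity_eq_iff_exists_isPrimitiveRoot]
  apply le_antisymm (card_rootsOfUnity K d)
  have hP : (X ^ d - C (1 : K)) = X ^ d - 1 := by simp
  have hsep : (X ^ d - C (1 : K)).Separable := separable_X_pow_sub_C (1 : K) hdK one_ne_zero
  have hnodup : (nthRoots d (1 : K)).Nodup := by
    rw [nthRoots]; exact nodup_roots hsep
  have hcard : Multiset.card (nthRoots d (1 : K)) = d := by
    rw [nthRoots, hP, ← hsplit.natDegree_eq_card_roots, ← hP, natDegree_X_pow_sub_C]
  calc d = Multiset.card (nthRoots d (1 : K)) := hcard.symm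
    _ = (nthRoots d (1 : K)).toFinset.card := by
        rw [Multiset.toFinset_card_of_nodup hnodup]
    _ = Fintype.card { x // x ∈ nthRoots d (1 : K) } := by
        rw [Fintype.card_of_subtype (nthRoots d (1 : K)).toFinset]
        intro x; simp
    _ = Nat.card { x // x ∈ nthRoots d (1 : K) } := Nat.card_eq_fintype_card.symm
    _ = Nat.card (rootsOfUnity d K) := (Nat.card_congr (rootsOfUnityEquivNthRoots K d)).symm
    _ ≤ Nat.card (rootsOfUnity d K) := le_rfl

end Groth.Agent.Lib.helper23
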