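import Mathlib

/-!
# Fully faithfulness of the functor between Serre quotients `A'/J' ⥤ A/J` (helper23)
-/

set_option autoImplicit false
universe v'' v' v u'' u' u
open CategoryTheory CategoryTheory.Limits

namespace Groth.Agent.Lib.helper23.SerreFF

variable {A A' : Type u} [Category.{v} A] [Abelian A] [Category.{v} A'] [Abelian A']
  (i : A' ⥤ A) [i.Full] [i.Faithful] [PreservesFiniteLimits i] [PreservesFiniteColimits i]
  (J : ObjectProperty A) [J.IsSerreClass] [(J.inverseImage i).IsSerreClass]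
  {Q : Type u'} [Category.{v'} Q] (L : A ⥤ Q) [L.IsLocalization J.isoModSerre]
  {Q' : Type u''} [Category.{v''} Q'] (L' : A' ⥤ Q')
  [L'.IsLocalization (J.inverseImage i).isoModSerre]

omit [i.Full] [i.Faithful] in
include J L in
/-- faithfulness on morphisms coming from `A'`. -/
lemma map_eq_of_map_eq {M N : A'} (f f' : M ⟶ N)
    (h : L.map (i.map f) = L.map (i.map f')) : L'.map f = L'.map f' := by
  rw [MorphismProperty.map_eq_iff_precomp L J.isoModSerre] at h
  obtain ⟨Z₁, s₁, hs₁, hfac⟩ := h
  rw [MorphismProperty.map_eq_iff_precomp L' (J.inverseImage i).isoModSerre]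
  refine ⟨equalizer f f', equalizer.ι f f', ?_, equalizer.condition f f'⟩
  rw [ObjectProperty.isoModSerre_iff_of_mono]
  change J (i.obj (cokernel (equalizer.ι f f')))
  refine J.prop_of_iso (PreservesCokernel.iso i (equalizer.ι f f')).symm ?_
  -- `s₁` factors through `i (equalizer f f')`
  let u : Z₁ ⟶ i.obj (equalizer f f') :=
    equalizer.lift s₁ hfac ≫ (PreservesEqualizer.iso i f f').inv
  have hu : u ≫ i.map (equalizer.ι f f') = s₁ := by
    dsimp [u]
    rw [Category.assoc, ← equalizerComparison_comp_π, ← PreservesEqualizer.iso_hom,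
      Iso.inv_hom_id_assoc, equalizer.lift_ι]
  have h0 : s₁ ≫ cokernel.π (i.map (equalizer.ι f f')) = 0 := by
    rw [← hu, Category.assoc, cokernel.condition, comp_zero]
  have hepi : Epi (cokernel.desc s₁ (cokernel.π (i.map (equalizer.ι f f'))) h0) :=
    epi_of_epi_fac (cokernel.π_desc _ _ h0)
  have hJ : J (cokernel s₁) := ((J.isoModSerre_iff s₁).1 hs₁).2
  exact J.prop_of_epi (cokernel.desc s₁ (cokernel.π (i.map (equalizer.ι f f'))) h0) hJ

variable {L L'} (Φ : Q' ⥤ Q) (e : L' ⋙ Φ ≅ i ⋙ L)

omit [i.Full] [i.Faithful] [PreservesFiniteColimits i] [PreservesFiniteLimits i]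
  [J.IsSerreClass] [(J.inverseImage i).IsSerreClass] [L.IsLocalization J.isoModSerre]
  [L'.IsLocalization (J.inverseImage i).isoModSerre] in
lemma map_map_eq {M N : A'} (f : M ⟶ N) :
    Φ.map (L'.map f) = e.hom.app M ≫ L.map (i.map f) ≫ e.inv.app N := by
  have := e.hom.naturality f
  dsimp at this
  rw [← Category.assoc, ← this, Category.assoc, Iso.hom_inv_id_app]
  dsimp
  rw [Category.comp_id]

omit [i.Full] [i.Faithful] in
include J e in
/-- `Φ` is faithful on objects in the image of `L'`. -/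
lemma faithful_aux {M N : A'} (a b : L'.obj M ⟶ L'.obj N) (h : Φ.map a = Φ.map b) : a = b := by
  obtain ⟨φ, ha, hb⟩ :=
    Localization.exists_leftFraction₂ L' (J.inverseImage i).isoModSerre a b
  have hinv := Localization.inverts L' (J.inverseImage i).isoModSerre
  haveI : IsIso (L'.map φ.s) := hinv _ φ.hs
  have h1 : a ≫ L'.map φ.s = L'.map φ.f := by
    rw [ha]; exact MorphismProperty.LeftFraction.map_comp_map_s φ.fst L' hinv
  have h2 : b ≫ L'.map φ.s = L'.map φ.f' := by
    rw [hb]; exact MorphismProperty.LeftFraction.map_comp_map_s φ.snd L' hinv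
  have h3 : Φ.map (L'.map φ.f) = Φ.map (L'.map φ.f') := by
    rw [← h1, ← h2, Φ.map_comp, Φ.map_comp, h]
  rw [map_map_eq i Φ e, map_map_eq i Φ e] at h3
  have h4 : L.map (i.map φ.f) = L.map (i.map φ.f') := by
    have := congr(e.inv.app M ≫ $h3 ≫ e.hom.app _)
    simpa using this
  have h5 := map_eq_of_map_eq i J L L' φ.f φ.f' h4
  rw [← cancel_mono (L'.map φ.s), h1, h2, h5]

end Groth.Agent.Lib.helper23.SerreFF
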