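import Mathlib
import Groth.Agent.Lib.Helper23.SerreFF

/-!
# Fully faithfulness of `A'/J' ⥤ A/J`, II: fullness (helper23)
-/

set_option autoImplicit false
universe v'' v' v u'' u' u
open CategoryTheory CategoryTheory.Limits

namespace Groth.Agent.Lib.helper23.SerreFF

variable {A A' : Type u} [Category.{v} A] [Abelian A] [Category.{v} A'] [Abelian A']
  (i : A' ⥤ A) [i.Full] [i.Faithful] [PreservesFiniteLimits i] [PreservesFiniteColimits i]
  (J : ObjectProperty A) [J.IsSerreClass] [(J.inverseImage i).IsSerreClass]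
  (hsub : ∀ (M : A') (N : A) (f : N ⟶ i.obj M), Mono f → J N → i.essImage N)
  (hquot : ∀ (M : A') (N : A) (p : i.obj M ⟶ N), Epi p → J N → i.essImage N)
  {Q : Type u'} [Category.{v'} Q] {L : A ⥤ Q} [L.IsLocalization J.isoModSerre]
  {Q' : Type u''} [Category.{v''} Q'] {L' : A' ⥤ Q'}
  [L'.IsLocalization (J.inverseImage i).isoModSerre]
  (Φ : Q' ⥤ Q) (e : L' ⋙ Φ ≅ i ⋙ L)

include hsub hquot e in
/-- `Φ` is full on objects in the image of `L'`. -/
lemma full_aux {M N : A'} (b' : L.obj (i.obj M) ⟶ L.obj (i.obj N)) :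
    ∃ a : L'.obj M ⟶ L'.obj N, Φ.map a = e.hom.app M ≫ b' ≫ e.inv.app N := by
  haveI : i.Additive := Functor.additive_of_preserves_binary_products i
  have hinv := Localization.inverts L J.isoModSerre
  have hinv' := Localization.inverts L' (J.inverseImage i).isoModSerre
  obtain ⟨ψ, hψ⟩ := Localization.exists_rightFraction L J.isoModSerre b'
  rcases ψ with @⟨X, s, hs, g⟩
  have hJk : J (kernel s) := ((J.isoModSerre_iff s).1 hs).1
  have hJc : J (cokernel s) := ((J.isoModSerre_iff s).1 hs).2
  -- the image of `s` comes from `A'`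
  obtain ⟨C₀, ⟨c⟩⟩ := hquot M (cokernel s) (cokernel.π s) inferInstance hJc
  let φ : M ⟶ C₀ := i.preimage (cokernel.π s ≫ c.inv)
  have hφ : i.map φ = cokernel.π s ≫ c.inv := i.map_preimage _
  let σ : kernel φ ⟶ M := kernel.ι φ
  have hex : ((ShortComplex.mk σ φ (kernel.condition φ)).map i).Exact :=
    (ShortComplex.exact_kernel φ).map i
  haveI hmono : Mono (i.map σ) := inferInstance
  haveI : Mono (((ShortComplex.mk σ φ (kernel.condition φ)).map i).f) := hmono
  have hσφ : i.map σ ≫ i.map φ = 0 := by rw [← i.map_comp, kernel.condition, i.map_zero]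
  haveI hd : Mono (cokernel.desc (i.map σ) (i.map φ) hσφ) := hex.mono_cokernelDesc
  have hJσ : J (cokernel (i.map σ)) :=
    J.prop_of_mono (cokernel.desc (i.map σ) (i.map φ) hσφ) (J.prop_of_iso c.symm hJc)
  have hσW : (J.inverseImage i).isoModSerre σ := by
    rw [ObjectProperty.isoModSerre_iff_of_mono]
    change J (i.obj (cokernel σ))
    exact J.prop_of_iso (PreservesCokernel.iso i σ).symm hJσ
  -- factor `s` through `i σ`
  have hsφ : s ≫ i.map φ = 0 := by rw [hφ, cokernel.condition_assoc, zero_comp]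
  let p' : X ⟶ i.obj (kernel φ) := hex.lift s hsφ
  have hp' : p' ≫ i.map σ = s := hex.lift_f s hsφ
  have hp'epi : Epi p' := by
    rw [epi_iff_surjective_up_to_refinements]
    intro T y
    have h0 : (y ≫ i.map σ) ≫ cokernel.π s = 0 := by
      have h1 : cokernel.π s = i.map φ ≫ c.hom := by rw [hφ, Category.assoc, c.inv_hom_id,
        Category.comp_id]
      rw [h1, Category.assoc, ← i.map_comp_assoc, kernel.condition, i.map_zero, zero_comp,
        comp_zero]
    obtain ⟨T', π, hπ, x, hx⟩ := (ShortComplex.exact_cokernel s).exact_up_to_refinements _ h0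
    dsimp at x hx
    refine ⟨T', π, hπ, x, ?_⟩
    rw [← cancel_mono (i.map σ), Category.assoc, Category.assoc, hp', hx]
  -- the kernel of `p'` lies in `J`
  have hκs : kernel.ι p' ≫ s = 0 := by rw [← hp', kernel.condition_assoc, zero_comp]
  have hJK : J (kernel p') := by
    haveI : Mono (kernel.lift s (kernel.ι p') hκs) := mono_of_mono_fac (kernel.lift_ι _ _ _)
    exact J.prop_of_mono (kernel.lift s (kernel.ι p') hκs) hJk
  have hp'W : J.isoModSerre p' := by
    rw [ObjectProperty.isoModSerre_iff_of_epi]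
    exact hJK
  -- the image of the kernel in `i N`
  let G := Abelian.image (kernel.ι p' ≫ g)
  have hJG : J G := J.prop_of_epi (Abelian.factorThruImage (kernel.ι p' ≫ g)) hJK
  obtain ⟨N₀, ⟨n⟩⟩ := hsub N G (Abelian.image.ι _) inferInstance hJG
  let ν : N₀ ⟶ N := i.preimage (n.hom ≫ Abelian.image.ι _)
  have hν : i.map ν = n.hom ≫ Abelian.image.ι _ := i.map_preimage _
  haveI hνmono : Mono ν := by
    haveI : Mono (i.map ν) := by rw [hν]; infer_instance
    exact i.mono_of_mono_map inferInstance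
  let t : N ⟶ cokernel ν := cokernel.π ν
  have htW : (J.inverseImage i).isoModSerre t := by
    rw [ObjectProperty.isoModSerre_iff_of_epi]
    have hl : Abelian.monoLift ν (kernel.ι t) (kernel.condition t) ≫ ν = kernel.ι t :=
      Abelian.monoLift_comp _ _ _
    haveI : Mono (Abelian.monoLift ν (kernel.ι t) (kernel.condition t)) := mono_of_mono_fac hl
    refine (J.inverseImage i).prop_of_mono (Abelian.monoLift ν (kernel.ι t) (kernel.condition t)) ?_
    change J (i.obj N₀)
    exact J.prop_of_iso n.symm hJG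
  have hκg : kernel.ι p' ≫ g ≫ i.map t = 0 := by
    rw [← Category.assoc, ← Abelian.image.fac (kernel.ι p' ≫ g), Category.assoc]
    have : Abelian.image.ι (kernel.ι p' ≫ g) = n.inv ≫ i.map ν := by
      rw [hν, n.inv_hom_id_assoc]
    rw [this, Category.assoc, ← i.map_comp, cokernel.condition, i.map_zero, comp_zero, comp_zero]
  let gbar : i.obj (kernel φ) ⟶ i.obj (cokernel ν) := Abelian.epiDesc p' (g ≫ i.map t) hκg
  have hgbar : p' ≫ gbar = g ≫ i.map t := Abelian.comp_epiDesc _ _ _
  let g₀ : kernel φ ⟶ cokernel ν := i.preimage gbar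
  have hg₀ : i.map g₀ = gbar := i.map_preimage _
  -- the key identity in `Q`
  haveI : IsIso (L.map s) := hinv _ hs
  haveI : IsIso (L.map p') := hinv _ hp'W
  have hb' : L.map s ≫ b' = L.map g := by
    rw [hψ]
    exact MorphismProperty.RightFraction.map_s_comp_map
      (MorphismProperty.RightFraction.mk s hs g) L hinv
  have key : L.map gbar = L.map (i.map σ) ≫ b' ≫ L.map (i.map t) := by
    rw [← cancel_epi (L.map p'), ← L.map_comp, hgbar, L.map_comp, ← L.map_comp_assoc, hp',
      ← Category.assoc, hb']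
  -- the preimage
  let eσ := Localization.isoOfHom L' (J.inverseImage i).isoModSerre σ hσW
  let et := Localization.isoOfHom L' (J.inverseImage i).isoModSerre t htW
  refine ⟨eσ.inv ≫ L'.map g₀ ≫ et.inv, ?_⟩
  haveI : IsIso (L'.map σ) := hinv' _ hσW
  haveI : IsIso (L'.map t) := hinv' _ htW
  have h1 : (L'.map σ ≫ eσ.inv ≫ L'.map g₀ ≫ et.inv) ≫ L'.map t = L'.map g₀ := by
    have h2 : L'.map σ ≫ eσ.inv = 𝟙 _ := Localization.isoOfHom_hom_inv_id _ _ _ _
    have h3 : et.inv ≫ L'.map t = 𝟙 _ := Localization.isoOfHom_inv_hom_id _ _ _ _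
    simp only [Category.assoc, h3, Category.comp_id]
    rw [← Category.assoc, h2, Category.id_comp]
  rw [← cancel_epi (Φ.map (L'.map σ)), ← cancel_mono (Φ.map (L'.map t)), ← Φ.map_comp,
    ← Φ.map_comp, h1, map_map_eq i Φ e, map_map_eq i Φ e, map_map_eq i Φ e, hg₀, key]
  simp

end Groth.Agent.Lib.helper23.SerreFF
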