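import Mathlib
import Groth.Agent.Lib.Helper23.SerreFF2

/-!
# Fully faithfulness of `A'/J' ⥤ A/J`, III: assembling (helper23)
-/

set_option autoImplicit false
universe v'' v' v u'' u' u
open CategoryTheory CategoryTheory.Limits

namespace Groth.Agent.Lib.helper23.SerreFF

variable {A A' : Type u} [Category.{v} A] [Abelian A] [Category.{v} A'] [Abelian A']
  (i : A' ⥤ A) [i.Full] [i.Faithful] [PreservesFiniteLimits i] [PreservesFiniteColimits i]
  (J : ObjectProperty A) [J.IsSerreClass] [(J.inverseImage i).IsSerreClass]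
  (hsub : ∀ (M : A') (N : A) (f : N ⟶ i.obj M), Mono f → J N → i.essImage N)
  (hquot : ∀ (M : A') (N : A) (p : i.obj M ⟶ N), Epi p → J N → i.essImage N)
  {Q : Type u'} [Category.{v'} Q] (L : A ⥤ Q) [L.IsLocalization J.isoModSerre]
  {Q' : Type u''} [Category.{v''} Q'] (L' : A' ⥤ Q')
  [L'.IsLocalization (J.inverseImage i).isoModSerre]
  (Φ : Q' ⥤ Q) (e : L' ⋙ Φ ≅ i ⋙ L)

include hsub hquot e in
theorem full_and_faithful : Φ.Full ∧ Φ.Faithful := by
  haveI : L'.EssSurj := Localization.essSurj L' (J.inverseImage i).isoModSerre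
  constructor
  · refine ⟨fun {X' Y'} g => ?_⟩
    let eX := L'.objObjPreimageIso X'
    let eY := L'.objObjPreimageIso Y'
    let g₁ := Φ.map eX.hom ≫ g ≫ Φ.map eY.inv
    obtain ⟨a, ha⟩ := full_aux i J hsub hquot Φ e
      (e.inv.app _ ≫ g₁ ≫ e.hom.app _)
    refine ⟨eX.inv ≫ a ≫ eY.hom, ?_⟩
    rw [Φ.map_comp, Φ.map_comp, ha]
    simp [g₁, ← Φ.map_comp_assoc, ← Φ.map_comp]
  · refine ⟨fun {X' Y'} f g h => ?_⟩
    let eX := L'.objObjPreimageIso X'
    let eY := L'.objObjPreimageIso Y'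
    have h1 : eX.hom ≫ f ≫ eY.inv = eX.hom ≫ g ≫ eY.inv :=
      faithful_aux i J Φ e _ _ (by simp only [Φ.map_comp, h])
    simpa using h1

end Groth.Agent.Lib.helper23.SerreFF
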