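import Mathlib
import Groth.Prelude.Def_Wider
import Groth.Prelude.Def_DDual2
import Groth.Prelude.Def_DualSh
import Groth.Agent.Lib.Helper23.ShriekFinite
import Groth.Agent.Lib.Helper23.DimFn3
import Groth.Agent.Lib.Helper23.RAdj6
import Groth.Agent.S1782

/-!
# helper23: `φ^!` of a normalized dualizing complex is normalized at maximal ideals over the closed
point (S1789)
-/

set_option autoImplicit false
universe u
open CategoryTheory CategoryTheory.Limits DerivedCategory Pretriangulated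

attribute [local instance] HasDerivedCategory.standard

namespace Groth.Agent.Lib.helper23.FBCR

open Groth.Agent.Lib.helper23.FBC Groth.Agent.Lib.helper23.RAdj Groth.Agent.Lib.helper23.Kz
  Groth.Agent.Lib.helper23.DimFn

attribute [local instance] FlatBC.preservesFiniteLimits_extendScalars_algebraMap

section Finite

variable (R A : Type u) [CommRing R] [CommRing A] [Algebra R A] [IsLocalRing R]
  [Algebra.FiniteType R A]

/-- Zariski's lemma over a local base: the residue field at a maximal ideal over the closed point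
is a finite module. -/
theorem finite_quotient_maximal (m : Ideal A) [m.IsMaximal]
    (hm : m.comap (algebraMap R A) = IsLocalRing.maximalIdeal R) : Module.Finite R (A ⧸ m) := by
  letI : Field (A ⧸ m) := Ideal.Quotient.field m
  let κ := IsLocalRing.ResidueField R
  have hker : ∀ r ∈ IsLocalRing.maximalIdeal R, algebraMap R (A ⧸ m) r = 0 := by
    intro r hr
    rw [← hm] at hr
    rw [IsScalarTower.algebraMap_apply R A (A ⧸ m)]
    exact Ideal.Quotient.eq_zero_iff_mem.2 hr
  let g : κ →+* (A ⧸ m) := Ideal.Quotient.lift (IsLocalRing.maximalIdeal R)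
    (algebraMap R (A ⧸ m)) hker
  letI : Algebra κ (A ⧸ m) := g.toAlgebra
  haveI : IsScalarTower R κ (A ⧸ m) := IsScalarTower.of_algebraMap_eq (fun r => rfl)
  haveI : Algebra.FiniteType R (A ⧸ m) :=
    Algebra.FiniteType.of_surjective (Ideal.Quotient.mkₐ R m) (Ideal.Quotient.mkₐ_surjective R m)
  haveI : Algebra.FiniteType κ (A ⧸ m) := Algebra.FiniteType.of_restrictScalars_finiteType R κ _
  haveI : Module.Finite κ (A ⧸ m) := finite_of_finite_type_of_isJacobsonRing κ (A ⧸ m)
  haveI : Module.Finite R κ :=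
    Module.Finite.of_surjective (Algebra.linearMap R κ) Ideal.Quotient.mk_surjective
  exact Module.Finite.trans κ (A ⧸ m)

end Finite

section Key

variable (R A : Type u) [CommRing R] [CommRing A] [IsNoetherianRing R] [Algebra R A] [IsLocalRing R]
  (n : ℕ) (ψ : MvPolynomial (Fin n) R →ₐ[R] A)
  [DRing.HasLBaseChange (algebraMap R (MvPolynomial (Fin n) R))]
  (Rψ : Dual.D (MvPolynomial (Fin n) R) ⥤ Dual.D A) (adj : DRing.restrictD ψ.toRingHom ⊣ Rψ)

include adj in
/-- `Hom((A/m)[0], φ^!(ω)[i]) = 0` for `i ≠ 0`, `ω` normalized, `m` maximal over the closed point. -/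
theorem vz_quotient_maximal (hψ : Function.Surjective ψ) (m : Ideal A) [m.IsMaximal]
    (hm : m.comap (algebraMap R A) = IsLocalRing.maximalIdeal R) (ω : Dual.D R)
    (hn : Dual.IsNormalized R ω) (i : ℤ) (hi : i ≠ 0) :
    VZ (Dual2.shriekVia n Rψ ω) i (ModuleCat.of A (A ⧸ m)) := by
  haveI : Algebra.FiniteType R A := Algebra.FiniteType.of_surjective ψ hψ
  haveI hfin : Module.Finite R (A ⧸ m) := finite_quotient_maximal R A m hm
  haveI : Algebra.IsIntegral R (A ⧸ m) := inferInstance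
  let X : Dual.D A := Dual2.shriekVia n Rψ ω
  let β : A →ₐ[R] (A ⧸ m) := Ideal.Quotient.mkₐ R m
  obtain ⟨Rβ, ⟨adjβ⟩⟩ := RHomEx.exists_rightAdjoint_restrictD β.toRingHom
  obtain ⟨R'k, ⟨adjk⟩⟩ := RHomEx.exists_rightAdjoint_restrictD (algebraMap R (A ⧸ m))
  let χ : MvPolynomial (Fin n) R →ₐ[R] (A ⧸ m) := β.comp ψ
  obtain ⟨Rχ, ⟨adjχ⟩⟩ := RHomEx.exists_rightAdjoint_restrictD χ.toRingHom
  obtain ⟨j0⟩ := shriekVia_iso_rightAdjoint_of_integral R (A ⧸ m) n χ Rχ adjχ R'k adjk ω
  obtain ⟨ε0, u0⟩ := isUniv_shriekVia₀ n ψ Rψ adj ω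
  have u1 : IsUniv (DRing.restrictD β.toRingHom) X (Rβ.obj X) (adjβ.counit.app X) :=
    IsUniv.of_adj adjβ X
  have u2 := (u1.comp u0).of_natIso
    (restrictDCompIso ψ.toRingHom β.toRingHom χ.toRingHom rfl)
  obtain ⟨ε3, u3⟩ := isUniv_shriekVia₀ n χ Rχ adjχ ω
  obtain ⟨j1⟩ := u2.iso u3
  let J : Rβ.obj X ≅ R'k.obj ω := j1 ≪≫ j0
  -- vanishing over `R`
  have hker : ∀ r ∈ IsLocalRing.maximalIdeal R, algebraMap R (A ⧸ m) r = 0 := by
    intro r hr
    rw [← hm] at hr
    rw [IsScalarTower.algebraMap_apply R A (A ⧸ m)]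
    exact Ideal.Quotient.eq_zero_iff_mem.2 hr
  have hVZ : VZ ω i (ModuleCat.of R (A ⧸ m)) := by
    refine VZ_of_killed (IsLocalRing.maximalIdeal R) (fun p' hp' hle => ?_) (A ⧸ m)
      (fun y hy x => by rw [Algebra.smul_def, hker y hy, zero_mul])
    have hp'm : p' = IsLocalRing.maximalIdeal R :=
      ((IsLocalRing.maximalIdeal.isMaximal R).eq_of_le hp'.ne_top hle).symm
    subst hp'm
    intro φ
    haveI := hn i hi
    haveI : Subsingleton (BassD.sg (ModuleCat.of R (R ⧸ IsLocalRing.maximalIdeal R)) ⟶ ω⟦i⟧) :=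
      subsingleton_hom_of_iso ((singleFunctor (ModuleCat.{u} R) 0).mapIso (residueFieldIso R))
        (Iso.refl _)
    exact Subsingleton.elim _ _
  let k' : ModuleCat.{u} (A ⧸ m) := ModuleCat.of (A ⧸ m) (A ⧸ m)
  haveI s1 : Subsingleton ((singleFunctor (ModuleCat.{u} R) 0).obj
      ((Φm (algebraMap R (A ⧸ m))).obj k') ⟶ ω⟦i⟧) := by
    haveI : Subsingleton (BassD.sg (ModuleCat.of R (A ⧸ m)) ⟶ ω⟦i⟧) :=
      ⟨fun f g => by rw [hVZ f, hVZ g]⟩
    exact subsingleton_hom_of_iso ((singleFunctor (ModuleCat.{u} R) 0).mapIso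
      (equivBA (A := R) (B := A ⧸ m)).toModuleIso) (Iso.refl _)
  haveI s2 : Subsingleton ((singleFunctor (ModuleCat.{u} (A ⧸ m)) 0).obj k' ⟶
      (R'k.obj ω)⟦i⟧) := subsingleton_single (algebraMap R (A ⧸ m)) R'k adjk k' ω i s1
  haveI s3 : Subsingleton ((singleFunctor (ModuleCat.{u} (A ⧸ m)) 0).obj k' ⟶
      (Rβ.obj X)⟦i⟧) :=
    subsingleton_hom_of_iso (Iso.refl _) ((shiftFunctor (Dual.D (A ⧸ m)) i).mapIso J.symm)
  haveI s4 : Subsingleton ((DRing.restrictD β.toRingHom).obj
      ((singleFunctor (ModuleCat.{u} (A ⧸ m)) 0).obj k') ⟶ X⟦i⟧) :=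
    (shiftEquiv adjβ _ X i).symm.subsingleton
  haveI s4' : Subsingleton ((singleFunctor (ModuleCat.{u} (A ⧸ m)) 0 ⋙
      (Φm β.toRingHom).mapDerivedCategory).obj k' ⟶ X⟦i⟧) := s4
  haveI s5 : Subsingleton ((singleFunctor (ModuleCat.{u} A) 0).obj
      ((Φm β.toRingHom).obj k') ⟶ X⟦i⟧) :=
    subsingleton_hom_of_iso (((Φm β.toRingHom).mapDerivedCategorySingleFunctor 0).app k')
      (Iso.refl _)
  haveI s5' : Subsingleton ((singleFunctor (ModuleCat.{u} A) 0).obj
      (ModuleCat.of A ↑(BA (algebraMap A (A ⧸ m)))) ⟶ X⟦i⟧) := s5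
  haveI s6 : Subsingleton (BassD.sg (ModuleCat.of A (A ⧸ m)) ⟶ X⟦i⟧) :=
    subsingleton_hom_of_iso ((singleFunctor (ModuleCat.{u} A) 0).mapIso
      (equivBA (A := A) (B := A ⧸ m)).toModuleIso.symm) (Iso.refl _)
  intro φ
  exact Subsingleton.elim _ _

end Key

section Main

attribute [local instance 50] homModuleA

/-- S1789. -/
theorem isNormalized_shriekVia_localization (R A : Type u) [CommRing R] [CommRing A]
    [IsNoetherianRing R] [IsNoetherianRing A] [Algebra R A] (n : ℕ)
    (ψ : MvPolynomial (Fin n) R →ₐ[R] A) (hψ : Function.Surjective ψ)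
    [DRing.HasLBaseChange (algebraMap R (MvPolynomial (Fin n) R))]
    (Rψ : Dual.D (MvPolynomial (Fin n) R) ⥤ Dual.D A) (adj : DRing.restrictD ψ.toRingHom ⊣ Rψ)
    [IsLocalRing R] (m : Ideal A) [m.IsMaximal]
    (hm : m.comap (algebraMap R A) = IsLocalRing.maximalIdeal R) (ω : Dual.D R)
    (hω : Dual.IsDualizing R ω) (hn : Dual.IsNormalized R ω)
    [DRing.HasLBaseChange (algebraMap A (Localization.AtPrime m))] :
    Dual.IsDualizing (Localization.AtPrime m)
        ((DRing.LBaseChange (algebraMap A (Localization.AtPrime m))).obj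
          (Dual2.shriekVia n Rψ ω)) ∧
      Dual.IsNormalized (Localization.AtPrime m)
        ((DRing.LBaseChange (algebraMap A (Localization.AtPrime m))).obj
          (Dual2.shriekVia n Rψ ω)) := by
  let X : Dual.D A := Dual2.shriekVia n Rψ ω
  have hX : Dual.IsDualizing A X := Groth.Agent.S1782.result R A n ψ hψ Rψ adj ω hω
  haveI : Module.Flat A (Localization.AtPrime m) := flat_atPrime m
  let e : (DRing.LBaseChange (algebraMap A (Localization.AtPrime m))).obj X ≅
      (EE A (Localization.AtPrime m)).obj X :=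
    (FlatBC.lbcIso (algebraMap A (Localization.AtPrime m))).app X
  refine ⟨isDualizing_of_iso e.symm (isDualizing_EE_atPrime X hX m), ?_⟩
  intro i hi
  obtain ⟨a, b, hab, hGE, hLE, hv⟩ := exists_bounds X hX
  haveI := hGE
  have hz : Zloc X m (ModuleCat.of A (A ⧸ m)) i := fun t =>
    ⟨1, fun h1 => (Ideal.IsPrime.ne_top inferInstance) ((Ideal.eq_top_iff_one m).2 h1), by
      rw [one_smul]
      exact vz_quotient_maximal R A n ψ Rψ adj hψ m hm ω hn i hi t⟩
  have hvz := (Zloc_iff_VZ X a m m i).1 hz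
  have hmax : m.map (algebraMap A (Localization.AtPrime m)) =
      IsLocalRing.maximalIdeal (Localization.AtPrime m) :=
    Localization.AtPrime.map_eq_maximalIdeal
  let eκ : ModuleCat.of (Localization.AtPrime m)
        (IsLocalRing.ResidueField (Localization.AtPrime m)) ≅
      ModuleCat.of (Localization.AtPrime m)
        (Localization.AtPrime m ⧸ m.map (algebraMap A (Localization.AtPrime m))) :=
    residueFieldIso (Localization.AtPrime m) ≪≫
      (Submodule.quotEquivOfEq _ _ hmax.symm).toModuleIso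
  haveI : Subsingleton (BassD.sg (ModuleCat.of (Localization.AtPrime m)
      (Localization.AtPrime m ⧸ m.map (algebraMap A (Localization.AtPrime m)))) ⟶
      ((EE A (Localization.AtPrime m)).obj X)⟦i⟧) := ⟨fun f g => by rw [hvz f, hvz g]⟩
  exact subsingleton_hom_of_iso
    ((singleFunctor (ModuleCat.{u} (Localization.AtPrime m)) 0).mapIso eκ.symm)
    ((shiftFunctor (Dual.D (Localization.AtPrime m)) i).mapIso e.symm)

end Main

end Groth.Agent.Lib.helper23.FBCR
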