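import Mathlib
import Groth.Prelude.Def_Wider
import Groth.Prelude.Def_DDual2
import Groth.Agent.Lib.Helper23.FBC18

/-!
# Flat "unramified" base change of dualizing complexes (helper23)

`A → B` flat, Noetherian, such that for every prime `q` of `B` the ideal `q / (q ∩ A) B` is killed
by some `s ∉ q` (i.e. `q B_q = (q ∩ A) B_q`: étale maps, localizations, ...).  Then the injective
dimension does not grow and dualizing complexes base change to dualizing complexes.
-/

set_option autoImplicit false
universe u
open CategoryTheory CategoryTheory.Limits DerivedCategory Pretriangulated TensorProduct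

attribute [local instance] HasDerivedCategory.standard

namespace Groth.Agent.Lib.helper23.FBC

attribute [local instance 50] homModuleA
attribute [local instance] FlatBC.preservesFiniteLimits_extendScalars_algebraMap

section Kill

variable {B : Type u} [CommRing B]

/-- the short complex `ker → B/P → B/q` for `P ≤ q`. -/
noncomputable def factorSC (P q : Ideal B) (hPq : P ≤ q) : ShortComplex (ModuleCat.{u} B) :=
  ShortComplex.mk
    (ModuleCat.ofHom (LinearMap.ker (Submodule.mapQ P q LinearMap.id hPq)).subtype)
    (ModuleCat.ofHom (Submodule.mapQ P q LinearMap.id hPq) :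
      ModuleCat.of B (B ⧸ P) ⟶ ModuleCat.of B (B ⧸ q)) (by
    ext x
    exact x.2)

lemma factorSC_shortExact (P q : Ideal B) (hPq : P ≤ q) : (factorSC P q hPq).ShortExact where
  exact := (ShortComplex.ShortExact.moduleCat_exact_iff_function_exact _).2
    (LinearMap.exact_subtype_ker_map _)
  mono_f := (ModuleCat.mono_iff_injective _).2 Subtype.val_injective
  epi_g := (ModuleCat.epi_iff_surjective _).2 (by
    intro y
    obtain ⟨b, rfl⟩ := Submodule.mkQ_surjective q y
    exact ⟨Submodule.Quotient.mk b, rfl⟩)

lemma factorSC_kill (P q : Ideal B) (hPq : P ≤ q) (c : B) (hc : ∀ g ∈ q, c * g ∈ P) :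
    c • 𝟙 (factorSC P q hPq).X₁ = 0 := by
  apply ModuleCat.hom_ext
  apply LinearMap.ext
  rintro ⟨z, hz⟩
  apply Subtype.ext
  show c • z = 0
  obtain ⟨b, rfl⟩ := Submodule.mkQ_surjective P z
  have hb : b ∈ q := by
    have h1 : Submodule.mapQ P q LinearMap.id hPq (Submodule.Quotient.mk b) = 0 := hz
    rw [Submodule.mapQ_apply, LinearMap.id_apply] at h1
    exact (Submodule.Quotient.mk_eq_zero q).1 h1
  rw [Submodule.mkQ_apply, ← Submodule.Quotient.mk_smul, Submodule.Quotient.mk_eq_zero]
  exact hc b hb

end Kill

variable {A B : Type u} [CommRing A] [CommRing B] [Algebra A B] [Module.Flat A B]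

/-- the "unramified" condition. -/
def Unr (A B : Type u) [CommRing A] [CommRing B] [Algebra A B] : Prop :=
  ∀ q : Ideal B, q.IsPrime → ∃ s : B, s ∉ q ∧
    ∀ g ∈ q, s * g ∈ (q.comap (algebraMap A B)).map (algebraMap A B)

variable (B) in
/-- the injective dimension does not grow under flat unramified base change. -/
theorem PB_of_unr [IsNoetherianRing A] [IsNoetherianRing B] (hunr : Unr A B)
    (K : Dual.D A) (a n : ℤ) [K.IsGE a]
    (hPB : ∀ (M : ModuleCat.{u} A) [Module.Finite A M], BassD.PB K n M)
    (N : ModuleCat.{u} B) [Module.Finite B N] :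
    BassD.PB ((EE A B).obj K) n N := by
  refine BassD.PB_of_prime_step' (fun q hq hsurj => ?_) N
  haveI := hq
  let p : Ideal A := q.comap (algebraMap A B)
  let P : Ideal B := p.map (algebraMap A B)
  have hPq : P ≤ q := Ideal.map_comap_le
  haveI : Module.Finite A (ModuleCat.of A (A ⧸ p)) := inferInstanceAs (Module.Finite A (A ⧸ p))
  have hBP : BassD.PB ((EE A B).obj K) n (ModuleCat.of B (B ⧸ P)) :=
    PB_EE_extend B K a n (ModuleCat.of A (A ⧸ p)) (hPB _) _ (quotMapIso B p)
  obtain ⟨s, hsq, hs⟩ := hunr q hq
  intro i hi φ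
  exact BassD.eq_zero_of_kill (factorSC P q hPq) (factorSC_shortExact P q hPq) s
    (factorSC_kill P q hPq s hs) hBP i hi (fun φ => hsurj s hsq i hi φ) φ

variable (B) in
/-- **flat unramified base change of dualizing complexes**. -/
theorem isDualizing_EE_of_unr [IsNoetherianRing A] [IsNoetherianRing B] (hunr : Unr A B)
    (ω : Dual.D A) (hω : Dual.IsDualizing A ω) :
    Dual.IsDualizing B ((EE A B).obj ω) := by
  obtain ⟨a, b, hab, hGE, hLE, hv⟩ := exists_bounds ω hω
  haveI := hGE
  haveI := hLE
  haveI := isGE_EE B ω a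
  have hPB_A : ∀ (M : ModuleCat.{u} A) [Module.Finite A M], BassD.PB ω b M := by
    intro M _ i hi φ
    haveI := hv M i (Or.inr hi)
    exact Subsingleton.elim _ _
  have hPB : ∀ (N : ModuleCat.{u} B) [Module.Finite B N],
      BassD.PB ((EE A B).obj ω) b N := fun N _ => PB_of_unr B hunr ω a b hPB_A N
  refine isDualizing_EE_of_hinj B ω hω ⟨a, max a b, fun N _ _ i hi => ?_⟩
  exact hinj_of_PB ((EE A B).obj ω) a b hPB N i hi

end Groth.Agent.Lib.helper23.FBC
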