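import Mathlib
import Groth.Prelude.Def_Wider
import Groth.Prelude.Def_DDual2
import Groth.Agent.Lib.Helper23.Unram
import Groth.Agent.Lib.Helper23.MvPoly
import Groth.Agent.Lib.Helper23.FBC14

/-!
# Base change of dualizing complexes along étale and smooth maps (helper23)
-/

set_option autoImplicit false
universe u
open CategoryTheory CategoryTheory.Limits DerivedCategory Pretriangulated TensorProduct

attribute [local instance] HasDerivedCategory.standard

namespace Groth.Agent.Lib.helper23.FBC

attribute [local instance 50] homModuleA
attribute [local instance] FlatBC.preservesFiniteLimits_extendScalars_algebraMap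

section Unr

variable (A B : Type u) [CommRing A] [CommRing B] [Algebra A B]

/-- an unramified (essentially finite type) algebra satisfies `Unr`. -/
theorem unr_of_formallyUnramified [Algebra.FormallyUnramified A B] [Algebra.EssFiniteType A B]
    [IsNoetherianRing B] : Unr A B := by
  classical
  intro q hq
  haveI := hq
  let p : Ideal A := q.under A
  haveI : p.IsPrime := Ideal.IsPrime.under A q
  haveI : q.LiesOver p := ⟨rfl⟩
  letI := Localization.AtPrime.algebraOfLiesOver p q
  haveI : Algebra.IsUnramifiedAt A q :=
    Algebra.FormallyUnramified.comp A B (Localization.AtPrime q)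
  have hmap : p.map (algebraMap A (Localization.AtPrime q)) =
      IsLocalRing.maximalIdeal (Localization.AtPrime q) :=
    ((Algebra.isUnramifiedAt_iff_map_eq A p q).1 inferInstance).2
  have hmap' : (p.map (algebraMap A B)).map (algebraMap B (Localization.AtPrime q)) =
      IsLocalRing.maximalIdeal (Localization.AtPrime q) := by
    rw [Ideal.map_map, ← IsScalarTower.algebraMap_eq]
    exact hmap
  -- each element of `q` is multiplied into `pB` by some `s ∉ q`
  have h1 : ∀ g ∈ q, ∃ s : B, s ∉ q ∧ s * g ∈ p.map (algebraMap A B) := by
    intro g hg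
    have h2 : algebraMap B (Localization.AtPrime q) g ∈
        (p.map (algebraMap A B)).map (algebraMap B (Localization.AtPrime q)) := by
      rw [hmap']
      exact (IsLocalization.AtPrime.to_map_mem_maximal_iff (Localization.AtPrime q) q g).2 hg
    obtain ⟨m, hm, hmg⟩ :=
      (IsLocalization.algebraMap_mem_map_algebraMap_iff q.primeCompl
        (Localization.AtPrime q) _ g).1 h2
    exact ⟨m, hm, hmg⟩
  -- use finite generation of `q`
  obtain ⟨T, hT⟩ : q.FG := IsNoetherian.noetherian q
  choose! σ hσ1 hσ2 using h1
  refine ⟨∏ t ∈ T, σ t, ?_, ?_⟩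
  · intro hmem
    obtain ⟨t, htT, ht⟩ := (Ideal.IsPrime.prod_mem_iff).1 hmem
    have htq : t ∈ q := by
      rw [← hT]
      exact Ideal.subset_span htT
    exact hσ1 t htq ht
  · intro g hg
    rw [← hT] at hg
    refine Submodule.span_induction (p := fun g _ => (∏ t ∈ T, σ t) * g ∈ p.map (algebraMap A B))
      ?_ ?_ ?_ ?_ hg
    · intro t htT
      have htq : t ∈ q := by
        rw [← hT]
        exact Ideal.subset_span htT
      rw [← Finset.mul_prod_erase T σ htT, mul_assoc, mul_comm _ t, ← mul_assoc]
      exact Ideal.mul_mem_right _ _ (hσ2 t htq)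
    · rw [mul_zero]
      exact Ideal.zero_mem _
    · intro x y _ _ hx hy
      rw [mul_add]
      exact Ideal.add_mem _ hx hy
    · intro r x _ hx
      rw [smul_eq_mul, mul_left_comm]
      exact Ideal.mul_mem_left _ _ hx

/-- **étale base change of dualizing complexes**. -/
theorem isDualizing_EE_of_etale [Algebra.Etale A B] [IsNoetherianRing A] [IsNoetherianRing B]
    (ω : Dual.D A) (hω : Dual.IsDualizing A ω) :
    Dual.IsDualizing B ((EE A B).obj ω) := by
  haveI : Algebra.FormallyUnramified A B := inferInstance
  exact isDualizing_EE_of_unr B (unr_of_formallyUnramified A B) ω hω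

end Unr

section Smooth

/-- étale over a polynomial ring. -/
theorem isDualizing_EE_of_etale_over_mvPolynomial (A C : Type u) [CommRing A] [CommRing C]
    [Algebra A C] [IsNoetherianRing A] [Module.Flat A C] (m : ℕ)
    (g : MvPolynomial (Fin m) A →+* C)
    (hg1 : g.comp MvPolynomial.C = algebraMap A C) (hg2 : g.Etale)
    (ω : Dual.D A) (hω : Dual.IsDualizing A ω) :
    Dual.IsDualizing C ((EE A C).obj ω) := by
  letI : Algebra (MvPolynomial (Fin m) A) C := g.toAlgebra
  haveI : IsScalarTower A (MvPolynomial (Fin m) A) C :=
    IsScalarTower.of_algebraMap_eq (fun a => by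
      rw [← hg1]
      rfl)
  haveI : Algebra.Etale (MvPolynomial (Fin m) A) C := hg2
  haveI : IsNoetherianRing C :=
    Algebra.FiniteType.isNoetherianRing (MvPolynomial (Fin m) A) C
  exact isDualizing_EE_trans A (MvPolynomial (Fin m) A) C ω
    (isDualizing_EE_of_etale (MvPolynomial (Fin m) A) C _
      (isDualizing_EE_mvPolynomial A ω hω m))

instance flat_away {B : Type u} [CommRing B] (t : B) : Module.Flat B (Localization.Away t) :=
  IsLocalization.flat _ (Submonoid.powers t)

/-- `E`-version of S1787. -/
theorem isDualizing_of_away_cover_EE (B : Type u) [CommRing B] [IsNoetherianRing B] (n : ℕ)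
    (f : Fin n → B) (hf : Ideal.span (Set.range f) = ⊤) (K : Dual.D B)
    (h : ∀ i : Fin n, Dual.IsDualizing (Localization.Away (f i))
        ((EE B (Localization.Away (f i))).obj K)) :
    Dual.IsDualizing B K := by
  haveI : ∀ l, Module.Flat B (BfAway B f l) := fun l =>
    IsLocalization.flat (Localization.Away (f l)) (Submonoid.powers (f l))
  refine isDualizing_of_finite_family (BfAway B f) (detects_away B f hf) (detects_away B f hf)
    (fun N _ _ hN => ?_) K h
  refine ExtSc.finite_of_localization_span N (Set.range f) hf (fun g => ?_)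
  obtain ⟨_, i, rfl⟩ := g
  exact hN i

/-- **smooth base change of dualizing complexes**. -/
theorem isDualizing_EE_of_smooth (A B : Type u) [CommRing A] [CommRing B] [Algebra A B]
    [Algebra.Smooth A B] [IsNoetherianRing A] (ω : Dual.D A) (hω : Dual.IsDualizing A ω) :
    Dual.IsDualizing B ((EE A B).obj ω) := by
  haveI : IsNoetherianRing B := Algebra.FiniteType.isNoetherianRing A B
  have hloc : RingHom.Locally RingHom.IsStandardSmooth (algebraMap A B) :=
    (RingHom.smooth_algebraMap.2 inferInstance).locally_isStandardSmooth
  obtain ⟨s, hs, hst⟩ := (RingHom.locally_iff_finite _ _).1 hloc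
  let f : Fin s.card → B := fun i => (s.equivFin.symm i).1
  have hrange : Set.range f = (s : Set B) := by
    ext x
    constructor
    · rintro ⟨i, rfl⟩
      exact (s.equivFin.symm i).2
    · intro hx
      exact ⟨s.equivFin ⟨x, hx⟩, by simp [f]⟩
  refine isDualizing_of_away_cover_EE B s.card f (by rw [hrange]; exact hs) _ (fun i => ?_)
  have hmem : f i ∈ s := (s.equivFin.symm i).2
  obtain ⟨m, g, hg1, hg2⟩ := (hst (f i) hmem).exists_etale_mvPolynomial
  haveI : Module.Flat A (Localization.Away (f i)) :=
    Module.Flat.trans A B (Localization.Away (f i))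
  have h1 : Dual.IsDualizing (Localization.Away (f i))
      ((EE A (Localization.Away (f i))).obj ω) :=
    isDualizing_EE_of_etale_over_mvPolynomial A (Localization.Away (f i)) m g
      (by rw [hg1, ← IsScalarTower.algebraMap_eq]) hg2 ω hω
  exact isDualizing_of_iso ((EEcompIso A B (Localization.Away (f i))).app ω) h1

end Smooth

end Groth.Agent.Lib.helper23.FBC
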