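import Mathlib
import Groth.Agent.Lib.Helper13.DCT6
import Groth.Agent.Lib.Helper23.DNak
import Groth.Agent.Lib.Helper23.LTenKFlat
import Groth.Agent.Lib.Helper23.PosVan

/-!
# Derived completion kills K-flat complexes which are acyclic modulo `I` (helper23)

`A` Noetherian, `I = (fs)`.  If `W` is a K-flat complex with bounded above cohomology such that
`W ⊗ A/I` (termwise) is acyclic, then the derived completion of `Q W` vanishes
(`isZero_derivedCompletion_of_kflat`).
-/

set_option autoImplicit false
universe u
open CategoryTheory CategoryTheory.Limits MonoidalCategory DerivedCategory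

attribute [local instance] HasDerivedCategory.standard

namespace Groth.Agent.Lib.helper23.TCmp

open Groth.Agent.Lib.helper13.KFlat Groth.Agent.Lib.helper13.DCT Groth.Agent.Lib.helper13.DComp

variable {A : Type u} [CommRing A] [IsNoetherianRing A]

/-- derived completion kills K-flat complexes which are acyclic modulo `I`. -/
theorem isZero_derivedCompletion_of_kflat (fs : List A) (I : Ideal A)
    (hI : Ideal.span {x : A | x ∈ fs} = I) [DRing.HasDerivedCompletion I]
    (W : DRing.Cx A) (hW : IsKFlatR W) (b : ℤ)
    (hb : ∀ j : ℤ, b < j → IsZero ((DerivedCategory.homologyFunctor (ModuleCat.{u} A) j).obj (Q.obj W)))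
    (hq : (((tensorRight (ModuleCat.of A (A ⧸ I))).mapHomologicalComplex
      (ComplexShape.up ℤ)).obj W).Acyclic) :
    IsZero ((DRing.derivedCompletion I).obj (Q.obj W)).obj := by
  haveI : DRing.HasLTensor A (ModuleCat.of A (A ⧸ I)) :=
    Groth.Agent.Lib.helper23.PosVan.hasLTensor _
  obtain ⟨F, c, aug, hFc, hFf, hqi⟩ := exists_finite_free_resolution (A := A) (A ⧸ I)
  haveI := hqi
  obtain ⟨h1, h2⟩ := LTensor_derivedCompletion fs I hI (ModuleCat.of A (A ⧸ I)) aug c hFc hFf
    (Q.obj W) b hb
  -- the derived tensor product of `Q W` with `A/I` vanishes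
  obtain ⟨e⟩ := Groth.Agent.Lib.helper23.LTenK.nonempty_iso_LTensor_of_kflat
    (ModuleCat.of A (A ⧸ I)) W hW
  have hz : IsZero ((DRing.LTensor A (ModuleCat.of A (A ⧸ I))).obj (Q.obj W)) :=
    IsZero.of_iso (isZero_Q_obj_of_acyclic _ hq) e
  -- hence so does that of the completion
  have hz2 : IsZero ((DRing.LTensor A (ModuleCat.of A (A ⧸ I))).obj
      ((DRing.derivedCompletion I).obj (Q.obj W)).obj) := by
    rw [IsZero.iff_id_eq_zero]
    apply (h2 _ h1).injective
    exact hz.eq_of_src _ _
  -- Nakayama
  apply Groth.Agent.Lib.helper23.DNak.isZero_of_homology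
  intro n
  exact Groth.Agent.Lib.helper23.DNak.isZero_homology_of_LTensor_quotient I
    (IsNoetherian.noetherian I) _ ((DRing.derivedCompletion I).obj (Q.obj W)).property (n - 1)
    (fun i _ => Functor.map_isZero _ hz2) n (by omega)

end Groth.Agent.Lib.helper23.TCmp
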