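import Mathlib
import Groth.Agent.Lib.Helper13.FrobRG1
import Groth.Agent.Lib.Helper13.GM2
import Groth.Agent.Lib.Helper23.TensSES
import Groth.Agent.Lib.Helper23.CechD1

/-!
# `RΓ_J (P[0]) ≅ Q (P ⊗ Č(gs))`, naturally in the module `P` (helper23)

`A` Noetherian, `J = (gs)`.  `cechT gs P := P ⊗ Č(gs)` (termwise tensor product with the extended
Čech complex of the ring).  `κ J gs hJ P : RΓ_J (Q (P[0])) ≅ Q (cechT gs P)`, natural in `P`
(`κ_naturality`).
-/

set_option autoImplicit false
universe u
open CategoryTheory CategoryTheory.Limits MonoidalCategory DerivedCategory Pretriangulated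

attribute [local instance] HasDerivedCategory.standard

namespace Groth.Agent.Lib.helper23.TCmp

open Groth.Agent.Lib.helper13.DComp Groth.Agent.Lib.helper13.RGam Groth.Agent.Lib.helper13.GM
  Groth.Agent.Lib.helper13.FrobRG Groth.Agent.Lib.helper23.TensSES

variable {A : Type u} [CommRing A]

/-- `P ⊗ Č(gs)` -/
noncomputable abbrev cechT (gs : List A) (P : ModuleCat.{u} A) : DRing.Cx A :=
  (tensF (Cech gs)).obj P

/-- the single complex -/
noncomputable abbrev S0' (P : ModuleCat.{u} A) : DRing.Cx A :=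
  (HomologicalComplex.single (ModuleCat.{u} A) (ComplexShape.up ℤ) 0).obj P

section Tors

lemma bijective_smul_away (g : A) :
    Function.Bijective
      (fun x : (ModuleCat.of A (Localization (Submonoid.powers g)) : ModuleCat.{u} A) => g • x) := by
  have h := Groth.Agent.Lib.helper23.CechD.bijective_smul_locFunctor g (ModuleCat.of A A)
  let e : (DerCA.locFunctor (Submonoid.powers g)).obj (ModuleCat.of A A) ≅
      (tensorLeft (ModuleCat.of A (Localization (Submonoid.powers g)))).obj (ModuleCat.of A A) :=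
    (locTensorIso (Submonoid.powers g)).app (ModuleCat.of A A)
  let e' := e ≪≫ ρ_ (ModuleCat.of A (Localization (Submonoid.powers g)))
  have h1 : (fun x : (ModuleCat.of A (Localization (Submonoid.powers g)) : ModuleCat.{u} A) =>
      g • x) = e'.toLinearEquiv ∘
        (fun x : (DerCA.locFunctor (Submonoid.powers g)).obj (ModuleCat.of A A) => g • x) ∘
          e'.toLinearEquiv.symm := by
    funext x
    simp only [Function.comp_apply]
    rw [map_smul, LinearEquiv.apply_symm_apply]
  rw [h1]
  exact (e'.toLinearEquiv.bijective.comp h).comp e'.toLinearEquiv.symm.bijective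

/-- the cohomology of `P ⊗ Č(gs)` is `(gs)`-power torsion -/
theorem torsD_cechT (gs : List A) (P : ModuleCat.{u} A) :
    TorsD (Ideal.span {x : A | x ∈ gs}) (Q.obj (cechT gs P)) := by
  refine torsD_of_torsH gs _ (fun g hg => ?_)
  apply torsH_of_acyclic_locCx
  have hb := bijective_smul_tensor g (ModuleCat.of A (Localization (Submonoid.powers g))) P
    (bijective_smul_away g)
  have h := acyclic_tensorLeft_extCech gs
    (ModuleCat.of A (Localization (Submonoid.powers g)) ⊗ P) ⟨g, hg, hb⟩
  let i : tensorLeft P ⋙ DerCA.locFunctor (Submonoid.powers g) ≅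
      tensorLeft (ModuleCat.of A (Localization (Submonoid.powers g)) ⊗ P) :=
    Functor.isoWhiskerLeft (tensorLeft P) (locTensorIso (Submonoid.powers g)) ≪≫
      (tensorLeftTensor (ModuleCat.of A (Localization (Submonoid.powers g))) P).symm
  exact Groth.Agent.Lib.helper2.BifunctorExact.acyclic_of_iso
    ((NatIso.mapHomologicalComplex i (ComplexShape.up ℤ)).app (Cech gs)).symm h

end Tors

section Aug

variable [IsNoetherianRing A] (J : Ideal A) [DRing.HasRgammaI J]

lemma bijective_smul_tensorLeft_locFunctor (P N : ModuleCat.{u} A) (f : A) :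
    Function.Bijective (fun x : (tensorLeft P).obj
      ((DerCA.locFunctor (Submonoid.powers f)).obj N) => f • x) := by
  have h := Groth.Agent.Lib.helper23.CechD.bijective_smul_locFunctor f N
  let e : (DerCA.locFunctor (Submonoid.powers f)).obj N ≃ₗ[A]
      (DerCA.locFunctor (Submonoid.powers f)).obj N :=
    LinearEquiv.ofBijective (f • (LinearMap.id : _ →ₗ[A] _)) h
  have h2 : (fun x : (tensorLeft P).obj ((DerCA.locFunctor (Submonoid.powers f)).obj N) => f • x) =
      (LinearEquiv.lTensor P e) := by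
    funext x
    induction x using TensorProduct.induction_on with
    | zero => simp
    | tmul q n =>
      show f • (q ⊗ₜ[A] n) = q ⊗ₜ[A] (f • n)
      rw [TensorProduct.tmul_smul]
    | add x y hx hy =>
      rw [smul_add, hx, hy, map_add]
  rw [h2]
  exact (LinearEquiv.lTensor P e).bijective

/-- `RΓ_J` inverts `P ⊗ Č(gs) ⟶ P ⊗ A[0]` -/
theorem isIso_RgammaI_map_cechT_aug (gs : List A) (hgs : ∀ g ∈ gs, g ∈ J) (P : ModuleCat.{u} A) :
    IsIso ((DRing.RgammaI J).map (Q.map
      (((tensorLeft P).mapHomologicalComplex (ComplexShape.up ℤ)).map (aug gs)))) :=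
  isIso_RgammaI_map_Φ_aug J (tensorLeft P)
    (fun f hf => ⟨f, hf, fun N => bijective_smul_tensorLeft_locFunctor P N f⟩) gs hgs

end Aug

section Beta

/-- `P ⊗ A[0] ≅ P[0]` -/
noncomputable def β (P : ModuleCat.{u} A) :
    ((tensorLeft P).mapHomologicalComplex (ComplexShape.up ℤ)).obj (Cech ([] : List A)) ≅ S0' P :=
  (HomologicalComplex.singleMapHomologicalComplex (tensorLeft P) (ComplexShape.up ℤ) 0).app
      (ModuleCat.of A A) ≪≫
    (HomologicalComplex.single (ModuleCat.{u} A) (ComplexShape.up ℤ) 0).mapIso (ρ_ P)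

lemma β_naturality {P P' : ModuleCat.{u} A} (f : P ⟶ P') :
    (tensF (Cech ([] : List A))).map f ≫ (β P').hom =
      (β P).hom ≫ (HomologicalComplex.single (ModuleCat.{u} A) (ComplexShape.up ℤ) 0).map f := by
  apply HomologicalComplex.to_single_hom_ext (j := 0)
  simp only [β, Iso.trans_hom, Iso.app_hom, Functor.mapIso_hom, HomologicalComplex.comp_f,
    tensF_map_f, HomologicalComplex.singleMapHomologicalComplex_hom_app_self,
    HomologicalComplex.single_map_f_self, Category.assoc]
  simp only [Category.assoc, Iso.inv_hom_id_assoc, curriedTensor_obj_map]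
  have key : f ▷ (Cech ([] : List A)).X 0 ≫ P' ◁ (HomologicalComplex.singleObjXSelf
      (ComplexShape.up ℤ) 0 (ModuleCat.of A A)).hom ≫ (ρ_ P').hom =
      P ◁ (HomologicalComplex.singleObjXSelf (ComplexShape.up ℤ) 0 (ModuleCat.of A A)).hom ≫
        (ρ_ P).hom ≫ f := by
    rw [← whisker_exchange_assoc]
    congr 1
    exact rightUnitor_naturality f
  have h2 := congrArg (fun t => t ≫ (HomologicalComplex.singleObjXSelf
    (ComplexShape.up ℤ) 0 P').inv) key
  simp only [Category.assoc] at h2
  erw [Category.assoc, Category.assoc, Iso.inv_hom_id_assoc, Iso.inv_hom_id_assoc]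
  exact h2

end Beta

section Kappa

/-- the augmentation `P ⊗ Č(gs) ⟶ P[0]` -/
noncomputable def augT (gs : List A) (P : ModuleCat.{u} A) : cechT gs P ⟶ S0' P :=
  ((tensorLeft P).mapHomologicalComplex (ComplexShape.up ℤ)).map (aug gs) ≫ (β P).hom

lemma tensF_map_comm {C C' : DRing.Cx A} (g : C ⟶ C') {P P' : ModuleCat.{u} A} (f : P ⟶ P') :
    (tensF C).map f ≫ ((tensorLeft P').mapHomologicalComplex (ComplexShape.up ℤ)).map g =
      ((tensorLeft P).mapHomologicalComplex (ComplexShape.up ℤ)).map g ≫ (tensF C').map f := by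
  apply HomologicalComplex.hom_ext
  intro i
  exact (whisker_exchange f (g.f i)).symm

lemma augT_naturality (gs : List A) {P P' : ModuleCat.{u} A} (f : P ⟶ P') :
    (tensF (Cech gs)).map f ≫ augT gs P' =
      augT gs P ≫ (HomologicalComplex.single (ModuleCat.{u} A) (ComplexShape.up ℤ) 0).map f := by
  dsimp only [augT]
  have h1 := tensF_map_comm (aug gs) f
  have h2 := β_naturality f
  calc (tensF (Cech gs)).map f ≫
        (((tensorLeft P').mapHomologicalComplex (ComplexShape.up ℤ)).map (aug gs) ≫ (β P').hom)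
      = ((tensF (Cech gs)).map f ≫
          ((tensorLeft P').mapHomologicalComplex (ComplexShape.up ℤ)).map (aug gs)) ≫ (β P').hom :=
        (Category.assoc _ _ _).symm
    _ = (((tensorLeft P).mapHomologicalComplex (ComplexShape.up ℤ)).map (aug gs) ≫
          (tensF (Cech ([] : List A))).map f) ≫ (β P').hom := congrArg (· ≫ (β P').hom) h1
    _ = ((tensorLeft P).mapHomologicalComplex (ComplexShape.up ℤ)).map (aug gs) ≫
          ((tensF (Cech ([] : List A))).map f ≫ (β P').hom) := Category.assoc _ _ _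
    _ = ((tensorLeft P).mapHomologicalComplex (ComplexShape.up ℤ)).map (aug gs) ≫
          ((β P).hom ≫ (HomologicalComplex.single (ModuleCat.{u} A)
            (ComplexShape.up ℤ) 0).map f) :=
        congrArg (((tensorLeft P).mapHomologicalComplex (ComplexShape.up ℤ)).map (aug gs) ≫ ·) h2
    _ = _ := (Category.assoc _ _ _).symm

variable [IsNoetherianRing A] (J : Ideal A) [DRing.HasRgammaI J] (gs : List A)
  (hJ : Ideal.span {x : A | x ∈ gs} = J)

include hJ in
lemma isIso_RgammaI_map_augT (P : ModuleCat.{u} A) :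
    IsIso ((DRing.RgammaI J).map (Q.map (augT gs P))) := by
  have hgs : ∀ g ∈ gs, g ∈ J := fun g hg => hJ ▸ Ideal.subset_span hg
  have i1 := isIso_RgammaI_map_cechT_aug J gs hgs P
  dsimp only [augT]
  rw [Functor.map_comp, Functor.map_comp]
  have i2 : IsIso ((DRing.RgammaI J).map (Q.map (β P).hom)) := inferInstance
  exact @IsIso.comp_isIso _ _ _ _ _ _ _ i1 i2

include hJ in
/-- **`RΓ_J (P[0]) ≅ Q (P ⊗ Č(gs))`, naturally in `P`** -/
theorem exists_RgammaI_iso_cechT :
    ∃ κ : ∀ P : ModuleCat.{u} A, (DRing.RgammaI J).obj (Q.obj (S0' P)) ≅ Q.obj (cechT gs P),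
      ∀ (P P' : ModuleCat.{u} A) (f : P ⟶ P'),
        (DRing.RgammaI J).map (Q.map
          ((HomologicalComplex.single (ModuleCat.{u} A) (ComplexShape.up ℤ) 0).map f)) ≫
            (κ P').hom = (κ P).hom ≫ Q.map ((tensF (Cech gs)).map f) := by
  have h1 : ∀ P, IsIso ((DRing.RgammaI J).map (Q.map (augT gs P))) :=
    fun P => isIso_RgammaI_map_augT J gs hJ P
  have h2 : ∀ P, IsIso ((DRing.RgammaIε J).app (Q.obj (cechT gs P))) := fun P =>
    isIso_RgammaIε_app J _ (hJ ▸ torsD_cechT gs P)
  refine ⟨fun P => (@asIso _ _ _ _ _ (h1 P)).symm ≪≫ @asIso _ _ _ _ _ (h2 P), fun P P' f => ?_⟩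
  haveI := h1 P
  haveI := h1 P'
  have hε := (DRing.RgammaIε J).naturality (Q.map ((tensF (Cech gs)).map f))
  simp only [Functor.id_map, Functor.id_obj] at hε
  show _ ≫ inv ((DRing.RgammaI J).map (Q.map (augT gs P'))) ≫
      (DRing.RgammaIε J).app (Q.obj ((tensF (Cech gs)).obj P')) =
    (inv ((DRing.RgammaI J).map (Q.map (augT gs P))) ≫
      (DRing.RgammaIε J).app (Q.obj ((tensF (Cech gs)).obj P))) ≫ Q.map ((tensF (Cech gs)).map f)
  rw [Category.assoc, ← hε, ← Category.assoc, ← Category.assoc]
  congr 1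
  rw [IsIso.comp_inv_eq, Category.assoc, IsIso.eq_inv_comp, ← Functor.map_comp, ← Functor.map_comp,
    ← Functor.map_comp, ← Functor.map_comp, augT_naturality]

end Kappa

end Groth.Agent.Lib.helper23.TCmp
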