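import Mathlib
import Groth.Agent.S0551
import Groth.Agent.S7050
import Groth.Agent.S7051
import Groth.Agent.Lib.Helper23.DC7
import Groth.Agent.Lib.Helper23.DC9

/-!
# The `I`-adic completion functor on modules and derived completeness (helper23)

* `cplF I`, `cplη I`: `I`-adic completion as an additive endofunctor of `A`-modules, with the
  canonical natural transformation from the identity.
* `flat_adicCompletion_of_flat`: the completion of a flat module over a Noetherian ring is flat
  (from S0551).
* `bijective_rTensor_of`: `P ⊗ A/I ⟶ P^ ⊗ A/I` is bijective (`I` finitely generated).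
* `isDerivedComplete_Q_of_terms`: a complex whose terms are derived complete modules is derived
  complete.
-/

set_option autoImplicit false
universe u
open CategoryTheory CategoryTheory.Limits MonoidalCategory DerivedCategory TensorProduct

attribute [local instance] HasDerivedCategory.standard

namespace Groth.Agent.Lib.helper23.TCmp

variable {A : Type u} [CommRing A] (I : Ideal A)

/-- `I`-adic completion as an endofunctor of `A`-modules -/
noncomputable def cplF : ModuleCat.{u} A ⥤ ModuleCat.{u} A where
  obj P := ModuleCat.of A (AdicCompletion I P)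
  map f := ModuleCat.ofHom ((AdicCompletion.map I f.hom).restrictScalars A)
  map_id P := by
    ext x
    simp
  map_comp f g := by
    ext x
    simp [AdicCompletion.map_comp_apply]

lemma cplF_map_apply {P P' : ModuleCat.{u} A} (f : P ⟶ P') (x : AdicCompletion I P) :
    ((cplF I).map f).hom x = AdicCompletion.map I f.hom x := rfl

instance : (cplF I).Additive where
  map_add {P P' f g} := by
    ext x
    induction x using AdicCompletion.induction_on with
    | _ a =>
      apply AdicCompletion.ext
      intro n
      show (AdicCompletion.map I (f.hom + g.hom) (AdicCompletion.mk I P a)).val n =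
        (AdicCompletion.map I f.hom (AdicCompletion.mk I P a) +
          AdicCompletion.map I g.hom (AdicCompletion.mk I P a)).val n
      simp

/-- the canonical map to the completion, as a natural transformation -/
noncomputable def cplη : 𝟭 (ModuleCat.{u} A) ⟶ cplF I where
  app P := ModuleCat.ofHom (AdicCompletion.of I P)
  naturality P P' f := by
    ext x
    exact (AdicCompletion.map_of I f.hom x).symm

lemma cplη_app_apply (P : ModuleCat.{u} A) (x : P) :
    ((cplη I).app P).hom x = AdicCompletion.of I P x := rfl

/-- the completion of a flat module over a Noetherian ring is flat -/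
theorem flat_adicCompletion_of_flat [IsNoetherianRing A] (N : Type u) [AddCommGroup N]
    [Module A N] [Module.Flat A N] : Module.Flat A (AdicCompletion I N) := by
  haveI : Module.Flat (A ⧸ I) (N ⧸ (I • ⊤ : Submodule A N)) :=
    Module.Flat.of_linearEquiv
      ((TensorProduct.quotTensorEquivQuotSMul N I).extendScalarsOfSurjective
        Ideal.Quotient.mk_surjective).symm
  have hT := (Module.Flat.iff_lift_lsmul_comp_subtype_injective).1 ‹Module.Flat A N›
    (IsNoetherian.noetherian I)
  haveI := Groth.Agent.S0551.result A I (IsNoetherian.noetherian I) N hT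
  exact Module.Flat.trans A (AdicCompletion I A) (AdicCompletion I N)

section ModI

variable (P : Type u) [AddCommGroup P] [Module A P]

lemma mem_smul_top_iff_val (hI : I.FG) (y : AdicCompletion I P) :
    y ∈ (I • ⊤ : Submodule A (AdicCompletion I P)) ↔ y.val 1 = 0 := by
  have hp : (I • ⊤ : Submodule A (AdicCompletion I P)) = I ^ 1 • ⊤ := by rw [pow_one]
  rw [hp, AdicCompletion.pow_smul_top_eq_ker_eval hI, LinearMap.mem_ker]
  rfl

lemma of_mem_smul_top_iff (hI : I.FG) (x : P) :
    AdicCompletion.of I P x ∈ (I • ⊤ : Submodule A (AdicCompletion I P)) ↔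
      x ∈ (I • ⊤ : Submodule A P) := by
  rw [mem_smul_top_iff_val I P hI]
  rw [AdicCompletion.of_apply, Submodule.mkQ_apply, Submodule.Quotient.mk_eq_zero, pow_one]

lemma exists_of_sub_mem_smul_top (hI : I.FG) (y : AdicCompletion I P) :
    ∃ x : P, y - AdicCompletion.of I P x ∈ (I • ⊤ : Submodule A (AdicCompletion I P)) := by
  obtain ⟨x, hx⟩ := Submodule.mkQ_surjective _ (y.val 1)
  refine ⟨x, ?_⟩
  rw [mem_smul_top_iff_val I P hI, AdicCompletion.val_sub_apply, sub_eq_zero,
    AdicCompletion.of_apply]
  exact hx.symm

/-- `P ⊗ A/I ⟶ P^ ⊗ A/I` is bijective -/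
theorem bijective_rTensor_of (hI : I.FG) :
    Function.Bijective (LinearMap.rTensor (A ⧸ I) (AdicCompletion.of I P)) := by
  let e₁ := TensorProduct.tensorQuotEquivQuotSMul P I
  let e₂ := TensorProduct.tensorQuotEquivQuotSMul (AdicCompletion I P) I
  have hle : (I • ⊤ : Submodule A P) ≤
      (I • ⊤ : Submodule A (AdicCompletion I P)).comap (AdicCompletion.of I P) := by
    intro x hx
    exact (of_mem_smul_top_iff I P hI x).2 hx
  let q : (P ⧸ (I • ⊤ : Submodule A P)) →ₗ[A]
      (AdicCompletion I P ⧸ (I • ⊤ : Submodule A (AdicCompletion I P))) :=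
    Submodule.mapQ _ _ (AdicCompletion.of I P) hle
  have hcomm : e₂.toLinearMap ∘ₗ LinearMap.rTensor (A ⧸ I) (AdicCompletion.of I P) =
      q ∘ₗ e₁.toLinearMap := by
    apply TensorProduct.ext'
    intro x r
    obtain ⟨r, rfl⟩ := Ideal.Quotient.mk_surjective r
    simp [e₁, e₂, q, TensorProduct.tensorQuotEquivQuotSMul]
  have hq : Function.Bijective q := by
    constructor
    · rw [← LinearMap.ker_eq_bot, LinearMap.ker_eq_bot']
      intro z hz
      obtain ⟨x, rfl⟩ := Submodule.mkQ_surjective _ z
      rw [Submodule.mkQ_apply] at hz ⊢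
      rw [Submodule.mapQ_apply, Submodule.Quotient.mk_eq_zero] at hz
      rw [Submodule.Quotient.mk_eq_zero]
      exact (of_mem_smul_top_iff I P hI x).1 hz
    · intro z
      obtain ⟨y, rfl⟩ := Submodule.mkQ_surjective _ z
      obtain ⟨x, hx⟩ := exists_of_sub_mem_smul_top I P hI y
      refine ⟨Submodule.Quotient.mk x, ?_⟩
      rw [Submodule.mapQ_apply, Submodule.mkQ_apply]
      exact ((Submodule.Quotient.eq _).2 hx).symm
  have h2 : Function.Bijective (e₂.toLinearMap ∘ₗ
      LinearMap.rTensor (A ⧸ I) (AdicCompletion.of I P)) := by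
    rw [hcomm]
    exact hq.comp e₁.bijective
  have h3 : LinearMap.rTensor (A ⧸ I) (AdicCompletion.of I P) =
      e₂.symm.toLinearMap ∘ₗ (e₂.toLinearMap ∘ₗ
        LinearMap.rTensor (A ⧸ I) (AdicCompletion.of I P)) := by
    ext x
    simp
  rw [h3]
  exact e₂.symm.bijective.comp h2

end ModI

section Complete

/-- a complex whose terms are derived complete modules is derived complete -/
theorem isDerivedComplete_Q_of_terms (Y : DRing.Cx A)
    (h : ∀ i : ℤ, DRing.IsDerivedComplete I (Dual.inD A (Y.X i))) :
    DRing.IsDerivedComplete I (Q.obj Y) := by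
  rw [Groth.Agent.S7050.result]
  intro i
  -- the homology as a quotient of a kernel
  let S := Y.sc i
  have hker := (Groth.Agent.S7051.result I (S.X₂) (S.X₃) S.g.hom (h _) (h _)).1
  have hcok := (Groth.Agent.S7051.result I (S.X₁) (LinearMap.ker S.g.hom) S.moduleCatToCycles
    (h _) hker).2
  let e : ModuleCat.of A (Dual.HD A (Q.obj Y) i) ≅ S.moduleCatLeftHomologyData.H :=
    (DerivedCategory.homologyFunctorFactors (ModuleCat.{u} A) i).app Y ≪≫
      S.moduleCatHomologyIso
  exact Groth.Agent.Lib.helper23.DC.isDerivedComplete_inD_of_linearEquiv I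
    e.toLinearEquiv.symm hcok

end Complete

end Groth.Agent.Lib.helper23.TCmp
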