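import Mathlib
import Groth.Agent.Lib.Helper23.TCmp1
import Groth.Agent.Lib.Helper23.TCmp2
import Groth.Agent.Lib.Helper19.DCB2
import Groth.Agent.Lib.Helper13.RGam4

/-!
# Derived completion of a bounded above complex of flat modules is the termwise completion
(helper23)

`A` Noetherian, `I = (fs)`, `Y` a bounded above complex of flat `A`-modules, `Y^` its termwise
`I`-adic completion (`cplCx I Y`) with the canonical map `cplCxη I Y : Y ⟶ Y^`.  Then `Q (Y^)` is
derived complete and `Q (cplCxη I Y)` identifies it with the derived completion of `Q Y`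
(`exists_derivedCompletion_iso_cplCx`).
-/

set_option autoImplicit false
universe u
open CategoryTheory CategoryTheory.Limits MonoidalCategory DerivedCategory Pretriangulated

attribute [local instance] HasDerivedCategory.standard

namespace Groth.Agent.Lib.helper23.TCmp

open Groth.Agent.Lib.helper13.KFlat Groth.Agent.Lib.helper13.RKF Groth.Agent.Lib.helper13.DComp
  Groth.Agent.Lib.helper13.RGam Groth.Agent.Lib.helper19.DCB1 Groth.Agent.Lib.helper19.DCB2

variable {A : Type u} [CommRing A] (I : Ideal A)

/-- the termwise completion of a complex -/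
noncomputable abbrev cplCx (Y : DRing.Cx A) : DRing.Cx A :=
  ((cplF I).mapHomologicalComplex (ComplexShape.up ℤ)).obj Y

/-- the canonical map to the termwise completion -/
noncomputable def cplCxη (Y : DRing.Cx A) : Y ⟶ cplCx I Y where
  f i := (cplη I).app (Y.X i)
  comm' i j _ := ((cplη I).naturality (Y.d i j)).symm

lemma cplCxη_naturality {Y Y' : DRing.Cx A} (g : Y ⟶ Y') :
    g ≫ cplCxη I Y' = cplCxη I Y ≫ ((cplF I).mapHomologicalComplex (ComplexShape.up ℤ)).map g := by
  apply HomologicalComplex.hom_ext
  intro i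
  exact (cplη I).naturality (g.f i)

variable [IsNoetherianRing A]

lemma termwiseFlat_cplCx (Y : DRing.Cx A) (hfl : DRing.TermwiseFlat Y) :
    DRing.TermwiseFlat (cplCx I Y) := fun i => by
  haveI := hfl i
  exact flat_adicCompletion_of_flat I (Y.X i)

lemma vanishesAbove_cplCx (Y : DRing.Cx A) (b : ℤ) (hb : DRing.VanishesAbove Y b) :
    DRing.VanishesAbove (cplCx I Y) b := fun i hi =>
  (cplF I).map_isZero (hb i hi)

/-- the termwise completion is derived complete -/
lemma isDerivedComplete_cplCx (Y : DRing.Cx A) : DRing.IsDerivedComplete I (Q.obj (cplCx I Y)) := by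
  apply isDerivedComplete_Q_of_terms
  intro i
  haveI : IsAdicComplete I (AdicCompletion I (Y.X i)) :=
    AdicCompletion.isAdicComplete (IsNoetherian.noetherian I)
  exact Groth.Agent.Lib.helper23.DC.isDerivedComplete_inD_of_isAdicComplete I
    (AdicCompletion I (Y.X i))

/-- modulo `I`, the map to the termwise completion is an isomorphism of complexes -/
lemma isIso_tensorRight_map_cplCxη (Y : DRing.Cx A) :
    IsIso (((tensorRight (ModuleCat.of A (A ⧸ I))).mapHomologicalComplex
      (ComplexShape.up ℤ)).map (cplCxη I Y)) := by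
  haveI : ∀ n, IsIso ((((tensorRight (ModuleCat.of A (A ⧸ I))).mapHomologicalComplex
      (ComplexShape.up ℤ)).map (cplCxη I Y)).f n) := fun n => by
    rw [ConcreteCategory.isIso_iff_bijective]
    exact bijective_rTensor_of I (Y.X n) (IsNoetherian.noetherian I)
  exact HomologicalComplex.Hom.isIso_of_components _

variable (fs : List A) (hI : Ideal.span {x : A | x ∈ fs} = I) [DRing.HasDerivedCompletion I]

include hI in
/-- the derived completion of the cone of `Y ⟶ Y^` vanishes -/
lemma isZero_cmp_cone (Y : DRing.Cx A) (b : ℤ) (hb : DRing.VanishesAbove Y b)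
    (hfl : DRing.TermwiseFlat Y) :
    IsZero ((cmp I).obj (Q.obj (CochainComplex.mappingCone (cplCxη I Y)))) := by
  have hK : IsKFlatR (CochainComplex.mappingCone (cplCxη I Y)) :=
    isKFlatR_mappingCone _ (isKFlatR_of_bounded_above Y b hb hfl)
      (isKFlatR_of_bounded_above _ b (vanishesAbove_cplCx I Y b hb) (termwiseFlat_cplCx I Y hfl))
  have hT := DerivedCategory.mappingCone_triangle_distinguished (cplCxη I Y)
  have hzY : ∀ j : ℤ, b < j →
      IsZero ((DerivedCategory.homologyFunctor (ModuleCat.{u} A) j).obj (Q.obj Y)) := fun j hj =>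
    IsZero.of_iso ((HomologicalComplex.exactAt_iff_isZero_homology _ _).1
      (HomologicalComplex.ExactAt.of_isZero (hb j hj)))
      ((DerivedCategory.homologyFunctorFactors (ModuleCat.{u} A) j).app Y)
  have hzY' : ∀ j : ℤ, b < j →
      IsZero ((DerivedCategory.homologyFunctor (ModuleCat.{u} A) j).obj (Q.obj (cplCx I Y))) :=
    fun j hj => IsZero.of_iso ((HomologicalComplex.exactAt_iff_isZero_homology _ _).1
      (HomologicalComplex.ExactAt.of_isZero (vanishesAbove_cplCx I Y b hb j hj)))
      ((DerivedCategory.homologyFunctorFactors (ModuleCat.{u} A) j).app _)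
  refine isZero_derivedCompletion_of_kflat fs I hI _ hK b (fun j hj => ?_) ?_
  · have hex := DerivedCategory.HomologySequence.exact₃ _ hT j (j + 1) rfl
    exact hex.isZero_X₂ ((hzY' j hj).eq_of_src _ _) ((hzY (j + 1) (by omega)).eq_of_tgt _ _)
  · haveI := isIso_tensorRight_map_cplCxη I Y
    have h1 : (CochainComplex.mappingCone (((tensorRight (ModuleCat.of A (A ⧸ I))).mapHomologicalComplex
        (ComplexShape.up ℤ)).map (cplCxη I Y))).Acyclic :=
      (quasiIso_iff_acyclic_mappingCone _).1 inferInstance
    exact Groth.Agent.Lib.helper2.BifunctorExact.acyclic_of_iso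
      (CochainComplex.mappingCone.mapHomologicalComplexIso (cplCxη I Y)
        (tensorRight (ModuleCat.of A (A ⧸ I)))).symm h1

include hI in
/-- **the derived completion of a bounded above complex of flat modules is its termwise
completion** -/
theorem exists_derivedCompletion_iso_cplCx (Y : DRing.Cx A) (b : ℤ) (hb : DRing.VanishesAbove Y b)
    (hfl : DRing.TermwiseFlat Y) :
    ∃ e : (cmp I).obj (Q.obj Y) ≅ Q.obj (cplCx I Y),
      DRing.toDerivedCompletion I (Q.obj Y) ≫ e.hom = Q.map (cplCxη I Y) := by
  have hT := DerivedCategory.mappingCone_triangle_distinguished (cplCxη I Y)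
  obtain ⟨δ, hδ⟩ := exists_distinguished_cmp I _ hT
  have hz := isZero_cmp_cone I fs hI Y b hb hfl
  haveI h1 : IsIso ((cmp I).map (Q.map (cplCxη I Y))) :=
    (Triangle.isZero₃_iff_isIso₁ _ hδ).1 hz
  haveI h2 : IsIso (DRing.toDerivedCompletion I (Q.obj (cplCx I Y))) :=
    isIso_η_of_complete I _ (isDerivedComplete_cplCx I Y)
  refine ⟨asIso ((cmp I).map (Q.map (cplCxη I Y))) ≪≫
    (asIso (DRing.toDerivedCompletion I (Q.obj (cplCx I Y)))).symm, ?_⟩
  show DRing.toDerivedCompletion I (Q.obj Y) ≫ (cmp I).map (Q.map (cplCxη I Y)) ≫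
    inv (DRing.toDerivedCompletion I (Q.obj (cplCx I Y))) = _
  rw [← Category.assoc, Groth.Agent.Lib.helper19.DCB1.η_naturality, Category.assoc,
    IsIso.hom_inv_id, Category.comp_id]

end Groth.Agent.Lib.helper23.TCmp
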