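import Mathlib
import Groth.Agent.Lib.Helper23.TCmp3

/-!
# Derived completion of `Y ⊗ M` for `Y` a bounded above complex of flat modules and `M` finite
(helper23)

* `ν`, `ν_naturality`, `isIso_ν`: the counit of a left derived functor on complexes, naturally.
* `exists_derivedCompletion_iso_tensor_cplCx`: for `M` a finite module over a Noetherian ring and
  `Y` a bounded above complex of flat modules, the derived completion of `Q (Y ⊗ M)` is
  `Q (Y^ ⊗ M)` (`Y^` the termwise completion), compatibly with the canonical maps.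
-/

set_option autoImplicit false
universe u
open CategoryTheory CategoryTheory.Limits MonoidalCategory DerivedCategory Pretriangulated

attribute [local instance] HasDerivedCategory.standard

namespace Groth.Agent.Lib.helper23.TCmp

open Groth.Agent.Lib.helper13.KFlat Groth.Agent.Lib.helper13.RKF Groth.Agent.Lib.helper13.DComp
  Groth.Agent.Lib.helper13.DCT Groth.Agent.Lib.helper19.DCB1

section General

variable {A B : Type u} [CommRing A] [CommRing B]
  (G : ModuleCat.{u} A ⥤ ModuleCat.{u} B) [G.Additive] (LF : Dual.D A ⥤ Dual.D B)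
  (α : DerivedCategory.Qh ⋙ LF ⟶ G.mapHomotopyCategory (ComplexShape.up ℤ) ⋙ DerivedCategory.Qh)

/-- the counit of a left derived functor, on complexes -/
noncomputable def ν (X : DRing.Cx A) :
    LF.obj (Q.obj X) ⟶ Q.obj ((G.mapHomologicalComplex (ComplexShape.up ℤ)).obj X) :=
  LF.map ((DerivedCategory.quotientCompQhIso _).inv.app X) ≫
    α.app ((HomotopyCategory.quotient _ (ComplexShape.up ℤ)).obj X) ≫
    DerivedCategory.Qh.map ((G.mapHomotopyCategoryFactors (ComplexShape.up ℤ)).hom.app X) ≫
    (DerivedCategory.quotientCompQhIso _).hom.app _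

lemma ν_naturality {X X' : DRing.Cx A} (g : X ⟶ X') :
    LF.map (Q.map g) ≫ ν G LF α X' =
      ν G LF α X ≫ Q.map ((G.mapHomologicalComplex (ComplexShape.up ℤ)).map g) := by
  have h1 := (DerivedCategory.quotientCompQhIso (ModuleCat.{u} A)).inv.naturality g
  have h2 := α.naturality ((HomotopyCategory.quotient _ (ComplexShape.up ℤ)).map g)
  have h3 := (G.mapHomotopyCategoryFactors (ComplexShape.up ℤ)).hom.naturality g
  have h4 := (DerivedCategory.quotientCompQhIso (ModuleCat.{u} B)).hom.naturality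
    ((G.mapHomologicalComplex (ComplexShape.up ℤ)).map g)
  simp only [Functor.comp_map, Functor.comp_obj] at h1 h2 h3 h4
  dsimp only [ν]
  rw [← LF.map_comp_assoc, h1, LF.map_comp_assoc, reassoc_of% h2, ← Functor.map_comp_assoc, h3,
    Functor.map_comp_assoc, h4]
  simp only [Category.assoc]

lemma isIso_ν (X : DRing.Cx A)
    (h : IsIso (α.app ((HomotopyCategory.quotient _ (ComplexShape.up ℤ)).obj X))) :
    IsIso (ν G LF α X) := by
  dsimp only [ν]
  infer_instance

end General

variable {A : Type u} [CommRing A] [IsNoetherianRing A] (I : Ideal A)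

/-- `Z ↦ Z ⊗ M`, termwise -/
noncomputable abbrev tensR (M : ModuleCat.{u} A) : DRing.Cx A ⥤ DRing.Cx A :=
  (tensorRight M).mapHomologicalComplex (ComplexShape.up ℤ)

variable (fs : List A) (hI : Ideal.span {x : A | x ∈ fs} = I) [DRing.HasDerivedCompletion I]

include hI in
/-- **the derived completion of `Y ⊗ M`** for `Y` a bounded above complex of flat modules and `M`
finite is `Y^ ⊗ M`. -/
theorem exists_derivedCompletion_iso_tensor_cplCx (M : Type u) [AddCommGroup M] [Module A M]
    [Module.Finite A M] (Y : DRing.Cx A) (b : ℤ) (hb : DRing.VanishesAbove Y b)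
    (hfl : DRing.TermwiseFlat Y) :
    DRing.IsDerivedComplete I (Q.obj ((tensR (ModuleCat.of A M)).obj (cplCx I Y))) ∧
    ∃ e : (cmp I).obj (Q.obj ((tensR (ModuleCat.of A M)).obj Y)) ≅
        Q.obj ((tensR (ModuleCat.of A M)).obj (cplCx I Y)),
      DRing.toDerivedCompletion I (Q.obj ((tensR (ModuleCat.of A M)).obj Y)) ≫ e.hom =
        Q.map ((tensR (ModuleCat.of A M)).map (cplCxη I Y)) := by
  haveI : DRing.HasLTensor A (ModuleCat.of A M) :=
    Groth.Agent.Lib.helper23.PosVan.hasLTensor _
  obtain ⟨F, c, aug, hFc, hFf, hqi⟩ := exists_finite_free_resolution (A := A) M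
  haveI := hqi
  have hzY : ∀ j : ℤ, b < j →
      IsZero ((DerivedCategory.homologyFunctor (ModuleCat.{u} A) j).obj (Q.obj Y)) := fun j hj =>
    IsZero.of_iso ((HomologicalComplex.exactAt_iff_isZero_homology _ _).1
      (HomologicalComplex.ExactAt.of_isZero (hb j hj)))
      ((DerivedCategory.homologyFunctorFactors (ModuleCat.{u} A) j).app Y)
  obtain ⟨h1, h2⟩ := LTensor_derivedCompletion fs I hI (ModuleCat.of A M) aug c hFc hFf
    (Q.obj Y) b hzY
  obtain ⟨e₀, he₀⟩ := exists_derivedCompletion_iso_cplCx I fs hI Y b hb hfl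
  have hKY : IsKFlatR Y := isKFlatR_of_bounded_above Y b hb hfl
  have hKY' : IsKFlatR (cplCx I Y) :=
    isKFlatR_of_bounded_above _ b (vanishesAbove_cplCx I Y b hb) (termwiseFlat_cplCx I Y hfl)
  let α := (DRing.tensorKh A (ModuleCat.of A M)).totalLeftDerivedCounit DerivedCategory.Qh
      (HomotopyCategory.quasiIso (ModuleCat.{u} A) (ComplexShape.up ℤ))
  let L := DRing.LTensor A (ModuleCat.of A M)
  haveI i1 : IsIso (ν (tensorRight (ModuleCat.of A M)) L α Y) :=
    isIso_ν _ _ _ _ (Groth.Agent.Lib.helper23.LTenK.isIso_counit_LTensor _ Y hKY)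
  haveI i2 : IsIso (ν (tensorRight (ModuleCat.of A M)) L α (cplCx I Y)) :=
    isIso_ν _ _ _ _ (Groth.Agent.Lib.helper23.LTenK.isIso_counit_LTensor _ _ hKY')
  have hnat := ν_naturality (tensorRight (ModuleCat.of A M)) L α (cplCxη I Y)
  -- the target is derived complete
  let ζ : L.obj ((DRing.derivedCompletion I).obj (Q.obj Y)).obj ≅
      Q.obj ((tensR (ModuleCat.of A M)).obj (cplCx I Y)) :=
    L.mapIso e₀ ≪≫ asIso (ν (tensorRight (ModuleCat.of A M)) L α (cplCx I Y))
  have hC : DRing.IsDerivedComplete I (Q.obj ((tensR (ModuleCat.of A M)).obj (cplCx I Y))) :=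
    isDerivedComplete_of_iso I ζ h1
  refine ⟨hC, ?_⟩
  -- the universal property
  have hfac : Q.map ((tensR (ModuleCat.of A M)).map (cplCxη I Y)) =
      inv (ν (tensorRight (ModuleCat.of A M)) L α Y) ≫
        L.map (DRing.toDerivedCompletion I (Q.obj Y)) ≫ ζ.hom := by
    rw [IsIso.eq_inv_comp]
    show _ = L.map (DRing.toDerivedCompletion I (Q.obj Y)) ≫ L.map e₀.hom ≫ _
    rw [← L.map_comp_assoc, he₀]
    exact hnat.symm
  refine nonempty_derivedCompletion_iso I _ _ _ hC (fun E hE => ?_)
  have : (fun ψ : Q.obj ((tensR (ModuleCat.of A M)).obj (cplCx I Y)) ⟶ E =>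
        Q.map ((tensR (ModuleCat.of A M)).map (cplCxη I Y)) ≫ ψ) =
      (fun φ => inv (ν (tensorRight (ModuleCat.of A M)) L α Y) ≫ φ) ∘
        (fun φ : L.obj ((DRing.derivedCompletion I).obj (Q.obj Y)).obj ⟶ E =>
          L.map (DRing.toDerivedCompletion I (Q.obj Y)) ≫ φ) ∘ (fun ψ => ζ.hom ≫ ψ) := by
    funext ψ
    simp only [Function.comp_apply, hfac, Category.assoc]
  rw [this]
  exact ((bijective_precomp_of_isIso _ E).comp (h2 E hE)).comp (bijective_precomp_of_isIso ζ.hom E)

end Groth.Agent.Lib.helper23.TCmp
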