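import Mathlib
import Groth.Agent.Lib.Helper23.TCmp4
import Groth.Agent.Lib.Helper20.TensorAdicCompletion

/-!
# `X^ ⊗ M ≅ (M ⊗ X)^` naturally, and the derived completion of `M ⊗ N` (helper23)

* `ϑ I M : cplF I ⋙ tensorRight M ⟶ tensorLeft M ⋙ cplF I`, an isomorphism at flat `X` when `M` is
  finite over the Noetherian ring `A` (`isIso_ϑ_app`, from helper20's `theta_bijective`).
* `exists_iso_of_transport`: transport of a "completion arrow" along isomorphisms.
* `exists_cmp_iso_inD_tensor`: for `M` finite, `N` flat, `(M ⊗ N)[0]^ ≅ ((M ⊗ N)^)[0]` compatibly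
  with the canonical maps.
* `homology_of_cmp_iso_inD`: the consequences for cohomology.
-/

set_option autoImplicit false
universe u
open CategoryTheory CategoryTheory.Limits MonoidalCategory DerivedCategory Pretriangulated
  TensorProduct

attribute [local instance] HasDerivedCategory.standard

namespace Groth.Agent.Lib.helper23.TCmp

open Groth.Agent.Lib.helper19.DCB1 Groth.Agent.Lib.Helper20.TensorAdic

variable {A : Type u} [CommRing A] (I : Ideal A)

section Transport

variable [DRing.HasDerivedCompletion I]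

/-- transport of a completion arrow along isomorphisms -/
lemma exists_iso_of_transport {X X' Z Z' : Dual.D A} (e : (cmp I).obj X ≅ Z) (u : X ⟶ Z)
    (he : DRing.toDerivedCompletion I X ≫ e.hom = u) (a : X' ≅ X) (b : Z ≅ Z') (v : X' ⟶ Z')
    (hv : a.hom ≫ u ≫ b.hom = v) :
    ∃ ε : (cmp I).obj X' ≅ Z', DRing.toDerivedCompletion I X' ≫ ε.hom = v := by
  refine ⟨(cmp I).mapIso a ≪≫ e ≪≫ b, ?_⟩
  simp only [Iso.trans_hom, Functor.mapIso_hom]
  rw [← Category.assoc, Groth.Agent.Lib.helper19.DCB1.η_naturality, Category.assoc,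
    ← Category.assoc _ e.hom, he, hv]

end Transport

section Theta

/-- `X^ ⊗ M ⟶ (M ⊗ X)^`, naturally in `X` -/
noncomputable def ϑ (M : ModuleCat.{u} A) : cplF I ⋙ tensorRight M ⟶ tensorLeft M ⋙ cplF I where
  app X := ModuleCat.ofHom
    (theta I M X ∘ₗ (TensorProduct.comm A (AdicCompletion I X) M).toLinearMap)
  naturality X X' f := by
    apply ModuleCat.hom_ext
    apply TensorProduct.ext'
    intro (x : AdicCompletion I X) (m : M)
    show theta I M X' (m ⊗ₜ[A] (AdicCompletion.map I f.hom x)) =
      AdicCompletion.map I (M ◁ f).hom (theta I M X (m ⊗ₜ[A] x))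
    rw [theta_tmul, theta_tmul, AdicCompletion.map_comp_apply, AdicCompletion.map_comp_apply]
    rfl

lemma ϑ_app_tmul (M X : ModuleCat.{u} A) (x : AdicCompletion I X) (m : M) :
    ((ϑ I M).app X).hom (x ⊗ₜ[A] m) = AdicCompletion.map I (TensorProduct.mk A M X m) x := rfl

lemma isIso_ϑ_app [IsNoetherianRing A] (M X : ModuleCat.{u} A) [Module.Finite A M]
    [Module.Flat A X] : IsIso ((ϑ I M).app X) := by
  rw [ConcreteCategory.isIso_iff_bijective]
  exact (theta_bijective I M X).comp (TensorProduct.comm A (AdicCompletion I X) M).bijective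

/-- compatibility of `ϑ` with the canonical maps to the completions -/
lemma cplη_ϑ (M X : ModuleCat.{u} A) :
    (cplη I).app X ▷ M ≫ (ϑ I M).app X = (β_ X M).hom ≫ (cplη I).app (M ⊗ X) := by
  apply ModuleCat.hom_ext
  apply TensorProduct.ext'
  intro (x : X) (m : M)
  show AdicCompletion.map I (TensorProduct.mk A M X m) (AdicCompletion.of I X x) =
    AdicCompletion.of I (M ⊗[A] X) (m ⊗ₜ[A] x)
  rw [AdicCompletion.map_of]
  rfl

end Theta

section Single

/-- the termwise completion of a single complex -/
lemma cplCxη_single (N : ModuleCat.{u} A) :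
    cplCxη I ((HomologicalComplex.single (ModuleCat.{u} A) (ComplexShape.up ℤ) 0).obj N) ≫
      (HomologicalComplex.singleMapHomologicalComplex (cplF I) (ComplexShape.up ℤ) 0).hom.app N =
    (HomologicalComplex.single (ModuleCat.{u} A) (ComplexShape.up ℤ) 0).map ((cplη I).app N) := by
  apply HomologicalComplex.from_single_hom_ext
  rw [HomologicalComplex.comp_f, HomologicalComplex.singleMapHomologicalComplex_hom_app_self,
    HomologicalComplex.single_map_f_self]
  show (cplη I).app _ ≫ _ = _
  rw [← Category.assoc, ← Category.assoc]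
  congr 1

lemma termwiseFlat_single (N : ModuleCat.{u} A) [Module.Flat A N] :
    DRing.TermwiseFlat
      ((HomologicalComplex.single (ModuleCat.{u} A) (ComplexShape.up ℤ) 0).obj N) := by
  intro i
  by_cases h : i = 0
  · subst h
    exact Module.Flat.of_linearEquiv
      (HomologicalComplex.singleObjXSelf (ComplexShape.up ℤ) 0 N).toLinearEquiv
  · haveI : Subsingleton
        (((HomologicalComplex.single (ModuleCat.{u} A) (ComplexShape.up ℤ) 0).obj N).X i) :=
      ModuleCat.subsingleton_of_isZero (HomologicalComplex.isZero_single_obj_X _ _ _ _ h)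
    infer_instance

lemma vanishesAbove_single (N : ModuleCat.{u} A) :
    DRing.VanishesAbove
      ((HomologicalComplex.single (ModuleCat.{u} A) (ComplexShape.up ℤ) 0).obj N) 0 :=
  fun i hi => HomologicalComplex.isZero_single_obj_X _ _ _ _ (ne_of_gt hi)

variable [IsNoetherianRing A] (fs : List A) (hI : Ideal.span {x : A | x ∈ fs} = I)
  [DRing.HasDerivedCompletion I]

include hI in
/-- **the derived completion of `(M ⊗ N)[0]`** for `M` finite and `N` flat is `((M ⊗ N)^)[0]`. -/
theorem exists_cmp_iso_inD_tensor (M N : Type u) [AddCommGroup M] [Module A M] [Module.Finite A M]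
    [AddCommGroup N] [Module A N] [Module.Flat A N] :
    ∃ ε : (cmp I).obj (Dual.inD A (M ⊗[A] N)) ≅ Dual.inD A (AdicCompletion I (M ⊗[A] N)),
      DRing.toDerivedCompletion I (Dual.inD A (M ⊗[A] N)) ≫ ε.hom =
        (DerivedCategory.singleFunctor (ModuleCat.{u} A) 0).map
          (ModuleCat.ofHom (AdicCompletion.of I (M ⊗[A] N))) := by
  let Sg := HomologicalComplex.single (ModuleCat.{u} A) (ComplexShape.up ℤ) 0
  let M' : ModuleCat.{u} A := ModuleCat.of A M
  let N' : ModuleCat.{u} A := ModuleCat.of A N
  haveI : Module.Finite A M' := inferInstanceAs (Module.Finite A M)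
  haveI : Module.Flat A N' := inferInstanceAs (Module.Flat A N)
  let Y : DRing.Cx A := Sg.obj N'
  obtain ⟨-, e, he⟩ := exists_derivedCompletion_iso_tensor_cplCx I fs hI M Y 0
    (vanishesAbove_single N') (termwiseFlat_single N')
  let σF := HomologicalComplex.singleMapHomologicalComplex (tensorRight M') (ComplexShape.up ℤ) 0
  let σG := HomologicalComplex.singleMapHomologicalComplex (cplF I) (ComplexShape.up ℤ) 0
  haveI := isIso_ϑ_app I M' N'
  let a : Sg.obj (M' ⊗ N') ≅ (tensR M').obj Y := Sg.mapIso (β_ M' N') ≪≫ (σF.app N').symm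
  let b : (tensR M').obj (cplCx I Y) ≅ Sg.obj ((cplF I).obj (M' ⊗ N')) :=
    (tensR M').mapIso (σG.app N') ≪≫ σF.app ((cplF I).obj N') ≪≫
      Sg.mapIso (asIso ((ϑ I M').app N'))
  have hv : a.hom ≫ (tensR M').map (cplCxη I Y) ≫ b.hom = Sg.map ((cplη I).app (M' ⊗ N')) := by
    have h1 : (tensR M').map (cplCxη I Y) ≫ (tensR M').map (σG.hom.app N') =
        (tensR M').map (Sg.map ((cplη I).app N')) := by
      rw [← Functor.map_comp]
      congr 1
      exact cplCxη_single I N'
    have h2 : (tensR M').map (Sg.map ((cplη I).app N')) ≫ σF.hom.app ((cplF I).obj N') =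
        σF.hom.app N' ≫ Sg.map ((cplη I).app N' ▷ M') :=
      σF.hom.naturality ((cplη I).app N')
    have h3 : Sg.map ((cplη I).app N' ▷ M') ≫ Sg.map ((ϑ I M').app N') =
        Sg.map (β_ N' M').hom ≫ Sg.map ((cplη I).app (M' ⊗ N')) := by
      rw [← Functor.map_comp, ← Functor.map_comp, cplη_ϑ]
    have h4 : Sg.map (β_ M' N').hom ≫ Sg.map (β_ N' M').hom = 𝟙 _ := by
      rw [← Functor.map_comp, SymmetricCategory.symmetry, CategoryTheory.Functor.map_id]
    calc a.hom ≫ (tensR M').map (cplCxη I Y) ≫ b.hom
        = Sg.map (β_ M' N').hom ≫ σF.inv.app N' ≫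
            ((tensR M').map (cplCxη I Y) ≫ (tensR M').map (σG.hom.app N')) ≫
              σF.hom.app ((cplF I).obj N') ≫ Sg.map ((ϑ I M').app N') := by
          simp only [a, b, Iso.trans_hom, Functor.mapIso_hom, Iso.symm_hom, Iso.app_inv,
            Iso.app_hom, asIso_hom, Category.assoc]
      _ = Sg.map (β_ M' N').hom ≫ σF.inv.app N' ≫
            ((tensR M').map (Sg.map ((cplη I).app N')) ≫ σF.hom.app ((cplF I).obj N')) ≫
              Sg.map ((ϑ I M').app N') := by
          rw [h1]
          simp only [Category.assoc]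
      _ = Sg.map (β_ M' N').hom ≫ (σF.inv.app N' ≫ σF.hom.app N') ≫
            Sg.map ((cplη I).app N' ▷ M') ≫ Sg.map ((ϑ I M').app N') := by
          rw [h2]
          simp only [Category.assoc]
      _ = Sg.map ((cplη I).app (M' ⊗ N')) := by
          rw [Iso.inv_hom_id_app, h3]
          erw [Category.id_comp]
          rw [← Category.assoc, h4, Category.id_comp]
  obtain ⟨ε, hε⟩ := exists_iso_of_transport I e _ he (Q.mapIso a) (Q.mapIso b)
    (Q.map (Sg.map ((cplη I).app (M' ⊗ N')))) (by
      rw [Functor.mapIso_hom, Functor.mapIso_hom, ← Functor.map_comp, ← Functor.map_comp, hv])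
  exact ⟨ε, hε⟩

end Single

section Final

variable [DRing.HasDerivedCompletion I]

/-- cohomological consequences of `(P[0])^ ≅ P'[0]` -/
theorem homology_of_cmp_iso_inD (P P' : Type u) [AddCommGroup P] [Module A P] [AddCommGroup P']
    [Module A P'] (g : P →ₗ[A] P')
    (ε : (cmp I).obj (Dual.inD A P) ≅ Dual.inD A P')
    (hε : DRing.toDerivedCompletion I (Dual.inD A P) ≫ ε.hom =
      (DerivedCategory.singleFunctor (ModuleCat.{u} A) 0).map (ModuleCat.ofHom g)) :
    (∀ i : ℤ, i ≠ 0 →
      Subsingleton (Dual.HD A ((DRing.derivedCompletion I).obj (Dual.inD A P)).obj i)) ∧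
    ∃ e : Dual.HD A ((DRing.derivedCompletion I).obj (Dual.inD A P)).obj 0 ≃ₗ[A] P',
      ∀ x : P,
        e ((((DerivedCategory.singleFunctorCompHomologyFunctorIso (ModuleCat.{u} A) 0).inv.app
                (ModuleCat.of A P)) ≫
              (DerivedCategory.homologyFunctor (ModuleCat.{u} A) 0).map
                (DRing.toDerivedCompletion I (Dual.inD A P))).hom x) = g x := by
  constructor
  · intro i hi
    have hz : IsZero ((DerivedCategory.homologyFunctor (ModuleCat.{u} A) i).obj
        (Dual.inD A P')) := by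
      rcases lt_or_gt_of_ne hi with h | h
      · exact DerivedCategory.isZero_of_isGE _ 0 i h
      · exact DerivedCategory.isZero_of_isLE _ 0 i h
    exact ModuleCat.subsingleton_of_isZero
      (hz.of_iso ((DerivedCategory.homologyFunctor (ModuleCat.{u} A) i).mapIso ε))
  · let j := DerivedCategory.singleFunctorCompHomologyFunctorIso (ModuleCat.{u} A) 0
    let H0 := DerivedCategory.homologyFunctor (ModuleCat.{u} A) 0
    let e' : H0.obj ((cmp I).obj (Dual.inD A P)) ≅ ModuleCat.of A P' :=
      H0.mapIso ε ≪≫ j.app (ModuleCat.of A P')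
    have key : (j.inv.app (ModuleCat.of A P) ≫
        H0.map (DRing.toDerivedCompletion I (Dual.inD A P))) ≫ e'.hom = ModuleCat.ofHom g := by
      have hn := j.hom.naturality (ModuleCat.ofHom g)
      simp only [e', Iso.trans_hom, Functor.mapIso_hom, Iso.app_hom, Category.assoc]
      rw [← Functor.map_comp_assoc, hε]
      erw [hn]
      rw [Iso.inv_hom_id_app_assoc]
      rfl
    refine ⟨e'.toLinearEquiv, fun x => ?_⟩
    exact congrArg (fun f => f.hom x) key

end Final

end Groth.Agent.Lib.helper23.TCmp
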