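import Mathlib
import Groth.Prelude.Def_CohCx
import Groth.Agent.Lib.Helper25.DProdExact

/-!
# Derived limits from termwise inverse limits of complexes of modules (helper23)

`E n` a tower of complexes of `A`-modules with transition maps `τ n : E (n+1) ⟶ E n` which are
termwise surjective, `L` a complex with compatible maps `p n : L ⟶ E n` exhibiting each `L.X i`
as the inverse limit of the `(E n).X i`.  Then `Q L` is a derived limit of the `Q (E n)` in `D(A)`
through the `Q (p n)` (`isRlimVia_of_termwise_limit`).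
-/

set_option autoImplicit false
universe u
open CategoryTheory CategoryTheory.Limits DerivedCategory Pretriangulated

attribute [local instance] HasDerivedCategory.standard

namespace Groth.Agent.Lib.helper23.TCmp

variable {A : Type u} [CommRing A]

section Elements

variable (E : ℕ → CochainComplex (ModuleCat.{u} A) ℤ)

/-- the evaluated product fan is a limit -/
noncomputable def isLimitEvalFan (i : ℤ) :
    IsLimit (Fan.mk ((∏ᶜ E).X i) (fun n => (Pi.π E n).f i)) :=
  (isLimitMapConeFanMkEquiv (HomologicalComplex.eval (ModuleCat.{u} A) (ComplexShape.up ℤ) i) E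
    (Pi.π E)).1 (isLimitOfPreserves
      (HomologicalComplex.eval (ModuleCat.{u} A) (ComplexShape.up ℤ) i) (productIsProduct E))

lemma pi_X_ext (i : ℤ) {x y : (∏ᶜ E).X i}
    (h : ∀ n, ((Pi.π E n).f i).hom x = ((Pi.π E n).f i).hom y) : x = y := by
  let fx : ModuleCat.of A A ⟶ (∏ᶜ E).X i := ModuleCat.ofHom (LinearMap.toSpanSingleton A _ x)
  let fy : ModuleCat.of A A ⟶ (∏ᶜ E).X i := ModuleCat.ofHom (LinearMap.toSpanSingleton A _ y)
  have hxy : fx = fy := by
    apply Fan.IsLimit.hom_ext (isLimitEvalFan E i)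
    intro n
    apply ModuleCat.hom_ext
    apply LinearMap.ext_ring
    show ((Pi.π E n).f i).hom (fx.hom 1) = ((Pi.π E n).f i).hom (fy.hom 1)
    simp only [fx, fy, ModuleCat.hom_ofHom, LinearMap.toSpanSingleton_apply, one_smul]
    exact h n
  have := congrArg (fun f => f.hom (1 : A)) hxy
  simpa [fx, fy] using this

lemma pi_X_exists (i : ℤ) (y : ∀ n, (E n).X i) :
    ∃ x : (∏ᶜ E).X i, ∀ n, ((Pi.π E n).f i).hom x = y n := by
  let f : ∀ n, ModuleCat.of A A ⟶ (E n).X i := fun n =>
    ModuleCat.ofHom (LinearMap.toSpanSingleton A _ (y n))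
  refine ⟨(Fan.IsLimit.lift (isLimitEvalFan E i) f).hom 1, fun n => ?_⟩
  have h := Fan.IsLimit.fac (isLimitEvalFan E i) f n
  have := congrArg (fun g => g.hom (1 : A)) h
  simpa [f] using this

end Elements

section Main

variable (E : ℕ → CochainComplex (ModuleCat.{u} A) ℤ) (τ : ∀ n, E (n + 1) ⟶ E n)
  (L : CochainComplex (ModuleCat.{u} A) ℤ) (p : ∀ n, L ⟶ E n)

/-- the chain-level "identity minus shift" -/
noncomputable def deltaCx : ∏ᶜ E ⟶ ∏ᶜ E :=
  Pi.lift (fun n => Pi.π E n - Pi.π E (n + 1) ≫ τ n)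

lemma deltaCx_apply (i : ℤ) (x : (∏ᶜ E).X i) (n : ℕ) :
    ((Pi.π E n).f i).hom (((deltaCx E τ).f i).hom x) =
      ((Pi.π E n).f i).hom x - ((τ n).f i).hom (((Pi.π E (n + 1)).f i).hom x) := by
  have h : deltaCx E τ ≫ Pi.π E n = Pi.π E n - Pi.π E (n + 1) ≫ τ n := Pi.lift_π _ _
  have h2 := congrArg (fun g => (g.f i).hom x) h
  simpa using h2

variable (hp : ∀ n, p (n + 1) ≫ τ n = p n)

include hp in
lemma lift_comp_deltaCx : Pi.lift p ≫ deltaCx E τ = 0 := by
  apply Pi.hom_ext
  intro n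
  rw [Category.assoc, deltaCx, Pi.lift_π, Preadditive.comp_sub, Pi.lift_π, Pi.lift_π_assoc, hp,
    sub_self, zero_comp]

variable (ha : ∀ (i : ℤ) (x : L.X i), (∀ n, ((p n).f i).hom x = 0) → x = 0)
  (hb : ∀ (i : ℤ) (y : ∀ n, (E n).X i), (∀ n, ((τ n).f i).hom (y (n + 1)) = y n) →
    ∃ x : L.X i, ∀ n, ((p n).f i).hom x = y n)
  (hc : ∀ (i : ℤ) (n : ℕ), Function.Surjective ((τ n).f i).hom)

include hp ha hb hc in
/-- the short exact sequence `0 ⟶ L ⟶ ∏ E ⟶ ∏ E ⟶ 0` -/
lemma shortExact_limit :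
    (ShortComplex.mk (Pi.lift p) (deltaCx E τ) (lift_comp_deltaCx E τ L p hp)).ShortExact := by
  refine HomologicalComplex.shortExact_of_degreewise_shortExact _ (fun i => ?_)
  refine ModuleCat.shortComplex_shortExact _ ?_ ?_ ?_
  · -- exactness in the middle
    intro (x : (∏ᶜ E).X i)
    constructor
    · intro hx
      have hx' : ((deltaCx E τ).f i).hom x = 0 := hx
      have hcomp : ∀ n, ((τ n).f i).hom (((Pi.π E (n + 1)).f i).hom x) =
          ((Pi.π E n).f i).hom x := by
        intro n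
        have h := deltaCx_apply E τ i x n
        rw [hx', map_zero] at h
        exact (sub_eq_zero.1 h.symm).symm
      obtain ⟨z, hz⟩ := hb i (fun n => ((Pi.π E n).f i).hom x) hcomp
      refine ⟨z, ?_⟩
      apply pi_X_ext E i
      intro n
      have h : Pi.lift p ≫ Pi.π E n = p n := Pi.lift_π _ _
      have h2 := congrArg (fun g => (g.f i).hom z) h
      exact h2.trans (hz n)
    · rintro ⟨(z : L.X i), rfl⟩
      have h := lift_comp_deltaCx E τ L p hp
      have h2 := congrArg (fun g => (g.f i).hom z) h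
      exact h2
  · -- injectivity
    intro (x : L.X i) (y : L.X i) hxy
    have hxy' : ((Pi.lift p).f i).hom x = ((Pi.lift p).f i).hom y := hxy
    have : x - y = 0 := by
      apply ha i
      intro n
      have h : Pi.lift p ≫ Pi.π E n = p n := Pi.lift_π _ _
      have h2 := congrArg (fun g => (g.f i).hom (x - y)) h
      have h3 : ((p n).f i).hom (x - y) =
          ((Pi.π E n).f i).hom (((Pi.lift p).f i).hom (x - y)) := h2.symm
      rw [h3, map_sub, hxy', sub_self, map_zero]
    exact sub_eq_zero.1 this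
  · -- surjectivity of "identity minus shift"
    intro (v : (∏ᶜ E).X i)
    -- components of `v`
    let vn : ∀ n, (E n).X i := fun n => ((Pi.π E n).f i).hom v
    -- recursive construction of `w` with `w n - τ (w (n+1)) = v n`
    have hstep : ∀ (n : ℕ) (w : (E n).X i), ∃ w' : (E (n + 1)).X i,
        ((τ n).f i).hom w' = w - vn n := fun n w => hc i n _
    choose nxt hnxt using hstep
    let w : ∀ n, (E n).X i := fun n =>
      Nat.rec (motive := fun n => (E n).X i) 0 (fun n wn => nxt n wn) n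
    have hw : ∀ n, ((τ n).f i).hom (w (n + 1)) = w n - vn n := fun n => hnxt n (w n)
    obtain ⟨x, hx⟩ := pi_X_exists E i w
    refine ⟨x, ?_⟩
    apply pi_X_ext E i
    intro n
    show ((Pi.π E n).f i).hom (((deltaCx E τ).f i).hom x) = vn n
    rw [deltaCx_apply, hx n, hx (n + 1), hw n]
    abel

variable [HasProduct (fun n => Q.obj (E n))]

/-- the comparison `Q (∏ E) ⟶ ∏ Q (E n)` -/
noncomputable def zetaHom : Q.obj (∏ᶜ E) ⟶ ∏ᶜ (fun n => Q.obj (E n)) :=
  Pi.lift (fun n => Q.map (Pi.π E n))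

instance isIso_zetaHom : IsIso (zetaHom E) := by
  apply (config := { allowSynthFailures := true }) isIso_of_yoneda_map_bijective
  intro Z
  constructor
  · intro m₁ m₂ h
    have h' : m₁ ≫ zetaHom E = m₂ ≫ zetaHom E := h
    obtain ⟨m, -, hu⟩ := Groth.Agent.Lib.Helper25.DProdExact.existsUnique_lift E Z
      (fun n => m₁ ≫ Q.map (Pi.π E n))
    have e1 := hu m₁ (fun n => rfl)
    have e2 := hu m₂ (fun n => by
      have := congrArg (fun g => g ≫ Pi.π (fun n => Q.obj (E n)) n) h'
      simp only [Category.assoc, zetaHom, Pi.lift_π] at this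
      exact this.symm)
    rw [e1, e2]
  · intro g
    obtain ⟨m, hm, -⟩ := Groth.Agent.Lib.Helper25.DProdExact.existsUnique_lift E Z
      (fun n => g ≫ Pi.π (fun n => Q.obj (E n)) n)
    refine ⟨m, ?_⟩
    show m ≫ zetaHom E = g
    apply Pi.hom_ext
    intro n
    rw [Category.assoc, zetaHom, Pi.lift_π]
    exact hm n

include hp ha hb hc in
/-- **derived limits from termwise inverse limits** -/
theorem isRlimVia_of_termwise_limit :
    CohCx.IsRlimVia (fun n => Q.obj (E n)) (fun n => Q.map (τ n)) (Q.obj L)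
      (fun n => Q.map (p n)) := by
  have hS := shortExact_limit E τ L p hp ha hb hc
  have hT := DerivedCategory.triangleOfSES_distinguished hS
  let ζ : Q.obj (∏ᶜ E) ≅ ∏ᶜ (fun n => Q.obj (E n)) := asIso (zetaHom E)
  refine ⟨ζ.inv ≫ DerivedCategory.triangleOfSESδ hS, ?_⟩
  refine isomorphic_distinguished _ hT _ ?_
  refine Triangle.isoMk _ _ (Iso.refl _) ζ.symm ζ.symm ?_ ?_ ?_
  · -- first square
    show Pi.lift (fun n => Q.map (p n)) ≫ ζ.inv = 𝟙 _ ≫ Q.map (Pi.lift p)
    rw [Category.id_comp, Iso.comp_inv_eq]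
    apply Pi.hom_ext
    intro n
    show _ = (Q.map (Pi.lift p) ≫ zetaHom E) ≫ _
    rw [Pi.lift_π, Category.assoc, zetaHom, Pi.lift_π, ← Q.map_comp, Pi.lift_π]
  · -- second square
    show (Pi.lift fun n => Pi.π (fun n => Q.obj (E n)) n -
        Pi.π (fun n => Q.obj (E n)) (n + 1) ≫ Q.map (τ n)) ≫ ζ.inv =
      ζ.inv ≫ Q.map (deltaCx E τ)
    rw [Iso.comp_inv_eq, Category.assoc, Iso.eq_inv_comp]
    apply Pi.hom_ext
    intro n
    show (zetaHom E ≫ _) ≫ _ = (Q.map (deltaCx E τ) ≫ zetaHom E) ≫ _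
    rw [Category.assoc, Pi.lift_π, Category.assoc, zetaHom, Pi.lift_π, Preadditive.comp_sub,
      Pi.lift_π, Pi.lift_π_assoc, ← Q.map_comp, ← Q.map_comp, ← Functor.map_sub, deltaCx,
      Pi.lift_π]
  · -- third square
    show (ζ.inv ≫ DerivedCategory.triangleOfSESδ hS) ≫ (𝟙 (Q.obj L))⟦(1 : ℤ)⟧' =
      ζ.inv ≫ DerivedCategory.triangleOfSESδ hS
    rw [CategoryTheory.Functor.map_id, Category.comp_id]

end Main

end Groth.Agent.Lib.helper23.TCmp
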