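import Mathlib
import Groth.Agent.Lib.Helper23.TCmp2

/-!
# The tower `P ↦ P / I^n P` of functors and `(M ⊗ X) / J ≅ (M / J M) ⊗ X` (helper23)

* `quotF J : P ↦ P / J P`, `quotT h : quotF J' ⟶ quotF J` for `J' ≤ J`,
  `evalN I n : cplF I ⟶ quotF (I ^ n)`, `evalN_quotT`.
* `eq_zero_of_eval`, `exists_of_compatible`, `surjective_quotT`: the adic completion is the
  inverse limit of the tower, elementwise.
* `ker_rTensor_mkQ_smul_top`, `tensQ J M : tensorLeft M ⋙ quotF J ≅ tensorLeft (M / J M)`,
  `tensQ_quotT`: compatibility with the transition maps.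
-/

set_option autoImplicit false
universe u
open CategoryTheory CategoryTheory.Limits MonoidalCategory TensorProduct

namespace Groth.Agent.Lib.helper23.TCmp

variable {A : Type u} [CommRing A]

section Quot

lemma smul_top_le_comap (J : Ideal A) {P P' : Type u} [AddCommGroup P] [Module A P]
    [AddCommGroup P'] [Module A P'] (f : P →ₗ[A] P') :
    (J • ⊤ : Submodule A P) ≤ (J • ⊤ : Submodule A P').comap f := by
  rw [← Submodule.map_le_iff_le_comap, Submodule.map_smul'']
  exact Submodule.smul_mono le_rfl le_top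

/-- `P ↦ P / J P` -/
noncomputable def quotF (J : Ideal A) : ModuleCat.{u} A ⥤ ModuleCat.{u} A where
  obj P := ModuleCat.of A (P ⧸ (J • ⊤ : Submodule A P))
  map f := ModuleCat.ofHom (Submodule.mapQ _ _ f.hom (smul_top_le_comap J f.hom))
  map_id P := by
    apply ModuleCat.hom_ext
    apply Submodule.linearMap_qext
    rfl
  map_comp f g := by
    apply ModuleCat.hom_ext
    apply Submodule.linearMap_qext
    rfl

lemma quotF_map_mk (J : Ideal A) {P P' : ModuleCat.{u} A} (f : P ⟶ P') (x : P) :
    ((quotF J).map f).hom ((J • ⊤ : Submodule A P).mkQ x) =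
      (J • ⊤ : Submodule A P').mkQ (f.hom x) := rfl

instance (J : Ideal A) : (quotF J).Additive where
  map_add {P P' f g} := by
    apply ModuleCat.hom_ext
    apply Submodule.linearMap_qext
    rfl

/-- the transition maps -/
noncomputable def quotT {J' J : Ideal A} (h : J' ≤ J) : quotF J' ⟶ quotF J where
  app P := ModuleCat.ofHom (Submodule.factor (Submodule.smul_mono_left h))
  naturality P P' f := by
    apply ModuleCat.hom_ext
    apply Submodule.linearMap_qext
    rfl

lemma quotT_app_mk {J' J : Ideal A} (h : J' ≤ J) (P : ModuleCat.{u} A) (x : P) :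
    ((quotT h).app P).hom ((J' • ⊤ : Submodule A P).mkQ x) = (J • ⊤ : Submodule A P).mkQ x := rfl

lemma surjective_quotT {J' J : Ideal A} (h : J' ≤ J) (P : ModuleCat.{u} A) :
    Function.Surjective ((quotT h).app P).hom :=
  Submodule.factor_surjective (Submodule.smul_mono_left h)

variable (I : Ideal A)

/-- evaluation of the completion at level `n` -/
noncomputable def evalN (n : ℕ) : cplF I ⟶ quotF (I ^ n) where
  app P := ModuleCat.ofHom (AdicCompletion.eval I P n)
  naturality P P' f := by
    apply ModuleCat.hom_ext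
    apply LinearMap.ext
    intro (x : AdicCompletion I P)
    show (AdicCompletion.map I f.hom x).val n = ((quotF (I ^ n)).map f).hom (x.val n)
    rw [AdicCompletion.map_val_apply]
    generalize x.val n = z
    induction z using Submodule.Quotient.induction_on with
    | _ y => rfl

lemma evalN_app_apply (n : ℕ) (P : ModuleCat.{u} A) (x : AdicCompletion I P) :
    ((evalN I n).app P).hom x = x.val n := rfl

lemma evalN_quotT (n : ℕ) :
    evalN I (n + 1) ≫ quotT (Ideal.pow_le_pow_right (Nat.le_succ n)) = evalN I n := by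
  ext P : 2
  apply ModuleCat.hom_ext
  apply LinearMap.ext
  intro (x : AdicCompletion I P)
  exact x.2 (Nat.le_succ n)

lemma eq_zero_of_eval (P : ModuleCat.{u} A) (x : AdicCompletion I P)
    (h : ∀ n, ((evalN I n).app P).hom x = 0) : x = 0 :=
  AdicCompletion.ext h

lemma exists_of_compatible (P : ModuleCat.{u} A) (y : ∀ n, (quotF (I ^ n)).obj P)
    (hy : ∀ n, ((quotT (Ideal.pow_le_pow_right (Nat.le_succ n))).app P).hom (y (n + 1)) = y n) :
    ∃ x : AdicCompletion I P, ∀ n, ((evalN I n).app P).hom x = y n := by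
  have key : ∀ m n (hmn : m ≤ n), AdicCompletion.transitionMap I P hmn (y n) = y m := by
    intro m n hmn
    induction n, hmn using Nat.le_induction with
    | base =>
      induction y m using Submodule.Quotient.induction_on with
      | _ z => rfl
    | succ n hmn ih =>
      rw [← ih, ← hy n]
      induction y (n + 1) using Submodule.Quotient.induction_on with
      | _ z => rfl
  exact ⟨⟨y, fun {m n} hmn => key m n hmn⟩, fun n => rfl⟩

end Quot

section TensQ

variable (J : Ideal A)

lemma ker_rTensor_mkQ_smul_top (M X : Type u) [AddCommGroup M] [Module A M] [AddCommGroup X]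
    [Module A X] :
    LinearMap.ker (LinearMap.rTensor X (J • ⊤ : Submodule A M).mkQ) =
      (J • ⊤ : Submodule A (M ⊗[A] X)) := by
  apply le_antisymm
  · intro x hx
    have hex : Function.Exact (LinearMap.rTensor X (J • ⊤ : Submodule A M).subtype)
        (LinearMap.rTensor X (J • ⊤ : Submodule A M).mkQ) :=
      rTensor_exact X (LinearMap.exact_subtype_mkQ _) (Submodule.mkQ_surjective _)
    obtain ⟨t, rfl⟩ := (hex x).mp hx
    clear hx
    induction t using TensorProduct.induction_on with
    | zero => rw [map_zero]; exact Submodule.zero_mem _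
    | add t t' ht ht' => rw [map_add]; exact Submodule.add_mem _ ht ht'
    | tmul n q =>
      rw [LinearMap.rTensor_tmul]
      obtain ⟨n, hn⟩ := n
      show n ⊗ₜ[A] q ∈ _
      refine Submodule.smul_induction_on hn ?_ ?_
      · intro a ha m _
        rw [← TensorProduct.smul_tmul']
        exact Submodule.smul_mem_smul ha Submodule.mem_top
      · intro m m' hm hm'
        rw [TensorProduct.add_tmul]
        exact Submodule.add_mem _ hm hm'
  · rw [Submodule.smul_le]
    intro a ha x _
    rw [LinearMap.mem_ker, map_smul]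
    generalize LinearMap.rTensor X (J • ⊤ : Submodule A M).mkQ x = y
    induction y using TensorProduct.induction_on with
    | zero => rw [smul_zero]
    | add t t' ht ht' => rw [smul_add, ht, ht', add_zero]
    | tmul n q =>
      obtain ⟨m, rfl⟩ := Submodule.mkQ_surjective _ n
      rw [TensorProduct.smul_tmul', ← map_smul]
      have : (J • ⊤ : Submodule A M).mkQ (a • m) = 0 := by
        rw [Submodule.mkQ_apply, Submodule.Quotient.mk_eq_zero]
        exact Submodule.smul_mem_smul ha Submodule.mem_top
      rw [this, TensorProduct.zero_tmul]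

/-- `(M ⊗ X) / J (M ⊗ X) ≃ (M / J M) ⊗ X` -/
noncomputable def tensQEquiv (M X : Type u) [AddCommGroup M] [Module A M] [AddCommGroup X]
    [Module A X] :
    ((M ⊗[A] X) ⧸ (J • ⊤ : Submodule A (M ⊗[A] X))) ≃ₗ[A]
      (M ⧸ (J • ⊤ : Submodule A M)) ⊗[A] X :=
  (Submodule.quotEquivOfEq _ _ (ker_rTensor_mkQ_smul_top J M X).symm) ≪≫ₗ
    (LinearMap.rTensor X (J • ⊤ : Submodule A M).mkQ).quotKerEquivOfSurjective
      (LinearMap.rTensor_surjective X (Submodule.mkQ_surjective _))

lemma tensQEquiv_mk_tmul (M X : Type u) [AddCommGroup M] [Module A M] [AddCommGroup X]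
    [Module A X] (m : M) (x : X) :
    tensQEquiv J M X ((J • ⊤ : Submodule A (M ⊗[A] X)).mkQ (m ⊗ₜ[A] x)) =
      ((J • ⊤ : Submodule A M).mkQ m) ⊗ₜ[A] x := rfl

/-- `(M ⊗ -) / J ≅ (M / J M) ⊗ -` -/
noncomputable def tensQ (M : ModuleCat.{u} A) :
    tensorLeft M ⋙ quotF J ≅ tensorLeft ((quotF J).obj M) :=
  NatIso.ofComponents (fun X => (tensQEquiv J M X).toModuleIso) (by
    intro X X' f
    apply ModuleCat.hom_ext
    apply Submodule.linearMap_qext
    apply TensorProduct.ext'
    intro (m : M) (x : X)
    rfl)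

lemma tensQ_hom_app_mk_tmul (M X : ModuleCat.{u} A) (m : M) (x : X) :
    ((tensQ J M).hom.app X).hom ((J • ⊤ : Submodule A (M ⊗[A] X)).mkQ (m ⊗ₜ[A] x)) =
      ((J • ⊤ : Submodule A M).mkQ m) ⊗ₜ[A] x := rfl

/-- compatibility of `tensQ` with the transition maps -/
lemma tensQ_quotT {J' J : Ideal A} (h : J' ≤ J) (M X : ModuleCat.{u} A) :
    (quotT h).app (M ⊗ X) ≫ (tensQ J M).hom.app X =
      (tensQ J' M).hom.app X ≫ ((quotT h).app M ▷ X) := by
  apply ModuleCat.hom_ext
  apply Submodule.linearMap_qext
  apply TensorProduct.ext'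
  intro (m : M) (x : X)
  rfl

end TensQ

end Groth.Agent.Lib.helper23.TCmp
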