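import Mathlib
import Groth.Prelude.Def_DCoh2
import Groth.Agent.Lib.Helper23.TCmp5
import Groth.Agent.Lib.Helper23.TCmp8
import Groth.Agent.Lib.Helper23.TensSES

/-!
# The termwise completion of `M ⊗ C` as a derived limit (helper23)

For a module `M` and a complex `C`: `towL I M C = (M ⊗ C)^` (termwise completion),
`towE I M C n = (M ⊗ C) / I^n`, and `Q (towL)` is a derived limit of the `Q (towE n)`
(`isRlimVia_tow`).  `towφ : towE I M C n ≅ (M / I^n M) ⊗ C` compatibly with the transition maps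
(`towφ_comm`).  `isRlim_of_tower_iso`: derived limits are invariant under isomorphisms of towers.
-/

set_option autoImplicit false
universe u
open CategoryTheory CategoryTheory.Limits MonoidalCategory DerivedCategory Pretriangulated

attribute [local instance] HasDerivedCategory.standard

namespace Groth.Agent.Lib.helper23.TCmp

open Groth.Agent.Lib.helper23.TensSES

section Generic

/-- derived limits are invariant under isomorphisms of towers -/
lemma isRlim_of_tower_iso {T : Type*} [Category T] [Preadditive T] [HasZeroObject T]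
    [HasShift T ℤ] [∀ n : ℤ, (shiftFunctor T n).Additive] [Pretriangulated T]
    (K K' : ℕ → T) (t : ∀ n, K (n + 1) ⟶ K n) (t' : ∀ n, K' (n + 1) ⟶ K' n)
    [HasProduct K] [HasProduct K'] {L L' : T} (i : ∀ n, K n ≅ K' n)
    (hi : ∀ n, t n ≫ (i n).hom = (i (n + 1)).hom ≫ t' n) (l : L ≅ L')
    (h : DCoh.IsRlim K t L) : DCoh.IsRlim K' t' L' := by
  obtain ⟨a, c, hT⟩ := h
  let P : ∏ᶜ K ≅ ∏ᶜ K' :=
    { hom := Limits.Pi.map (fun n => (i n).hom)
      inv := Limits.Pi.map (fun n => (i n).inv)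
      hom_inv_id := by
        apply Pi.hom_ext
        intro n
        simp
      inv_hom_id := by
        apply Pi.hom_ext
        intro n
        simp }
  have hP : ∀ n, P.hom ≫ Pi.π K' n = Pi.π K n ≫ (i n).hom := fun n =>
    Limits.Pi.map_π (fun n => (i n).hom) n
  have hδ : P.hom ≫ (Pi.lift fun n => Pi.π K' n - Pi.π K' (n + 1) ≫ t' n) =
      (Pi.lift fun n => Pi.π K n - Pi.π K (n + 1) ≫ t n) ≫ P.hom := by
    apply Pi.hom_ext
    intro n
    rw [Category.assoc, Category.assoc, Pi.lift_π, hP, Pi.lift_π_assoc, Preadditive.comp_sub,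
      Preadditive.sub_comp, hP, reassoc_of% (hP (n + 1)), Category.assoc, hi]
  refine ⟨l.inv ≫ a ≫ P.hom, P.inv ≫ c ≫ l.hom⟦(1 : ℤ)⟧', ?_⟩
  refine isomorphic_distinguished _ hT _
    (Triangle.isoMk _ _ l.symm P.symm P.symm ?_ ?_ ?_)
  · show (l.inv ≫ a ≫ P.hom) ≫ P.inv = l.inv ≫ a
    simp
  · show (Pi.lift fun n => Pi.π K' n - Pi.π K' (n + 1) ≫ t' n) ≫ P.inv =
      P.inv ≫ (Pi.lift fun n => Pi.π K n - Pi.π K (n + 1) ≫ t n)
    rw [Iso.comp_inv_eq, Category.assoc, ← hδ, Iso.inv_hom_id_assoc]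
  · show (P.inv ≫ c ≫ l.hom⟦(1 : ℤ)⟧') ≫ l.inv⟦(1 : ℤ)⟧' = P.inv ≫ c
    rw [Category.assoc, Category.assoc, ← Functor.map_comp, l.hom_inv_id,
      CategoryTheory.Functor.map_id, Category.comp_id]

/-- a derived limit through given maps is a derived limit -/
lemma isRlim_of_isRlimVia {T : Type*} [Category T] [Preadditive T] [HasZeroObject T]
    [HasShift T ℤ] [∀ n : ℤ, (shiftFunctor T n).Additive] [Pretriangulated T]
    (K : ℕ → T) (t : ∀ n, K (n + 1) ⟶ K n) [HasProduct K] (L : T) (a : ∀ n, L ⟶ K n)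
    (h : CohCx.IsRlimVia K t L a) : DCoh.IsRlim K t L := by
  obtain ⟨c, hc⟩ := h
  exact ⟨Pi.lift a, c, hc⟩

end Generic

variable {A : Type u} [CommRing A] (I : Ideal A) (M : ModuleCat.{u} A) (C : DRing.Cx A)

/-- `(M ⊗ C) / I^n`, termwise -/
noncomputable abbrev towE (n : ℕ) : DRing.Cx A :=
  ((tensorLeft M ⋙ quotF (I ^ n)).mapHomologicalComplex (ComplexShape.up ℤ)).obj C

/-- the transition maps -/
noncomputable abbrev towτ (n : ℕ) : towE I M C (n + 1) ⟶ towE I M C n :=
  (NatTrans.mapHomologicalComplex (Functor.whiskerLeft (tensorLeft M)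
    (quotT (Ideal.pow_le_pow_right (Nat.le_succ n)))) (ComplexShape.up ℤ)).app C

/-- `(M ⊗ C)^`, termwise -/
noncomputable abbrev towL : DRing.Cx A :=
  ((tensorLeft M ⋙ cplF I).mapHomologicalComplex (ComplexShape.up ℤ)).obj C

/-- the projections -/
noncomputable abbrev towp (n : ℕ) : towL I M C ⟶ towE I M C n :=
  (NatTrans.mapHomologicalComplex (Functor.whiskerLeft (tensorLeft M) (evalN I n))
    (ComplexShape.up ℤ)).app C

/-- **`Q ((M ⊗ C)^)` is a derived limit of the `Q ((M ⊗ C) / I^n)`** -/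
theorem isRlimVia_tow [HasProduct fun n => Q.obj (towE I M C n)] :
    CohCx.IsRlimVia (fun n => Q.obj (towE I M C n)) (fun n => Q.map (towτ I M C n))
      (Q.obj (towL I M C)) (fun n => Q.map (towp I M C n)) := by
  refine isRlimVia_of_termwise_limit _ _ _ _ ?_ ?_ ?_ ?_
  · intro n
    apply HomologicalComplex.hom_ext
    intro i
    exact congrArg (fun α => α.app (M ⊗ C.X i)) (evalN_quotT I n)
  · intro i x h
    exact eq_zero_of_eval I (M ⊗ C.X i) x h
  · intro i y hy
    exact exists_of_compatible I (M ⊗ C.X i) y hy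
  · intro i n
    exact surjective_quotT (Ideal.pow_le_pow_right (Nat.le_succ n)) (M ⊗ C.X i)

/-- `(M ⊗ C) / I^n ≅ (M / I^n M) ⊗ C` -/
noncomputable abbrev towφ (n : ℕ) : towE I M C n ≅ (tensF C).obj ((quotF (I ^ n)).obj M) :=
  (NatIso.mapHomologicalComplex (tensQ (I ^ n) M) (ComplexShape.up ℤ)).app C

lemma towφ_comm (n : ℕ) :
    towτ I M C n ≫ (towφ I M C n).hom =
      (towφ I M C (n + 1)).hom ≫
        (tensF C).map ((quotT (Ideal.pow_le_pow_right (Nat.le_succ n))).app M) := by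
  apply HomologicalComplex.hom_ext
  intro i
  exact tensQ_quotT _ M (C.X i)

end Groth.Agent.Lib.helper23.TCmp
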