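import Mathlib
import Groth.Agent.Lib.Helper23.TCmp6
import Groth.Agent.Lib.Helper23.TCmp7
import Groth.Agent.Lib.Helper23.TCmp9

/-!
# The derived completion of `RΓ_J(M)` as a derived limit of the `RΓ_J(M / I^n M)` (helper23)

`A` Noetherian, `I = (fs)`, `J = (gs)`, `M` a finite `A`-module.
* `extCech_vanishesBelow`: the extended Čech complex vanishes in negative degrees.
* `exists_cmp_RgammaI_iso_towL`: `(RΓ_J (M[0]))^ ≅ Q ((M ⊗ Č(gs))^)` (termwise completion).
* `isRlim_cmp_RgammaI`: the main statement.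
-/

set_option autoImplicit false
universe u
open CategoryTheory CategoryTheory.Limits MonoidalCategory DerivedCategory Pretriangulated

attribute [local instance] HasDerivedCategory.standard

namespace Groth.Agent.Lib.helper23.TCmp

open Groth.Agent.Lib.helper13.DComp Groth.Agent.Lib.helper19.DCB1
  Groth.Agent.Lib.helper23.TensSES

section Cech

variable {A : Type u} [CommRing A]

/-- the extended Čech complex vanishes in negative degrees -/
theorem extCech_vanishesBelow (M : ModuleCat.{u} A) :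
    ∀ (fs : List A) (i : ℤ), i < 0 → IsZero ((DerCA.extCech M fs).X i)
  | [] => fun i hi => HomologicalComplex.isZero_single_obj_X _ _ _ _ (by omega)
  | f :: fs => fun i hi => by
    refine IsZero.of_iso ?_ (DerCA.mappingCoconeXIso
      (DerCA.locCxUnit (Submonoid.powers f) (DerCA.extCech M fs)) i)
    rw [biprod_isZero_iff]
    exact ⟨extCech_vanishesBelow M fs i hi,
      (DerCA.locFunctor (Submonoid.powers f)).map_isZero
        (extCech_vanishesBelow M fs (i - 1) (by omega))⟩

end Cech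

variable {A : Type u} [CommRing A] [IsNoetherianRing A] (I J : Ideal A)
  (fs gs : List A) (hI : Ideal.span {x : A | x ∈ fs} = I) (hJ : Ideal.span {x : A | x ∈ gs} = J)
  [DRing.HasDerivedCompletion I] [DRing.HasRgammaI J]
  (M : Type u) [AddCommGroup M] [Module A M] [Module.Finite A M]

/-- `(Y^) ⊗ M ≅ (M ⊗ Y)^`, termwise, for `Y` termwise flat -/
noncomputable def ΘIso (Y : DRing.Cx A) (hfl : DRing.TermwiseFlat Y) :
    (tensR (ModuleCat.of A M)).obj (cplCx I Y) ≅ towL I (ModuleCat.of A M) Y :=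
  have h : ∀ i, IsIso ((ϑ I (ModuleCat.of A M)).app (Y.X i)) := fun i => by
    haveI := hfl i
    haveI : Module.Finite A (ModuleCat.of A M) := inferInstanceAs (Module.Finite A M)
    exact isIso_ϑ_app I (ModuleCat.of A M) (Y.X i)
  HomologicalComplex.Hom.isoOfComponents
    (fun i => @asIso _ _ _ _ ((ϑ I (ModuleCat.of A M)).app (Y.X i)) (h i))
    (fun i j _ => ((ϑ I (ModuleCat.of A M)).naturality (Y.d i j)).symm)

include hI hJ in
/-- `(RΓ_J (M[0]))^ ≅ Q ((M ⊗ Č(gs))^)` -/
theorem exists_cmp_RgammaI_iso_towL :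
    Nonempty ((cmp I).obj ((DRing.RgammaI J).obj (Q.obj (S0' (ModuleCat.of A M)))) ≅
      Q.obj (towL I (ModuleCat.of A M) (Cech gs))) := by
  obtain ⟨κ, -⟩ := exists_RgammaI_iso_cechT J gs hJ
  obtain ⟨b, hb, hfl⟩ := extCech_bounded_flat (ModuleCat.of A A) gs
  obtain ⟨-, e, -⟩ := exists_derivedCompletion_iso_tensor_cplCx I fs hI M (Cech gs) b hb hfl
  let braid : cechT gs (ModuleCat.of A M) ≅ (tensR (ModuleCat.of A M)).obj (Cech gs) :=
    (NatIso.mapHomologicalComplex (BraidedCategory.tensorLeftIsoTensorRight (ModuleCat.of A M))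
      (ComplexShape.up ℤ)).app (Cech gs)
  exact ⟨(cmp I).mapIso (κ (ModuleCat.of A M) ≪≫ Q.mapIso braid) ≪≫ e ≪≫
    Q.mapIso (ΘIso I M (Cech gs) hfl)⟩

include hI hJ in
/-- **the derived `I`-completion of `RΓ_J(M)` is a derived limit of the `RΓ_J(M / I^n M)`** -/
theorem isRlim_cmp_RgammaI [∀ K : ℕ → Dual.D A, HasProduct K] :
    DCoh.IsRlim
      (fun n : ℕ => (DRing.RgammaI J).obj (Q.obj (S0' ((quotF (I ^ n)).obj (ModuleCat.of A M)))))
      (fun n : ℕ => (DRing.RgammaI J).map (Q.map
        ((HomologicalComplex.single (ModuleCat.{u} A) (ComplexShape.up ℤ) 0).map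
          ((quotT (Ideal.pow_le_pow_right (Nat.le_succ n))).app (ModuleCat.of A M)))))
      ((cmp I).obj ((DRing.RgammaI J).obj (Q.obj (S0' (ModuleCat.of A M))))) ∧
    ∀ i : ℤ, i < 0 → IsZero ((DerivedCategory.homologyFunctor (ModuleCat.{u} A) i).obj
      ((cmp I).obj ((DRing.RgammaI J).obj (Q.obj (S0' (ModuleCat.of A M)))))) := by
  obtain ⟨l⟩ := exists_cmp_RgammaI_iso_towL I J fs gs hI hJ M
  obtain ⟨κ, hκ⟩ := exists_RgammaI_iso_cechT J gs hJ
  let M' : ModuleCat.{u} A := ModuleCat.of A M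
  let C := Cech gs
  constructor
  · have h0 := isRlim_of_isRlimVia _ _ _ _ (isRlimVia_tow I M' C)
    refine isRlim_of_tower_iso _ _ _ _
      (fun n => Q.mapIso (towφ I M' C n) ≪≫ (κ ((quotF (I ^ n)).obj M')).symm) ?_ l.symm h0
    intro n
    have h1 := towφ_comm I M' C n
    have h2 := hκ _ _ ((quotT (Ideal.pow_le_pow_right (I := I) (Nat.le_succ n))).app M')
    simp only [Iso.trans_hom, Functor.mapIso_hom, Iso.symm_hom]
    rw [← Category.assoc, ← Functor.map_comp, h1, Functor.map_comp, Category.assoc,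
      Category.assoc]
    congr 1
    rw [Iso.eq_inv_comp, ← Category.assoc, ← h2, Category.assoc, Iso.hom_inv_id, Category.comp_id]
  · intro i hi
    refine IsZero.of_iso ?_ ((DerivedCategory.homologyFunctor (ModuleCat.{u} A) i).mapIso l ≪≫
      (DerivedCategory.homologyFunctorFactors (ModuleCat.{u} A) i).app (towL I M' C))
    refine (HomologicalComplex.exactAt_iff_isZero_homology _ _).1
      (HomologicalComplex.ExactAt.of_isZero ?_)
    exact (tensorLeft M' ⋙ cplF I).map_isZero (extCech_vanishesBelow _ gs i hi)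

end Groth.Agent.Lib.helper23.TCmp
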