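import Mathlib
import Groth.Prelude.Def_TrivBC
import Groth.Prelude.Def_DTen4
import Groth.Agent.Lib.Helper23.TIB4
import Groth.Agent.Lib.Helper23.TBC10

/-!
# Tor-independent base change from tor-independence data; flat base change of the data (helper23)

* `isIso_cmp_of_data`: the comparison map `(K|_R) ⊗^L_R R' ⟶ (K ⊗^L_A A')|_{R'}` is an isomorphism as soon as there is a
  K-flat resolution `ν : N ⟶ R'` over `R` with `A ⊗_R ν` a quasi-isomorphism.
* `torIndep_data_of_flat`: such data for `R → A`, `R → R'` give data for `P → A`, `P → P' = P ⊗_R R'` when `P` is a flat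
  `R`-algebra and `A` a `P`-algebra.
-/

set_option autoImplicit false
universe u
open CategoryTheory CategoryTheory.Limits
attribute [local instance] HasDerivedCategory.standard

namespace Groth.Agent.Lib.helper23.TIB

open DTen TrivBC Groth.Agent.Lib.helper23.TBC Groth.Agent.Lib.helper13.RKF
  Groth.Agent.Lib.helper13.KFlat

/-- **tor-independent base change** from tor-independence data -/
theorem isIso_cmp_of_data (R A R' A' : Type u) [CommRing R] [CommRing A] [CommRing R'] [CommRing A']
    [Algebra R A] [Algebra R R'] [Algebra A A'] [Algebra R' A'] [Algebra R A'] [IsScalarTower R A A']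
    [IsScalarTower R R' A'] [Algebra.IsPushout R A R' A']
    {N : DRing.Cx R} (ν : N ⟶ SR (algebraMap R R')) (hN : IsKFlatR N) [QuasiIso ν]
    [QuasiIso ((Groth.Agent.Lib.helper13.ExtKFlat.extCx (algebraMap R A)).map ν)]
    [DRing.HasLBaseChange (algebraMap R R')] [DRing.HasLBaseChange (algebraMap A A')]
    (adjρ : DRing.LBaseChange (algebraMap R R') ⊣ DRing.restrictD (algebraMap R R'))
    (adjα : DRing.LBaseChange (algebraMap A A') ⊣ DRing.restrictD (algebraMap A A'))
    (h : (algebraMap A A').comp (algebraMap R A) = (algebraMap R' A').comp (algebraMap R R'))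
    (K : Dual.D A) : IsIso (TrivBC.cmp adjρ adjα h K) := by
  haveI : Algebra.IsPushout R R' A A' := Algebra.IsPushout.symm inferInstance
  haveI : DTen.HasLBase (algebraMap R R') := ⟨adjρ.isRightAdjoint⟩
  haveI : DTen.HasLBase (algebraMap A A') := ⟨adjα.isRightAdjoint⟩
  obtain ⟨F₀, ⟨e₀⟩⟩ : ∃ F₀ : DRing.Cx A, Nonempty (DerivedCategory.Q.obj F₀ ≅ K) :=
    ⟨_, ⟨DerivedCategory.Q.objObjPreimageIso K⟩⟩
  obtain ⟨F, f, hF, hf⟩ := exists_res F₀
  haveI i0 : IsIso (DerivedCategory.Q.map f) := by
    rw [DerivedCategory.isIso_Q_map_iff_quasiIso]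
    exact hf
  let e : DerivedCategory.Q.obj F ≅ K := asIso (DerivedCategory.Q.map f) ≪≫ e₀
  haveI i1 := isIso_cmpG_Q h ν hN F hF
  have nat := cmpG_naturality h (baseAdj (algebraMap R R')) (baseAdj (algebraMap A A')) e.hom
  haveI i2 : IsIso (cmpG h (baseAdj (algebraMap R R')) (baseAdj (algebraMap A A')) K) := by
    have e2 : cmpG h (baseAdj (algebraMap R R')) (baseAdj (algebraMap A A')) K =
        inv ((LBase (algebraMap R R')).map ((DRing.restrictD (algebraMap R A)).map e.hom)) ≫
          cmpG h (baseAdj (algebraMap R R')) (baseAdj (algebraMap A A')) (DerivedCategory.Q.obj F) ≫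
            (DRing.restrictD (algebraMap R' A')).map ((LBase (algebraMap A A')).map e.hom) := by
      rw [← nat, IsIso.inv_hom_id_assoc]
    rw [e2]
    infer_instance
  exact isIso_cmpG_of_isIso h adjρ (baseAdj (algebraMap R R')) adjα (baseAdj (algebraMap A A')) K

end Groth.Agent.Lib.helper23.TIB

namespace Groth.Agent.Lib.helper23.TIB

open Groth.Agent.Lib.helper23.TBC Groth.Agent.Lib.helper13.RKF Groth.Agent.Lib.helper13.KFlat

section Transfer

open Groth.Agent.Lib.helper13.ExtKFlat HomologicalComplex

variable {R R' P P' : Type u} [CommRing R] [CommRing R'] [CommRing P] [CommRing P']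
  [Algebra R R'] [Algebra R P] [Algebra R' P'] [Algebra P P'] [Algebra R P']
  [IsScalarTower R P P'] [IsScalarTower R R' P'] [Algebra.IsPushout R P R' P']

/-- flat base change of tor-independence data -/
theorem torIndep_data_of_flat [Module.Flat R P] {A : Type u} [CommRing A] [Algebra R A] [Algebra P A]
    [IsScalarTower R P A] {N₀ : DRing.Cx R} (ν₀ : N₀ ⟶ SR (algebraMap R R')) (hN₀ : IsKFlatR N₀)
    [QuasiIso ν₀] [QuasiIso ((extCx (algebraMap R A)).map ν₀)] :
    ∃ (N : DRing.Cx P) (ν : N ⟶ SR (algebraMap P P')), IsKFlatR N ∧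
      QuasiIso ν ∧ QuasiIso ((extCx (algebraMap P A)).map ν) := by
  haveI h1 : QuasiIso ((extCx (algebraMap R P)).map ν₀) := quasiIso_extCx_map_of_flat ν₀
  refine ⟨(extCx (algebraMap R P)).obj N₀, (extCx (algebraMap R P)).map ν₀ ≫ (σ R R' P P').hom,
    isKFlatR_extCx _ _ hN₀, inferInstance, ?_⟩
  rw [Functor.map_comp]
  have hcomp : algebraMap R A = (algebraMap P A).comp (algebraMap R P) := by
    ext r
    exact IsScalarTower.algebraMap_apply R P A r
  have h2 := extCxCompIso_naturality (algebraMap R P) (algebraMap P A) (algebraMap R A) hcomp ν₀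
  have h4 : QuasiIso ((Groth.Agent.Lib.helper23.PerfT.extCxCompIso (algebraMap R P) (algebraMap P A)
      (algebraMap R A) hcomp N₀).hom ≫
      (extCx (algebraMap P A)).map ((extCx (algebraMap R P)).map ν₀)) := by
    rw [← h2]
    infer_instance
  haveI h5 : QuasiIso ((extCx (algebraMap P A)).map ((extCx (algebraMap R P)).map ν₀)) :=
    quasiIso_of_comp_left
      (Groth.Agent.Lib.helper23.PerfT.extCxCompIso (algebraMap R P) (algebraMap P A)
        (algebraMap R A) hcomp N₀).hom _
  haveI : IsIso ((extCx (algebraMap P A)).map (σ R R' P P').hom) := inferInstance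
  infer_instance

end Transfer

end Groth.Agent.Lib.helper23.TIB
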