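import Mathlib
import Groth.Prelude.Def_TrivBC
import Groth.Prelude.Def_DerCA
import Groth.Agent.Lib.Helper23.TIB5
import Groth.Agent.S2137

/-!
# Base change of relative pseudo-coherence (helper23)

* `isPseudoCoherent_of_iso`;
* `isPseudoCoherent_restrict_LBaseChange`: `R → R'`, `P` a flat `R`-algebra, `P' = P ⊗_R R'`, `A` a `P`-algebra tor independent
  of `R'` over `R`, `A' = A ⊗_P P'`: if `K|_P` is `m`-pseudo-coherent then so is `(K ⊗^L_A A')|_{P'}`.
-/

set_option autoImplicit false
universe u
open CategoryTheory CategoryTheory.Limits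
attribute [local instance] HasDerivedCategory.standard

namespace Groth.Agent.Lib.helper23.TIB

open Groth.Agent.Lib.helper23.TBC Groth.Agent.Lib.helper13.RKF Groth.Agent.Lib.helper13.KFlat

lemma isPseudoCoherent_of_iso {A : Type u} [CommRing A] {K L : Dual.D A} (e : K ≅ L) (m : ℤ)
    (hK : DRing.IsPseudoCoherent A m K) : DRing.IsPseudoCoherent A m L := by
  obtain ⟨E, a, b, α, h1, h2, h3, h4⟩ := hK
  refine ⟨E, a, b, α ≫ e.hom, h1, h2, ?_, ?_⟩
  · intro i hi
    haveI := h3 i hi
    rw [Functor.map_comp]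
    infer_instance
  · haveI := h4
    rw [Functor.map_comp]
    infer_instance

variable {R R' P P' A A' : Type u} [CommRing R] [CommRing R'] [CommRing P] [CommRing P']
  [CommRing A] [CommRing A']
  [Algebra R R'] [Algebra R P] [Algebra R' P'] [Algebra P P'] [Algebra R P']
  [IsScalarTower R P P'] [IsScalarTower R R' P'] [Algebra.IsPushout R P R' P'] [Module.Flat R P]
  [Algebra R A] [Algebra P A] [IsScalarTower R P A]
  [Algebra A A'] [Algebra P' A'] [Algebra P A'] [IsScalarTower P A A'] [IsScalarTower P P' A']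
  [Algebra.IsPushout P A P' A']

include R R' in
theorem isPseudoCoherent_restrict_LBaseChange
    (htor : ∀ p : ℕ, 0 < p → Subsingleton (DRing.Tor R p A R'))
    [DRing.HasLBaseChange (algebraMap A A')] (K : Dual.D A) (m : ℤ)
    (hK : DRing.IsPseudoCoherent P m ((DRing.restrictD (algebraMap P A)).obj K)) :
    DRing.IsPseudoCoherent P' m ((DRing.restrictD (algebraMap P' A')).obj
      ((DRing.LBaseChange (algebraMap A A')).obj K)) := by
  obtain ⟨N₀, ν₀, hN₀, -, hν₀, hν₀'⟩ := exists_torIndep_resolution R A R' (fun p hp => htor p hp)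
  haveI := hν₀
  haveI := hν₀'
  obtain ⟨N, ν, hN, hν, hν'⟩ := torIndep_data_of_flat (P := P) (P' := P') (A := A) ν₀ hN₀
  haveI := hν
  haveI := hν'
  haveI := hasLBaseChange (algebraMap P P')
  obtain ⟨adjρ, -⟩ := exists_adjunction (algebraMap P P')
  obtain ⟨adjα, -⟩ := exists_adjunction (algebraMap A A')
  have h : (algebraMap A A').comp (algebraMap P A) = (algebraMap P' A').comp (algebraMap P P') := by
    rw [← IsScalarTower.algebraMap_eq, ← IsScalarTower.algebraMap_eq]
  haveI := isIso_cmp_of_data P A P' A' ν hN adjρ adjα h K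
  exact isPseudoCoherent_of_iso (asIso (TrivBC.cmp adjρ adjα h K)) m
    (Groth.Agent.S2137.result _ _ m hK)

end Groth.Agent.Lib.helper23.TIB
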