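import Mathlib
import Groth.Prelude.Def_TrivBC
import Groth.Prelude.Def_DerCA
import Groth.Agent.Lib.Helper23.TIB6

/-!
# Base change of relative pseudo-coherence: presentations (helper23)

* `presBC α : R'[x] →ₐ[R'] R' ⊗_R A`, the base change of a presentation `α : R[x] →ₐ[R] A`, surjective if `α` is;
* `isRelPseudoCoherent_LBaseChange`: if `Tor_p^R(A, R') = 0` for `p > 0` and `K` is `m`-pseudo-coherent relative to `R`
  then `K ⊗^L_A (R' ⊗_R A)` is `m`-pseudo-coherent relative to `R'`.
-/

set_option autoImplicit false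
universe u
open CategoryTheory CategoryTheory.Limits TensorProduct
attribute [local instance] HasDerivedCategory.standard

namespace Groth.Agent.Lib.helper23.TIB

attribute [local instance] Algebra.TensorProduct.rightAlgebra MvPolynomial.algebraMvPolynomial

section
variable {R A R' : Type u} [CommRing R] [CommRing A] [CommRing R'] [Algebra R A] [Algebra R R']
  {n : ℕ} (α : MvPolynomial (Fin n) R →ₐ[R] A)

/-- the base change of a presentation -/
noncomputable def presBC : MvPolynomial (Fin n) R' →ₐ[R'] R' ⊗[R] A :=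
  MvPolynomial.aeval (fun i => (1 : R') ⊗ₜ[R] α (MvPolynomial.X i))

lemma presBC_map (p : MvPolynomial (Fin n) R) :
    presBC (R' := R') α (MvPolynomial.map (algebraMap R R') p) = (1 : R') ⊗ₜ[R] α p := by
  induction p using MvPolynomial.induction_on with
  | C r =>
    have h1 : α (MvPolynomial.C r) = algebraMap R A r := by
      rw [← MvPolynomial.algebraMap_eq, α.commutes]
    rw [MvPolynomial.map_C, presBC, MvPolynomial.aeval_C, h1,
      Algebra.TensorProduct.algebraMap_apply, Algebra.algebraMap_eq_smul_one r,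
      Algebra.algebraMap_eq_smul_one r, Algebra.algebraMap_self, RingHom.id_apply,
      TensorProduct.smul_tmul]
  | add p q hp hq => rw [map_add, map_add, hp, hq, map_add, TensorProduct.tmul_add]
  | mul_X p i hp =>
    rw [map_mul, map_mul, hp, MvPolynomial.map_X, presBC, MvPolynomial.aeval_X, map_mul,
      Algebra.TensorProduct.tmul_mul_tmul, one_mul]

lemma presBC_surjective (hα : Function.Surjective α) :
    Function.Surjective (presBC (R' := R') α) := by
  intro x
  induction x using TensorProduct.induction_on with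
  | zero => exact ⟨0, map_zero _⟩
  | tmul r a =>
    obtain ⟨p, rfl⟩ := hα a
    refine ⟨MvPolynomial.C r * MvPolynomial.map (algebraMap R R') p, ?_⟩
    rw [map_mul, presBC_map, presBC, MvPolynomial.aeval_C, Algebra.TensorProduct.algebraMap_apply,
      Algebra.TensorProduct.tmul_mul_tmul, mul_one, one_mul]
    rfl
  | add x y hx hy =>
    obtain ⟨p, rfl⟩ := hx
    obtain ⟨q, rfl⟩ := hy
    exact ⟨p + q, map_add _ _ _⟩

end

theorem isRelPseudoCoherent_LBaseChange {R A R' : Type u} [CommRing R] [CommRing A]
    [CommRing R'] [Algebra R A] [Algebra R R']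
    (htor : ∀ p : ℕ, 0 < p → Subsingleton (DRing.Tor R p A R'))
    [DRing.HasLBaseChange
      (Algebra.TensorProduct.includeRight : A →ₐ[R] TensorProduct R R' A).toRingHom]
    (K : Dual.D A) (m : ℤ) (hK : DerCA.IsRelPseudoCoherent R A m K) :
    DerCA.IsRelPseudoCoherent R' (TensorProduct R R' A) m
      ((DRing.LBaseChange
        (Algebra.TensorProduct.includeRight : A →ₐ[R] TensorProduct R R' A).toRingHom).obj K) := by
  obtain ⟨n, α, hα, hK⟩ := hK
  refine ⟨n, presBC α, presBC_surjective α hα, ?_⟩
  letI iPA : Algebra (MvPolynomial (Fin n) R) A := α.toRingHom.toAlgebra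
  haveI t1 : IsScalarTower R (MvPolynomial (Fin n) R) A :=
    IsScalarTower.of_algebraMap_eq (fun r => (α.commutes r).symm)
  letI iP'A' : Algebra (MvPolynomial (Fin n) R') (R' ⊗[R] A) := (presBC (R' := R') α).toRingHom.toAlgebra
  letI iPA' : Algebra (MvPolynomial (Fin n) R) (R' ⊗[R] A) :=
    ((algebraMap A (R' ⊗[R] A)).comp (algebraMap (MvPolynomial (Fin n) R) A)).toAlgebra
  haveI t2 : IsScalarTower (MvPolynomial (Fin n) R) A (R' ⊗[R] A) :=
    IsScalarTower.of_algebraMap_eq (fun _ => rfl)
  haveI t3 : IsScalarTower (MvPolynomial (Fin n) R) (MvPolynomial (Fin n) R') (R' ⊗[R] A) :=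
    IsScalarTower.of_algebraMap_eq (fun p => (presBC_map α p).symm)
  haveI t4 : IsScalarTower R' (MvPolynomial (Fin n) R') (R' ⊗[R] A) :=
    IsScalarTower.of_algebraMap_eq (fun r => ((presBC (R' := R') α).commutes r).symm)
  haveI t5 : IsScalarTower R (MvPolynomial (Fin n) R') (R' ⊗[R] A) :=
    IsScalarTower.of_algebraMap_eq (fun r => by
      rw [IsScalarTower.algebraMap_apply R R' (MvPolynomial (Fin n) R'),
        ← IsScalarTower.algebraMap_apply R' (MvPolynomial (Fin n) R') (R' ⊗[R] A),
        ← IsScalarTower.algebraMap_apply R R' (R' ⊗[R] A)])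
  haveI p1 : Algebra.IsPushout R A R' (R' ⊗[R] A) := TensorProduct.isPushout'
  haveI p2 : Algebra.IsPushout (MvPolynomial (Fin n) R) A (MvPolynomial (Fin n) R') (R' ⊗[R] A) :=
    (Algebra.IsPushout.comp_iff (R := R) (S := MvPolynomial (Fin n) R) (R' := R')
      (S' := MvPolynomial (Fin n) R') (T := A) (T' := R' ⊗[R] A)).1 p1
  haveI : DRing.HasLBaseChange (algebraMap A (R' ⊗[R] A)) :=
    (inferInstance : DRing.HasLBaseChange
      (Algebra.TensorProduct.includeRight : A →ₐ[R] TensorProduct R R' A).toRingHom)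
  exact isPseudoCoherent_restrict_LBaseChange (R := R) (R' := R') (P := MvPolynomial (Fin n) R)
    (P' := MvPolynomial (Fin n) R') (A := A) (A' := R' ⊗[R] A) htor K m hK

end Groth.Agent.Lib.helper23.TIB
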