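import Mathlib

/-!
# Termwise split factorizations of a morphism of cochain complexes (helper23)

`K ⟶ cone(𝟙 K) ⊞ L ⟶ L`.
-/

set_option autoImplicit false
universe v u

open CategoryTheory CategoryTheory.Limits CochainComplex HomComplex

namespace Groth.Agent.Lib.helper23.TSplit

variable {V : Type u} [Category.{v} V] [Preadditive V] [HasBinaryBiproducts V] [HasZeroObject V]
  (K L : CochainComplex V ℤ) (α : K ⟶ L)

/-- The middle object of the factorization. -/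
noncomputable abbrev mid : CochainComplex V ℤ := mappingCone (𝟙 K) ⊞ L

/-- the termwise split injection `K ⟶ cone(𝟙 K) ⊞ L`. -/
noncomputable def ι : K ⟶ mid K L := biprod.lift (mappingCone.inr (𝟙 K)) α

/-- the projection `cone(𝟙 K) ⊞ L ⟶ L`. -/
noncomputable abbrev π : mid K L ⟶ L := biprod.snd

/-- the section of `π`. -/
noncomputable abbrev σ : L ⟶ mid K L := biprod.inr

@[reassoc (attr := simp)]
lemma ι_π : ι K L α ≫ π K L = α := by simp [ι]

lemma σ_π : σ K L ≫ π K L = 𝟙 L := by simp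

/-- `π ≫ σ` is homotopic to the identity (as in Mathlib's `cm5b.homotopyEquiv`). -/
noncomputable def homotopy : Homotopy (π K L ≫ σ K L) (𝟙 (mid K L)) :=
  let h₀ : Homotopy (𝟙 (mappingCone (𝟙 K))) 0 :=
    mappingCone.liftHomotopy _ _ _ (mappingCone.snd _) 0 (by simp) (by simp)
  let h₁ := (h₀.compRight
    (biprod.inl : _ ⟶ mappingCone (𝟙 K) ⊞ L)).compLeft
      (biprod.fst : mappingCone (𝟙 K) ⊞ L ⟶ _)
  let h₂ := Homotopy.add h₁ (Homotopy.refl (biprod.snd ≫ biprod.inr))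
  (Homotopy.ofEq (by simp)).trans (h₂.symm.trans (Homotopy.ofEq (by simp)))

/-- the homotopy equivalence `cone(𝟙 K) ⊞ L ≃ L`. -/
noncomputable def homotopyEquiv : HomotopyEquiv (mid K L) L where
  hom := π K L
  inv := σ K L
  homotopyHomInvId := homotopy K L
  homotopyInvHomId := Homotopy.ofEq (by simp)

section Termwise

variable (n : ℤ)

/-- projection to `K.X n`. -/
noncomputable def pX : (mid K L).X n ⟶ K.X n :=
  (biprod.fst : mid K L ⟶ _).f n ≫ (mappingCone.snd (𝟙 K)).v n n (add_zero n)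

/-- projection to `K.X (n+1)`. -/
noncomputable def pY : (mid K L).X n ⟶ K.X (n + 1) :=
  (biprod.fst : mid K L ⟶ _).f n ≫ (mappingCone.fst (𝟙 K)).1.v n (n + 1) rfl

/-- projection to `L.X n`. -/
noncomputable def pL : (mid K L).X n ⟶ L.X n := (biprod.snd : mid K L ⟶ _).f n

/-- inclusion of `K.X n`. -/
noncomputable def iX : K.X n ⟶ (mid K L).X n :=
  (mappingCone.inr (𝟙 K)).f n ≫ (biprod.inl : _ ⟶ mid K L).f n

/-- inclusion of `K.X (n+1)`. -/
noncomputable def iY : K.X (n + 1) ⟶ (mid K L).X n :=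
  (mappingCone.inl (𝟙 K)).v (n + 1) n (by lia) ≫ (biprod.inl : _ ⟶ mid K L).f n

/-- inclusion of `L.X n`. -/
noncomputable def iL : L.X n ⟶ (mid K L).X n := (biprod.inr : _ ⟶ mid K L).f n

@[reassoc (attr := simp)] lemma iX_pX : iX K L n ≫ pX K L n = 𝟙 _ := by
  simp [iX, pX]
@[reassoc (attr := simp)] lemma iX_pY : iX K L n ≫ pY K L n = 0 := by
  simp [iX, pY]
@[reassoc (attr := simp)] lemma iX_pL : iX K L n ≫ pL K L n = 0 := by
  simp [iX, pL]
@[reassoc (attr := simp)] lemma iY_pX : iY K L n ≫ pX K L n = 0 := by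
  simp [iY, pX]
@[reassoc (attr := simp)] lemma iY_pY : iY K L n ≫ pY K L n = 𝟙 _ := by
  simp [iY, pY]
@[reassoc (attr := simp)] lemma iY_pL : iY K L n ≫ pL K L n = 0 := by
  simp [iY, pL]
@[reassoc (attr := simp)] lemma iL_pX : iL K L n ≫ pX K L n = 0 := by
  simp [iL, pX]
@[reassoc (attr := simp)] lemma iL_pY : iL K L n ≫ pY K L n = 0 := by
  simp [iL, pY]
@[reassoc (attr := simp)] lemma iL_pL : iL K L n ≫ pL K L n = 𝟙 _ := by
  simp [iL, pL]

lemma total : pX K L n ≫ iX K L n + pY K L n ≫ iY K L n + pL K L n ≫ iL K L n = 𝟙 _ := by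
  have h1 := mappingCone.id_X (𝟙 K) n (n + 1) rfl
  have h2 := HomologicalComplex.biprod_total_f (mappingCone (𝟙 K)) L n
  simp only [pX, iX, pY, iY, pL, iL, Category.assoc]
  rw [← h2]
  congr 1
  have h3 : (biprod.fst : mid K L ⟶ _).f n ≫ (biprod.inl : _ ⟶ mid K L).f n =
      (biprod.fst : mid K L ⟶ _).f n ≫ 𝟙 _ ≫ (biprod.inl : _ ⟶ mid K L).f n := by simp
  rw [h3, ← h1]
  simp only [Preadditive.add_comp, Preadditive.comp_add, Category.assoc]
  abel

@[reassoc] lemma ι_f_pX : (ι K L α).f n ≫ pX K L n = 𝟙 _ := by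
  simp [ι, pX, ← HomologicalComplex.comp_f_assoc]
@[reassoc] lemma ι_f_pY : (ι K L α).f n ≫ pY K L n = 0 := by
  simp [ι, pY, ← HomologicalComplex.comp_f_assoc]
@[reassoc] lemma ι_f_pL : (ι K L α).f n ≫ pL K L n = α.f n := by
  simp [ι, pL, ← HomologicalComplex.comp_f]

/-- the shear isomorphism `(cone(𝟙 K) ⊞ L)ⁿ ≅ Kⁿ ⊞ (Kⁿ⁺¹ ⊞ Lⁿ)`. -/
noncomputable def shear : (mid K L).X n ≅ K.X n ⊞ (K.X (n + 1) ⊞ L.X n) where
  hom := biprod.lift (pX K L n) (biprod.lift (pY K L n) (pL K L n - pX K L n ≫ α.f n))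
  inv := biprod.fst ≫ (iX K L n + α.f n ≫ iL K L n) +
    biprod.snd ≫ (biprod.fst ≫ iY K L n + biprod.snd ≫ iL K L n)
  hom_inv_id := by
    rw [← total K L n]
    simp only [Preadditive.comp_add, biprod.lift_fst_assoc, biprod.lift_snd_assoc,
      Preadditive.sub_comp, Category.assoc]
    abel
  inv_hom_id := by
    apply biprod.hom_ext
    · apply biprod.hom_ext' <;> simp
    · apply biprod.hom_ext
      · apply biprod.hom_ext'
        · simp
        · apply biprod.hom_ext' <;> simp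
      · apply biprod.hom_ext'
        · simp
        · apply biprod.hom_ext' <;> simp

lemma ι_f_shear_hom : (ι K L α).f n ≫ (shear K L α n).hom = biprod.inl := by
  apply biprod.hom_ext
  · simp [shear, ι_f_pX]
  · apply biprod.hom_ext
    · simp [shear, ι_f_pY]
    · simp [shear, ι_f_pL, ι_f_pX_assoc]

end Termwise

lemma isStrictlyGE (a : ℤ) [K.IsStrictlyGE a] [L.IsStrictlyGE a] :
    (mid K L).IsStrictlyGE (a - 1) := by
  rw [isStrictlyGE_iff]
  intro i hi
  refine IsZero.of_iso ?_ ((HomologicalComplex.eval V (ComplexShape.up ℤ) i).mapBiprod _ _)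
  simp only [HomologicalComplex.eval_obj, biprod_isZero_iff, mappingCone.isZero_X_iff]
  exact ⟨⟨K.isZero_of_isStrictlyGE a _ (by lia), K.isZero_of_isStrictlyGE a _ (by lia)⟩,
    L.isZero_of_isStrictlyGE a i (by lia)⟩

lemma isStrictlyLE (a : ℤ) [K.IsStrictlyLE a] [L.IsStrictlyLE a] :
    (mid K L).IsStrictlyLE a := by
  rw [isStrictlyLE_iff]
  intro i hi
  refine IsZero.of_iso ?_ ((HomologicalComplex.eval V (ComplexShape.up ℤ) i).mapBiprod _ _)
  simp only [HomologicalComplex.eval_obj, biprod_isZero_iff, mappingCone.isZero_X_iff]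
  exact ⟨⟨K.isZero_of_isStrictlyLE a _ (by lia), K.isZero_of_isStrictlyLE a _ (by lia)⟩,
    L.isZero_of_isStrictlyLE a i (by lia)⟩

/-- Statement S6598. -/
theorem exists_factorization :
    ∃ (L' : CochainComplex V ℤ) (α' : K ⟶ L') (π : L' ⟶ L) (s : L ⟶ L'),
      α' ≫ π = α ∧ s ≫ π = 𝟙 L ∧ Nonempty (Homotopy (π ≫ s) (𝟙 L')) ∧
      (∀ n : ℤ, ∃ (C : V) (e : L'.X n ≅ K.X n ⊞ C), α'.f n ≫ e.hom = biprod.inl) ∧
      (∀ a : ℤ, K.IsStrictlyGE a → L.IsStrictlyGE a → ∃ a' : ℤ, L'.IsStrictlyGE a') ∧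
      (∀ a : ℤ, K.IsStrictlyLE a → L.IsStrictlyLE a → ∃ a' : ℤ, L'.IsStrictlyLE a') :=
  ⟨mid K L, ι K L α, π K L, σ K L, ι_π K L α, σ_π K L, ⟨homotopy K L⟩,
    fun n => ⟨_, shear K L α n, ι_f_shear_hom K L α n⟩,
    fun a _ _ => ⟨a - 1, isStrictlyGE K L a⟩, fun a _ _ => ⟨a, isStrictlyLE K L a⟩⟩

end Groth.Agent.Lib.helper23.TSplit
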