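import Mathlib
import Groth.Agent.Lib.Helper23.TSplit

/-!
# Replacing a sequence of complexes by termwise split injections (helper23)
-/

set_option autoImplicit false
universe v u

open CategoryTheory CategoryTheory.Limits CochainComplex HomComplex

namespace Groth.Agent.Lib.helper23.TSplit

variable {V : Type u} [Category.{v} V] [Preadditive V] [HasBinaryBiproducts V] [HasZeroObject V]

/-- A complex with a homotopy equivalence to `X`. -/
structure Stage (X : CochainComplex V ℤ) where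
  B : CochainComplex V ℤ
  e : HomotopyEquiv B X

variable (X : ℕ → CochainComplex V ℤ) (a : ∀ i, X i ⟶ X (i + 1))

/-- next stage. -/
noncomputable def Stage.next {i : ℕ} (st : Stage (X i)) : Stage (X (i + 1)) :=
  ⟨mid st.B (X (i + 1)), homotopyEquiv st.B (X (i + 1))⟩

/-- the sequence of stages. -/
noncomputable def stageSeq : (i : ℕ) → Stage (X i)
  | 0 => ⟨X 0, HomotopyEquiv.refl _⟩
  | (i + 1) => (stageSeq i).next X

/-- the transition maps. -/
noncomputable def stageMap (i : ℕ) : (stageSeq X i).B ⟶ (stageSeq X (i + 1)).B :=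
  ι (stageSeq X i).B (X (i + 1)) ((stageSeq X i).e.hom ≫ a i)

lemma stageMap_comp (i : ℕ) :
    stageMap X a i ≫ (stageSeq X (i + 1)).e.hom = (stageSeq X i).e.hom ≫ a i :=
  ι_π _ _ _

theorem exists_sequence :
    ∃ (B : ℕ → CochainComplex V ℤ) (b : ∀ i, B i ⟶ B (i + 1)) (e : ∀ i, HomotopyEquiv (B i) (X i)),
      (∀ i, b i ≫ (e (i + 1)).hom = (e i).hom ≫ a i) ∧
      (∀ (i : ℕ) (n : ℤ), ∃ (C : V) (ε : (B (i + 1)).X n ≅ (B i).X n ⊞ C),
        (b i).f n ≫ ε.hom = biprod.inl) ∧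
      ((∀ i, ∃ m : ℤ, (X i).IsStrictlyGE m) → ∀ i, ∃ m : ℤ, (B i).IsStrictlyGE m) ∧
      ((∀ i, ∃ m : ℤ, (X i).IsStrictlyLE m) → ∀ i, ∃ m : ℤ, (B i).IsStrictlyLE m) := by
  refine ⟨fun i => (stageSeq X i).B, stageMap X a, fun i => (stageSeq X i).e, stageMap_comp X a,
    fun i n => ⟨_, shear (stageSeq X i).B (X (i + 1)) ((stageSeq X i).e.hom ≫ a i) n,
      ι_f_shear_hom _ _ _ n⟩, ?_, ?_⟩
  · intro hX i
    induction i with
    | zero => exact hX 0
    | succ i ih =>
      obtain ⟨m₁, h₁⟩ := ih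
      obtain ⟨m₂, h₂⟩ := hX (i + 1)
      haveI : (stageSeq X i).B.IsStrictlyGE (min m₁ m₂) :=
        (stageSeq X i).B.isStrictlyGE_of_ge _ m₁ (min_le_left _ _)
      haveI : (X (i + 1)).IsStrictlyGE (min m₁ m₂) :=
        (X (i + 1)).isStrictlyGE_of_ge _ m₂ (min_le_right _ _)
      exact ⟨min m₁ m₂ - 1, isStrictlyGE (stageSeq X i).B (X (i + 1)) (min m₁ m₂)⟩
  · intro hX i
    induction i with
    | zero => exact hX 0
    | succ i ih =>
      obtain ⟨m₁, h₁⟩ := ih
      obtain ⟨m₂, h₂⟩ := hX (i + 1)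
      haveI : (stageSeq X i).B.IsStrictlyLE (max m₁ m₂) :=
        (stageSeq X i).B.isStrictlyLE_of_le m₁ _ (le_max_left _ _)
      haveI : (X (i + 1)).IsStrictlyLE (max m₁ m₂) :=
        (X (i + 1)).isStrictlyLE_of_le m₂ _ (le_max_right _ _)
      exact ⟨max m₁ m₂, isStrictlyLE (stageSeq X i).B (X (i + 1)) (max m₁ m₂)⟩

end Groth.Agent.Lib.helper23.TSplit
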