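import Mathlib

/-!
# Termwise split surjective factorization `K ⟶ K ⊞ cocone(𝟙 L) ⟶ L` (helper23)
-/

set_option autoImplicit false
universe v u

open CategoryTheory CategoryTheory.Limits CochainComplex HomComplex

namespace Groth.Agent.Lib.helper23.TSplitS

variable {V : Type u} [Category.{v} V] [Preadditive V] [HasBinaryBiproducts V] [HasZeroObject V]
  (K L : CochainComplex V ℤ) (α : K ⟶ L)

/-- The middle object of the factorization. -/
noncomputable abbrev mid : CochainComplex V ℤ := K ⊞ mappingCocone (𝟙 L)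

/-- the inclusion `K ⟶ K ⊞ cocone(𝟙 L)`. -/
noncomputable abbrev ι : K ⟶ mid K L := biprod.inl

/-- the retraction. -/
noncomputable abbrev ρ : mid K L ⟶ K := biprod.fst

/-- the termwise split surjection `K ⊞ cocone(𝟙 L) ⟶ L`. -/
noncomputable def π : mid K L ⟶ L := biprod.desc α (mappingCocone.fst (𝟙 L))

lemma π_eq : π K L α = (biprod.fst : mid K L ⟶ _) ≫ α +
    (biprod.snd : mid K L ⟶ _) ≫ mappingCocone.fst (𝟙 L) := by
  apply biprod.hom_ext' <;> simp [π]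

@[reassoc (attr := simp)]
lemma ι_π : ι K L ≫ π K L α = α := by simp [π]

lemma ι_ρ : ι K L ≫ ρ K L = 𝟙 K := by simp

/-- the cocone of the identity is contractible. -/
noncomputable def nullHomotopy : Homotopy (𝟙 (mappingCocone (𝟙 L))) 0 := by
  let h₀ : Homotopy (𝟙 (mappingCone (𝟙 L))) 0 :=
    mappingCone.liftHomotopy _ _ _ (mappingCone.snd _) 0 (by simp) (by simp)
  unfold mappingCocone
  exact (Homotopy.ofEq (by simp)).trans ((h₀.shift (-1)).trans (Homotopy.ofEq (by simp)))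

/-- `ρ ≫ ι` is homotopic to the identity. -/
noncomputable def homotopy : Homotopy (ρ K L ≫ ι K L) (𝟙 (mid K L)) :=
  let h₁ := ((nullHomotopy L).compRight
    (biprod.inr : _ ⟶ K ⊞ mappingCocone (𝟙 L))).compLeft
      (biprod.snd : K ⊞ mappingCocone (𝟙 L) ⟶ _)
  let h₂ := Homotopy.add (Homotopy.refl (biprod.fst ≫ biprod.inl)) h₁
  (Homotopy.ofEq (by simp)).trans (h₂.symm.trans (Homotopy.ofEq (by simp)))

section Termwise

variable (n : ℤ)

/-- projection to `K.X n`. -/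
noncomputable def pK : (mid K L).X n ⟶ K.X n := (biprod.fst : mid K L ⟶ _).f n

/-- projection to `L.X n`. -/
noncomputable def pL0 : (mid K L).X n ⟶ L.X n :=
  (biprod.snd : mid K L ⟶ _).f n ≫ (mappingCocone.fst (𝟙 L)).f n

/-- projection to `L.X (n-1)`. -/
noncomputable def pL1 : (mid K L).X n ⟶ L.X (n - 1) :=
  (biprod.snd : mid K L ⟶ _).f n ≫ (mappingCocone.snd (𝟙 L)).v n (n - 1) (by lia)

/-- inclusion of `K.X n`. -/
noncomputable def iK : K.X n ⟶ (mid K L).X n := (biprod.inl : _ ⟶ mid K L).f n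

/-- inclusion of `L.X n`. -/
noncomputable def iL0 : L.X n ⟶ (mid K L).X n :=
  (mappingCocone.inl (𝟙 L)).v n n (add_zero n) ≫ (biprod.inr : _ ⟶ mid K L).f n

/-- inclusion of `L.X (n-1)`. -/
noncomputable def iL1 : L.X (n - 1) ⟶ (mid K L).X n :=
  (mappingCocone.inr (𝟙 L)).1.v (n - 1) n (by lia) ≫ (biprod.inr : _ ⟶ mid K L).f n

@[reassoc (attr := simp)] lemma iK_pK : iK K L n ≫ pK K L n = 𝟙 _ := by simp [iK, pK]
@[reassoc (attr := simp)] lemma iK_pL0 : iK K L n ≫ pL0 K L n = 0 := by simp [iK, pL0]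
@[reassoc (attr := simp)] lemma iK_pL1 : iK K L n ≫ pL1 K L n = 0 := by simp [iK, pL1]
@[reassoc (attr := simp)] lemma iL0_pK : iL0 K L n ≫ pK K L n = 0 := by simp [iL0, pK]
@[reassoc (attr := simp)] lemma iL0_pL0 : iL0 K L n ≫ pL0 K L n = 𝟙 _ := by simp [iL0, pL0]
@[reassoc (attr := simp)] lemma iL0_pL1 : iL0 K L n ≫ pL1 K L n = 0 := by simp [iL0, pL1]
@[reassoc (attr := simp)] lemma iL1_pK : iL1 K L n ≫ pK K L n = 0 := by simp [iL1, pK]
@[reassoc (attr := simp)] lemma iL1_pL0 : iL1 K L n ≫ pL0 K L n = 0 := by simp [iL1, pL0]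
@[reassoc (attr := simp)] lemma iL1_pL1 : iL1 K L n ≫ pL1 K L n = 𝟙 _ := by simp [iL1, pL1]

lemma total : pK K L n ≫ iK K L n + pL0 K L n ≫ iL0 K L n + pL1 K L n ≫ iL1 K L n = 𝟙 _ := by
  have h1 := mappingCocone.id_X (𝟙 L) n (n - 1) (by lia)
  have h2 := HomologicalComplex.biprod_total_f K (mappingCocone (𝟙 L)) n
  simp only [pK, iK, pL0, iL0, pL1, iL1, Category.assoc]
  rw [← h2, add_assoc]
  congr 1
  have h3 : (biprod.snd : mid K L ⟶ _).f n ≫ (biprod.inr : _ ⟶ mid K L).f n =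
      (biprod.snd : mid K L ⟶ _).f n ≫ 𝟙 _ ≫ (biprod.inr : _ ⟶ mid K L).f n := by simp
  rw [h3, ← h1]
  simp only [Preadditive.add_comp, Preadditive.comp_add, Category.assoc]

lemma π_f : (π K L α).f n = pK K L n ≫ α.f n + pL0 K L n := by
  rw [π_eq]
  simp [pK, pL0]

/-- the shear isomorphism `(K ⊞ cocone(𝟙 L))ⁿ ≅ (Kⁿ ⊞ Lⁿ⁻¹) ⊞ Lⁿ`. -/
noncomputable def shear : (mid K L).X n ≅ (K.X n ⊞ L.X (n - 1)) ⊞ L.X n where
  hom := biprod.lift (biprod.lift (pK K L n) (pL1 K L n)) ((π K L α).f n)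
  inv := biprod.fst ≫ (biprod.fst ≫ (iK K L n - α.f n ≫ iL0 K L n) + biprod.snd ≫ iL1 K L n) +
    biprod.snd ≫ iL0 K L n
  hom_inv_id := by
    rw [← total K L n, π_f]
    simp only [Preadditive.comp_add, biprod.lift_fst_assoc, biprod.lift_snd_assoc,
      Preadditive.comp_sub, Preadditive.add_comp, Category.assoc]
    abel
  inv_hom_id := by
    rw [π_f]
    apply biprod.hom_ext
    · apply biprod.hom_ext
      · apply biprod.hom_ext'
        · apply biprod.hom_ext' <;> simp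
        · simp
      · apply biprod.hom_ext'
        · apply biprod.hom_ext' <;> simp
        · simp
    · apply biprod.hom_ext'
      · apply biprod.hom_ext' <;> simp
      · simp

lemma shear_inv_π_f : (shear K L α n).inv ≫ (π K L α).f n = biprod.snd := by
  rw [π_f]
  apply biprod.hom_ext'
  · apply biprod.hom_ext' <;> simp [shear]
  · simp [shear]

end Termwise

lemma isStrictlyGE (a : ℤ) [K.IsStrictlyGE a] [L.IsStrictlyGE a] :
    (mid K L).IsStrictlyGE a := by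
  rw [isStrictlyGE_iff]
  intro i hi
  refine IsZero.of_iso ?_ (shear K L (0 : K ⟶ L) i)
  simp only [biprod_isZero_iff]
  exact ⟨⟨K.isZero_of_isStrictlyGE a _ (by lia), L.isZero_of_isStrictlyGE a _ (by lia)⟩,
    L.isZero_of_isStrictlyGE a i (by lia)⟩

lemma isStrictlyLE (a : ℤ) [K.IsStrictlyLE a] [L.IsStrictlyLE a] :
    (mid K L).IsStrictlyLE (a + 1) := by
  rw [isStrictlyLE_iff]
  intro i hi
  refine IsZero.of_iso ?_ (shear K L (0 : K ⟶ L) i)
  simp only [biprod_isZero_iff]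
  exact ⟨⟨K.isZero_of_isStrictlyLE a _ (by lia), L.isZero_of_isStrictlyLE a _ (by lia)⟩,
    L.isZero_of_isStrictlyLE a i (by lia)⟩

/-- Statement S6599. -/
theorem exists_factorization :
    ∃ (K' : CochainComplex V ℤ) (i : K ⟶ K') (α' : K' ⟶ L) (s : K' ⟶ K),
      i ≫ α' = α ∧ i ≫ s = 𝟙 K ∧ Nonempty (Homotopy (s ≫ i) (𝟙 K')) ∧
      (∀ n : ℤ, ∃ (C : V) (e : K'.X n ≅ C ⊞ L.X n), e.inv ≫ α'.f n = biprod.snd) ∧
      (∀ a : ℤ, K.IsStrictlyGE a → L.IsStrictlyGE a → ∃ a' : ℤ, K'.IsStrictlyGE a') ∧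
      (∀ a : ℤ, K.IsStrictlyLE a → L.IsStrictlyLE a → ∃ a' : ℤ, K'.IsStrictlyLE a') :=
  ⟨mid K L, ι K L, π K L α, ρ K L, ι_π K L α, ι_ρ K L, ⟨homotopy K L⟩,
    fun n => ⟨_, shear K L α n, shear_inv_π_f K L α n⟩,
    fun a _ _ => ⟨a, isStrictlyGE K L a⟩, fun a _ _ => ⟨a + 1, isStrictlyLE K L a⟩⟩

end Groth.Agent.Lib.helper23.TSplitS
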