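import Mathlib
import Groth.Agent.Lib.Helper7.TorAPI
import Groth.Agent.Lib.Helper7.TorAPI2
import Groth.Agent.Lib.Helper7.TorAPI3
import Groth.Agent.Lib.Helper23.TA2
import Groth.Agent.Lib.Helper23.FlatGlue

/-!
# Flatness from a finite cover of `Spec A ∖ V(I)`, the quotient `A/I`, and finitely many `Tor`s (helper23)

* `flat_quotient_range_nat`, `lTensor_exact_nat`: a complex `… → X₁ → X₀ → 0` of flat modules exact at
  `X₀, …, X_m` stays exact in that range after `N ⊗ -`.
* `isZero_T_succ_iff_left`: `Tor_{q+1}(M, N) = 0` iff `N ⊗ P` is exact at `q+1`, `P` a projective resolution of the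
  FIRST variable `M` (balancing).
* `isZero_T_of_baseChange`: if `B ⊗ M` is `B`-flat and `B ⊗ P` exact in degrees `1 ≤ n < m` then
  `Tor_n^A(M, N) = 0` for `1 ≤ n < m` and every `B`-module `N`.
* `PrW M d N` (`Tor_n(M,N) = 0` for `1 ≤ n ≤ d`), `PrW.middle/left/of_directed/of_pow_smul/of_pow_torsion/devissage`,
  `KB s N` (`N` killed by `s`), `prW_of_flat_away`, `prW_of_flat_mod`, `prW_of_generators`.
* `flat_of_flat_away_of_flat_mod_of_tor` (S6377).
-/

set_option autoImplicit false
universe u
open CategoryTheory CategoryTheory.Limits TensorProduct MonoidalCategory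

namespace Groth.Agent.Lib.helper23.TorFlat

open Groth.Agent.Lib.helper7.TorAPI Groth.Agent.Lib.helper23.TA

section Nat

variable {B : Type u} [CommRing B] (X : ℕ → Type u) [∀ k, AddCommGroup (X k)]
  [∀ k, Module B (X k)] (d : ∀ k, X (k + 1) →ₗ[B] X k)

/-- In a complex `… → X₂ → X₁ → X₀ → 0` of flat modules exact at `X₀, …, X_m`, the cokernels of the
differentials are flat in that range. -/
theorem flat_quotient_range_nat (hflat : ∀ k, Module.Flat B (X k))
    (hsurj : Function.Surjective (d 0)) (m : ℕ)
    (hex : ∀ k, k < m → Function.Exact (d (k + 1)) (d k)) :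
    ∀ k, k ≤ m → Module.Flat B (X k ⧸ LinearMap.range (d k)) := by
  intro k
  induction k with
  | zero =>
    intro _
    haveI : Subsingleton (X 0 ⧸ LinearMap.range (d 0)) := by
      rw [Submodule.Quotient.subsingleton_iff, LinearMap.range_eq_top]
      exact hsurj
    infer_instance
  | succ k ih =>
    intro hk
    haveI := ih (by omega)
    haveI := hflat k
    -- `range (d k)` is flat
    haveI h1 : Module.Flat B (LinearMap.range (d k)) :=
      flat_of_exact (LinearMap.range (d k)).subtype (LinearMap.range (d k)).mkQ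
        (Submodule.subtype_injective _) (Submodule.mkQ_surjective _)
        (LinearMap.exact_subtype_mkQ _)
    -- `X (k+1) / range (d (k+1)) ≅ range (d k)`
    have hker : LinearMap.range (d (k + 1)) = LinearMap.ker (d k) :=
      (LinearMap.exact_iff.1 (hex k (by omega))).symm
    let e : (X (k + 1) ⧸ LinearMap.range (d (k + 1))) ≃ₗ[B] LinearMap.range (d k) :=
      (Submodule.quotEquivOfEq _ _ hker).trans (d k).quotKerEquivRange
    exact Module.Flat.of_linearEquiv e

/-- … and the complex stays exact in that range after tensoring with any module. -/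
theorem lTensor_exact_nat (hflat : ∀ k, Module.Flat B (X k))
    (hsurj : Function.Surjective (d 0)) (m : ℕ)
    (hex : ∀ k, k < m → Function.Exact (d (k + 1)) (d k))
    (N : Type u) [AddCommGroup N] [Module B N] (k : ℕ) (hk : k < m) :
    Function.Exact ((d (k + 1)).lTensor N) ((d k).lTensor N) := by
  haveI := flat_quotient_range_nat X d hflat hsurj m hex k (by omega)
  have hinj : Function.Injective ((LinearMap.range (d k)).subtype.lTensor N) :=
    LinearMap.lTensor_injective_of_exact_of_flat (LinearMap.range (d k)).mkQ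
      (Submodule.mkQ_surjective _) _ (Submodule.subtype_injective _)
      (LinearMap.exact_subtype_mkQ _) N
  have h0 : Function.Exact (d (k + 1)) (d k).rangeRestrict := by
    intro y
    rw [← hex k hk y]
    constructor
    · intro h
      exact congrArg Subtype.val h
    · intro h
      exact Subtype.ext h
  have h1 : Function.Exact ((d (k + 1)).lTensor N) ((d k).rangeRestrict.lTensor N) :=
    lTensor_exact N h0 (LinearMap.surjective_rangeRestrict _)
  have h2 : (d k).lTensor N = ((LinearMap.range (d k)).subtype.lTensor N) ∘ₗ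
      ((d k).rangeRestrict.lTensor N) := by
    rw [← LinearMap.lTensor_comp]; rfl
  rw [h2]
  exact (Function.Injective.comp_exact_iff_exact hinj).2 h1

end Nat


section L0

variable {A : Type u} [CommRing A]

/-- vanishing of `Tor_{q+1}(M, N)` in terms of a projective resolution of the *first* variable. -/
lemma isZero_T_succ_iff_left (M N : ModuleCat.{u} A) (P : ProjectiveResolution M) (q : ℕ) :
    IsZero ((T (q + 1) M).obj N) ↔
      Function.Exact ((P.complex.d (q + 2) (q + 1)).hom.lTensor N)
        ((P.complex.d (q + 1) q).hom.lTensor N) := by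
  obtain ⟨e⟩ := nonempty_iso_homology_tensorRight M N P (q + 1)
  have h1 : IsZero ((T (q + 1) M).obj N) ↔
      IsZero ((((tensorRight N).mapHomologicalComplex (ComplexShape.down ℕ)).obj
        P.complex).homology (q + 1)) := ⟨fun h => h.of_iso e.symm, fun h => h.of_iso e⟩
  rw [h1, ← HomologicalComplex.exactAt_iff_isZero_homology,
    HomologicalComplex.exactAt_iff' _ (q + 2) (q + 1) q (by simp) (by simp),
    ShortComplex.ShortExact.moduleCat_exact_iff_function_exact]
  have key : ∀ {X Y : ModuleCat.{u} A} (f : X ⟶ Y) (x : (X ⊗ N : ModuleCat.{u} A)),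
      (TensorProduct.comm A Y N) ((f ▷ N).hom x) = (f.hom.lTensor N) (TensorProduct.comm A X N x) := by
    intro X Y f x
    induction x using TensorProduct.induction_on with
    | zero => simp
    | tmul a b => rfl
    | add a b ha hb => simp only [map_add, ha, hb]
  constructor
  · intro h
    exact exact_of_addEquiv _ _ _ _ (TensorProduct.comm A _ N).symm.toAddEquiv
      (TensorProduct.comm A _ N).symm.toAddEquiv (TensorProduct.comm A _ N).symm.toAddEquiv
      (fun x => by
        apply (TensorProduct.comm A _ N).injective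
        refine Eq.trans (LinearEquiv.apply_symm_apply _ _) ?_
        refine Eq.trans ?_ (key _ _).symm
        exact congrArg _ (LinearEquiv.apply_symm_apply _ _).symm) (fun x => by
        apply (TensorProduct.comm A _ N).injective
        refine Eq.trans (LinearEquiv.apply_symm_apply _ _) ?_
        refine Eq.trans ?_ (key _ _).symm
        exact congrArg _ (LinearEquiv.apply_symm_apply _ _).symm) h
  · intro h
    exact exact_of_addEquiv _ _ _ _ (TensorProduct.comm A _ N).toAddEquiv
      (TensorProduct.comm A _ N).toAddEquiv (TensorProduct.comm A _ N).toAddEquiv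
      (fun x => key _ x) (fun x => key _ x) h

end L0


section K

variable {A : Type u} [CommRing A] (B : Type u) [CommRing B] [Algebra A B]
  (M : ModuleCat.{u} A) (P : ProjectiveResolution M)

/-- the augmented resolution `… → P₁ → P₀ → M → 0`. -/
noncomputable abbrev Paug : ChainComplex (ModuleCat.{u} A) ℕ :=
  P.complex.augment (P.π.f 0) P.complex_d_comp_π_f_zero

lemma exact_aug_zero : Function.Exact (P.complex.d 1 0).hom (P.π.f 0).hom := by
  have h : (ShortComplex.mk (P.complex.d 1 0) (P.π.f 0) P.complex_d_comp_π_f_zero).Exact :=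
    ShortComplex.exact_of_g_is_cokernel _ P.isColimitCokernelCofork
  exact (ShortComplex.ShortExact.moduleCat_exact_iff_function_exact _).1 h

lemma exact_aug_succ (q : ℕ) :
    Function.Exact (P.complex.d (q + 2) (q + 1)).hom (P.complex.d (q + 1) q).hom :=
  (ShortComplex.ShortExact.moduleCat_exact_iff_function_exact _).1 (P.exact_succ q)

lemma surjective_π : Function.Surjective (P.π.f 0).hom :=
  (ModuleCat.epi_iff_surjective _).1 inferInstance

/-- If `B ⊗ M` is `B`-flat and `B ⊗ P` is exact in degrees `1 ≤ n < m`, then `Tor_n^A(M, N) = 0` for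
`1 ≤ n < m` and every `B`-module `N`. -/
theorem isZero_T_of_baseChange (m : ℕ) (hfl : Module.Flat B (B ⊗[A] M))
    (hex : ∀ q, q + 1 < m → Function.Exact ((P.complex.d (q + 2) (q + 1)).hom.baseChange B)
      ((P.complex.d (q + 1) q).hom.baseChange B))
    (N : Type u) [AddCommGroup N] [Module A N] [Module B N] [IsScalarTower A B N] (q : ℕ)
    (hq : q + 1 < m) : IsZero ((T (q + 1) M).obj (ModuleCat.of A N)) := by
  rw [isZero_T_succ_iff_left M _ P q]
  apply FlatGlue.exact_lTensor_of_exact_lTensor_baseChange (A := A) (B := B) N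
  have h0 : (Paug M P).d 1 0 = P.π.f 0 := ChainComplex.augment_d_one_zero _ _ _
  have hs : ∀ i j, (Paug M P).d (i + 1) (j + 1) = P.complex.d i j :=
    fun i j => ChainComplex.augment_d_succ_succ _ _ _ _ _
  have key := lTensor_exact_nat (B := B) (fun k => B ⊗[A] ((Paug M P).X k))
    (fun k => ((Paug M P).d (k + 1) k).hom.baseChange B) ?_ ?_ m ?_ N (q + 1) hq
  · simp only [hs] at key
    exact key
  · intro k
    cases k with
    | zero => exact hfl
    | succ k =>
      haveI : Module.Flat A (P.complex.X k) := flat_of_projective _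
      exact (inferInstance : Module.Flat B (B ⊗[A] (P.complex.X k)))
  · simp only [h0]
    rw [LinearMap.baseChange_eq_ltensor]
    exact LinearMap.lTensor_surjective _ (surjective_π M P)
  · intro k hk
    cases k with
    | zero =>
      simp only [h0, hs]
      rw [LinearMap.baseChange_eq_ltensor, LinearMap.baseChange_eq_ltensor]
      exact lTensor_exact B (exact_aug_zero M P) (surjective_π M P)
    | succ k =>
      simp only [hs]
      exact hex k hk

end K


section PrW

variable {A : Type u} [CommRing A] (M : ModuleCat.{u} A)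

/-- `Tor_n(M, N) = 0` for `1 ≤ n ≤ d`. -/
def PrW (d : ℕ) (N : ModuleCat.{u} A) : Prop :=
  ∀ n : ℕ, 1 ≤ n → n ≤ d → IsZero ((T n M).obj N)

variable {M}

lemma PrW.of_iso {d : ℕ} {N N' : ModuleCat.{u} A} (e : N ≅ N') (h : PrW M d N) : PrW M d N' :=
  fun n h1 h2 => (h n h1 h2).of_iso ((T n M).mapIso e.symm)

lemma PrW.mono {d d' : ℕ} (hd : d' ≤ d) {N : ModuleCat.{u} A} (h : PrW M d N) : PrW M d' N :=
  fun n h1 h2 => h n h1 (h2.trans hd)

lemma PrW.of_subsingleton (d : ℕ) (N : ModuleCat.{u} A) [Subsingleton N] : PrW M d N :=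
  fun n h1 _ => by
    obtain ⟨q, rfl⟩ : ∃ q, n = q + 1 := ⟨n - 1, by omega⟩
    haveI : Projective N := (ModuleCat.isZero_of_subsingleton N).projective
    exact isZero_T_projective M N q

lemma PrW.middle {d : ℕ} {N : Type u} [AddCommGroup N] [Module A N]
    (N' : Submodule A N) (h₁ : PrW M d (ModuleCat.of A N'))
    (h₃ : PrW M d (ModuleCat.of A (N ⧸ N'))) : PrW M d (ModuleCat.of A N) :=
  fun n hn1 hn2 => (T_exact₂ M (FlatGlue.subSC_shortExact N') n).isZero_X₂
    ((h₁ n hn1 hn2).eq_of_src _ _) ((h₃ n hn1 hn2).eq_of_tgt _ _)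

lemma PrW.left {d : ℕ} {N : Type u} [AddCommGroup N] [Module A N]
    (N' : Submodule A N) (h₂ : PrW M d (ModuleCat.of A N))
    (h₃ : PrW M (d + 1) (ModuleCat.of A (N ⧸ N'))) : PrW M d (ModuleCat.of A N') := by
  intro n hn1 hn2
  obtain ⟨δ, w₁, w₂, e₁, e₂⟩ := T_exists_δ M (FlatGlue.subSC_shortExact N') n
  exact e₂.isZero_X₂ ((h₃ (n + 1) (by omega) (by omega)).eq_of_src _ _)
    ((h₂ n hn1 hn2).eq_of_tgt _ _)

/-- `PrW` passes to exhausting unions of chains of submodules. -/
lemma PrW.of_directed {d : ℕ} {N : Type u} [AddCommGroup N] [Module A N]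
    (Ns : ℕ → Submodule A N) (hmono : Monotone Ns) (hcover : ∀ x : N, ∃ n, x ∈ Ns n)
    (h : ∀ n, PrW M d (ModuleCat.of A (Ns n))) : PrW M d (ModuleCat.of A N) := by
  intro n hn1 hn2
  obtain ⟨q, rfl⟩ : ∃ q, n = q + 1 := ⟨n - 1, by omega⟩
  obtain ⟨P⟩ : Nonempty (ProjectiveResolution M) := HasProjectiveResolution.out
  rw [isZero_T_succ_iff_left M _ P q]
  haveI : Module.Flat A (P.complex.X q) := flat_of_projective _
  refine FlatGlue.exact_lTensor_of_directed (R := A) (N := N) Ns hmono hcover
    (P.complex.d (q + 2) (q + 1)).hom (P.complex.d (q + 1) q).hom ?_ ?_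
  · rw [← ModuleCat.hom_comp, P.complex.d_comp_d]
    rfl
  · intro k
    exact (isZero_T_succ_iff_left M _ P q).1 (h k (q + 1) hn1 hn2)

end PrW


section Dev

variable {A : Type u} [CommRing A] {M : ModuleCat.{u} A}

/-- `N` is killed by every element of `s`. -/
def KB (s : Set A) (N : Type u) [AddCommGroup N] [Module A N] : Prop :=
  ∀ a ∈ s, ∀ x : N, a • x = 0

lemma KB.submodule {s : Set A} {N : Type u} [AddCommGroup N] [Module A N] (h : KB s N)
    (N' : Submodule A N) : KB s N' :=
  fun a ha x => Subtype.ext (h a ha x.1)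

lemma KB.quotient {s : Set A} {N : Type u} [AddCommGroup N] [Module A N] (h : KB s N)
    (N' : Submodule A N) : KB s (N ⧸ N') := by
  intro a ha y
  obtain ⟨x, rfl⟩ := Submodule.Quotient.mk_surjective N' y
  rw [← Submodule.Quotient.mk_smul, h a ha x, Submodule.Quotient.mk_zero]

lemma KB.localizedModule {s : Set A} {N : Type u} [AddCommGroup N] [Module A N] (h : KB s N)
    (S : Submonoid A) : KB s (LocalizedModule S N) := by
  intro a ha y
  induction y using LocalizedModule.induction_on with
  | h m t => rw [LocalizedModule.smul'_mk, h a ha m, LocalizedModule.zero_mk]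

/-- dévissage along powers of `f`. -/
lemma PrW.of_pow_smul (s : Set A) (f : A) (d : ℕ)
    (hq : ∀ (N : Type u) [AddCommGroup N] [Module A N], KB s N → (∀ x : N, f • x = 0) →
      PrW M d (ModuleCat.of A N)) :
    ∀ (n : ℕ) (N : Type u) [AddCommGroup N] [Module A N], KB s N → (∀ x : N, f ^ n • x = 0) →
      PrW M d (ModuleCat.of A N) := by
  intro n
  induction n with
  | zero =>
    intro N _ _ _ h
    haveI : Subsingleton N := ⟨fun x y => by
      have hx := h x
      have hy := h y
      rw [pow_zero, one_smul] at hx hy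
      rw [hx, hy]⟩
    exact PrW.of_subsingleton d (ModuleCat.of A N)
  | succ n ih =>
    intro N _ _ hs h
    let N' : Submodule A N := LinearMap.range (LinearMap.lsmul A N f)
    refine PrW.middle N' (ih N' (hs.submodule N') ?_) (hq (N ⧸ N') (hs.quotient N') ?_)
    · rintro ⟨y, x, rfl⟩
      apply Subtype.ext
      show f ^ n • (f • x) = 0
      rw [← mul_smul, ← pow_succ]
      exact h x
    · intro y
      obtain ⟨x, rfl⟩ := Submodule.Quotient.mk_surjective N' y
      rw [← Submodule.Quotient.mk_smul]
      exact (Submodule.Quotient.mk_eq_zero N').2 ⟨x, rfl⟩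

/-- `f`-power torsion modules. -/
lemma PrW.of_pow_torsion (s : Set A) (f : A) (d : ℕ)
    (hq : ∀ (N : Type u) [AddCommGroup N] [Module A N], KB s N → (∀ x : N, f • x = 0) →
      PrW M d (ModuleCat.of A N))
    {N : Type u} [AddCommGroup N] [Module A N] (hs : KB s N)
    (hN : ∀ x : N, ∃ n : ℕ, f ^ n • x = 0) :
    PrW M d (ModuleCat.of A N) := by
  let Ns : ℕ → Submodule A N := fun n => Submodule.torsionBy A N (f ^ n)
  have hmono : Monotone Ns := by
    intro n m hnm x hx
    rw [Submodule.mem_torsionBy_iff] at hx ⊢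
    obtain ⟨k, rfl⟩ := Nat.exists_eq_add_of_le hnm
    rw [pow_add, mul_comm, mul_smul, hx, smul_zero]
  have hcover : ∀ x, ∃ n, x ∈ Ns n :=
    fun x => (hN x).imp fun n hn => (Submodule.mem_torsionBy_iff _ _).2 hn
  refine PrW.of_directed Ns hmono hcover (fun n => ?_)
  exact PrW.of_pow_smul s f d hq n (Ns n) (hs.submodule _) (by
    rintro ⟨x, hx⟩
    apply Subtype.ext
    exact (Submodule.mem_torsionBy_iff _ _).1 hx)

/-- one dévissage step: from modules killed by `s` and `f` (one more degree) and `A_f`-modules to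
modules killed by `s`. -/
theorem PrW.devissage (s : Set A) (f : A) (d : ℕ)
    (hq : ∀ (N : Type u) [AddCommGroup N] [Module A N], KB s N → (∀ x : N, f • x = 0) →
      PrW M (d + 1) (ModuleCat.of A N))
    (hloc : ∀ (N : Type u) [AddCommGroup N] [Module A N] [Module (Localization.Away f) N]
      [IsScalarTower A (Localization.Away f) N], PrW M d (ModuleCat.of A N))
    (N : Type u) [AddCommGroup N] [Module A N] (hs : KB s N) : PrW M d (ModuleCat.of A N) := by
  let S := Submonoid.powers f
  let Nf := LocalizedModule S N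
  let g : N →ₗ[A] Nf := LocalizedModule.mkLinearMap S N
  have hK : PrW M (d + 1) (ModuleCat.of A (LinearMap.ker g)) :=
    PrW.of_pow_torsion s f (d + 1) hq (hs.submodule _) (by
      rintro ⟨x, hx⟩
      obtain ⟨⟨_, n, rfl⟩, hs⟩ := (IsLocalizedModule.eq_zero_iff S g).1 hx
      exact ⟨n, Subtype.ext hs⟩)
  have hC : PrW M (d + 1) (ModuleCat.of A (Nf ⧸ LinearMap.range g)) :=
    PrW.of_pow_torsion s f (d + 1) hq ((hs.localizedModule S).quotient _) (by
      intro y
      obtain ⟨z, rfl⟩ := Submodule.Quotient.mk_surjective _ y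
      obtain ⟨⟨m, t⟩, rfl⟩ := IsLocalizedModule.mk'_surjective S g z
      obtain ⟨n, hn⟩ := (Submonoid.mem_powers_iff _ _).1 t.2
      refine ⟨n, ?_⟩
      rw [← Submodule.Quotient.mk_smul]
      apply (Submodule.Quotient.mk_eq_zero _).2
      refine ⟨m, ?_⟩
      have h1 := IsLocalizedModule.mk'_cancel' g m t
      rw [Submonoid.smul_def, ← hn] at h1
      exact h1.symm)
  have hNf : PrW M d (ModuleCat.of A Nf) := hloc Nf
  have hI : PrW M d (ModuleCat.of A (LinearMap.range g)) := PrW.left (LinearMap.range g) hNf hC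
  have hNK : PrW M d (ModuleCat.of A (N ⧸ LinearMap.ker g)) :=
    PrW.of_iso (g.quotKerEquivRange.symm.toModuleIso) hI
  exact PrW.middle (LinearMap.ker g) (hK.mono (by omega)) hNK

end Dev


section Main

variable {A : Type u} [CommRing A] (M : ModuleCat.{u} A)

/-- `Tor_n(M, N) = 0` for all `n ≥ 1` and all `A_f`-modules `N`, if `M_f` is flat over `A_f`. -/
theorem prW_of_flat_away (f : A)
    (h : Module.Flat (Localization.Away f) (LocalizedModule (Submonoid.powers f) M))
    (d : ℕ) (N : Type u) [AddCommGroup N] [Module A N] [Module (Localization.Away f) N]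
    [IsScalarTower A (Localization.Away f) N] : PrW M d (ModuleCat.of A N) := by
  intro n hn1 hn2
  obtain ⟨q, rfl⟩ : ∃ q, n = q + 1 := ⟨n - 1, by omega⟩
  obtain ⟨P⟩ : Nonempty (ProjectiveResolution M) := HasProjectiveResolution.out
  refine isZero_T_of_baseChange (Localization.Away f) M P (q + 2) ?_ ?_ N q (by omega)
  · haveI := h
    exact Module.Flat.of_linearEquiv
      (IsLocalizedModule.isBaseChange (Submonoid.powers f) (Localization.Away f)
        (LocalizedModule.mkLinearMap (Submonoid.powers f) M)).equiv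
  · intro k _
    rw [LinearMap.baseChange_eq_ltensor, LinearMap.baseChange_eq_ltensor]
    exact Module.Flat.lTensor_exact (Localization.Away f) (exact_aug_succ M P k)

/-- `Tor_n(M, N) = 0` for `1 ≤ n ≤ d` and all `A/I`-modules `N`, if `M/IM` is flat over `A/I` and
`Tor_n(M, A/I) = 0` for `1 ≤ n ≤ d`. -/
theorem prW_of_flat_mod (I : Ideal A) (d : ℕ)
    (h2 : Module.Flat (A ⧸ I) ((A ⧸ I) ⊗[A] M))
    (h3 : PrW M d (ModuleCat.of A (A ⧸ I)))
    (N : Type u) [AddCommGroup N] [Module A N] (hN : ∀ a ∈ I, ∀ x : N, a • x = 0) :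
    PrW M d (ModuleCat.of A N) := by
  intro n hn1 hn2
  obtain ⟨q, rfl⟩ : ∃ q, n = q + 1 := ⟨n - 1, by omega⟩
  obtain ⟨P⟩ : Nonempty (ProjectiveResolution M) := HasProjectiveResolution.out
  have hM : Module.IsTorsionBySet A N (I : Set A) := fun x a => hN a.1 a.2 x
  letI : Module (A ⧸ I) N := hM.module
  haveI : IsScalarTower A (A ⧸ I) N := IsScalarTower.of_algebraMap_smul (fun _ _ => rfl)
  refine isZero_T_of_baseChange (A ⧸ I) M P (d + 1) h2 ?_ N q (by omega)
  intro k hk
  rw [LinearMap.baseChange_eq_ltensor, LinearMap.baseChange_eq_ltensor]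
  exact (isZero_T_succ_iff_left M _ P k).1 (h3 (k + 1) (by omega) (by omega))

/-- the inductive dévissage over the generators. -/
theorem prW_of_generators :
    ∀ (r : ℕ) (f : Fin r → A)
      (_ : ∀ i, Module.Flat (Localization.Away (f i))
        (LocalizedModule (Submonoid.powers (f i)) M))
      (s : Set A) (d : ℕ)
      (_ : ∀ (N : Type u) [AddCommGroup N] [Module A N], KB (s ∪ Set.range f) N →
        PrW M (d + r) (ModuleCat.of A N))
      (N : Type u) [AddCommGroup N] [Module A N], KB s N → PrW M d (ModuleCat.of A N) := by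
  intro r
  induction r with
  | zero =>
    intro f _ s d h N _ _ hs
    refine h N ?_
    rintro a (ha | ⟨i, _⟩) x
    · exact hs a ha x
    · exact i.elim0
  | succ r ih =>
    intro f h1 s d h N _ _ hs
    have step : ∀ (N : Type u) [AddCommGroup N] [Module A N], KB (s ∪ {f 0}) N →
        PrW M (d + 1) (ModuleCat.of A N) := by
      refine ih (fun i => f i.succ) (fun i => h1 i.succ) (s ∪ {f 0}) (d + 1) ?_
      intro N' _ _ hN'
      refine (h N' ?_).mono (by omega)
      rintro a (ha | ⟨i, rfl⟩) x
      · exact hN' a (Or.inl (Or.inl ha)) x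
      · induction i using Fin.cases with
        | zero => exact hN' _ (Or.inl (Or.inr rfl)) x
        | succ j => exact hN' _ (Or.inr ⟨j, rfl⟩) x
    refine PrW.devissage s (f 0) d ?_ (fun N' _ _ _ _ => prW_of_flat_away M (f 0) (h1 0) d N') N hs
    intro N' _ _ hN' hf
    refine step N' ?_
    rintro a (ha | ha) x
    · exact hN' a ha x
    · rw [Set.mem_singleton_iff.1 ha]
      exact hf x

/-- **Flatness from a finite cover of `Spec A ∖ V(I)`, the quotient `A/I` and finitely many `Tor`s**
(S6377). -/
theorem flat_of_flat_away_of_flat_mod_of_tor {r : ℕ} (f : Fin r → A)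
    (h1 : ∀ i, Module.Flat (Localization.Away (f i))
      (LocalizedModule (Submonoid.powers (f i)) M))
    (h2 : Module.Flat (A ⧸ Ideal.span (Set.range f)) ((A ⧸ Ideal.span (Set.range f)) ⊗[A] M))
    (h3 : ∀ i : ℕ, 1 ≤ i → i ≤ r + 1 →
      IsZero ((T i M).obj (ModuleCat.of A (A ⧸ Ideal.span (Set.range f))))) :
    Module.Flat A M := by
  have key : ∀ (N : Type u) [AddCommGroup N] [Module A N], PrW M 1 (ModuleCat.of A N) := by
    intro N _ _
    refine prW_of_generators M r f h1 ∅ 1 ?_ N (fun a ha => ha.elim)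
    intro N' _ _ hN'
    refine (prW_of_flat_mod M (Ideal.span (Set.range f)) (r + 1) h2 h3 N' ?_).mono (by omega)
    intro a ha x
    induction ha using Submodule.span_induction with
    | mem a ha => exact hN' a (Or.inr ha) x
    | zero => exact zero_smul _ _
    | add a b _ _ ha hb => rw [add_smul, ha, hb, add_zero]
    | smul c a _ ha => rw [smul_eq_mul, mul_smul, ha, smul_zero]
  rw [Module.Flat.iff_lTensor_injective']
  intro I
  have hS := FlatGlue.subSC_shortExact I
  haveI : Projective (FlatGlue.subSC I).X₂ :=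
    (IsProjective.iff_projective (R := A) (ModuleCat.of A A)).1 inferInstance
  have h1 := (isZero_one_iff M hS (isZero_T_projective M (FlatGlue.subSC I).X₂ 0)).1
    (key (A ⧸ I) 1 le_rfl le_rfl)
  exact (ModuleCat.mono_iff_injective _).1 h1

end Main

end Groth.Agent.Lib.helper23.TorFlat
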