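import Mathlib
import Groth.Prelude.Def_DRing4
import Groth.Agent.Lib.Helper23.CxBid13
import Groth.Agent.Lib.Helper23.InjAmp3
import Groth.Agent.Lib.Helper25.TotSingle
import Groth.Agent.Lib.Helper13.KFlat9

/-!
# Finite Tor dimension versus finite injective dimension of the dual (helper23), part 1

`hasInjAmplitudeIn_homCx`: for a complex `P` of flat modules vanishing outside `[a, b]` and a complex
`I` of injectives vanishing outside `[c, d]`, `Hom•(P, I)` has injective amplitude in
`[c - b, d - a]`.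
-/

set_option autoImplicit false
universe u
open CategoryTheory CategoryTheory.Limits DerivedCategory Pretriangulated MonoidalCategory
open CochainComplex.HomComplex

attribute [local instance] HasDerivedCategory.standard

namespace Groth.Agent.Lib.helper23.TorInj

open Groth.Agent.Lib.helper23.RHomCx Groth.Agent.Lib.helper23.GorInv Groth.Agent.Lib.helper23.FinHom
  Groth.Agent.Lib.helper23.DualD Groth.Agent.Lib.helper23.TensHom Groth.Agent.Lib.helper13.KFlat
  Groth.Agent.Lib.helper23.CxBid

variable {A : Type u} [CommRing A]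

/-- `N[0] ⊗ P` vanishes where `P` does. -/
lemma isZero_single_tensor_X (N : ModuleCat.{u} A) (P : DRing.Cx A) (n : ℤ) (h : IsZero (P.X n)) :
    IsZero (((CxBid.S₀ N : DRing.Cx A) ⊗ P).X n) := by
  have hL : ∀ i : ℤ, i ≠ 0 → IsZero ((CxBid.S₀ N : DRing.Cx A).X i) := fun i hi =>
    HomologicalComplex.isZero_single_obj_X _ _ _ _ hi
  let e := Groth.Agent.Lib.Helper25.TotSingle.totIso (curriedTensor (ModuleCat.{u} A))
    (CxBid.S₀ N : DRing.Cx A) hL P
  let T : DRing.Cx A := (((curriedTensor (ModuleCat.{u} A)).obj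
      ((CxBid.S₀ N : DRing.Cx A).X 0)).mapHomologicalComplex (ComplexShape.up ℤ)).obj P
  have h1 : IsZero (T.X n) :=
    ((curriedTensor (ModuleCat.{u} A)).obj ((CxBid.S₀ N : DRing.Cx A).X 0)).map_isZero h
  exact h1.of_iso ((HomologicalComplex.eval _ _ n).mapIso e).symm


/-- **`Hom•(P, I)` has finite injective amplitude** for `P` bounded flat and `I` bounded injective. -/
theorem hasInjAmplitudeIn_homCx (P I : DRing.Cx A) (a b c d : ℤ)
    (hP : DRing.VanishesOutside P a b) (hflat : DRing.TermwiseFlat P)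
    (hI : DRing.VanishesOutside I c d) (hinj : ∀ j, Injective (I.X j)) :
    DRing.HasInjAmplitudeIn A (c - b) (d - a) (Q.obj (DRing.homCx P I)) := by
  haveI : I.IsStrictlyGE c := by
    rw [CochainComplex.isStrictlyGE_iff]
    exact fun j hj => hI j (Or.inl hj)
  haveI : I.IsKInjective := CochainComplex.isKInjective_of_injective I c
  have hPflat : IsKFlatR P := isKFlatR_of_bounded_above P b (fun i hi => hP i (Or.inr hi)) hflat
  let J : DRing.Cx A := DRing.homCx P I
  haveI : J.IsKInjective := isKInjective_homCx P I hPflat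
  refine ((Groth.Agent.Lib.helper23.InjAmp.injectiveAmplitude_tfae (Q.obj J) (c - b)
    (d - a)).out 1 0).1 ?_
  intro N _ _ i hi
  show Subsingleton (Dual.inD A N ⟶ (Q.obj J)⟦i⟧)
  let SN : DRing.Cx A := CxBid.S₀ (ModuleCat.of A N)
  let W : DRing.Cx A := SN ⊗ P
  -- the chain of equivalences
  let eq1 : (Q.obj W ⟶ Q.obj (I⟦i⟧)) ≃ₗ[A] (Q.obj SN ⟶ Q.obj (J⟦i⟧)) :=
    (homologyEquivCxOfKInjective W I i).symm ≪≫ₗ
      (homologyLinearEquivOfIso (homHomIso SN P I) i).symm ≪≫ₗ
      homologyEquivCxOfKInjective SN J i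
  -- vanishing
  have hW : ∀ n : ℤ, (n < a ∨ b < n) → IsZero (W.X n) := fun n hn =>
    isZero_single_tensor_X (ModuleCat.of A N) P n (hP n hn)
  haveI : W.IsStrictlyGE a := by
    rw [CochainComplex.isStrictlyGE_iff]
    exact fun n hn => hW n (Or.inl hn)
  haveI : W.IsStrictlyLE b := by
    rw [CochainComplex.isStrictlyLE_iff]
    exact fun n hn => hW n (Or.inr hn)
  have hIz : ∀ n : ℤ, (n < c - i ∨ d - i < n) → IsZero ((I⟦i⟧).X n) := fun n hn =>
    hI (n + i) (by omega)
  haveI : Subsingleton (Q.obj W ⟶ Q.obj (I⟦i⟧)) := by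
    rcases hi with hi | hi
    · haveI : (I⟦i⟧).IsStrictlyGE (c - i) := by
        rw [CochainComplex.isStrictlyGE_iff]
        exact fun n hn => hIz n (Or.inl hn)
      exact ⟨fun f g => by
        rw [(TStructure.t (C := ModuleCat.{u} A)).zero f b (c - i) (by omega),
          (TStructure.t (C := ModuleCat.{u} A)).zero g b (c - i) (by omega)]⟩
    · have hamp : DRing.HasInjAmplitudeIn A (c - i) (d - i) (Q.obj (I⟦i⟧)) :=
        ⟨I⟦i⟧, hIz, fun j => (Module.injective_iff_injective_object A ((I⟦i⟧).X j)).2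
          (hinj (j + i)), ⟨Iso.refl _⟩⟩
      exact ⟨fun f g => by
        rw [hom_eq_zero_of_isGE_of_injAmp _ _ (c - i) (d - i) a hamp (by omega) f,
          hom_eq_zero_of_isGE_of_injAmp _ _ (c - i) (d - i) a hamp (by omega) g]⟩
  have h2 : Subsingleton (Q.obj SN ⟶ Q.obj (J⟦i⟧)) := eq1.symm.toEquiv.subsingleton
  exact @Equiv.subsingleton _ _
    (Iso.homCongr ((singleFunctorIsoCompQ (ModuleCat.{u} A) 0).app (ModuleCat.of A N))
      ((Q.commShiftIso i).app J).symm) h2

end Groth.Agent.Lib.helper23.TorInj
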