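import Mathlib
import Groth.Prelude.Def_DRing4
import Groth.Agent.Lib.Helper23.TorInj1
import Groth.Agent.Lib.Helper23.DualPerf3
import Groth.Agent.Lib.Helper23.DRingPC8
import Groth.Agent.S6954

/-!
# Finite Tor dimension versus finite injective dimension of the dual (helper23), part 2

The implication "finite Tor dimension ⇒ `RHom(G, ω)` has finite injective dimension".
-/

set_option autoImplicit false
universe u
open CategoryTheory CategoryTheory.Limits DerivedCategory Pretriangulated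

attribute [local instance] HasDerivedCategory.standard

namespace Groth.Agent.Lib.helper23.TorInj

open Groth.Agent.Lib.helper23.RHomCx Groth.Agent.Lib.helper23.DualD
  Groth.Agent.Lib.helper23.DualPerf

variable {A : Type u} [CommRing A]

/-- pseudo-coherence from finite bounded cohomology over a Noetherian ring -/
lemma isPseudoCoherent'_of_finite_bdd [IsNoetherianRing A] (K : Dual.D A)
    (hfin : ∀ i : ℤ, Module.Finite A (Dual.HD A K i))
    (hbdd : ∃ b : ℤ, ∀ i : ℤ, b < i → Subsingleton (Dual.HD A K i)) :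
    DRing.IsPseudoCoherent' A K := by
  rw [DRingPC.isPseudoCoherent'_iff_npc]
  intro m
  exact (DRingPC.npc_iff_of_noetherian A m K).2 ⟨hbdd, fun i _ => hfin i⟩

lemma hasInjAmplitudeIn_of_iso {a b : ℤ} {K L : Dual.D A} (e : K ≅ L)
    (h : DRing.HasInjAmplitudeIn A a b K) : DRing.HasInjAmplitudeIn A a b L := by
  obtain ⟨E, h1, h2, ⟨e'⟩⟩ := h
  exact ⟨E, h1, h2, ⟨e' ≪≫ e⟩⟩

/-- **Finite Tor dimension ⇒ the dual has finite injective dimension.** -/
theorem hasFiniteInjDim_RHomCx_of_isPerfect (ω : Dual.D A)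
    (hω : Dual.IsDualizing A ω) (G : DRing.Cx A) [DRing.HasRHomCx G]
    (hperf : DRing.IsPerfect A (DRing.toD G)) :
    DRing.HasFiniteInjDim A ((DRing.RHomCx G).obj ω) := by
  obtain ⟨P, a, b, hP, hfp, ⟨e⟩⟩ := hperf
  haveI : P.IsKProjective := isKProjective_of_strictlyPerfect P a b hP hfp
  haveI : DRing.HasRHomCx P := hasRHomCx_of_isKProjective P
  obtain ⟨e1⟩ := nonempty_RHomCx_iso_of_Q_iso P G e ω
  obtain ⟨M⟩ := exists_model ω hω
  haveI := M.isKInjective
  have hflat : DRing.TermwiseFlat P := fun i => by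
    haveI := (hfp i).2
    infer_instance
  have h1 := hasInjAmplitudeIn_homCx P M.I a b M.a M.b hP hflat M.zero M.inj
  refine ⟨M.a - b, M.b - a, hasInjAmplitudeIn_of_iso ?_ h1⟩
  exact RHomCxIso P M.I ≪≫ (DRing.RHomCx P).mapIso M.e ≪≫ e1.symm

theorem hasFiniteInjDim_RHomCx_of_hasFiniteTorDimCx [IsNoetherianRing A] (ω : Dual.D A)
    (hω : Dual.IsDualizing A ω) (G : DRing.Cx A) [DRing.HasRHomCx G]
    (hfin : ∀ i : ℤ, Module.Finite A (Dual.HD A (DRing.toD G) i))
    (hbdd : ∃ b : ℤ, ∀ i : ℤ, b < i → Subsingleton (Dual.HD A (DRing.toD G) i))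
    (h : DRing.HasFiniteTorDimCx A (DRing.toD G)) :
    DRing.HasFiniteInjDim A ((DRing.RHomCx G).obj ω) :=
  hasFiniteInjDim_RHomCx_of_isPerfect ω hω G
    ((Groth.Agent.S6954.result A _).2 ⟨isPseudoCoherent'_of_finite_bdd _ hfin hbdd, h⟩)

end Groth.Agent.Lib.helper23.TorInj
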