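import Mathlib
import Groth.Prelude.Def_DRing4
import Groth.Agent.Lib.Helper23.TorInj1
import Groth.Agent.Lib.Helper23.CxBid12

/-!
# Finite Tor dimension versus finite injective dimension of the dual (helper23), part 3

`hom_single_eq_zero`: if `Hom•(F, I)` (`I` a bounded injective model of a dualizing complex, `F`
K-projective and K-flat) has injective amplitude in `[c, d]`, then
`Hom_{D(A)}(F, N[n]) = 0` for every finite module `N` and every `n > d - a_I`.
-/

set_option autoImplicit false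
universe u
open CategoryTheory CategoryTheory.Limits DerivedCategory Pretriangulated
open CochainComplex.HomComplex

attribute [local instance] HasDerivedCategory.standard

namespace Groth.Agent.Lib.helper23.TorInj

open Groth.Agent.Lib.helper23.RHomCx Groth.Agent.Lib.helper23.GorInv Groth.Agent.Lib.helper23.FinHom
  Groth.Agent.Lib.helper23.DualD Groth.Agent.Lib.helper23.TensHom Groth.Agent.Lib.helper13.KFlat
  Groth.Agent.Lib.helper23.CxBid

variable {A : Type u} [CommRing A]

/-- the linear equivalence on cohomology induced by a quasi-isomorphism -/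
noncomputable def homologyLinearEquivOfQuasiIso' {X Y : DRing.Cx A} (f : X ⟶ Y) [QuasiIso f] (n : ℤ) :
    X.homology n ≃ₗ[A] Y.homology n :=
  (asIso (HomologicalComplex.homologyMap f n)).toLinearEquiv

lemma finite_Hn_single (N : ModuleCat.{u} A) [Module.Finite A N] (j : ℤ) :
    Module.Finite A ((homologyFunctor (ModuleCat.{u} A) j).obj
      ((singleFunctor (ModuleCat.{u} A) 0).obj N)) := by
  by_cases hj : j = 0
  · subst hj
    haveI : Module.Finite A ((𝟭 (ModuleCat.{u} A)).obj N) := ‹Module.Finite A N›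
    exact Module.Finite.equiv
      ((singleFunctorCompHomologyFunctorIso (ModuleCat.{u} A) 0).app N).toLinearEquiv.symm
  · have hz : IsZero ((homologyFunctor (ModuleCat.{u} A) j).obj
        ((singleFunctor (ModuleCat.{u} A) 0).obj N)) := by
      rcases lt_or_gt_of_ne hj with h | h
      · exact isZero_of_isGE _ 0 j h
      · exact isZero_of_isLE _ 0 j h
    haveI : Subsingleton ((homologyFunctor (ModuleCat.{u} A) j).obj
        ((singleFunctor (ModuleCat.{u} A) 0).obj N)) := ModuleCat.subsingleton_of_isZero hz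
    infer_instance

lemma hasInjAmplitudeIn_of_iso' {a b : ℤ} {K L : Dual.D A} (e : K ≅ L)
    (h : DRing.HasInjAmplitudeIn A a b K) : DRing.HasInjAmplitudeIn A a b L := by
  obtain ⟨E, h1, h2, ⟨e'⟩⟩ := h
  exact ⟨E, h1, h2, ⟨e' ≪≫ e⟩⟩

theorem hom_single_eq_zero [IsNoetherianRing A] {ω : Dual.D A} (hω : Dual.IsDualizing A ω)
    (M : Model ω) (F : DRing.Cx A) [F.IsKProjective] (hF : IsKFlatR F) (c d : ℤ)
    (hZ : DRing.HasInjAmplitudeIn A c d (Q.obj (DRing.homCx F M.I)))
    (N : ModuleCat.{u} A) [Module.Finite A N] (n : ℤ) (hn : d - M.a < n)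
    (φ : Q.obj F ⟶ ((singleFunctor (ModuleCat.{u} A) 0).obj N)⟦n⟧) : φ = 0 := by
  haveI := M.isKInjective
  let I := M.I
  let J : DRing.Cx A := DRing.homCx F I
  haveI : J.IsKInjective := isKInjective_homCx F I hF
  obtain ⟨I', g, hI', hg⟩ := Groth.Agent.Lib.helper23.RHomEx.hKinj A (CxBid.S₀ N)
  haveI := hI'
  haveI := hg
  haveI : IsIso (Q.map g) := by
    rw [isIso_Q_map_iff_quasiIso]
    exact hg
  let eN : (singleFunctor (ModuleCat.{u} A) 0).obj N ≅ Q.obj I' :=
    (singleFunctorIsoCompQ (ModuleCat.{u} A) 0).app N ≪≫ asIso (Q.map g)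
  have hfI' : ∀ j, Module.Finite A (Hn I' j) := fun j => by
    haveI := finite_Hn_single N j
    exact Module.Finite.equiv ((homologyFunctor (ModuleCat.{u} A) j).mapIso eN).toLinearEquiv
  let DI' : DRing.Cx A := DRing.homCx I' I
  let X : Dual.D A := Q.obj DI'
  have hamp : DRing.HasInjAmplitudeIn A M.a M.b (Q.obj I) := ⟨M.I, M.zero,
    fun j => (Module.injective_iff_injective_object A (M.I.X j)).2 (M.inj j), ⟨Iso.refl _⟩⟩
  haveI : (Q.obj I').IsLE 0 := TStructure.t.isLE_of_iso eN 0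
  haveI : X.IsGE (M.a - 0) := isGE_D_of_isLE I M.a M.b hamp I' 0
  haveI : X.IsGE M.a := by
    have h := (inferInstance : X.IsGE (M.a - 0))
    rwa [sub_zero] at h
  haveI : IsIso (Q.map (ev I I')) := biduality_cx hω M I' hfI'
  haveI : QuasiIso (ev I I') := (isIso_Q_map_iff_quasiIso (φ := ev I I')).1 inferInstance
  haveI : QuasiIso (DRing.homCxMap F (ev I I')) := quasiIso_homCxMap_of_isKProjective F (ev I I')
  let chain : (X ⟶ Q.obj (J⟦n⟧)) ≃ₗ[A] (Q.obj F ⟶ Q.obj (I'⟦n⟧)) :=
    (homologyEquivCxOfKInjective DI' J n).symm ≪≫ₗ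
      homologyLinearEquivOfIso (swapIso DI' F I) n ≪≫ₗ
      (homologyLinearEquivOfQuasiIso' (DRing.homCxMap F (ev I I')) n).symm ≪≫ₗ
      homologyEquivCxOfKProjective F I' n
  have hsub : Subsingleton (X ⟶ Q.obj (J⟦n⟧)) := ⟨fun f g => by
    have hampJ : DRing.HasInjAmplitudeIn A (c - n) (d - n) (Q.obj (J⟦n⟧)) :=
      hasInjAmplitudeIn_of_iso' ((Q.commShiftIso n).app J).symm (injAmp_shift _ c d n hZ)
    rw [hom_eq_zero_of_isGE_of_injAmp _ _ (c - n) (d - n) M.a hampJ (by omega) f,
      hom_eq_zero_of_isGE_of_injAmp _ _ (c - n) (d - n) M.a hampJ (by omega) g]⟩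
  haveI : Subsingleton (Q.obj F ⟶ Q.obj (I'⟦n⟧)) := chain.symm.toEquiv.subsingleton
  let eT : ((singleFunctor (ModuleCat.{u} A) 0).obj N)⟦n⟧ ≅ Q.obj (I'⟦n⟧) :=
    (shiftFunctor (Dual.D A) n).mapIso eN ≪≫ ((Q.commShiftIso n).app I').symm
  have h1 : φ ≫ eT.hom = 0 := Subsingleton.elim _ _
  rw [← cancel_mono eT.hom, h1, zero_comp]

end Groth.Agent.Lib.helper23.TorInj
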