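import Mathlib
import Groth.Prelude.Def_DRing4
import Groth.Agent.Lib.Helper23.FibVan2
import Groth.Agent.Lib.Helper23.ExtAR2

/-!
# Finite Tor dimension versus finite injective dimension of the dual (helper23), part 4

Exactness of the fibre `F ⊗ A/m` at a degree from the vanishing of `Hom_{D(A)}(F, (A/m)[n])`, and the
fibre criterion for Tor amplitude with the exactness hypotheses stated on a representative.
-/

set_option autoImplicit false
universe u
open CategoryTheory CategoryTheory.Limits TensorProduct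

attribute [local instance] HasDerivedCategory.standard

namespace Groth.Agent.Lib.helper23.TorInj

open Groth.Agent.Lib.helper23.TA Groth.Agent.Lib.helper23.PCohAmp
  Groth.Agent.Lib.helper23.PerfThick Groth.Agent.Lib.helper23.ExtSc
  Groth.Agent.Lib.helper23.FibVan Groth.Agent.Lib.helper23.ExtAR

variable {A : Type u} [CommRing A]

/-- exactness of `κ ⊗ -` (for `κ = A/m` a residue field) from exactness of the `κ`-dual. -/
lemma exact_lTensor_of_dual_exact (m : Ideal A) [m.IsMaximal] {X Y Z : Type u}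
    [AddCommGroup X] [Module A X] [AddCommGroup Y] [Module A Y] [AddCommGroup Z] [Module A Z]
    (f : X →ₗ[A] Y) (g : Y →ₗ[A] Z) (hgf : g ∘ₗ f = 0)
    (h : ∀ φ : Y →ₗ[A] (A ⧸ m), φ ∘ₗ f = 0 → ∃ ψ : Z →ₗ[A] (A ⧸ m), ψ ∘ₗ g = φ) :
    Function.Exact (f.lTensor (A ⧸ m)) (g.lTensor (A ⧸ m)) := by
  letI : Field (A ⧸ m) := Ideal.Quotient.field m
  intro v
  constructor
  · intro hv
    by_contra hv'
    let U : Submodule (A ⧸ m) ((A ⧸ m) ⊗[A] Y) := LinearMap.range (f.baseChange (A ⧸ m))
    have hvU : v ∉ U := by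
      rintro ⟨x, hx⟩
      exact hv' ⟨x, hx⟩
    obtain ⟨l, hlv, hlU⟩ := Submodule.exists_le_ker_of_notMem hvU
    let φ : Y →ₗ[A] (A ⧸ m) := (LinearMap.liftBaseChangeEquiv (A ⧸ m)).symm l
    have hφf : φ ∘ₗ f = 0 := by
      ext x
      show l (1 ⊗ₜ f x) = 0
      exact hlU ⟨1 ⊗ₜ x, rfl⟩
    obtain ⟨ψ, hψ⟩ := h φ hφf
    have hl : l = (ψ.liftBaseChange (A ⧸ m)) ∘ₗ (g.baseChange (A ⧸ m)) := by
      apply (LinearMap.liftBaseChangeEquiv (A ⧸ m)).symm.injective
      ext y
      show l (1 ⊗ₜ y) = ψ.liftBaseChange (A ⧸ m) (g.baseChange (A ⧸ m) (1 ⊗ₜ y))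
      rw [LinearMap.baseChange_tmul, LinearMap.liftBaseChange_tmul, one_smul]
      have := LinearMap.congr_fun hψ y
      exact this.symm
    apply hlv
    rw [hl]
    show ψ.liftBaseChange _ (g.baseChange _ v) = 0
    have : g.baseChange (A ⧸ m) v = g.lTensor (A ⧸ m) v := rfl
    rw [this, hv, map_zero]
  · rintro ⟨x, rfl⟩
    rw [← LinearMap.comp_apply, ← LinearMap.lTensor_comp, hgf, LinearMap.lTensor_zero]
    rfl

section Complexes

variable {B : Type u} [CommRing B] [Algebra A B]

/-- exactness of the base-changed complex from exactness of `lTensor`. -/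
lemma exactAt_extend_of_exact_lTensor (E : DRing.Cx A) (i : ℤ)
    (h : Function.Exact ((E.d (i - 1) i).hom.lTensor B) ((E.d i (i + 1)).hom.lTensor B)) :
    (((ModuleCat.extendScalars.{u, u, u} (algebraMap A B)).mapHomologicalComplex
      (ComplexShape.up ℤ)).obj E).ExactAt i := by
  rw [HomologicalComplex.exactAt_iff' _ (i - 1) i (i + 1) (by simp) (by simp)]
  refine (ShortComplex.ShortExact.moduleCat_exact_iff_function_exact _).2 ?_
  have h1 := exact_lTensor_congr (e₀ (A := A) (B := B)) _ _ h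
  exact exact_of_addEquiv _ _ _ _ (AddEquiv.refl _) (AddEquiv.refl _) (AddEquiv.refl _)
    (fun x => (extend_map_hom_apply (E.d (i - 1) i) x))
    (fun x => (extend_map_hom_apply (E.d i (i + 1)) x)) h1

end Complexes

/-- **Exactness of the fibre from vanishing of `Ext` into the residue field.** -/
theorem exactAt_extend_quotient_of_hom_eq_zero (m : Ideal A) [m.IsMaximal] (F : DRing.Cx A)
    [F.IsKProjective] (n p : ℤ) (hp : p + n = 0)
    (h : ∀ φ : DRing.toD F ⟶ (Dual.inD A (A ⧸ m))⟦n⟧, φ = 0) :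
    (((ModuleCat.extendScalars.{u, u, u} (algebraMap A (A ⧸ m))).mapHomologicalComplex
      (ComplexShape.up ℤ)).obj F).ExactAt p := by
  apply exactAt_extend_of_exact_lTensor
  refine exact_lTensor_of_dual_exact m _ _ ?_ ?_
  · rw [← ModuleCat.hom_comp, F.d_comp_d]
    rfl
  · intro φ hφ
    exact (Φm_eq_zero_iff F hp (by omega : (p - 1) + 1 = p) (rfl : p + 1 = p + 1) φ hφ).1 (h _)

end Groth.Agent.Lib.helper23.TorInj
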