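import Mathlib
import Groth.Prelude.Def_DRing4
import Groth.Agent.Lib.Helper23.TorInj2
import Groth.Agent.Lib.Helper23.TorInj3
import Groth.Agent.Lib.Helper23.TorInj4

/-!
# Finite Tor dimension versus finite injective dimension of the dual (helper23), part 5

The implication "`RHom(G, ω)` has finite injective dimension ⇒ `G` has finite Tor dimension", and the
equivalence (S11178).
-/

set_option autoImplicit false
universe u
open CategoryTheory CategoryTheory.Limits DerivedCategory

attribute [local instance] HasDerivedCategory.standard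

namespace Groth.Agent.Lib.helper23.TorInj

open Groth.Agent.Lib.helper23.TA Groth.Agent.Lib.helper23.PCohAmp
  Groth.Agent.Lib.helper23.PerfThick Groth.Agent.Lib.helper23.ExtSc
  Groth.Agent.Lib.helper23.FibVan Groth.Agent.Lib.helper23.RHomCx Groth.Agent.Lib.helper23.DualD
  Groth.Agent.Lib.helper23.DualPerf Groth.Agent.Lib.helper13.KFlat

variable {A : Type u} [CommRing A]

/-- the fibre criterion for Tor amplitude, with exactness of the fibres stated on a bounded above
finite free representative. -/
theorem hasTorAmplitudeIn_of_fibres_exact (E : DRing.Cx A) (c : ℤ) (hc : DRing.VanishesAbove E c)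
    (hE : DRing.TermwiseFiniteFree E) (a b : ℤ)
    (hex : ∀ m : Ideal A, m.IsMaximal → ∀ i : ℤ, (i < a ∨ b < i) →
      (((ModuleCat.extendScalars.{u, u, u} (algebraMap A (A ⧸ m))).mapHomologicalComplex
        (ComplexShape.up ℤ)).obj E).ExactAt i) :
    DRing.HasTorAmplitudeIn A a b (DRing.toD E) := by
  refine hasTorAmplitudeIn_of_extend_family (ι := MaximalSpectrum A)
    (B := fun m => Localization.AtPrime m.asIdeal)
    (fun m => algebraMap A (Localization.AtPrime m.asIdeal)) (fun m => ?_)
    (subsingleton_of_forall_maximal_extend A) E a b (fun m => ?_)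
  · rw [RingHom.flat_algebraMap_iff]
    exact IsLocalization.flat (Localization.AtPrime m.asIdeal) m.asIdeal.primeCompl
  · haveI := m.isMaximal
    obtain ⟨F, hP, hz, he⟩ := amp_FP_of_residue_exact_outside
      (((ModuleCat.extendScalars.{u, u, u}
        (algebraMap A (Localization.AtPrime m.asIdeal))).mapHomologicalComplex
          (ComplexShape.up ℤ)).obj E) c
      (vanishesAbove_extend _ E c hc)
      (fun i => FF_extend (algebraMap A (Localization.AtPrime m.asIdeal)) _ (hE i)) a b
      (fun i hi => exactAt_extend_residue_of_quotient m.asIdeal E i (hex m.asIdeal m.isMaximal i hi))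
    refine ⟨F, hz, fun i => ?_, he⟩
    haveI := (hP i).2
    infer_instance

/-- **The dual has finite injective dimension ⇒ finite Tor dimension.** -/
theorem hasFiniteTorDimCx_of_hasFiniteInjDim_RHomCx [IsNoetherianRing A] (ω : Dual.D A)
    (hω : Dual.IsDualizing A ω) (G : DRing.Cx A) [DRing.HasRHomCx G]
    (hfin : ∀ i : ℤ, Module.Finite A (Dual.HD A (DRing.toD G) i))
    (hbdd : ∃ b : ℤ, ∀ i : ℤ, b < i → Subsingleton (Dual.HD A (DRing.toD G) i))
    (h : DRing.HasFiniteInjDim A ((DRing.RHomCx G).obj ω)) :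
    DRing.HasFiniteTorDimCx A (DRing.toD G) := by
  obtain ⟨E, c, hc, hE, ⟨e⟩⟩ := isPseudoCoherent'_of_finite_bdd _ hfin hbdd
  haveI : E.IsStrictlyLE c := by
    rw [CochainComplex.isStrictlyLE_iff]
    exact fun i hi => hc i hi
  haveI : ∀ n : ℤ, Projective (E.X n) := fun n => by
    haveI := (hE n).1
    haveI := (hE n).2
    exact (IsProjective.iff_projective (R := A) (E.X n)).1 Module.Projective.of_free
  haveI : E.IsKProjective := CochainComplex.isKProjective_of_projective E c
  have hfl : DRing.TermwiseFlat E := fun i => by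
    haveI := (hE i).2
    infer_instance
  have hEK : IsKFlatR E := isKFlatR_of_bounded_above E c hc hfl
  haveI : DRing.HasRHomCx E := hasRHomCx_of_isKProjective E
  obtain ⟨e1⟩ := nonempty_RHomCx_iso_of_Q_iso E G e ω
  obtain ⟨M⟩ := exists_model ω hω
  haveI := M.isKInjective
  obtain ⟨c', d', hZ⟩ := h
  have hZ' : DRing.HasInjAmplitudeIn A c' d' (Q.obj (DRing.homCx E M.I)) :=
    hasInjAmplitudeIn_of_iso
      (e1 ≪≫ (DRing.RHomCx E).mapIso M.e.symm ≪≫ (RHomCxIso E M.I).symm) hZ
  refine ⟨M.a - d', c, hasTorAmplitudeIn_of_iso e ?_⟩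
  refine hasTorAmplitudeIn_of_fibres_exact E c hc hE (M.a - d') c ?_
  intro m hm i hi
  haveI := hm
  rcases hi with hi | hi
  · refine exactAt_extend_quotient_of_hom_eq_zero m E (-i) i (by omega) ?_
    intro φ
    haveI : Module.Finite A (ModuleCat.of A (A ⧸ m)) :=
      inferInstanceAs (Module.Finite A (A ⧸ m))
    exact hom_single_eq_zero hω M E hEK c' d' hZ' (ModuleCat.of A (A ⧸ m)) (-i) (by omega) φ
  · have hz := vanishesAbove_extend (algebraMap A (A ⧸ m)) E c hc i hi
    exact HomologicalComplex.ExactAt.of_isZero hz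

/-- **S11178.** -/
theorem hasFiniteTorDimCx_iff_hasFiniteInjDim_RHomCx [IsNoetherianRing A] (ω : Dual.D A)
    (hω : Dual.IsDualizing A ω) (G : DRing.Cx A) [DRing.HasRHomCx G]
    (hfin : ∀ i : ℤ, Module.Finite A (Dual.HD A (DRing.toD G) i))
    (hbdd : ∃ b : ℤ, ∀ i : ℤ, b < i → Subsingleton (Dual.HD A (DRing.toD G) i)) :
    DRing.HasFiniteTorDimCx A (DRing.toD G) ↔
      DRing.HasFiniteInjDim A ((DRing.RHomCx G).obj ω) :=
  ⟨hasFiniteInjDim_RHomCx_of_hasFiniteTorDimCx ω hω G hfin hbdd,
    hasFiniteTorDimCx_of_hasFiniteInjDim_RHomCx ω hω G hfin hbdd⟩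

end Groth.Agent.Lib.helper23.TorInj
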