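import Mathlib
import Groth.Prelude.Def_DTen5
import Groth.Agent.Lib.Helper23.TrD9

/-!
# Base change for trivial duality and the evaluation map, II (helper23)

The identification of `evalTen (R'|_R) K (A|_R)` with the restriction to `R` of the base change map of trivial
duality.
-/

set_option autoImplicit false
universe u
open CategoryTheory CategoryTheory.Limits MonoidalCategory
attribute [local instance] HasDerivedCategory.standard

namespace Groth.Agent.Lib.helper23.TrD

open DTen TrivBC Groth.Agent.Lib.helper13.PerfInd Groth.Agent.Lib.helper23.TIB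

variable {R A R' A' : Type u} [CommRing R] [CommRing A] [CommRing R'] [CommRing A']
  {φ : R →+* A} {ρ : R →+* R'} {α : A →+* A'} {φ' : R' →+* A'} (h : α.comp φ = φ'.comp ρ)
  [HasLTen R]
  {Lρ : Dual.D R ⥤ Dual.D R'} (adjρ : Lρ ⊣ DRing.restrictD ρ)
  {Lα : Dual.D A ⥤ Dual.D A'} (adjα : Lα ⊣ DRing.restrictD α)
  {Lφ : Dual.D R ⥤ Dual.D A} (adjφ : Lφ ⊣ DRing.restrictD φ)
  {Rφ : Dual.D R ⥤ Dual.D A} (adj : DRing.restrictD φ ⊣ Rφ)
  {Rφ' : Dual.D R' ⥤ Dual.D A'} (adj' : DRing.restrictD φ' ⊣ Rφ')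

section Iota

/-- `R'|_R ⊗^L S|_R ⟶ (S ⊗^L_A A')|_A|_R` -/
noncomputable def iotaZ (S : Dual.D A) :
    (LTen₂ R).obj (T ρ, (DRing.restrictD φ).obj S) ⟶ Wd φ α (Lα.obj S) :=
  (projL ρ adjρ).app ((DRing.restrictD φ).obj S) ≫ (DRing.restrictD ρ).map (cmpG h adjρ adjα S) ≫
    (resComm h).inv.app (Lα.obj S)

lemma isIso_iotaZ (S : Dual.D A) [IsIso (cmpG h adjρ adjα S)] : IsIso (iotaZ h adjρ adjα S) := by
  haveI := isIso_projL_app ρ adjρ ((DRing.restrictD φ).obj S)
  dsimp only [iotaZ]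
  infer_instance

lemma iotaZ_eq (S : Dual.D A) :
    iotaZ h adjρ adjα S =
      tmap (𝟙 (T ρ)) ((DRing.restrictD φ).map (adjα.unit.app S)) ≫ actL' h (Lα.obj S) := by
  have e1 := homEquiv_cmpG h adjρ adjα S
  rw [Adjunction.homEquiv_unit] at e1
  have n := (actL ρ).naturality (cmpG h adjρ adjα S)
  dsimp only [Functor.comp_obj, Functor.comp_map] at n
  dsimp only [iotaZ, projL, actL']
  rw [Category.assoc, ← reassoc_of% n, tensorLeftD_map, tensorLeftD_map, tmap_id_left_comp_assoc, e1,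
    tmap_id_left_comp_assoc]

variable [HasLTen₃ R] [IsSymMonoidal R]

/-- the key compatibility: `iotaZ` is right `A|_R`-linear -/
theorem iotaZ_actR (S : Dual.D A) :
    tmap (iotaZ h adjρ adjα S) (𝟙 (T φ)) ≫ actR' φ α (Lα.obj S) =
      (associator (T ρ) ((DRing.restrictD φ).obj S) (T φ)).hom ≫
        tmap (𝟙 (T ρ)) ((actR φ).app S) ≫ iotaZ h adjρ adjα S := by
  have b := bimod_derived h (Lα.obj S)
  have n1 := associator_naturality (𝟙 (T ρ)) ((DRing.restrictD φ).map (adjα.unit.app S)) (𝟙 (T φ))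
  have n2 := (actR φ).naturality (adjα.unit.app S)
  dsimp only [Functor.comp_obj, Functor.comp_map, Functor.id_obj] at n2
  rw [tensorRightD_map] at n2
  rw [iotaZ_eq, ← tmap_id_right_comp, Category.assoc, ← b, reassoc_of% n1]
  dsimp only [actR']
  rw [tmap_id_left_comp_assoc, n2, ← tmap_id_left_comp_assoc]

end Iota

section Main

variable [HasRHom R]

/-- `V|_A ⟶ RHom(A, Y|_R)` attached to `bc : V ⟶ RHom(A', Y)` -/
noncomputable def thetaMap {V : Dual.D A'} {Y : Dual.D R'} (bc : V ⟶ Rφ'.obj Y) :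
    (DRing.restrictD α).obj V ⟶ Rφ.obj ((DRing.restrictD ρ).obj Y) :=
  (DRing.restrictD α).map bc ≫ (nuMap h adjρ adjα adj adj').app Y

/-- `V|_R ⟶ RHom_R(A|_R, Y|_R)` attached to `bc : V ⟶ RHom(A', Y)` -/
noncomputable def xiMap {V : Dual.D A'} {Y : Dual.D R'} (bc : V ⟶ Rφ'.obj Y) :
    Wd φ α V ⟶ (RHomR R (T φ)).obj ((DRing.restrictD ρ).obj Y) :=
  (DRing.restrictD φ).map (thetaMap h adjρ adjα adj adj' bc) ≫
    (bMap φ adjφ adj).app ((DRing.restrictD ρ).obj Y)

lemma xiMap_ev {V : Dual.D A'} {Y : Dual.D R'} (bc : V ⟶ Rφ'.obj Y) :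
    tmap (xiMap h adjρ adjα adjφ adj adj' bc) (𝟙 (T φ)) ≫ ev (T φ) ((DRing.restrictD ρ).obj Y) =
      actR' φ α V ≫ (resComm h).hom.app V ≫
        (DRing.restrictD ρ).map ((adj'.homEquiv _ _).symm bc) := by
  have e1 := bMap_ev φ adjφ adj ((DRing.restrictD ρ).obj Y)
  have n1 := (actR φ).naturality (thetaMap h adjρ adjα adj adj' bc)
  dsimp only [Functor.comp_obj, Functor.comp_map, Functor.id_obj] at n1
  rw [tensorRightD_map] at n1
  have e2 := nuMap_counit h adjρ adjα adj adj' Y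
  have n2 := (resComm h).hom.naturality bc
  dsimp only [Functor.comp_obj, Functor.comp_map] at n2
  dsimp only [xiMap]
  rw [← tmap_id_right_comp, Category.assoc, e1, reassoc_of% n1]
  dsimp only [thetaMap, actR']
  rw [Functor.map_comp, Category.assoc, e2, reassoc_of% n2, Adjunction.homEquiv_counit,
    Functor.map_comp]

lemma isIso_xiMap_iff [IsIso (nuMap h adjρ adjα adj adj')] {V : Dual.D A'} {Y : Dual.D R'}
    (bc : V ⟶ Rφ'.obj Y) :
    IsIso (xiMap h adjρ adjα adjφ adj adj' bc) ↔ IsIso bc := by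
  constructor
  · intro hx
    haveI i1 : IsIso ((DRing.restrictD φ).map (thetaMap h adjρ adjα adj adj' bc)) := by
      have : (DRing.restrictD φ).map (thetaMap h adjρ adjα adj adj' bc) =
          xiMap h adjρ adjα adjφ adj adj' bc ≫ inv ((bMap φ adjφ adj).app ((DRing.restrictD ρ).obj Y)) := by
        dsimp only [xiMap]
        rw [Category.assoc, IsIso.hom_inv_id, Category.comp_id]
      rw [this]
      infer_instance
    haveI i2 : IsIso (thetaMap h adjρ adjα adj adj' bc) := isIso_of_isIso_restrictD φ _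
    haveI i3 : IsIso ((DRing.restrictD α).map bc) := by
      have : (DRing.restrictD α).map bc =
          thetaMap h adjρ adjα adj adj' bc ≫ inv ((nuMap h adjρ adjα adj adj').app Y) := by
        dsimp only [thetaMap]
        rw [Category.assoc, IsIso.hom_inv_id, Category.comp_id]
      rw [this]
      infer_instance
    exact isIso_of_isIso_restrictD α _
  · intro hb
    dsimp only [xiMap, thetaMap]
    infer_instance

variable [HasLTen₃ R] [IsSymMonoidal R]

/-- the main identity: `evalTen (R'|_R) K (A|_R)` is, up to the isomorphisms `bMap`, `projL`, `iotaZ`, the map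
`xiMap` attached to the base change map of trivial duality. -/
theorem evalTen_eq (K : Dual.D R) (m : (DRing.restrictD φ').obj (Lα.obj (Rφ.obj K)) ⟶ Lρ.obj K)
    (hm : cmpG h adjρ adjα (Rφ.obj K) ≫ m = Lρ.map (adj.counit.app K)) :
    tmap (𝟙 (T ρ)) ((bMap φ adjφ adj).app K) ≫ evalTen (T ρ) K (T φ) ≫
        (RHomR R (T φ)).map ((projL ρ adjρ).app K) =
      iotaZ h adjρ adjα (Rφ.obj K) ≫ xiMap h adjρ adjα adjφ adj adj' (adj'.homEquiv _ _ m) := by
  apply ((rhomAdj R (T φ)).homEquiv _ _).symm.injective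
  rw [Adjunction.homEquiv_counit, Adjunction.homEquiv_counit, tensorRightD_map, tensorRightD_map]
  -- the right hand side
  have r1 := xiMap_ev h adjρ adjα adjφ adj adj' (adj'.homEquiv _ _ m)
  rw [Equiv.symm_apply_apply] at r1
  have r2 := iotaZ_actR h adjρ adjα (φ := φ) (Rφ.obj K)
  have r3 : iotaZ h adjρ adjα (Rφ.obj K) ≫ (resComm h).hom.app (Lα.obj (Rφ.obj K)) ≫
      (DRing.restrictD ρ).map m =
      (projL ρ adjρ).app ((DRing.restrictD φ).obj (Rφ.obj K)) ≫
        (DRing.restrictD ρ).map (Lρ.map (adj.counit.app K)) := by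
    dsimp only [iotaZ]
    simp only [Category.assoc, Iso.inv_hom_id_app_assoc]
    rw [← Functor.map_comp, hm]
  have hR : tmap (iotaZ h adjρ adjα (Rφ.obj K) ≫
        xiMap h adjρ adjα adjφ adj adj' (adj'.homEquiv _ _ m)) (𝟙 (T φ)) ≫
        (rhomAdj R (T φ)).counit.app ((Lρ ⋙ DRing.restrictD ρ).obj K) =
      (associator (T ρ) ((DRing.restrictD φ).obj (Rφ.obj K)) (T φ)).hom ≫
        tmap (𝟙 (T ρ)) ((actR φ).app (Rφ.obj K)) ≫
          (projL ρ adjρ).app ((DRing.restrictD φ).obj (Rφ.obj K)) ≫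
            (DRing.restrictD ρ).map (Lρ.map (adj.counit.app K)) := by
    rw [← tmap_id_right_comp, Category.assoc]
    erw [r1]
    rw [reassoc_of% r2, r3]
  refine Eq.trans ?_ hR.symm
  -- the left hand side
  have l1 := (rhomAdj R (T φ)).counit.naturality ((projL ρ adjρ).app K)
  dsimp only [Functor.comp_obj, Functor.comp_map, Functor.id_obj, Functor.id_map] at l1
  rw [tensorRightD_map] at l1
  have l2 := evalTen_fac (T ρ) K (T φ)
  have l3 := associator_naturality (𝟙 (T ρ)) ((bMap φ adjφ adj).app K) (𝟙 (T φ))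
  have l4 := bMap_ev φ adjφ adj K
  have l5 := (projL ρ adjρ).naturality (adj.counit.app K)
  dsimp only [Functor.comp_obj, Functor.comp_map, Functor.id_obj, Functor.id_map] at l5
  rw [tensorLeftD_map] at l5
  rw [← tmap_id_right_comp, ← tmap_id_right_comp, Category.assoc, Category.assoc]
  erw [l1]
  change _ ≫ tmap (evalTen (T ρ) K (T φ)) (𝟙 (T φ)) ≫ ev (T φ) _ ≫ _ = _
  rw [reassoc_of% l2]
  dsimp only [evalTenAux]
  change _ ≫ ((DTen.associator _ _ _).hom ≫ tmap (𝟙 (T ρ)) (ev (T φ) K)) ≫ _ = _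
  rw [Category.assoc, reassoc_of% l3, tmap_id_left_comp_assoc, l4, ← tmap_id_left_comp_assoc, l5]

/-- **trivial duality and evaluation**: if the base change comparison maps are isomorphisms, the base change map of
trivial duality (the `adj'`-transpose of `m`, where `cmp ≫ m = Lρ (counit)`) is an isomorphism iff the evaluation map
`R'|_R ⊗^L RHom_R(A|_R, K) ⟶ RHom_R(A|_R, R'|_R ⊗^L K)` is an isomorphism. -/
theorem isIso_homEquiv_iff_isIso_evalTen (hc : ∀ S, IsIso (cmpG h adjρ adjα S)) (K : Dual.D R)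
    (m : (DRing.restrictD φ').obj (Lα.obj (Rφ.obj K)) ⟶ Lρ.obj K)
    (hm : cmpG h adjρ adjα (Rφ.obj K) ≫ m = Lρ.map (adj.counit.app K)) :
    IsIso (adj'.homEquiv _ _ m) ↔ IsIso (evalTen (T ρ) K (T φ)) := by
  haveI : DTen.HasLBase φ := Groth.Agent.Lib.helper13.RKF.hasLBase φ
  have e := evalTen_eq h adjρ adjα (baseAdj φ) adj adj' K m hm
  haveI i1 : IsIso (nuMap h adjρ adjα adj adj') := isIso_nuMap h adjρ adjα adj adj' hc
  haveI i2 : IsIso (iotaZ h adjρ adjα (Rφ.obj K)) :=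
    haveI := hc (Rφ.obj K)
    isIso_iotaZ h adjρ adjα (Rφ.obj K)
  haveI i3 : IsIso (tmap (𝟙 (T ρ)) ((bMap φ (baseAdj φ) adj).app K)) := isIso_LTen₂_map _ _
  haveI i4 : IsIso ((projL ρ adjρ).app K) := isIso_projL_app ρ adjρ K
  haveI i5 : IsIso ((RHomR R (T φ)).map ((projL ρ adjρ).app K)) := inferInstance
  rw [← isIso_xiMap_iff h adjρ adjα (baseAdj φ) adj adj' (adj'.homEquiv _ _ m)]
  constructor
  · intro hx
    have i6 : IsIso (tmap (𝟙 (T ρ)) ((bMap φ (baseAdj φ) adj).app K) ≫ evalTen (T ρ) K (T φ) ≫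
        (RHomR R (T φ)).map ((projL ρ adjρ).app K)) := by
      rw [e]
      infer_instance
    have e2 : evalTen (T ρ) K (T φ) = inv (tmap (𝟙 (T ρ)) ((bMap φ (baseAdj φ) adj).app K)) ≫
        (tmap (𝟙 (T ρ)) ((bMap φ (baseAdj φ) adj).app K) ≫ evalTen (T ρ) K (T φ) ≫
          (RHomR R (T φ)).map ((projL ρ adjρ).app K)) ≫
          inv ((RHomR R (T φ)).map ((projL ρ adjρ).app K)) := by
      simp only [Category.assoc, IsIso.hom_inv_id, Category.comp_id, IsIso.inv_hom_id_assoc]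
    rw [e2]
    infer_instance
  · intro hx
    have e2 : xiMap h adjρ adjα (baseAdj φ) adj adj' (adj'.homEquiv _ _ m) =
        inv (iotaZ h adjρ adjα (Rφ.obj K)) ≫
          (tmap (𝟙 (T ρ)) ((bMap φ (baseAdj φ) adj).app K) ≫ evalTen (T ρ) K (T φ) ≫
            (RHomR R (T φ)).map ((projL ρ adjρ).app K)) := by
      rw [e, IsIso.inv_hom_id_assoc]
    rw [e2]
    infer_instance

end Main

end Groth.Agent.Lib.helper23.TrD
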