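import Mathlib
import Groth.Prelude.Def_Wider
import Groth.Prelude.Def_DDual2
import Groth.Agent.Lib.Helper23.Unram
import Groth.Agent.Lib.Helper23.BaerD
import Groth.Agent.Lib.Helper23.FinLenDual3
import Groth.Agent.Lib.Helper23.ExtSc2

/-!
# helper23: `B ⊗_A I` is injective for `A → B` flat "unramified at primes" and `I` injective (S1745)
-/

set_option autoImplicit false
universe u
open CategoryTheory CategoryTheory.Limits DerivedCategory Pretriangulated TensorProduct

attribute [local instance] HasDerivedCategory.standard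

namespace Groth.Agent.Lib.helper23.UnramInj

open Groth.Agent.Lib.helper23.FBC Groth.Agent.Lib.helper23.BaerD
  Groth.Agent.Lib.helper23.FinLenDual

attribute [local instance 50] homModuleA
attribute [local instance] FlatBC.preservesFiniteLimits_extendScalars_algebraMap

section Unr

variable {A B : Type u} [CommRing A] [CommRing B] [Algebra A B]

/-- the local condition `p B_q = q B_q` gives the global "kill" condition `Unr`. -/
theorem unr_of_local [IsNoetherianRing B]
    (h : ∀ q : PrimeSpectrum B, Ideal.map (algebraMap B (Localization.AtPrime q.asIdeal))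
      ((q.asIdeal.comap (algebraMap A B)).map (algebraMap A B)) =
        IsLocalRing.maximalIdeal (Localization.AtPrime q.asIdeal)) : Unr A B := by
  intro q hq
  haveI := hq
  set P : Ideal B := (q.comap (algebraMap A B)).map (algebraMap A B) with hP
  have h1 : ∀ g ∈ q, ∃ s : B, s ∉ q ∧ s * g ∈ P := by
    intro g hg
    have hmem : algebraMap B (Localization.AtPrime q) g ∈
        IsLocalRing.maximalIdeal (Localization.AtPrime q) := by
      rw [← Localization.AtPrime.map_eq_maximalIdeal]
      exact Ideal.mem_map_of_mem _ hg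
    rw [← h ⟨q, hq⟩] at hmem
    obtain ⟨⟨⟨y, hy⟩, ⟨s, hs⟩⟩, hys⟩ :=
      (IsLocalization.mem_map_algebraMap_iff q.primeCompl (Localization.AtPrime q)).1 hmem
    simp only at hys
    rw [← map_mul] at hys
    obtain ⟨⟨c, hc⟩, hc'⟩ := (IsLocalization.eq_iff_exists q.primeCompl _).1 hys
    simp only at hc'
    refine ⟨c * s, fun hcs => ?_, ?_⟩
    · rcases hq.mem_or_mem hcs with h' | h'
      · exact hc h'
      · exact hs h'
    · have : c * s * g = c * y := by rw [← hc']; ring
      rw [this]
      exact Ideal.mul_mem_left _ _ hy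
  obtain ⟨S, hS⟩ := (isNoetherianRing_iff_ideal_fg B).1 inferInstance q
  choose! σ hσ using h1
  refine ⟨∏ g ∈ S, σ g, fun hmem => ?_, fun g hg => ?_⟩
  · obtain ⟨g, hgS, hg⟩ := (hq.prod_mem_iff).1 hmem
    have hgq : g ∈ q := by
      rw [← hS]
      exact Ideal.subset_span hgS
    exact (hσ g hgq).1 hg
  · rw [← hS] at hg
    refine Submodule.span_induction (p := fun g _ => (∏ g ∈ S, σ g) * g ∈ P) ?_ ?_ ?_ ?_ hg
    · intro g hgS
      have hgq : g ∈ q := by
        rw [← hS]
        exact Ideal.subset_span hgS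
      obtain ⟨t, ht⟩ := Finset.dvd_prod_of_mem σ hgS
      rw [ht, mul_assoc, mul_comm t, ← mul_assoc]
      exact Ideal.mul_mem_right _ _ (hσ g hgq).2
    · rw [mul_zero]
      exact Ideal.zero_mem _
    · intro x y _ _ hx hy
      rw [mul_add]
      exact Ideal.add_mem _ hx hy
    · intro a x _ hx
      rw [smul_eq_mul, mul_left_comm]
      exact Ideal.mul_mem_left _ _ hx

end Unr

section Inj

variable {R : Type u} [CommRing R]

/-- a module `M` with `Hom(N[0], M[0][1]) = 0` for all `N` is injective. -/
theorem injective_of_hom_shift_eq_zero (M : ModuleCat.{u} R)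
    (h : ∀ (N : ModuleCat.{u} R)
      (φ : (singleFunctor (ModuleCat.{u} R) 0).obj N ⟶
        ((singleFunctor (ModuleCat.{u} R) 0).obj M)⟦(1 : ℤ)⟧), φ = 0) :
    Injective M := by
  letI := HasExt.standard (ModuleCat.{u} R)
  rw [injective_iff_subsingleton_ext_one]
  intro Y
  refine ⟨fun x y => Abelian.Ext.homEquiv.injective ?_⟩
  have hx := h Y (Abelian.Ext.homEquiv x)
  have hy := h Y (Abelian.Ext.homEquiv y)
  exact hx.trans hy.symm

end Inj

variable (A B : Type u) [CommRing A] [CommRing B] [Algebra A B] [IsNoetherianRing A]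
  [IsNoetherianRing B] [Module.Flat A B]

theorem injective_baseChange (hunr : Unr A B) (E : Type u) [AddCommGroup E] [Module A E]
    [Module.Injective A E] : Module.Injective B (B ⊗[A] E) := by
  let K : Dual.D A := Dual.inD A E
  haveI : Injective (ModuleCat.of A E) :=
    (Module.injective_iff_injective_object A E).1 inferInstance
  have hPB : ∀ (M : ModuleCat.{u} A) [Module.Finite A M], BassD.PB K 0 M := by
    intro M _ i hi φ
    haveI := subsingleton_hom_single_injective M (ModuleCat.of A E) i (by omega)
    exact Subsingleton.elim _ _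
  let L : Dual.D B := (EE A B).obj K
  let M' : ModuleCat.{u} B :=
    (ModuleCat.extendScalars.{u, u, u} (algebraMap A B)).obj (ModuleCat.of A E)
  let eL : L ≅ (singleFunctor (ModuleCat.{u} B) 0).obj M' := EEsingleIso B (ModuleCat.of A E)
  haveI : L.IsGE 0 := DerivedCategory.TStructure.t.isGE_of_iso eL.symm 0
  haveI : L.IsLE 0 := DerivedCategory.TStructure.t.isLE_of_iso eL.symm 0
  haveI : K.IsGE 0 := by
    show ((singleFunctor (ModuleCat.{u} A) 0).obj (ModuleCat.of A E)).IsGE 0
    infer_instance
  have key : ∀ (J : Ideal B) (φ : (singleFunctor (ModuleCat.{u} B) 0).obj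
      (ModuleCat.of B (B ⧸ J)) ⟶ L⟦(0 : ℤ) + 1⟧), φ = 0 := by
    intro J φ
    haveI : Module.Finite B (ModuleCat.of B (B ⧸ J)) :=
      inferInstanceAs (Module.Finite B (B ⧸ J))
    exact PB_of_unr B hunr K 0 0 hPB (ModuleCat.of B (B ⧸ J)) (0 + 1) (by norm_num) φ
  haveI : Injective M' := by
    refine injective_of_hom_shift_eq_zero M' (fun N φ => ?_)
    have h1 : φ ≫ (eL.symm.hom)⟦(1 : ℤ)⟧' = 0 :=
      hom_eq_zero_of_cyclic L 0 0 le_rfl key N 1 (Or.inr (by norm_num)) _
    haveI : IsIso ((eL.symm.hom)⟦(1 : ℤ)⟧') := inferInstance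
    exact (cancel_mono ((eL.symm.hom)⟦(1 : ℤ)⟧')).1 (by rw [h1, zero_comp])
  haveI : Module.Injective B M' := Module.injective_module_of_injective_object B M'
  exact (Module.Baer.of_equiv (ExtSc.extendObjEquiv (B := B) (ModuleCat.of A E))
    (Module.Baer.of_injective inferInstance)).injective

end Groth.Agent.Lib.helper23.UnramInj
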