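import Mathlib
import Groth.Agent.Lib.Helper23.Devissage

/-!
# The lemma on way-out functors (helper23)
-/

set_option autoImplicit false
universe w w' v v' u u'
open CategoryTheory CategoryTheory.Limits Pretriangulated

namespace Groth.Agent.Lib.helper23.WayOut

section General

variable {C : Type u} [Category.{v} C] [HasZeroObject C] [Preadditive C] [HasShift C ℤ]
  [∀ n : ℤ, (shiftFunctor C n).Additive] [Pretriangulated C]
  {D : Type u'} [Category.{v'} D] [HasZeroObject D] [Preadditive D] [HasShift D ℤ]
  [∀ n : ℤ, (shiftFunctor D n).Additive] [Pretriangulated D]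
  {F G : C ⥤ D} [F.CommShift ℤ] [G.CommShift ℤ] [F.IsTriangulated] [G.IsTriangulated]
  (η : F ⟶ G) [NatTrans.CommShift η ℤ]

omit [HasZeroObject C] [Preadditive C] [HasShift C ℤ] [∀ n : ℤ, (shiftFunctor C n).Additive]
  [Pretriangulated C] [HasZeroObject D] [Preadditive D] [HasShift D ℤ]
  [∀ n : ℤ, (shiftFunctor D n).Additive] [Pretriangulated D] [F.CommShift ℤ] [G.CommShift ℤ]
  [F.IsTriangulated] [G.IsTriangulated] [NatTrans.CommShift η ℤ] in
lemma isIso_app_of_iso {X Y : C} (e : X ≅ Y) (h : IsIso (η.app X)) : IsIso (η.app Y) := by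
  have : η.app Y = F.map e.inv ≫ η.app X ≫ G.map e.hom := by
    rw [← Category.assoc, η.naturality, Category.assoc, ← G.map_comp, e.inv_hom_id, G.map_id,
      Category.comp_id]
  rw [this]
  infer_instance

omit [NatTrans.CommShift η ℤ] in
lemma isIso_app_of_isZero {X : C} (hX : IsZero X) : IsIso (η.app X) :=
  ⟨0, (F.map_isZero hX).eq_of_src _ _, (G.map_isZero hX).eq_of_src _ _⟩

omit [HasZeroObject C] [Preadditive C] [∀ n : ℤ, (shiftFunctor C n).Additive]
  [Pretriangulated C] [HasZeroObject D] [Preadditive D]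
  [∀ n : ℤ, (shiftFunctor D n).Additive] [Pretriangulated D]
  [F.IsTriangulated] [G.IsTriangulated] in
lemma isIso_app_shift (X : C) (n : ℤ) (h : IsIso (η.app X)) : IsIso (η.app (X⟦n⟧)) := by
  rw [NatTrans.app_shift η n X]
  infer_instance

set_option backward.isDefEq.respectTransparency.types false in
set_option backward.defeqAttrib.useBackward true in
/-- the morphism of triangles induced by `η`. -/
def mapTriangleHom (T : Triangle C) : F.mapTriangle.obj T ⟶ G.mapTriangle.obj T :=
  Triangle.homMk _ _ (η.app _) (η.app _) (η.app _) (by simp) (by simp) (by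
    dsimp
    simp only [Category.assoc, NatTrans.shift_app_comm η (1 : ℤ) T.obj₁,
      NatTrans.naturality_assoc])

lemma isIso_app_of_distTriang (T : Triangle C) (hT : T ∈ distTriang C)
    (h1 : IsIso (η.app T.obj₁)) (h3 : IsIso (η.app T.obj₃)) : IsIso (η.app T.obj₂) :=
  isIso₂_of_isIso₁₃ (mapTriangleHom η T) (F.map_distinguished T hT) (G.map_distinguished T hT)
    h1 h3

end General

section Derived

variable {A : Type u} [Category.{v} A] [Abelian A] [HasDerivedCategory.{w} A]
  {B : Type u'} [Category.{v'} B] [Abelian B] [HasDerivedCategory.{w'} B]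
  (P : ObjectProperty A) [P.IsClosedUnderIsomorphisms]
  {F G : DerivedCategory A ⥤ DerivedCategory B} [F.CommShift ℤ] [G.CommShift ℤ]
  [F.IsTriangulated] [G.IsTriangulated] (η : F ⟶ G) [NatTrans.CommShift η ℤ]

include P in
/-- The way-out lemma, bounded case (S11149). -/
theorem isIso_app_of_bounded
    (hη : ∀ X : A, P X → IsIso (η.app ((DerivedCategory.singleFunctor A 0).obj X)))
    (X : DerivedCategory A) (a b : ℤ) [X.IsGE a] [X.IsLE b]
    (hX : ∀ i : ℤ, P ((DerivedCategory.homologyFunctor A i).obj X)) :
    IsIso (η.app X) := by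
  refine Devissage.devissage_homology (fun X => IsIso (η.app X))
    (fun X Y e h => isIso_app_of_iso η e h) (fun X hX => isIso_app_of_isZero η hX)
    (fun X n h => isIso_app_shift η X n h)
    (fun T hT h1 h3 => isIso_app_of_distTriang η T hT h1 h3) (b - a + 1).toNat b X ?_ ?_ ?_
  · intro i hi
    exact DerivedCategory.isZero_of_isLE X b i hi
  · intro i hi
    exact DerivedCategory.isZero_of_isGE X a i (by omega)
  · intro i
    exact hη _ (hX i)

end Derived

end Groth.Agent.Lib.helper23.WayOut
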