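import Mathlib
import Groth.Agent.Lib.Helper23.WayOut
import Groth.Agent.Lib.Helper23.SplitTrunc

/-!
# The lemma on way-out functors II: way-out right / both directions (helper23)
-/

set_option autoImplicit false
universe w w' v v' u u'
open CategoryTheory CategoryTheory.Limits Pretriangulated

namespace Groth.Agent.Lib.helper23.WayOut

section Homology

variable {B : Type u'} [Category.{v'} B] [Abelian B] [HasDerivedCategory.{w'} B]

lemma isIso_homologyMap_mor₁ (T : Triangle (DerivedCategory B)) (hT : T ∈ distTriang _) (j : ℤ)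
    (h1 : IsZero ((DerivedCategory.homologyFunctor B (j - 1)).obj T.obj₃))
    (h2 : IsZero ((DerivedCategory.homologyFunctor B j).obj T.obj₃)) :
    IsIso ((DerivedCategory.homologyFunctor B j).map T.mor₁) := by
  haveI : Mono ((DerivedCategory.homologyFunctor B j).map T.mor₁) :=
    (DerivedCategory.HomologySequence.mono_homologyMap_mor₁_iff _ hT (j - 1) j (by simp)).2
      (h1.eq_of_src _ _)
  haveI : Epi ((DerivedCategory.homologyFunctor B j).map T.mor₁) :=
    (DerivedCategory.HomologySequence.epi_homologyMap_mor₁_iff _ hT j).2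
      (h2.eq_of_tgt _ _)
  exact isIso_of_mono_of_epi _

lemma isIso_homologyMap_mor₂ (T : Triangle (DerivedCategory B)) (hT : T ∈ distTriang _) (j : ℤ)
    (h1 : IsZero ((DerivedCategory.homologyFunctor B j).obj T.obj₁))
    (h2 : IsZero ((DerivedCategory.homologyFunctor B (j + 1)).obj T.obj₁)) :
    IsIso ((DerivedCategory.homologyFunctor B j).map T.mor₂) := by
  haveI : Mono ((DerivedCategory.homologyFunctor B j).map T.mor₂) :=
    (DerivedCategory.HomologySequence.mono_homologyMap_mor₂_iff _ hT j).2
      (h1.eq_of_src _ _)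
  haveI : Epi ((DerivedCategory.homologyFunctor B j).map T.mor₂) :=
    (DerivedCategory.HomologySequence.epi_homologyMap_mor₂_iff _ hT j (j + 1) rfl).2
      (h2.eq_of_tgt _ _)
  exact isIso_of_mono_of_epi _

end Homology

variable {A : Type u} [Category.{v} A] [Abelian A] [HasDerivedCategory.{w} A]
  {B : Type u'} [Category.{v'} B] [Abelian B] [HasDerivedCategory.{w'} B]
  {F G : DerivedCategory A ⥤ DerivedCategory B} (η : F ⟶ G)

lemma isIso_homologyMap_app_of_src {X' X : DerivedCategory A} (f : X' ⟶ X) (j : ℤ)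
    (hF : IsIso ((DerivedCategory.homologyFunctor B j).map (F.map f)))
    (hG : IsIso ((DerivedCategory.homologyFunctor B j).map (G.map f)))
    (h : IsIso ((DerivedCategory.homologyFunctor B j).map (η.app X'))) :
    IsIso ((DerivedCategory.homologyFunctor B j).map (η.app X)) := by
  have : (DerivedCategory.homologyFunctor B j).map (η.app X) =
      inv ((DerivedCategory.homologyFunctor B j).map (F.map f)) ≫
        (DerivedCategory.homologyFunctor B j).map (η.app X') ≫
          (DerivedCategory.homologyFunctor B j).map (G.map f) := by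
    rw [IsIso.eq_inv_comp, ← Functor.map_comp, ← Functor.map_comp, η.naturality]
  rw [this]
  infer_instance

lemma isIso_homologyMap_app_of_tgt {X X' : DerivedCategory A} (f : X ⟶ X') (j : ℤ)
    (hF : IsIso ((DerivedCategory.homologyFunctor B j).map (F.map f)))
    (hG : IsIso ((DerivedCategory.homologyFunctor B j).map (G.map f)))
    (h : IsIso ((DerivedCategory.homologyFunctor B j).map (η.app X'))) :
    IsIso ((DerivedCategory.homologyFunctor B j).map (η.app X)) := by
  have : (DerivedCategory.homologyFunctor B j).map (η.app X) =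
      (DerivedCategory.homologyFunctor B j).map (F.map f) ≫
        (DerivedCategory.homologyFunctor B j).map (η.app X') ≫
          inv ((DerivedCategory.homologyFunctor B j).map (G.map f)) := by
    rw [← Category.assoc, IsIso.eq_comp_inv, ← Functor.map_comp, ← Functor.map_comp, η.naturality]
  rw [this]
  infer_instance

variable (P : ObjectProperty A) [P.IsClosedUnderIsomorphisms]
  [F.CommShift ℤ] [G.CommShift ℤ] [F.IsTriangulated] [G.IsTriangulated] [NatTrans.CommShift η ℤ]

/-- The way-out lemma, way-out right case (S11150). -/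
theorem isIso_app_of_isGE_of_wayOutRight
    (hF : ∀ n₁ : ℤ, ∃ n₂ : ℤ, ∀ Y : DerivedCategory A, Y.IsGE n₂ → (F.obj Y).IsGE n₁)
    (hG : ∀ n₁ : ℤ, ∃ n₂ : ℤ, ∀ Y : DerivedCategory A, Y.IsGE n₂ → (G.obj Y).IsGE n₁)
    (hη : ∀ X : A, P X → IsIso (η.app ((DerivedCategory.singleFunctor A 0).obj X)))
    (X : DerivedCategory A) (a : ℤ) [X.IsGE a]
    (hX : ∀ i : ℤ, P ((DerivedCategory.homologyFunctor A i).obj X)) :
    IsIso (η.app X) := by
  rw [DerivedCategory.isIso_iff]
  intro j
  obtain ⟨nF, hnF⟩ := hF (j + 1)
  obtain ⟨nG, hnG⟩ := hG (j + 1)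
  let m := max nF nG
  let t := DerivedCategory.TStructure.t (C := A)
  let T := (t.triangleLTGE m).obj X
  have hT : T ∈ distTriang _ := t.triangleLTGE_distinguished m X
  haveI h3 : T.obj₃.IsGE m := by dsimp [T]; infer_instance
  haveI h3F : T.obj₃.IsGE nF := DerivedCategory.TStructure.t.isGE_of_ge T.obj₃ nF m (le_max_left _ _)
  haveI h3G : T.obj₃.IsGE nG := DerivedCategory.TStructure.t.isGE_of_ge T.obj₃ nG m (le_max_right _ _)
  haveI hF3 : (F.obj T.obj₃).IsGE (j + 1) := hnF _ h3F
  haveI hG3 : (G.obj T.obj₃).IsGE (j + 1) := hnG _ h3G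
  have hFiso : IsIso ((DerivedCategory.homologyFunctor B j).map (F.map T.mor₁)) :=
    isIso_homologyMap_mor₁ (F.mapTriangle.obj T) (F.map_distinguished T hT) j
      (DerivedCategory.isZero_of_isGE (F.obj T.obj₃) (j + 1) (j - 1) (by omega))
      (DerivedCategory.isZero_of_isGE (F.obj T.obj₃) (j + 1) j (by omega))
  have hGiso : IsIso ((DerivedCategory.homologyFunctor B j).map (G.map T.mor₁)) :=
    isIso_homologyMap_mor₁ (G.mapTriangle.obj T) (G.map_distinguished T hT) j
      (DerivedCategory.isZero_of_isGE (G.obj T.obj₃) (j + 1) (j - 1) (by omega))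
      (DerivedCategory.isZero_of_isGE (G.obj T.obj₃) (j + 1) j (by omega))
  refine isIso_homologyMap_app_of_src η T.mor₁ j hFiso hGiso ?_
  -- η is an isomorphism on the bounded object `τ_{<m} X`
  haveI h1LE : T.obj₁.IsLE (m - 1) := by dsimp [T]; infer_instance
  have hPzero : ∀ Z : A, IsZero Z → P Z := fun Z hZ =>
    P.prop_of_iso ((DerivedCategory.isZero_of_isGE X a (a - 1) (by omega)).iso hZ) (hX (a - 1))
  have hH : ∀ i : ℤ, i < m → ((DerivedCategory.homologyFunctor A i).obj T.obj₁ ≅
      (DerivedCategory.homologyFunctor A i).obj X) := fun i hi =>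
    @asIso _ _ _ _ _ (SplitTrunc.isIso_homologyMap_truncLTι X m i hi)
  haveI h1GE : T.obj₁.IsGE a := by
    rw [DerivedCategory.isGE_iff]
    intro i hi
    by_cases him : i < m
    · exact (DerivedCategory.isZero_of_isGE X a i hi).of_iso (hH i him)
    · exact DerivedCategory.isZero_of_isLE T.obj₁ (m - 1) i (by omega)
  haveI : IsIso (η.app T.obj₁) := by
    refine isIso_app_of_bounded P η hη T.obj₁ a (m - 1) ?_
    intro i
    by_cases him : i < m
    · exact P.prop_of_iso (hH i him).symm (hX i)
    · exact hPzero _ (DerivedCategory.isZero_of_isLE T.obj₁ (m - 1) i (by omega))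
  infer_instance

end Groth.Agent.Lib.helper23.WayOut
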