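import Mathlib
import Groth.Agent.Lib.Helper23.WayOut2

/-!
# The lemma on way-out functors III: way-out in both directions (helper23)
-/

set_option autoImplicit false
universe w w' v v' u u'
open CategoryTheory CategoryTheory.Limits Pretriangulated

namespace Groth.Agent.Lib.helper23.WayOut

variable {A : Type u} [Category.{v} A] [Abelian A] [HasDerivedCategory.{w} A]
  {B : Type u'} [Category.{v'} B] [Abelian B] [HasDerivedCategory.{w'} B]
  {F G : DerivedCategory A ⥤ DerivedCategory B} (η : F ⟶ G)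
  (P : ObjectProperty A) [P.IsClosedUnderIsomorphisms]
  [F.CommShift ℤ] [G.CommShift ℤ] [F.IsTriangulated] [G.IsTriangulated] [NatTrans.CommShift η ℤ]

/-- The way-out lemma, way-out in both directions (S11151). -/
theorem isIso_app_of_wayOutBoth (hP : ∀ Z : A, IsZero Z → P Z)
    (hF : ∀ n₁ : ℤ, ∃ n₂ : ℤ, ∀ Y : DerivedCategory A, Y.IsGE n₂ → (F.obj Y).IsGE n₁)
    (hF' : ∀ n₁ : ℤ, ∃ n₂ : ℤ, ∀ Y : DerivedCategory A, Y.IsLE n₂ → (F.obj Y).IsLE n₁)
    (hG : ∀ n₁ : ℤ, ∃ n₂ : ℤ, ∀ Y : DerivedCategory A, Y.IsGE n₂ → (G.obj Y).IsGE n₁)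
    (hG' : ∀ n₁ : ℤ, ∃ n₂ : ℤ, ∀ Y : DerivedCategory A, Y.IsLE n₂ → (G.obj Y).IsLE n₁)
    (hη : ∀ X : A, P X → IsIso (η.app ((DerivedCategory.singleFunctor A 0).obj X)))
    (X : DerivedCategory A)
    (hX : ∀ i : ℤ, P ((DerivedCategory.homologyFunctor A i).obj X)) :
    IsIso (η.app X) := by
  rw [DerivedCategory.isIso_iff]
  intro j
  obtain ⟨nF, hnF⟩ := hF' (j - 1)
  obtain ⟨nG, hnG⟩ := hG' (j - 1)
  let m := min nF nG + 1
  let t := DerivedCategory.TStructure.t (C := A)
  let T := (t.triangleLTGE m).obj X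
  have hT : T ∈ distTriang _ := t.triangleLTGE_distinguished m X
  haveI h1 : T.obj₁.IsLE (m - 1) := by dsimp [T]; infer_instance
  haveI h1F : T.obj₁.IsLE nF :=
    DerivedCategory.TStructure.t.isLE_of_le T.obj₁ (m - 1) nF (by simp [m])
  haveI h1G : T.obj₁.IsLE nG :=
    DerivedCategory.TStructure.t.isLE_of_le T.obj₁ (m - 1) nG (by simp [m])
  haveI hF1 : (F.obj T.obj₁).IsLE (j - 1) := hnF _ h1F
  haveI hG1 : (G.obj T.obj₁).IsLE (j - 1) := hnG _ h1G
  have hFiso : IsIso ((DerivedCategory.homologyFunctor B j).map (F.map T.mor₂)) :=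
    isIso_homologyMap_mor₂ (F.mapTriangle.obj T) (F.map_distinguished T hT) j
      (DerivedCategory.isZero_of_isLE (F.obj T.obj₁) (j - 1) j (by omega))
      (DerivedCategory.isZero_of_isLE (F.obj T.obj₁) (j - 1) (j + 1) (by omega))
  have hGiso : IsIso ((DerivedCategory.homologyFunctor B j).map (G.map T.mor₂)) :=
    isIso_homologyMap_mor₂ (G.mapTriangle.obj T) (G.map_distinguished T hT) j
      (DerivedCategory.isZero_of_isLE (G.obj T.obj₁) (j - 1) j (by omega))
      (DerivedCategory.isZero_of_isLE (G.obj T.obj₁) (j - 1) (j + 1) (by omega))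
  refine isIso_homologyMap_app_of_tgt η T.mor₂ j hFiso hGiso ?_
  haveI h3GE : T.obj₃.IsGE m := by dsimp [T]; infer_instance
  have hH : ∀ i : ℤ, m ≤ i → ((DerivedCategory.homologyFunctor A i).obj X ≅
      (DerivedCategory.homologyFunctor A i).obj T.obj₃) := fun i hi =>
    @asIso _ _ _ _ _ (SplitTrunc.isIso_homologyMap_truncGEπ X m i hi)
  haveI : IsIso (η.app T.obj₃) := by
    refine isIso_app_of_isGE_of_wayOutRight η P hF hG hη T.obj₃ m ?_
    intro i
    by_cases him : m ≤ i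
    · exact P.prop_of_iso (hH i him) (hX i)
    · exact hP _ (DerivedCategory.isZero_of_isGE T.obj₃ m i (by omega))
  infer_instance

end Groth.Agent.Lib.helper23.WayOut
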