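import Mathlib
import Groth.Agent.Lib.Helper23.WayOut3

/-!
# The lemma on way-out functors IV: cogenerating class (helper23)
-/

set_option autoImplicit false
universe w w' v v' u u'
open CategoryTheory CategoryTheory.Limits Pretriangulated

namespace Groth.Agent.Lib.helper23.WayOut

section Four

variable {C : Type u} [Category.{v} C] [Abelian C]

/-- mono version of the four lemma. -/
lemma four_mono {A B C' D A' B' C'' D' : C} (a : A ⟶ B) (b : B ⟶ C') (c : C' ⟶ D)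
    (a' : A' ⟶ B') (b' : B' ⟶ C'') (c' : C'' ⟶ D')
    (α : A ⟶ A') (β : B ⟶ B') (γ : C' ⟶ C'') (δ : D ⟶ D')
    (h₁ : a ≫ β = α ≫ a') (h₂ : b ≫ γ = β ≫ b') (h₃ : c ≫ δ = γ ≫ c')
    (hbc : b ≫ c = 0) (exC : (ShortComplex.mk b c hbc).Exact)
    (hab' : a' ≫ b' = 0) (exB' : (ShortComplex.mk a' b' hab').Exact)
    (hab : a ≫ b = 0)
    (_ : Epi α) (_ : Mono β) (_ : Mono δ) : Mono γ := by
  apply Preadditive.mono_of_cancel_zero
  intro T x hx
  have hxc : x ≫ c = 0 := by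
    rw [← cancel_mono δ, Category.assoc, h₃, ← Category.assoc, hx, zero_comp, zero_comp]
  obtain ⟨T₁, π₁, hπ₁, y, hy⟩ := exC.exact_up_to_refinements x hxc
  dsimp at y hy
  have hyβ : (y ≫ β) ≫ b' = 0 := by
    rw [Category.assoc, ← h₂, ← Category.assoc, ← hy, Category.assoc, hx, comp_zero]
  obtain ⟨T₂, π₂, hπ₂, z', hz'⟩ := exB'.exact_up_to_refinements (y ≫ β) hyβ
  dsimp at z' hz'
  obtain ⟨T₃, π₃, hπ₃, z, hz⟩ := surjective_up_to_refinements_of_epi α z'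
  have hyz : π₃ ≫ π₂ ≫ y = z ≫ a := by
    rw [← cancel_mono β, Category.assoc, Category.assoc, hz', ← Category.assoc, hz,
      Category.assoc, Category.assoc, h₁]
  have : (π₃ ≫ π₂ ≫ π₁) ≫ x = 0 := by
    have h5 := congr($hyz ≫ b)
    simp only [Category.assoc] at h5
    simp only [Category.assoc, hy]
    rw [h5, hab, comp_zero]
  rw [← cancel_epi (π₃ ≫ π₂ ≫ π₁), this, comp_zero]

/-- epi version of the four lemma. -/
lemma four_epi {B C' D E B' C'' D' E' : C} (b : B ⟶ C') (c : C' ⟶ D) (d : D ⟶ E)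
    (b' : B' ⟶ C'') (c' : C'' ⟶ D') (d' : D' ⟶ E')
    (β : B ⟶ B') (γ : C' ⟶ C'') (δ : D ⟶ D') (ε : E ⟶ E')
    (h₁ : b ≫ γ = β ≫ b') (h₂ : c ≫ δ = γ ≫ c') (h₃ : d ≫ ε = δ ≫ d')
    (hcd : c ≫ d = 0) (exD : (ShortComplex.mk c d hcd).Exact)
    (hbc' : b' ≫ c' = 0) (exC' : (ShortComplex.mk b' c' hbc').Exact)
    (hcd' : c' ≫ d' = 0)
    (_ : Epi β) (_ : Epi δ) (_ : Mono ε) : Epi γ := by
  rw [epi_iff_surjective_up_to_refinements]
  intro T x'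
  obtain ⟨T₁, π₁, hπ₁, y, hy⟩ := surjective_up_to_refinements_of_epi δ (x' ≫ c')
  have hyd : y ≫ d = 0 := by
    rw [← cancel_mono ε, Category.assoc, h₃, ← Category.assoc, ← hy, Category.assoc,
      Category.assoc, hcd', comp_zero, comp_zero, zero_comp]
  obtain ⟨T₂, π₂, hπ₂, w, hw⟩ := exD.exact_up_to_refinements y hyd
  dsimp at w hw
  have hdiff : (π₂ ≫ π₁ ≫ x' - w ≫ γ) ≫ c' = 0 := by
    rw [Preadditive.sub_comp, Category.assoc, Category.assoc, hy, Category.assoc, ← h₂,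
      ← Category.assoc w, ← hw, Category.assoc, sub_self]
  obtain ⟨T₃, π₃, hπ₃, v', hv'⟩ := exC'.exact_up_to_refinements _ hdiff
  dsimp at v' hv'
  obtain ⟨T₄, π₄, hπ₄, v, hv⟩ := surjective_up_to_refinements_of_epi β v'
  refine ⟨T₄, π₄ ≫ π₃ ≫ π₂ ≫ π₁, inferInstance, π₄ ≫ π₃ ≫ w + v ≫ b, ?_⟩
  have h4 : π₄ ≫ π₃ ≫ (π₂ ≫ π₁ ≫ x' - w ≫ γ) = v ≫ β ≫ b' := by
    rw [hv', ← Category.assoc, hv, Category.assoc]
  rw [Preadditive.add_comp, Category.assoc v, h₁, ← h4]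
  simp only [Preadditive.comp_sub, Category.assoc]
  abel

end Four

variable {A : Type u} [Category.{v} A] [Abelian A] [HasDerivedCategory.{w} A]
  {B : Type u'} [Category.{v'} B] [Abelian B] [HasDerivedCategory.{w'} B]
  {F G : DerivedCategory A ⥤ DerivedCategory B} (η : F ⟶ G)
  [F.CommShift ℤ] [G.CommShift ℤ] [F.IsTriangulated] [G.IsTriangulated] [NatTrans.CommShift η ℤ]

omit [F.IsTriangulated] in
/-- a way-out right functor has a uniform lower bound on objects in degrees `≥ 0`. -/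
lemma exists_uniform_bound (F : DerivedCategory A ⥤ DerivedCategory B) [F.CommShift ℤ]
    (hF : ∀ n₁ : ℤ, ∃ n₂ : ℤ, ∀ Y : DerivedCategory A, Y.IsGE n₂ → (F.obj Y).IsGE n₁) :
    ∃ N : ℤ, ∀ Y : DerivedCategory A, Y.IsGE 0 → (F.obj Y).IsGE N := by
  obtain ⟨n₂, h⟩ := hF 0
  refine ⟨-n₂, fun Y hY => ?_⟩
  haveI : (Y⟦-n₂⟧).IsGE n₂ := DerivedCategory.TStructure.t.isGE_shift Y 0 (-n₂) n₂ (by omega)
  haveI h1 : (F.obj (Y⟦-n₂⟧)).IsGE 0 := h _ inferInstance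
  haveI h2 : ((F.obj Y)⟦-n₂⟧).IsGE 0 :=
    DerivedCategory.TStructure.t.isGE_of_iso (X := F.obj (Y⟦-n₂⟧)) (Y := (F.obj Y)⟦-n₂⟧)
      ((F.commShiftIso (-n₂)).app Y) 0
  haveI h3 : (((F.obj Y)⟦-n₂⟧)⟦n₂⟧).IsGE (-n₂) :=
    DerivedCategory.TStructure.t.isGE_shift _ 0 n₂ (-n₂) (by omega)
  exact DerivedCategory.TStructure.t.isGE_of_iso (X := ((F.obj Y)⟦-n₂⟧)⟦n₂⟧) (Y := F.obj Y)
    ((shiftEquiv (DerivedCategory B) n₂).counitIso.app (F.obj Y)) (-n₂)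

end Groth.Agent.Lib.helper23.WayOut
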