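import Mathlib
import Groth.Agent.Lib.Helper23.WayOut4

/-!
# The lemma on way-out functors V: cogenerating class, main induction (helper23)
-/

set_option autoImplicit false
universe w w' v v' u u'
open CategoryTheory CategoryTheory.Limits Pretriangulated

namespace Groth.Agent.Lib.helper23.WayOut

variable {A : Type u} [Category.{v} A] [Abelian A] [HasDerivedCategory.{w} A]
  {B : Type u'} [Category.{v'} B] [Abelian B] [HasDerivedCategory.{w'} B]
  {F G : DerivedCategory A ⥤ DerivedCategory B} (η : F ⟶ G)
  [F.CommShift ℤ] [G.CommShift ℤ] [F.IsTriangulated] [G.IsTriangulated] [NatTrans.CommShift η ℤ]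

local notation "H" => DerivedCategory.homologyFunctor B

omit [F.CommShift ℤ] [G.CommShift ℤ] [F.IsTriangulated] [G.IsTriangulated]
  [NatTrans.CommShift η ℤ] in
lemma homology_naturality {X Y : DerivedCategory A} (f : X ⟶ Y) (n : ℤ) :
    (H n).map (F.map f) ≫ (H n).map (η.app Y) = (H n).map (η.app X) ≫ (H n).map (G.map f) := by
  rw [← Functor.map_comp, ← Functor.map_comp, η.naturality]

lemma δ_naturality (T : Triangle (DerivedCategory A)) (n₀ n₁ : ℤ) (h : n₀ + 1 = n₁) :
    DerivedCategory.HomologySequence.δ (F.mapTriangle.obj T) n₀ n₁ h ≫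
        (H n₁).map (η.app T.obj₁) =
      (H n₀).map (η.app T.obj₃) ≫
        DerivedCategory.HomologySequence.δ (G.mapTriangle.obj T) n₀ n₁ h :=
  ((DerivedCategory.homologyFunctor B 0).homologySequenceδ_naturality _ _
    (mapTriangleHom η T) n₀ n₁ h).symm

lemma mono_step (T : Triangle (DerivedCategory A)) (hT : T ∈ distTriang _) (j : ℤ)
    (hα : Epi ((H (j - 1)).map (η.app T.obj₂))) (hβ : Mono ((H (j - 1)).map (η.app T.obj₃)))
    (hδ : Mono ((H j).map (η.app T.obj₂))) : Mono ((H j).map (η.app T.obj₁)) := by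
  have hTF := F.map_distinguished T hT
  have hTG := G.map_distinguished T hT
  exact four_mono
    ((H (j - 1)).map (F.map T.mor₂))
    (DerivedCategory.HomologySequence.δ (F.mapTriangle.obj T) (j - 1) j (by omega))
    ((H j).map (F.map T.mor₁))
    ((H (j - 1)).map (G.map T.mor₂))
    (DerivedCategory.HomologySequence.δ (G.mapTriangle.obj T) (j - 1) j (by omega))
    ((H j).map (G.map T.mor₁))
    ((H (j - 1)).map (η.app T.obj₂)) ((H (j - 1)).map (η.app T.obj₃))
    ((H j).map (η.app T.obj₁)) ((H j).map (η.app T.obj₂))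
    (homology_naturality η T.mor₂ (j - 1))
    (δ_naturality η T (j - 1) j (by omega))
    (homology_naturality η T.mor₁ j)
    (DerivedCategory.HomologySequence.δ_comp _ hTF (j - 1) j (by omega))
    (DerivedCategory.HomologySequence.exact₁ _ hTF (j - 1) j (by omega))
    (DerivedCategory.HomologySequence.comp_δ _ hTG (j - 1) j (by omega))
    (DerivedCategory.HomologySequence.exact₃ _ hTG (j - 1) j (by omega))
    (DerivedCategory.HomologySequence.comp_δ _ hTF (j - 1) j (by omega))
    hα hβ hδ

lemma epi_step (T : Triangle (DerivedCategory A)) (hT : T ∈ distTriang _) (j : ℤ)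
    (hβ : Epi ((H (j - 1)).map (η.app T.obj₃))) (hδ : Epi ((H j).map (η.app T.obj₂)))
    (hε : Mono ((H j).map (η.app T.obj₃))) : Epi ((H j).map (η.app T.obj₁)) := by
  have hTF := F.map_distinguished T hT
  have hTG := G.map_distinguished T hT
  have e1 := DerivedCategory.HomologySequence.exact₂ _ hTF j
  have z1 : (H j).map (F.map T.mor₁) ≫ (H j).map (F.map T.mor₂) = 0 := by
    rw [← Functor.map_comp, ← Functor.map_comp, comp_distTriang_mor_zero₁₂ _ hT, F.map_zero,
      Functor.map_zero]
  have z2 : (H j).map (G.map T.mor₁) ≫ (H j).map (G.map T.mor₂) = 0 := by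
    rw [← Functor.map_comp, ← Functor.map_comp, comp_distTriang_mor_zero₁₂ _ hT, G.map_zero,
      Functor.map_zero]
  exact four_epi
    (DerivedCategory.HomologySequence.δ (F.mapTriangle.obj T) (j - 1) j (by omega))
    ((H j).map (F.map T.mor₁)) ((H j).map (F.map T.mor₂))
    (DerivedCategory.HomologySequence.δ (G.mapTriangle.obj T) (j - 1) j (by omega))
    ((H j).map (G.map T.mor₁)) ((H j).map (G.map T.mor₂))
    ((H (j - 1)).map (η.app T.obj₃)) ((H j).map (η.app T.obj₁))
    ((H j).map (η.app T.obj₂)) ((H j).map (η.app T.obj₃))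
    (δ_naturality η T (j - 1) j (by omega))
    (homology_naturality η T.mor₁ j)
    (homology_naturality η T.mor₂ j)
    z1 e1
    (DerivedCategory.HomologySequence.δ_comp _ hTG (j - 1) j (by omega))
    (DerivedCategory.HomologySequence.exact₁ _ hTG (j - 1) j (by omega))
    z2 hβ hδ hε

end Groth.Agent.Lib.helper23.WayOut
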