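import Mathlib
import Groth.Agent.Lib.Helper23.WayOut5

/-!
# The lemma on way-out functors VI: cogenerating class, main theorem (helper23)
-/

set_option autoImplicit false
universe w w' v v' u u'
open CategoryTheory CategoryTheory.Limits Pretriangulated

namespace Groth.Agent.Lib.helper23.WayOut

variable {A : Type u} [Category.{v} A] [Abelian A] [HasDerivedCategory.{w} A]
  {B : Type u'} [Category.{v'} B] [Abelian B] [HasDerivedCategory.{w'} B]
  {F G : DerivedCategory A ⥤ DerivedCategory B} (η : F ⟶ G)
  [F.CommShift ℤ] [G.CommShift ℤ] [F.IsTriangulated] [G.IsTriangulated] [NatTrans.CommShift η ℤ]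

local notation "H" => DerivedCategory.homologyFunctor B

/-- The way-out lemma, cogenerating class (S11152). -/
theorem isIso_app_single_of_cogenerating
    (P : ObjectProperty A) (hP : ∀ X : A, ∃ (Y : A) (i : X ⟶ Y), P Y ∧ Mono i)
    (hF : ∀ n₁ : ℤ, ∃ n₂ : ℤ, ∀ Y : DerivedCategory A, Y.IsGE n₂ → (F.obj Y).IsGE n₁)
    (hG : ∀ n₁ : ℤ, ∃ n₂ : ℤ, ∀ Y : DerivedCategory A, Y.IsGE n₂ → (G.obj Y).IsGE n₁)
    (hη : ∀ X : A, P X → IsIso (η.app ((DerivedCategory.singleFunctor A 0).obj X)))
    (X : A) :
    IsIso (η.app ((DerivedCategory.singleFunctor A 0).obj X)) := by
  obtain ⟨NF, hNF⟩ := exists_uniform_bound F hF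
  obtain ⟨NG, hNG⟩ := exists_uniform_bound G hG
  let N := min NF NG
  have hFN : ∀ X : A, (F.obj ((DerivedCategory.singleFunctor A 0).obj X)).IsGE N := fun X => by
    haveI := hNF ((DerivedCategory.singleFunctor A 0).obj X) inferInstance
    exact DerivedCategory.TStructure.t.isGE_of_ge _ N NF (min_le_left _ _)
  have hGN : ∀ X : A, (G.obj ((DerivedCategory.singleFunctor A 0).obj X)).IsGE N := fun X => by
    haveI := hNG ((DerivedCategory.singleFunctor A 0).obj X) inferInstance
    exact DerivedCategory.TStructure.t.isGE_of_ge _ N NG (min_le_right _ _)
  have key : ∀ (k : ℕ) (X : A) (j : ℤ), j < N + k → IsIso ((H j).map (η.app ((DerivedCategory.singleFunctor A 0).obj X))) := by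
    intro k
    induction k with
    | zero =>
      intro X j hj
      haveI := hFN X
      haveI := hGN X
      have h1 : IsZero ((H j).obj (F.obj ((DerivedCategory.singleFunctor A 0).obj X))) :=
        DerivedCategory.isZero_of_isGE _ N j (by simpa using hj)
      have h2 : IsZero ((H j).obj (G.obj ((DerivedCategory.singleFunctor A 0).obj X))) :=
        DerivedCategory.isZero_of_isGE _ N j (by simpa using hj)
      exact ⟨0, h1.eq_of_src _ _, h2.eq_of_src _ _⟩
    | succ k ih =>
      intro X j hj
      by_cases hjk : j < N + k
      · exact ih X j hjk
      · have hj' : j - 1 < N + k := by push_cast at hj; omega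
        have hmono : ∀ X : A, Mono ((H j).map (η.app ((DerivedCategory.singleFunctor A 0).obj X))) := by
          intro X
          obtain ⟨I, i, hI, hi⟩ := hP X
          have hS : (ShortComplex.mk i (cokernel.π i) (cokernel.condition i)).ShortExact :=
            { exact := ShortComplex.exact_cokernel i
              mono_f := hi
              epi_g := by dsimp; infer_instance }
          haveI := hη I hI
          haveI := ih I (j - 1) hj'
          haveI := ih (cokernel i) (j - 1) hj'
          exact mono_step η hS.singleTriangle hS.singleTriangle_distinguished j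
            (show Epi ((H (j - 1)).map (η.app ((DerivedCategory.singleFunctor A 0).obj I)))
              from inferInstance)
            (show Mono ((H (j - 1)).map (η.app
              ((DerivedCategory.singleFunctor A 0).obj (cokernel i)))) from inferInstance)
            (show Mono ((H j).map (η.app ((DerivedCategory.singleFunctor A 0).obj I)))
              from inferInstance)
        have hepi : ∀ X : A, Epi ((H j).map (η.app ((DerivedCategory.singleFunctor A 0).obj X))) := by
          intro X
          obtain ⟨I, i, hI, hi⟩ := hP X
          have hS : (ShortComplex.mk i (cokernel.π i) (cokernel.condition i)).ShortExact :=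
            { exact := ShortComplex.exact_cokernel i
              mono_f := hi
              epi_g := by dsimp; infer_instance }
          haveI := hη I hI
          haveI := ih (cokernel i) (j - 1) hj'
          exact epi_step η hS.singleTriangle hS.singleTriangle_distinguished j
            (show Epi ((H (j - 1)).map (η.app
              ((DerivedCategory.singleFunctor A 0).obj (cokernel i)))) from inferInstance)
            (show Epi ((H j).map (η.app ((DerivedCategory.singleFunctor A 0).obj I)))
              from inferInstance)
            (hmono (cokernel i))
        haveI := hmono X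
        haveI := hepi X
        exact isIso_of_mono_of_epi _
  rw [DerivedCategory.isIso_iff]
  intro j
  by_cases hj : j < N
  · exact key 0 X j (by simpa using hj)
  · exact key (j - N + 1).toNat X j (by
      have : ((j - N + 1).toNat : ℤ) = j - N + 1 := Int.toNat_of_nonneg (by omega)
      omega)

end Groth.Agent.Lib.helper23.WayOut
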